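import Mathlib

/-!
Helper lemmas (helper12): Sylow conjugacy in elementwise / relIndex form, conjugation of subgroups.
-/

set_option autoImplicit false

open Subgroup
open scoped Pointwise

namespace Cfsg.Agent.Lib.Helper12

/-- Sylow conjugacy inside a subgroup `H`, in the `relIndex` encoding: if `T ≤ H` is a `p`-subgroup with
`p ∤ |H : T|` and `Q ≤ H` is a `p`-subgroup then some `h ∈ H` conjugates `Q` into `T`. -/
theorem exists_conj_mem_of_relIndex {G : Type*} [Group G] [Finite G] {p : ℕ} [Fact p.Prime]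
    (T H Q : Subgroup G) (hT : IsPGroup p T) (hidx : ¬ p ∣ T.relIndex H) (hQH : Q ≤ H)
    (hQ : IsPGroup p Q) :
    ∃ h ∈ H, ∀ q ∈ Q, h * q * h⁻¹ ∈ T := by
  have hT' : IsPGroup p (T.subgroupOf H) := hT.comap_subtype
  let P : Sylow p H := hT'.toSylow hidx
  have hQ' : IsPGroup p (Q.subgroupOf H) := hQ.comap_subtype
  obtain ⟨R, hR⟩ := hQ'.exists_le_sylow
  obtain ⟨h, hh⟩ := MulAction.exists_smul_eq H R P
  refine ⟨h, h.2, fun q hq => ?_⟩
  have hqR : (⟨q, hQH hq⟩ : H) ∈ R := hR (by simpa [mem_subgroupOf] using hq)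
  have h2 : h * (⟨q, hQH hq⟩ : H) * h⁻¹ ∈ ((h • R : Sylow p H) : Subgroup H) := by
    rw [Sylow.coe_subgroup_smul]
    exact Subgroup.smul_mem_pointwise_smul _ (MulAut.conj h) _ hqR
  rw [hh] at h2
  have h3 : h * (⟨q, hQH hq⟩ : H) * h⁻¹ ∈ T.subgroupOf H := h2
  simpa [mem_subgroupOf] using h3

/-- A Sylow `p`-subgroup `P` of `G` contained in `H` has `p ∤ |H : P|`. -/
theorem sylow_not_dvd_relIndex {G : Type*} [Group G] [Finite G] {p : ℕ} [Fact p.Prime]
    (P : Sylow p G) (H : Subgroup G) (hPH : (P : Subgroup G) ≤ H) :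
    ¬ p ∣ (P : Subgroup G).relIndex H := by
  intro hdvd
  have h1 : (P : Subgroup G).relIndex H ∣ (P : Subgroup G).index :=
    Subgroup.relIndex_dvd_index_of_le hPH
  exact P.not_dvd_index (dvd_trans hdvd h1)

/-- Sylow conjugacy inside a subgroup `H` containing the Sylow `p`-subgroup `P` of `G`. -/
theorem exists_conj_mem_sylow {G : Type*} [Group G] [Finite G] {p : ℕ} [Fact p.Prime]
    (P : Sylow p G) (H Q : Subgroup G) (hPH : (P : Subgroup G) ≤ H) (hQH : Q ≤ H)
    (hQ : IsPGroup p Q) :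
    ∃ h ∈ H, ∀ q ∈ Q, h * q * h⁻¹ ∈ (P : Subgroup G) :=
  exists_conj_mem_of_relIndex (P : Subgroup G) H Q P.2 (sylow_not_dvd_relIndex P H hPH) hQH hQ

/-- Membership in a conjugate subgroup written with `map (MulAut.conj g)`. -/
theorem mem_map_conj_iff {G : Type*} [Group G] (H : Subgroup G) (g x : G) :
    x ∈ H.map (MulAut.conj g).toMonoidHom ↔ g⁻¹ * x * g ∈ H := by
  constructor
  · rintro ⟨y, hy, rfl⟩
    simpa [MulAut.conj_apply, mul_assoc] using hy
  · intro h
    refine ⟨g⁻¹ * x * g, h, ?_⟩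
    simp [MulAut.conj_apply, mul_assoc]

theorem conj_mem_map_conj {G : Type*} [Group G] (H : Subgroup G) (g x : G) (hx : x ∈ H) :
    g * x * g⁻¹ ∈ H.map (MulAut.conj g).toMonoidHom :=
  ⟨x, hx, by simp [MulAut.conj_apply]⟩

/-- A nontrivial normal subgroup of a finite `p`-group meets the centre nontrivially. -/
theorem exists_ne_one_mem_center_of_normal {P : Type*} [Group P] [Finite P] {p : ℕ} [Fact p.Prime]
    (hP : IsPGroup p P) (N : Subgroup P) [N.Normal] (hN : N ≠ ⊥) :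
    ∃ x ∈ N, x ≠ 1 ∧ x ∈ Subgroup.center P := by
  have hCA : IsPGroup p (ConjAct P) := hP.of_equiv ConjAct.toConjAct
  have hNp : IsPGroup p N := hP.to_subgroup N
  have hNnt : Nontrivial N := (Subgroup.nontrivial_iff_ne_bot N).mpr hN
  have dvd : p ∣ Nat.card N := by
    obtain ⟨n, hn0, hn⟩ := hNp.nontrivial_iff_card.mp hNnt
    exact hn.symm ▸ dvd_pow_self _ (ne_of_gt hn0)
  have h1 : (1 : N) ∈ MulAction.fixedPoints (ConjAct P) N := by
    intro g
    ext
    simp
  obtain ⟨b, hb, hb1⟩ := hCA.exists_fixed_point_of_prime_dvd_card_of_fixed_point N dvd h1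
  refine ⟨b.1, b.2, ?_, ?_⟩
  · intro h; apply hb1; ext; simp [h]
  · rw [Subgroup.mem_center_iff]
    intro g
    have := hb (ConjAct.toConjAct g)
    have h2 := congrArg Subtype.val this
    simp only [ConjAct.Subgroup.val_conj_smul, ConjAct.smul_def, ConjAct.ofConjAct_toConjAct] at h2
    calc g * b.1 = g * b.1 * g⁻¹ * g := by group
      _ = b.1 * g := by rw [h2]

end Cfsg.Agent.Lib.Helper12
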