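import Mathlib
import Cfsg.Prelude.Def_Local
import Cfsg.Prelude.Def_OddOrderLocal
import Cfsg.Agent.Lib.Helper12.Basic

/-!
Helper lemmas (helper12): the cores `O_π`, `O_{p'}`, `O_p` of the Prelude are members of their defining
families (finite groups), are characteristic, and absorb normal subgroups of the right kind.
-/

set_option autoImplicit false

open Subgroup

namespace Cfsg.Agent.Lib.Helper12

/-- In a finite group, the join of a nonempty family of subgroups closed under binary joins belongs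
to the family. -/
theorem sSup_mem_of_sup_closed {X : Type*} [Group X] [Finite X] (S : Set (Subgroup X))
    (hne : S.Nonempty) (hsup : ∀ A ∈ S, ∀ B ∈ S, A ⊔ B ∈ S) : sSup S ∈ S := by
  obtain ⟨M, hM, hmax⟩ := (Set.toFinite S).exists_maximal hne
  have : sSup S = M := by
    apply le_antisymm
    · apply sSup_le
      intro N hN
      have h1 : M ⊔ N ∈ S := hsup M hM N hN
      have h2 : M ⊔ N ≤ M := hmax h1 le_sup_left
      exact le_trans le_sup_right h2
    · exact le_sSup hM
  rw [this]; exact hM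

/-- The order of `H ⊔ K` for `K` normal. -/
theorem card_sup_eq_of_normal {X : Type*} [Group X] (H K : Subgroup X) [K.Normal] :
    Nat.card ↥(H ⊔ K) = Nat.card ↥K * K.relIndex H := by
  have h := Subgroup.relIndex_mul_relIndex ⊥ K (H ⊔ K) bot_le le_sup_right
  rw [Subgroup.relIndex_bot_left, Subgroup.relIndex_bot_left, Subgroup.relIndex_sup_right] at h
  exact h.symm

theorem card_sup_dvd_of_normal {X : Type*} [Group X] (H K : Subgroup X) [K.Normal] :
    Nat.card ↥(H ⊔ K) ∣ Nat.card ↥H * Nat.card ↥K := by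
  rw [card_sup_eq_of_normal, mul_comm]
  exact Nat.mul_dvd_mul (Subgroup.relIndex_dvd_card K H) dvd_rfl

/-- Image of a join of a family under an isomorphism carrying the family onto another one. -/
theorem map_sSup_equiv {G G' : Type*} [Group G] [Group G'] (φ : G ≃* G') (S : Set (Subgroup G))
    (S' : Set (Subgroup G')) (h1 : ∀ A ∈ S, A.map φ.toMonoidHom ∈ S')
    (h2 : ∀ B ∈ S', B.map φ.symm.toMonoidHom ∈ S) :
    (sSup S).map φ.toMonoidHom = sSup S' := by
  apply le_antisymm
  · rw [Subgroup.map_le_iff_le_comap]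
    apply sSup_le
    intro A hA
    rw [← Subgroup.map_le_iff_le_comap]
    exact le_sSup (h1 A hA)
  · apply sSup_le
    intro B hB
    have hB' := h2 B hB
    have : B = (B.map φ.symm.toMonoidHom).map φ.toMonoidHom := by
      ext x
      constructor
      · intro hx
        exact ⟨φ.symm x, ⟨x, hx, rfl⟩, by simp⟩
      · rintro ⟨y, ⟨z, hz, rfl⟩, rfl⟩
        simpa using hz
    rw [this]
    exact Subgroup.map_mono (le_sSup hB')

/-! ### `O_π` -/

theorem piCore_mem {X : Type*} [Group X] [Finite X] (π : Set ℕ) :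
    ∀ p : ℕ, p.Prime → p ∣ Nat.card ↥(Cfsg.piCore π X) → p ∈ π := by
  have h := sSup_mem_of_sup_closed
    {N : Subgroup X | N.Normal ∧ ∀ p : ℕ, p.Prime → p ∣ Nat.card N → p ∈ π}
    ⟨⊥, inferInstance, fun p hp hdvd => by
      rw [Subgroup.card_bot] at hdvd
      exact absurd (Nat.dvd_one.mp hdvd) hp.ne_one⟩
    (by
      rintro A ⟨hAn, hA⟩ B ⟨hBn, hB⟩
      refine ⟨inferInstance, fun p hp hdvd => ?_⟩
      have h1 := dvd_trans hdvd (card_sup_dvd_of_normal A B)
      rcases (Nat.Prime.dvd_mul hp).mp h1 with h | h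
      · exact hA p hp h
      · exact hB p hp h)
  exact h.2

theorem le_piCore {X : Type*} [Group X] (π : Set ℕ) (N : Subgroup X) (hN : N.Normal)
    (h : ∀ p : ℕ, p.Prime → p ∣ Nat.card N → p ∈ π) : N ≤ Cfsg.piCore π X :=
  le_sSup ⟨hN, h⟩

theorem piCore_map_equiv {G G' : Type*} [Group G] [Group G'] (π : Set ℕ) (φ : G ≃* G') :
    (Cfsg.piCore π G).map φ.toMonoidHom = Cfsg.piCore π G' := by
  unfold Cfsg.piCore
  apply map_sSup_equiv
  · rintro A ⟨hAn, hA⟩
    refine ⟨Subgroup.Normal.map hAn _ φ.surjective, fun p hp hdvd => hA p hp ?_⟩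
    rwa [Subgroup.card_map_of_injective φ.injective] at hdvd
  · rintro A ⟨hAn, hA⟩
    refine ⟨Subgroup.Normal.map hAn _ φ.symm.surjective, fun p hp hdvd => hA p hp ?_⟩
    rwa [Subgroup.card_map_of_injective φ.symm.injective] at hdvd

theorem piCore_characteristic {G : Type*} [Group G] (π : Set ℕ) : (Cfsg.piCore π G).Characteristic :=
  Subgroup.characteristic_iff_map_eq.mpr (fun φ => piCore_map_equiv π φ)

/-! ### `O_{p'}` -/

theorem pPrimeCore_coprime {X : Type*} [Group X] [Finite X] (p : ℕ) :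
    (Nat.card ↥(Cfsg.pPrimeCore p X)).Coprime p := by
  have h := sSup_mem_of_sup_closed
    {N : Subgroup X | N.Normal ∧ (Nat.card N).Coprime p}
    ⟨⊥, inferInstance, by rw [Subgroup.card_bot]; exact Nat.coprime_one_left p⟩
    (by
      rintro A ⟨hAn, hA⟩ B ⟨hBn, hB⟩
      refine ⟨inferInstance, ?_⟩
      exact Nat.Coprime.coprime_dvd_left (card_sup_dvd_of_normal A B) (Nat.Coprime.mul_left hA hB))
  exact h.2

theorem le_pPrimeCore {X : Type*} [Group X] (p : ℕ) (N : Subgroup X) (hN : N.Normal)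
    (h : (Nat.card N).Coprime p) : N ≤ Cfsg.pPrimeCore p X :=
  le_sSup ⟨hN, h⟩

theorem pPrimeCore_map_equiv {G G' : Type*} [Group G] [Group G'] (p : ℕ) (φ : G ≃* G') :
    (Cfsg.pPrimeCore p G).map φ.toMonoidHom = Cfsg.pPrimeCore p G' := by
  unfold Cfsg.pPrimeCore
  apply map_sSup_equiv
  · rintro A ⟨hAn, hA⟩
    refine ⟨Subgroup.Normal.map hAn _ φ.surjective, ?_⟩
    rwa [Subgroup.card_map_of_injective φ.injective]
  · rintro A ⟨hAn, hA⟩
    refine ⟨Subgroup.Normal.map hAn _ φ.symm.surjective, ?_⟩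
    rwa [Subgroup.card_map_of_injective φ.symm.injective]

theorem pPrimeCore_characteristic {G : Type*} [Group G] (p : ℕ) :
    (Cfsg.pPrimeCore p G).Characteristic :=
  Subgroup.characteristic_iff_map_eq.mpr (fun φ => pPrimeCore_map_equiv p φ)

/-! ### `O_p` -/

theorem pCore_isPGroup' {X : Type*} [Group X] (p : ℕ) [Fact p.Prime] : IsPGroup p ↥(Cfsg.pCore p X) :=
  Sylow.sSup_of_normal _ (fun _ h => h.2) (fun _ h => h.1)

theorem le_pCore' {X : Type*} [Group X] (p : ℕ) (N : Subgroup X) (hN : N.Normal)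
    (h : IsPGroup p N) : N ≤ Cfsg.pCore p X :=
  le_sSup ⟨hN, h⟩

theorem pCore_map_equiv' {G G' : Type*} [Group G] [Group G'] (p : ℕ) (φ : G ≃* G') :
    (Cfsg.pCore p G).map φ.toMonoidHom = Cfsg.pCore p G' := by
  unfold Cfsg.pCore
  apply map_sSup_equiv
  · rintro A ⟨hAn, hA⟩
    exact ⟨Subgroup.Normal.map hAn _ φ.surjective, hA.map _⟩
  · rintro A ⟨hAn, hA⟩
    exact ⟨Subgroup.Normal.map hAn _ φ.symm.surjective, hA.map _⟩

theorem pCore_characteristic' {G : Type*} [Group G] (p : ℕ) : (Cfsg.pCore p G).Characteristic :=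
  Subgroup.characteristic_iff_map_eq.mpr (fun φ => pCore_map_equiv' p φ)

/-! ### more on `O_π`: quotients, subnormal subgroups -/

/-- A prime divisor of the order of a join of normal subgroups divides the order of one of them. -/
theorem exists_mem_dvd_card_of_dvd_card_sSup {X : Type*} [Group X] [Finite X] (S : Set (Subgroup X))
    (hS : ∀ N ∈ S, N.Normal) (q : ℕ) (hq : q.Prime) (h : q ∣ Nat.card ↥(sSup S)) :
    ∃ N ∈ S, q ∣ Nat.card ↥N := by
  let T : Set (Subgroup X) := {M | M.Normal ∧ (q ∣ Nat.card ↥M → ∃ N ∈ S, q ∣ Nat.card ↥N)}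
  have hT : sSup T ∈ T := by
    apply sSup_mem_of_sup_closed
    · refine ⟨⊥, inferInstance, fun hdvd => ?_⟩
      rw [Subgroup.card_bot] at hdvd
      exact absurd (Nat.dvd_one.mp hdvd) hq.ne_one
    · rintro A ⟨hAn, hA⟩ B ⟨hBn, hB⟩
      refine ⟨inferInstance, fun hdvd => ?_⟩
      have h1 := dvd_trans hdvd (card_sup_dvd_of_normal A B)
      rcases (Nat.Prime.dvd_mul hq).mp h1 with h | h
      · exact hA h
      · exact hB h
  have hle : sSup S ≤ sSup T := sSup_le_sSup (fun N hN => ⟨hS N hN, fun hd => ⟨N, hN, hd⟩⟩)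
  exact hT.2 (dvd_trans h (Subgroup.card_dvd_of_le hle))

/-- Order of the full preimage of a subgroup of a quotient. -/
theorem card_comap_mk' {X : Type*} [Group X] (N : Subgroup X) [N.Normal] (H : Subgroup (X ⧸ N)) :
    Nat.card ↥(H.comap (QuotientGroup.mk' N)) = Nat.card ↥N * Nat.card ↥H := by
  have hle : N ≤ H.comap (QuotientGroup.mk' N) := by
    intro x hx
    rw [Subgroup.mem_comap]
    have : QuotientGroup.mk' N x = 1 := (QuotientGroup.eq_one_iff x).mpr hx
    rw [this]; exact H.one_mem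
  have h := Subgroup.relIndex_mul_relIndex ⊥ N (H.comap (QuotientGroup.mk' N)) bot_le hle
  rw [Subgroup.relIndex_bot_left, Subgroup.relIndex_bot_left] at h
  rw [← h]
  congr 1
  have h2 : (⊥ : Subgroup (X ⧸ N)).comap (QuotientGroup.mk' N) = N := by
    have := QuotientGroup.ker_mk' N
    rwa [MonoidHom.ker] at this
  have h3 : N.relIndex (H.comap (QuotientGroup.mk' N)) =
      ((⊥ : Subgroup (X ⧸ N)).comap (QuotientGroup.mk' N)).relIndex (H.comap (QuotientGroup.mk' N)) := by
    rw [h2]
  rw [h3, Subgroup.relIndex_comap, Subgroup.relIndex_bot_left,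
    Subgroup.map_comap_eq_self_of_surjective (QuotientGroup.mk'_surjective N)]

theorem piCore_quotient_eq_bot {X : Type*} [Group X] [Finite X] (π : Set ℕ) :
    Cfsg.piCore π (X ⧸ Cfsg.piCore π X) = ⊥ := by
  set O := Cfsg.piCore π X with hO
  set Nb := Cfsg.piCore π (X ⧸ O) with hNb
  have hN : Nb.comap (QuotientGroup.mk' O) ≤ O := by
    apply le_piCore
    · infer_instance
    · intro p hp hdvd
      rw [card_comap_mk'] at hdvd
      rcases (Nat.Prime.dvd_mul hp).mp hdvd with h | h
      · exact piCore_mem π p hp h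
      · exact piCore_mem π p hp h
  rw [eq_bot_iff]
  intro x hx
  obtain ⟨y, rfl⟩ := QuotientGroup.mk'_surjective O x
  have : y ∈ O := hN hx
  rw [Subgroup.mem_bot]
  exact (QuotientGroup.eq_one_iff y).mpr this

theorem piCore_top_equiv {X : Type*} [Group X] (π : Set ℕ) :
    (Cfsg.piCore π (⊤ : Subgroup X)).map (⊤ : Subgroup X).subtype = Cfsg.piCore π X := by
  have := piCore_map_equiv π (Subgroup.topEquiv (G := X))
  rw [← this]
  rfl

/-- For `K` subnormal in a finite group, `O_π(K) ≤ O_π(X)`. -/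
theorem subnormal_piCore_le {X : Type*} [Group X] [Finite X] (π : Set ℕ) (K : Subgroup X)
    (hK : K.IsSubnormal) : (Cfsg.piCore π K).map K.subtype ≤ Cfsg.piCore π X := by
  induction hK with
  | top => rw [piCore_top_equiv]
  | step H K hle hK hN ih =>
    -- H' = H.subgroupOf K normal in K
    have hchar : (Cfsg.piCore π (H.subgroupOf K)).Characteristic := piCore_characteristic π
    have hnorm : ((Cfsg.piCore π (H.subgroupOf K)).map (H.subgroupOf K).subtype).Normal :=
      ConjAct.normal_of_characteristic_of_normal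
    have h1 : (Cfsg.piCore π (H.subgroupOf K)).map (H.subgroupOf K).subtype ≤ Cfsg.piCore π K := by
      apply le_piCore π _ hnorm
      intro p hp hdvd
      rw [Subgroup.card_map_of_injective (Subgroup.subtype_injective _)] at hdvd
      exact piCore_mem π p hp hdvd
    have h2 := le_trans (Subgroup.map_mono (f := K.subtype) h1) ih
    refine le_trans ?_ h2
    -- (piCore π H).map H.subtype ≤ ((piCore π H').map H'.subtype).map K.subtype
    have e := piCore_map_equiv π (Subgroup.subgroupOfEquivOfLe hle)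
    rw [← e]
    intro x hx
    obtain ⟨y, ⟨z, hz, rfl⟩, rfl⟩ := hx
    exact ⟨(H.subgroupOf K).subtype z, ⟨z, hz, rfl⟩, rfl⟩

/-- A subnormal `π`-subgroup of a finite group lies in `O_π`. -/
theorem subnormal_le_piCore {X : Type*} [Group X] [Finite X] (π : Set ℕ) (H : Subgroup X)
    (hH : H.IsSubnormal) (hπ : ∀ p : ℕ, p.Prime → p ∣ Nat.card ↥H → p ∈ π) :
    H ≤ Cfsg.piCore π X := by
  refine le_trans ?_ (subnormal_piCore_le π H hH)
  have htop : (⊤ : Subgroup H) ≤ Cfsg.piCore π H := by
    apply le_piCore π _ inferInstance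
    intro p hp hdvd
    rw [Subgroup.card_top] at hdvd
    exact hπ p hp hdvd
  intro x hx
  exact ⟨⟨x, hx⟩, htop (Subgroup.mem_top _), rfl⟩

end Cfsg.Agent.Lib.Helper12
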