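import Mathlib
import Cfsg.Prelude.Def_Local
import Cfsg.Agent.Lib.Helper12.Cores
import Cfsg.Agent.Lib.Helper24.PSolvable

/-!
Helper lemmas (helper12): Hall–Higman Lemma 1.2.3 for `Cfsg.IsPSolvable`: in a finite `p`-solvable group with
`O_{p'} = 1`, `C_G(O_p(G)) ≤ O_p(G)`.  Also: normal `p`- or `p'`-subgroups inside a given normal subgroup, and a
coprime-action computation.
-/

set_option autoImplicit false
namespace Cfsg.Agent.Lib.Helper12

section HH

/-- if `c` commutes with `r` and `r x r⁻¹ = c x` then `r^k x r^-k = c^k x` -/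
theorem pow_conj_eq_pow_mul {G : Type*} [Group G] (r x c : G) (hc : r * c = c * r)
    (h : r * x * r⁻¹ = c * x) (k : ℕ) : r ^ k * x * (r ^ k)⁻¹ = c ^ k * x := by
  induction k with
  | zero => simp
  | succ k ih =>
    have h1 : r ^ (k + 1) * x * (r ^ (k + 1))⁻¹ = r * (r ^ k * x * (r ^ k)⁻¹) * r⁻¹ := by
      rw [pow_succ']; group
    have h2 : r * c ^ k = c ^ k * r := (Commute.pow_right (show Commute r c from hc) k)
    rw [h1, ih]
    calc r * (c ^ k * x) * r⁻¹ = (r * c ^ k) * x * r⁻¹ := by group
      _ = c ^ k * (r * x * r⁻¹) := by rw [h2]; group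
      _ = c ^ (k + 1) * x := by rw [h, pow_succ]; group

/-- an element whose order divides both a power of `p` and a number prime to `p` is trivial -/
theorem eq_one_of_pow_eq_one_of_coprime {G : Type*} [Group G] {p : ℕ} (c : G) (k m : ℕ)
    (h1 : c ^ (p ^ k) = 1) (h2 : c ^ m = 1) (hm : m.Coprime p) : c = 1 := by
  have d1 : orderOf c ∣ p ^ k := orderOf_dvd_of_pow_eq_one h1
  have d2 : orderOf c ∣ m := orderOf_dvd_of_pow_eq_one h2
  have h3 : (orderOf c).Coprime (p ^ k) := Nat.Coprime.pow_right k (Nat.Coprime.coprime_dvd_left d2 hm)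
  exact orderOf_eq_one_iff.mp (Nat.Coprime.eq_one_of_dvd h3 d1)

variable {G : Type*} [Group G]

/-- In a finite `p`-solvable group, every nontrivial normal subgroup contains a nontrivial normal subgroup of the whole
group that is a `p`-group or a `p'`-group. -/
theorem exists_normal_le_of_isPSolvable [Finite G] (p : ℕ) [hp : Fact p.Prime]
    (h : Cfsg.IsPSolvable p G) (C : Subgroup G) [hCn : C.Normal] (hC : C ≠ ⊥) :
    ∃ N : Subgroup G, N.Normal ∧ N ≤ C ∧ N ≠ ⊥ ∧ (IsPGroup p N ∨ (Nat.card N).Coprime p) := by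
  obtain ⟨n, H, h0, hlast, hmono, hnorm, hstep⟩ := h
  have key : ∀ i : Fin (n + 1), H i ⊓ C ≠ ⊥ → ∃ j : Fin n, H j.castSucc ⊓ C = ⊥ ∧ H j.succ ⊓ C ≠ ⊥ := by
    intro i
    induction i using Fin.induction with
    | zero => intro hne; rw [h0, bot_inf_eq] at hne; exact absurd rfl hne
    | succ i ih =>
      intro hne
      by_cases hc : H i.castSucc ⊓ C = ⊥
      · exact ⟨i, hc, hne⟩
      · exact ih hc
  have htop : H (Fin.last n) ⊓ C ≠ ⊥ := by
    rw [hlast, top_inf_eq]
    exact hC
  obtain ⟨j, hj0, hj1⟩ := key (Fin.last n) htop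
  haveI := hnorm j.succ
  haveI := hnorm j.castSucc
  refine ⟨H j.succ ⊓ C, inferInstance, inf_le_right, hj1, ?_⟩
  have hdisj : Disjoint (H j.castSucc) (H j.succ ⊓ C) := by
    rw [disjoint_iff, eq_bot_iff]
    calc H j.castSucc ⊓ (H j.succ ⊓ C) ≤ H j.castSucc ⊓ C := inf_le_inf_left _ inf_le_right
      _ = ⊥ := hj0
  have hcard : (H j.castSucc).relIndex (H j.succ ⊓ C) = Nat.card ↥(H j.succ ⊓ C) := by
    unfold Subgroup.relIndex
    rw [Subgroup.subgroupOf_eq_bot.mpr hdisj, Subgroup.index_bot]
  have hdvd : Nat.card ↥(H j.succ ⊓ C) ∣ (H j.castSucc).relIndex (H j.succ) := by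
    rw [← hcard]
    have e1 := Subgroup.relIndex_ker (QuotientGroup.mk' (H j.castSucc)) (K := H j.succ ⊓ C)
    have e2 := Subgroup.relIndex_ker (QuotientGroup.mk' (H j.castSucc)) (K := H j.succ)
    rw [QuotientGroup.ker_mk'] at e1 e2
    rw [e1, e2]
    exact Subgroup.card_dvd_of_le (Subgroup.map_mono inf_le_left)
  rcases hstep j with ⟨m, hm⟩ | hc
  · left
    rw [hm] at hdvd
    obtain ⟨k, _, hk⟩ := (Nat.dvd_prime_pow hp.out).mp hdvd
    exact IsPGroup.of_card hk
  · right
    exact Nat.Coprime.coprime_dvd_left hdvd hc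

/-- A central `p`-subgroup of `p'`-index has a complement consisting of all elements killed by the index. -/
theorem exists_complement_of_central {M : Type*} [Group M] [Finite M] {p : ℕ} [hp : Fact p.Prime]
    (D : Subgroup M) (hD : D ≤ Subgroup.center M) (hDp : IsPGroup p D) (hidx : D.index.Coprime p) :
    ∃ K : Subgroup M, Nat.card K = D.index ∧ ∀ x : M, x ∈ K ↔ x ^ D.index = 1 := by
  haveI hDn : D.Normal := by
    constructor
    intro d hd g
    have : g * d = d * g := (Subgroup.mem_center_iff.mp (hD hd) g)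
    rw [this, mul_inv_cancel_right]
    exact hd
  obtain ⟨k, hk⟩ := IsPGroup.iff_card.mp hDp
  have hcop : (Nat.card D).Coprime D.index := by
    rw [hk]
    exact (Nat.Coprime.pow_right k hidx).symm
  obtain ⟨K, hK⟩ := Subgroup.exists_right_complement'_of_coprime hcop
  have hcardK : Nat.card K = D.index := by
    have h1 := hK.card_mul_card
    have h2 := D.card_mul_index
    have hpos : 0 < Nat.card D := Nat.card_pos
    exact Nat.eq_of_mul_eq_mul_left hpos (h1.trans h2.symm)
  refine ⟨K, hcardK, ?_⟩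
  intro x
  constructor
  · intro hx
    have := pow_card_eq_one' (G := K) (x := ⟨x, hx⟩)
    rw [hcardK] at this
    have h2 := congrArg Subtype.val this
    simpa using h2
  · intro hx
    obtain ⟨⟨⟨d, hd⟩, ⟨y, hy⟩⟩, hdy, -⟩ := (Subgroup.isComplement_iff_existsUnique.mp hK) x
    simp only at hdy
    have hcomm : Commute d y := (Subgroup.mem_center_iff.mp (hD hd) y).symm
    have hy1 : y ^ D.index = 1 := by
      have := pow_card_eq_one' (G := K) (x := ⟨y, hy⟩)
      rw [hcardK] at this
      have h2 := congrArg Subtype.val this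
      simpa using h2
    have hd1 : d ^ D.index = 1 := by
      have := hcomm.mul_pow D.index
      rw [hdy, hx, hy1, mul_one] at this
      exact this.symm
    have hd2 : d ^ (p ^ k) = 1 := by
      have := pow_card_eq_one' (G := D) (x := ⟨d, hd⟩)
      rw [hk] at this
      have h2 := congrArg Subtype.val this
      simpa using h2
    have hd3 : d = 1 := eq_one_of_pow_eq_one_of_coprime d k D.index hd2 hd1 hidx
    rw [← hdy, hd3, one_mul]
    exact hy

/-- **Hall–Higman Lemma 1.2.3**: in a finite `p`-solvable group with `O_{p'} = 1`, the centralizer of `O_p` lies in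
`O_p`. -/
theorem centralizer_pCore_le_pCore [Finite G] (p : ℕ) [hp : Fact p.Prime] (h : Cfsg.IsPSolvable p G)
    (hO : Cfsg.pPrimeCore p G = ⊥) :
    Subgroup.centralizer ((Cfsg.pCore p G : Subgroup G) : Set G) ≤ Cfsg.pCore p G := by
  set U := Cfsg.pCore p G with hU
  haveI hUn : U.Normal := Cfsg.Agent.Lib.Helper24.pCore_normal' p
  have hUp : IsPGroup p U := pCore_isPGroup' p
  set C := Subgroup.centralizer (U : Set G) with hC
  haveI hCn : C.Normal := Subgroup.normal_centralizer
  by_contra hCU
  let π := QuotientGroup.mk' U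
  have hπ : Function.Surjective π := QuotientGroup.mk'_surjective U
  haveI : (C.map π).Normal := Subgroup.Normal.map hCn π hπ
  have hCbar : C.map π ≠ ⊥ := by
    intro hbot
    apply hCU
    intro c hc
    have : π c ∈ C.map π := Subgroup.mem_map_of_mem π hc
    rw [hbot, Subgroup.mem_bot] at this
    exact (QuotientGroup.eq_one_iff c).mp this
  have hsolv' := Cfsg.Agent.Lib.Helper24.isPSolvable_of_surjective p π hπ h
  obtain ⟨Nb, hNbn, hNbC, hNb1, hNb2⟩ := exists_normal_le_of_isPSolvable p hsolv' (C.map π) hCbar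
  haveI := hNbn
  rcases hNb2 with hNbp | hNbc
  · -- `p`-group: the preimage is a normal `p`-subgroup
    have hpre : Nb.comap π ≤ U := by
      apply le_pCore' p _ inferInstance
      have hcard := card_comap_mk' U Nb
      obtain ⟨a, ha⟩ := IsPGroup.iff_card.mp hUp
      obtain ⟨b, hb⟩ := IsPGroup.iff_card.mp hNbp
      apply IsPGroup.of_card (n := a + b)
      rw [hcard, ha, hb, pow_add]
    apply hNb1
    rw [eq_bot_iff]
    intro x hx
    obtain ⟨y, rfl⟩ := hπ x
    have hy : y ∈ Nb.comap π := hx
    rw [Subgroup.mem_bot]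
    exact (QuotientGroup.eq_one_iff y).mpr (hpre hy)
  · -- `p'`-group
    set M := Nb.comap π ⊓ C with hM
    haveI hMn : M.Normal := inferInstance
    set D : Subgroup M := U.subgroupOf M with hD
    have hDcen : D ≤ Subgroup.center M := by
      intro d hd
      rw [Subgroup.mem_center_iff]
      intro y
      have hyC : (y : G) ∈ C := (inf_le_right : M ≤ C) y.2
      have hdU : (d : G) ∈ U := Subgroup.mem_subgroupOf.mp hd
      have h1 := Subgroup.mem_centralizer_iff.mp hyC (d : G) hdU
      apply Subtype.ext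
      simpa using h1.symm
    have hDp : IsPGroup p D := hUp.comap_subtype
    have hDidx : D.index = Nat.card (M.map π) := by
      have h1 := Subgroup.relIndex_ker π (K := M)
      rw [QuotientGroup.ker_mk'] at h1
      exact h1
    have hMmap : M.map π ≤ Nb := by
      rintro _ ⟨y, hy, rfl⟩
      exact (Subgroup.mem_inf.mp hy).1
    have hidx : D.index.Coprime p := by
      rw [hDidx]
      exact Nat.Coprime.coprime_dvd_left (Subgroup.card_dvd_of_le hMmap) hNbc
    obtain ⟨K, hKcard, hKmem⟩ := exists_complement_of_central D hDcen hDp hidx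
    have hKn : (K.map M.subtype).Normal := by
      constructor
      rintro _ ⟨x, hx, rfl⟩ g
      have hgx : g * (x : G) * g⁻¹ ∈ M := hMn.conj_mem x x.2 g
      refine ⟨⟨_, hgx⟩, ?_, rfl⟩
      show (⟨_, hgx⟩ : M) ∈ K
      rw [hKmem]
      have h1 := (hKmem x).mp hx
      have h2 : ((x : G)) ^ D.index = 1 := by
        have := congrArg Subtype.val h1
        simpa using this
      apply Subtype.ext
      simp only [SubmonoidClass.mk_pow, OneMemClass.coe_one]
      rw [conj_pow, h2, mul_one, mul_inv_cancel]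
    have hKle : K.map M.subtype ≤ Cfsg.pPrimeCore p G := by
      apply le_pPrimeCore p _ hKn
      rw [Subgroup.card_map_of_injective M.subtype_injective, hKcard]
      exact hidx
    rw [hO, le_bot_iff] at hKle
    have hK1 : Nat.card K = 1 := by
      have : K = ⊥ := by
        rw [eq_bot_iff]
        intro x hx
        have h1 : (x : G) ∈ K.map M.subtype := ⟨x, hx, rfl⟩
        rw [hKle, Subgroup.mem_bot] at h1
        rw [Subgroup.mem_bot]
        exact Subtype.ext h1
      rw [this]; exact Subgroup.card_bot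
    rw [hKcard, hDidx] at hK1
    have hMbot : M.map π = ⊥ := Subgroup.card_eq_one.mp hK1
    apply hNb1
    rw [eq_bot_iff]
    intro x hx
    obtain ⟨c, hc, rfl⟩ := hNbC hx
    have : π c ∈ M.map π := Subgroup.mem_map_of_mem π (Subgroup.mem_inf.mpr ⟨hx, hc⟩)
    rwa [hMbot] at this

end HH

end Cfsg.Agent.Lib.Helper12
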