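import Mathlib
import Cfsg.Prelude.Def_Transfer
import Cfsg.Agent.Lib.Helper12.Cores
import Cfsg.Agent.Lib.Helper24.PSolvable
import Cfsg.Agent.Lib.Helper29.PrimePowerElement
import Cfsg.Agent.Lib.Helper25.PSolvableOfSolvable
import Cfsg.Agent.Lib.Helper12.HallHigman

/-!
Helper lemmas (helper12): `Cfsg.HasNormalPComplement` API: subgroups, injective pull-back, homomorphic images,
quotients by normal `p'`-subgroups, `p'`-groups, and the Thompson-style lemma `eq_of_hasNormalPComplement_of_constrained`.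
-/

set_option autoImplicit false
open Subgroup
open scoped Pointwise

namespace Cfsg.Agent.Lib.Helper12

universe u

section pnilp
variable {p : ℕ} [Fact p.Prime]

theorem hasNormalPComplement_iff_frobCond {Y : Type u} [Group Y] [Finite Y] :
    Cfsg.HasNormalPComplement p Y ↔ Cfsg.Agent.Lib.Helper29.FrobCond p Y :=
  Cfsg.Agent.Lib.Helper29.frobCond_iff.symm

/-- normal `p`-complements pull back along injective homomorphisms -/
theorem hasNormalPComplement_of_injective {A B : Type u} [Group A] [Group B] [Finite A] [Finite B]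
    (f : A →* B) (hf : Function.Injective f) (h : Cfsg.HasNormalPComplement p B) :
    Cfsg.HasNormalPComplement p A :=
  hasNormalPComplement_iff_frobCond.mpr
    (Cfsg.Agent.Lib.Helper29.FrobCond.of_injective f hf (hasNormalPComplement_iff_frobCond.mp h))

/-- normal `p`-complements pass to subgroups -/
theorem hasNormalPComplement_subgroup {Y : Type u} [Group Y] [Finite Y]
    (h : Cfsg.HasNormalPComplement p Y) (H : Subgroup Y) : Cfsg.HasNormalPComplement p ↥H :=
  hasNormalPComplement_of_injective H.subtype H.subtype_injective h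

/-- the order of a normal `p`-complement is prime to `p` -/
theorem coprime_card_of_isComplement' {Y : Type*} [Group Y] [Finite Y] (P : Sylow p Y) (N : Subgroup Y)
    (hN : N.IsComplement' (P : Subgroup Y)) : (Nat.card N).Coprime p := by
  rw [← hN.index_eq_card, Nat.coprime_comm, Nat.Prime.coprime_iff_not_dvd Fact.out]
  exact P.not_dvd_index

/-- normal `p`-complements pass to homomorphic images -/
theorem hasNormalPComplement_of_surjective {A B : Type*} [Group A] [Group B] [Finite A]
    (f : A →* B) (hf : Function.Surjective f) (h : Cfsg.HasNormalPComplement p A) :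
    Cfsg.HasNormalPComplement p B := by
  obtain ⟨P, N, hNn, hN⟩ := h
  have : Finite B := Finite.of_surjective f hf
  refine ⟨P.mapSurjective hf, N.map f, hNn.map f hf, ?_⟩
  rw [Sylow.coe_mapSurjective]
  apply Subgroup.isComplement'_of_disjoint_and_mul_eq_univ
  · apply Subgroup.disjoint_of_coprime_natCard
    have h1 : Nat.card (N.map f) ∣ Nat.card N := Subgroup.card_map_dvd N f
    have h2 : (Nat.card N).Coprime p := coprime_card_of_isComplement' P N hN
    obtain ⟨k, hk⟩ := IsPGroup.iff_card.mp (P.isPGroup'.map f)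
    rw [hk]
    exact Nat.Coprime.pow_right k (Nat.Coprime.coprime_dvd_left h1 h2)
  · rw [Set.eq_univ_iff_forall]
    intro b
    obtain ⟨a, rfl⟩ := hf b
    have ha : a ∈ ((N : Set A) * ((P : Subgroup A) : Set A) : Set A) := by
      rw [hN.mul_eq]; exact Set.mem_univ a
    obtain ⟨n, hn, x, hx, rfl⟩ := Set.mem_mul.mp ha
    rw [map_mul]
    exact Set.mul_mem_mul ⟨n, hn, rfl⟩ ⟨x, hx, rfl⟩

/-- a group of order prime to `p` has a normal `p`-complement -/
theorem hasNormalPComplement_of_coprime_card {Y : Type*} [Group Y] [Finite Y]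
    (h : (Nat.card Y).Coprime p) : Cfsg.HasNormalPComplement p Y := by
  obtain ⟨P⟩ : Nonempty (Sylow p Y) := inferInstance
  refine ⟨P, ⊤, inferInstance, ?_⟩
  have hP : (P : Subgroup Y) = ⊥ := by
    rw [← Subgroup.card_eq_one]
    obtain ⟨k, hk⟩ := IsPGroup.iff_card.mp P.isPGroup'
    have h1 : Nat.card (P : Subgroup Y) ∣ Nat.card Y := Subgroup.card_subgroup_dvd_card _
    have h2 : (Nat.card (P : Subgroup Y)).Coprime p := Nat.Coprime.coprime_dvd_left h1 h
    rw [hk] at h2 ⊢
    rcases Nat.eq_zero_or_pos k with h0 | h0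
    · rw [h0, pow_zero]
    · exfalso
      have h3 : p ∣ p ^ k := dvd_pow_self p (by omega)
      have h4 : p ∣ Nat.gcd (p ^ k) p := Nat.dvd_gcd h3 (dvd_refl p)
      rw [h2] at h4
      exact (Fact.out : p.Prime).one_lt.ne' (Nat.dvd_one.mp h4)
  rw [hP]
  exact Subgroup.isComplement'_top_bot

/-- if `Y ⧸ D` has a normal `p`-complement for a normal `p'`-subgroup `D`, so does `Y` -/
theorem hasNormalPComplement_of_quotient {Y : Type*} [Group Y] [Finite Y] (D : Subgroup Y) [D.Normal]
    (hD : (Nat.card D).Coprime p) (h : Cfsg.HasNormalPComplement p (Y ⧸ D)) :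
    Cfsg.HasNormalPComplement p Y := by
  obtain ⟨Pb, Nb, hNbn, hNb⟩ := h
  obtain ⟨P⟩ : Nonempty (Sylow p Y) := inferInstance
  have hNn : (Nb.comap (QuotientGroup.mk' D)).Normal := hNbn.comap _
  refine ⟨P, Nb.comap (QuotientGroup.mk' D), hNn, ?_⟩
  have hcardN : Nat.card (Nb.comap (QuotientGroup.mk' D)) = Nat.card Nb * Nat.card D := by
    rw [card_comap_mk' D Nb, mul_comm]
  have hcopN : (Nat.card (Nb.comap (QuotientGroup.mk' D))).Coprime p := by
    rw [hcardN]
    exact Nat.Coprime.mul_left (coprime_card_of_isComplement' Pb Nb hNb) hD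
  obtain ⟨a, ha⟩ := IsPGroup.iff_card.mp P.isPGroup'
  obtain ⟨k, hk⟩ := IsPGroup.iff_card.mp Pb.isPGroup'
  have hidxN : (Nb.comap (QuotientGroup.mk' D)).index = p ^ k := by
    rw [Subgroup.index_comap_of_surjective _ (QuotientGroup.mk'_surjective D), hNb.symm.index_eq_card, hk]
  apply Subgroup.isComplement'_of_coprime
  · -- cardinalities
    have h1 : Nat.card (Nb.comap (QuotientGroup.mk' D)) * p ^ k = Nat.card Y := by
      rw [← hidxN]; exact Subgroup.card_mul_index _
    have h2 : p ^ a * (P : Subgroup Y).index = Nat.card Y := by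
      rw [← ha]; exact Subgroup.card_mul_index _
    have hcopP : ((P : Subgroup Y).index).Coprime p := by
      rw [Nat.coprime_comm, Nat.Prime.coprime_iff_not_dvd Fact.out]; exact P.not_dvd_index
    have h3 : p ^ k ∣ p ^ a := by
      have : p ^ k ∣ p ^ a * (P : Subgroup Y).index := by rw [h2, ← h1]; exact dvd_mul_left _ _
      exact Nat.Coprime.dvd_of_dvd_mul_right (Nat.Coprime.pow_left k hcopP.symm) this
    have h4 : p ^ a ∣ p ^ k := by
      have : p ^ a ∣ Nat.card (Nb.comap (QuotientGroup.mk' D)) * p ^ k := by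
        rw [h1, ← h2]; exact dvd_mul_right _ _
      exact Nat.Coprime.dvd_of_dvd_mul_left (Nat.Coprime.pow_left a hcopN.symm) this
    rw [ha, Nat.dvd_antisymm h4 h3]
    exact h1
  · rw [ha]
    exact Nat.Coprime.pow_right a hcopN

/-- a `p`-group has a normal `p`-complement -/
theorem hasNormalPComplement_of_isPGroup {Y : Type u} [Group Y] [Finite Y] (h : IsPGroup p Y) :
    Cfsg.HasNormalPComplement p Y := by
  rw [hasNormalPComplement_iff_frobCond]
  intro Q _ g _ hcop
  obtain ⟨k, hk⟩ := h g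
  have h1 : g = 1 := by
    have d1 : orderOf g ∣ p ^ k := orderOf_dvd_of_pow_eq_one hk
    have h3 : (orderOf g).Coprime (p ^ k) := Nat.Coprime.pow_right k hcop
    exact orderOf_eq_one_iff.mp (Nat.Coprime.eq_one_of_dvd h3 d1)
  rw [h1]
  exact Subgroup.one_mem _

/-- Frobenius: a group without normal `p`-complement has a nontrivial `p`-subgroup whose normalizer has no
normal `p`-complement -/
theorem exists_isPGroup_normalizer_not_hasNormalPComplement {Y : Type u} [Group Y] [Finite Y]
    (h : ¬ Cfsg.HasNormalPComplement p Y) :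
    ∃ Q : Subgroup Y, IsPGroup p Q ∧ Q ≠ ⊥ ∧
      ¬ Cfsg.HasNormalPComplement p ↥(Subgroup.normalizer (Q : Set Y)) := by
  rw [hasNormalPComplement_iff_frobCond] at h
  unfold Cfsg.Agent.Lib.Helper29.FrobCond at h
  push Not at h
  obtain ⟨Q, hQ, g, hg, hcop, hgc⟩ := h
  refine ⟨Q, hQ, ?_, ?_⟩
  · rintro rfl
    apply hgc
    rw [Subgroup.mem_centralizer_iff]
    intro x hx
    have : x = 1 := hx
    rw [this, one_mul, mul_one]
  · intro hnpc
    rw [hasNormalPComplement_iff_frobCond] at hnpc
    apply hgc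
    have hQle : Q ≤ Subgroup.normalizer (Q : Set Y) := Subgroup.le_normalizer
    have hQ' : IsPGroup p (Q.subgroupOf (Subgroup.normalizer (Q : Set Y))) :=
      hQ.comap_of_injective _ (Subgroup.subtype_injective _)
    have hn : (⟨g, hg⟩ : ↥(Subgroup.normalizer (Q : Set Y))) ∈
        Subgroup.normalizer ((Q.subgroupOf (Subgroup.normalizer (Q : Set Y)) : Subgroup _) : Set _) := by
      have : (Q.subgroupOf (Subgroup.normalizer (Q : Set Y))).Normal := Subgroup.normal_in_normalizer
      have hnt := Subgroup.normalizer_eq_top (Q.subgroupOf (Subgroup.normalizer (Q : Set Y)))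
      rw [hnt]
      exact Subgroup.mem_top _
    have ho : (orderOf (⟨g, hg⟩ : ↥(Subgroup.normalizer (Q : Set Y)))).Coprime p := by
      have : orderOf (⟨g, hg⟩ : ↥(Subgroup.normalizer (Q : Set Y))) = orderOf g :=
        (Subgroup.orderOf_coe (⟨g, hg⟩ : ↥(Subgroup.normalizer (Q : Set Y)))).symm
      rw [this]; exact hcop
    have hc := hnpc _ hQ' _ hn ho
    rw [Subgroup.mem_centralizer_iff] at hc ⊢
    intro x hx
    have hxN : x ∈ Subgroup.normalizer (Q : Set Y) := hQle hx
    have := hc ⟨x, hxN⟩ (Subgroup.mem_subgroupOf.mpr hx)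
    exact congrArg Subtype.val this

/-- if `P` is a normal `p`-subgroup with `C_Y(P) ≤ P`, any subgroup containing `P` and having a normal
`p`-complement is a `p`-group -/
theorem isPGroup_of_hasNormalPComplement_of_centralizer_le {Y : Type u} [Group Y] [Finite Y]
    (P : Subgroup Y) [hPn : P.Normal] (hP : IsPGroup p P)
    (hC : Subgroup.centralizer (P : Set Y) ≤ P) (M : Subgroup Y) (hPM : P ≤ M)
    (hM : Cfsg.HasNormalPComplement p ↥M) : IsPGroup p ↥M := by
  have hp : p.Prime := Fact.out
  rw [hasNormalPComplement_iff_frobCond] at hM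
  have hQ' : IsPGroup p (P.subgroupOf M) := hP.comap_of_injective _ (Subgroup.subtype_injective _)
  have hQn : (P.subgroupOf M).Normal := hPn.subgroupOf M
  intro g
  obtain ⟨e, m, hm, ho⟩ := Nat.exists_eq_pow_mul_and_not_dvd (orderOf_pos g).ne' p hp.ne_one
  have hdvd : p ^ e ∣ orderOf g := ⟨m, ho⟩
  have ho' : (orderOf (g ^ p ^ e)).Coprime p := by
    rw [orderOf_pow_of_dvd (pow_ne_zero _ hp.ne_zero) hdvd, ho,
      Nat.mul_div_cancel_left _ (pow_pos hp.pos _)]
    exact ((Nat.Prime.coprime_iff_not_dvd hp).mpr hm).symm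
  have hn : g ^ p ^ e ∈ Subgroup.normalizer ((P.subgroupOf M : Subgroup ↥M) : Set ↥M) := by
    rw [Subgroup.normalizer_eq_top (P.subgroupOf M)]
    exact Subgroup.mem_top _
  have hc := hM _ hQ' _ hn ho'
  have hcY : ((g ^ p ^ e : ↥M) : Y) ∈ Subgroup.centralizer (P : Set Y) := by
    rw [Subgroup.mem_centralizer_iff] at hc ⊢
    intro x hx
    have := hc ⟨x, hPM hx⟩ (Subgroup.mem_subgroupOf.mpr hx)
    exact congrArg Subtype.val this
  have hmemP : ((g ^ p ^ e : ↥M) : Y) ∈ P := hC hcY
  obtain ⟨k, hk⟩ := hP ⟨_, hmemP⟩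
  have hk' : (g ^ p ^ e) ^ p ^ k = 1 := by
    have h1 := congrArg Subtype.val hk
    apply Subtype.ext
    simpa using h1
  have h1 : g ^ p ^ e = 1 := by
    have d1 : orderOf (g ^ p ^ e) ∣ p ^ k := orderOf_dvd_of_pow_eq_one hk'
    have h3 : (orderOf (g ^ p ^ e)).Coprime (p ^ k) := Nat.Coprime.pow_right k ho'
    exact orderOf_eq_one_iff.mp (Nat.Coprime.eq_one_of_dvd h3 d1)
  exact ⟨e, h1⟩

omit [Fact p.Prime] in
/-- the trivial group is `p`-solvable -/
theorem isPSolvable_of_subsingleton {Y : Type u} [Group Y] [Subsingleton Y] : Cfsg.IsPSolvable p Y := by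
  refine ⟨0, fun _ => ⊥, rfl, Subsingleton.elim _ _, fun _ _ _ => le_rfl, fun _ => inferInstance, ?_⟩
  intro i
  exact i.elim0

/-- a group which is an extension of a `p`-group by a group with a normal `p`-complement is `p`-solvable -/
theorem isPSolvable_of_hasNormalPComplement_quotient {Y : Type u} [Group Y] [Finite Y]
    (P : Subgroup Y) [hPn : P.Normal] (hP : IsPGroup p P)
    (h : Cfsg.HasNormalPComplement p (Y ⧸ P)) : Cfsg.IsPSolvable p Y := by
  obtain ⟨Pb, Nb, hNbn, hNb⟩ := h
  apply Cfsg.Agent.Lib.Helper25.isPSolvable_of_quotient p P (Or.inl (IsPGroup.iff_card.mp hP))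
  apply Cfsg.Agent.Lib.Helper25.isPSolvable_of_quotient p Nb
    (Or.inr (coprime_card_of_isComplement' Pb Nb hNb))
  have hcard : Nat.card ((Y ⧸ P) ⧸ Nb) = Nat.card (Pb : Subgroup (Y ⧸ P)) := by
    rw [← Subgroup.index_eq_card, hNb.symm.index_eq_card]
  have : (⊤ : Subgroup ((Y ⧸ P) ⧸ Nb)).Normal := inferInstance
  apply Cfsg.Agent.Lib.Helper25.isPSolvable_of_quotient p (⊤ : Subgroup ((Y ⧸ P) ⧸ Nb))
  · left
    obtain ⟨k, hk⟩ := IsPGroup.iff_card.mp Pb.isPGroup'
    exact ⟨k, by rw [Subgroup.card_top, hcard, hk]⟩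
  · have : Subsingleton (((Y ⧸ P) ⧸ Nb) ⧸ (⊤ : Subgroup ((Y ⧸ P) ⧸ Nb))) :=
      QuotientGroup.subsingleton_quotient_top
    exact isPSolvable_of_subsingleton

end pnilp

end Cfsg.Agent.Lib.Helper12
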