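import Mathlib
import Cfsg.Agent.Lib.Lead.BrLeo13
import Cfsg.Agent.Lib.Helper6.Knoerr
import Cfsg.Agent.Lib.Helper6.LinChar
import Cfsg.Agent.Lib.Helper24.IrrFacts
import Cfsg.Agent.Lib.Helper7.SimpleTools

/-!
helper12: Brauer–Suzuki–Feit style degree equation for a self-centralizing Sylow subgroup of
prime order `p` whose normalizer has order `p * m` (`m` prime), extracted from the
Brauer–Leonard theorem (lead, `brauer_leonard_main`).
-/

set_option autoImplicit false
set_option linter.style.haveILetI false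
set_option linter.unusedSectionVars false

namespace Cfsg.Agent.Lib.Helper12.BSF

open Cfsg Cfsg.Agent.CharLib Cfsg.Agent.Lib.Helper24 Cfsg.Agent.Lib.Helper6
open scoped ComplexConjugate

universe u

variable {G : Type u} [Group G] [Finite G]

/-- The sum of an irreducible character over a subgroup is a natural multiple of its order. -/
theorem sum_subgroup_irr (H : Subgroup G) [Fintype H] (χ : IrrCharacter G) :
    ∃ n : ℕ, ∑ y : H, (χ : G → ℂ) (y : G) = (Fintype.card H : ℂ) * n := by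
  obtain ⟨n, hn⟩ := IsCharacter.classInner_nat
    (IsCharacter.restrict (IsIrrCharacter.isCharacter χ.2) H)
    (isCharacter_of_hom (1 : H →* ℂˣ))
  refine ⟨n, ?_⟩
  rw [← hn]
  unfold classInner
  rw [Nat.card_eq_fintype_card]
  have hN : (Fintype.card H : ℂ) ≠ 0 := by exact_mod_cast Fintype.card_ne_zero
  rw [← mul_assoc, mul_inv_cancel₀ hN, one_mul]
  apply Finset.sum_congr rfl
  intro y _
  simp

theorem exists_cyc_of_relIndex_prime (C N : Subgroup G) (hCN : C ≤ N) (m : ℕ) (hm : m.Prime)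
    (h3 : C.relIndex N = m) :
    ∃ g : G, g ∈ N ∧ C ⊔ Subgroup.zpowers g = N := by
  have hex : ∃ g : G, g ∈ N ∧ g ∉ C := by
    by_contra hcon
    push Not at hcon
    have : N ≤ C := fun g hg => hcon g hg
    rw [Subgroup.relIndex_eq_one.mpr this] at h3
    exact hm.one_lt.ne h3
  obtain ⟨g, hgN, hgC⟩ := hex
  refine ⟨g, hgN, ?_⟩
  have hK1 : C ≤ C ⊔ Subgroup.zpowers g := le_sup_left
  have hK2 : C ⊔ Subgroup.zpowers g ≤ N := sup_le hCN (by rw [Subgroup.zpowers_le]; exact hgN)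
  have hmul := Subgroup.relIndex_mul_relIndex C (C ⊔ Subgroup.zpowers g) N hK1 hK2
  rw [h3] at hmul
  have hd : C.relIndex (C ⊔ Subgroup.zpowers g) ∣ m := ⟨_, hmul.symm⟩
  rcases (Nat.dvd_prime hm).mp hd with h1 | h1
  · exfalso
    have h2 := Subgroup.relIndex_eq_one.mp h1
    apply hgC
    apply h2
    exact (le_sup_right : Subgroup.zpowers g ≤ C ⊔ Subgroup.zpowers g) (Subgroup.mem_zpowers g)
  · rw [h1] at hmul
    have h2 : (C ⊔ Subgroup.zpowers g).relIndex N = 1 := by
      have hm0 : 0 < m := hm.pos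
      exact Nat.eq_of_mul_eq_mul_left hm0 (by rw [hmul, mul_one])
    exact le_antisymm hK2 (Subgroup.relIndex_eq_one.mp h2)

/-- A simple non-commutative group is perfect. -/
theorem commutator_eq_top_of_simple [IsSimpleGroup G] (h : ¬ IsMulCommutative G) :
    commutator G = ⊤ := by
  rcases (inferInstance : (commutator G).Normal).eq_bot_or_eq_top with hb | ht
  · exfalso
    apply h
    refine ⟨⟨fun a b => ?_⟩⟩
    have h1 := Subgroup.commutator_mem_commutator (Subgroup.mem_top a) (Subgroup.mem_top b)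
    rw [commutator_def] at hb
    rw [hb, Subgroup.mem_bot] at h1
    exact commutatorElement_eq_one_iff_mul_comm.mp h1
  · exact ht

/-- In a perfect group, an irreducible character of degree one is trivial. -/
theorem eq_one_of_charDegree_one (hperf : commutator G = ⊤) (χ : IrrCharacter G)
    (h1 : charDegree (χ : G → ℂ) = 1) : (χ : G → ℂ) = fun _ => 1 := by
  have h1' : (χ : G → ℂ) 1 = 1 := by rw [irr_apply_one, h1]; simp
  funext g
  have hφ := linCharUnitsHom_apply (IsIrrCharacter.isCharacter χ.2) h1' g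
  rw [← hφ]
  have hk : g ∈ (linCharUnitsHom (IsIrrCharacter.isCharacter χ.2) h1').ker := by
    have := Abelianization.commutator_subset_ker (linCharUnitsHom (IsIrrCharacter.isCharacter χ.2) h1')
    rw [hperf] at this
    exact this (Subgroup.mem_top g)
  rw [MonoidHom.mem_ker] at hk
  rw [hk]
  rfl

/-- In a group of prime order `p`, a non-identity element generates. -/
theorem le_zpowers_of_card_prime (p : ℕ) [hp : Fact p.Prime] (T : Subgroup G)
    (hT : Nat.card T = p) (y : G) (hy : y ∈ T) (hy1 : y ≠ 1) : T ≤ Subgroup.zpowers y := by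
  have hle : Subgroup.zpowers y ≤ T := by rw [Subgroup.zpowers_le]; exact hy
  have hd : orderOf y ∣ p := by
    have := Subgroup.orderOf_dvd_natCard T hy
    rwa [hT] at this
  have ho : orderOf y = p := by
    rcases (Nat.dvd_prime hp.out).mp hd with h | h
    · exact absurd (orderOf_eq_one_iff.mp h) hy1
    · exact h
  have hcard : Nat.card (Subgroup.zpowers y) = p := by rw [Nat.card_zpowers, ho]
  have heq : Subgroup.zpowers y = T :=
    Subgroup.eq_of_le_of_card_ge hle (by rw [hcard, hT])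
  rw [heq]

theorem orderOf_eq_of_card_prime (p : ℕ) [hp : Fact p.Prime] (T : Subgroup G)
    (hT : Nat.card T = p) (y : G) (hy : y ∈ T) (hy1 : y ≠ 1) : orderOf y = p := by
  have hd : orderOf y ∣ p := by
    have := Subgroup.orderOf_dvd_natCard T hy
    rwa [hT] at this
  rcases (Nat.dvd_prime hp.out).mp hd with h | h
  · exact absurd (orderOf_eq_one_iff.mp h) hy1
  · exact h

/-- **Degree equation** for a self-centralizing Sylow subgroup `P` of prime order `p` with
`|N_G(P)| = p * m`, `m` prime, `m + 2 ≤ (p - 1) / m`. -/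
theorem core (p : ℕ) [hp : Fact p.Prime] (P : Sylow p G)
    (hP : Nat.card (P : Subgroup G) = p)
    (hC : Subgroup.centralizer ((P : Subgroup G) : Set G) = (P : Subgroup G))
    (m : ℕ) (hmp : m.Prime) (hm2 : m + 1 < p)
    (hN : Nat.card (Subgroup.normalizer ((P : Subgroup G) : Set G)) = p * m)
    (ht : m + 2 ≤ (p - 1) / m) :
    ∃ (X : Finset (IrrCharacter G)) (a : IrrCharacter G → ℤ) (η : IrrCharacter G) (δ : ℤ),
      (δ = 1 ∨ δ = -1) ∧ X.card + 1 ≤ m ∧ (∀ χ ∈ X, (χ : G → ℂ) ≠ fun _ => 1) ∧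
      (∀ χ ∈ X, a χ ≠ 0) ∧ ∑ χ ∈ X, a χ ^ 2 = (m : ℤ) - 1 ∧
      (∀ χ ∈ X, (p : ℤ) ∣ (charDegree (χ : G → ℂ) : ℤ) - a χ) ∧
      1 + ∑ χ ∈ X, a χ * (charDegree (χ : G → ℂ) : ℤ) = δ * (charDegree (η : G → ℂ) : ℤ) := by
  classical
  have hpp : p.Prime := hp.out
  obtain ⟨M, hM⟩ := exists_isPModular p
  have hPc : Nat.card P = p := hP
  have hcyc0 : IsCyclic ↥(P : Subgroup G) := isCyclic_of_prime_card hP
  have hab : IsMulCommutative P := IsCyclic.isMulCommutative
  have hm1 : 1 < m := hmp.one_lt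
  have hm2' : m + 1 < Nat.card P := by rw [hPc]; exact hm2
  have hCleN : Subgroup.centralizer ((P : Subgroup G) : Set G) ≤
      Subgroup.normalizer ((P : Subgroup G) : Set G) := Subgroup.centralizer_le_normalizer _
  have hCN : (Subgroup.centralizer ((P : Subgroup G) : Set G)).relIndex
      (Subgroup.normalizer ((P : Subgroup G) : Set G)) = m := by
    have h1 := Subgroup.relIndex_mul_relIndex (⊥ : Subgroup G)
      (Subgroup.centralizer ((P : Subgroup G) : Set G))
      (Subgroup.normalizer ((P : Subgroup G) : Set G)) bot_le hCleN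
    have hCcard : Nat.card (Subgroup.centralizer ((P : Subgroup G) : Set G)) = p := by
      rw [hC]; exact hP
    rw [Subgroup.relIndex_bot_left, Subgroup.relIndex_bot_left, hN, hCcard] at h1
    exact Nat.eq_of_mul_eq_mul_left hpp.pos h1
  have hcyc := exists_cyc_of_relIndex_prime _ _ hCleN m hmp hCN
  have hfrob : ∀ y : G, y ∈ (P : Subgroup G) → y ≠ 1 →
      Subgroup.centralizer ({y} : Set G) ⊓ Subgroup.normalizer ((P : Subgroup G) : Set G) =
        Subgroup.centralizer ((P : Subgroup G) : Set G) := by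
    intro y hy hy1
    apply le_antisymm
    · intro g hg
      have hgy : g ∈ Subgroup.centralizer ({y} : Set G) := hg.1
      rw [Subgroup.mem_centralizer_singleton_iff] at hgy
      rw [Subgroup.mem_centralizer_iff]
      intro h hh
      have hz := le_zpowers_of_card_prime p (P : Subgroup G) hP y hy hy1 hh
      obtain ⟨k, rfl⟩ := Subgroup.mem_zpowers_iff.mp hz
      have hc : Commute g y := hgy
      exact ((hc.zpow_right k).eq).symm
    · apply le_inf _ hCleN
      intro g hg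
      rw [Subgroup.mem_centralizer_singleton_iff]
      rw [Subgroup.mem_centralizer_iff] at hg
      exact (hg y hy).symm
  obtain ⟨s, X, Y, hsm, -, -, hXs, hYr, ⟨χ₁, hχ₁X, hχ₁⟩, a, d, δ, ζ, hδ, hX, -, -, -, -,
    hnorm, -, hdeg⟩ := brauer_leonard_main p M hM P hab m hm1 hm2' hCN hcyc hfrob
  -- a non-identity element of P
  have hnt : Nontrivial ↥(P : Subgroup G) := by
    haveI : Finite ↥(P : Subgroup G) := inferInstance
    rw [← Finite.one_lt_card_iff_nontrivial, hP]
    exact hpp.one_lt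
  obtain ⟨y₀, hy₀⟩ := exists_ne (1 : ↥(P : Subgroup G))
  -- values on P minus 1
  have hval : ∀ χ ∈ X, ∀ y : ↥(P : Subgroup G), y ≠ 1 → (χ : G → ℂ) (y : G) = (a χ : ℂ) := by
    intro χ hχ y hy
    have hy1 : (y : G) ≠ 1 := fun h => hy (Subtype.ext h)
    refine (hX χ hχ).2 (y : G) (y : G) ?_ y.2 hy1
    refine ⟨1, mul_one _, Commute.one_right _, ⟨1, ?_⟩, ?_⟩
    · rw [pow_one]
      exact orderOf_eq_of_card_prime p (P : Subgroup G) hP (y : G) y.2 hy1
    · rw [orderOf_one]
      exact hpp.one_lt.ne' ∘ Nat.dvd_one.mp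
  -- a χ₁ = 1
  have ha1 : a χ₁ = 1 := by
    have h1 := hval χ₁ hχ₁X y₀ hy₀
    rw [hχ₁] at h1
    have h2 : ((a χ₁ : ℤ) : ℂ) = ((1 : ℤ) : ℂ) := by rw [← h1]; simp
    exact_mod_cast h2
  -- congruences
  have hcong : ∀ χ ∈ X, (p : ℤ) ∣ (charDegree (χ : G → ℂ) : ℤ) - a χ := by
    intro χ hχ
    haveI : Fintype ↥(P : Subgroup G) := Fintype.ofFinite _
    obtain ⟨n, hn⟩ := sum_subgroup_irr (P : Subgroup G) χ
    have hcardF : Fintype.card ↥(P : Subgroup G) = p := by
      rw [← Nat.card_eq_fintype_card, hP]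
    rw [← Finset.add_sum_erase Finset.univ _ (Finset.mem_univ (1 : ↥(P : Subgroup G)))] at hn
    have h1 : ∀ y ∈ Finset.univ.erase (1 : ↥(P : Subgroup G)),
        (χ : G → ℂ) (y : G) = (a χ : ℂ) := fun y hy => hval χ hχ y (Finset.ne_of_mem_erase hy)
    rw [Finset.sum_congr rfl h1, Finset.sum_const, Finset.card_erase_of_mem (Finset.mem_univ _),
      Finset.card_univ, nsmul_eq_mul, hcardF] at hn
    have h2 : (χ : G → ℂ) ((1 : ↥(P : Subgroup G)) : G) = (charDegree (χ : G → ℂ) : ℂ) := by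
      rw [Subgroup.coe_one, irr_apply_one]
    rw [h2] at hn
    refine ⟨(n : ℤ) - a χ, ?_⟩
    have h3 : (((charDegree (χ : G → ℂ) : ℤ) - a χ : ℤ) : ℂ) =
        (((p : ℤ) * ((n : ℤ) - a χ) : ℤ) : ℂ) := by
      push_cast
      rw [Nat.cast_sub hpp.pos] at hn
      push_cast at hn
      linear_combination hn
    exact_mod_cast h3
  -- finite set X
  have hXfin : X.Finite := Set.toFinite X
  set XF : Finset (IrrCharacter G) := hXfin.toFinset with hXF
  have hmemXF : ∀ χ, χ ∈ XF ↔ χ ∈ X := fun χ => Set.Finite.mem_toFinset hXfin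
  have hχ₁XF : χ₁ ∈ XF := (hmemXF χ₁).mpr hχ₁X
  have hXFcard : XF.card = s := by
    rw [← hXs, Nat.card_coe_set_eq, Set.ncard_eq_toFinset_card X hXfin]
  -- norm equation
  rw [finsum_mem_eq_finite_toFinset_sum _ hXfin] at hnorm
  have hr : ((Nat.card P : ℤ) - 1) / (m : ℤ) = (((p - 1) / m : ℕ) : ℤ) := by
    rw [hPc, Int.natCast_div, Nat.cast_sub hpp.pos]
    simp
  rw [hr] at hnorm
  have hsplit : ∑ χ ∈ XF, a χ ^ 2 = 1 + ∑ χ ∈ XF.erase χ₁, a χ ^ 2 := by
    rw [← Finset.add_sum_erase XF _ hχ₁XF, ha1]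
    norm_num
  have hnn : 0 ≤ ∑ χ ∈ XF.erase χ₁, a χ ^ 2 := Finset.sum_nonneg (fun χ _ => sq_nonneg _)
  have hrge : ((m : ℤ) + 2) ≤ (((p - 1) / m : ℕ) : ℤ) := by exact_mod_cast ht
  have hd0 : d = 0 := by
    by_contra hd
    have h1 : 1 ≤ d ^ 2 := by
      have := sq_pos_of_ne_zero hd
      omega
    have h2 : ((m : ℤ) + 1) * 1 ≤ ((((p - 1) / m : ℕ) : ℤ) - 1) * d ^ 2 :=
      mul_le_mul (by linarith) h1 (by norm_num) (by linarith)
    have h3 := sq_nonneg (d - δ)
    rw [hsplit] at hnorm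
    linarith
  have hδ2 : δ ^ 2 = 1 := by
    rcases hδ with h | h <;> rw [h] <;> norm_num
  have hsum : ∑ χ ∈ XF.erase χ₁, a χ ^ 2 = (m : ℤ) - 1 := by
    rw [hsplit, hd0] at hnorm
    have : (0 - δ) ^ 2 = δ ^ 2 := by ring
    rw [this, hδ2] at hnorm
    linarith
  -- Y nonempty
  have hYne : Nonempty ↥Y := by
    have h1 : Nat.card ↥Y ≠ 0 := by
      rw [hYr, hPc]
      omega
    exact (Nat.card_ne_zero.mp h1).1
  obtain ⟨⟨η, hη⟩⟩ := hYne
  have hdeg1 := hdeg η hη 1 (by rw [orderOf_one]; exact hpp.one_lt.ne' ∘ Nat.dvd_one.mp)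
  rw [finsum_mem_eq_finite_toFinset_sum _ hXfin, hd0] at hdeg1
  rw [← Finset.add_sum_erase XF _ hχ₁XF, ha1, hχ₁] at hdeg1
  have hdeg2 : ∑ χ ∈ XF.erase χ₁, (a χ : ℂ) * (χ : G → ℂ) 1 =
      ((∑ χ ∈ XF.erase χ₁, a χ * (charDegree (χ : G → ℂ) : ℤ) : ℤ) : ℂ) := by
    push_cast
    apply Finset.sum_congr rfl
    intro χ _
    rw [irr_apply_one]
  rw [hdeg2, irr_apply_one] at hdeg1
  refine ⟨XF.erase χ₁, a, η, δ, hδ, ?_, ?_, ?_, hsum, ?_, ?_⟩
  · rw [Finset.card_erase_of_mem hχ₁XF, hXFcard]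
    have : 0 < s := by rw [← hXFcard]; exact Finset.card_pos.mpr ⟨χ₁, hχ₁XF⟩
    omega
  · intro χ hχ hχ1
    apply Finset.ne_of_mem_erase hχ
    apply Subtype.ext
    rw [hχ1, hχ₁]
  · intro χ hχ
    exact (hX χ ((hmemXF χ).mp (Finset.mem_of_mem_erase hχ))).1
  · intro χ hχ
    exact hcong χ ((hmemXF χ).mp (Finset.mem_of_mem_erase hχ))
  · have h4 : (((1 + ∑ χ ∈ XF.erase χ₁, a χ * (charDegree (χ : G → ℂ) : ℤ) : ℤ)) : ℂ) =
        ((δ * (charDegree (η : G → ℂ) : ℤ) : ℤ) : ℂ) := by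
      push_cast
      push_cast at hdeg1
      linear_combination hdeg1
    exact_mod_cast h4

/-- If `|N_G(P)| = p * q` with `q` prime in a simple non-commutative group, a Sylow subgroup `P`
of order `p` is self-centralizing (Burnside transfer). -/
theorem centralizer_eq_of_card_normalizer [IsSimpleGroup G] (hnc : ¬ IsMulCommutative G)
    (p q : ℕ) [hp : Fact p.Prime] (hq : q.Prime) (P : Sylow p G)
    (hP : Nat.card (P : Subgroup G) = p)
    (hN : Nat.card (Subgroup.normalizer ((P : Subgroup G) : Set G)) = p * q) :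
    Subgroup.centralizer ((P : Subgroup G) : Set G) = (P : Subgroup G) := by
  have hpp : p.Prime := hp.out
  have hcomm := Cfsg.Agent.Lib.Helper7.comm_of_card_prime (P : Subgroup G) hP
  have hPleC : (P : Subgroup G) ≤ Subgroup.centralizer ((P : Subgroup G) : Set G) := by
    intro a ha
    rw [Subgroup.mem_centralizer_iff]
    intro b hb
    exact hcomm b hb a ha
  have hrel := Cfsg.Agent.Lib.Helper7.card_centralizer_mul_relIndex (P : Subgroup G)
  have hdvdC : p ∣ Nat.card (Subgroup.centralizer ((P : Subgroup G) : Set G)) := by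
    have := Subgroup.card_dvd_of_le hPleC
    rwa [hP] at this
  obtain ⟨j, hj⟩ := hdvdC
  rw [hj, hN, mul_assoc] at hrel
  have hjq : j * (Subgroup.centralizer ((P : Subgroup G) : Set G)).relIndex
      (Subgroup.normalizer ((P : Subgroup G) : Set G)) = q :=
    Nat.eq_of_mul_eq_mul_left hpp.pos hrel
  have hjd : j ∣ q := ⟨_, hjq.symm⟩
  rcases (Nat.dvd_prime hq).mp hjd with h1 | h1
  · rw [h1, mul_one] at hj
    exact (Subgroup.eq_of_le_of_card_ge hPleC (by rw [hP, hj])).symm
  · exfalso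
    rw [h1] at hjq
    have hr1 : (Subgroup.centralizer ((P : Subgroup G) : Set G)).relIndex
        (Subgroup.normalizer ((P : Subgroup G) : Set G)) = 1 := by
      have : q * (Subgroup.centralizer ((P : Subgroup G) : Set G)).relIndex
        (Subgroup.normalizer ((P : Subgroup G) : Set G)) = q * 1 := by rw [hjq, mul_one]
      exact Nat.eq_of_mul_eq_mul_left hq.pos this
    have hNC := Subgroup.relIndex_eq_one.mp hr1
    exact Cfsg.Agent.Lib.Helper7.not_normalizer_le_centralizer hnc P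
      (by rw [hP]; exact hpp.one_lt) hcomm hNC

theorem pm_one_of_sq_le (a : ℤ) (h0 : a ≠ 0) (h : a ^ 2 ≤ 3) : a = 1 ∨ a = -1 := by
  have h1 : a ≤ 1 := by nlinarith
  have h2 : -1 ≤ a := by nlinarith
  omega

theorem final_contra (N dη : ℕ) (δ v : ℤ) (hδ : δ = 1 ∨ δ = -1) (h : v = δ * (dη : ℤ))
    (hdvd : dη ∣ N) (hN : ¬ (v.natAbs ∣ N)) : False := by
  apply hN
  have : v.natAbs = dη := by
    rcases hδ with rfl | rfl
    · rw [h]; simp
    · rw [h]; simp
  rw [this]
  exact hdvd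

end Cfsg.Agent.Lib.Helper12.BSF
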