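import Mathlib
import Cfsg.Prelude.Def_Transfer
import Cfsg.Agent.Lib.Helper12.Cores

/-!
Helper lemmas (helper12): normal `p`-complements (Prelude's `HasNormalPComplement`), Sylow subgroups of
normal subgroups, Burnside's transfer theorem in a convenient form.
-/

set_option autoImplicit false
open Subgroup
namespace Cfsg.Agent.Lib.Helper12

/-- If `S` is a Sylow `p`-subgroup of `X`, `S ≤ H` and `H` normalizes `K ≤ H`, then `S ∩ K` is a Sylow
`p`-subgroup of `K` (in the `relIndex` encoding). -/
theorem sylow_inf_relIndex {X : Type*} [Group X] [Finite X] {p : ℕ} [Fact p.Prime] (S : Sylow p X)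
    (H K : Subgroup X) (hSH : (S : Subgroup X) ≤ H) (hKH : K ≤ H)
    (hnorm : ∀ h ∈ H, ∀ k ∈ K, h * k * h⁻¹ ∈ K) :
    ¬ p ∣ ((S : Subgroup X) ⊓ K).relIndex K := by
  -- a Sylow p-subgroup Q' of K containing S ⊓ K
  have hZp : IsPGroup p (((S : Subgroup X) ⊓ K).subgroupOf K) :=
    (S.2.to_le inf_le_left).comap_subtype
  obtain ⟨Q', hQ'⟩ := hZp.exists_le_sylow
  let Q : Subgroup X := (Q' : Subgroup K).map K.subtype
  have hQK : Q ≤ K := by
    rintro _ ⟨y, _, rfl⟩; exact y.2
  have hQp : IsPGroup p Q := Q'.2.map _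
  obtain ⟨h, hhH, hh⟩ := exists_conj_mem_sylow S H Q hSH (le_trans hQK hKH) hQp
  -- conjugation by h maps Q into S ⊓ K
  have hmaps : ∀ q ∈ Q, h * q * h⁻¹ ∈ (S : Subgroup X) ⊓ K :=
    fun q hq => ⟨hh q hq, hnorm h hhH q (hQK hq)⟩
  have hZQ : (S : Subgroup X) ⊓ K ≤ Q := by
    intro x hx
    have : (⟨x, hx.2⟩ : K) ∈ (Q' : Subgroup K) := hQ' (by
      rw [mem_subgroupOf]; exact hx)
    exact ⟨⟨x, hx.2⟩, this, rfl⟩
  have hcard : Nat.card Q ≤ Nat.card ↥((S : Subgroup X) ⊓ K) := by
    apply Nat.card_le_card_of_injective (fun q : Q => (⟨h * q * h⁻¹, hmaps q q.2⟩ : ↥((S : Subgroup X) ⊓ K)))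
    intro a b hab
    have := congrArg Subtype.val hab
    simp only [mul_left_inj, mul_right_inj] at this
    exact Subtype.ext this
  have heq : (S : Subgroup X) ⊓ K = Q := by
    apply Subgroup.eq_of_le_of_card_ge hZQ hcard
  rw [heq]
  have : Q.relIndex K = (Q' : Subgroup K).index := by
    rw [Subgroup.relIndex]
    congr 1
    ext x
    rw [mem_subgroupOf]
    constructor
    · rintro ⟨y, hy, hyx⟩
      have : y = x := Subtype.ext hyx
      rw [← this]; exact hy
    · intro hx; exact ⟨x, hx, rfl⟩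
  rw [this]
  exact Q'.not_dvd_index

/-- A normal `p'`-subgroup of `p`-power index is a normal `p`-complement. -/
theorem hasNormalPComplement_of_normal {X : Type*} [Group X] [Finite X] {p : ℕ} [Fact p.Prime]
    (K : Subgroup X) (hKn : K.Normal) (hK : (Nat.card K).Coprime p) (a : ℕ) (hidx : K.index = p ^ a) :
    Cfsg.HasNormalPComplement p X := by
  obtain ⟨P⟩ : Nonempty (Sylow p X) := inferInstance
  refine ⟨P, K, hKn, ?_⟩
  have hcardX : Nat.card X = Nat.card K * p ^ a := by rw [← hidx, Subgroup.card_mul_index]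
  have hP : Nat.card P = p ^ a := by
    rw [Sylow.card_eq_multiplicity, hcardX]
    have hp : p.Prime := Fact.out
    have hK0 : Nat.card K ≠ 0 := Nat.card_pos.ne'
    rw [Nat.factorization_mul hK0 (pow_ne_zero a hp.ne_zero)]
    simp only [Finsupp.coe_add, Pi.add_apply]
    rw [Nat.factorization_eq_zero_of_not_dvd ((Nat.Prime.coprime_iff_not_dvd hp).mp hK.symm),
      hp.factorization_pow]
    simp
  apply isComplement'_of_coprime
  · rw [hP, hcardX]
  · rw [hP]; exact Nat.Coprime.pow_right a hK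

/-- If every `p'`-element of a finite group lies in the normal subgroup `C`, then `C` has `p`-power index. -/
theorem index_eq_pow_of_coprime_mem {X : Type*} [Group X] [Finite X] {p : ℕ} [Fact p.Prime]
    (C : Subgroup X) [C.Normal] (h : ∀ g : X, (orderOf g).Coprime p → g ∈ C) :
    ∃ a : ℕ, C.index = p ^ a := by
  have hp : p.Prime := Fact.out
  have hq : IsPGroup p (X ⧸ C) := by
    intro xb
    obtain ⟨x, rfl⟩ := QuotientGroup.mk'_surjective C xb
    have hpos : 0 < orderOf x := orderOf_pos x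
    obtain ⟨k, m, hm, hxm⟩ := Nat.exists_eq_pow_mul_and_not_dvd hpos.ne' p hp.ne_one
    refine ⟨k, ?_⟩
    have hord : orderOf (x ^ (p ^ k)) = m := by
      rw [orderOf_pow' x (pow_ne_zero k hp.ne_zero), hxm, Nat.gcd_eq_right (dvd_mul_right _ _)]
      exact Nat.mul_div_cancel_left m (pow_pos hp.pos k)
    have hmem : x ^ (p ^ k) ∈ C := h _ (by
      rw [hord]; exact ((Nat.Prime.coprime_iff_not_dvd hp).mpr hm).symm)
    rw [← map_pow]
    exact (QuotientGroup.eq_one_iff _).mpr hmem
  obtain ⟨a, ha⟩ := IsPGroup.iff_card.mp hq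
  exact ⟨a, by rw [Subgroup.index_eq_card, ha]⟩

/-- Burnside: if a Sylow `p`-subgroup `Z` of the finite group `C` (relIndex encoding, inside an ambient group)
is central in `C`, then `O_{p'}(C)` has order `|C| / |Z|`. Stated for a group `C` itself. -/
theorem card_pPrimeCore_mul_of_central_sylow {C : Type*} [Group C] [Finite C] {p : ℕ} [Fact p.Prime]
    (P : Sylow p C) (hP : ∀ x ∈ (P : Subgroup C), ∀ c : C, c * x = x * c) :
    Nat.card ↥(Cfsg.pPrimeCore p C) * Nat.card P = Nat.card C := by
  have hNC : normalizer (P : Set C) ≤ centralizer (P : Set C) := by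
    intro c _
    rw [mem_centralizer_iff]
    intro x hx
    exact (hP x hx c).symm
  have hcompl := MonoidHom.ker_transferSylow_isComplement' P hNC
  have hnd := MonoidHom.not_dvd_card_ker_transferSylow P hNC
  set K := (MonoidHom.transferSylow P hNC).ker with hK
  have hp : p.Prime := Fact.out
  have hKcop : (Nat.card K).Coprime p := ((Nat.Prime.coprime_iff_not_dvd hp).mpr hnd).symm
  have hcard : Nat.card K * Nat.card P = Nat.card C := hcompl.card_mul_card
  have hle : K ≤ Cfsg.pPrimeCore p C := le_pPrimeCore p K inferInstance hKcop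
  have hOcop := pPrimeCore_coprime (X := C) p
  have hdvd : Nat.card ↥(Cfsg.pPrimeCore p C) ∣ Nat.card K := by
    have h1 : Nat.card ↥(Cfsg.pPrimeCore p C) ∣ Nat.card K * Nat.card P := by
      rw [hcard]; exact Subgroup.card_subgroup_dvd_card _
    obtain ⟨k, hk⟩ := IsPGroup.iff_card.mp P.2
    rw [hk] at h1
    exact (Nat.Coprime.pow_right k hOcop).dvd_of_dvd_mul_right h1
  have heq : Nat.card K = Nat.card ↥(Cfsg.pPrimeCore p C) :=
    Nat.dvd_antisymm (Subgroup.card_dvd_of_le hle) hdvd
  rw [← heq, hcard]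

/-- `T ⊴ X` contained in a Sylow `p`-subgroup `S` with `C_S(T) ≤ T` and all `p'`-elements centralizing `T`:
`X` has a normal `p`-complement. -/
theorem hasNormalPComplement_of_self_centralizing {X : Type*} [Group X] [Finite X] {p : ℕ} [Fact p.Prime]
    (S : Sylow p X) (T : Subgroup X) [T.Normal]
    (hC : (S : Subgroup X) ⊓ Subgroup.centralizer (T : Set X) ≤ T)
    (hN : ∀ g : X, (orderOf g).Coprime p → g ∈ Subgroup.centralizer (T : Set X)) :
    Cfsg.HasNormalPComplement p X := by
  have hp : p.Prime := Fact.out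
  set C := Subgroup.centralizer (T : Set X) with hCdef
  obtain ⟨a, ha⟩ := index_eq_pow_of_coprime_mem C hN
  have hZidx : ¬ p ∣ ((S : Subgroup X) ⊓ C).relIndex C :=
    sylow_inf_relIndex S ⊤ C le_top le_top (fun h _ k hk => (inferInstance : C.Normal).conj_mem k hk h)
  have hZp : IsPGroup p (((S : Subgroup X) ⊓ C).subgroupOf C) :=
    (S.2.to_le inf_le_left).comap_subtype
  let PC : Sylow p C := hZp.toSylow hZidx
  have hcentral : ∀ x ∈ (PC : Subgroup C), ∀ c : C, c * x = x * c := by
    intro x hx c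
    have hx' : (x : X) ∈ (S : Subgroup X) ⊓ C := by
      have : x ∈ ((S : Subgroup X) ⊓ C).subgroupOf C := hx
      rwa [mem_subgroupOf] at this
    have hxT : (x : X) ∈ T := hC hx'
    have := (mem_centralizer_iff.mp c.2) (x : X) hxT
    exact Subtype.ext this.symm
  have hcard := card_pPrimeCore_mul_of_central_sylow PC hcentral
  obtain ⟨b, hb⟩ := IsPGroup.iff_card.mp PC.2
  -- O' normal in X
  have hchar : (Cfsg.pPrimeCore p C).Characteristic := pPrimeCore_characteristic p
  have hnorm : ((Cfsg.pPrimeCore p C).map C.subtype).Normal := ConjAct.normal_of_characteristic_of_normal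
  have hO'card : Nat.card ↥((Cfsg.pPrimeCore p C).map C.subtype) = Nat.card ↥(Cfsg.pPrimeCore p C) :=
    Subgroup.card_map_of_injective (Subgroup.subtype_injective _)
  have hcop : (Nat.card ↥((Cfsg.pPrimeCore p C).map C.subtype)).Coprime p := by
    rw [hO'card]; exact pPrimeCore_coprime p
  refine hasNormalPComplement_of_normal _ hnorm hcop (b + a) ?_
  -- index computation
  have h1 : Nat.card ↥((Cfsg.pPrimeCore p C).map C.subtype) * ((Cfsg.pPrimeCore p C).map C.subtype).index = Nat.card X :=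
    Subgroup.card_mul_index _
  have h2 : Nat.card C * C.index = Nat.card X := Subgroup.card_mul_index _
  rw [hO'card] at h1
  rw [← hcard, ha, hb] at h2
  have h3 : Nat.card ↥(Cfsg.pPrimeCore p C) * ((Cfsg.pPrimeCore p C).map C.subtype).index =
      Nat.card ↥(Cfsg.pPrimeCore p C) * p ^ (b + a) := by
    rw [h1, ← h2, pow_add, mul_assoc]
  exact Nat.eq_of_mul_eq_mul_left Nat.card_pos h3

end Cfsg.Agent.Lib.Helper12
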