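import Mathlib
import Cfsg.Prelude.Def_FischerSpaces
import Cfsg.Agent.S0215
import Cfsg.Agent.Lib.Helper29.ZStarCor
import Cfsg.Agent.Lib.Helper29.ZStarCor2

/-!
Helper lemmas (helper12): sets of `3`-transpositions of width one (no two distinct members commute).
Using Glauberman's `Z*`-theorem (S0215) and its corollaries (helper29): if `D` is a normal set of
`3`-transpositions of `G` no two of which commute, then for `d ∈ D` there is a `d`-invariant Sylow
`3`-subgroup `P` with `D ⊆ P d`.  (No appeal to the odd order theorem.)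
-/

set_option autoImplicit false
set_option linter.unusedSectionVars false

open Subgroup

namespace Cfsg.Agent.Lib.Helper12

universe u

variable {G : Type u} [Group G]

/-- the `Z*`-theorem in the form used by helper29's corollaries -/
theorem zStarStmt : Cfsg.Agent.Lib.Helper29.ZStar.ZStarStmt.{u} :=
  fun P u hu huP hiso => Cfsg.Agent.S0215.result P u hu huP hiso

theorem mul_self_of_orderOf_two {a : G} (ha : orderOf a = 2) : a * a = 1 := by
  rw [← pow_two, ← ha]; exact pow_orderOf_eq_one a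

theorem commute_of_mul_sq {a b : G} (ha : a * a = 1) (hb : b * b = 1) (h : (a * b) ^ 2 = 1) :
    Commute a b := by
  have hai : a⁻¹ = a := inv_eq_of_mul_eq_one_left ha
  have hbi : b⁻¹ = b := inv_eq_of_mul_eq_one_left hb
  have h1 : a * b = (a * b)⁻¹ := by
    rw [eq_inv_iff_mul_eq_one, ← pow_two]; exact h
  rw [mul_inv_rev, hai, hbi] at h1
  exact h1

theorem conj_eq_of_mul_cube {a b : G} (ha : a * a = 1) (hb : b * b = 1) (h : (a * b) ^ 3 = 1) :
    (a * b) * a * (a * b)⁻¹ = b := by
  have hai : a⁻¹ = a := inv_eq_of_mul_eq_one_left ha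
  have hbi : b⁻¹ = b := inv_eq_of_mul_eq_one_left hb
  rw [mul_inv_rev, hai, hbi]
  -- `a b a b a = b`
  have h1 : a * b * (a * b) * (a * b) = 1 := by
    rw [← h]; simp [pow_succ]
  calc a * b * a * (b * a) = (a * b * (a * b) * (a * b)) * b⁻¹ := by group
    _ = b := by rw [h1, one_mul, hbi]

/-- orbit-stabilizer for conjugation, in elementary form -/
theorem card_conj_eq_index [Finite G] (d : G) :
    Nat.card {e : G // ∃ g : G, g * d * g⁻¹ = e} = (centralizer ({d} : Set G)).index := by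
  set C : Subgroup G := centralizer ({d} : Set G) with hC
  rw [Subgroup.index]
  let f : G → {e : G // ∃ g : G, g * d * g⁻¹ = e} := fun g => ⟨g * d * g⁻¹, g, rfl⟩
  have hf : ∀ x y : G, f x = f y ↔ x⁻¹ * y ∈ C := by
    intro x y
    rw [hC, mem_centralizer_singleton_iff]
    simp only [f, Subtype.mk.injEq]
    constructor
    · intro h
      calc x⁻¹ * y * d = x⁻¹ * (y * d * y⁻¹) * y := by group
        _ = x⁻¹ * (x * d * x⁻¹) * y := by rw [h]
        _ = d * (x⁻¹ * y) := by group
    · intro h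
      calc x * d * x⁻¹ = x * (d * (x⁻¹ * y)) * y⁻¹ := by group
        _ = x * (x⁻¹ * y * d) * y⁻¹ := by rw [h]
        _ = y * d * y⁻¹ := by group
  let F : G ⧸ C → {e : G // ∃ g : G, g * d * g⁻¹ = e} :=
    Quotient.lift f (by
      intro x y hxy
      exact (hf x y).mpr (QuotientGroup.leftRel_apply.mp hxy))
  have hFinj : Function.Injective F := by
    intro a b
    induction a using Quotient.inductionOn with | _ x => ?_
    induction b using Quotient.inductionOn with | _ y => ?_
    intro h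
    apply Quotient.sound
    exact QuotientGroup.leftRel_apply.mpr ((hf x y).mp h)
  have hFsurj : Function.Surjective F := by
    rintro ⟨e, g, rfl⟩
    exact ⟨Quotient.mk _ g, rfl⟩
  exact (Nat.card_congr (Equiv.ofBijective F ⟨hFinj, hFsurj⟩)).symm

/-- every prime has a Sylow subgroup normalized by a given isolated involution -/
theorem exists_sylow_normalized_of_isolated [Finite G] {z : G} (hz : Cfsg.IsIsolatedInvolution z)
    (q : ℕ) [Fact q.Prime] : ∃ Q : Sylow q G, z ∈ normalizer ((Q : Subgroup G) : Set G) := by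
  classical
  let S : Set (Subgroup G) := {R | IsPGroup q R ∧ z ∈ normalizer (R : Set G)}
  have hne : S.Nonempty := ⟨⊥, IsPGroup.of_bot, by
    rw [Subgroup.normalizer_eq_top]; exact Subgroup.mem_top z⟩
  obtain ⟨Q, hQS, hQmax⟩ := (wellFounded_gt (α := Subgroup G)).has_min S hne
  have hmax : ∀ R : Subgroup G, IsPGroup q R → z ∈ normalizer (R : Set G) → Q ≤ R → R = Q := by
    intro R hR hzR hQR
    by_contra hne'
    exact hQmax R ⟨hR, hzR⟩ (lt_of_le_of_ne hQR (Ne.symm hne'))
  obtain ⟨P, hP⟩ := Cfsg.Agent.Lib.Helper29.ZStar.exists_sylow_eq_of_maximal zStarStmt hz Q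
    hQS.1 hQS.2 hmax
  exact ⟨P, by rw [hP]; exact hQS.2⟩

section widthone

variable [Finite G] {D : Set G}

/-- **Width one**: a normal set `D` of `3`-transpositions, no two distinct members of which commute,
lies in `P d` for a `d`-invariant Sylow `3`-subgroup `P` (`d ∈ D`). -/
theorem exists_sylow_three_of_width_one
    (hord : ∀ e ∈ D, orderOf e = 2)
    (h23 : ∀ a ∈ D, ∀ b ∈ D, (a * b) ^ 2 = 1 ∨ (a * b) ^ 3 = 1)
    (hconj : ∀ g : G, ∀ e ∈ D, g * e * g⁻¹ ∈ D)
    (hw : ∀ a ∈ D, ∀ b ∈ D, Commute a b → a = b)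
    {d : G} (hd : d ∈ D) :
    ∃ P : Sylow 3 G, d ∈ normalizer ((P : Subgroup G) : Set G) ∧
      ∀ e ∈ D, ∃ x ∈ (P : Subgroup G), e = x * d := by
  classical
  have : Fact (Nat.Prime 3) := ⟨Nat.prime_three⟩
  have hdd : d * d = 1 := mul_self_of_orderOf_two (hord d hd)
  have hdi : d⁻¹ = d := inv_eq_of_mul_eq_one_left hdd
  have hz : Cfsg.IsIsolatedInvolution d :=
    ⟨hord d hd, fun g hc => (hw d hd _ (hconj g d hd) hc).symm⟩
  -- `D` is the class of `d`
  have hclass : ∀ e : G, e ∈ D ↔ ∃ g : G, g * d * g⁻¹ = e := by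
    intro e
    constructor
    · intro he
      by_cases hed : d = e
      · exact ⟨1, by simp [hed]⟩
      · have hee : e * e = 1 := mul_self_of_orderOf_two (hord e he)
        rcases h23 d hd e he with h | h
        · exact absurd (hw d hd e he (commute_of_mul_sq hdd hee h)) hed
        · exact ⟨d * e, conj_eq_of_mul_cube hdd hee h⟩
    · rintro ⟨g, rfl⟩
      exact hconj g d hd
  set C : Subgroup G := centralizer ({d} : Set G) with hC
  set n := C.index with hn
  have hcardD : Nat.card {e : G // e ∈ D} = n := by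
    rw [hn, hC, ← card_conj_eq_index d]
    exact Nat.card_congr (Equiv.subtypeEquivRight hclass)
  -- inverted elements of odd order
  have hinv : ∀ x : G, Odd (orderOf x) → d * x * d⁻¹ = x⁻¹ → x * d ∈ D := by
    intro x hodd hx
    obtain ⟨k, hk⟩ := Cfsg.Agent.Lib.Helper29.ZStar.exists_sqrt_of_odd x hodd
    have hy : d * x ^ k * d⁻¹ = (x ^ k)⁻¹ := by
      rw [← conj_pow, hx, inv_pow]
    have h1 : x ^ k * d * (x ^ k)⁻¹ = x * d := by
      have h2 : d * (x ^ k)⁻¹ * d⁻¹ = x ^ k := by
        have h3 : d * (x ^ k)⁻¹ * d⁻¹ = (d * x ^ k * d⁻¹)⁻¹ := by group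
        rw [h3, hy, inv_inv]
      calc x ^ k * d * (x ^ k)⁻¹ = x ^ k * (d * (x ^ k)⁻¹ * d⁻¹) * d := by group
        _ = x ^ k * x ^ k * d := by rw [h2]
        _ = x * d := by rw [hk]
    rw [← h1]
    exact hconj _ d hd
  have hinv23 : ∀ x : G, Odd (orderOf x) → d * x * d⁻¹ = x⁻¹ → x ^ 2 = 1 ∨ x ^ 3 = 1 := by
    intro x hodd hx
    have h1 := h23 (x * d) (hinv x hodd hx) d hd
    have h2 : x * d * d = x := by rw [mul_assoc, hdd, mul_one]
    rwa [h2] at h1
  -- primes other than `3` do not divide `n`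
  have hprime : ∀ q : ℕ, q.Prime → q ∣ n → q = 3 := by
    intro q hq hqn
    by_contra hq3
    have : Fact q.Prime := ⟨hq⟩
    by_cases hq2 : q = 2
    · subst hq2
      obtain ⟨S, -, hSC⟩ := Cfsg.Agent.Lib.Helper29.ZStar.exists_sylow_le_centralizer hz
      have h1 : n ∣ (S : Subgroup G).index := Subgroup.index_dvd_of_le hSC
      exact S.not_dvd_index (hqn.trans h1)
    · obtain ⟨Q, hQ⟩ := exists_sylow_normalized_of_isolated hz q
      obtain ⟨-, h2⟩ := Cfsg.Agent.Lib.Helper29.ZStar.sylow_inf_centralizer zStarStmt d hz hq2 Q hQ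
      have hqodd : Odd q := hq.odd_of_ne_two hq2
      have h3 : Nat.card {x : G // x ∈ Q ∧ d * x * d⁻¹ = x⁻¹} = 1 := by
        rw [Nat.card_eq_one_iff_unique]
        refine ⟨⟨?_⟩, ⟨⟨1, one_mem _, by simp⟩⟩⟩
        rintro ⟨x, hxQ, hx⟩ ⟨y, hyQ, hy⟩
        have key : ∀ x : G, x ∈ Q → d * x * d⁻¹ = x⁻¹ → x = 1 := by
          intro x hxQ hx
          obtain ⟨m, hm⟩ := (Q.2 ⟨x, hxQ⟩)
          have hm' : x ^ q ^ m = 1 := by
            have := congrArg Subtype.val hm
            simpa using this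
          have hox : orderOf x ∣ q ^ m := orderOf_dvd_of_pow_eq_one hm'
          have hodd : Odd (orderOf x) := Odd.of_dvd_nat (hqodd.pow) hox
          rw [← orderOf_eq_one_iff]
          rcases hinv23 x hodd hx with h | h
          · have h5 : orderOf x ∣ 2 := orderOf_dvd_of_pow_eq_one h
            have h6 : orderOf x ∣ Nat.gcd (q ^ m) 2 := Nat.dvd_gcd hox h5
            have h7 : Nat.Coprime (q ^ m) 2 :=
              Nat.Coprime.pow_left m ((Nat.coprime_primes hq Nat.prime_two).mpr hq2)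
            rw [h7] at h6
            exact Nat.dvd_one.mp h6
          · have h5 : orderOf x ∣ 3 := orderOf_dvd_of_pow_eq_one h
            have h6 : orderOf x ∣ Nat.gcd (q ^ m) 3 := Nat.dvd_gcd hox h5
            have h7 : Nat.Coprime (q ^ m) 3 :=
              Nat.Coprime.pow_left m ((Nat.coprime_primes hq Nat.prime_three).mpr hq3)
            rw [h7] at h6
            exact Nat.dvd_one.mp h6
        apply Subtype.ext
        show x = y
        rw [key x hxQ hx, key y hyQ hy]
      rw [h3, Subgroup.relIndex_eq_one] at h2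
      have hQC : (Q : Subgroup G) ≤ C := h2.trans inf_le_right
      have h1 : n ∣ (Q : Subgroup G).index := Subgroup.index_dvd_of_le hQC
      exact Q.not_dvd_index (hqn.trans h1)
  have hn0 : n ≠ 0 := Subgroup.index_ne_zero_of_finite
  obtain ⟨m, hm⟩ : ∃ m : ℕ, n = 3 ^ m :=
    ⟨_, Nat.eq_prime_pow_of_unique_prime_dvd hn0 (fun {q} hq hqn => hprime q hq hqn)⟩
  -- the Sylow `3`-subgroup
  obtain ⟨P, hP⟩ := exists_sylow_normalized_of_isolated hz 3
  obtain ⟨hu, hb⟩ := Cfsg.Agent.Lib.Helper29.ZStar.sylow_inf_centralizer zStarStmt d hz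
    (by norm_num : (3 : ℕ) ≠ 2) P hP
  set b := ((P : Subgroup G) ⊓ C).relIndex (P : Subgroup G) with hbdef
  set u := ((P : Subgroup G) ⊓ C).relIndex C with hudef
  have h1 : b * (P : Subgroup G).index = u * n := by
    rw [hbdef, hudef, hn, Subgroup.relIndex_mul_index inf_le_left,
      Subgroup.relIndex_mul_index inf_le_right]
  obtain ⟨j, hj⟩ : ∃ j : ℕ, b = 3 ^ j := by
    have h2 : b ∣ Nat.card (P : Subgroup G) := Subgroup.relIndex_dvd_card _ _
    obtain ⟨k, hk⟩ := IsPGroup.iff_card.mp P.2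
    rw [hk] at h2
    obtain ⟨j, -, hj⟩ := (Nat.dvd_prime_pow Nat.prime_three).mp h2
    exact ⟨j, hj⟩
  have hbn : b = n := by
    rw [hj, hm]
    rw [hj, hm] at h1
    have hv : Nat.Coprime 3 (P : Subgroup G).index :=
      (Nat.Prime.coprime_iff_not_dvd Nat.prime_three).mpr P.not_dvd_index
    have hu' : Nat.Coprime 3 u := (Nat.Prime.coprime_iff_not_dvd Nat.prime_three).mpr hu
    have h3 : 3 ^ j ∣ 3 ^ m := by
      have h4 : 3 ^ j ∣ u * 3 ^ m := Dvd.intro _ h1
      exact (Nat.Coprime.pow_left j hu').dvd_of_dvd_mul_left h4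
    have h4 : 3 ^ m ∣ 3 ^ j := by
      have h5 : 3 ^ m ∣ 3 ^ j * (P : Subgroup G).index := Dvd.intro_left _ h1.symm
      exact (Nat.Coprime.pow_left m hv).dvd_of_dvd_mul_right h5
    exact Nat.dvd_antisymm h3 h4
  -- the injection `x ↦ x d`
  have hPodd : ∀ x ∈ (P : Subgroup G), Odd (orderOf x) := by
    intro x hx
    obtain ⟨k, hk⟩ := (P.2 ⟨x, hx⟩)
    have hk' : x ^ 3 ^ k = 1 := by
      have := congrArg Subtype.val hk
      simpa using this
    exact Odd.of_dvd_nat (Odd.pow (by decide)) (orderOf_dvd_of_pow_eq_one hk')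
  let φ : {x : G // x ∈ P ∧ d * x * d⁻¹ = x⁻¹} → {e : G // e ∈ D} :=
    fun x => ⟨x.1 * d, hinv x.1 (hPodd x.1 x.2.1) x.2.2⟩
  have hφinj : Function.Injective φ := by
    intro x y hxy
    have h2 : x.1 * d = y.1 * d := congrArg Subtype.val hxy
    exact Subtype.ext (mul_right_cancel h2)
  have hφbij : Function.Bijective φ := by
    apply hφinj.bijective_of_nat_card_le
    rw [hcardD, ← hbn, hb]
  refine ⟨P, hP, ?_⟩
  intro e he
  obtain ⟨⟨x, hxP, hxi⟩, hx⟩ := hφbij.2 ⟨e, he⟩
  exact ⟨x, hxP, (congrArg Subtype.val hx).symm⟩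

end widthone

end Cfsg.Agent.Lib.Helper12
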