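import Mathlib
import Cfsg.Agent.Lib.Helper8.SmallSimple
import Cfsg.Agent.Lib.Helper8.SmallSimple2
import Cfsg.Agent.Lib.Helper19.Ord4032B
import Cfsg.Agent.Lib.Helper24.Ord4320A

/-!
# No simple group of order 5040, part A (helper12)

Elementary (permutation-theoretic) cases for the number `n` of Sylow `7`-subgroups:
`n = 8`, `n = 15`, `n = 36`, acting on the cosets of `N(P)`.
-/

set_option autoImplicit false
set_option linter.unusedSectionVars false
set_option linter.style.haveILetI false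

namespace Cfsg.Agent.Lib.Helper12.Ord5040

open MulAction Cfsg.Agent.Lib.Helper8.SmallSimple Cfsg.Agent.Lib.Helper8.SmallSimple2
  Cfsg.Agent.Lib.Helper7 Cfsg.Agent.Lib.Helper19.Ord4032 Cfsg.Agent.Lib.Helper24.Ord4320

variable {G : Type*} [Group G] [Finite G]

theorem card_fixedBy_le {X : Type*} [MulAction G X] [Finite X] (c : G) :
    Nat.card (fixedBy X c) ≤ Nat.card X :=
  Nat.card_le_card_of_injective (fun a : fixedBy X c => (a : X)) Subtype.val_injective

/-- a nontrivial element does not fix all cosets of a proper subgroup of a simple group -/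
theorem card_fixedBy_ne_index [IsSimpleGroup G] (K : Subgroup G) (hK : K ≠ ⊤) (c : G) (hc : c ≠ 1) :
    Nat.card (fixedBy (G ⧸ K) c) ≠ K.index := by
  intro h
  apply hc
  apply eq_one_of_smul_eq K hK
  apply smul_eq_of_card_fixedBy
  rw [h, Subgroup.index]

theorem isPGroup_zpowers_of_orderOf_prime (q : ℕ) [Fact q.Prime] (c : G) (hc : orderOf c = q) :
    IsPGroup q (Subgroup.zpowers c) := by
  apply IsPGroup.of_card (n := 1)
  rw [Nat.card_zpowers, hc, pow_one]

/-- the case of `8` Sylow `7`-subgroups -/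
theorem case8 [IsSimpleGroup G] [Fact (Nat.Prime 7)] (P : Sylow 7 G)
    (hP : Nat.card ↥(P : Subgroup G) = 7)
    (hidx : (Subgroup.normalizer ((P : Subgroup G) : Set G)).index = 8)
    (h5 : 5 ∣ Nat.card ↥(Subgroup.centralizer ((P : Subgroup G) : Set G))) : False := by
  haveI : Fact (Nat.Prime 5) := ⟨by norm_num⟩
  set N := Subgroup.normalizer ((P : Subgroup G) : Set G) with hN
  have hNtop : N ≠ ⊤ := by
    intro h
    rw [h, Subgroup.index_top] at hidx
    omega
  obtain ⟨c, hcC, hc⟩ := exists_prime_order_mem _ 5 h5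
  have hc1 : c ≠ 1 := by
    rintro rfl
    rw [orderOf_one] at hc
    omega
  have h7 := card_fixedBy_modEq_one P hP c hcC
  have h5' := card_modEq_card_fixedBy (X := G ⧸ N) c (isPGroup_zpowers_of_orderOf_prime 5 c hc)
  have hX : Nat.card (G ⧸ N) = 8 := hidx
  have hle := card_fixedBy_le (X := G ⧸ N) c
  have hne := card_fixedBy_ne_index N hNtop c hc1
  rw [← hN] at h7
  rw [hX] at h5' hle
  rw [hidx] at hne
  unfold Nat.ModEq at h7 h5'
  omega

/-- the case of `15` Sylow `7`-subgroups -/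
theorem case15 [IsSimpleGroup G] (hG2 : 2 < Nat.card G) [Fact (Nat.Prime 7)] (P : Sylow 7 G)
    (hP : Nat.card ↥(P : Subgroup G) = 7)
    (hidx : (Subgroup.normalizer ((P : Subgroup G) : Set G)).index = 15)
    (h2 : 2 ∣ Nat.card ↥(Subgroup.centralizer ((P : Subgroup G) : Set G))) : False := by
  set N := Subgroup.normalizer ((P : Subgroup G) : Set G) with hN
  have hNtop : N ≠ ⊤ := by
    intro h
    rw [h, Subgroup.index_top] at hidx
    omega
  obtain ⟨c, hcC, hc⟩ := Cfsg.Agent.Lib.Helper19.Ord4032.exists_invol_mem _ h2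
  obtain ⟨h1, ⟨s, ⟨k, hk⟩, hs⟩, h3⟩ := invol_fix_data hG2 P hP hNtop c hcC hc
  rw [← hN, hidx] at hs h3
  rw [← hN] at h1
  omega


/-- conjugate elements have the same number of fixed points -/
theorem card_fixedBy_conj {X : Type*} [MulAction G X] (t g : G) :
    Nat.card (fixedBy X (g⁻¹ * t * g)) = Nat.card (fixedBy X t) := by
  refine Nat.card_congr
    { toFun := fun a => ⟨g • a.1, ?_⟩
      invFun := fun a => ⟨g⁻¹ • a.1, ?_⟩
      left_inv := fun a => by apply Subtype.ext; simp
      right_inv := fun a => by apply Subtype.ext; simp }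
  · have ha := a.2
    rw [mem_fixedBy] at ha ⊢
    calc t • g • a.1 = g • ((g⁻¹ * t * g) • a.1) := by simp [mul_smul]
      _ = g • a.1 := by rw [ha]
  · have ha := a.2
    rw [mem_fixedBy] at ha ⊢
    calc (g⁻¹ * t * g) • g⁻¹ • a.1 = g⁻¹ • (t • a.1) := by simp [mul_smul]
      _ = g⁻¹ • a.1 := by rw [ha]

/-- **orbit bound**: an involution of `N(P)` inverting the Sylow subgroup `P` of prime order `7` has at
most one fixed point in each `P`-orbit on the cosets of `N(P)` -/
theorem invert_fix_bound [Fact (Nat.Prime 7)] (P : Sylow 7 G)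
    (hP : Nat.card ↥(P : Subgroup G) = 7) (s : G) (hs : s * s = 1)
    (hinv : ∀ z ∈ (P : Subgroup G), s * z * s⁻¹ = z⁻¹) :
    7 * (Nat.card (fixedBy (G ⧸ Subgroup.normalizer ((P : Subgroup G) : Set G)) s) - 1) + 1 ≤
      (Subgroup.normalizer ((P : Subgroup G) : Set G)).index := by
  classical
  set N := Subgroup.normalizer ((P : Subgroup G) : Set G) with hN
  set o : G ⧸ N := ((1 : G) : G ⧸ N) with ho
  have hsinv : s⁻¹ = s := inv_eq_of_mul_eq_one_left hs
  -- the fixed points other than the base point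
  set F' : Set (G ⧸ N) := fixedBy (G ⧸ N) s \ {o} with hF'
  have hF'card : Nat.card (fixedBy (G ⧸ N) s) - 1 ≤ Nat.card ↥F' := by
    rw [Nat.card_coe_set_eq, Nat.card_coe_set_eq, hF']
    have := Set.ncard_sdiff_singleton_le (fixedBy (G ⧸ N) s) o
    have h2 := Set.ncard_le_ncard_sdiff_add_ncard (fixedBy (G ⧸ N) s) {o} (Set.toFinite _)
    rw [Set.ncard_singleton] at h2
    omega
  -- elements of `P` fixing a point other than the base point are trivial
  have hfix : ∀ x ∈ (P : Subgroup G), ∀ a : G ⧸ N, a ≠ o → x • a = a → x = 1 := by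
    intro x hx a hao hxa
    by_contra hx1
    apply hao
    obtain ⟨h, rfl⟩ := QuotientGroup.mk_surjective a
    rw [Cfsg.Agent.S1018.smul_mk_eq_iff] at hxa
    -- `x` generates `P`
    have hgen : Subgroup.zpowers x = (P : Subgroup G) := by
      apply Subgroup.eq_of_le_of_card_ge
      · rw [Subgroup.zpowers_le]; exact hx
      · rw [Nat.card_zpowers, hP]
        have h1 := Subgroup.orderOf_dvd_natCard _ hx
        rw [hP] at h1
        rcases (Nat.dvd_prime (by norm_num : Nat.Prime 7)).mp h1 with h' | h'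
        · exact absurd (orderOf_eq_one_iff.mp h') hx1
        · rw [h']
    have hmem : h⁻¹ ∈ N := by
      apply mem_normalizer_of_conj_le P
      intro z hz
      rw [← hgen] at hz
      obtain ⟨k, rfl⟩ := hz
      simp only [inv_inv]
      have e : h⁻¹ * x ^ k * h = (h⁻¹ * x * h) ^ k := by
        have := conj_zpow (a := h⁻¹) (b := x) (i := k)
        rw [inv_inv] at this
        exact this.symm
      rw [e]
      exact N.zpow_mem hxa k
    rw [ho, QuotientGroup.eq]
    simpa using hmem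
  -- the injection `P × F' → X \ {o}`
  have hinj : Function.Injective
      (fun q : ↥(P : Subgroup G) × ↥F' => (⟨(q.1 : G) • (q.2 : G ⧸ N), by
        intro h
        have hq2 := q.2.2
        apply hq2.2
        rw [Set.mem_singleton_iff] at h ⊢
        have hqN : (q.1 : G)⁻¹ ∈ N := N.inv_mem (Subgroup.le_normalizer q.1.2)
        calc (q.2 : G ⧸ N) = (q.1 : G)⁻¹ • ((q.1 : G) • (q.2 : G ⧸ N)) := by rw [inv_smul_smul]
          _ = (q.1 : G)⁻¹ • o := by rw [h]
          _ = o := by
            rw [ho, Cfsg.Agent.S1018.smul_mk_eq_iff]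
            simpa using hqN⟩ : {a : G ⧸ N // a ∉ ({o} : Set (G ⧸ N))})) := by
    rintro ⟨g1, a1⟩ ⟨g2, a2⟩ h
    have h' : (g1 : G) • (a1 : G ⧸ N) = (g2 : G) • (a2 : G ⧸ N) := congrArg Subtype.val h
    set g : G := (g2 : G)⁻¹ * (g1 : G) with hg
    have hgP : g ∈ (P : Subgroup G) := (P : Subgroup G).mul_mem ((P : Subgroup G).inv_mem g2.2) g1.2
    have ha2 : (a2 : G ⧸ N) = g • (a1 : G ⧸ N) := by
      rw [hg, mul_smul, h', inv_smul_smul]
    have hs1 : s • (a1 : G ⧸ N) = a1 := a1.2.1
    have hs2 : s • (a2 : G ⧸ N) = a2 := a2.2.1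
    have hgg : (g * g) • (a1 : G ⧸ N) = a1 := by
      have e : g * g = s⁻¹ * (g⁻¹ * (s * g)) := by
        have h1 := hinv g⁻¹ ((P : Subgroup G).inv_mem hgP)
        rw [inv_inv] at h1
        -- `s g⁻¹ s⁻¹ = g`
        calc g * g = (s * g⁻¹ * s⁻¹) * g := by rw [h1]
          _ = s⁻¹ * (g⁻¹ * (s * g)) := by rw [hsinv]; group
      rw [e, mul_smul, mul_smul, mul_smul, ← ha2, hs2, ha2, inv_smul_smul, hsinv, hs1]
    have hgg1 : g * g = 1 :=
      hfix (g * g) ((P : Subgroup G).mul_mem hgP hgP) a1 (fun h0 => a1.2.2 h0) hgg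
    have hg1 : g = 1 := by
      have h1 : orderOf g ∣ 2 := orderOf_dvd_of_pow_eq_one (by rw [pow_two]; exact hgg1)
      have h2 : orderOf g ∣ 7 := by
        have := Subgroup.orderOf_dvd_natCard _ hgP
        rwa [hP] at this
      have h3 : orderOf g ∣ Nat.gcd 2 7 := Nat.dvd_gcd h1 h2
      have h4 : Nat.gcd 2 7 = 1 := by norm_num
      rw [h4, Nat.dvd_one] at h3
      exact orderOf_eq_one_iff.mp h3
    have hg12 : (g1 : G) = g2 := by
      have : (g2 : G)⁻¹ * (g1 : G) = 1 := hg1
      calc (g1 : G) = (g2 : G) * ((g2 : G)⁻¹ * (g1 : G)) := by group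
        _ = g2 := by rw [this, mul_one]
    have ha12 : (a1 : G ⧸ N) = a2 := by
      rw [ha2, hg1, one_smul]
    exact Prod.ext (Subtype.ext hg12) (Subtype.ext ha12)
  have hcard := Nat.card_le_card_of_injective _ hinj
  rw [Nat.card_prod, hP] at hcard
  have hcompl : Nat.card {a : G ⧸ N // a ∉ ({o} : Set (G ⧸ N))} + 1 = N.index := by
    have h1 : Nat.card {a : G ⧸ N // a ∉ ({o} : Set (G ⧸ N))} = Nat.card ↥(({o} : Set (G ⧸ N))ᶜ) := rfl
    rw [h1, Nat.card_coe_set_eq, Set.ncard_compl, Set.ncard_singleton, Subgroup.index]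
    have : 0 < Nat.card (G ⧸ N) := Nat.card_pos
    omega
  have : 7 * (Nat.card (fixedBy (G ⧸ N) s) - 1) ≤ 7 * Nat.card ↥F' := Nat.mul_le_mul_left 7 hF'card
  omega


/-- a fixed coset other than the base coset, when there are at least two fixed cosets -/
theorem exists_fixed_ne (K : Subgroup G) (t : G) (h : 2 ≤ Nat.card (fixedBy (G ⧸ K) t)) :
    ∃ g : G, g ∉ K ∧ g⁻¹ * t * g ∈ K := by
  by_contra hcon
  push Not at hcon
  have hsub : Subsingleton (fixedBy (G ⧸ K) t) := by
    refine ⟨fun a b => ?_⟩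
    have key : ∀ c : fixedBy (G ⧸ K) t, (c : G ⧸ K) = ((1 : G) : G ⧸ K) := by
      intro c
      obtain ⟨g, hg⟩ := QuotientGroup.mk_surjective (c : G ⧸ K)
      have hc := c.2
      rw [mem_fixedBy, ← hg, Cfsg.Agent.S1018.smul_mk_eq_iff] at hc
      have hgK : g ∈ K := by
        by_contra hgK
        exact hcon g hgK hc
      rw [← hg, QuotientGroup.eq]
      simpa using K.inv_mem hgK
    apply Subtype.ext
    rw [key a, key b]
  have := Finite.card_le_one_iff_subsingleton.mpr hsub
  omega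

/-- a subgroup of order `4` of `N` containing a given involution, inside `N ⊓ C(t)` -/
theorem four_dvd_card_inf_centralizer (N : Subgroup G) (t : G) (htN : t ∈ N) (ht : orderOf t = 2)
    (h4 : 4 ∣ Nat.card ↥N) :
    4 ∣ Nat.card ↥(N ⊓ Subgroup.centralizer ({t} : Set G)) := by
  haveI : Fact (Nat.Prime 2) := ⟨Nat.prime_two⟩
  have hH : Nat.card ↥(Subgroup.zpowers (⟨t, htN⟩ : ↥N)) = 2 ^ 1 := by
    rw [Nat.card_zpowers, Subgroup.orderOf_mk, ht, pow_one]
  obtain ⟨K, hK, hle⟩ := Sylow.exists_subgroup_card_pow_prime_le 2 (G := ↥N) (n := 1) (m := 2)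
    (by simpa using h4) (Subgroup.zpowers (⟨t, htN⟩ : ↥N)) hH (by norm_num)
  have hcomm := comm_of_card_prime_sq (p := 2) K (by rw [hK])
  have htK : (⟨t, htN⟩ : ↥N) ∈ K := hle (Subgroup.mem_zpowers _)
  have hmap : K.map N.subtype ≤ N ⊓ Subgroup.centralizer ({t} : Set G) := by
    rintro _ ⟨x, hx, rfl⟩
    refine Subgroup.mem_inf.mpr ⟨x.2, ?_⟩
    rw [Subgroup.mem_centralizer_singleton_iff]
    have := hcomm x hx ⟨t, htN⟩ htK
    have h' := congrArg Subtype.val this
    simpa using h'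
  have hc : Nat.card ↥(K.map N.subtype) = 4 := by
    rw [Subgroup.card_map_of_injective N.subtype_injective, hK]; norm_num
  rw [← hc]
  exact Subgroup.card_dvd_of_le hmap

theorem arith36 (ν κ m j : ℕ) (hsyl : ν * κ = m) (hmod : ν % 7 = 1) (hform : 8 * 140 = j * m)
    (hm : m ∣ 5040) (h140 : κ ∣ 140) (h7 : 7 ∣ κ) (h4 : 4 ∣ κ) : ν = 1 := by
  have hκ28 : 28 ∣ κ := Nat.Coprime.mul_dvd_of_dvd_of_dvd (by norm_num) h4 h7
  obtain ⟨u, rfl⟩ := hκ28
  have hu : u ∣ 5 := by
    have : 28 * u ∣ 28 * 5 := h140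
    exact (Nat.mul_dvd_mul_iff_left (by norm_num)).mp this
  have hu' : u = 1 ∨ u = 5 := (Nat.dvd_prime (by norm_num)).mp hu
  subst hsyl
  rcases hu' with rfl | rfl
  · have hν40 : ν ∣ 40 := ⟨j, by nlinarith⟩
    have hle := Nat.le_of_dvd (by norm_num) hν40
    have hc : ν = 1 ∨ ν = 8 := by
      interval_cases ν <;> omega
    rcases hc with rfl | rfl
    · rfl
    · exfalso; revert hm; decide
  · have hν8 : ν ∣ 8 := ⟨j, by nlinarith⟩
    have hle := Nat.le_of_dvd (by norm_num) hν8
    have hc : ν = 1 ∨ ν = 8 := by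
      interval_cases ν <;> omega
    rcases hc with rfl | rfl
    · rfl
    · exfalso; revert hm; decide

/-- the case of `36` Sylow `7`-subgroups -/
theorem case36 [IsSimpleGroup G] (hG : Nat.card G = 5040)
    [Fact (Nat.Prime 7)] (P : Sylow 7 G) (hP : Nat.card ↥(P : Subgroup G) = 7)
    (hidx : (Subgroup.normalizer ((P : Subgroup G) : Set G)).index = 36)
    (hNc : Nat.card ↥(Subgroup.normalizer ((P : Subgroup G) : Set G)) = 140)
    (hCc : Nat.card ↥(Subgroup.centralizer ((P : Subgroup G) : Set G)) = 70) : False := by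
  have hG2 : 2 < Nat.card G := by rw [hG]; norm_num
  set N := Subgroup.normalizer ((P : Subgroup G) : Set G) with hN
  set C := Subgroup.centralizer ((P : Subgroup G) : Set G) with hC
  have hNtop : N ≠ ⊤ := by
    intro h
    rw [h, Subgroup.index_top] at hidx
    omega
  have hCN : C ≤ N := Subgroup.centralizer_le_normalizer _
  obtain ⟨t, htC, ht⟩ := Cfsg.Agent.Lib.Helper19.Ord4032.exists_invol_mem C (by rw [hCc]; norm_num)
  have htN : t ∈ N := hCN htC
  have htt : t * t = 1 := mul_self_of_orderOf_two ht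
  obtain ⟨h1, ⟨s0, ⟨k0, hk0⟩, hs0⟩, h3⟩ := invol_fix_data hG2 P hP hNtop t htC ht
  rw [← hN, hidx] at hs0 h3
  rw [← hN] at h1
  have hf : Nat.card (fixedBy (G ⧸ N) t) = 8 := by omega
  -- a second fixed coset
  obtain ⟨g, hgN, hgt⟩ := exists_fixed_ne N t (by rw [hf]; norm_num)
  set s : G := g⁻¹ * t * g with hs
  have hss : s * s = 1 := by
    rw [hs]
    calc g⁻¹ * t * g * (g⁻¹ * t * g) = g⁻¹ * (t * t) * g := by group
      _ = 1 := by rw [htt]; group
  have hsC : s ∈ C := by
    by_contra hsC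
    have hinv := invol_inverts (P : Subgroup G) hP s hss hgt hsC
    have hb := invert_fix_bound P hP s hss hinv
    rw [← hN, hidx, hs, card_fixedBy_conj, hf] at hb
    omega
  -- the centralizer of `t`
  set M := Subgroup.centralizer ({t} : Set G) with hM
  have hPM : (P : Subgroup G) ≤ M := by
    intro x hx
    rw [hM, Subgroup.mem_centralizer_singleton_iff]
    exact (Subgroup.mem_centralizer_iff.mp htC) x hx
  have hgPM : ∀ x ∈ (P : Subgroup G), g * x * g⁻¹ ∈ M := by
    intro x hx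
    rw [hM, Subgroup.mem_centralizer_singleton_iff]
    have h := (Subgroup.mem_centralizer_iff.mp hsC) x hx
    -- `x * s = s * x`
    have e : t = g * s * g⁻¹ := by rw [hs]; group
    rw [e]
    calc g * x * g⁻¹ * (g * s * g⁻¹) = g * (x * s) * g⁻¹ := by group
      _ = g * (s * x) * g⁻¹ := by rw [h]
      _ = g * s * g⁻¹ * (g * x * g⁻¹) := by group
  have hsyl := card_sylow_subgroup_mul P M hPM
  rw [← hN] at hsyl
  have hmod7 : Nat.card (Sylow 7 ↥M) % 7 = 1 := by
    have := card_sylow_modEq_one 7 ↥M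
    unfold Nat.ModEq at this
    rw [this]
  have hform := card_fixedBy_mul_card N t
  rw [hf, hNc, ← hM] at hform
  have hMdvd : Nat.card ↥M ∣ 5040 := by rw [← hG]; exact Subgroup.card_subgroup_dvd_card M
  have hκ140 : Nat.card ↥(N ⊓ M) ∣ 140 := by
    rw [← hNc]; exact Subgroup.card_dvd_of_le inf_le_left
  have hκ7 : 7 ∣ Nat.card ↥(N ⊓ M) := by
    rw [← hP]
    exact Subgroup.card_dvd_of_le (le_inf Subgroup.le_normalizer hPM)
  have hκ4 : 4 ∣ Nat.card ↥(N ⊓ M) :=
    four_dvd_card_inf_centralizer N t htN ht (by rw [hNc]; norm_num)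
  -- the number of Sylow `7`-subgroups of `M` is one
  have hν1 : Nat.card (Sylow 7 ↥M) = 1 :=
    arith36 _ _ _ _ hsyl hmod7 hform hMdvd hκ140 hκ7 hκ4
  -- hence `M ≤ N`, and `g` normalizes `P`
  rw [hν1, one_mul] at hsyl
  have hMN : M ≤ N := by
    have : N ⊓ M = M := Subgroup.eq_of_le_of_card_ge inf_le_right (le_of_eq hsyl.symm)
    rw [← this]
    exact inf_le_left
  apply hgN
  apply mem_normalizer_of_conj_le P
  intro x hx
  exact hMN (hgPM x hx)

end Cfsg.Agent.Lib.Helper12.Ord5040
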