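import Mathlib
import Cfsg.Agent.Lib.Helper12.Ord5040A

/-!
# No simple group of order 5040, part B (helper12)

The case of `120` Sylow `7`-subgroups with `|C(P)| = 14` or `|C(P)| = 21`: a two-stage fixed point
count, first on the cosets of `N(P)`, then on the cosets of the centralizer of an element of `C(P)`.
-/

set_option autoImplicit false
set_option linter.unusedSectionVars false
set_option linter.style.haveILetI false

namespace Cfsg.Agent.Lib.Helper12.Ord5040

open MulAction Cfsg.Agent.Lib.Helper8.SmallSimple Cfsg.Agent.Lib.Helper8.SmallSimple2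
  Cfsg.Agent.Lib.Helper7 Cfsg.Agent.Lib.Helper19.Ord4032 Cfsg.Agent.Lib.Helper24.Ord4320

variable {G : Type*} [Group G] [Finite G]

/-- if `c` commutes with the `q`-group `Q` and fixes every coset fixed by `Q`, then the number of
cosets fixed by `c` is congruent to the index mod `q` -/
theorem card_fixedBy_modEq_index {q : ℕ} [Fact q.Prime] (M Q : Subgroup G) (hQ : IsPGroup q Q) (c : G)
    (hcomm : ∀ y ∈ Q, c * y = y * c)
    (hfix : ∀ a : G ⧸ M, (∀ y ∈ Q, y • a = a) → c • a = a) :
    Nat.card (fixedBy (G ⧸ M) c) ≡ M.index [MOD q] := by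
  have hinv : ∀ y ∈ Q, ∀ a ∈ fixedBy (G ⧸ M) c, y • a ∈ fixedBy (G ⧸ M) c := by
    intro y hy a ha
    rw [mem_fixedBy] at ha ⊢
    rw [smul_smul, hcomm y hy, ← smul_smul, ha]
  have h1 := card_invariant_modEq (X := G ⧸ M) Q hQ (fixedBy (G ⧸ M) c) hinv
  have h2 := card_invariant_modEq (X := G ⧸ M) Q hQ Set.univ (fun _ _ _ _ => Set.mem_univ _)
  have e1 : Nat.card ↥(Set.univ : Set (G ⧸ M)) = M.index := by
    rw [Nat.card_congr (Equiv.Set.univ _), Subgroup.index]
  have e2 : Nat.card {a : G ⧸ M // a ∈ fixedBy (G ⧸ M) c ∧ ∀ y ∈ Q, y • a = a} =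
      Nat.card {a : G ⧸ M // a ∈ (Set.univ : Set (G ⧸ M)) ∧ ∀ y ∈ Q, y • a = a} := by
    refine Nat.card_congr
      { toFun := fun a => ⟨a.1, Set.mem_univ _, a.2.2⟩
        invFun := fun a => ⟨a.1, hfix a.1 a.2.2, a.2.2⟩
        left_inv := fun a => rfl
        right_inv := fun a => rfl }
  rw [e1] at h2
  rw [e2] at h1
  exact h1.trans h2.symm

/-- a coset `gM` fixed by all of `Q` means `g⁻¹ Q g ≤ M` -/
theorem conj_mem_of_fixed (M : Subgroup G) (Q : Subgroup G) (g : G)
    (h : ∀ y ∈ Q, y • ((g : G) : G ⧸ M) = ((g : G) : G ⧸ M)) : ∀ y ∈ Q, g⁻¹ * y * g ∈ M := by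
  intro y hy
  have := h y hy
  rwa [Cfsg.Agent.S1018.smul_mk_eq_iff] at this

/-- elements of `N(H)` have their `k`-th power in `C(H)`, `k = |N(H) : C(H)|` -/
theorem pow_relIndex_mem_centralizer (H : Subgroup G) (s : G)
    (hs : s ∈ Subgroup.normalizer (H : Set G)) :
    s ^ (Subgroup.centralizer (H : Set G)).relIndex (Subgroup.normalizer (H : Set G)) ∈
      Subgroup.centralizer (H : Set G) := by
  haveI hn : ((Subgroup.centralizer (H : Set G)).subgroupOf (Subgroup.normalizer (H : Set G))).Normal := by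
    rw [← Subgroup.normalizerMonoidHom_ker]
    infer_instance
  have := Subgroup.pow_index_mem ((Subgroup.centralizer (H : Set G)).subgroupOf
    (Subgroup.normalizer (H : Set G))) (⟨s, hs⟩ : ↥(Subgroup.normalizer (H : Set G)))
  rw [Subgroup.mem_subgroupOf] at this
  exact this

/-- at most `|C| / 7` solutions of `c ^ 3 = 1` in a subgroup `C` with a central subgroup of order `7` -/
theorem card_pow_three_mul_le (P C : Subgroup G) (hP : Nat.card ↥P = 7) (hPC : P ≤ C)
    (hcent : ∀ z ∈ P, ∀ c ∈ C, z * c = c * z) :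
    Nat.card {c : G // c ∈ C ∧ c ^ 3 = 1} * 7 ≤ Nat.card ↥C := by
  rw [← hP, ← Nat.card_prod]
  refine Nat.card_le_card_of_injective
    (fun q : {c : G // c ∈ C ∧ c ^ 3 = 1} × ↥P => (⟨q.1.1 * q.2.1, C.mul_mem q.1.2.1 (hPC q.2.2)⟩ : ↥C)) ?_
  rintro ⟨j1, z1⟩ ⟨j2, z2⟩ h
  have h' : j1.1 * z1.1 = j2.1 * z2.1 := congrArg Subtype.val h
  set u : G := z2.1 * z1.1⁻¹ with hu
  have huP : u ∈ P := P.mul_mem z2.2 (P.inv_mem z1.2)
  have hj : j1.1 = j2.1 * u := by
    rw [hu]
    calc j1.1 = (j1.1 * z1.1) * z1.1⁻¹ := by group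
      _ = (j2.1 * z2.1) * z1.1⁻¹ := by rw [h']
      _ = j2.1 * (z2.1 * z1.1⁻¹) := by group
  have hcomm : Commute j2.1 u := (hcent u huP j2.1 j2.2.1).symm
  have hu3 : u ^ 3 = 1 := by
    have h1 : (j2.1 * u) ^ 3 = j2.1 ^ 3 * u ^ 3 := hcomm.mul_pow 3
    rw [← hj, j1.2.2, j2.2.2, one_mul] at h1
    exact h1.symm
  have hu1 : u = 1 := by
    have h1 : orderOf u ∣ 3 := orderOf_dvd_of_pow_eq_one hu3
    have h2 : orderOf u ∣ 7 := by
      have := Subgroup.orderOf_dvd_natCard _ huP
      rwa [hP] at this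
    have h3 : orderOf u ∣ Nat.gcd 3 7 := Nat.dvd_gcd h1 h2
    have h4 : Nat.gcd 3 7 = 1 := by norm_num
    rw [h4, Nat.dvd_one] at h3
    exact orderOf_eq_one_iff.mp h3
  have hz : z1.1 = z2.1 := by
    have : z2.1 * z1.1⁻¹ = 1 := hu1
    calc z1.1 = (z2.1 * z1.1⁻¹)⁻¹ * z2.1 := by group
      _ = z2.1 := by rw [this, inv_one, one_mul]
  have hj' : j1.1 = j2.1 := by rw [hj, hu1, mul_one]
  exact Prod.ext (Subtype.ext hj') (Subtype.ext hz)


theorem orderOf_two_of_isConj {t u : G} (ht : orderOf t = 2) (h : IsConj t u) : orderOf u = 2 := by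
  have htt : t * t = 1 := mul_self_of_orderOf_two ht
  have huu : u * u = 1 := by
    obtain ⟨c, rfl⟩ := isConj_iff.mp h
    calc c * t * c⁻¹ * (c * t * c⁻¹) = c * (t * t) * c⁻¹ := by group
      _ = 1 := by rw [htt]; group
  apply orderOf_eq_prime
  · rw [pow_two]; exact huu
  · rintro rfl
    rw [isConj_one_left] at h
    rw [h, orderOf_one] at ht
    omega

theorem arith14 (f m : ℕ) (h1 : f % 7 = 1) (s0 : ℕ) (h4 : 4 ∣ s0) (hs0 : s0 + f = 120)
    (hne : f ≠ 120) (hform : f * 42 = m) (hm : m ∣ 5040) : f = 8 := by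
  subst hform
  have hf : f ∣ 120 := by
    have : f * 42 ∣ 120 * 42 := hm
    exact (Nat.mul_dvd_mul_iff_right (by norm_num)).mp this
  have hle : f ≤ 120 := by omega
  obtain ⟨k, rfl⟩ := h4
  have h7 : f = 1 ∨ f = 8 ∨ f = 15 ∨ f = 22 ∨ f = 29 ∨ f = 36 ∨ f = 43 ∨ f = 50 ∨ f = 57 ∨
      f = 64 ∨ f = 71 ∨ f = 78 ∨ f = 85 ∨ f = 92 ∨ f = 99 ∨ f = 106 ∨ f = 113 := by omega
  rcases h7 with rfl | rfl | rfl | rfl | rfl | rfl | rfl | rfl | rfl | rfl | rfl | rfl | rfl |
    rfl | rfl | rfl | rfl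
  all_goals first | rfl | omega

/-- the case of `120` Sylow `7`-subgroups with `|C(P)| = 14` -/
theorem case120_14 [IsSimpleGroup G] (hG : Nat.card G = 5040)
    [Fact (Nat.Prime 7)] (P : Sylow 7 G) (hP : Nat.card ↥(P : Subgroup G) = 7)
    (hidx : (Subgroup.normalizer ((P : Subgroup G) : Set G)).index = 120)
    (hNc : Nat.card ↥(Subgroup.normalizer ((P : Subgroup G) : Set G)) = 42)
    (hCc : Nat.card ↥(Subgroup.centralizer ((P : Subgroup G) : Set G)) = 14)
    (hrel : (Subgroup.centralizer ((P : Subgroup G) : Set G)).relIndex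
      (Subgroup.normalizer ((P : Subgroup G) : Set G)) = 3) : False := by
  have hG2 : 2 < Nat.card G := by rw [hG]; norm_num
  set N := Subgroup.normalizer ((P : Subgroup G) : Set G) with hN
  set C := Subgroup.centralizer ((P : Subgroup G) : Set G) with hC
  have hNtop : N ≠ ⊤ := by
    intro h
    rw [h, Subgroup.index_top] at hidx
    omega
  have hCN : C ≤ N := Subgroup.centralizer_le_normalizer _
  obtain ⟨t, htC, ht⟩ := Cfsg.Agent.Lib.Helper19.Ord4032.exists_invol_mem C (by rw [hCc]; norm_num)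
  have htN : t ∈ N := hCN htC
  have htt : t * t = 1 := mul_self_of_orderOf_two ht
  have ht1 : t ≠ 1 := by
    rintro rfl
    rw [orderOf_one] at ht
    omega
  obtain ⟨h1, ⟨s0, h4, hs0⟩, h3⟩ := invol_fix_data hG2 P hP hNtop t htC ht
  rw [← hN, hidx] at hs0 h3
  rw [← hN] at h1
  have huniq : ∀ s ∈ C, orderOf s = 2 → s = t := fun s hs hs2 =>
    invol_unique_of_card (p := 7) (by norm_num) (P : Subgroup G) hP (by rw [← hC, hCc]) s t hs htC hs2 ht
  -- the only conjugate of `t` in `N` is `t`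
  have hconjN : ∀ s ∈ N, IsConj t s → s = t := by
    intro s hsN hconj
    have hs2 : orderOf s = 2 := orderOf_two_of_isConj ht hconj
    have hss : s * s = 1 := mul_self_of_orderOf_two hs2
    have h3' := pow_relIndex_mem_centralizer (P : Subgroup G) s hsN
    rw [← hC, ← hN, hrel] at h3'
    have e : s ^ 3 = s := by
      rw [pow_succ, pow_two, hss, one_mul]
    rw [e] at h3'
    exact huniq s h3' hs2
  have hj : Nat.card {s : G // s ∈ N ∧ IsConj t s} = 1 := by
    rw [Nat.card_eq_one_iff_unique]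
    refine ⟨⟨fun a b => ?_⟩, ⟨⟨t, htN, IsConj.refl t⟩⟩⟩
    apply Subtype.ext
    rw [hconjN a.1 a.2.1 a.2.2, hconjN b.1 b.2.1 b.2.2]
  set M := Subgroup.centralizer ({t} : Set G) with hM
  have hform := card_fixedBy_mul_card N t
  rw [hNc, hj, one_mul, ← hM] at hform
  have hMdvd : Nat.card ↥M ∣ 5040 := by rw [← hG]; exact Subgroup.card_subgroup_dvd_card M
  have hf : Nat.card (fixedBy (G ⧸ N) t) = 8 := arith14 _ _ h1 s0 h4 hs0 h3 hform hMdvd
  rw [hf] at hform
  have hMc : Nat.card ↥M = 336 := by omega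
  have hMidx : M.index = 15 := by
    have := M.card_mul_index
    rw [hMc, hG] at this
    omega
  have hMtop : M ≠ ⊤ := by
    intro h
    rw [h, Subgroup.index_top] at hMidx
    omega
  -- second stage: the cosets of `M`
  have hcomm : ∀ y ∈ (P : Subgroup G), t * y = y * t := fun y hy =>
    ((Subgroup.mem_centralizer_iff.mp htC) y hy).symm
  have hfix : ∀ a : G ⧸ M, (∀ y ∈ (P : Subgroup G), y • a = a) → t • a = a := by
    intro a ha
    obtain ⟨g, rfl⟩ := QuotientGroup.mk_surjective a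
    have hmem := conj_mem_of_fixed M (P : Subgroup G) g ha
    -- `g t g⁻¹` centralizes `P`
    have hgC : g * t * g⁻¹ ∈ C := by
      rw [hC, Subgroup.mem_centralizer_iff]
      intro y hy
      have h := hmem y hy
      rw [hM, Subgroup.mem_centralizer_singleton_iff] at h
      -- `g⁻¹ y g * t = t * g⁻¹ y g`
      calc y * (g * t * g⁻¹) = g * ((g⁻¹ * y * g) * t) * g⁻¹ := by group
        _ = g * (t * (g⁻¹ * y * g)) * g⁻¹ := by rw [h]
        _ = g * t * g⁻¹ * y := by group
    have hg2 : orderOf (g * t * g⁻¹) = 2 :=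
      orderOf_two_of_isConj ht (isConj_iff.mpr ⟨g, rfl⟩)
    have hgt : g * t * g⁻¹ = t := huniq _ hgC hg2
    rw [Cfsg.Agent.S1018.smul_mk_eq_iff, hM, Subgroup.mem_centralizer_singleton_iff]
    have e : g⁻¹ * t * g = t := by
      calc g⁻¹ * t * g = g⁻¹ * (g * t * g⁻¹) * g := by rw [hgt]
        _ = t := by group
    rw [e]
  have hm7 := card_fixedBy_modEq_index M (P : Subgroup G) P.isPGroup' t hcomm hfix
  have ht2 : t ^ 2 = 1 := by rw [pow_two]; exact htt
  obtain ⟨s1, h41, hs1⟩ := four_dvd_moved hG2 M t ht2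
  have hne := card_fixedBy_ne_index M hMtop t ht1
  rw [hMidx] at hm7 hs1 hne
  unfold Nat.ModEq at hm7
  omega


theorem arith21 (f m j : ℕ) (h7 : f % 7 = 1) (h3 : 120 % 3 = f % 3) (hle : f ≤ 120) (hne : f ≠ 120)
    (hj1 : 1 ≤ j) (hj2 : j ≤ 2) (hform : f * 42 = j * m) (hm : m ∣ 5040) :
    f = 15 ∧ (m = 630 ∨ m = 315) := by
  have hc : f = 15 ∨ f = 36 ∨ f = 57 ∨ f = 78 ∨ f = 99 := by omega
  have hj : j = 1 ∨ j = 2 := by omega
  rcases hj with rfl | rfl
  · rcases hc with rfl | rfl | rfl | rfl | rfl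
    · exact ⟨rfl, Or.inl (by omega)⟩
    · exfalso
      obtain rfl : m = 1512 := by omega
      revert hm; decide
    · exfalso
      obtain rfl : m = 2394 := by omega
      revert hm; decide
    · exfalso
      obtain rfl : m = 3276 := by omega
      revert hm; decide
    · exfalso
      obtain rfl : m = 4158 := by omega
      revert hm; decide
  · rcases hc with rfl | rfl | rfl | rfl | rfl
    · exact ⟨rfl, Or.inr (by omega)⟩
    · exfalso
      obtain rfl : m = 756 := by omega
      revert hm; decide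
    · exfalso
      obtain rfl : m = 1197 := by omega
      revert hm; decide
    · exfalso
      obtain rfl : m = 1638 := by omega
      revert hm; decide
    · exfalso
      obtain rfl : m = 2079 := by omega
      revert hm; decide

/-- the solutions of `c ^ 3 = 1` in `C(P)` when `|C(P)| = 21` -/
theorem cube_roots_of_card_21 [Fact (Nat.Prime 7)] (P : Sylow 7 G)
    (hP : Nat.card ↥(P : Subgroup G) = 7)
    (hCc : Nat.card ↥(Subgroup.centralizer ((P : Subgroup G) : Set G)) = 21) (z : G)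
    (hzC : z ∈ Subgroup.centralizer ((P : Subgroup G) : Set G)) (hz : orderOf z = 3) :
    ∀ c ∈ Subgroup.centralizer ((P : Subgroup G) : Set G), c ^ 3 = 1 → c = 1 ∨ c = z ∨ c = z⁻¹ := by
  classical
  set C := Subgroup.centralizer ((P : Subgroup G) : Set G) with hC
  have hcommP := comm_of_card_prime (P : Subgroup G) hP
  have hPC : (P : Subgroup G) ≤ C := by
    intro x hx
    rw [hC, Subgroup.mem_centralizer_iff]
    intro y hy
    exact hcommP y hy x hx
  have hcent : ∀ x ∈ (P : Subgroup G), ∀ c ∈ C, x * c = c * x := by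
    intro x hx c hc
    exact (Subgroup.mem_centralizer_iff.mp hc) x hx
  have hle := card_pow_three_mul_le (P : Subgroup G) C hP hPC hcent
  rw [hCc] at hle
  have hle3 : Nat.card {c : G // c ∈ C ∧ c ^ 3 = 1} ≤ 3 := by omega
  letI : Fintype G := Fintype.ofFinite G
  have hz3 : z ^ 3 = 1 := by rw [← hz]; exact pow_orderOf_eq_one z
  have hz1 : z ≠ 1 := by
    rintro rfl
    rw [orderOf_one] at hz
    omega
  have hzi1 : z⁻¹ ≠ 1 := fun h => hz1 (inv_eq_one.mp h)
  have hzzi : z ≠ z⁻¹ := by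
    intro h
    have h2 : z ^ 2 = 1 := by
      rw [pow_two]
      calc z * z = z * z⁻¹ := by rw [← h]
        _ = 1 := mul_inv_cancel z
    apply hz1
    calc z = z ^ 3 * (z ^ 2)⁻¹ := by group
      _ = 1 := by rw [hz3, h2]; simp
  set T : Finset G := Finset.univ.filter (fun c : G => c ∈ C ∧ c ^ 3 = 1) with hT
  have hTcard : T.card ≤ 3 := by
    rw [hT, ← Fintype.card_subtype, ← Nat.card_eq_fintype_card]
    exact hle3
  have hS : ({1, z, z⁻¹} : Finset G) ⊆ T := by
    intro c hc
    simp only [Finset.mem_insert, Finset.mem_singleton] at hc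
    rw [hT, Finset.mem_filter]
    refine ⟨Finset.mem_univ _, ?_⟩
    rcases hc with rfl | rfl | rfl
    · exact ⟨C.one_mem, one_pow 3⟩
    · exact ⟨hzC, hz3⟩
    · exact ⟨C.inv_mem hzC, by rw [inv_pow, hz3, inv_one]⟩
  have hScard : ({1, z, z⁻¹} : Finset G).card = 3 := by
    rw [Finset.card_insert_of_notMem, Finset.card_insert_of_notMem, Finset.card_singleton]
    · simpa using hzzi
    · simp only [Finset.mem_insert, Finset.mem_singleton, not_or]
      exact ⟨hz1.symm, hzi1.symm⟩
  have hEq : ({1, z, z⁻¹} : Finset G) = T :=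
    Finset.eq_of_subset_of_card_le hS (by rw [hScard]; exact hTcard)
  intro c hc hc3
  have : c ∈ T := by
    rw [hT, Finset.mem_filter]
    exact ⟨Finset.mem_univ _, hc, hc3⟩
  rw [← hEq] at this
  simpa using this

/-- the case of `120` Sylow `7`-subgroups with `|C(P)| = 21` -/
theorem case120_21 [IsSimpleGroup G] (hG : Nat.card G = 5040)
    [Fact (Nat.Prime 7)] (P : Sylow 7 G) (hP : Nat.card ↥(P : Subgroup G) = 7)
    (hidx : (Subgroup.normalizer ((P : Subgroup G) : Set G)).index = 120)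
    (hNc : Nat.card ↥(Subgroup.normalizer ((P : Subgroup G) : Set G)) = 42)
    (hCc : Nat.card ↥(Subgroup.centralizer ((P : Subgroup G) : Set G)) = 21)
    (hrel : (Subgroup.centralizer ((P : Subgroup G) : Set G)).relIndex
      (Subgroup.normalizer ((P : Subgroup G) : Set G)) = 2) : False := by
  classical
  haveI : Fact (Nat.Prime 3) := ⟨by norm_num⟩
  set N := Subgroup.normalizer ((P : Subgroup G) : Set G) with hN
  set C := Subgroup.centralizer ((P : Subgroup G) : Set G) with hC
  have hNtop : N ≠ ⊤ := by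
    intro h
    rw [h, Subgroup.index_top] at hidx
    omega
  have hCN : C ≤ N := Subgroup.centralizer_le_normalizer _
  obtain ⟨z, hzC, hz⟩ := exists_prime_order_mem C 3 (by rw [hCc]; norm_num)
  have hzN : z ∈ N := hCN hzC
  have hz3 : z ^ 3 = 1 := by rw [← hz]; exact pow_orderOf_eq_one z
  have hz1 : z ≠ 1 := by
    rintro rfl
    rw [orderOf_one] at hz
    omega
  have hpg : IsPGroup 3 (Subgroup.zpowers z) := isPGroup_zpowers_of_orderOf_prime 3 z hz
  have h7 := card_fixedBy_modEq_one P hP z hzC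
  have h3 := card_modEq_card_fixedBy (X := G ⧸ N) z hpg
  have hX : Nat.card (G ⧸ N) = 120 := hidx
  have hle := card_fixedBy_le (X := G ⧸ N) z
  have hne := card_fixedBy_ne_index N hNtop z hz1
  rw [← hN] at h7
  rw [hX] at h3 hle
  rw [hidx] at hne
  unfold Nat.ModEq at h7 h3
  have hroots := cube_roots_of_card_21 P hP hCc z hzC hz
  rw [← hC] at hroots
  -- conjugates of `z` in `N`
  have hconjN : ∀ s ∈ N, IsConj z s → s = z ∨ s = z⁻¹ := by
    intro s hsN hconj
    obtain ⟨g, rfl⟩ := isConj_iff.mp hconj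
    have hs3 : (g * z * g⁻¹) ^ 3 = 1 := by rw [conj_pow, hz3]; group
    have hs1 : g * z * g⁻¹ ≠ 1 := by
      intro h
      apply hz1
      calc z = g⁻¹ * (g * z * g⁻¹) * g := by group
        _ = 1 := by rw [h]; group
    have h2 := pow_relIndex_mem_centralizer (P : Subgroup G) _ hsN
    rw [← hC, ← hN, hrel] at h2
    have hsC : g * z * g⁻¹ ∈ C := by
      have e : g * z * g⁻¹ = ((g * z * g⁻¹) ^ 2) ^ 2 := by
        rw [← pow_mul]
        calc g * z * g⁻¹ = (g * z * g⁻¹) ^ 3 * (g * z * g⁻¹) := by rw [hs3, one_mul]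
          _ = (g * z * g⁻¹) ^ (2 * 2) := by rw [← pow_succ]
      rw [e]
      exact C.pow_mem h2 2
    rcases hroots _ hsC hs3 with h | h | h
    · exact absurd h hs1
    · exact Or.inl h
    · exact Or.inr h
  have hj2 : Nat.card {s : G // s ∈ N ∧ IsConj z s} ≤ 2 := by
    have : Nat.card {s : G // s ∈ N ∧ IsConj z s} ≤ Nat.card Bool := by
      apply Nat.card_le_card_of_injective (fun s : {s : G // s ∈ N ∧ IsConj z s} => decide (s.1 = z))
      intro a b hab
      apply Subtype.ext
      simp only [decide_eq_decide] at hab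
      rcases hconjN a.1 a.2.1 a.2.2 with ha | ha <;> rcases hconjN b.1 b.2.1 b.2.2 with hb | hb
      · rw [ha, hb]
      · exact absurd (hab.mp ha) (by
          rw [hb]; intro h
          -- `z⁻¹ = z` is impossible
          have h2 : z ^ 2 = 1 := by
            rw [pow_two]
            calc z * z = z * z⁻¹ := by rw [h]
              _ = 1 := mul_inv_cancel z
          apply hz1
          calc z = z ^ 3 * (z ^ 2)⁻¹ := by group
            _ = 1 := by rw [hz3, h2]; simp)
      · exact absurd (hab.mpr hb) (by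
          rw [ha]; intro h
          have h2 : z ^ 2 = 1 := by
            rw [pow_two]
            calc z * z = z * z⁻¹ := by rw [h]
              _ = 1 := mul_inv_cancel z
          apply hz1
          calc z = z ^ 3 * (z ^ 2)⁻¹ := by group
            _ = 1 := by rw [hz3, h2]; simp)
      · rw [ha, hb]
    simpa using this
  have hj1 : 1 ≤ Nat.card {s : G // s ∈ N ∧ IsConj z s} := by
    rw [Nat.one_le_iff_ne_zero, Nat.card_ne_zero]
    exact ⟨⟨⟨z, hzN, IsConj.refl z⟩⟩, inferInstance⟩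
  set M := Subgroup.centralizer ({z} : Set G) with hM
  have hform := card_fixedBy_mul_card N z
  rw [hNc, ← hM] at hform
  have hMdvd : Nat.card ↥M ∣ 5040 := by rw [← hG]; exact Subgroup.card_subgroup_dvd_card M
  obtain ⟨hf, hMc⟩ := arith21 _ _ _ h7 h3 hle hne hj1 hj2 hform hMdvd
  have hzM : z ∈ M := by
    rw [hM, Subgroup.mem_centralizer_singleton_iff]
  have hMtop : M ≠ ⊤ := by
    intro h
    rw [h, Subgroup.card_top, hG] at hMc
    omega
  -- second stage: the cosets of `M`
  have hcomm : ∀ y ∈ (P : Subgroup G), z * y = y * z := fun y hy =>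
    ((Subgroup.mem_centralizer_iff.mp hzC) y hy).symm
  have hfix : ∀ a : G ⧸ M, (∀ y ∈ (P : Subgroup G), y • a = a) → z • a = a := by
    intro a ha
    obtain ⟨g, rfl⟩ := QuotientGroup.mk_surjective a
    have hmem := conj_mem_of_fixed M (P : Subgroup G) g ha
    have hgC : g * z * g⁻¹ ∈ C := by
      rw [hC, Subgroup.mem_centralizer_iff]
      intro y hy
      have h := hmem y hy
      rw [hM, Subgroup.mem_centralizer_singleton_iff] at h
      calc y * (g * z * g⁻¹) = g * ((g⁻¹ * y * g) * z) * g⁻¹ := by group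
        _ = g * (z * (g⁻¹ * y * g)) * g⁻¹ := by rw [h]
        _ = g * z * g⁻¹ * y := by group
    have hg3 : (g * z * g⁻¹) ^ 3 = 1 := by rw [conj_pow, hz3]; group
    rw [Cfsg.Agent.S1018.smul_mk_eq_iff]
    rcases hroots _ hgC hg3 with h | h | h
    · exfalso
      apply hz1
      calc z = g⁻¹ * (g * z * g⁻¹) * g := by group
        _ = 1 := by rw [h]; group
    · have e : g⁻¹ * z * g = z := by
        calc g⁻¹ * z * g = g⁻¹ * (g * z * g⁻¹) * g := by rw [h]
          _ = z := by group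
      rw [e]; exact hzM
    · have e : g⁻¹ * z * g = z⁻¹ := by
        have h' : g⁻¹ * z⁻¹ * g = z := by
          calc g⁻¹ * z⁻¹ * g = g⁻¹ * (g * z * g⁻¹) * g := by rw [h]
            _ = z := by group
        calc g⁻¹ * z * g = (g⁻¹ * z⁻¹ * g)⁻¹ := by group
          _ = z⁻¹ := by rw [h']
      rw [e]; exact M.inv_mem hzM
  have hm7 := card_fixedBy_modEq_index M (P : Subgroup G) P.isPGroup' z hcomm hfix
  have hm3 := card_modEq_card_fixedBy (X := G ⧸ M) z hpg
  have hle' := card_fixedBy_le (X := G ⧸ M) z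
  have hne' := card_fixedBy_ne_index M hMtop z hz1
  have hXM : Nat.card (G ⧸ M) = M.index := rfl
  rw [hXM] at hm3 hle'
  have hidxM : M.index = 8 ∨ M.index = 16 := by
    have := M.card_mul_index
    rw [hG] at this
    rcases hMc with h | h <;> rw [h] at this
    · left; omega
    · right; omega
  unfold Nat.ModEq at hm7 hm3
  rcases hidxM with h | h <;> rw [h] at hm7 hm3 hle' hne' <;> omega

end Cfsg.Agent.Lib.Helper12.Ord5040
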