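import Mathlib
import Cfsg.Agent.Lib.Helper12.Ord5040B
import Cfsg.Agent.Lib.Helper19.Ord4032C

/-!
# No simple group of order 5040, part C (helper12)

The case of `120` Sylow `7`-subgroups with `|N(P)| = 42` and `C(P) = P`, group-theoretic part:
`N(P)` is a Frobenius group `7 : 6`; the nonidentity elements of `P` are conjugate; the dihedral
subgroup `P ∪ tP` for an involution `t ∈ N(P)`; the number of pairs of conjugates of `t` with
product a generator `y` of `P` is `7`.
-/

set_option autoImplicit false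
set_option linter.unusedSectionVars false
set_option linter.style.haveILetI false

namespace Cfsg.Agent.Lib.Helper12.Ord5040

open MulAction Cfsg.Agent.Lib.Helper8.SmallSimple Cfsg.Agent.Lib.Helper8.SmallSimple2
  Cfsg.Agent.Lib.Helper7

universe u

variable {G : Type u} [Group G]

/-- the Frobenius structure of `N(P)` when `|N(P)| = 42` and `|C(P)| = 7` -/
theorem frob_data [Finite G] [Fact (Nat.Prime 7)] (P : Sylow 7 G)
    (hP : Nat.card ↥(P : Subgroup G) = 7)
    (hN : Nat.card ↥(Subgroup.normalizer ((P : Subgroup G) : Set G)) = 42)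
    (hC : Nat.card ↥(Subgroup.centralizer ((P : Subgroup G) : Set G)) = 7) :
    ∃ t y : G, orderOf t = 2 ∧ t ∈ Subgroup.normalizer ((P : Subgroup G) : Set G) ∧
      t ∉ (P : Subgroup G) ∧ orderOf y = 7 ∧ y ∈ (P : Subgroup G) ∧
      (P : Subgroup G) = Subgroup.zpowers y ∧ t * y * t⁻¹ = y⁻¹ ∧
      Subgroup.centralizer ({y} : Set G) = (P : Subgroup G) ∧
      (∀ x ∈ (P : Subgroup G), x ≠ 1 → IsConj x y) ∧
      (∀ u : G, t * u ∈ (P : Subgroup G) → IsConj t u) := by
  haveI : Fact (Nat.Prime 2) := ⟨Nat.prime_two⟩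
  set N := Subgroup.normalizer ((P : Subgroup G) : Set G) with hNdef
  set C := Subgroup.centralizer ((P : Subgroup G) : Set G) with hCdef
  have hcommP := comm_of_card_prime (P : Subgroup G) hP
  have hPC : (P : Subgroup G) ≤ C := by
    intro x hx
    rw [hCdef, Subgroup.mem_centralizer_iff]
    intro z hz
    exact hcommP z hz x hx
  have hCP : C = (P : Subgroup G) := by
    symm
    apply Subgroup.eq_of_le_of_card_ge hPC
    rw [hC, hP]
  obtain ⟨t, htN, ht⟩ := Cfsg.Agent.Lib.Helper19.Ord4032.exists_invol_mem N (by rw [hN]; norm_num)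
  have htP : t ∉ (P : Subgroup G) := by
    intro h
    have := orderOf_dvd_natCard (⟨t, h⟩ : ↥(P : Subgroup G))
    rw [hP, Subgroup.orderOf_mk, ht] at this
    omega
  obtain ⟨y, hyP, hy⟩ :=
    Cfsg.Agent.Lib.Helper19.Ord4032.exists_prime_order_mem (P : Subgroup G) 7 (by rw [hP])
  have hPy : (P : Subgroup G) = Subgroup.zpowers y := by
    symm
    apply Subgroup.eq_of_le_of_card_ge
    · rw [Subgroup.zpowers_le]; exact hyP
    · rw [Nat.card_zpowers, hy, hP]
  have htt : t * t = 1 := mul_self_of_orderOf_two ht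
  have hti : t⁻¹ = t := inv_of_orderOf_two ht
  have htyP : t * y * t⁻¹ ∈ (P : Subgroup G) := (Subgroup.mem_normalizer_iff.mp htN y).mp hyP
  have hcy : Subgroup.centralizer ({y} : Set G) = (P : Subgroup G) := by
    rw [← Cfsg.Agent.Lib.Helper19.Ord4032.centralizer_zpowers_eq', ← hPy]
    exact hCP
  have hinv : t * y * t⁻¹ = y⁻¹ := by
    rcases conj_eq_or_eq_inv (p := 7) y t hy htt (by rw [← hPy]; exact htyP) with h | h
    · exfalso
      apply htP
      have := mem_centralizer_zpowers y t h
      rw [← hPy] at this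
      rw [← hCP]
      exact this
    · exact h
  have hy1 : y ≠ 1 := by
    intro h
    rw [h, orderOf_one] at hy
    omega
  have hPN : (P : Subgroup G) ≤ N := Subgroup.le_normalizer
  refine ⟨t, y, ht, htN, htP, hy, hyP, hPy, hinv, hcy, ?_, ?_⟩
  · -- the nonidentity elements of `P` are conjugate under `N`
    let f : ↥N → G := fun g => (g : G) * y * (g : G)⁻¹
    have hfib : ∀ g : ↥N, Nat.card {g' : ↥N // f g' = f g} = 7 := by
      intro g
      rw [← hP]
      apply Nat.card_congr
      refine ⟨fun g' => ⟨(g : G)⁻¹ * (g'.1 : G), ?_⟩,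
        fun p => ⟨⟨(g : G) * (p : G), N.mul_mem g.2 (hPN p.2)⟩, ?_⟩, ?_, ?_⟩
      · rw [← hcy, Subgroup.mem_centralizer_singleton_iff]
        have h : (g'.1 : G) * y * (g'.1 : G)⁻¹ = (g : G) * y * (g : G)⁻¹ := g'.2
        calc (g : G)⁻¹ * (g'.1 : G) * y
            = (g : G)⁻¹ * ((g'.1 : G) * y * (g'.1 : G)⁻¹) * (g'.1 : G) := by group
          _ = (g : G)⁻¹ * ((g : G) * y * (g : G)⁻¹) * (g'.1 : G) := by rw [h]
          _ = y * ((g : G)⁻¹ * (g'.1 : G)) := by group
      · show (g : G) * (p : G) * y * ((g : G) * (p : G))⁻¹ = (g : G) * y * (g : G)⁻¹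
        have hc : (p : G) * y = y * (p : G) := hcommP _ p.2 _ hyP
        calc (g : G) * (p : G) * y * ((g : G) * (p : G))⁻¹
            = (g : G) * ((p : G) * y) * (p : G)⁻¹ * (g : G)⁻¹ := by group
          _ = (g : G) * (y * (p : G)) * (p : G)⁻¹ * (g : G)⁻¹ := by rw [hc]
          _ = (g : G) * y * (g : G)⁻¹ := by group
      · intro g'
        apply Subtype.ext
        apply Subtype.ext
        show (g : G) * ((g : G)⁻¹ * (g'.1 : G)) = (g'.1 : G)
        group
      · intro p
        apply Subtype.ext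
        show (g : G)⁻¹ * ((g : G) * (p : G)) = (p : G)
        group
    have hcard := Cfsg.Agent.Lib.Helper19.Ord4032.card_eq_card_range_mul f 7 hfib
    rw [hN] at hcard
    have hr6 : (Set.range f).ncard = 6 := by
      rw [← Nat.card_coe_set_eq]
      omega
    have hsub : Set.range f ⊆ ((P : Subgroup G) : Set G) \ {1} := by
      rintro _ ⟨g, rfl⟩
      refine ⟨(Subgroup.mem_normalizer_iff.mp g.2 y).mp hyP, ?_⟩
      intro h
      apply hy1
      have h' : (g : G) * y * (g : G)⁻¹ = 1 := h
      calc y = (g : G)⁻¹ * ((g : G) * y * (g : G)⁻¹) * (g : G) := by group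
        _ = 1 := by rw [h']; group
    have hPn : (((P : Subgroup G) : Set G)).ncard = 7 := by
      rw [← Nat.card_coe_set_eq]
      exact hP
    have hS : (((P : Subgroup G) : Set G) \ {1}).ncard = 6 := by
      rw [Set.ncard_sdiff_singleton_of_mem (show (1 : G) ∈ ((P : Subgroup G) : Set G) from
        (P : Subgroup G).one_mem), hPn]
    have heq : Set.range f = ((P : Subgroup G) : Set G) \ {1} :=
      Set.eq_of_subset_of_ncard_le hsub (by rw [hS, hr6]) (Set.toFinite _)
    intro x hx hx1
    have hxm : x ∈ Set.range f := by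
      rw [heq]
      exact ⟨hx, hx1⟩
    obtain ⟨g, hg⟩ := hxm
    exact (isConj_iff.mpr ⟨(g : G), hg⟩).symm
  · -- the coset `tP` consists of conjugates of `t`
    intro u hu
    have hmem' : t * u ∈ Subgroup.zpowers y := by
      rw [← hPy]
      exact hu
    obtain ⟨k, hk⟩ := hmem'
    have hk' : y ^ k = t * u := hk
    have hu' : u = t * y ^ k := by
      rw [hk', ← mul_assoc, htt, one_mul]
    have hconj : ∀ j : ℤ, y ^ j * t = t * y ^ (-j) := by
      intro j
      have h1 : t * y ^ (-j) * t⁻¹ = y ^ j := by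
        rw [← conj_zpow, hinv, inv_zpow, zpow_neg, inv_inv]
      calc y ^ j * t = (t * y ^ (-j) * t⁻¹) * t := by rw [h1]
        _ = t * y ^ (-j) := by group
    have h7 : y ^ (7 : ℤ) = 1 := by
      have := pow_orderOf_eq_one y
      rw [hy] at this
      exact_mod_cast this
    rw [isConj_iff]
    refine ⟨y ^ (3 * k), ?_⟩
    rw [hu', hconj (3 * k), mul_assoc, ← zpow_neg, ← zpow_add]
    congr 1
    have e : -(3 * k) + -(3 * k) = k + 7 * (-k) := by ring
    rw [e, zpow_add, zpow_mul, h7, one_zpow, mul_one]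

open Classical in
/-- the number of elements of a coset -/
theorem card_filter_mul_mem [Fintype G] (K : Subgroup G) (t : G) :
    (Finset.univ.filter (fun u : G => t * u ∈ K)).card = Nat.card ↥K := by
  rw [← Fintype.card_subtype, ← Nat.card_eq_fintype_card]
  apply Nat.card_congr
  refine ⟨fun u => ⟨t * u.1, u.2⟩, fun p => ⟨t⁻¹ * p.1, ?_⟩, ?_, ?_⟩
  · show t * (t⁻¹ * p.1) ∈ K
    rw [mul_inv_cancel_left]
    exact p.2
  · intro u
    apply Subtype.ext
    show t⁻¹ * (t * u.1) = u.1
    group
  · intro p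
    apply Subtype.ext
    show t * (t⁻¹ * p.1) = p.1
    group

open Classical in
/-- the pairs of conjugates of `t` with product `y` correspond to the elements of the coset `tP` -/
theorem card_pairs42 [Fintype G] [Fact (Nat.Prime 7)] (P : Sylow 7 G)
    (hP : Nat.card ↥(P : Subgroup G) = 7) (t y : G) (ht : orderOf t = 2)
    (htN : t ∈ Subgroup.normalizer ((P : Subgroup G) : Set G))
    (hyP : y ∈ (P : Subgroup G)) (hinv : t * y * t⁻¹ = y⁻¹)
    (hcy : Subgroup.centralizer ({y} : Set G) = (P : Subgroup G))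
    (hconj : ∀ u : G, t * u ∈ (P : Subgroup G) → IsConj t u) :
    (Finset.univ.filter (fun u : G => IsConj t u ∧ IsConj t (u⁻¹ * y))).card = 7 := by
  have htt : t * t = 1 := mul_self_of_orderOf_two ht
  have hset : Finset.univ.filter (fun u : G => IsConj t u ∧ IsConj t (u⁻¹ * y)) =
      Finset.univ.filter (fun u : G => t * u ∈ (P : Subgroup G)) := by
    ext u
    simp only [Finset.mem_filter, Finset.mem_univ, true_and]
    constructor
    · rintro ⟨h1, h2⟩
      have huu : u * u = 1 := Cfsg.Agent.Lib.Helper19.Ord4032.mul_self_of_isConj htt h1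
      have hui : u⁻¹ = u := inv_eq_of_mul_eq_one_left huu
      have hvv : (u⁻¹ * y) * (u⁻¹ * y) = 1 :=
        Cfsg.Agent.Lib.Helper19.Ord4032.mul_self_of_isConj htt h2
      rw [hui] at hvv
      have hinvu : u * y * u = y⁻¹ := by
        calc u * y * u = (u * y * (u * y)) * y⁻¹ := by group
          _ = y⁻¹ := by rw [hvv, one_mul]
      rw [← hcy, Subgroup.mem_centralizer_singleton_iff]
      have h3 : t * y⁻¹ = y * t := by
        calc t * y⁻¹ = (t * y * t⁻¹)⁻¹ * t := by group
          _ = y * t := by rw [hinv, inv_inv]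
      have h4 : u * y = y⁻¹ * u := by
        calc u * y = (u * y * u) * u⁻¹ := by group
          _ = y⁻¹ * u := by rw [hinvu, hui]
      calc t * u * y = t * (u * y) := by group
        _ = t * (y⁻¹ * u) := by rw [h4]
        _ = (t * y⁻¹) * u := by group
        _ = y * t * u := by rw [h3]
        _ = y * (t * u) := by group
    · intro h
      refine ⟨hconj u h, hconj _ ?_⟩
      have h5 : t * (t * u)⁻¹ * t⁻¹ ∈ (P : Subgroup G) :=
        (Subgroup.mem_normalizer_iff.mp htN _).mp ((P : Subgroup G).inv_mem h)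
      have e : t * (u⁻¹ * y) = t * (t * u)⁻¹ * t⁻¹ * y := by
        calc t * (u⁻¹ * y) = t * u⁻¹ * (t * t)⁻¹ * y := by rw [htt]; group
          _ = t * (t * u)⁻¹ * t⁻¹ * y := by group
      rw [e]
      exact (P : Subgroup G).mul_mem h5 hyP
  rw [hset, card_filter_mul_mem, hP]

/-- the subgroup `K ∪ tK` for an involution `t` normalizing `K` -/
def dihSub (K : Subgroup G) (t : G) (htt : t * t = 1) (htK : ∀ x ∈ K, t * x * t⁻¹ ∈ K) :
    Subgroup G where
  carrier := {x | x ∈ K ∨ t * x ∈ K}
  one_mem' := Or.inl K.one_mem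
  mul_mem' := by
    rintro a b (ha | ha) (hb | hb)
    · exact Or.inl (K.mul_mem ha hb)
    · right
      have e : t * (a * b) = t * a * t⁻¹ * (t * b) := by group
      rw [e]
      exact K.mul_mem (htK a ha) hb
    · right
      have e : t * (a * b) = t * a * b := by group
      rw [e]
      exact K.mul_mem ha hb
    · left
      have e : a * b = t * (t * a) * t⁻¹ * (t * b) := by
        calc a * b = (t * t) * a * b := by rw [htt, one_mul]
          _ = t * (t * a) * t⁻¹ * (t * b) := by group
      rw [e]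
      exact K.mul_mem (htK _ ha) hb
  inv_mem' := by
    rintro a (ha | ha)
    · exact Or.inl (K.inv_mem ha)
    · right
      have e : t * a⁻¹ = t * (t * a)⁻¹ * t⁻¹ := by
        calc t * a⁻¹ = t * a⁻¹ * (t * t)⁻¹ := by rw [htt]; group
          _ = t * (t * a)⁻¹ * t⁻¹ := by group
      rw [e]
      exact htK _ (K.inv_mem ha)

theorem mem_dihSub (K : Subgroup G) (t : G) (htt : t * t = 1) (htK : ∀ x ∈ K, t * x * t⁻¹ ∈ K)
    (x : G) : x ∈ dihSub K t htt htK ↔ x ∈ K ∨ t * x ∈ K := Iff.rfl

theorem le_dihSub (K : Subgroup G) (t : G) (htt : t * t = 1) (htK : ∀ x ∈ K, t * x * t⁻¹ ∈ K) :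
    K ≤ dihSub K t htt htK := fun _ hx => Or.inl hx

/-- sums over the subgroup `K ∪ tK` -/
theorem sum_dihSub [Fintype G] (K : Subgroup G) (t : G) (htt : t * t = 1)
    (htK : ∀ x ∈ K, t * x * t⁻¹ ∈ K) (htnK : t ∉ K) [Fintype ↥(dihSub K t htt htK)] [Fintype ↥K]
    (f : G → ℂ) :
    ∑ x : ↥(dihSub K t htt htK), f x = ∑ x : ↥K, f x + ∑ x : ↥K, f (t⁻¹ * x) := by
  classical
  have h1 : ∑ x : ↥(dihSub K t htt htK), f x =
      ∑ x ∈ Finset.univ.filter (fun x : G => x ∈ dihSub K t htt htK), f x := by
    rw [Finset.sum_subtype (Finset.univ.filter (fun x : G => x ∈ dihSub K t htt htK))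
      (p := fun x => x ∈ dihSub K t htt htK) (by simp) f]
  have h2 : Finset.univ.filter (fun x : G => x ∈ dihSub K t htt htK) =
      Finset.univ.filter (fun x : G => x ∈ K) ∪ Finset.univ.filter (fun x : G => t * x ∈ K) := by
    ext x
    simp only [Finset.mem_filter, Finset.mem_univ, true_and, Finset.mem_union, mem_dihSub]
  have hdisj : Disjoint (Finset.univ.filter (fun x : G => x ∈ K))
      (Finset.univ.filter (fun x : G => t * x ∈ K)) := by
    rw [Finset.disjoint_filter]
    intro x _ hx hx'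
    apply htnK
    have := K.mul_mem hx' (K.inv_mem hx)
    simpa using this
  rw [h1, h2, Finset.sum_union hdisj]
  congr 1
  · exact Finset.sum_subtype _ (by simp) f
  · rw [← Finset.sum_subtype (Finset.univ.filter (fun x : G => x ∈ K)) (p := fun x => x ∈ K)
      (by simp) (fun x => f (t⁻¹ * x))]
    apply Finset.sum_nbij' (fun x => t * x) (fun x => t⁻¹ * x)
    · intro x hx
      simpa using hx
    · intro x hx
      simpa using hx
    · intro x _
      group
    · intro x _
      group
    · intro x _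
      simp

/-- the order of `K ∪ tK` -/
theorem card_dihSub [Finite G] (K : Subgroup G) (t : G) (htt : t * t = 1)
    (htK : ∀ x ∈ K, t * x * t⁻¹ ∈ K) (htnK : t ∉ K) :
    Nat.card ↥(dihSub K t htt htK) = 2 * Nat.card ↥K := by
  classical
  letI : Fintype G := Fintype.ofFinite G
  letI : Fintype ↥(dihSub K t htt htK) := Fintype.ofFinite _
  letI : Fintype ↥K := Fintype.ofFinite _
  have h := sum_dihSub K t htt htK htnK (fun _ => (1 : ℂ))
  simp only [Finset.sum_const, Finset.card_univ, nsmul_eq_mul, mul_one] at h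
  rw [Nat.card_eq_fintype_card, Nat.card_eq_fintype_card]
  have h' : ((Fintype.card ↥(dihSub K t htt htK) : ℕ) : ℂ) = ((2 * Fintype.card ↥K : ℕ) : ℂ) := by
    rw [h]; push_cast; ring
  exact_mod_cast h'

/-- the index of `K` in `K ∪ tK` -/
theorem index_subgroupOf_dihSub [Finite G] (K : Subgroup G) (t : G) (htt : t * t = 1)
    (htK : ∀ x ∈ K, t * x * t⁻¹ ∈ K) (htnK : t ∉ K) :
    (K.subgroupOf (dihSub K t htt htK)).index = 2 := by
  have h1 := Subgroup.card_mul_index (K.subgroupOf (dihSub K t htt htK))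
  have h2 : Nat.card ↥(K.subgroupOf (dihSub K t htt htK)) = Nat.card ↥K :=
    Nat.card_congr (Subgroup.subgroupOfEquivOfLe (le_dihSub K t htt htK)).toEquiv
  rw [h2, card_dihSub K t htt htK htnK] at h1
  have hpos : 0 < Nat.card ↥K := Nat.card_pos
  have : Nat.card ↥K * (K.subgroupOf (dihSub K t htt htK)).index = Nat.card ↥K * 2 := by
    rw [h1]; ring
  exact Nat.eq_of_mul_eq_mul_left hpos this

open Classical in
/-- the sign character of `D` relative to a subgroup of index two -/
noncomputable def signHom (D K : Subgroup G) (h : (K.subgroupOf D).index = 2) : ↥D →* ℂˣ :=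
  MonoidHom.mk' (fun x => if (x : G) ∈ K then 1 else -1) (by
    intro a b
    have h2 := Subgroup.mul_mem_iff_of_index_two h (a := a) (b := b)
    simp only [Subgroup.mem_subgroupOf, Subgroup.coe_mul] at h2
    by_cases ha : (a : G) ∈ K <;> by_cases hb : (b : G) ∈ K <;> simp [ha, hb, h2])

open Classical in
theorem signHom_apply (D K : Subgroup G) (h : (K.subgroupOf D).index = 2) (x : ↥D) :
    ((signHom D K h x : ℂˣ) : ℂ) = if (x : G) ∈ K then 1 else -1 := by
  unfold signHom
  rw [MonoidHom.mk'_apply]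
  split_ifs <;> simp

end Cfsg.Agent.Lib.Helper12.Ord5040
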