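import Mathlib

/-!
# No simple group of order 5040, part D (helper12)

Arithmetic for the case of `120` Sylow `7`-subgroups with `N(P) = 7 : 6`: the possible triples
`(χ(1), χ(y), χ(t))`, the resulting degree patterns, and the final contradiction mod `5` from the
class multiplication coefficient of an involution.
-/

set_option autoImplicit false

namespace Cfsg.Agent.Lib.Helper12.Ord5040

/-- the possible types `(χ(1), χ(y), χ(t))` of a nontrivial irreducible character not vanishing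
on `P` -/
def IsType (d : ℕ) (a c : ℤ) : Prop :=
  (d = 8 ∧ a = 1) ∨ (d = 15 ∧ a = 1 ∧ (c = -1 ∨ c = 3)) ∨ (d = 36 ∧ a = 1) ∨
  (d = 20 ∧ a = -1 ∧ c = 0) ∨ (d = 48 ∧ a = -1) ∨ (d = 9 ∧ a = 2) ∨ (d = 16 ∧ a = 2) ∨
  (d = 30 ∧ a = 2) ∨ (d = 12 ∧ a = -2) ∨ (d = 40 ∧ a = -2)

set_option maxHeartbeats 1600000 in
theorem char_type (d l l' l'' j : ℕ) (a c : ℤ) (hd : d ∣ 5040) (hd70 : d ≤ 70) (hd0 : 0 < d)
    (hd1 : d ≠ 1) (had : a ≠ d) (ha0 : a ≠ 0) (ha2 : a ^ 2 ≤ 6)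
    (hl : (d : ℤ) + 6 * a = 7 * l) (hl' : (d : ℤ) + 6 * a + 7 * c = 14 * l')
    (hl'' : (d : ℤ) + 6 * a - 7 * c = 14 * l'') (hj : c = d - 4 * j) : IsType d a c := by
  have hb : -2 ≤ a ∧ a ≤ 2 := by constructor <;> nlinarith
  have ha : a = 1 ∨ a = -1 ∨ a = 2 ∨ a = -2 := by omega
  unfold IsType
  rcases ha with rfl | rfl | rfl | rfl <;> interval_cases d <;> omega

/-- the value `χ(y)` determined by the degree -/
def aOf (j : ℕ) : ℤ :=
  if j = 8 ∨ j = 15 ∨ j = 36 then 1 else if j = 20 ∨ j = 48 then -1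
  else if j = 9 ∨ j = 16 ∨ j = 30 then 2 else -2

/-- the possible degrees -/
def degList : Finset ℕ := {8, 15, 36, 20, 48, 9, 16, 30, 12, 40}

theorem isType_spec {d : ℕ} {a c : ℤ} (h : IsType d a c) :
    d ∈ degList ∧ a = aOf d ∧ d ∣ 720 := by
  unfold IsType at h
  rcases h with ⟨rfl, rfl⟩ | ⟨rfl, rfl, _⟩ | ⟨rfl, rfl⟩ | ⟨rfl, rfl, _⟩ | ⟨rfl, rfl⟩ | ⟨rfl, rfl⟩ |
    ⟨rfl, rfl⟩ | ⟨rfl, rfl⟩ | ⟨rfl, rfl⟩ | ⟨rfl, rfl⟩ <;>
  exact ⟨by decide, by decide, by decide⟩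

theorem type15 {a c : ℤ} (h : IsType 15 a c) : a = 1 ∧ (c = -1 ∨ c = 3) := by
  unfold IsType at h
  omega

theorem five_dvd_of_type {d : ℕ} {a c : ℤ} (h : IsType d a c) (h15 : d ≠ 15) (h30 : d ≠ 30)
    (h40 : d ≠ 40) : (5 : ℤ) ∣ ((720 / d : ℕ) : ℤ) * a * c ^ 2 := by
  unfold IsType at h
  rcases h with ⟨rfl, rfl⟩ | ⟨rfl, rfl, _⟩ | ⟨rfl, rfl⟩ | ⟨rfl, rfl, rfl⟩ | ⟨rfl, rfl⟩ | ⟨rfl, rfl⟩ |
    ⟨rfl, rfl⟩ | ⟨rfl, rfl⟩ | ⟨rfl, rfl⟩ | ⟨rfl, rfl⟩
  · exact Dvd.dvd.mul_right (by norm_num) _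
  · exact absurd rfl h15
  · exact Dvd.dvd.mul_right (by norm_num) _
  · norm_num
  · exact Dvd.dvd.mul_right (by norm_num) _
  · exact Dvd.dvd.mul_right (by norm_num) _
  · exact Dvd.dvd.mul_right (by norm_num) _
  · exact absurd rfl h30
  · exact Dvd.dvd.mul_right (by norm_num) _
  · exact absurd rfl h40

set_option maxHeartbeats 1600000 in
theorem arith_counts (m8 m15 m36 m20 m48 m9 m16 m30 m12 m40 : ℕ)
    (E1 : (m8 : ℤ) + m15 + m36 + m20 + m48 + 4 * m9 + 4 * m16 + 4 * m30 + 4 * m12 + 4 * m40 = 6)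
    (E2 : 8 * (m8 : ℤ) + 15 * m15 + 36 * m36 - 20 * m20 - 48 * m48 + 18 * m9 + 32 * m16 + 60 * m30
      - 24 * m12 - 80 * m40 = -1) :
    m15 = 1 ∧ m30 = 0 ∧ m40 = 0 := by
  have h9 : m9 ≤ 1 := by omega
  have h16 : m16 ≤ 1 := by omega
  have h30 : m30 ≤ 1 := by omega
  have h12 : m12 ≤ 1 := by omega
  have h40 : m40 ≤ 1 := by omega
  interval_cases m9 <;> interval_cases m16 <;> interval_cases m30 <;> interval_cases m12 <;>
    interval_cases m40 <;> omega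

theorem sum_by_key {I : Type*} (J : Finset I) (key : I → ℕ) (L : Finset ℕ)
    (hL : ∀ χ ∈ J, key χ ∈ L) (Φ : ℕ → ℤ) :
    ∑ χ ∈ J, Φ (key χ) = ∑ j ∈ L, ((J.filter (fun χ => key χ = j)).card : ℤ) * Φ j := by
  rw [← Finset.sum_fiberwise_of_maps_to hL]
  apply Finset.sum_congr rfl
  intro j _
  have : ∀ χ ∈ J.filter (fun χ => key χ = j), Φ (key χ) = Φ j := by
    intro χ hχ
    rw [(Finset.mem_filter.mp hχ).2]
  rw [Finset.sum_congr rfl this, Finset.sum_const, nsmul_eq_mul]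

theorem sq_mod_five (h : ℕ) : (h : ℤ) ^ 2 % 5 = 0 ∨ (h : ℤ) ^ 2 % 5 = 1 ∨ (h : ℤ) ^ 2 % 5 = 4 := by
  have hsq : (h : ℤ) ^ 2 % 5 = ((h : ℤ) % 5) * ((h : ℤ) % 5) % 5 := by rw [pow_two, Int.mul_emod]
  have hr0 := Int.emod_nonneg (h : ℤ) (by norm_num : (5 : ℤ) ≠ 0)
  have hr5 := Int.emod_lt_of_pos (h : ℤ) (by norm_num : (0 : ℤ) < 5)
  rw [hsq]
  generalize (h : ℤ) % 5 = r at *
  interval_cases r <;> norm_num

/-- the final contradiction -/
theorem final_contra {I : Type*} [Fintype I] [DecidableEq I] (d : I → ℕ) (a c : I → ℤ) (χ₁ : I)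
    (h : ℕ) (h1d : d χ₁ = 1) (h1a : a χ₁ = 1) (h1c : c χ₁ = 1)
    (htype : ∀ χ, χ ≠ χ₁ → a χ ≠ 0 → IsType (d χ) (a χ) (c χ))
    (S1 : ∑ χ, a χ ^ 2 = 7) (S2 : ∑ χ, a χ * (d χ : ℤ) = 0)
    (S3 : ∑ χ, (if a χ = 0 then 0 else ((720 / d χ : ℕ) : ℤ) * a χ * c χ ^ 2) = (h : ℤ) ^ 2) :
    False := by
  classical
  set J := Finset.univ.filter (fun χ => χ ≠ χ₁ ∧ a χ ≠ 0) with hJ
  have hsplit : ∀ F : I → ℤ, (∀ χ, a χ = 0 → F χ = 0) → ∑ χ, F χ = F χ₁ + ∑ χ ∈ J, F χ := by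
    intro F hF
    have h1 : ∑ χ, F χ = ∑ χ ∈ Finset.univ.filter (fun χ => a χ ≠ 0), F χ := by
      symm
      apply Finset.sum_filter_of_ne
      intro χ _ hne h0
      exact hne (hF χ h0)
    have h2 : Finset.univ.filter (fun χ => a χ ≠ 0) = insert χ₁ J := by
      ext χ
      simp only [Finset.mem_filter, Finset.mem_univ, true_and, Finset.mem_insert, hJ]
      constructor
      · intro h0
        by_cases hχ : χ = χ₁
        · exact Or.inl hχ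
        · exact Or.inr ⟨hχ, h0⟩
      · rintro (rfl | ⟨_, h0⟩)
        · rw [h1a]; norm_num
        · exact h0
    have h3 : χ₁ ∉ J := by simp [hJ]
    rw [h1, h2, Finset.sum_insert h3]
  have hJspec : ∀ χ ∈ J, d χ ∈ degList ∧ a χ = aOf (d χ) ∧ d χ ∣ 720 := by
    intro χ hχ
    rw [hJ, Finset.mem_filter] at hχ
    exact isType_spec (htype χ hχ.2.1 hχ.2.2)
  have hJtype : ∀ χ ∈ J, IsType (d χ) (a χ) (c χ) := by
    intro χ hχ
    rw [hJ, Finset.mem_filter] at hχ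
    exact htype χ hχ.2.1 hχ.2.2
  -- the two linear equations
  have E1 : ∑ χ ∈ J, a χ ^ 2 = 6 := by
    have := hsplit (fun χ => a χ ^ 2) (fun χ h0 => by simp [h0])
    simp only [S1, h1a] at this
    linarith
  have E2 : ∑ χ ∈ J, a χ * (d χ : ℤ) = -1 := by
    have := hsplit (fun χ => a χ * (d χ : ℤ)) (fun χ h0 => by simp [h0])
    simp only [S2, h1a, h1d] at this
    push_cast at this
    linarith
  have E1' : ∑ χ ∈ J, a χ ^ 2 = ∑ χ ∈ J, (fun j => aOf j ^ 2) (d χ) :=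
    Finset.sum_congr rfl (fun χ hχ => by rw [(hJspec χ hχ).2.1])
  have E2' : ∑ χ ∈ J, a χ * (d χ : ℤ) = ∑ χ ∈ J, (fun j => aOf j * (j : ℤ)) (d χ) :=
    Finset.sum_congr rfl (fun χ hχ => by rw [(hJspec χ hχ).2.1])
  rw [E1', sum_by_key J d degList (fun χ hχ => (hJspec χ hχ).1) (fun j => aOf j ^ 2)] at E1
  rw [E2', sum_by_key J d degList (fun χ hχ => (hJspec χ hχ).1) (fun j => aOf j * (j : ℤ))] at E2
  simp [degList, aOf] at E1 E2
  obtain ⟨h15, h30, h40⟩ := arith_counts (J.filter (fun χ => d χ = 8)).card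
    (J.filter (fun χ => d χ = 15)).card (J.filter (fun χ => d χ = 36)).card
    (J.filter (fun χ => d χ = 20)).card (J.filter (fun χ => d χ = 48)).card
    (J.filter (fun χ => d χ = 9)).card (J.filter (fun χ => d χ = 16)).card
    (J.filter (fun χ => d χ = 30)).card (J.filter (fun χ => d χ = 12)).card
    (J.filter (fun χ => d χ = 40)).card (by linarith [E1]) (by linarith [E2])
  -- the class multiplication constant mod `5`
  have hT1 : (if a χ₁ = 0 then (0 : ℤ) else ((720 / d χ₁ : ℕ) : ℤ) * a χ₁ * c χ₁ ^ 2) = 720 := by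
    rw [h1a, h1d, h1c]; norm_num
  have hT : (h : ℤ) ^ 2 = 720 +
      ∑ χ ∈ J, (if a χ = 0 then (0 : ℤ) else ((720 / d χ : ℕ) : ℤ) * a χ * c χ ^ 2) := by
    rw [← S3, ← hT1]
    exact hsplit _ (fun χ h0 => if_pos h0)
  rw [← Finset.sum_filter_add_sum_filter_not J (fun χ => d χ = 15)] at hT
  obtain ⟨χ₀, hχ₀⟩ := Finset.card_eq_one.mp h15
  have hχ₀m : χ₀ ∈ J.filter (fun χ => d χ = 15) := by
    rw [hχ₀]; exact Finset.mem_singleton_self _
  rw [Finset.mem_filter] at hχ₀m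
  obtain ⟨hχ₀J, hd15⟩ := hχ₀m
  have ht15 := hJtype χ₀ hχ₀J
  rw [hd15] at ht15
  obtain ⟨ha15, hc15⟩ := type15 ht15
  rw [hχ₀, Finset.sum_singleton] at hT
  have hrest : (5 : ℤ) ∣ ∑ χ ∈ J.filter (fun χ => ¬ d χ = 15),
      (if a χ = 0 then (0 : ℤ) else ((720 / d χ : ℕ) : ℤ) * a χ * c χ ^ 2) := by
    apply Finset.dvd_sum
    intro χ hχ
    rw [Finset.mem_filter] at hχ
    have hχJ := hχ.1
    have hne0 : a χ ≠ 0 := by
      have := hχJ
      rw [hJ, Finset.mem_filter] at this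
      exact this.2.2
    rw [if_neg hne0]
    apply five_dvd_of_type (hJtype χ hχJ) hχ.2
    · intro h30'
      have : χ ∈ J.filter (fun χ => d χ = 30) := Finset.mem_filter.mpr ⟨hχJ, h30'⟩
      rw [Finset.card_eq_zero.mp h30] at this
      exact absurd this (Finset.notMem_empty _)
    · intro h40'
      have : χ ∈ J.filter (fun χ => d χ = 40) := Finset.mem_filter.mpr ⟨hχJ, h40'⟩
      rw [Finset.card_eq_zero.mp h40] at this
      exact absurd this (Finset.notMem_empty _)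
  obtain ⟨k, hk⟩ := hrest
  rw [hk, if_neg (by rw [ha15]; norm_num), hd15, ha15] at hT
  have hsq := sq_mod_five h
  rcases hc15 with hc | hc <;> rw [hc] at hT <;> norm_num at hT <;> omega

end Cfsg.Agent.Lib.Helper12.Ord5040
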