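import Mathlib
import Cfsg.Agent.Lib.Helper12.Ord5040C
import Cfsg.Agent.Lib.Helper12.Ord5040D
import Cfsg.Agent.Lib.Helper19.Ord4032D
import Cfsg.Agent.Lib.Helper10.CyclicTIGalois
import Cfsg.Agent.Lib.Helper24.PerfectLemmas
import Cfsg.Agent.Lib.Helper6.DetChar
import Cfsg.Agent.Lib.Lead.KleinBlock2
import Cfsg.Agent.Lib.Helper12.BSFDeg

/-!
# No simple group of order 5040, part E (helper12)

The case of `120` Sylow `7`-subgroups with `|N(P)| = 42` and `C(P) = P`, character-theoretic part:
all irreducible characters are rational on `P` and on an involution `t ∈ N(P)`; the restrictions to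
`P` and to the dihedral subgroup `P ∪ tP`, the determinant (`G` is perfect), the second orthogonality
relation for a generator `y` of `P` and the class multiplication coefficient of `(t, t, y)` are
incompatible.
-/

set_option autoImplicit false
set_option linter.unusedSectionVars false
set_option linter.style.haveILetI false

namespace Cfsg.Agent.Lib.Helper12.Ord5040

open Cfsg Cfsg.Agent.Lib.Helper8.SmallSimple Cfsg.Agent.Lib.Helper8.SmallSimple2
  Cfsg.Agent.Lib.Helper7 Cfsg.Agent.Lib.Helper6 Cfsg.Agent.CharLib Cfsg.Agent.Lib.Helper24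
open scoped ComplexConjugate

universe u

variable {G : Type u} [Group G]

/-- in a perfect group, the value of a character at an involution is congruent to the degree
mod `4` -/
theorem char_invol_mod_four [Finite G] (hperf : commutator G = ⊤) {χ : G → ℂ}
    (hχ : IsCharacter G χ) (t : G) (ht : orderOf t = 2) :
    ∃ j : ℕ, χ t = χ 1 - 4 * (j : ℂ) := by
  classical
  obtain ⟨n, ρ, rfl⟩ := hχ
  obtain ⟨ι, hι, b, μ, h1, h2, -, -⟩ := exists_eigenbasis ρ t
  rw [ht] at h1
  have hdet : LinearMap.det (ρ t) = 1 := by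
    have h3 := hom_eq_one_of_perfect hperf (repDetHom ρ) (fun a b => mul_comm _ _) t
    have h4 := repDetHom_apply ρ t
    rw [h3] at h4
    simpa using h4.symm
  have hmat : LinearMap.toMatrix b b (ρ t) = Matrix.diagonal μ := by
    ext i j
    rw [LinearMap.toMatrix_apply, h2 j, Matrix.diagonal_apply]
    simp only [map_smul, Module.Basis.repr_self, Finsupp.smul_apply, smul_eq_mul, Finsupp.single_apply]
    by_cases hij : i = j
    · subst hij; simp
    · rw [if_neg hij, if_neg (Ne.symm hij), mul_zero]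
  have hprod : ∏ i, μ i = 1 := by
    rw [← hdet, ← LinearMap.det_toMatrix b, hmat, Matrix.det_diagonal]
  have hμ : ∀ i, μ i = 1 ∨ μ i = -1 := fun i => sq_eq_one_iff.mp (h1 i)
  set S := Finset.univ.filter (fun i => μ i = -1) with hS
  have hμ' : ∀ i, μ i = if μ i = -1 then -1 else 1 := by
    intro i
    rcases hμ i with h | h
    · rw [if_neg (by rw [h]; norm_num), h]
    · rw [if_pos h, h]
  have hprod2 : ∏ i, μ i = (-1 : ℂ) ^ S.card := by
    rw [Finset.prod_congr rfl (fun i _ => hμ' i), Finset.prod_ite]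
    simp [hS]
  have hprod' : (-1 : ℂ) ^ S.card = 1 := hprod2.symm.trans hprod
  have heven : Even S.card := (neg_one_pow_eq_one_iff_even (by norm_num)).mp hprod'
  obtain ⟨j, hj⟩ := heven
  refine ⟨j, ?_⟩
  have hone : ρ.character 1 = (Fintype.card ι : ℂ) := by
    rw [Representation.char_one, Module.finrank_eq_card_basis b]
  have htr : ρ.character t = ∑ i, μ i := trace_eq_sum_of_eigenbasis b (ρ t) μ h2
  rw [htr, hone, Finset.sum_congr rfl (fun i _ => hμ' i), Finset.sum_ite]
  have hcomp : (Finset.univ.filter (fun i => ¬ μ i = -1)).card = Fintype.card ι - S.card := by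
    have := Finset.card_filter_add_card_filter_not (s := (Finset.univ : Finset ι))
      (fun i => μ i = -1)
    rw [Finset.card_univ, ← hS] at this
    omega
  have hle : S.card ≤ Fintype.card ι := by
    rw [← Finset.card_univ]; exact Finset.card_le_card (Finset.subset_univ _)
  simp only [Finset.sum_const, nsmul_eq_mul, mul_one, mul_neg]
  rw [hcomp, ← hS, Nat.cast_sub hle, hj]
  push_cast
  ring

/-- the local data of an irreducible character -/
theorem char_data [Finite G] [IsSimpleGroup G] (hnc : ¬ IsMulCommutative G)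
    (hG : Nat.card G = 5040) [Fact (Nat.Prime 7)] (P : Sylow 7 G)
    (hP : Nat.card ↥(P : Subgroup G) = 7) (t y : G) (ht : orderOf t = 2)
    (htN : t ∈ Subgroup.normalizer ((P : Subgroup G) : Set G)) (htP : t ∉ (P : Subgroup G))
    (hy : orderOf y = 7) (hyP : y ∈ (P : Subgroup G))
    (hconjP : ∀ x ∈ (P : Subgroup G), x ≠ 1 → IsConj x y)
    (hconjt : ∀ u : G, t * u ∈ (P : Subgroup G) → IsConj t u) (χ : IrrCharacter G) :
    ∃ (a c : ℤ) (l l' l'' j : ℕ), (χ : G → ℂ) y = a ∧ (χ : G → ℂ) t = c ∧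
      (charDegree (χ : G → ℂ) : ℤ) + 6 * a = 7 * l ∧
      (charDegree (χ : G → ℂ) : ℤ) + 6 * a + 7 * c = 14 * l' ∧
      (charDegree (χ : G → ℂ) : ℤ) + 6 * a - 7 * c = 14 * l'' ∧
      c = (charDegree (χ : G → ℂ) : ℤ) - 4 * j := by
  classical
  letI : Fintype G := Fintype.ofFinite G
  have hχc : IsCharacter G (χ : G → ℂ) := IsIrrCharacter.isCharacter χ.2
  have hcl : IsClassFunction G (χ : G → ℂ) := IsCharacter.isClassFunction hχc
  have hperf : commutator G = ⊤ := Cfsg.Agent.Lib.Helper12.BSF.commutator_eq_top_of_simple hnc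
  have htt : t * t = 1 := mul_self_of_orderOf_two ht
  have htK : ∀ x ∈ (P : Subgroup G), t * x * t⁻¹ ∈ (P : Subgroup G) := fun x hx =>
    (Subgroup.mem_normalizer_iff.mp htN x).mp hx
  have hd := irr_apply_one χ
  set d := charDegree (χ : G → ℂ) with hddef
  -- the value at `y`
  obtain ⟨a, ha⟩ := Cfsg.Agent.Lib.Helper10.irr_int_of_forall_pow_eq χ.2 y (by
    intro m hm
    rw [hG] at hm
    have h7 : ¬ 7 ∣ m := by
      intro h
      have := Nat.dvd_gcd h (by norm_num : 7 ∣ 5040)
      rw [Nat.Coprime] at hm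
      rw [hm] at this
      omega
    have hne : y ^ m ≠ 1 := by
      intro h
      have := orderOf_dvd_of_pow_eq_one h
      rw [hy] at this
      exact h7 this
    exact IsClassFunction.of_isConj hcl
      (hconjP (y ^ m) ((P : Subgroup G).pow_mem hyP m) hne))
  -- the value at `t`
  obtain ⟨c, hc⟩ := IsCharacter.apply_involution_int hχc t ht
  obtain ⟨j, hj⟩ := char_invol_mod_four hperf hχc t ht
  -- the sum over `P`
  letI : Fintype ↥(P : Subgroup G) := Fintype.ofFinite _
  have sP := sum_subgroup_of_conj (P : Subgroup G) (χ : G → ℂ) hcl y hconjP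
  obtain ⟨l, hl⟩ := exists_nat_sum_subgroup (P : Subgroup G) hχc
  rw [hP, hd, ha] at sP
  rw [hP] at hl
  -- the sums over `D`
  set D := dihSub (P : Subgroup G) t htt htK with hD
  letI : Fintype ↥D := Fintype.ofFinite _
  have hDc : Nat.card ↥D = 14 := by
    rw [hD, card_dihSub _ t htt htK htP, hP]
  have hval : ∀ x : ↥(P : Subgroup G), (χ : G → ℂ) (t⁻¹ * (x : G)) = (c : ℂ) := by
    intro x
    rw [← hc]
    symm
    apply IsClassFunction.of_isConj hcl
    apply hconjt
    rw [mul_inv_cancel_left]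
    exact x.2
  have hnot : ∀ x : ↥(P : Subgroup G), t⁻¹ * (x : G) ∉ (P : Subgroup G) := by
    intro x h
    apply htP
    have := (P : Subgroup G).mul_mem x.2 ((P : Subgroup G).inv_mem h)
    simpa using this
  have sD := sum_dihSub (P : Subgroup G) t htt htK htP (χ : G → ℂ)
  obtain ⟨l', hl'⟩ := exists_nat_sum_subgroup D hχc
  rw [Finset.sum_congr rfl (fun x _ => hval x), Finset.sum_const, Finset.card_univ,
    ← Nat.card_eq_fintype_card, hP] at sD
  rw [hDc] at hl'
  -- the sign character
  have hidx := index_subgroupOf_dihSub (P : Subgroup G) t htt htK htP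
  obtain ⟨l'', hl''⟩ := IsCharacter.classInner_nat (isCharacter_resFun D hχc)
    (isCharacter_of_hom (signHom D (P : Subgroup G) hidx))
  unfold classInner at hl''
  rw [hDc] at hl''
  have sE := sum_dihSub (P : Subgroup G) t htt htK htP
    (fun x => (χ : G → ℂ) x * conj (if x ∈ (P : Subgroup G) then (1 : ℂ) else -1))
  have e1 : ∑ g : ↥D, resFun D (χ : G → ℂ) g *
      conj (((signHom D (P : Subgroup G) hidx g : ℂˣ) : ℂ)) =
      ∑ x : ↥D, (χ : G → ℂ) x * conj (if (x : G) ∈ (P : Subgroup G) then (1 : ℂ) else -1) := by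
    apply Finset.sum_congr rfl
    intro g _
    rw [resFun_apply, signHom_apply]
  have e2 : ∑ x : ↥(P : Subgroup G), (χ : G → ℂ) x *
      conj (if (x : G) ∈ (P : Subgroup G) then (1 : ℂ) else -1) =
      ∑ x : ↥(P : Subgroup G), (χ : G → ℂ) x := by
    apply Finset.sum_congr rfl
    intro x _
    rw [if_pos x.2, map_one, mul_one]
  have e3 : ∑ x : ↥(P : Subgroup G), (χ : G → ℂ) (t⁻¹ * (x : G)) *
      conj (if t⁻¹ * (x : G) ∈ (P : Subgroup G) then (1 : ℂ) else -1) = -(7 * (c : ℂ)) := by
    have : ∀ x ∈ (Finset.univ : Finset ↥(P : Subgroup G)), (χ : G → ℂ) (t⁻¹ * (x : G)) *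
        conj (if t⁻¹ * (x : G) ∈ (P : Subgroup G) then (1 : ℂ) else -1) = -(c : ℂ) := by
      intro x _
      rw [if_neg (hnot x), hval x, map_neg, map_one, mul_neg, mul_one]
    rw [Finset.sum_congr rfl this, Finset.sum_const, Finset.card_univ,
      ← Nat.card_eq_fintype_card, hP]
    simp
  rw [e1, sE, e2, e3, sP] at hl''
  rw [sD, sP] at hl'
  rw [hl] at sP
  refine ⟨a, c, l, l', l'', j, ha, hc, ?_, ?_, ?_, ?_⟩
  · have : ((d : ℤ) + 6 * a : ℂ) = ((7 * l : ℤ) : ℂ) := by
      push_cast
      linear_combination -sP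
    exact_mod_cast this
  · have : (((d : ℤ) + 6 * a + 7 * c : ℤ) : ℂ) = ((14 * l' : ℤ) : ℂ) := by
      push_cast
      push_cast at hl'
      linear_combination hl'
    exact_mod_cast this
  · have : (((d : ℤ) + 6 * a - 7 * c : ℤ) : ℂ) = ((14 * l'' : ℤ) : ℂ) := by
      push_cast
      push_cast at hl''
      linear_combination 14 * hl''
    exact_mod_cast this
  · have : ((c : ℤ) : ℂ) = (((d : ℤ) - 4 * j : ℤ) : ℂ) := by
      push_cast
      rw [← hc, hj, hd]
    exact_mod_cast this

/-- the case of `120` Sylow `7`-subgroups with `C(P) = P` -/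
theorem case120_7 [Finite G] [IsSimpleGroup G] (hnc : ¬ IsMulCommutative G)
    (hG : Nat.card G = 5040) [Fact (Nat.Prime 7)] (P : Sylow 7 G)
    (hP : Nat.card ↥(P : Subgroup G) = 7)
    (hNc : Nat.card ↥(Subgroup.normalizer ((P : Subgroup G) : Set G)) = 42)
    (hCc : Nat.card ↥(Subgroup.centralizer ((P : Subgroup G) : Set G)) = 7) : False := by
  classical
  obtain ⟨t, y, ht, htN, htP, hy, hyP, hPy, hinv, hcy, hconjP, hconjt⟩ := frob_data P hP hNc hCc
  letI : Fintype G := Fintype.ofFinite G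
  letI : Fintype (IrrCharacter G) := fintypeIrr G
  have hperf : commutator G = ⊤ := Cfsg.Agent.Lib.Helper12.BSF.commutator_eq_top_of_simple hnc
  have hdata := char_data hnc hG P hP t y ht htN htP hy hyP hconjP hconjt
  choose a c l l' l'' j hdata using hdata
  let d : IrrCharacter G → ℕ := fun χ => charDegree (χ : G → ℂ)
  have hd1 : ∀ χ : IrrCharacter G, (χ : G → ℂ) 1 = (d χ : ℂ) := fun χ => irr_apply_one χ
  have hay : ∀ χ : IrrCharacter G, (χ : G → ℂ) y = (a χ : ℂ) := fun χ => (hdata χ).1
  have hct : ∀ χ : IrrCharacter G, (χ : G → ℂ) t = (c χ : ℂ) := fun χ => (hdata χ).2.1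
  have hy1 : y ≠ 1 := by
    intro h
    rw [h, orderOf_one] at hy
    omega
  -- the trivial character
  set χ₁ : IrrCharacter G := Cfsg.Agent.Lib.Helper24.trivIrr G with hχ₁
  have h1val : ∀ g : G, (χ₁ : G → ℂ) g = 1 := fun g => rfl
  have h1d : d χ₁ = 1 := charDegree_eq_of_apply_one (by rw [h1val]; simp)
  have h1a : a χ₁ = 1 := by
    have := hay χ₁
    rw [h1val] at this
    exact_mod_cast this.symm
  have h1c : c χ₁ = 1 := by
    have := hct χ₁
    rw [h1val] at this
    exact_mod_cast this.symm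
  -- the second orthogonality relations
  have S1 : ∑ χ, a χ ^ 2 = 7 := by
    have h := sum_irr_mul_conj y y
    have hci : classIndicator y y = 1 := by
      unfold classIndicator
      rw [if_pos (IsConj.refl y)]
    rw [hci, hcy, hP, one_mul] at h
    have : ((∑ χ, a χ ^ 2 : ℤ) : ℂ) = ((7 : ℤ) : ℂ) := by
      push_cast
      push_cast at h
      rw [← h]
      apply Finset.sum_congr rfl
      intro χ _
      rw [hay χ, map_intCast]
      ring
    exact_mod_cast this
  have S2 : ∑ χ, a χ * (d χ : ℤ) = 0 := by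
    have h := sum_irr_mul_conj y (1 : G)
    have hci : classIndicator (1 : G) y = 0 := by
      unfold classIndicator
      rw [if_neg]
      rw [isConj_one_left]
      exact hy1
    rw [hci, zero_mul] at h
    have : ((∑ χ, a χ * (d χ : ℤ) : ℤ) : ℂ) = ((0 : ℤ) : ℂ) := by
      push_cast
      rw [← h]
      apply Finset.sum_congr rfl
      intro χ _
      rw [hay χ, hd1 χ, map_natCast]
    exact_mod_cast this
  -- the degrees are at most `70`
  have hsumsq := sum_charDegree_sq (G := G)
  have hcardG : Fintype.card G = 5040 := by rw [← Nat.card_eq_fintype_card]; exact hG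
  have hd70 : ∀ χ, d χ ≤ 70 := by
    intro χ
    have h1 : d χ ^ 2 ≤ ∑ χ : IrrCharacter G, charDegree (χ : G → ℂ) ^ 2 :=
      Finset.single_le_sum (f := fun χ : IrrCharacter G => charDegree (χ : G → ℂ) ^ 2)
        (fun _ _ => Nat.zero_le _) (Finset.mem_univ χ)
    rw [hsumsq, hcardG] at h1
    by_contra hlt
    have hlt' : 71 ≤ d χ := by omega
    have : 71 ^ 2 ≤ d χ ^ 2 := Nat.pow_le_pow_left hlt' 2
    omega
  have ha2 : ∀ χ, χ ≠ χ₁ → a χ ^ 2 ≤ 6 := by
    intro χ hχ
    have h1 : ∑ χ' ∈ ({χ₁, χ} : Finset (IrrCharacter G)), a χ' ^ 2 ≤ ∑ χ', a χ' ^ 2 :=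
      Finset.sum_le_sum_of_subset_of_nonneg (Finset.subset_univ _) (fun _ _ _ => sq_nonneg _)
    rw [Finset.sum_pair hχ.symm, S1, h1a] at h1
    linarith
  have htype : ∀ χ, χ ≠ χ₁ → a χ ≠ 0 → IsType (d χ) (a χ) (c χ) := by
    intro χ hχ ha0
    obtain ⟨-, -, hl, hl', hl'', hj⟩ := hdata χ
    have hdvd : d χ ∣ 5040 := by rw [← hG]; exact irr_charDegree_dvd_card χ
    have hne1 : (χ : G → ℂ) ≠ fun _ => 1 := by
      intro h
      apply hχ
      exact Subtype.ext h
    have hdne : d χ ≠ 1 := fun h =>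
      hne1 (Cfsg.Agent.Lib.Helper12.BSF.eq_one_of_charDegree_one hperf χ h)
    have had : a χ ≠ (d χ : ℤ) := by
      intro h
      apply apply_ne_apply_one_of_normal_closure χ hne1 y ?_
      · rw [hay χ, hd1 χ, h]
        push_cast
        rfl
      · intro K hK hyK
        rcases hK.eq_bot_or_eq_top with hb | htop
        · rw [hb, Subgroup.mem_bot] at hyK
          exact absurd hyK hy1
        · exact htop
    exact char_type (d χ) (l χ) (l' χ) (l'' χ) (j χ) (a χ) (c χ) hdvd (hd70 χ)
      (irr_charDegree_pos χ) hdne had ha0 (ha2 χ hχ) hl hl' hl'' hj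
  -- the class multiplication coefficient
  set h := Nat.card ↥(Subgroup.centralizer ({t} : Set G)) with hh
  have hexp := congrFun (classFunction_eq_sum (pairFun_isClassFunction t)) y
  simp only [Finset.sum_apply, Pi.smul_apply, smul_eq_mul] at hexp
  rw [Cfsg.Agent.Lib.Helper19.Ord4032.pairFun_eq_card,
    card_pairs42 P hP t y ht htN hyP hinv hcy hconjt, ← hh] at hexp
  have S3 : ∑ χ, (if a χ = 0 then (0 : ℤ) else ((720 / d χ : ℕ) : ℤ) * a χ * c χ ^ 2) =
      (h : ℤ) ^ 2 := by
    have key : ∀ χ : IrrCharacter G, classInner (pairFun t) (χ : G → ℂ) * (χ : G → ℂ) y =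
        7 * (((if a χ = 0 then (0 : ℤ) else ((720 / d χ : ℕ) : ℤ) * a χ * c χ ^ 2) : ℤ) : ℂ) := by
      intro χ
      rw [classInner_pairFun, hG, hct χ, hd1 χ, hay χ, map_intCast]
      by_cases h0 : a χ = 0
      · rw [if_pos h0, h0]
        simp
      · rw [if_neg h0]
        have hdvd : d χ ∣ 720 := by
          by_cases hχ : χ = χ₁
          · rw [hχ, h1d]
            exact one_dvd _
          · exact (isType_spec (htype χ hχ h0)).2.2
        have hdpos : (d χ : ℂ) ≠ 0 := by exact_mod_cast (irr_charDegree_pos χ).ne'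
        obtain ⟨q, hq⟩ := hdvd
        have hq' : 720 / d χ = q := by
          rw [hq]
          exact Nat.mul_div_cancel_left q (irr_charDegree_pos χ)
        rw [hq']
        have hqc : (720 : ℂ) = (d χ : ℂ) * q := by exact_mod_cast congrArg (Nat.cast (R := ℂ)) hq
        push_cast
        rw [div_mul_eq_mul_div, div_eq_iff hdpos]
        linear_combination (7 * (c χ : ℂ) ^ 2 * a χ) * hqc
    have h7 : (7 : ℂ) ≠ 0 := by norm_num
    have : (7 : ℂ) * (((∑ χ, (if a χ = 0 then (0 : ℤ) else
        ((720 / d χ : ℕ) : ℤ) * a χ * c χ ^ 2) : ℤ)) : ℂ) = 7 * (((h : ℤ) ^ 2 : ℤ) : ℂ) := by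
      rw [Finset.sum_congr rfl (fun χ _ => key χ), ← Finset.mul_sum] at hexp
      push_cast at hexp ⊢
      linear_combination -hexp
    exact_mod_cast mul_left_cancel₀ h7 this
  exact final_contra d a c χ₁ h h1d h1a h1c htype S1 S2 S3

end Cfsg.Agent.Lib.Helper12.Ord5040
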