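import Mathlib
import Cfsg.Prelude.Def_Solvable
import Cfsg.Agent.Lib.Helper12.Cores
import Cfsg.Agent.Lib.Helper12.HallHigman
import Cfsg.Agent.Lib.Helper1.Coprime
import Cfsg.Agent.Lib.Helper1.Commutator
import Cfsg.Agent.Lib.Helper8.PPrimeCent
import Cfsg.Agent.Lib.Helper25.PSolvableOfSolvable
import Cfsg.Agent.S0026
import Cfsg.Agent.S0028

/-!
Helper lemmas (helper12): a `p`-group `P` acting on a `p'`-group `H` with `[H, P]` solvable, and a `q`-element
`z ∈ C_H(P)`: `O_{q'}(C_H(z)) ∩ O_{q'}(C_H(P))` and `[O_{q'}(C_H(z)), P]` lie in `O_{q'}(H)` (S3819).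
-/

set_option autoImplicit false
open Subgroup
open scoped commutatorElement

namespace Cfsg.Agent.Lib.Helper12.CoreControl

variable {G : Type*} [Group G]

/-- the image in `G` of `O_{q'}(H)` for a subgroup `H` -/
abbrev coreQ (q : ℕ) (H : Subgroup G) : Subgroup G := (Cfsg.pPrimeCore q ↥H).map H.subtype

theorem coreQ_le (q : ℕ) (H : Subgroup G) : coreQ q H ≤ H := Subgroup.map_subtype_le _

theorem coreQ_coprime [Finite G] (q : ℕ) (H : Subgroup G) : (Nat.card ↥(coreQ q H)).Coprime q := by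
  unfold coreQ
  rw [Subgroup.card_map_of_injective H.subtype_injective]
  exact Cfsg.Agent.Lib.Helper12.pPrimeCore_coprime q

theorem normalizer_le_normalizer_coreQ [Finite G] (q : ℕ) (H : Subgroup G) :
    normalizer (H : Set G) ≤ normalizer ((coreQ q H : Subgroup G) : Set G) := by
  intro a ha
  apply Cfsg.Agent.Lib.Helper1.mem_normalizer_of_forall_conj_mem
  intro x hx
  haveI := Cfsg.Agent.Lib.Helper12.pPrimeCore_characteristic (G := ↥H) q
  exact Cfsg.Agent.Lib.Helper1.conj_mem_map_subtype_of_characteristic H _ ha hx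

theorem le_coreQ {q : ℕ} {H N : Subgroup G} (hNH : N ≤ H) (hn : H ≤ normalizer (N : Set G))
    (hc : (Nat.card N).Coprime q) : N ≤ coreQ q H := by
  have h1 : (N.subgroupOf H).Normal := (Subgroup.normal_subgroupOf_iff_le_normalizer hNH).mpr hn
  have h3 : (Nat.card ↥(N.subgroupOf H)).Coprime q := by
    rw [Nat.card_congr (Subgroup.subgroupOfEquivOfLe hNH).toEquiv]; exact hc
  have h4 := Cfsg.Agent.Lib.Helper12.le_pPrimeCore q _ h1 h3
  unfold coreQ
  rw [← Subgroup.map_subgroupOf_eq_of_le hNH]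
  exact Subgroup.map_mono h4

/-- likewise for `O_q` -/
abbrev coreP (q : ℕ) (H : Subgroup G) : Subgroup G := (Cfsg.pCore q ↥H).map H.subtype

theorem normalizer_le_normalizer_coreP [Finite G] (q : ℕ) (H : Subgroup G) :
    normalizer (H : Set G) ≤ normalizer ((coreP q H : Subgroup G) : Set G) := by
  intro a ha
  apply Cfsg.Agent.Lib.Helper1.mem_normalizer_of_forall_conj_mem
  intro x hx
  haveI := Cfsg.Agent.Lib.Helper12.pCore_characteristic' (G := ↥H) q
  exact Cfsg.Agent.Lib.Helper1.conj_mem_map_subtype_of_characteristic H _ ha hx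

/-- a `q`-element of a `q'`-group is trivial -/
theorem eq_one_of_mem_of_coprime {q : ℕ} (A B : Subgroup G) [Finite A] [Finite B] (hA : IsPGroup q A)
    (hB : (Nat.card B).Coprime q) (x : G) (hxA : x ∈ A) (hxB : x ∈ B) : x = 1 := by
  obtain ⟨k, hk⟩ := hA ⟨x, hxA⟩
  have h1 : x ^ q ^ k = 1 := by simpa using congrArg Subtype.val hk
  have h2 : orderOf x ∣ q ^ k := orderOf_dvd_of_pow_eq_one h1
  have h3 : orderOf x ∣ Nat.card B := Subgroup.orderOf_dvd_natCard B hxB
  have h4 : (Nat.card B).Coprime (q ^ k) := Nat.Coprime.pow_right k hB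
  exact orderOf_eq_one_iff.mp (Nat.eq_one_of_dvd_coprimes h4 h3 h2)


/-- **core-free case**: if `H` has no nontrivial `H`-invariant `q'`-subgroup, then
`O_{q'}(C_H(z)) ∩ O_{q'}(C_H(P)) = 1`. -/
theorem inf_eq_bot_of_core_free [Finite G] {p q : ℕ} [hp : Fact p.Prime] [hq : Fact q.Prime]
    (H P : Subgroup G) [hHn : H.Normal] (hHp : (Nat.card H).Coprime p) (hP : IsPGroup p P)
    (hsol : Group.IsSolvable ↥⁅H, P⁆)
    (hcore : ∀ N : Subgroup G, N ≤ H → H ≤ normalizer (N : Set G) → (Nat.card N).Coprime q → N = ⊥)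
    (z : G) (hzH : z ∈ H) (hz : ∃ k : ℕ, orderOf z = q ^ k)
    (X Y : Subgroup G) (hXle : X ≤ H ⊓ centralizer ({z} : Set G)) (hXq : (Nat.card X).Coprime q)
    (hXn : H ⊓ centralizer ({z} : Set G) ≤ normalizer (X : Set G))
    (hYle : Y ≤ H ⊓ centralizer (P : Set G)) (hYq : (Nat.card Y).Coprime q)
    (hYn : H ⊓ centralizer (P : Set G) ≤ normalizer (Y : Set G)) :
    X ⊓ Y = ⊥ := by
  classical
  set K : Subgroup G := ⁅H, P⁆ with hK
  have hKH : K ≤ H := Subgroup.commutator_le_left H P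
  have hHK : H ≤ normalizer (K : Set G) := Cfsg.Agent.Lib.Helper1.le_normalizer_commutator_left H P
  have hPH : P ≤ normalizer (H : Set G) := by
    rw [Subgroup.normalizer_eq_top_iff.mpr hHn]; exact le_top
  have hcopPH : (Nat.card P).Coprime (Nat.card H) := by
    obtain ⟨k, hk⟩ := IsPGroup.iff_card.mp hP
    rw [hk]; exact Nat.Coprime.pow_left k hHp.symm
  have hPsolv : Group.IsSolvable ↥P := by
    haveI := hP.isNilpotent; infer_instance
  -- `H = K C_H(P)`
  have hfact : K ⊔ (H ⊓ centralizer (P : Set G)) = H :=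
    Cfsg.Agent.S0026.result P H hPH hcopPH (Or.inl hPsolv)
  -- `O_{q'}(K) = 1`
  have hKcore : Cfsg.pPrimeCore q ↥K = ⊥ := by
    have h1 : coreQ q K = ⊥ :=
      hcore _ ((coreQ_le q K).trans hKH) (hHK.trans (normalizer_le_normalizer_coreQ q K))
        (coreQ_coprime q K)
    exact (Subgroup.map_eq_bot_iff_of_injective _ K.subtype_injective).mp h1
  -- `O_q(K)` and its self-centralizing property
  set Q₀ : Subgroup G := coreP q K with hQ₀
  have hQ₀K : Q₀ ≤ K := Subgroup.map_subtype_le _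
  have hQ₀q : IsPGroup q Q₀ := (Cfsg.Agent.Lib.Helper12.pCore_isPGroup' (X := ↥K) q).map _
  have hHQ₀ : H ≤ normalizer (Q₀ : Set G) := hHK.trans (normalizer_le_normalizer_coreP q K)
  have hself : ∀ k ∈ K, k ∈ centralizer (Q₀ : Set G) → k ∈ Q₀ := by
    intro k hk hkc
    have hps : Cfsg.IsPSolvable q ↥K :=
      Cfsg.Agent.Lib.Helper25.isPSolvable_of_isSolvable' q hq.out hsol
    have hHH := Cfsg.Agent.Lib.Helper12.centralizer_pCore_le_pCore q hps hKcore
    have hmem : (⟨k, hk⟩ : ↥K) ∈ centralizer ((Cfsg.pCore q ↥K : Subgroup ↥K) : Set ↥K) := by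
      rw [Subgroup.mem_centralizer_iff]
      intro u hu
      apply Subtype.ext
      have huQ : (u : G) ∈ Q₀ := ⟨u, hu, rfl⟩
      exact (Subgroup.mem_centralizer_iff.mp hkc) (u : G) huQ
    exact ⟨⟨k, hk⟩, hHH hmem, rfl⟩
  -- `X` centralizes `O_q(K)` by the `A × B` lemma
  have hzq : IsPGroup q (zpowers z) := by
    obtain ⟨k, hk⟩ := hz
    exact IsPGroup.of_card (n := k) (by rw [Nat.card_zpowers, hk])
  have hXQ₀ : X ≤ centralizer (Q₀ : Set G) := by
    refine Cfsg.Agent.S0028.result q (zpowers z) X Q₀ hzq hXq hQ₀q ?_ ?_ ?_ ?_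
    · rw [zpowers_le, Subgroup.mem_centralizer_iff]
      intro x hx
      exact mem_centralizer_singleton_iff.mp (hXle hx).2
    · rw [zpowers_le]; exact hHQ₀ hzH
    · exact fun x hx => hHQ₀ (hXle hx).1
    · rintro u ⟨huQ, huz⟩
      have huz' : u ∈ centralizer ({z} : Set G) := by
        rw [mem_centralizer_singleton_iff]
        exact (Subgroup.mem_centralizer_iff.mp huz z (mem_zpowers z)).symm
      have huN : u ∈ normalizer (X : Set G) := hXn ⟨hKH (hQ₀K huQ), huz'⟩
      rw [Subgroup.mem_centralizer_iff]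
      intro x hx
      have h1 : u * x * u⁻¹ * x⁻¹ ∈ X :=
        X.mul_mem ((Subgroup.mem_normalizer_iff.mp huN x).mp hx) (X.inv_mem hx)
      have h2 : u * x * u⁻¹ * x⁻¹ ∈ Q₀ := by
        have h3 : x * u⁻¹ * x⁻¹ ∈ Q₀ :=
          (Subgroup.mem_normalizer_iff.mp (hHQ₀ (hXle hx).1) u⁻¹).mp (Q₀.inv_mem huQ)
        have e : u * x * u⁻¹ * x⁻¹ = u * (x * u⁻¹ * x⁻¹) := by group
        rw [e]; exact Q₀.mul_mem huQ h3
      have h4 := eq_one_of_mem_of_coprime Q₀ X hQ₀q hXq _ h2 h1
      calc x * u = (u * x * u⁻¹ * x⁻¹)⁻¹ * (u * x) := by group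
        _ = u * x := by rw [h4, inv_one, one_mul]
  set D : Subgroup G := X ⊓ Y with hD
  have hDX : D ≤ X := inf_le_left
  have hDY : D ≤ Y := inf_le_right
  have hDH : D ≤ H := fun d hd => (hXle (hDX hd)).1
  have hDQ₀ : ⁅Q₀, D⁆ = ⊥ := by
    rw [Subgroup.commutator_eq_bot_iff_le_centralizer]
    intro u hu
    rw [Subgroup.mem_centralizer_iff]
    intro d hd
    exact ((Subgroup.mem_centralizer_iff.mp (hXQ₀ (hDX hd))) u hu).symm
  -- `[K, D] ≤ O_q(K)`
  have hKD_K : ⁅K, D⁆ ≤ K :=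
    Cfsg.Agent.Lib.Helper1.commutator_le_of_le_normalizer (hDH.trans hHK)
  have hKDQ : ⁅⁅K, D⁆, Q₀⁆ = ⊥ := by
    apply Subgroup.commutator_commutator_eq_bot_of_rotate
    · -- ⁅⁅D, Q₀⁆, K⁆ = ⊥
      rw [Subgroup.commutator_comm D Q₀, hDQ₀, Subgroup.commutator_bot_left]
    · -- ⁅⁅Q₀, K⁆, D⁆ = ⊥
      have h1 : ⁅Q₀, K⁆ ≤ Q₀ :=
        Cfsg.Agent.Lib.Helper1.commutator_le_of_le_normalizer (hKH.trans hHQ₀)
      have h2 : ⁅⁅Q₀, K⁆, D⁆ ≤ ⁅Q₀, D⁆ := Subgroup.commutator_mono h1 le_rfl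
      rw [hDQ₀] at h2
      exact le_bot_iff.mp h2
  have hKD_Q₀ : ⁅K, D⁆ ≤ Q₀ := by
    intro c hc
    apply hself c (hKD_K hc)
    have := Subgroup.commutator_eq_bot_iff_le_centralizer.mp hKDQ
    rw [Subgroup.mem_centralizer_iff]
    intro u hu
    have h1 := this hc
    exact (Subgroup.mem_centralizer_iff.mp h1) u hu
  -- `D` centralizes `K`
  have hDK : D ≤ centralizer (K : Set G) := by
    intro d hd
    rw [Subgroup.mem_centralizer_iff]
    intro k hk
    -- c = [k, d] ∈ Q₀ commutes with d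
    set c : G := ⁅k, d⁆ with hc
    have hcKD : c ∈ ⁅K, D⁆ := Subgroup.commutator_mem_commutator hk hd
    have hcQ₀ : c ∈ Q₀ := hKD_Q₀ hcKD
    have hcd : c * d = d * c := by
      have := (Subgroup.mem_centralizer_iff.mp (hXQ₀ (hDX hd))) c hcQ₀
      exact this
    have hconj : k * d * k⁻¹ = c * d := by
      rw [hc, commutatorElement_def]; group
    have hpow : ∀ n : ℕ, (c * d) ^ n = c ^ n * d ^ n := fun n => (Commute.mul_pow hcd n)
    have h1 : (c * d) ^ orderOf d = 1 := by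
      rw [← hconj, conj_pow, pow_orderOf_eq_one]; group
    rw [hpow, pow_orderOf_eq_one, mul_one] at h1
    have h2 : orderOf c ∣ orderOf d := orderOf_dvd_of_pow_eq_one h1
    have h3 : orderOf d ∣ Nat.card X := Subgroup.orderOf_dvd_natCard X (hDX hd)
    obtain ⟨j, hj⟩ := hQ₀q ⟨c, hcQ₀⟩
    have hj' : c ^ q ^ j = 1 := by simpa using congrArg Subtype.val hj
    have h4 : orderOf c ∣ q ^ j := orderOf_dvd_of_pow_eq_one hj'
    have h5 : (Nat.card X).Coprime (q ^ j) := Nat.Coprime.pow_right j hXq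
    have h6 : orderOf c = 1 := Nat.eq_one_of_dvd_coprimes h5 (h2.trans h3) h4
    have h7 : c = 1 := orderOf_eq_one_iff.mp h6
    rw [h7, one_mul] at hconj
    calc k * d = (k * d * k⁻¹) * k := by group
      _ = d * k := by rw [hconj]
  -- `W = Y ∩ C(K)` is an `H`-invariant `q'`-subgroup
  set W : Subgroup G := Y ⊓ centralizer (K : Set G) with hW
  have hWH : W ≤ H := fun w hw => (hYle hw.1).1
  have hWq : (Nat.card W).Coprime q :=
    Nat.Coprime.coprime_dvd_left (Subgroup.card_dvd_of_le inf_le_left) hYq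
  have hKW : K ≤ normalizer (W : Set G) := by
    intro k hk
    apply Cfsg.Agent.Lib.Helper1.mem_normalizer_of_forall_conj_mem
    intro w hw
    have h1 : w * k = k * w := (Subgroup.mem_centralizer_iff.mp hw.2) k hk |>.symm ▸ rfl
    have e : k * w * k⁻¹ = w := by rw [← h1]; group
    rw [e]; exact hw
  have hCW : H ⊓ centralizer (P : Set G) ≤ normalizer (W : Set G) := by
    intro c hc
    apply Cfsg.Agent.Lib.Helper1.mem_normalizer_of_forall_conj_mem
    intro w hw
    refine ⟨(Subgroup.mem_normalizer_iff.mp (hYn hc) w).mp hw.1, ?_⟩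
    show c * w * c⁻¹ ∈ centralizer (K : Set G)
    rw [Subgroup.mem_centralizer_iff]
    intro k hk
    -- c⁻¹ k c ∈ K commutes with w
    have hk' : c⁻¹ * k * c ∈ K := (Subgroup.mem_normalizer_iff''.mp (hHK hc.1) k).mp hk
    have h1 := (Subgroup.mem_centralizer_iff.mp hw.2) _ hk'
    calc k * (c * w * c⁻¹) = c * ((c⁻¹ * k * c) * w) * c⁻¹ := by group
      _ = c * (w * (c⁻¹ * k * c)) * c⁻¹ := by rw [h1]
      _ = c * w * c⁻¹ * k := by group
  have hHW : H ≤ normalizer (W : Set G) := by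
    rw [← hfact]; exact sup_le hKW hCW
  have hWbot : W = ⊥ := hcore W hWH hHW hWq
  rw [eq_bot_iff, ← hWbot]
  exact fun d hd => ⟨hDY hd, hDK hd⟩


/-- `K ⊔ ⟨z⟩` is solvable for a solvable normal subgroup `K` -/
theorem isSolvable_sup_zpowers (K : Subgroup G) [hKn : K.Normal] (hsol : Group.IsSolvable ↥K) (z : G) :
    Group.IsSolvable ↥(K ⊔ zpowers z) := by
  set S : Subgroup G := K ⊔ zpowers z with hS
  set Z : Subgroup (G ⧸ K) := zpowers (QuotientGroup.mk' K z) with hZ
  have hmem : ∀ s : ↥S, ((QuotientGroup.mk' K).comp S.subtype) s ∈ Z := by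
    rintro ⟨s, hs⟩
    have h1 : QuotientGroup.mk' K s ∈ S.map (QuotientGroup.mk' K) := ⟨s, hs, rfl⟩
    rw [hS, Subgroup.map_sup, QuotientGroup.map_mk'_self, bot_sup_eq, MonoidHom.map_zpowers] at h1
    exact h1
  let g : ↥S →* ↥Z := ((QuotientGroup.mk' K).comp S.subtype).codRestrict Z hmem
  let f : ↥K →* ↥S := Subgroup.inclusion (le_sup_left : K ≤ S)
  haveI : Group.IsSolvable ↥Z := by
    haveI : IsCyclic ↥Z := by rw [hZ]; infer_instance
    have hc : IsMulCommutative ↥Z := IsCyclic.isMulCommutative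
    exact Group.isSolvable_of_comm (fun a b => hc.1.1 a b)
  haveI := hsol
  apply Group.isSolvable_of_ker_le_range f g
  rintro ⟨s, hs⟩ hker
  rw [MonoidHom.mem_ker] at hker
  have h1 : QuotientGroup.mk' K s = 1 := by
    have := congrArg Subtype.val hker
    simpa [g] using this
  have hsK : s ∈ K := (QuotientGroup.eq_one_iff s).mp h1
  exact ⟨⟨s, hsK⟩, rfl⟩

/-- **Claim 1**: `[O_{q'}(C_H(z)), P] ≤ O_{q'}(H)` when `[H, P]` is solvable. -/
theorem commutator_le_coreQ [Finite G] {q : ℕ} [hq : Fact q.Prime]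
    (H P : Subgroup G) [hHn : H.Normal] (hKn : (⁅H, P⁆ : Subgroup G).Normal)
    (hsol : Group.IsSolvable ↥⁅H, P⁆)
    (z : G) (hzH : z ∈ H) (hz : ∃ k : ℕ, orderOf z = q ^ k)
    (X : Subgroup G) (hXle : X ≤ H ⊓ centralizer ({z} : Set G)) (hXq : (Nat.card X).Coprime q)
    (hXn : H ⊓ centralizer ({z} : Set G) ≤ normalizer (X : Set G))
    (hPX : P ≤ normalizer (X : Set G)) :
    ⁅X, P⁆ ≤ coreQ q H := by
  classical
  set K : Subgroup G := ⁅H, P⁆ with hK
  haveI := hKn
  have hKH : K ≤ H := Subgroup.commutator_le_left H P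
  have hHK : H ≤ normalizer (K : Set G) := by
    rw [Subgroup.normalizer_eq_top_iff.mpr hKn]; exact le_top
  have h1 : ⁅X, P⁆ ≤ X ⊓ K :=
    le_inf (Cfsg.Agent.Lib.Helper1.commutator_le_of_le_normalizer hPX)
      (Subgroup.commutator_mono (fun x hx => (hXle hx).1) le_rfl)
  refine h1.trans ?_
  set Y₁ : Subgroup G := X ⊓ K with hY₁
  set S : Subgroup G := K ⊔ zpowers z with hS
  have hKS : K ≤ S := le_sup_left
  have hzS : z ∈ S := (le_sup_right : zpowers z ≤ S) (mem_zpowers z)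
  have hSH : S ≤ H := sup_le hKH (zpowers_le.mpr hzH)
  haveI hSsolv : Group.IsSolvable ↥S := isSolvable_sup_zpowers K hsol z
  have hzq : IsPGroup q (zpowers z) := by
    obtain ⟨k, hk⟩ := hz
    exact IsPGroup.of_card (n := k) (by rw [Nat.card_zpowers, hk])
  have hY₁S : Y₁ ≤ S := inf_le_right.trans hKS
  have hY₁q : (Nat.card Y₁).Coprime q :=
    Nat.Coprime.coprime_dvd_left (Subgroup.card_dvd_of_le inf_le_left) hXq
  have h2 : Y₁.subgroupOf S ≤ Cfsg.pPrimeCore q ↥S := by
    apply Cfsg.Agent.Lib.Helper8.le_pPrimeCore_of_centralizer_le_normalizer q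
      ((zpowers z).subgroupOf S) (Y₁.subgroupOf S) hzq.comap_subtype
    · rw [Cfsg.Agent.Lib.Helper1.card_subgroupOf_of_le hY₁S]; exact hY₁q
    · rintro ⟨y, hyS⟩ hy
      rw [Subgroup.mem_subgroupOf] at hy
      rw [Subgroup.mem_centralizer_iff]
      rintro ⟨w, hwS⟩ hw
      rw [SetLike.mem_coe, Subgroup.mem_subgroupOf] at hw
      apply Subtype.ext
      show w * y = y * w
      obtain ⟨i, rfl⟩ := Subgroup.mem_zpowers_iff.mp hw
      have hyz : y * z = z * y := mem_centralizer_singleton_iff.mp (hXle hy.1).2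
      exact ((Commute.zpow_right (show Commute y z from hyz) i).eq).symm
    · rintro ⟨s, hsS⟩ hs
      have hsz : s * z = z * s := by
        have := (Subgroup.mem_centralizer_iff.mp hs) ⟨z, hzS⟩
          (by rw [SetLike.mem_coe, Subgroup.mem_subgroupOf]; exact mem_zpowers z)
        have := congrArg Subtype.val this
        simpa using this.symm
      have hsX : s ∈ normalizer (X : Set G) :=
        hXn ⟨hSH hsS, mem_centralizer_singleton_iff.mpr hsz⟩
      have hsK : s ∈ normalizer (K : Set G) := hHK (hSH hsS)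
      rw [Subgroup.mem_normalizer_iff]
      rintro ⟨y, hyS⟩
      rw [Subgroup.mem_subgroupOf, Subgroup.mem_subgroupOf]
      show y ∈ X ⊓ K ↔ s * y * s⁻¹ ∈ X ⊓ K
      rw [Subgroup.mem_inf, Subgroup.mem_inf, ← Subgroup.mem_normalizer_iff.mp hsX y,
        ← Subgroup.mem_normalizer_iff.mp hsK y]
  have h3 : Y₁ ≤ coreQ q S := by
    intro y hy
    exact ⟨⟨y, hY₁S hy⟩, h2 (Subgroup.mem_subgroupOf.mpr hy), rfl⟩
  -- `O_{q'}(S) ≤ K`
  have h4 : coreQ q S ≤ K := by
    intro y hy
    set π := QuotientGroup.mk' K with hπ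
    have hyS : y ∈ S := coreQ_le q S hy
    have h5 : π y ∈ zpowers (π z) := by
      have h6 : π y ∈ S.map π := ⟨y, hyS, rfl⟩
      rw [hS, Subgroup.map_sup, QuotientGroup.map_mk'_self, bot_sup_eq, MonoidHom.map_zpowers] at h6
      exact h6
    have hZq : IsPGroup q (zpowers (π z)) := by
      have : zpowers (π z) = (zpowers z).map π := (MonoidHom.map_zpowers π z).symm
      rw [this]; exact hzq.map π
    have h7 : (Nat.card ((coreQ q S).map π)).Coprime q :=
      Nat.Coprime.coprime_dvd_left (Subgroup.card_map_dvd _ _) (coreQ_coprime q S)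
    have h8 := eq_one_of_mem_of_coprime (zpowers (π z)) ((coreQ q S).map π) hZq h7 (π y) h5
      ⟨y, hy, rfl⟩
    exact (QuotientGroup.eq_one_iff y).mp h8
  have h5 : coreQ q S ≤ coreQ q K :=
    le_coreQ h4 ((hKS.trans Subgroup.le_normalizer).trans (normalizer_le_normalizer_coreQ q S))
      (coreQ_coprime q S)
  have h6 : coreQ q K ≤ coreQ q H :=
    le_coreQ ((coreQ_le q K).trans hKH) (hHK.trans (normalizer_le_normalizer_coreQ q K))
      (coreQ_coprime q K)
  exact h3.trans (h5.trans h6)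


/-- **Claim 2**: `O_{q'}(C_H(z)) ∩ O_{q'}(C_H(P)) ≤ O_{q'}(H)`. -/
theorem inf_le_coreQ [Finite G] {p q : ℕ} [hp : Fact p.Prime] [hq : Fact q.Prime]
    (H P : Subgroup G) [hHn : H.Normal] (hHp : (Nat.card H).Coprime p) (hP : IsPGroup p P)
    (hsol : Group.IsSolvable ↥⁅H, P⁆)
    (z : G) (hzH : z ∈ H) (hz : ∃ k : ℕ, orderOf z = q ^ k)
    (X Y : Subgroup G) (hXle : X ≤ H ⊓ centralizer ({z} : Set G)) (hXq : (Nat.card X).Coprime q)
    (hXn : H ⊓ centralizer ({z} : Set G) ≤ normalizer (X : Set G))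
    (hYle : Y ≤ H ⊓ centralizer (P : Set G)) (hYq : (Nat.card Y).Coprime q)
    (hYn : H ⊓ centralizer (P : Set G) ≤ normalizer (Y : Set G)) :
    X ⊓ Y ≤ coreQ q H := by
  classical
  set R : Subgroup G := coreQ q H with hR
  have hRH : R ≤ H := coreQ_le q H
  have hRq : (Nat.card R).Coprime q := coreQ_coprime q H
  haveI hRn : R.Normal := by
    rw [← Subgroup.normalizer_eq_top_iff, eq_top_iff]
    refine le_trans ?_ (normalizer_le_normalizer_coreQ q H)
    rw [Subgroup.normalizer_eq_top_iff.mpr hHn]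
  have hRnorm : ∀ A : Subgroup G, A ≤ normalizer (R : Set G) := by
    intro A; rw [Subgroup.normalizer_eq_top_iff.mpr hRn]; exact le_top
  set π := QuotientGroup.mk' R with hπ
  have hπs : Function.Surjective π := QuotientGroup.mk'_surjective R
  have hπ1 : ∀ n ∈ R, π n = 1 := fun n hn => (QuotientGroup.eq_one_iff n).mpr hn
  haveI hHbn : (H.map π).Normal := Subgroup.Normal.map hHn π hπs
  have hzq : IsPGroup q (zpowers z) := by
    obtain ⟨k, hk⟩ := hz
    exact IsPGroup.of_card (n := k) (by rw [Nat.card_zpowers, hk])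
  have hzsolv : Group.IsSolvable ↥(zpowers z) := by
    have hc : IsMulCommutative ↥(zpowers z) := IsCyclic.isMulCommutative
    exact Group.isSolvable_of_comm (fun a b => hc.1.1 a b)
  have hPsolv : Group.IsSolvable ↥P := by
    haveI := hP.isNilpotent; infer_instance
  have key := inf_eq_bot_of_core_free (p := p) (q := q) (H.map π) (P.map π)
    (Nat.Coprime.coprime_dvd_left (Subgroup.card_map_dvd _ _) hHp) (hP.map π)
    (by
      rw [← Subgroup.map_commutator]
      haveI := hsol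
      exact Group.isSolvable_of_surjective (MonoidHom.subgroupMap_surjective π ⁅H, P⁆))
    (by
      -- core-freeness of the quotient
      intro Nb hNbH hNbn hNbq
      set N₁ : Subgroup G := Nb.comap π with hN₁
      have h1 : N₁ ≤ H := by
        intro x hx
        obtain ⟨h, hh, hhx⟩ := hNbH (Subgroup.mem_comap.mp hx)
        have h2 : h⁻¹ * x ∈ R := by
          rw [← QuotientGroup.eq_one_iff]
          show π (h⁻¹ * x) = 1
          rw [map_mul, map_inv, hhx]; group
        have e : x = h * (h⁻¹ * x) := by group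
        rw [e]; exact H.mul_mem hh (hRH h2)
      have h2 : H ≤ normalizer (N₁ : Set G) := by
        intro h hh
        have h3 : π h ∈ normalizer (Nb : Set (G ⧸ R)) := hNbn ⟨h, hh, rfl⟩
        rw [Subgroup.mem_normalizer_iff]
        intro x
        rw [hN₁, Subgroup.mem_comap, Subgroup.mem_comap, map_mul, map_mul, map_inv]
        exact Subgroup.mem_normalizer_iff.mp h3 (π x)
      have h3 : (Nat.card N₁).Coprime q := by
        rw [hN₁, Cfsg.Agent.Lib.Helper12.card_comap_mk']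
        exact Nat.Coprime.mul_left hRq hNbq
      have h4 : N₁ ≤ R := le_coreQ h1 h2 h3
      rw [eq_bot_iff]
      intro nb hnb
      obtain ⟨x, rfl⟩ := hπs nb
      rw [Subgroup.mem_bot]
      exact hπ1 x (h4 (Subgroup.mem_comap.mpr hnb)))
    (π z) ⟨z, hzH, rfl⟩
    (by
      obtain ⟨k, hk⟩ := hz
      have : orderOf (π z) ∣ q ^ k := hk ▸ orderOf_map_dvd π z
      obtain ⟨m, -, hm⟩ := (Nat.dvd_prime_pow hq.out).mp this
      exact ⟨m, hm⟩)
    (X.map π) (Y.map π)
    (by
      rintro _ ⟨x, hx, rfl⟩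
      refine ⟨⟨x, (hXle hx).1, rfl⟩, ?_⟩
      show π x ∈ centralizer ({π z} : Set (G ⧸ R))
      rw [mem_centralizer_singleton_iff]
      have := mem_centralizer_singleton_iff.mp (hXle hx).2
      rw [← map_mul, ← map_mul, this])
    (Nat.Coprime.coprime_dvd_left (Subgroup.card_map_dvd _ _) hXq)
    (by
      rintro _ ⟨⟨h, hh, rfl⟩, hc⟩
      have hc' : π h * π z = π z * π h := mem_centralizer_singleton_iff.mp hc
      have hfix : ∀ a ∈ zpowers z, h⁻¹ * a * h * a⁻¹ ∈ R := by
        intro a ha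
        obtain ⟨i, rfl⟩ := Subgroup.mem_zpowers_iff.mp ha
        rw [← QuotientGroup.eq_one_iff]
        show π (h⁻¹ * z ^ i * h * (z ^ i)⁻¹) = 1
        have hcomm : Commute (π h) (π z ^ i) := Commute.zpow_right (show Commute (π h) (π z) from hc') i
        rw [map_mul, map_mul, map_mul, map_inv, map_inv, map_zpow, mul_assoc (π h)⁻¹, ← hcomm.eq]
        group
      have hcop : (Nat.card ↥(zpowers z)).Coprime (Nat.card R) := by
        obtain ⟨k, hk⟩ := hz
        rw [Nat.card_zpowers, hk]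
        exact Nat.Coprime.pow_left k hRq.symm
      obtain ⟨n, hn, hc2⟩ := Cfsg.Agent.Lib.Helper1.exists_mul_mem_centralizer
        (hRnorm (zpowers z)) hcop (Or.inl hzsolv) h hfix
      have hmem : h * n ∈ H ⊓ centralizer ({z} : Set G) := by
        refine ⟨H.mul_mem hh (hRH hn), ?_⟩
        show h * n ∈ centralizer ({z} : Set G)
        rw [mem_centralizer_singleton_iff]
        exact ((Subgroup.mem_centralizer_iff.mp hc2) z (mem_zpowers z)).symm
      have h5 : π (h * n) ∈ normalizer ((X.map π : Subgroup (G ⧸ R)) : Set (G ⧸ R)) :=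
        Subgroup.le_normalizer_map π ⟨h * n, hXn hmem, rfl⟩
      rw [map_mul, hπ1 n hn, mul_one] at h5
      exact h5)
    (by
      rintro _ ⟨y, hy, rfl⟩
      refine ⟨⟨y, (hYle hy).1, rfl⟩, ?_⟩
      show π y ∈ centralizer ((P.map π : Subgroup (G ⧸ R)) : Set (G ⧸ R))
      rw [Subgroup.mem_centralizer_iff]
      rintro _ ⟨a, ha, rfl⟩
      have := (Subgroup.mem_centralizer_iff.mp (hYle hy).2) a ha
      show π a * π y = π y * π a
      rw [← map_mul, ← map_mul, this])
    (Nat.Coprime.coprime_dvd_left (Subgroup.card_map_dvd _ _) hYq)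
    (by
      rintro _ ⟨⟨h, hh, rfl⟩, hc⟩
      have hfix : ∀ a ∈ P, h⁻¹ * a * h * a⁻¹ ∈ R := by
        intro a ha
        rw [← QuotientGroup.eq_one_iff]
        show π (h⁻¹ * a * h * a⁻¹) = 1
        have hcomm : π a * π h = π h * π a :=
          (Subgroup.mem_centralizer_iff.mp hc) (π a) ⟨a, ha, rfl⟩
        rw [map_mul, map_mul, map_mul, map_inv, map_inv, mul_assoc (π h)⁻¹, hcomm]
        group
      have hcop : (Nat.card ↥P).Coprime (Nat.card R) := by
        obtain ⟨k, hk⟩ := IsPGroup.iff_card.mp hP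
        rw [hk]
        exact Nat.Coprime.pow_left k
          (Nat.Coprime.coprime_dvd_left (Subgroup.card_dvd_of_le hRH) hHp).symm
      obtain ⟨n, hn, hc2⟩ := Cfsg.Agent.Lib.Helper1.exists_mul_mem_centralizer
        (hRnorm P) hcop (Or.inl hPsolv) h hfix
      have hmem : h * n ∈ H ⊓ centralizer (P : Set G) := ⟨H.mul_mem hh (hRH hn), hc2⟩
      have h5 : π (h * n) ∈ normalizer ((Y.map π : Subgroup (G ⧸ R)) : Set (G ⧸ R)) :=
        Subgroup.le_normalizer_map π ⟨h * n, hYn hmem, rfl⟩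
      rw [map_mul, hπ1 n hn, mul_one] at h5
      exact h5)
  intro d hd
  have h1 : π d ∈ X.map π ⊓ Y.map π := ⟨⟨d, hd.1, rfl⟩, ⟨d, hd.2, rfl⟩⟩
  rw [key, Subgroup.mem_bot] at h1
  exact (QuotientGroup.eq_one_iff d).mp h1

/-- S3819 in internal form -/
theorem core_control [Finite G] {p q : ℕ} [hp : Fact p.Prime] [hq : Fact q.Prime]
    (H P : Subgroup G) [hHn : H.Normal] (hHp : (Nat.card H).Coprime p) (hP : IsPGroup p P)
    (hPH : H ⊔ P = ⊤) (hsol : Group.IsSolvable ↥⁅H, P⁆)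
    (z : G) (hzH : z ∈ H) (hzP : z ∈ centralizer (P : Set G)) (hz : ∃ k : ℕ, orderOf z = q ^ k) :
    (coreQ q (H ⊓ centralizer ({z} : Set G)) ⊓ coreQ q (H ⊓ centralizer (P : Set G))) ⊔
      ⁅coreQ q (H ⊓ centralizer ({z} : Set G)), P⁆ ≤ coreQ q H := by
  have hXle := coreQ_le q (H ⊓ centralizer ({z} : Set G))
  have hXq := coreQ_coprime q (H ⊓ centralizer ({z} : Set G))
  have hXn : H ⊓ centralizer ({z} : Set G) ≤
      normalizer ((coreQ q (H ⊓ centralizer ({z} : Set G)) : Subgroup G) : Set G) :=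
    Subgroup.le_normalizer.trans (normalizer_le_normalizer_coreQ q _)
  have hYle := coreQ_le q (H ⊓ centralizer (P : Set G))
  have hYq := coreQ_coprime q (H ⊓ centralizer (P : Set G))
  have hYn : H ⊓ centralizer (P : Set G) ≤
      normalizer ((coreQ q (H ⊓ centralizer (P : Set G)) : Subgroup G) : Set G) :=
    Subgroup.le_normalizer.trans (normalizer_le_normalizer_coreQ q _)
  have hPX : P ≤ normalizer ((coreQ q (H ⊓ centralizer ({z} : Set G)) : Subgroup G) : Set G) := by
    refine le_trans ?_ (normalizer_le_normalizer_coreQ q _)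
    intro a ha
    apply Cfsg.Agent.Lib.Helper1.mem_normalizer_of_forall_conj_mem
    rintro x ⟨hxH, hxz⟩
    refine ⟨hHn.conj_mem x hxH a, ?_⟩
    have hxz' : x * z = z * x := mem_centralizer_singleton_iff.mp hxz
    have haz : z * a = a * z := (Subgroup.mem_centralizer_iff.mp hzP) a ha |>.symm
    show a * x * a⁻¹ ∈ centralizer ({z} : Set G)
    rw [mem_centralizer_singleton_iff]
    have haz' : a⁻¹ * z = z * a⁻¹ := by
      calc a⁻¹ * z = a⁻¹ * (z * a) * a⁻¹ := by group
        _ = a⁻¹ * (a * z) * a⁻¹ := by rw [haz]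
        _ = z * a⁻¹ := by group
    calc a * x * a⁻¹ * z = a * x * (a⁻¹ * z) := by group
      _ = a * x * (z * a⁻¹) := by rw [haz']
      _ = a * (x * z) * a⁻¹ := by group
      _ = a * (z * x) * a⁻¹ := by rw [hxz']
      _ = (a * z) * x * a⁻¹ := by group
      _ = (z * a) * x * a⁻¹ := by rw [haz]
      _ = z * (a * x * a⁻¹) := by group
  have hKn : (⁅H, P⁆ : Subgroup G).Normal := by
    rw [← Subgroup.normalizer_eq_top_iff, eq_top_iff, ← hPH]
    exact sup_le (Cfsg.Agent.Lib.Helper1.le_normalizer_commutator_left H P)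
      (Cfsg.Agent.Lib.Helper1.le_normalizer_commutator_right H P)
  exact sup_le
    (inf_le_coreQ H P hHp hP hsol z hzH hz _ _ hXle hXq hXn hYle hYq hYn)
    (commutator_le_coreQ H P hKn hsol z hzH hz _ hXle hXq hXn hPX)

end Cfsg.Agent.Lib.Helper12.CoreControl
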