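import Mathlib
import Cfsg.Prelude.Def_ConjugacyFunctors
import Cfsg.Agent.Lib.Helper12.Basic

/-!
Helper lemmas (helper12): conjugates `cj x H = x H x⁻¹`, towers of a conjugacy functor, and existence of a
well-placed conjugate.
-/

set_option autoImplicit false
open Subgroup
namespace Cfsg.Agent.Lib.Helper12

section cj
variable {G : Type*} [Group G]

/-- the conjugate `x H x⁻¹` -/
def cj (x : G) (H : Subgroup G) : Subgroup G := H.map (MulAut.conj x).toMonoidHom

theorem cj_def (x : G) (H : Subgroup G) : cj x H = H.map (MulAut.conj x).toMonoidHom := rfl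

theorem cj_normalizer (x : G) (H : Subgroup G) :
    cj x (Subgroup.normalizer (H : Set G)) = Subgroup.normalizer ((cj x H : Subgroup G) : Set G) :=
  Subgroup.map_equiv_normalizer_eq H (MulAut.conj x)

theorem cj_inf (x : G) (H K : Subgroup G) : cj x (H ⊓ K) = cj x H ⊓ cj x K :=
  Subgroup.map_inf H K _ (MulAut.conj x).injective

theorem cj_relIndex (x : G) (H K : Subgroup G) : (cj x H).relIndex (cj x K) = H.relIndex K :=
  Subgroup.relIndex_map_map_of_injective H K (MulAut.conj x).injective

theorem cj_mul (x y : G) (H : Subgroup G) : cj x (cj y H) = cj (x * y) H := by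
  unfold cj
  rw [Subgroup.map_map]
  congr 1
  ext z
  simp [MulAut.conj_apply, mul_assoc]

theorem cj_self_of_mem {H : Subgroup G} {g : G} (hg : g ∈ H) : cj g H = H := by
  ext y
  rw [cj_def, mem_map_conj_iff]
  constructor
  · intro h
    have := H.mul_mem (H.mul_mem hg h) (H.inv_mem hg)
    simpa [mul_assoc] using this
  · intro h
    exact H.mul_mem (H.mul_mem (H.inv_mem hg) h) hg

theorem cj_mono (x : G) {H K : Subgroup G} (h : H ≤ K) : cj x H ≤ cj x K := Subgroup.map_mono h

theorem mem_normalizer_of_cj_eq {H : Subgroup G} {g : G} (h : cj g H = H) :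
    g ∈ Subgroup.normalizer (H : Set G) :=
  Subgroup.mem_normalizer_iff_map_conj_eq.mpr h

end cj

section tower
variable {G : Type*} [Group G] {p : ℕ} [Fact p.Prime]
  (W : Subgroup G → Subgroup G) (hW : Cfsg.IsConjugacyFunctor p W) (S : Subgroup G)
  (hS : IsPGroup p S)

/-- a `p`-subgroup containing a subgroup of `p'`-index of a bigger group is equal to it -/
theorem le_of_isPGroup_of_relIndex [Finite G] {A B M : Subgroup G} (hAB : A ≤ B) (hBM : B ≤ M)
    (hB : IsPGroup p B) (hA : ¬ p ∣ A.relIndex M) : B ≤ A := by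
  have hp : p.Prime := Fact.out
  rw [← Subgroup.relIndex_eq_one]
  have h1 : A.relIndex B ∣ A.relIndex M := ⟨_, (Subgroup.relIndex_mul_relIndex A B M hAB hBM).symm⟩
  obtain ⟨k, hk⟩ := hB.index (A.subgroupOf B)
  have hk' : A.relIndex B = p ^ k := hk
  rcases Nat.eq_zero_or_pos k with rfl | hk0
  · simpa using hk'
  · exfalso
    apply hA
    refine dvd_trans ?_ h1
    rw [hk']
    exact dvd_pow_self p (ne_of_gt hk0)

include hW hS

omit [Fact p.Prime] in
theorem functorTower_le {T : Subgroup G} (hT : T ≤ S) (i : ℕ) : Cfsg.functorTower W S T i ≤ S := by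
  cases i with
  | zero => exact hT
  | succ i =>
    show W (S ⊓ Subgroup.normalizer ((Cfsg.functorTower W S T i : Subgroup G) : Set G)) ≤ S
    exact le_trans (hW _ (hS.to_le inf_le_left)).1 inf_le_left

omit [Fact p.Prime] in
theorem towerNormalizer_le_succ (T : Subgroup G) (i : ℕ) :
    S ⊓ Subgroup.normalizer ((Cfsg.functorTower W S T i : Subgroup G) : Set G) ≤
      S ⊓ Subgroup.normalizer ((Cfsg.functorTower W S T (i + 1) : Subgroup G) : Set G) := by
  apply le_inf inf_le_left
  intro g hg
  show g ∈ Subgroup.normalizer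
    ((W (S ⊓ Subgroup.normalizer ((Cfsg.functorTower W S T i : Subgroup G) : Set G)) : Subgroup G) : Set G)
  apply mem_normalizer_of_cj_eq
  have h1 : W (cj g (S ⊓ Subgroup.normalizer ((Cfsg.functorTower W S T i : Subgroup G) : Set G))) =
      cj g (W (S ⊓ Subgroup.normalizer ((Cfsg.functorTower W S T i : Subgroup G) : Set G))) :=
    (hW _ (hS.to_le (inf_le_left (b :=
      Subgroup.normalizer ((Cfsg.functorTower W S T i : Subgroup G) : Set G))))).2.2 g
  rw [cj_self_of_mem hg] at h1
  exact h1.symm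

omit [Fact p.Prime] in
theorem towerNormalizer_mono (T : Subgroup G) {i j : ℕ} (hij : i ≤ j) :
    S ⊓ Subgroup.normalizer ((Cfsg.functorTower W S T i : Subgroup G) : Set G) ≤
      S ⊓ Subgroup.normalizer ((Cfsg.functorTower W S T j : Subgroup G) : Set G) := by
  induction hij with
  | refl => exact le_rfl
  | step _ ih => exact le_trans ih (towerNormalizer_le_succ W hW S hS T _)

/-- the first `n` levels of the tower of `T` are fine -/
def TowerGood (p : ℕ) (W : Subgroup G → Subgroup G) (S T : Subgroup G) (n : ℕ) : Prop :=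
  T ≤ S ∧ ∀ i < n,
    ¬ p ∣ (S ⊓ Subgroup.normalizer ((Cfsg.functorTower W S T i : Subgroup G) : Set G)).relIndex
      (Subgroup.normalizer ((Cfsg.functorTower W S T i : Subgroup G) : Set G))

theorem towerNormalizer_cj [Finite G] {T : Subgroup G} {n : ℕ} (hgood : TowerGood p W S T n) (x : G)
    (hx : cj x (S ⊓ Subgroup.normalizer ((Cfsg.functorTower W S T n : Subgroup G) : Set G)) ≤ S)
    {i : ℕ} (hi : i < n) :
    S ⊓ Subgroup.normalizer ((cj x (Cfsg.functorTower W S T i) : Subgroup G) : Set G) =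
      cj x (S ⊓ Subgroup.normalizer ((Cfsg.functorTower W S T i : Subgroup G) : Set G)) := by
  have hge : cj x (S ⊓ Subgroup.normalizer ((Cfsg.functorTower W S T i : Subgroup G) : Set G)) ≤
      S ⊓ Subgroup.normalizer ((cj x (Cfsg.functorTower W S T i) : Subgroup G) : Set G) := by
    apply le_inf
    · exact le_trans (cj_mono x (towerNormalizer_mono W hW S hS T hi.le)) hx
    · rw [← cj_normalizer]
      exact cj_mono x inf_le_right
  apply le_antisymm _ hge
  apply le_of_isPGroup_of_relIndex (p := p) hge inf_le_right (hS.to_le inf_le_left)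
  rw [← cj_normalizer, cj_relIndex]
  exact hgood.2 i hi

theorem functorTower_cj [Finite G] {T : Subgroup G} {n : ℕ} (hgood : TowerGood p W S T n) (x : G)
    (hx : cj x (S ⊓ Subgroup.normalizer ((Cfsg.functorTower W S T n : Subgroup G) : Set G)) ≤ S)
    {i : ℕ} (hi : i ≤ n) :
    Cfsg.functorTower W S (cj x T) i = cj x (Cfsg.functorTower W S T i) := by
  induction i with
  | zero => rfl
  | succ i ih =>
    have hi' : i < n := hi
    show W (S ⊓ Subgroup.normalizer ((Cfsg.functorTower W S (cj x T) i : Subgroup G) : Set G)) =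
      cj x (W (S ⊓ Subgroup.normalizer ((Cfsg.functorTower W S T i : Subgroup G) : Set G)))
    rw [ih hi'.le, towerNormalizer_cj W hW S hS hgood x hx hi']
    exact (hW _ (hS.to_le inf_le_left)).2.2 x

theorem towerGood_succ [Finite G] (P : Sylow p G) (hPS : (P : Subgroup G) = S) {T : Subgroup G} {n : ℕ}
    (hgood : TowerGood p W S T n) : ∃ x : G, TowerGood p W S (cj x T) (n + 1) := by
  set U := Cfsg.functorTower W S T n with hU
  set M := Subgroup.normalizer ((U : Subgroup G) : Set G) with hM
  -- a Sylow subgroup `R` of `M` containing `S ⊓ M`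
  have hNp : IsPGroup p ((S ⊓ M).subgroupOf M) := (hS.to_le inf_le_left).comap_subtype
  obtain ⟨Q, hQ⟩ := hNp.exists_le_sylow
  set R := (Q : Subgroup M).map M.subtype with hR
  have hRp : IsPGroup p R := Q.2.map _
  have hRM : R ≤ M := Subgroup.map_subtype_le _
  have hNR : S ⊓ M ≤ R := by
    intro y hy
    have hyM : y ∈ M := (Subgroup.mem_inf.mp hy).2
    exact ⟨⟨y, hyM⟩, hQ (by rw [Subgroup.mem_subgroupOf]; exact hy), rfl⟩
  have hRidx : ¬ p ∣ R.relIndex M := by
    have : R.relIndex M = (Q : Subgroup M).index := by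
      rw [Subgroup.relIndex, hR, Subgroup.subgroupOf,
        Subgroup.comap_map_eq_self_of_injective M.subtype_injective]
    rw [this]
    exact Q.not_dvd_index
  -- conjugate `R` into `S`
  obtain ⟨x, -, hx⟩ := exists_conj_mem_sylow P ⊤ R le_top le_top hRp
  have hxR : cj x R ≤ S := by
    rintro _ ⟨r, hr, rfl⟩
    rw [← hPS]
    have := hx r hr
    simpa [MulAut.conj_apply] using this
  have hxN : cj x (S ⊓ M) ≤ S := le_trans (cj_mono x hNR) hxR
  refine ⟨x, ?_, ?_⟩
  · -- `T ≤ S ⊓ N(T) ≤ S ⊓ M`
    have hT0 : T ≤ S ⊓ Subgroup.normalizer ((Cfsg.functorTower W S T 0 : Subgroup G) : Set G) :=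
      le_inf hgood.1 Subgroup.le_normalizer
    exact le_trans (cj_mono x (le_trans hT0 (towerNormalizer_mono W hW S hS T (Nat.zero_le n)))) hxN
  · intro i hi
    rw [functorTower_cj W hW S hS hgood x hxN (Nat.lt_succ_iff.mp hi)]
    rcases Nat.lt_succ_iff_lt_or_eq.mp hi with hlt | rfl
    · rw [towerNormalizer_cj W hW S hS hgood x hxN hlt, ← cj_normalizer, cj_relIndex]
      exact hgood.2 i hlt
    · rw [← cj_normalizer]
      intro hdvd
      apply hRidx
      rw [← cj_relIndex x R M]
      refine dvd_trans hdvd (Subgroup.relIndex_dvd_of_le_left _ ?_)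
      apply le_inf hxR
      exact cj_mono x hRM

theorem exists_towerGood [Finite G] (P : Sylow p G) (hPS : (P : Subgroup G) = S) {T : Subgroup G}
    (hT : T ≤ S) (n : ℕ) : ∃ g : G, TowerGood p W S (cj g T) n := by
  induction n with
  | zero =>
    refine ⟨1, ?_, fun i hi => absurd hi (Nat.not_lt_zero i)⟩
    have : cj 1 T = T := cj_self_of_mem (one_mem T)
    rw [this]; exact hT
  | succ n ih =>
    obtain ⟨g, hg⟩ := ih
    obtain ⟨x, hx⟩ := towerGood_succ W hW S hS P hPS hg
    rw [cj_mul] at hx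
    exact ⟨x * g, hx⟩

omit hW hS [Fact p.Prime] in
theorem TowerGood.mono {T : Subgroup G} {m n : ℕ} (hmn : m ≤ n) (h : TowerGood p W S T n) :
    TowerGood p W S T m :=
  ⟨h.1, fun i hi => h.2 i (lt_of_lt_of_le hi hmn)⟩

theorem exists_isWellPlaced [Finite G] (P : Sylow p G) (hPS : (P : Subgroup G) = S) {T : Subgroup G}
    (hT : T ≤ S) : ∃ g : G, Cfsg.IsWellPlaced p W S (T.map (MulAut.conj g).toMonoidHom) := by
  classical
  have := Fintype.ofFinite G
  by_contra hcon
  have h1 : ∀ g : G, ∃ n : ℕ, ¬ TowerGood p W S (cj g T) n := by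
    intro g
    by_contra hg
    apply hcon
    refine ⟨g, ?_⟩
    have hg' : ∀ n, TowerGood p W S (cj g T) n := by
      intro n
      by_contra h
      exact hg ⟨n, h⟩
    exact ⟨(hg' 0).1, fun i => (hg' (i + 1)).2 i (Nat.lt_succ_self i)⟩
  choose f hf using h1
  obtain ⟨g, hg⟩ := exists_towerGood W hW S hS P hPS hT (Finset.univ.sup f)
  exact hf g (hg.mono W S (Finset.le_sup (Finset.mem_univ g)))

end tower

end Cfsg.Agent.Lib.Helper12
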