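import Mathlib
import Cfsg.Prelude.Def_ConjugacyFunctors
import Cfsg.Agent.Lib.Helper12.Basic
import Cfsg.Agent.Lib.Helper12.WellPlaced

/-!
Helper lemmas (helper12): chains of conjugations through normalizers (conjugation families) and the
Alperin–Goldschmidt fusion theorem.
-/

set_option autoImplicit false
open Subgroup
namespace Cfsg.Agent.Lib.Helper12

section aux
variable {G : Type*} [Group G]

theorem card_cj (x : G) (H : Subgroup G) : Nat.card ↥(cj x H) = Nat.card H := by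
  rw [cj_def]
  exact Subgroup.card_map_of_injective (MulAut.conj x).injective

theorem cj_inv_cj (x : G) (H : Subgroup G) : cj x⁻¹ (cj x H) = H := by
  rw [cj_mul, inv_mul_cancel]
  exact cj_self_of_mem (one_mem H)

theorem cj_cj_inv (x : G) (H : Subgroup G) : cj x (cj x⁻¹ H) = H := by
  rw [cj_mul, mul_inv_cancel]
  exact cj_self_of_mem (one_mem H)

theorem cj_eq_of_le [Finite G] {x : G} {H : Subgroup G} (h : cj x H ≤ H) : cj x H = H :=
  Subgroup.eq_of_le_of_card_ge h (card_cj x H).ge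

theorem cj_eq_of_mem_normalizer {x : G} {H : Subgroup G}
    (hx : x ∈ Subgroup.normalizer (H : Set G)) : cj x H = H :=
  Subgroup.mem_normalizer_iff_map_conj_eq.mp hx

/-- in a finite `p`-group, normalizers grow -/
theorem card_lt_card_inf_normalizer [Finite G] {p : ℕ} [Fact p.Prime] {S T : Subgroup G}
    (hS : IsPGroup p S) (hTS : T ≤ S) (hne : T ≠ S) :
    Nat.card T < Nat.card ↥(S ⊓ Subgroup.normalizer (T : Set G)) := by
  haveI : Group.IsNilpotent ↥S := hS.isNilpotent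
  have hnc : NormalizerCondition ↥S := Group.normalizerCondition_of_isNilpotent
  have hlt : T.subgroupOf S < ⊤ := by
    rw [lt_top_iff_ne_top, Ne, Subgroup.subgroupOf_eq_top]
    intro h
    exact hne (le_antisymm hTS h)
  have h1 := hnc _ hlt
  obtain ⟨s, hsN, hsT⟩ := SetLike.exists_of_lt h1
  rw [← Subgroup.subgroupOf_normalizer_eq hTS, Subgroup.mem_subgroupOf] at hsN
  rw [Subgroup.mem_subgroupOf] at hsT
  apply Set.Finite.card_lt_card (Set.toFinite _)
  constructor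
  · intro t ht
    exact ⟨hTS ht, Subgroup.le_normalizer ht⟩
  · intro hsub
    exact hsT (hsub ⟨s.2, hsN⟩)

end aux


section chains
variable {G : Type*} [Group G]

/-- right conjugate of a set: `x⁻¹ A x` -/
def cjs (x : G) (A : Set G) : Set G := (fun a => x⁻¹ * a * x) '' A

theorem cjs_one (A : Set G) : cjs 1 A = A := by
  unfold cjs
  simp

theorem cjs_mul (x y : G) (A : Set G) : cjs (x * y) A = cjs y (cjs x A) := by
  unfold cjs
  rw [Set.image_image]
  congr 1
  ext a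
  simp [mul_assoc]

theorem cjs_mono (x : G) {A B : Set G} (h : A ⊆ B) : cjs x A ⊆ cjs x B := Set.image_mono h

theorem cjs_coe (x : G) (H : Subgroup G) : cjs x (H : Set G) = ((cj x⁻¹ H : Subgroup G) : Set G) := by
  ext y
  constructor
  · rintro ⟨a, ha, rfl⟩
    exact ⟨a, ha, by simp [MulAut.conj_apply]⟩
  · rintro ⟨a, ha, rfl⟩
    exact ⟨a, ha, by simp [MulAut.conj_apply]⟩

theorem cjs_subset_of_mem_normalizer {x : G} {T : Subgroup G} (hx : x ∈ Subgroup.normalizer (T : Set G))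
    {A : Set G} (hA : A ⊆ T) : cjs x A ⊆ T := by
  rintro _ ⟨a, ha, rfl⟩
  have h1 : x⁻¹ ∈ Subgroup.normalizer (T : Set G) := inv_mem hx
  have := (Subgroup.mem_normalizer_iff.mp h1 a).mp (hA ha)
  simpa using this

/-- chains of conjugations through normalizers of members of `𝓕` -/
def Chain (𝓕 : Set (Subgroup G)) : Set G → List (Subgroup G × G) → Prop
  | _, [] => True
  | A, (T, x) :: l => T ∈ 𝓕 ∧ x ∈ Subgroup.normalizer (T : Set G) ∧ A ⊆ T ∧ Chain 𝓕 (cjs x A) l

/-- the product of the conjugating elements -/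
def prodOf (l : List (Subgroup G × G)) : G := (l.map Prod.snd).prod

theorem prodOf_nil : prodOf ([] : List (Subgroup G × G)) = 1 := rfl

theorem prodOf_cons (T : Subgroup G) (x : G) (l : List (Subgroup G × G)) :
    prodOf ((T, x) :: l) = x * prodOf l := by
  simp [prodOf]

theorem prodOf_append (l₁ l₂ : List (Subgroup G × G)) :
    prodOf (l₁ ++ l₂) = prodOf l₁ * prodOf l₂ := by
  simp [prodOf]

variable (𝓕 : Set (Subgroup G))

theorem Chain.append {A : Set G} {l₁ l₂ : List (Subgroup G × G)} (h₁ : Chain 𝓕 A l₁)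
    (h₂ : Chain 𝓕 (cjs (prodOf l₁) A) l₂) : Chain 𝓕 A (l₁ ++ l₂) := by
  induction l₁ generalizing A with
  | nil =>
    rw [prodOf_nil, cjs_one] at h₂
    exact h₂
  | cons a l ih =>
    obtain ⟨T, x⟩ := a
    obtain ⟨hT, hx, hA, hl⟩ := h₁
    refine ⟨hT, hx, hA, ?_⟩
    apply ih hl
    rw [prodOf_cons, cjs_mul] at h₂
    exact h₂

theorem Chain.mono {A B : Set G} (hBA : B ⊆ A) {l : List (Subgroup G × G)} (h : Chain 𝓕 A l) :
    Chain 𝓕 B l := by
  induction l generalizing A B with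
  | nil => trivial
  | cons a l ih =>
    obtain ⟨T, x⟩ := a
    obtain ⟨hT, hx, hA, hl⟩ := h
    exact ⟨hT, hx, hBA.trans hA, ih (cjs_mono x hBA) hl⟩

/-- the reversed chain -/
def revChain (l : List (Subgroup G × G)) : List (Subgroup G × G) :=
  (l.map (fun q => (q.1, q.2⁻¹))).reverse

theorem revChain_cons (T : Subgroup G) (x : G) (l : List (Subgroup G × G)) :
    revChain ((T, x) :: l) = revChain l ++ [(T, x⁻¹)] := by
  simp [revChain]

theorem prodOf_revChain (l : List (Subgroup G × G)) : prodOf (revChain l) = (prodOf l)⁻¹ := by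
  induction l with
  | nil => simp [revChain, prodOf]
  | cons a l ih =>
    obtain ⟨T, x⟩ := a
    rw [revChain_cons, prodOf_append, ih, prodOf_cons, prodOf_cons, prodOf_nil, mul_one, mul_inv_rev]

theorem Chain.rev {A : Set G} {l : List (Subgroup G × G)} (h : Chain 𝓕 A l) :
    Chain 𝓕 (cjs (prodOf l) A) (revChain l) := by
  induction l generalizing A with
  | nil => trivial
  | cons a l ih =>
    obtain ⟨T, x⟩ := a
    obtain ⟨hT, hx, hA, hl⟩ := h
    rw [revChain_cons, prodOf_cons, cjs_mul]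
    apply Chain.append 𝓕 (ih hl)
    rw [prodOf_revChain, ← cjs_mul, mul_inv_cancel, cjs_one]
    exact ⟨hT, inv_mem hx, cjs_subset_of_mem_normalizer hx hA, trivial⟩

theorem Chain.mem {A : Set G} {l : List (Subgroup G × G)} (h : Chain 𝓕 A l) :
    ∀ q ∈ l, q.1 ∈ 𝓕 ∧ q.2 ∈ Subgroup.normalizer ((q.1 : Subgroup G) : Set G) := by
  induction l generalizing A with
  | nil => intro q hq; simp at hq
  | cons a l ih =>
    obtain ⟨T, x⟩ := a
    obtain ⟨hT, hx, hA, hl⟩ := h
    intro q hq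
    rcases List.mem_cons.mp hq with rfl | hq
    · exact ⟨hT, hx⟩
    · exact ih hl q hq

theorem Chain.step {A : Set G} {l : List (Subgroup G × G)} (h : Chain 𝓕 A l) (i : ℕ)
    (hi : i + 1 < l.length) :
    cjs (((l.map Prod.snd).take (i + 1)).prod) A ⊆ ((l[i + 1]).1 : Subgroup G) := by
  induction l generalizing A i with
  | nil => simp at hi
  | cons a l ih =>
    obtain ⟨T, x⟩ := a
    obtain ⟨hT, hx, hA, hl⟩ := h
    have hi' : i < l.length := by simpa using hi
    simp only [List.map_cons, List.take_succ_cons, List.prod_cons, List.getElem_cons_succ]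
    rw [cjs_mul]
    cases i with
    | zero =>
      simp only [List.take_zero, List.prod_nil]
      rw [cjs_one]
      cases l with
      | nil => simp at hi'
      | cons b l' =>
        obtain ⟨T', x'⟩ := b
        exact hl.2.2.1
    | succ j =>
      exact ih hl j hi'

theorem Chain.toFamily {A : Set G} {l : List (Subgroup G × G)} (h : Chain 𝓕 A l) :
    ∃ (n : ℕ) (T : Fin n → Subgroup G) (x : Fin n → G), (List.ofFn x).prod = prodOf l ∧
      (∀ i, T i ∈ 𝓕) ∧ (∀ i, x i ∈ Subgroup.normalizer ((T i : Subgroup G) : Set G)) ∧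
      (∀ h : 0 < n, A ⊆ T ⟨0, h⟩) ∧
      ∀ (i : Fin n) (h : i.val + 1 < n),
        (fun a => (((List.ofFn x).take (i.val + 1)).prod)⁻¹ * a * ((List.ofFn x).take (i.val + 1)).prod) '' A ⊆
          T ⟨i.val + 1, h⟩ := by
  have hofFn : List.ofFn (fun i : Fin l.length => (l.get i).2) = l.map Prod.snd := by
    apply List.ext_getElem
    · simp
    · intro i h1 h2
      simp
  refine ⟨l.length, fun i => (l.get i).1, fun i => (l.get i).2, ?_, ?_, ?_, ?_, ?_⟩
  · rw [hofFn]; rfl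
  · intro i
    exact (h.mem 𝓕 _ (List.get_mem l i)).1
  · intro i
    exact (h.mem 𝓕 _ (List.get_mem l i)).2
  · intro hn
    cases l with
    | nil => simp at hn
    | cons a l' =>
      obtain ⟨T, x⟩ := a
      exact h.2.2.1
  · intro i hi
    rw [hofFn]
    exact h.step 𝓕 i.val hi


/-- `A` is carried by right conjugation with `g` through a chain of normalizers of members of `𝓕` -/
def Reach (A : Set G) (g : G) : Prop := ∃ l : List (Subgroup G × G), Chain 𝓕 A l ∧ prodOf l = g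

theorem Reach.mono {A B : Set G} (hBA : B ⊆ A) {g : G} (h : Reach 𝓕 A g) : Reach 𝓕 B g := by
  obtain ⟨l, hl, hg⟩ := h
  exact ⟨l, hl.mono 𝓕 hBA, hg⟩

theorem Reach.trans {A : Set G} {g h : G} (h₁ : Reach 𝓕 A g) (h₂ : Reach 𝓕 (cjs g A) h) :
    Reach 𝓕 A (g * h) := by
  obtain ⟨l₁, hl₁, rfl⟩ := h₁
  obtain ⟨l₂, hl₂, rfl⟩ := h₂
  exact ⟨l₁ ++ l₂, hl₁.append 𝓕 hl₂, prodOf_append l₁ l₂⟩

theorem Reach.symm {A : Set G} {g : G} (h : Reach 𝓕 A g) : Reach 𝓕 (cjs g A) g⁻¹ := by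
  obtain ⟨l, hl, rfl⟩ := h
  exact ⟨revChain l, hl.rev 𝓕, prodOf_revChain l⟩

theorem Reach.single {T : Subgroup G} (hT : T ∈ 𝓕) {x : G}
    (hx : x ∈ Subgroup.normalizer (T : Set G)) : Reach 𝓕 (T : Set G) x :=
  ⟨[(T, x)], ⟨hT, hx, le_rfl, trivial⟩, by rw [prodOf_cons, prodOf_nil, mul_one]⟩

end chains

section alperin
variable {G : Type*} [Group G] [Finite G] {p : ℕ} [Fact p.Prime] (S : Sylow p G)
  (𝓕 : Set (Subgroup G))

theorem alperin_key {T₁ U : Subgroup G} (hT₁ : T₁ ≤ (S : Subgroup G)) (hne : T₁ ≠ (S : Subgroup G))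
    (a : G) (hU : cj a T₁ = U)
    (hUsyl : ¬ p ∣ ((S : Subgroup G) ⊓ Subgroup.normalizer ((U : Subgroup G) : Set G)).relIndex
      (Subgroup.normalizer ((U : Subgroup G) : Set G)))
    (IH : ∀ T' : Subgroup G, T' ≤ (S : Subgroup G) → Nat.card T₁ < Nat.card T' →
      ∀ g : G, cj g⁻¹ T' ≤ (S : Subgroup G) → Reach 𝓕 (T' : Set G) g) :
    ∃ b : G, cj b T₁ = U ∧ Reach 𝓕 (T₁ : Set G) b⁻¹ := by
  set N₁ := (S : Subgroup G) ⊓ Subgroup.normalizer ((T₁ : Subgroup G) : Set G) with hN₁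
  have hN₁U : cj a N₁ ≤ Subgroup.normalizer ((U : Subgroup G) : Set G) := by
    rw [← hU, ← cj_normalizer]
    exact cj_mono a inf_le_right
  have hN₁p : IsPGroup p ↥(cj a N₁) := by
    rw [cj_def]
    exact (S.2.to_le inf_le_left).map _
  obtain ⟨y, hyN, hy⟩ := exists_conj_mem_of_relIndex
    ((S : Subgroup G) ⊓ Subgroup.normalizer ((U : Subgroup G) : Set G))
    (Subgroup.normalizer ((U : Subgroup G) : Set G)) (cj a N₁) (S.2.to_le inf_le_left) hUsyl hN₁U hN₁p
  have hyN₁ : cj (y * a) N₁ ≤ (S : Subgroup G) := by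
    rw [← cj_mul]
    rintro _ ⟨q, hq, rfl⟩
    have := hy q hq
    exact (Subgroup.mem_inf.mp (by simpa [MulAut.conj_apply] using this)).1
  refine ⟨y * a, ?_, ?_⟩
  · rw [← cj_mul, hU]
    exact cj_eq_of_mem_normalizer hyN
  · have hT₁N₁ : T₁ ≤ N₁ := le_inf hT₁ Subgroup.le_normalizer
    have hcard : Nat.card T₁ < Nat.card N₁ := card_lt_card_inf_normalizer S.2 hT₁ hne
    have := IH N₁ inf_le_left hcard (y * a)⁻¹ (by rw [inv_inv]; exact hyN₁)
    exact this.mono 𝓕 hT₁N₁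

theorem alperin_main (h𝓕 : ∀ U ∈ 𝓕, U ≤ (S : Subgroup G))
    (h : ∀ T : Subgroup G, T ≤ (S : Subgroup G) → ∃ U ∈ 𝓕,
      (∃ g : G, T.map (MulAut.conj g).toMonoidHom = U) ∧
        ¬ p ∣ ((S : Subgroup G) ⊓ Subgroup.normalizer ((U : Subgroup G) : Set G)).relIndex
          (Subgroup.normalizer ((U : Subgroup G) : Set G))) :
    ∀ (d : ℕ) (T : Subgroup G), T ≤ (S : Subgroup G) → Nat.card (S : Subgroup G) - Nat.card T = d →
      ∀ g : G, cj g⁻¹ T ≤ (S : Subgroup G) → Reach 𝓕 (T : Set G) g := by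
  intro d
  induction d using Nat.strong_induction_on with
  | _ d IHd =>
  intro T hTS hd g hTg
  have hcardle : ∀ T' : Subgroup G, T' ≤ (S : Subgroup G) → Nat.card T' ≤ Nat.card (S : Subgroup G) :=
    fun T' hT' => Subgroup.card_le_of_le hT'
  by_cases hTeq : T = (S : Subgroup G)
  · -- base case
    subst hTeq
    obtain ⟨U, hU𝓕, ⟨x, hx⟩, -⟩ := h (S : Subgroup G) le_rfl
    have hUS : U = (S : Subgroup G) := by
      have h1 : cj x (S : Subgroup G) ≤ (S : Subgroup G) := by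
        rw [cj_def, hx]; exact h𝓕 U hU𝓕
      rw [← hx]
      exact cj_eq_of_le h1
    have hS𝓕 : (S : Subgroup G) ∈ 𝓕 := hUS ▸ hU𝓕
    have hgN : g ∈ Subgroup.normalizer (((S : Subgroup G) : Subgroup G) : Set G) := by
      have := mem_normalizer_of_cj_eq (cj_eq_of_le hTg)
      simpa using inv_mem this
    exact Reach.single 𝓕 hS𝓕 hgN
  · -- inductive step
    obtain ⟨U, hU𝓕, ⟨x₀, hx₀⟩, hUsyl⟩ := h T hTS
    have hx₀' : cj x₀ T = U := hx₀
    have hIH : ∀ T₁ : Subgroup G, Nat.card T₁ = Nat.card T →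
        ∀ T' : Subgroup G, T' ≤ (S : Subgroup G) → Nat.card T₁ < Nat.card T' →
        ∀ g : G, cj g⁻¹ T' ≤ (S : Subgroup G) → Reach 𝓕 (T' : Set G) g := by
      intro T₁ hT₁ T' hT' hlt g' hg'
      apply IHd (Nat.card (S : Subgroup G) - Nat.card T') _ T' hT' rfl g' hg'
      have := hcardle T' hT'
      have := hcardle T hTS
      omega
    -- first leg
    obtain ⟨b₁, hb₁U, hb₁⟩ := alperin_key S 𝓕 hTS hTeq x₀ hx₀' hUsyl (hIH T rfl)
    -- second leg
    set T₂ := cj g⁻¹ T with hT₂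
    have hT₂card : Nat.card T₂ = Nat.card T := card_cj _ _
    have hT₂ne : T₂ ≠ (S : Subgroup G) := by
      intro heq
      apply hTeq
      apply Subgroup.eq_of_le_of_card_ge hTS
      rw [← hT₂card, heq]
    have hT₂U : cj (x₀ * g) T₂ = U := by
      rw [hT₂, cj_mul, mul_assoc, mul_inv_cancel, mul_one]
      exact hx₀'
    obtain ⟨b₂, hb₂U, hb₂⟩ := alperin_key S 𝓕 hTg hT₂ne (x₀ * g) hT₂U hUsyl (hIH T₂ hT₂card)
    -- the middle element
    set m := b₁ * g * b₂⁻¹ with hm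
    have hmN : m ∈ Subgroup.normalizer ((U : Subgroup G) : Set G) := by
      have : cj m⁻¹ U = U := by
        have e1 : cj b₁⁻¹ U = T := by rw [← hb₁U]; exact cj_inv_cj b₁ T
        have e : m⁻¹ = b₂ * (g⁻¹ * b₁⁻¹) := by rw [hm]; group
        rw [e, ← cj_mul, ← cj_mul, e1, ← hT₂, hb₂U]
      have := mem_normalizer_of_cj_eq this
      simpa using inv_mem this
    -- assemble
    have hleg1 : cjs b₁⁻¹ (T : Set G) = (U : Set G) := by
      rw [cjs_coe, inv_inv, hb₁U]
    have hleg2 : cjs b₂⁻¹ (T₂ : Set G) = (U : Set G) := by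
      rw [cjs_coe, inv_inv, hb₂U]
    have hmid : Reach 𝓕 (U : Set G) m := Reach.single 𝓕 hU𝓕 hmN
    have hmU : cjs m (U : Set G) = (U : Set G) := by
      rw [cjs_coe]
      have : cj m⁻¹ U = U := cj_eq_of_mem_normalizer (inv_mem hmN)
      rw [this]
    have hlast : Reach 𝓕 (U : Set G) b₂⁻¹⁻¹ := by
      have := hb₂.symm 𝓕
      rwa [hleg2] at this
    have h1 : Reach 𝓕 (T : Set G) (b₁⁻¹ * (m * b₂⁻¹⁻¹)) := by
      apply hb₁.trans 𝓕
      rw [hleg1]
      apply hmid.trans 𝓕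
      rw [hmU]
      exact hlast
    have e : b₁⁻¹ * (m * b₂⁻¹⁻¹) = g := by rw [hm]; group
    rwa [e] at h1

/-- the Alperin–Goldschmidt fusion theorem -/
theorem alperin_goldschmidt (h𝓕 : ∀ U ∈ 𝓕, U ≤ (S : Subgroup G))
    (h : ∀ T : Subgroup G, T ≤ (S : Subgroup G) → ∃ U ∈ 𝓕,
      (∃ g : G, T.map (MulAut.conj g).toMonoidHom = U) ∧
        ¬ p ∣ ((S : Subgroup G) ⊓ Subgroup.normalizer ((U : Subgroup G) : Set G)).relIndex
          (Subgroup.normalizer ((U : Subgroup G) : Set G))) :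
    Cfsg.IsConjugationFamily 𝓕 (S : Subgroup G) := by
  refine ⟨h𝓕, ?_⟩
  intro A g _ hAS hAg
  have h1 : Subgroup.closure A ≤ (S : Subgroup G) := (Subgroup.closure_le _).mpr hAS
  have h2 : cj g⁻¹ (Subgroup.closure A) ≤ (S : Subgroup G) := by
    rw [cj_def, MonoidHom.map_closure, Subgroup.closure_le]
    rintro _ ⟨a, ha, rfl⟩
    apply hAg
    exact ⟨a, ha, by simp [MulAut.conj_apply]⟩
  obtain ⟨l, hl, hg⟩ := alperin_main S 𝓕 h𝓕 h _ _ h1 rfl g h2
  have hl' : Chain 𝓕 A l := hl.mono 𝓕 Subgroup.subset_closure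
  obtain ⟨n, T, x, hprod, hT, hx, h0, hstep⟩ := hl'.toFamily 𝓕
  exact ⟨n, T, x, hprod.trans hg, hT, hx, h0, hstep⟩

end alperin

end Cfsg.Agent.Lib.Helper12
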