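import Mathlib
import Cfsg.Prelude.Def_Local
import Cfsg.Agent.Lib.Helper12.Basic
import Cfsg.Agent.Lib.Helper12.Cores
import Cfsg.Agent.Lib.Helper12.PComplement
import Cfsg.Agent.Lib.Helper12.WellPlaced
import Cfsg.Agent.Lib.Helper12.Alperin

/-!
Helper lemmas (helper12): `O_{p'}(G)`, `O_{p',p}(G)` and a Sylow subgroup.
-/

set_option autoImplicit false
open Subgroup
namespace Cfsg.Agent.Lib.Helper12

section ppp
variable {G : Type*} [Group G]

instance pPrimeCore_normal' (p : ℕ) : (Cfsg.pPrimeCore p G).Normal :=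
  haveI := pPrimeCore_characteristic (G := G) p
  inferInstance

instance pCore_normal'' (p : ℕ) : (Cfsg.pCore p G).Normal :=
  haveI := pCore_characteristic' (G := G) p
  inferInstance

instance pPrimePCore_normal' (p : ℕ) : (Cfsg.pPrimePCore p G).Normal := by
  unfold Cfsg.pPrimePCore
  infer_instance

theorem pPrimeCore_le_pPrimePCore (p : ℕ) : Cfsg.pPrimeCore p G ≤ Cfsg.pPrimePCore p G := by
  intro x hx
  unfold Cfsg.pPrimePCore
  rw [Subgroup.mem_comap]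
  have : QuotientGroup.mk' (Cfsg.pPrimeCore p G) x = 1 := (QuotientGroup.eq_one_iff x).mpr hx
  rw [this]
  exact one_mem _

theorem relIndex_pPrimeCore_pPrimePCore [Finite G] (p : ℕ) [Fact p.Prime] :
    ∃ a : ℕ, (Cfsg.pPrimeCore p G).relIndex (Cfsg.pPrimePCore p G) = p ^ a := by
  obtain ⟨a, ha⟩ := (IsPGroup.iff_card (p := p)).mp
    (pCore_isPGroup' (X := G ⧸ Cfsg.pPrimeCore p G) p)
  refine ⟨a, ?_⟩
  have h1 := card_comap_mk' (Cfsg.pPrimeCore p G) (Cfsg.pCore p (G ⧸ Cfsg.pPrimeCore p G))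
  have h2 := Subgroup.relIndex_mul_relIndex ⊥ (Cfsg.pPrimeCore p G) (Cfsg.pPrimePCore p G) bot_le
    (pPrimeCore_le_pPrimePCore p)
  rw [Subgroup.relIndex_bot_left, Subgroup.relIndex_bot_left] at h2
  have h3 : Nat.card ↥(Cfsg.pPrimePCore p G) =
      Nat.card ↥(Cfsg.pPrimeCore p G) * Nat.card ↥(Cfsg.pCore p (G ⧸ Cfsg.pPrimeCore p G)) := h1
  rw [h3, ha] at h2
  have hpos : 0 < Nat.card ↥(Cfsg.pPrimeCore p G) := Nat.card_pos
  exact Nat.eq_of_mul_eq_mul_left hpos h2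

/-- a `p'`-group meets a `p`-group trivially -/
theorem inf_eq_bot_of_coprime_of_isPGroup [Finite G] {p : ℕ} [Fact p.Prime] {K Q : Subgroup G}
    (hK : (Nat.card K).Coprime p) (hQ : IsPGroup p Q) : K ⊓ Q = ⊥ := by
  obtain ⟨n, hn⟩ := (IsPGroup.iff_card (p := p)).mp hQ
  have h1 : Nat.card ↥(K ⊓ Q) ∣ Nat.card K := Subgroup.card_dvd_of_le inf_le_left
  have h2 : Nat.card ↥(K ⊓ Q) ∣ p ^ n := hn ▸ Subgroup.card_dvd_of_le inf_le_right
  have h3 : Nat.card ↥(K ⊓ Q) = 1 :=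
    Nat.eq_one_of_dvd_coprimes (Nat.Coprime.pow_right n hK) h1 h2
  exact Subgroup.card_eq_one.mp h3

variable [Finite G] {p : ℕ} [Fact p.Prime] (P : Sylow p G)

theorem sylow_inf_pPrimePCore_relIndex :
    ¬ p ∣ ((P : Subgroup G) ⊓ Cfsg.pPrimePCore p G).relIndex (Cfsg.pPrimePCore p G) :=
  sylow_inf_relIndex P ⊤ (Cfsg.pPrimePCore p G) le_top le_top
    (fun h _ k hk => (pPrimePCore_normal' p).conj_mem k hk h)

theorem pPrimeCore_sup_sylow_inf :
    Cfsg.pPrimeCore p G ⊔ ((P : Subgroup G) ⊓ Cfsg.pPrimePCore p G) = Cfsg.pPrimePCore p G := by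
  have hle : Cfsg.pPrimeCore p G ⊔ ((P : Subgroup G) ⊓ Cfsg.pPrimePCore p G) ≤ Cfsg.pPrimePCore p G :=
    sup_le (pPrimeCore_le_pPrimePCore p) inf_le_right
  apply le_antisymm hle
  rw [← Subgroup.relIndex_eq_one]
  obtain ⟨a, ha⟩ := relIndex_pPrimeCore_pPrimePCore (G := G) p
  have h1 : (Cfsg.pPrimeCore p G ⊔ ((P : Subgroup G) ⊓ Cfsg.pPrimePCore p G)).relIndex
      (Cfsg.pPrimePCore p G) ∣ p ^ a := by
    rw [← ha]
    exact Subgroup.relIndex_dvd_of_le_left _ le_sup_left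
  have h2 : (Cfsg.pPrimeCore p G ⊔ ((P : Subgroup G) ⊓ Cfsg.pPrimePCore p G)).relIndex
      (Cfsg.pPrimePCore p G) ∣
      ((P : Subgroup G) ⊓ Cfsg.pPrimePCore p G).relIndex (Cfsg.pPrimePCore p G) :=
    Subgroup.relIndex_dvd_of_le_left _ le_sup_right
  obtain ⟨b, hb, hb'⟩ := (Nat.dvd_prime_pow (Fact.out : p.Prime)).mp h1
  rcases Nat.eq_zero_or_pos b with rfl | hbpos
  · rw [hb', pow_zero]
  · exfalso
    apply sylow_inf_pPrimePCore_relIndex P
    refine dvd_trans ?_ h2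
    rw [hb']
    exact dvd_pow_self p (Nat.pos_iff_ne_zero.mp hbpos)

/-- `P` normalizes `P ∩ O_{p',p}(G)` -/
theorem sylow_le_normalizer_inf_pPrimePCore :
    (P : Subgroup G) ≤ Subgroup.normalizer
      ((((P : Subgroup G) ⊓ Cfsg.pPrimePCore p G : Subgroup G)) : Set G) := by
  intro s hs
  apply mem_normalizer_of_cj_eq
  rw [cj_inf, cj_self_of_mem hs]
  congr 1
  exact Subgroup.mem_normalizer_iff_map_conj_eq.mp
    (by rw [Subgroup.normalizer_eq_top]; exact Subgroup.mem_top s)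

end ppp

end Cfsg.Agent.Lib.Helper12
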