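import Mathlib
import Cfsg.Prelude.Def_Transfer
import Cfsg.Agent.Lib.Helper12.Basic
import Cfsg.Agent.Lib.Helper12.PComplement

/-!
Helper lemmas (helper12) on `Cfsg.pResidual` (`O^p`): normality, `p`-power index, `G = R·O^p(G)` for a Sylow
`p`-subgroup `R`, and Sylow conjugation by elements of `O^p(G)`.
-/

set_option autoImplicit false
open Subgroup

namespace Cfsg.Agent.Lib.Helper12

theorem pResidual_normal' (p : ℕ) (X : Type*) [Group X] : (Cfsg.pResidual p X).Normal := by
  constructor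
  intro n hn g
  induction hn using Subgroup.closure_induction with
  | mem x hx =>
    apply Subgroup.subset_closure
    have hx' : Nat.Coprime (orderOf x) p := hx
    show Nat.Coprime (orderOf (g * x * g⁻¹)) p
    have : g * x * g⁻¹ = MulAut.conj g x := by simp [MulAut.conj_apply]
    rw [this, MulEquiv.orderOf_eq]
    exact hx'
  | one => simp
  | mul x y _ _ hx hy =>
    have : g * (x * y) * g⁻¹ = (g * x * g⁻¹) * (g * y * g⁻¹) := by group
    rw [this]; exact Subgroup.mul_mem _ hx hy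
  | inv x _ hx =>
    have : g * x⁻¹ * g⁻¹ = (g * x * g⁻¹)⁻¹ := by group
    rw [this]; exact Subgroup.inv_mem _ hx

theorem pResidual_index_eq_pow (p : ℕ) [Fact p.Prime] (X : Type*) [Group X] [Finite X] :
    ∃ a : ℕ, (Cfsg.pResidual p X).index = p ^ a := by
  haveI := pResidual_normal' p X
  exact index_eq_pow_of_coprime_mem (Cfsg.pResidual p X)
    (fun g hg => Subgroup.subset_closure hg)

/-- `X = R · O^p(X)` for a subgroup `R` of index prime to `p`. -/
theorem sup_pResidual_eq_top {p : ℕ} [Fact p.Prime] {X : Type*} [Group X] [Finite X]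
    (R : Subgroup X) (hR : ¬ p ∣ R.index) : R ⊔ Cfsg.pResidual p X = ⊤ := by
  have hp : p.Prime := Fact.out
  obtain ⟨a, ha⟩ := pResidual_index_eq_pow p X
  rw [← Subgroup.index_eq_one]
  have h1 : (R ⊔ Cfsg.pResidual p X).index ∣ R.index := Subgroup.index_dvd_of_le le_sup_left
  have h2 : (R ⊔ Cfsg.pResidual p X).index ∣ p ^ a := ha ▸ Subgroup.index_dvd_of_le le_sup_right
  obtain ⟨k, -, hk⟩ := (Nat.dvd_prime_pow hp).mp h2
  rcases Nat.eq_zero_or_pos k with rfl | hk0
  · simpa using hk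
  · exfalso
    apply hR
    refine dvd_trans ?_ h1
    rw [hk]
    exact dvd_pow_self p (ne_of_gt hk0)

/-- Sylow conjugation can be performed by an element of `O^p(X)`. -/
theorem exists_pResidual_conj_mem {p : ℕ} [Fact p.Prime] {X : Type*} [Group X] [Finite X]
    (R Q : Subgroup X) (hRp : IsPGroup p R) (hR : ¬ p ∣ R.index) (hQ : IsPGroup p Q) :
    ∃ k ∈ Cfsg.pResidual p X, ∀ q ∈ Q, k * q * k⁻¹ ∈ R := by
  haveI := pResidual_normal' p X
  have hidx : ¬ p ∣ R.relIndex ⊤ := by rwa [Subgroup.relIndex_top_right]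
  obtain ⟨y, -, hy⟩ := exists_conj_mem_of_relIndex R ⊤ Q hRp hidx le_top hQ
  have hy' : y ∈ R ⊔ Cfsg.pResidual p X := by
    rw [sup_pResidual_eq_top R hR]; exact Subgroup.mem_top y
  obtain ⟨r, hr, k, hk, rfl⟩ := Subgroup.mem_sup_of_normal_right.mp hy'
  refine ⟨k, hk, fun q hq => ?_⟩
  have h1 := hy q hq
  have e : k * q * k⁻¹ = r⁻¹ * (r * k * q * (r * k)⁻¹) * r := by group
  rw [e]
  exact mul_mem (mul_mem (inv_mem hr) h1) hr

end Cfsg.Agent.Lib.Helper12
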