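import Mathlib
import Cfsg.Prelude.Def_ConjugacyFunctors
import Cfsg.Agent.Lib.Helper12.Basic
import Cfsg.Agent.Lib.Helper12.WellPlaced
import Cfsg.Agent.Lib.Helper12.Alperin

/-!
Helper lemmas (helper12): local-to-global control of strong fusion through well-placed subgroups.
-/

set_option autoImplicit false
open Subgroup
namespace Cfsg.Agent.Lib.Helper12

section control
variable {G : Type*} [Group G] {p : ℕ} [Fact p.Prime]
  (W : Subgroup G → Subgroup G) (hW : Cfsg.IsConjugacyFunctor p W) (S : Subgroup G)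
  (hS : IsPGroup p S)

omit [Fact p.Prime] in
theorem functorTower_shift (T : Subgroup G) (i : ℕ) :
    Cfsg.functorTower W S (Cfsg.functorTower W S T 1) i = Cfsg.functorTower W S T (i + 1) := by
  induction i with
  | zero => rfl
  | succ i ih =>
    show W (S ⊓ Subgroup.normalizer
      ((Cfsg.functorTower W S (Cfsg.functorTower W S T 1) i : Subgroup G) : Set G)) =
      W (S ⊓ Subgroup.normalizer ((Cfsg.functorTower W S T (i + 1) : Subgroup G) : Set G))
    rw [ih]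

include hW hS in
omit [Fact p.Prime] in
theorem isWellPlaced_tower_one {T : Subgroup G} (h : Cfsg.IsWellPlaced p W S T) :
    Cfsg.IsWellPlaced p W S (Cfsg.functorTower W S T 1) := by
  refine ⟨functorTower_le W hW S hS h.1 1, fun i => ?_⟩
  rw [functorTower_shift]
  exact h.2 (i + 1)

include hW hS in
omit [Fact p.Prime] in
theorem tower_one_ne_bot {T : Subgroup G} (hT : T ≤ S) (hne : T ≠ ⊥) :
    Cfsg.functorTower W S T 1 ≠ ⊥ := by
  show W (S ⊓ Subgroup.normalizer ((T : Subgroup G) : Set G)) ≠ ⊥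
  apply (hW _ (hS.to_le inf_le_left)).2.1
  intro h
  apply hne
  rw [eq_bot_iff, ← h]
  exact le_inf hT Subgroup.le_normalizer

/-- left conjugation by `x` on `B` is induced by an element of `N_G(W(S))` -/
def CtlAt (B : Set G) (x : G) : Prop :=
  ∃ y ∈ Subgroup.normalizer ((W S : Subgroup G) : Set G), ∀ b ∈ B, y * b * y⁻¹ = x * b * x⁻¹

include hW in
/-- conjugation-invariance of the choice of the Sylow subgroup in `ControlsStrongFusionIn` -/
theorem controlsStrongFusionIn_sylow [Finite G] {H S₁ : Subgroup G}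
    (h : Cfsg.ControlsStrongFusionIn p W H) (hS₁H : S₁ ≤ H) (hS₁p : IsPGroup p S₁)
    (hS₁idx : ¬ p ∣ S₁.relIndex H) :
    ∀ (A : Set G) (x : G), x ∈ H → A ⊆ S₁ → (fun a => x * a * x⁻¹) '' A ⊆ S₁ →
      ∃ y ∈ H ⊓ Subgroup.normalizer ((W S₁ : Subgroup G) : Set G), ∀ a ∈ A, y * a * y⁻¹ = x * a * x⁻¹ := by
  obtain ⟨T', hT'H, hT'p, hT'idx, hctl⟩ := h
  obtain ⟨k, hkH, hk⟩ := exists_conj_mem_of_relIndex T' H S₁ hT'p hT'idx hS₁H hS₁p
  have hkS₁ : cj k S₁ ≤ T' := by
    rintro _ ⟨s, hs, rfl⟩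
    simpa [MulAut.conj_apply] using hk s hs
  have hcjH : cj k H = H := cj_self_of_mem hkH
  have hT'eq : T' = cj k S₁ := by
    apply le_antisymm _ hkS₁
    apply le_of_isPGroup_of_relIndex (p := p) hkS₁ hT'H hT'p
    rw [← hcjH, cj_relIndex]
    exact hS₁idx
  have hWT' : W T' = cj k (W S₁) := by
    rw [hT'eq]
    exact (hW S₁ hS₁p).2.2 k
  intro A x hxH hAS hAx
  have hA' : (fun a => k * a * k⁻¹) '' A ⊆ T' := by
    rintro _ ⟨a, ha, rfl⟩
    exact hk a (hAS ha)
  have hA'x : (fun a => (k * x * k⁻¹) * a * (k * x * k⁻¹)⁻¹) '' ((fun a => k * a * k⁻¹) '' A) ⊆ T' := by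
    rintro _ ⟨_, ⟨a, ha, rfl⟩, rfl⟩
    have h1 : x * a * x⁻¹ ∈ S₁ := hAx ⟨a, ha, rfl⟩
    have h2 := hk _ h1
    have e : (k * x * k⁻¹) * (k * a * k⁻¹) * (k * x * k⁻¹)⁻¹ = k * (x * a * x⁻¹) * k⁻¹ := by group
    show (k * x * k⁻¹) * (k * a * k⁻¹) * (k * x * k⁻¹)⁻¹ ∈ T'
    rw [e]; exact h2
  obtain ⟨z, hz, hza⟩ := hctl _ (k * x * k⁻¹) (H.mul_mem (H.mul_mem hkH hxH) (H.inv_mem hkH)) hA' hA'x
  obtain ⟨hzH, hzN⟩ := Subgroup.mem_inf.mp hz
  refine ⟨k⁻¹ * z * k, Subgroup.mem_inf.mpr ⟨H.mul_mem (H.mul_mem (H.inv_mem hkH) hzH) hkH, ?_⟩, ?_⟩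
  · apply mem_normalizer_of_cj_eq
    have h1 : cj z (W T') = W T' := cj_eq_of_mem_normalizer hzN
    have e : W S₁ = cj k⁻¹ (W T') := by rw [hWT', cj_inv_cj]
    rw [e, cj_mul]
    have : k⁻¹ * z * k * k⁻¹ = k⁻¹ * z := by group
    rw [this, ← cj_mul, h1]
  · intro a ha
    have h1 := hza (k * a * k⁻¹) ⟨a, ha, rfl⟩
    calc k⁻¹ * z * k * a * (k⁻¹ * z * k)⁻¹ = k⁻¹ * (z * (k * a * k⁻¹) * z⁻¹) * k := by group
      _ = k⁻¹ * ((k * x * k⁻¹) * (k * a * k⁻¹) * (k * x * k⁻¹)⁻¹) * k := by rw [h1]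
      _ = x * a * x⁻¹ := by group

omit [Fact p.Prime] in
theorem CtlAt.mono {B B' : Set G} {x : G} (h : CtlAt W S B x) (hB : B' ⊆ B) : CtlAt W S B' x := by
  obtain ⟨y, hy, hyb⟩ := h
  exact ⟨y, hy, fun b hb => hyb b (hB hb)⟩

include hW in
/-- the inductive claim: conjugations inside `N_G(T)`, `T` well placed, between subsets of `N_S(T)`
are induced by elements of `N_G(W(S))` -/
theorem ctlAt_of_wellPlaced [Finite G] (P : Sylow p G) (hPS : (P : Subgroup G) = S)
    (hloc : ∀ T : Subgroup G, T ≠ ⊥ → Cfsg.IsWellPlaced p W S T →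
      Cfsg.ControlsStrongFusionIn p W (Subgroup.normalizer ((T : Subgroup G) : Set G))) :
    ∀ (d : ℕ) (T : Subgroup G), Cfsg.IsWellPlaced p W S T → T ≠ ⊥ →
      Nat.card S - Nat.card ↥(S ⊓ Subgroup.normalizer ((T : Subgroup G) : Set G)) = d →
      ∀ (B : Set G) (x : G), x ∈ Subgroup.normalizer ((T : Subgroup G) : Set G) →
        B ⊆ (S ⊓ Subgroup.normalizer ((T : Subgroup G) : Set G) : Subgroup G) →
        (fun b => x * b * x⁻¹) '' B ⊆ (S ⊓ Subgroup.normalizer ((T : Subgroup G) : Set G) : Subgroup G) →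
        CtlAt W S B x := by
  have hS : IsPGroup p S := hPS ▸ P.2
  intro d
  induction d using Nat.strong_induction_on with
  | _ d IH =>
  intro T hwp hne hd B x hxN hB hBx
  set S₁ := S ⊓ Subgroup.normalizer ((T : Subgroup G) : Set G) with hS₁
  have hS₁p : IsPGroup p S₁ := hS.to_le inf_le_left
  have hsyl := controlsStrongFusionIn_sylow W hW (hloc T hne hwp) (inf_le_right : S₁ ≤ _) hS₁p (hwp.2 0)
  obtain ⟨y, hy, hyb⟩ := hsyl B x hxN hB hBx
  obtain ⟨hyN, hyU⟩ := Subgroup.mem_inf.mp hy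
  by_cases hS₁S : S₁ = S
  · have hyU' : y ∈ Subgroup.normalizer ((W S₁ : Subgroup G) : Set G) := hyU
    rw [hS₁S] at hyU'
    exact ⟨y, hyU', hyb⟩
  · -- pass to `U = W(S₁)`
    set U := Cfsg.functorTower W S T 1 with hU
    have hUwp : Cfsg.IsWellPlaced p W S U := isWellPlaced_tower_one W hW S hS hwp
    have hUne : U ≠ ⊥ := tower_one_ne_bot W hW S hS hwp.1 hne
    have hyU' : y ∈ Subgroup.normalizer ((U : Subgroup G) : Set G) := hyU
    have hS₁U : S₁ ≤ S ⊓ Subgroup.normalizer ((U : Subgroup G) : Set G) :=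
      towerNormalizer_le_succ W hW S hS T 0
    -- strict growth
    have hlt : Nat.card S₁ < Nat.card ↥(S ⊓ Subgroup.normalizer ((U : Subgroup G) : Set G)) := by
      have h1 : Nat.card S₁ < Nat.card ↥(S ⊓ Subgroup.normalizer ((S₁ : Subgroup G) : Set G)) :=
        card_lt_card_inf_normalizer hS inf_le_left hS₁S
      refine lt_of_lt_of_le h1 (Subgroup.card_le_of_le ?_)
      apply le_inf inf_le_left
      -- `N_S(S₁) ≤ N_G(W(S₁))`
      intro g hg
      have hgN : g ∈ Subgroup.normalizer ((S₁ : Subgroup G) : Set G) := (Subgroup.mem_inf.mp hg).2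
      apply mem_normalizer_of_cj_eq
      have h2 : W (cj g S₁) = cj g (W S₁) := (hW S₁ hS₁p).2.2 g
      rw [cj_eq_of_mem_normalizer hgN] at h2
      exact h2.symm
    have hcardle : Nat.card ↥(S ⊓ Subgroup.normalizer ((U : Subgroup G) : Set G)) ≤ Nat.card S :=
      Subgroup.card_le_of_le inf_le_left
    have := IH (Nat.card S - Nat.card ↥(S ⊓ Subgroup.normalizer ((U : Subgroup G) : Set G)))
      (by omega) U hUwp hUne rfl B y hyU' (hB.trans hS₁U)
      (by
        rintro _ ⟨b, hb, rfl⟩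
        show y * b * y⁻¹ ∈ _
        rw [hyb b hb]
        exact hS₁U (hBx ⟨b, hb, rfl⟩))
    obtain ⟨z, hz, hzb⟩ := this
    exact ⟨z, hz, fun b hb => (hzb b hb).trans (hyb b hb)⟩

include hW in
/-- along a chain through well-placed subgroups, conjugation is induced by an element of `N_G(W(S))` -/
theorem ctlAt_of_chain [Finite G] (P : Sylow p G) (hPS : (P : Subgroup G) = S)
    (hloc : ∀ T : Subgroup G, T ≠ ⊥ → Cfsg.IsWellPlaced p W S T →
      Cfsg.ControlsStrongFusionIn p W (Subgroup.normalizer ((T : Subgroup G) : Set G)))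
    (l : List (Subgroup G × G)) :
    ∀ A : Set G, Chain {T : Subgroup G | Cfsg.IsWellPlaced p W S T} A l →
      ∃ y ∈ Subgroup.normalizer ((W S : Subgroup G) : Set G),
        ∀ a ∈ A, y⁻¹ * a * y = (prodOf l)⁻¹ * a * prodOf l := by
  induction l with
  | nil =>
    intro A _
    exact ⟨1, one_mem _, fun a _ => by simp [prodOf_nil]⟩
  | cons q l ih =>
    obtain ⟨T, x⟩ := q
    rintro A ⟨hT, hx, hA, hl⟩
    have hTwp : Cfsg.IsWellPlaced p W S T := hT
    obtain ⟨y₂, hy₂, hy₂b⟩ := ih _ hl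
    by_cases hTbot : T = ⊥
    · -- trivial subgroup: `A ⊆ {1}`
      refine ⟨1, one_mem _, fun a ha => ?_⟩
      have : a = 1 := by
        have := hA ha
        rw [hTbot] at this
        exact Subgroup.mem_bot.mp this
      subst this
      simp
    · have hTS₁ : T ≤ S ⊓ Subgroup.normalizer ((T : Subgroup G) : Set G) :=
        le_inf hTwp.1 Subgroup.le_normalizer
      have h1 := ctlAt_of_wellPlaced W hW S P hPS hloc _ T hTwp hTbot rfl A x⁻¹ (inv_mem hx)
        (hA.trans hTS₁)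
        (by
          rintro _ ⟨a, ha, rfl⟩
          apply hTS₁
          have := cjs_subset_of_mem_normalizer hx hA ⟨a, ha, rfl⟩
          simpa using this)
      obtain ⟨y₁, hy₁, hy₁b⟩ := h1
      refine ⟨y₁⁻¹ * y₂, mul_mem (inv_mem hy₁) hy₂, fun a ha => ?_⟩
      have h2 := hy₁b a ha
      rw [inv_inv] at h2
      have h3 := hy₂b (x⁻¹ * a * x) ⟨a, ha, rfl⟩
      rw [prodOf_cons]
      calc (y₁⁻¹ * y₂)⁻¹ * a * (y₁⁻¹ * y₂) = y₂⁻¹ * (y₁ * a * y₁⁻¹) * y₂ := by group
        _ = y₂⁻¹ * (x⁻¹ * a * x) * y₂ := by rw [h2]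
        _ = (prodOf l)⁻¹ * (x⁻¹ * a * x) * prodOf l := h3
        _ = (x * prodOf l)⁻¹ * a * (x * prodOf l) := by group

end control

section final
variable {G : Type*} [Group G] [Finite G] {p : ℕ} [Fact p.Prime]

/-- chains through well-placed subgroups reach every conjugation between subgroups of `S` -/
theorem reach_wellPlaced (S : Sylow p G) (W : Subgroup G → Subgroup G)
    (hW : Cfsg.IsConjugacyFunctor p W) (T : Subgroup G) (hT : T ≤ (S : Subgroup G)) (g : G)
    (hTg : cj g⁻¹ T ≤ (S : Subgroup G)) :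
    Reach {T : Subgroup G | Cfsg.IsWellPlaced p W (S : Subgroup G) T} (T : Set G) g := by
  apply alperin_main S _ _ _ _ T hT rfl g hTg
  · intro U hU
    exact hU.1
  · intro T' hT'
    obtain ⟨k, hk⟩ := exists_isWellPlaced W hW (S : Subgroup G) S.2 S rfl hT'
    exact ⟨_, hk, ⟨k, rfl⟩, hk.2 0⟩

theorem controlsStrongFusionIn_top_of_wellPlaced (S : Sylow p G) (W : Subgroup G → Subgroup G)
    (hW : Cfsg.IsConjugacyFunctor p W)
    (hloc : ∀ T : Subgroup G, T ≠ ⊥ → Cfsg.IsWellPlaced p W (S : Subgroup G) T →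
      Cfsg.ControlsStrongFusionIn p W (Subgroup.normalizer ((T : Subgroup G) : Set G))) :
    Cfsg.ControlsStrongFusionIn p W ⊤ := by
  refine ⟨(S : Subgroup G), le_top, S.2, ?_, ?_⟩
  · rw [Subgroup.relIndex_top_right]
    exact S.not_dvd_index
  · intro A h _ hAS hAh
    have h1 : Subgroup.closure A ≤ (S : Subgroup G) := (Subgroup.closure_le _).mpr hAS
    have h2 : cj h⁻¹⁻¹ (Subgroup.closure A) ≤ (S : Subgroup G) := by
      rw [inv_inv, cj_def, MonoidHom.map_closure, Subgroup.closure_le]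
      rintro _ ⟨a, ha, rfl⟩
      apply hAh
      exact ⟨a, ha, by simp [MulAut.conj_apply]⟩
    obtain ⟨l, hl, hprod⟩ := reach_wellPlaced S W hW _ h1 h⁻¹ h2
    obtain ⟨y, hy, hya⟩ := ctlAt_of_chain W hW (S : Subgroup G) S rfl hloc l _ hl
    refine ⟨y⁻¹, Subgroup.mem_inf.mpr ⟨Subgroup.mem_top _, inv_mem hy⟩, fun a ha => ?_⟩
    have := hya a (Subgroup.subset_closure ha)
    rw [hprod, inv_inv] at this
    rw [inv_inv]
    exact this

end final

end Cfsg.Agent.Lib.Helper12
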