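import Mathlib
import Cfsg.Prelude.Def_ConjugacyFunctors
import Cfsg.Agent.Lib.Helper12.Basic
import Cfsg.Agent.Lib.Helper12.WellPlaced
import Cfsg.Agent.Lib.Helper12.Alperin
import Cfsg.Agent.Lib.Helper12.Control

/-!
Helper lemmas (helper12): local-to-global control of transfer through well-placed subgroups.
-/

set_option autoImplicit false
open Subgroup
open scoped commutatorElement
namespace Cfsg.Agent.Lib.Helper12

section transfer
variable {G : Type*} [Group G] {p : ℕ} [Fact p.Prime]
  (W : Subgroup G → Subgroup G) (hW : Cfsg.IsConjugacyFunctor p W) (S : Subgroup G)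

theorem cj_commutator (k : G) (A B : Subgroup G) : cj k ⁅A, B⁆ = ⁅cj k A, cj k B⁆ := by
  rw [cj_def, cj_def, cj_def, Subgroup.map_commutator]

include hW in
/-- conjugation-invariance of the choice of the Sylow subgroup in `ControlsTransferIn` -/
theorem controlsTransferIn_sylow [Finite G] {H S₁ : Subgroup G}
    (h : Cfsg.ControlsTransferIn p W H) (hS₁H : S₁ ≤ H) (hS₁p : IsPGroup p S₁)
    (hS₁idx : ¬ p ∣ S₁.relIndex H) :
    S₁ ⊓ ⁅H, H⁆ = S₁ ⊓ ⁅H ⊓ Subgroup.normalizer ((W S₁ : Subgroup G) : Set G),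
      H ⊓ Subgroup.normalizer ((W S₁ : Subgroup G) : Set G)⁆ := by
  obtain ⟨T', hT'H, hT'p, hT'idx, heq⟩ := h
  obtain ⟨k, hkH, hk⟩ := exists_conj_mem_of_relIndex T' H S₁ hT'p hT'idx hS₁H hS₁p
  have hkS₁ : cj k S₁ ≤ T' := by
    rintro _ ⟨s, hs, rfl⟩
    simpa [MulAut.conj_apply] using hk s hs
  have hcjH : cj k H = H := cj_self_of_mem hkH
  have hcjH' : cj k⁻¹ H = H := cj_self_of_mem (inv_mem hkH)
  have hT'eq : T' = cj k S₁ := by
    apply le_antisymm _ hkS₁
    apply le_of_isPGroup_of_relIndex (p := p) hkS₁ hT'H hT'p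
    rw [← hcjH, cj_relIndex]
    exact hS₁idx
  have hWT' : W T' = cj k (W S₁) := by
    rw [hT'eq]
    exact (hW S₁ hS₁p).2.2 k
  have h1 := congrArg (cj k⁻¹) heq
  rw [cj_inf, cj_inf, cj_commutator, cj_commutator, cj_inf, hcjH', cj_normalizer, hWT',
    cj_inv_cj, hT'eq, cj_inv_cj] at h1
  exact h1

include hW in
/-- the inductive claim for transfer -/
theorem transfer_of_wellPlaced [Finite G] (P : Sylow p G) (hPS : (P : Subgroup G) = S)
    (hloc : ∀ T : Subgroup G, T ≠ ⊥ → Cfsg.IsWellPlaced p W S T →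
      Cfsg.ControlsTransferIn p W (Subgroup.normalizer ((T : Subgroup G) : Set G))) :
    ∀ (d : ℕ) (T : Subgroup G), Cfsg.IsWellPlaced p W S T → T ≠ ⊥ →
      Nat.card S - Nat.card ↥(S ⊓ Subgroup.normalizer ((T : Subgroup G) : Set G)) = d →
      (S ⊓ Subgroup.normalizer ((T : Subgroup G) : Set G)) ⊓
        ⁅Subgroup.normalizer ((T : Subgroup G) : Set G), Subgroup.normalizer ((T : Subgroup G) : Set G)⁆ ≤
      S ⊓ ⁅Subgroup.normalizer ((W S : Subgroup G) : Set G),
        Subgroup.normalizer ((W S : Subgroup G) : Set G)⁆ := by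
  have hS : IsPGroup p S := hPS ▸ P.2
  intro d
  induction d using Nat.strong_induction_on with
  | _ d IH =>
  intro T hwp hne hd
  have hS₁p : IsPGroup p ↥(S ⊓ Subgroup.normalizer ((T : Subgroup G) : Set G)) := hS.to_le inf_le_left
  have hsyl := controlsTransferIn_sylow W hW (hloc T hne hwp)
    (inf_le_right : S ⊓ Subgroup.normalizer ((T : Subgroup G) : Set G) ≤ _) hS₁p (hwp.2 0)
  rw [hsyl]
  by_cases hS₁S : S ⊓ Subgroup.normalizer ((T : Subgroup G) : Set G) = S
  · rw [hS₁S]
    exact inf_le_inf_left _ (Subgroup.commutator_mono inf_le_right inf_le_right)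
  · have hUwp : Cfsg.IsWellPlaced p W S (Cfsg.functorTower W S T 1) :=
      isWellPlaced_tower_one W hW S hS hwp
    have hUne : Cfsg.functorTower W S T 1 ≠ ⊥ := tower_one_ne_bot W hW S hS hwp.1 hne
    have hS₁U : S ⊓ Subgroup.normalizer ((T : Subgroup G) : Set G) ≤
        S ⊓ Subgroup.normalizer ((Cfsg.functorTower W S T 1 : Subgroup G) : Set G) :=
      towerNormalizer_le_succ W hW S hS T 0
    have hlt : Nat.card ↥(S ⊓ Subgroup.normalizer ((T : Subgroup G) : Set G)) <
        Nat.card ↥(S ⊓ Subgroup.normalizer ((Cfsg.functorTower W S T 1 : Subgroup G) : Set G)) := by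
      have h1 := card_lt_card_inf_normalizer hS
        (inf_le_left : S ⊓ Subgroup.normalizer ((T : Subgroup G) : Set G) ≤ S) hS₁S
      refine lt_of_lt_of_le h1 (Subgroup.card_le_of_le ?_)
      apply le_inf inf_le_left
      intro g hg
      have hgN := (Subgroup.mem_inf.mp hg).2
      apply mem_normalizer_of_cj_eq
      have h2 : W (cj g (S ⊓ Subgroup.normalizer ((T : Subgroup G) : Set G))) =
          cj g (W (S ⊓ Subgroup.normalizer ((T : Subgroup G) : Set G))) := (hW _ hS₁p).2.2 g
      rw [cj_eq_of_mem_normalizer hgN] at h2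
      exact h2.symm
    have hcardle : Nat.card ↥(S ⊓ Subgroup.normalizer
        ((Cfsg.functorTower W S T 1 : Subgroup G) : Set G)) ≤ Nat.card S :=
      Subgroup.card_le_of_le inf_le_left
    have hIH := IH (Nat.card S - Nat.card ↥(S ⊓ Subgroup.normalizer
      ((Cfsg.functorTower W S T 1 : Subgroup G) : Set G))) (by omega) _ hUwp hUne rfl
    refine le_trans ?_ hIH
    apply inf_le_inf hS₁U
    exact Subgroup.commutator_mono inf_le_right inf_le_right

include hW in
/-- along a chain through well-placed subgroups, elements move within a coset of the target -/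
theorem transfer_of_chain [Finite G] (P : Sylow p G) (hPS : (P : Subgroup G) = S)
    (hloc : ∀ T : Subgroup G, T ≠ ⊥ → Cfsg.IsWellPlaced p W S T →
      Cfsg.ControlsTransferIn p W (Subgroup.normalizer ((T : Subgroup G) : Set G)))
    (l : List (Subgroup G × G)) :
    ∀ A : Set G, Chain {T : Subgroup G | Cfsg.IsWellPlaced p W S T} A l →
      ∀ a ∈ A, a * ((prodOf l)⁻¹ * a * prodOf l)⁻¹ ∈
        S ⊓ ⁅Subgroup.normalizer ((W S : Subgroup G) : Set G),
          Subgroup.normalizer ((W S : Subgroup G) : Set G)⁆ := by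
  induction l with
  | nil =>
    intro A _ a _
    simp [prodOf_nil]
  | cons q l ih =>
    obtain ⟨T, x⟩ := q
    rintro A ⟨hT, hx, hA, hl⟩ a ha
    have hTwp : Cfsg.IsWellPlaced p W S T := hT
    have h2 := ih _ hl (x⁻¹ * a * x) ⟨a, ha, rfl⟩
    have h1 : a * (x⁻¹ * a * x)⁻¹ ∈ S ⊓ ⁅Subgroup.normalizer ((W S : Subgroup G) : Set G),
        Subgroup.normalizer ((W S : Subgroup G) : Set G)⁆ := by
      by_cases hTbot : T = ⊥
      · have : a = 1 := by
          have := hA ha
          rw [hTbot] at this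
          exact Subgroup.mem_bot.mp this
        subst this
        simp
      · apply transfer_of_wellPlaced W hW S P hPS hloc _ T hTwp hTbot rfl
        have haT : a ∈ T := hA ha
        have hxa : x⁻¹ * a * x ∈ T := by
          have := cjs_subset_of_mem_normalizer hx hA ⟨a, ha, rfl⟩
          simpa using this
        refine Subgroup.mem_inf.mpr ⟨Subgroup.mem_inf.mpr ⟨hTwp.1 ?_, Subgroup.le_normalizer ?_⟩, ?_⟩
        · exact mul_mem haT (inv_mem hxa)
        · exact mul_mem haT (inv_mem hxa)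
        · have e : a * (x⁻¹ * a * x)⁻¹ = ⁅a, x⁻¹⁆ := by
            rw [commutatorElement_def]; group
          rw [e]
          exact Subgroup.commutator_mem_commutator (Subgroup.le_normalizer haT) (inv_mem hx)
    rw [prodOf_cons]
    have e : a * ((x * prodOf l)⁻¹ * a * (x * prodOf l))⁻¹ =
        (a * (x⁻¹ * a * x)⁻¹) * ((x⁻¹ * a * x) * ((prodOf l)⁻¹ * (x⁻¹ * a * x) * prodOf l)⁻¹) := by
      group
    rw [e]
    exact mul_mem h1 h2

end transfer

section final2
variable {G : Type*} [Group G] [Finite G] {p : ℕ} [Fact p.Prime]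

theorem controlsTransferIn_top_of_wellPlaced (S : Sylow p G) (W : Subgroup G → Subgroup G)
    (hW : Cfsg.IsConjugacyFunctor p W)
    (hloc : ∀ T : Subgroup G, T ≠ ⊥ → Cfsg.IsWellPlaced p W (S : Subgroup G) T →
      Cfsg.ControlsTransferIn p W (Subgroup.normalizer ((T : Subgroup G) : Set G))) :
    Cfsg.ControlsTransferIn p W ⊤ := by
  refine ⟨(S : Subgroup G), le_top, S.2, ?_, ?_⟩
  · rw [Subgroup.relIndex_top_right]
    exact S.not_dvd_index
  · rw [top_inf_eq]
    apply le_antisymm
    · -- focal subgroup theorem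
      have hfocal := Subgroup.commutator_inf_eq_focalSubgroup S
      rw [commutator_def, inf_comm] at hfocal
      rw [hfocal, Subgroup.focalSubgroup_def, Subgroup.closure_le]
      rintro g ⟨hgS, x, hxS, u, rfl⟩
      -- `u x u⁻¹ ∈ S`
      have huxu : u * x * u⁻¹ ∈ (S : Subgroup G) := by
        have h1 : x⁻¹ * ⁅x, u⁆ ∈ (S : Subgroup G) := mul_mem (inv_mem hxS) hgS
        have e : u * x * u⁻¹ = (x⁻¹ * ⁅x, u⁆)⁻¹ := by rw [commutatorElement_def]; group
        rw [e]; exact inv_mem h1
      have h1 : Subgroup.zpowers x ≤ (S : Subgroup G) := (Subgroup.zpowers_le).mpr hxS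
      have h2 : cj u⁻¹⁻¹ (Subgroup.zpowers x) ≤ (S : Subgroup G) := by
        rw [inv_inv, cj_def, MonoidHom.map_zpowers, Subgroup.zpowers_le]
        simpa [MulAut.conj_apply] using huxu
      obtain ⟨l, hl, hprod⟩ := reach_wellPlaced S W hW _ h1 u⁻¹ h2
      have := transfer_of_chain W hW (S : Subgroup G) S rfl hloc l _ hl x (Subgroup.mem_zpowers x)
      rw [hprod, inv_inv] at this
      have e : ⁅x, u⁆ = x * (u * x * u⁻¹)⁻¹ := by rw [commutatorElement_def]; group
      rw [SetLike.mem_coe, e]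
      exact this
    · exact inf_le_inf_left _ (Subgroup.commutator_mono le_top le_top)

end final2

end Cfsg.Agent.Lib.Helper12
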