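import Mathlib
import Cfsg.Prelude.Def_ConjugacyFunctors
import Cfsg.Agent.Lib.Helper12.ControlTransfer

/-!
Helper lemmas (helper12): isomorphism-invariant `p`-group functors (`Cfsg.IsCharPFunctor`) and the conjugacy
functor they induce (`Cfsg.inducedFunctor`): naturality under isomorphisms, `isConjugacyFunctor_induced`,
transport of `ControlsTransferIn _ _ ⊤` along isomorphisms and to sections of subgroups and quotients, existence of
normal subgroups of index `p` (p-groups, abelian groups, Sylow not in the derived subgroup), lifting of `p'`-elements,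
and the theorem `exists_normal_index_eq_prime_of_controlsTransfer`.
-/

set_option autoImplicit false
open Subgroup
open scoped Pointwise

namespace Cfsg.Agent.Lib.Helper12

universe u

section induced
variable {p : ℕ} [Fact p.Prime] (W : ∀ (Q : Type u) [Group Q], Subgroup Q)
  (hW : Cfsg.IsCharPFunctor.{u} p W)

omit [Fact p.Prime] in
include hW in
/-- naturality of the induced functor under an isomorphism -/
theorem inducedFunctor_map_equiv {X Y : Type u} [Group X] [Group Y] [Finite X] (e : X ≃* Y)
    (T : Subgroup X) (hT : IsPGroup p T) :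
    Cfsg.inducedFunctor W (T.map e.toMonoidHom) = (Cfsg.inducedFunctor W T).map e.toMonoidHom := by
  unfold Cfsg.inducedFunctor
  have h := hW.2 ↥T ↥(T.map e.toMonoidHom) hT (e.subgroupMap T)
  rw [← h, Subgroup.map_map, Subgroup.map_map]
  congr 1

include hW in
/-- the induced functor is a conjugacy functor -/
theorem isConjugacyFunctor_induced (G : Type u) [Group G] [Finite G] :
    Cfsg.IsConjugacyFunctor p (Cfsg.inducedFunctor (G := G) W) := by
  intro P hP
  refine ⟨?_, ?_, ?_⟩
  · unfold Cfsg.inducedFunctor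
    exact Subgroup.map_subtype_le _
  · intro hne
    unfold Cfsg.inducedFunctor
    have hnt : Nontrivial ↥P := (Subgroup.nontrivial_iff_ne_bot P).mpr hne
    have h1 := hW.1 ↥P hP hnt
    intro h2
    apply h1
    rw [Subgroup.map_eq_bot_iff_of_injective _ P.subtype_injective] at h2
    exact h2
  · intro g
    exact inducedFunctor_map_equiv W hW (MulAut.conj g) P hP

include hW in
/-- control of transfer in the whole group is invariant under isomorphism -/
theorem controlsTransferIn_top_of_equiv {X Y : Type u} [Group X] [Group Y] [Finite X] (e : X ≃* Y)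
    (h : Cfsg.ControlsTransferIn p (Cfsg.inducedFunctor W) (⊤ : Subgroup X)) :
    Cfsg.ControlsTransferIn p (Cfsg.inducedFunctor W) (⊤ : Subgroup Y) := by
  obtain ⟨T, -, hTp, hidx, heq⟩ := h
  refine ⟨T.map e.toMonoidHom, le_top, hTp.map _, ?_, ?_⟩
  · rw [Subgroup.relIndex_top_right] at hidx ⊢
    rwa [Subgroup.index_map_of_bijective (f := e.toMonoidHom) e.bijective T]
  · have h1 := congrArg (Subgroup.map e.toMonoidHom) heq
    rw [inducedFunctor_map_equiv W hW e T hTp]
    have htop : (⊤ : Subgroup X).map e.toMonoidHom = ⊤ :=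
      Subgroup.map_top_of_surjective _ e.surjective
    rw [Subgroup.map_inf _ _ _ e.injective, Subgroup.map_inf _ _ _ e.injective,
      Subgroup.map_commutator, Subgroup.map_commutator, Subgroup.map_inf _ _ _ e.injective,
      Subgroup.map_equiv_normalizer_eq, htop] at h1
    exact h1

end induced



section sections
variable {p : ℕ} [Fact p.Prime] (W : ∀ (Q : Type u) [Group Q], Subgroup Q)
  (hW : Cfsg.IsCharPFunctor.{u} p W)

include hW in
/-- control of transfer in a section presented by a surjection -/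
theorem controlsTransferIn_of_section {G : Type u} [Group G] [Finite G]
    (hctl : ∀ (K R : Subgroup G) [hR : (R.subgroupOf K).Normal],
      Cfsg.ControlsTransferIn p (Cfsg.inducedFunctor (G := ↥K ⧸ R.subgroupOf K) W) ⊤)
    (K R : Subgroup G) {Y : Type u} [Group Y] (f : ↥K →* Y) (hf : Function.Surjective f)
    (hker : f.ker = R.subgroupOf K) :
    Cfsg.ControlsTransferIn p (Cfsg.inducedFunctor (G := Y) W) ⊤ := by
  have : (R.subgroupOf K).Normal := hker ▸ f.normal_ker
  have e : ↥K ⧸ R.subgroupOf K ≃* Y :=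
    (QuotientGroup.quotientMulEquivOfEq hker.symm).trans (QuotientGroup.quotientKerEquivOfSurjective f hf)
  exact controlsTransferIn_top_of_equiv W hW e (hctl K R)

include hW in
/-- the section hypothesis passes to subgroups -/
theorem controlsTransferIn_sections_subgroup {G : Type u} [Group G] [Finite G]
    (hctl : ∀ (K R : Subgroup G) [hR : (R.subgroupOf K).Normal],
      Cfsg.ControlsTransferIn p (Cfsg.inducedFunctor (G := ↥K ⧸ R.subgroupOf K) W) ⊤)
    (N₁ : Subgroup G) (K' R' : Subgroup ↥N₁) [_hR : (R'.subgroupOf K').Normal] :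
    Cfsg.ControlsTransferIn p (Cfsg.inducedFunctor (G := ↥K' ⧸ R'.subgroupOf K') W) ⊤ := by
  let e₀ : ↥K' ≃* ↥(K'.map N₁.subtype) := K'.equivMapOfInjective N₁.subtype N₁.subtype_injective
  let f : ↥(K'.map N₁.subtype) →* ↥K' ⧸ R'.subgroupOf K' :=
    (QuotientGroup.mk' (R'.subgroupOf K')).comp e₀.symm.toMonoidHom
  apply controlsTransferIn_of_section W hW hctl (K'.map N₁.subtype) (R'.map N₁.subtype) f
  · exact (QuotientGroup.mk'_surjective _).comp e₀.symm.surjective
  · ext x
    obtain ⟨y, rfl⟩ := e₀.surjective x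
    rw [MonoidHom.mem_ker]
    show ((QuotientGroup.mk' (R'.subgroupOf K')) (e₀.symm (e₀ y)) = 1) ↔ _
    rw [MulEquiv.symm_apply_apply, QuotientGroup.mk'_apply, QuotientGroup.eq_one_iff,
      Subgroup.mem_subgroupOf, Subgroup.mem_subgroupOf]
    have hcoe : ((e₀ y : ↥(K'.map N₁.subtype)) : G) = ((y : ↥N₁) : G) :=
      Subgroup.coe_equivMapOfInjective_apply _ _ _ y
    rw [hcoe]
    constructor
    · intro hy
      exact ⟨y.1, hy, rfl⟩
    · rintro ⟨r, hr, hry⟩
      have : r = y.1 := Subtype.ext hry
      rw [← this]; exact hr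

include hW in
/-- the section hypothesis passes to quotients -/
theorem controlsTransferIn_sections_quotient {G : Type u} [Group G] [Finite G]
    (hctl : ∀ (K R : Subgroup G) [hR : (R.subgroupOf K).Normal],
      Cfsg.ControlsTransferIn p (Cfsg.inducedFunctor (G := ↥K ⧸ R.subgroupOf K) W) ⊤)
    (Z : Subgroup G) [Z.Normal] (K' R' : Subgroup (G ⧸ Z)) [_hR : (R'.subgroupOf K').Normal] :
    Cfsg.ControlsTransferIn p (Cfsg.inducedFunctor (G := ↥K' ⧸ R'.subgroupOf K') W) ⊤ := by
  let f : ↥(K'.comap (QuotientGroup.mk' Z)) →* ↥K' ⧸ R'.subgroupOf K' :=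
    (QuotientGroup.mk' (R'.subgroupOf K')).comp ((QuotientGroup.mk' Z).subgroupComap K')
  apply controlsTransferIn_of_section W hW hctl (K'.comap (QuotientGroup.mk' Z))
    (R'.comap (QuotientGroup.mk' Z)) f
  · exact (QuotientGroup.mk'_surjective _).comp
      (MonoidHom.subgroupComap_surjective_of_surjective _ _ (QuotientGroup.mk'_surjective Z))
  · ext x
    rw [MonoidHom.mem_ker]
    show ((QuotientGroup.mk' (R'.subgroupOf K')) (((QuotientGroup.mk' Z).subgroupComap K') x) = 1) ↔ _
    rw [QuotientGroup.mk'_apply, QuotientGroup.eq_one_iff, Subgroup.mem_subgroupOf,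
      Subgroup.mem_subgroupOf, Subgroup.mem_comap]
    rfl

end sections


section indexp
variable {p : ℕ} [Fact p.Prime]

/-- a nontrivial finite `p`-group has a normal subgroup of index `p` -/
theorem exists_normal_index_eq_prime_of_isPGroup {Q : Type*} [Group Q] [Finite Q] (hQ : IsPGroup p Q)
    [Nontrivial Q] : ∃ N : Subgroup Q, N.Normal ∧ N.index = p := by
  obtain ⟨k, hk⟩ := IsPGroup.iff_card.mp hQ
  have hk0 : k ≠ 0 := by
    rintro rfl
    rw [pow_zero] at hk
    have := Finite.one_lt_card (α := Q)
    omega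
  obtain ⟨K, hK⟩ := Sylow.exists_subgroup_card_pow_prime p (G := Q) (n := k - 1)
    (by rw [hk]; exact pow_dvd_pow p (Nat.sub_le k 1))
  have hidx : K.index = p := by
    have h1 := K.card_mul_index
    rw [hK, hk] at h1
    have h2 : p ^ k = p ^ (k - 1) * p := by
      rw [← pow_succ]; congr 1; omega
    rw [h2] at h1
    exact Nat.eq_of_mul_eq_mul_left (pow_pos (Fact.out : p.Prime).pos _) h1
  refine ⟨K, Subgroup.normal_of_index_eq_minFac_card ?_, hidx⟩
  rw [hidx, hk, Nat.Prime.pow_minFac Fact.out hk0]

/-- a proper normal subgroup with `p`-group quotient gives a normal subgroup of index `p` -/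
theorem exists_normal_index_eq_prime_of_quotient {G : Type*} [Group G] [Finite G] (M : Subgroup G)
    [M.Normal] (hQ : IsPGroup p (G ⧸ M)) (hM : M ≠ ⊤) : ∃ N : Subgroup G, N.Normal ∧ N.index = p := by
  have : Nontrivial (G ⧸ M) := by
    rw [← Finite.one_lt_card_iff_nontrivial, ← Subgroup.index_eq_card]
    have h0 : M.index ≠ 0 := Subgroup.index_ne_zero_of_finite
    have h1 : M.index ≠ 1 := fun h => hM (Subgroup.index_eq_one.mp h)
    omega
  obtain ⟨N, hN, hidx⟩ := exists_normal_index_eq_prime_of_isPGroup hQ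
  refine ⟨N.comap (QuotientGroup.mk' M), hN.comap _, ?_⟩
  rw [Subgroup.index_comap_of_surjective _ (QuotientGroup.mk'_surjective M)]
  exact hidx

/-- a nontrivial Sylow `p`-subgroup with a normal complement gives a normal subgroup of index `p` -/
theorem exists_normal_index_eq_prime_of_complement {G : Type*} [Group G] [Finite G] (S : Sylow p G)
    (hS : (S : Subgroup G) ≠ ⊥) (H : Subgroup G) [H.Normal] (hc : IsComplement' (S : Subgroup G) H) :
    ∃ N : Subgroup G, N.Normal ∧ N.index = p := by
  have hidx : H.index = Nat.card (S : Subgroup G) := hc.index_eq_card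
  obtain ⟨k, hk⟩ := IsPGroup.iff_card.mp S.isPGroup'
  apply exists_normal_index_eq_prime_of_quotient H
  · apply IsPGroup.of_card (n := k)
    rw [← Subgroup.index_eq_card, hidx, hk]
  · intro htop
    rw [htop, Subgroup.index_top] at hidx
    exact hS ((Subgroup.card_eq_one).mp hidx.symm)

/-- a nontrivial normal Sylow `p`-subgroup centralized by all `p'`-elements -/
theorem exists_normal_index_eq_prime_of_normal_sylow {G : Type*} [Group G] [Finite G] (S : Sylow p G)
    (hS : (S : Subgroup G) ≠ ⊥) [hn : (S : Subgroup G).Normal]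
    (hN : ∀ g : G, (orderOf g).Coprime p → g ∈ Subgroup.centralizer ((S : Subgroup G) : Set G)) :
    ∃ N : Subgroup G, N.Normal ∧ N.index = p := by
  obtain ⟨H, hc⟩ := Subgroup.exists_right_complement'_of_coprime (N := (S : Subgroup G)) S.card_coprime_index
  have hHc : H ≤ Subgroup.centralizer ((S : Subgroup G) : Set G) := by
    intro h hh
    apply hN
    have h1 : orderOf h ∣ Nat.card H := Subgroup.orderOf_dvd_natCard H hh
    have h2 : (S : Subgroup G).index = Nat.card H := hc.symm.index_eq_card
    have h3 : Nat.Coprime (Nat.card H) p := by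
      rw [← h2, Nat.coprime_comm, Nat.Prime.coprime_iff_not_dvd Fact.out]
      exact S.not_dvd_index
    exact Nat.Coprime.coprime_dvd_left h1 h3
  have : H.Normal := by
    constructor
    intro h hh g
    have hg : g ∈ (((S : Subgroup G) : Set G) * (H : Set G) : Set G) := by
      have := hc.mul_eq
      rw [this]; exact Set.mem_univ g
    obtain ⟨s, hs, h', hh', rfl⟩ := Set.mem_mul.mp hg
    have hy : h' * h * h'⁻¹ ∈ H := H.mul_mem (H.mul_mem hh' hh) (H.inv_mem hh')
    have hcomm := (Subgroup.mem_centralizer_iff.mp (hHc hy)) s hs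
    have e : s * h' * h * (s * h')⁻¹ = h' * h * h'⁻¹ := by
      calc s * h' * h * (s * h')⁻¹ = s * (h' * h * h'⁻¹) * s⁻¹ := by group
        _ = (h' * h * h'⁻¹) * s * s⁻¹ := by rw [hcomm]
        _ = h' * h * h'⁻¹ := by group
    rw [e]; exact hy
  exact exists_normal_index_eq_prime_of_complement S hS H hc

/-- a finite abelian group of order divisible by `p` has a subgroup of index `p` -/
theorem exists_index_eq_prime_of_comm {A : Type*} [CommGroup A] [Finite A] (hp : p ∣ Nat.card A) :
    ∃ N : Subgroup A, N.Normal ∧ N.index = p := by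
  obtain ⟨S⟩ : Nonempty (Sylow p A) := inferInstance
  have hS : (S : Subgroup A) ≠ ⊥ := S.ne_bot_of_dvd_card hp
  apply exists_normal_index_eq_prime_of_normal_sylow S hS
  intro g _
  rw [Subgroup.mem_centralizer_iff]
  intro h _
  exact mul_comm h g

/-- if a Sylow `p`-subgroup is not contained in the derived subgroup, there is a normal subgroup of
index `p` -/
theorem exists_normal_index_eq_prime_of_not_le_commutator {G : Type*} [Group G] [Finite G]
    (S : Subgroup G) (hSp : IsPGroup p S) (hS : ¬ S ≤ commutator G) :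
    ∃ N : Subgroup G, N.Normal ∧ N.index = p := by
  have hne : S.map (Abelianization.of : G →* Abelianization G) ≠ ⊥ := by
    intro h
    apply hS
    rw [← Abelianization.ker_of, ← Subgroup.map_eq_bot_iff]
    exact h
  have hpg : IsPGroup p (S.map (Abelianization.of : G →* Abelianization G)) := hSp.map _
  have hdvd : p ∣ Nat.card (Abelianization G) := by
    have : Nontrivial (S.map (Abelianization.of : G →* Abelianization G)) :=
      (Subgroup.nontrivial_iff_ne_bot _).mpr hne
    obtain ⟨k, hk0, hk⟩ := hpg.nontrivial_iff_card.mp inferInstance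
    have h1 : p ∣ Nat.card (S.map (Abelianization.of : G →* Abelianization G)) := by
      rw [hk]; exact dvd_pow_self p (by omega)
    exact dvd_trans h1 (Subgroup.card_subgroup_dvd_card _)
  obtain ⟨N, hN, hidx⟩ := exists_index_eq_prime_of_comm (p := p) hdvd
  refine ⟨N.comap (Abelianization.of : G →* Abelianization G), hN.comap _, ?_⟩
  have hsurj : Function.Surjective (Abelianization.of : G →* Abelianization G) :=
    QuotientGroup.mk_surjective (s := commutator G)
  rw [Subgroup.index_comap_of_surjective _ hsurj]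
  exact hidx

omit [Fact p.Prime] in
/-- `p'`-elements of a quotient lift to `p'`-elements -/
theorem exists_coprime_lift [hp : Fact p.Prime] {G Q : Type*} [Group G] [Finite G] [Group Q] (f : G →* Q) (g : G)
    (hg : (orderOf (f g)).Coprime p) :
    ∃ u ∈ Subgroup.zpowers g, f u = f g ∧ (orderOf u).Coprime p := by
  have ho : orderOf g ≠ 0 := (orderOf_pos g).ne'
  obtain ⟨i, m, hm, hom⟩ := Nat.exists_eq_pow_mul_and_not_dvd ho p hp.out.ne_one
  by_cases hd : orderOf (f g) = 1
  · refine ⟨1, one_mem _, ?_, ?_⟩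
    · rw [map_one]; exact (orderOf_eq_one_iff.mp hd).symm
    · rw [orderOf_one]; exact Nat.coprime_one_left p
  · have hd1 : 1 < orderOf (f g) := by
      have : 0 < orderOf (f g) := by
        apply orderOf_pos_iff.mpr
        exact MonoidHom.isOfFinOrder f (isOfFinOrder_of_finite g)
      omega
    have hcop : Nat.Coprime (p ^ i) (orderOf (f g)) := (Nat.Coprime.pow_right i hg).symm
    obtain ⟨c, -, hc⟩ := Nat.exists_mul_mod_eq_one_of_coprime hcop hd1
    refine ⟨g ^ (p ^ i * c), Subgroup.pow_mem _ (Subgroup.mem_zpowers g) _, ?_, ?_⟩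
    · rw [map_pow, ← pow_mod_orderOf, hc, pow_one]
    · have h1 : (g ^ (p ^ i * c)) ^ m = 1 := by
        rw [← pow_mul]
        have : p ^ i * c * m = orderOf g * c := by rw [hom]; ring
        rw [this, pow_mul, pow_orderOf_eq_one, one_pow]
      have h2 : orderOf (g ^ (p ^ i * c)) ∣ m := orderOf_dvd_of_pow_eq_one h1
      have h3 : Nat.Coprime m p := by
        rw [Nat.coprime_comm, Nat.Prime.coprime_iff_not_dvd hp.out]; exact hm
      exact Nat.Coprime.coprime_dvd_left h2 h3

end indexp



section main
variable {p : ℕ} [Fact p.Prime] (W : ∀ (Q : Type u) [Group Q], Subgroup Q)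
  (hW : Cfsg.IsCharPFunctor.{u} p W)

include hW in
/-- control of transfer in all sections together with a `p`-group Sylow automizer gives a normal subgroup
of index `p` -/
theorem exists_normal_index_eq_prime_of_controlsTransfer : ∀ (n : ℕ) (G : Type u) [Group G] [Finite G],
    Nat.card G = n →
    (∀ (K R : Subgroup G) [hR : (R.subgroupOf K).Normal],
      Cfsg.ControlsTransferIn p (Cfsg.inducedFunctor (G := ↥K ⧸ R.subgroupOf K) W) ⊤) →
    ∀ S : Sylow p G, (S : Subgroup G) ≠ ⊥ →
    (∀ g ∈ Subgroup.normalizer ((S : Subgroup G) : Set G), (orderOf g).Coprime p →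
      g ∈ Subgroup.centralizer ((S : Subgroup G) : Set G)) →
    ∃ N : Subgroup G, N.Normal ∧ N.index = p := by
  intro n
  induction n using Nat.strong_induction_on with
  | _ n ih =>
  intro G _ _ hcard hctl S hS hN
  -- control of transfer in `G` itself
  have hG : Cfsg.ControlsTransferIn p (Cfsg.inducedFunctor (G := G) W) ⊤ := by
    apply controlsTransferIn_of_section W hW hctl ⊤ ⊥ (Subgroup.subtype ⊤)
    · intro g; exact ⟨⟨g, Subgroup.mem_top g⟩, rfl⟩
    · rw [Subgroup.ker_subtype, Subgroup.bot_subgroupOf]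
  have hWG := isConjugacyFunctor_induced W hW G
  have heq := controlsTransferIn_sylow _ hWG hG (le_top : (S : Subgroup G) ≤ ⊤) S.isPGroup'
    (by rw [Subgroup.relIndex_top_right]; exact S.not_dvd_index)
  obtain ⟨Z, hZdef⟩ : ∃ Z : Subgroup G, Z = Cfsg.inducedFunctor (G := G) W (S : Subgroup G) := ⟨_, rfl⟩
  rw [← hZdef, top_inf_eq] at heq
  have hZS : Z ≤ (S : Subgroup G) := hZdef ▸ (hWG S S.isPGroup').1
  have hZne : Z ≠ ⊥ := hZdef ▸ (hWG S S.isPGroup').2.1 hS
  have hSN : (S : Subgroup G) ≤ Subgroup.normalizer (Z : Set G) := by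
    intro s hs
    rw [Subgroup.mem_normalizer_iff_map_conj_eq]   -- hmm check name
    have h1 := (hWG S S.isPGroup').2.2 s
    have h2 : (S : Subgroup G).map (MulAut.conj s).toMonoidHom = S := cj_self_of_mem hs
    rw [h2, ← hZdef] at h1
    exact h1.symm
  by_cases hN1 : Subgroup.normalizer (Z : Set G) = ⊤
  · -- `Z` is normal
    have hZn : Z.Normal := Subgroup.normalizer_eq_top_iff.mp hN1
    by_cases hSZ : (S : Subgroup G) = Z
    · -- `S` is normal
      have : (S : Subgroup G).Normal := hSZ ▸ hZn
      apply exists_normal_index_eq_prime_of_normal_sylow S hS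
      intro g hg
      exact hN g (by rw [Subgroup.normalizer_eq_top_iff.mpr inferInstance]; exact Subgroup.mem_top g) hg
    · -- pass to `G ⧸ Z`
      have hcardQ : Nat.card (G ⧸ Z) < n := by
        rw [← hcard, ← Subgroup.index_eq_card, ← Z.index_mul_card]
        have h1 : 1 < Nat.card Z := (Subgroup.one_lt_card_iff_ne_bot Z).mpr hZne
        have h0 : 0 < Z.index := Nat.pos_of_ne_zero Subgroup.index_ne_zero_of_finite
        nlinarith
      let SQ : Sylow p (G ⧸ Z) := S.mapSurjective (QuotientGroup.mk'_surjective Z)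
      have hSQcoe : (SQ : Subgroup (G ⧸ Z)) = (S : Subgroup G).map (QuotientGroup.mk' Z) :=
        Sylow.coe_mapSurjective _ _
      have hSQne : (SQ : Subgroup (G ⧸ Z)) ≠ ⊥ := by
        rw [hSQcoe]
        intro h
        rw [Subgroup.map_eq_bot_iff, QuotientGroup.ker_mk'] at h
        exact hSZ (le_antisymm h hZS)
      have hmem : ∀ x : G, (QuotientGroup.mk' Z x) ∈ (SQ : Subgroup (G ⧸ Z)) ↔ x ∈ (S : Subgroup G) := by
        intro x
        rw [hSQcoe]
        constructor
        · rintro ⟨y, hy, hyx⟩
          have h1 : y⁻¹ * x ∈ Z := by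
            rw [← QuotientGroup.eq]
            exact hyx
          have e : x = y * (y⁻¹ * x) := by group
          rw [e]; exact (S : Subgroup G).mul_mem hy (hZS h1)
        · intro hx; exact ⟨x, hx, rfl⟩
      have hNQ : ∀ g' ∈ Subgroup.normalizer ((SQ : Subgroup (G ⧸ Z)) : Set (G ⧸ Z)),
          (orderOf g').Coprime p → g' ∈ Subgroup.centralizer ((SQ : Subgroup (G ⧸ Z)) : Set (G ⧸ Z)) := by
        intro g' hg' hcop
        obtain ⟨g, rfl⟩ := QuotientGroup.mk'_surjective Z g'
        have hgN : g ∈ Subgroup.normalizer ((S : Subgroup G) : Set G) := by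
          rw [Subgroup.mem_normalizer_iff] at hg' ⊢
          intro x
          rw [← hmem x, ← hmem (g * x * g⁻¹), hg' (QuotientGroup.mk' Z x)]
          simp only [map_mul, map_inv]
        obtain ⟨u, hu, hfu, hucop⟩ := exists_coprime_lift (p := p) (QuotientGroup.mk' Z) g hcop
        have huN : u ∈ Subgroup.normalizer ((S : Subgroup G) : Set G) :=
          (Subgroup.zpowers_le.mpr hgN) hu
        have huC := hN u huN hucop
        rw [← hfu]
        rw [Subgroup.mem_centralizer_iff] at huC ⊢
        intro y hy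
        rw [SetLike.mem_coe, hSQcoe] at hy
        obtain ⟨x, hx, rfl⟩ := hy
        rw [← map_mul, ← map_mul, huC x hx]
      obtain ⟨M, hMn, hMidx⟩ := ih _ hcardQ (G ⧸ Z) rfl
        (controlsTransferIn_sections_quotient W hW hctl Z) SQ hSQne hNQ
      refine ⟨M.comap (QuotientGroup.mk' Z), hMn.comap _, ?_⟩
      rw [Subgroup.index_comap_of_surjective _ (QuotientGroup.mk'_surjective Z)]
      exact hMidx
  · -- the normalizer is proper
    obtain ⟨N₁, hN₁def⟩ : ∃ N₁ : Subgroup G, N₁ = Subgroup.normalizer (Z : Set G) := ⟨_, rfl⟩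
    rw [← hN₁def] at heq hSN hN1
    have hcard₁ : Nat.card ↥N₁ < n := by
      rw [← hcard]
      exact lt_of_le_of_ne (Subgroup.card_le_card_group N₁)
        (fun h => hN1 ((Subgroup.card_eq_iff_eq_top N₁).mp h))
    let S₁ : Sylow p ↥N₁ := S.subtype hSN
    have hS₁coe : (S₁ : Subgroup ↥N₁) = (S : Subgroup G).subgroupOf N₁ := Sylow.coe_subtype _ _
    have hS₁ne : (S₁ : Subgroup ↥N₁) ≠ ⊥ := by
      rw [hS₁coe]
      intro h
      rw [Subgroup.subgroupOf_eq_bot] at h
      apply hS
      rw [← inf_eq_left.mpr hSN]; exact h.eq_bot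
    have hN₁' : ∀ g ∈ Subgroup.normalizer ((S₁ : Subgroup ↥N₁) : Set ↥N₁), (orderOf g).Coprime p →
        g ∈ Subgroup.centralizer ((S₁ : Subgroup ↥N₁) : Set ↥N₁) := by
      intro g hg hcop
      have hg1 : (g : G) ∈ Subgroup.normalizer ((S : Subgroup G) : Set G) := by
        rw [Subgroup.mem_normalizer_iff]
        intro x
        rw [Subgroup.mem_normalizer_iff] at hg
        constructor
        · intro hx
          have h1 := (hg ⟨x, hSN hx⟩).mp (by rw [hS₁coe, Subgroup.mem_subgroupOf]; exact hx)
          rw [hS₁coe, Subgroup.mem_subgroupOf] at h1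
          exact h1
        · intro hx
          have hxN : x ∈ N₁ := by
            have h1 : (g : G)⁻¹ * ((g : G) * x * (g : G)⁻¹) * (g : G) ∈ N₁ :=
              N₁.mul_mem (N₁.mul_mem (N₁.inv_mem g.2) (hSN hx)) g.2
            have e : (g : G)⁻¹ * ((g : G) * x * (g : G)⁻¹) * (g : G) = x := by group
            rwa [e] at h1
          have h1 := (hg ⟨x, hxN⟩).mpr (by rw [hS₁coe, Subgroup.mem_subgroupOf]; exact hx)
          rw [hS₁coe, Subgroup.mem_subgroupOf] at h1
          exact h1
      have hg2 := hN (g : G) hg1 (by rw [Subgroup.orderOf_coe]; exact hcop)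
      rw [Subgroup.mem_centralizer_iff] at hg2 ⊢
      intro y hy
      rw [SetLike.mem_coe, hS₁coe, Subgroup.mem_subgroupOf] at hy
      exact Subtype.ext (hg2 y.1 hy)
    obtain ⟨M, hMn, hMidx⟩ := ih _ hcard₁ ↥N₁ rfl
      (controlsTransferIn_sections_subgroup W hW hctl N₁) S₁ hS₁ne hN₁'
    have hS₁M : ¬ (S₁ : Subgroup ↥N₁) ≤ M := by
      intro hle
      have h1 : M.index ∣ (S₁ : Subgroup ↥N₁).index := Subgroup.index_dvd_of_le hle
      rw [hMidx] at h1
      exact S₁.not_dvd_index h1
    have hcomm : commutator ↥N₁ ≤ M := by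
      have hcyc : IsCyclic (↥N₁ ⧸ M) :=
        isCyclic_of_prime_card (p := p) (by rw [← Subgroup.index_eq_card]; exact hMidx)
      have hcomm' : IsMulCommutative (↥N₁ ⧸ M) := by
        let _ := IsCyclic.commGroup (α := ↥N₁ ⧸ M)
        exact ⟨⟨fun a b => mul_comm a b⟩⟩
      exact Subgroup.Normal.quotient_commutative_iff_commutator_le.mp hcomm'
    have hSc : ¬ (S : Subgroup G) ≤ ⁅N₁, N₁⁆ := by
      intro hle
      apply hS₁M
      intro y hy
      rw [hS₁coe, Subgroup.mem_subgroupOf] at hy
      have h1 := hle hy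
      have h2 : ⁅N₁, N₁⁆ = (commutator ↥N₁).map N₁.subtype := by
        rw [_root_.commutator_def, Subgroup.map_commutator, ← MonoidHom.range_eq_map, Subgroup.range_subtype]
      rw [h2] at h1
      obtain ⟨c, hc, hcy⟩ := h1
      have hcy' : c = y := Subtype.ext hcy
      rw [← hcy']; exact hcomm hc
    apply exists_normal_index_eq_prime_of_not_le_commutator (S : Subgroup G) S.isPGroup'
    intro hle
    apply hSc
    have h1 : (S : Subgroup G) ⊓ ⁅(⊤ : Subgroup G), ⊤⁆ = S :=
      inf_eq_left.mpr (by rw [← _root_.commutator_def]; exact hle)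
    rw [heq] at h1
    exact inf_eq_left.mp h1

end main

end Cfsg.Agent.Lib.Helper12
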