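import Mathlib
import Cfsg.Prelude.Def_ConjugacyFunctors
import Cfsg.Prelude.Def_CaseTheorems
import Cfsg.Agent.Lib.Helper12.InducedFunctor
import Cfsg.Agent.Lib.Helper12.PNilpotent

set_option autoImplicit false
open Subgroup
open scoped Pointwise

namespace Cfsg.Agent.Lib.Helper12

universe u

section thompson
variable {p : ℕ} [Fact p.Prime] (W : ∀ (Q : Type u) [Group Q], Subgroup Q)
  (hW : Cfsg.IsCharPFunctor.{u} p W)

omit [Fact p.Prime] in
include hW in
/-- naturality of the induced functor under a homomorphism injective on `T` -/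
theorem inducedFunctor_map_of_injOn {X Y : Type u} [Group X] [Group Y] [Finite X] (f : X →* Y)
    (T : Subgroup X) (hT : IsPGroup p T) (hinj : ∀ x ∈ T, f x = 1 → x = 1) :
    Cfsg.inducedFunctor W (T.map f) = (Cfsg.inducedFunctor W T).map f := by
  unfold Cfsg.inducedFunctor
  have hinj' : Function.Injective (f.subgroupMap T) := by
    rw [injective_iff_map_eq_one]
    intro a ha
    apply Subtype.ext
    apply hinj a.1 a.2
    have := congrArg Subtype.val ha
    simpa using this
  let e : ↥T ≃* ↥(T.map f) := MulEquiv.ofBijective (f.subgroupMap T) ⟨hinj', f.subgroupMap_surjective T⟩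
  have h := hW.2 ↥T ↥(T.map f) hT e
  rw [← h, Subgroup.map_map, Subgroup.map_map]
  congr 1

omit [Fact p.Prime] in
include hW in
/-- the normalizer of a `p`-subgroup lies in the normalizer of its image under the functor -/
theorem normalizer_le_normalizer_inducedFunctor {X : Type u} [Group X] [Finite X] (T : Subgroup X)
    (hT : IsPGroup p T) :
    Subgroup.normalizer (T : Set X) ≤
      Subgroup.normalizer ((Cfsg.inducedFunctor W T : Subgroup X) : Set X) := by
  intro g hg
  rw [Subgroup.mem_normalizer_iff_map_conj_eq] at hg ⊢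
  have h1 := inducedFunctor_map_equiv W hW (MulAut.conj g) T hT
  have hg' : T.map (MulAut.conj g).toMonoidHom = T := hg
  rw [hg'] at h1
  exact h1.symm

include hW in
/-- normal `p`-complements of normalizers of `W(T)` pass from `Y` to subgroups containing `T` -/
theorem hasNormalPComplement_normalizer_subgroup {Y : Type u} [Group Y] [Finite Y] (M : Subgroup Y)
    (T : Subgroup ↥M) (hT : IsPGroup p T)
    (h : Cfsg.HasNormalPComplement p
      ↥(Subgroup.normalizer ((Cfsg.inducedFunctor W (T.map M.subtype) : Subgroup Y) : Set Y))) :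
    Cfsg.HasNormalPComplement p
      ↥(Subgroup.normalizer ((Cfsg.inducedFunctor W T : Subgroup ↥M) : Set ↥M)) := by
  have hnat : Cfsg.inducedFunctor W (T.map M.subtype) = (Cfsg.inducedFunctor W T).map M.subtype :=
    inducedFunctor_map_of_injOn W hW M.subtype T hT (fun x _ hx => by simpa using hx)
  rw [hnat] at h
  let f : ↥(Subgroup.normalizer ((Cfsg.inducedFunctor W T : Subgroup ↥M) : Set ↥M)) →*
      ↥(Subgroup.normalizer (((Cfsg.inducedFunctor W T).map M.subtype : Subgroup Y) : Set Y)) :=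
    MonoidHom.codRestrict (M.subtype.comp (Subgroup.subtype _)) _
      (fun x => Subgroup.le_normalizer_map M.subtype ⟨x.1, x.2, rfl⟩)
  apply hasNormalPComplement_of_injective f _ h
  intro a b hab
  have h1 := congrArg Subtype.val hab
  apply Subtype.ext
  apply Subtype.ext
  exact h1

include hW in
/-- transport of the hypothesis to any other Sylow subgroup -/
theorem hasNormalPComplement_normalizer_sylow {Y : Type u} [Group Y] [Finite Y] (S S' : Sylow p Y)
    (h : Cfsg.HasNormalPComplement p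
      ↥(Subgroup.normalizer ((Cfsg.inducedFunctor W (S : Subgroup Y) : Subgroup Y) : Set Y))) :
    Cfsg.HasNormalPComplement p
      ↥(Subgroup.normalizer ((Cfsg.inducedFunctor W (S' : Subgroup Y) : Subgroup Y) : Set Y)) := by
  obtain ⟨g, hg⟩ := MulAction.exists_smul_eq Y S' S
  have hS : (S : Subgroup Y) = (S' : Subgroup Y).map (MulAut.conj g).toMonoidHom := by
    ext x
    rw [← hg, mem_map_conj_iff]
    exact Cfsg.Agent.Lib.Helper29.mem_smul_sylow_iff g x S'
  have hnat := inducedFunctor_map_equiv W hW (MulAut.conj g) (S' : Subgroup Y) S'.2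
  rw [hS, hnat, ← Subgroup.map_equiv_normalizer_eq] at h
  let f : ↥(Subgroup.normalizer ((Cfsg.inducedFunctor W (S' : Subgroup Y) : Subgroup Y) : Set Y)) →*
      ↥((Subgroup.normalizer ((Cfsg.inducedFunctor W (S' : Subgroup Y) : Subgroup Y) : Set Y)).map
        (MulAut.conj g).toMonoidHom) :=
    MonoidHom.codRestrict ((MulAut.conj g).toMonoidHom.comp (Subgroup.subtype _)) _
      (fun x => ⟨x.1, x.2, rfl⟩)
  apply hasNormalPComplement_of_injective f _ h
  intro a b hab
  have h1 := congrArg Subtype.val hab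
  apply Subtype.ext
  exact (MulAut.conj g).injective h1

/-- Frattini argument: modulo a normal `p'`-subgroup `D`, the normalizer of the image of a `p`-subgroup `Z` is the
image of the normalizer of `Z` -/
theorem normalizer_map_mk_le {Y : Type*} [Group Y] [Finite Y] (D : Subgroup Y) [hDn : D.Normal]
    (hD : (Nat.card D).Coprime p) (Z : Subgroup Y) (hZ : IsPGroup p Z) :
    Subgroup.normalizer ((Z.map (QuotientGroup.mk' D) : Subgroup (Y ⧸ D)) : Set (Y ⧸ D)) ≤
      (Subgroup.normalizer (Z : Set Y)).map (QuotientGroup.mk' D) := by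
  have hp : p.Prime := Fact.out
  intro xb hxb
  obtain ⟨x, rfl⟩ := QuotientGroup.mk'_surjective D xb
  -- the conjugate of `Z` by `x` lies in `Z ⊔ D`
  have hconj : Z.map (MulAut.conj x).toMonoidHom ≤ Z ⊔ D := by
    rintro _ ⟨z, hz, rfl⟩
    have h1 : (QuotientGroup.mk' D) x * (QuotientGroup.mk' D) z * ((QuotientGroup.mk' D) x)⁻¹ ∈
        Z.map (QuotientGroup.mk' D) :=
      (Subgroup.mem_normalizer_iff.mp hxb _).mp ⟨z, hz, rfl⟩
    obtain ⟨z', hz', hzz'⟩ := h1
    have h2 : (QuotientGroup.mk' D) (z'⁻¹ * (x * z * x⁻¹)) = 1 := by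
      rw [map_mul, map_inv, hzz', map_mul, map_mul, map_inv]
      group
    have h3 : z'⁻¹ * (x * z * x⁻¹) ∈ D := by
      rw [← QuotientGroup.ker_mk' D]; exact h2
    have h4 : x * z * x⁻¹ = z' * (z'⁻¹ * (x * z * x⁻¹)) := by group
    show x * z * x⁻¹ ∈ Z ⊔ D
    rw [h4]
    exact Subgroup.mul_mem _ (Subgroup.mem_sup_left hz') (Subgroup.mem_sup_right h3)
  have hidx : ¬ p ∣ Z.relIndex (Z ⊔ D) := by
    intro hdvd
    have h1 : Z.relIndex (Z ⊔ D) * Nat.card Z = Nat.card (Z ⊔ D : Subgroup Y) := by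
      have := Subgroup.relIndex_mul_relIndex ⊥ Z (Z ⊔ D) bot_le le_sup_left
      rw [Subgroup.relIndex_bot_left, Subgroup.relIndex_bot_left] at this
      rw [mul_comm]; exact this
    have h2 : Nat.card (Z ⊔ D : Subgroup Y) ∣ Nat.card Z * Nat.card D := card_sup_dvd_of_normal Z D
    have h3 : Z.relIndex (Z ⊔ D) ∣ Nat.card D := by
      have h4 : Z.relIndex (Z ⊔ D) * Nat.card Z ∣ Nat.card D * Nat.card Z := by
        rw [h1, mul_comm (Nat.card D)]; exact h2
      exact Nat.dvd_of_mul_dvd_mul_right Nat.card_pos h4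
    have h5 : p ∣ Nat.card D := dvd_trans hdvd h3
    have h6 : p ∣ Nat.gcd (Nat.card D) p := Nat.dvd_gcd h5 (dvd_refl p)
    rw [hD] at h6
    exact hp.one_lt.ne' (Nat.dvd_one.mp h6)
  obtain ⟨h, hhB, hh⟩ := exists_conj_mem_of_relIndex Z (Z ⊔ D) (Z.map (MulAut.conj x).toMonoidHom) hZ hidx
    hconj (hZ.map _)
  have hhx : h * x ∈ Subgroup.normalizer (Z : Set Y) := by
    apply Subgroup.mem_normalizer_fintype
    intro z hz
    have h1 := hh (x * z * x⁻¹) ⟨z, hz, rfl⟩
    have h2 : h * x * z * (h * x)⁻¹ = h * (x * z * x⁻¹) * h⁻¹ := by group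
    rw [h2]; exact h1
  have hmkh : (QuotientGroup.mk' D) h ∈ Z.map (QuotientGroup.mk' D) := by
    have h1 : (QuotientGroup.mk' D) h ∈ (Z ⊔ D).map (QuotientGroup.mk' D) := ⟨h, hhB, rfl⟩
    rw [Subgroup.map_sup, QuotientGroup.map_mk'_self, sup_bot_eq] at h1
    exact h1
  have hle : Z.map (QuotientGroup.mk' D) ≤ (Subgroup.normalizer (Z : Set Y)).map (QuotientGroup.mk' D) :=
    Subgroup.map_mono Subgroup.le_normalizer
  have h1 : (QuotientGroup.mk' D) (h * x) ∈ (Subgroup.normalizer (Z : Set Y)).map (QuotientGroup.mk' D) :=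
    ⟨h * x, hhx, rfl⟩
  have h2 : (QuotientGroup.mk' D) x = ((QuotientGroup.mk' D) h)⁻¹ * (QuotientGroup.mk' D) (h * x) := by
    rw [map_mul]; group
  rw [h2]
  exact Subgroup.mul_mem _ (Subgroup.inv_mem _ (hle hmkh)) h1

end thompson

end Cfsg.Agent.Lib.Helper12
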