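import Mathlib
import Cfsg.Prelude.Def_ConjugacyFunctors
import Cfsg.Agent.Lib.Helper12.Basic
import Cfsg.Agent.Lib.Helper12.WellPlaced
import Cfsg.Agent.Lib.Helper12.Alperin
import Cfsg.Agent.Lib.Helper12.Control
import Cfsg.Agent.Lib.Helper12.ControlTransfer

/-!
Helper lemmas (helper12): tame subgroups, and local-to-global control of transfer for a set of conjugacy
functors.
-/

set_option autoImplicit false
open Subgroup
open scoped commutatorElement
namespace Cfsg.Agent.Lib.Helper12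

section tame
variable {G : Type*} [Group G] [Finite G] {p : ℕ} [Fact p.Prime] (S : Sylow p G)

/-- the family of tame subgroups of `S`: `N_S(T)` is a Sylow subgroup of `N_G(T)` -/
def tameFamily : Set (Subgroup G) :=
  {T | T ≤ (S : Subgroup G) ∧
    ¬ p ∣ ((S : Subgroup G) ⊓ Subgroup.normalizer ((T : Subgroup G) : Set G)).relIndex
      (Subgroup.normalizer ((T : Subgroup G) : Set G))}

omit [Finite G] [Fact p.Prime] in
/-- the identity functor is a conjugacy functor -/
theorem isConjugacyFunctor_id : Cfsg.IsConjugacyFunctor (G := G) p (fun P => P) :=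
  fun _ _ => ⟨le_rfl, fun h => h, fun _ => rfl⟩

/-- every subgroup of `S` has a tame conjugate, with the normalizer in `S` carried along -/
theorem exists_tame_conj {U : Subgroup G} (hU : U ≤ (S : Subgroup G)) :
    ∃ (b : G) (V : Subgroup G), V ∈ tameFamily S ∧ cj b U = V ∧
      cj b ((S : Subgroup G) ⊓ Subgroup.normalizer ((U : Subgroup G) : Set G)) ≤
        (S : Subgroup G) ⊓ Subgroup.normalizer ((V : Subgroup G) : Set G) := by
  obtain ⟨a, ha⟩ := exists_isWellPlaced (fun P => P) isConjugacyFunctor_id (S : Subgroup G) S.2 S rfl hU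
  have hV : cj a U ∈ tameFamily S := ⟨ha.1, ha.2 0⟩
  set V := cj a U with hVdef
  set N₁ := (S : Subgroup G) ⊓ Subgroup.normalizer ((U : Subgroup G) : Set G) with hN₁
  have hN₁V : cj a N₁ ≤ Subgroup.normalizer ((V : Subgroup G) : Set G) := by
    rw [hVdef, ← cj_normalizer]
    exact cj_mono a inf_le_right
  have hN₁p : IsPGroup p ↥(cj a N₁) := by
    rw [cj_def]
    exact (S.2.to_le inf_le_left).map _
  obtain ⟨y, hyN, hy⟩ := exists_conj_mem_of_relIndex
    ((S : Subgroup G) ⊓ Subgroup.normalizer ((V : Subgroup G) : Set G))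
    (Subgroup.normalizer ((V : Subgroup G) : Set G)) (cj a N₁) (S.2.to_le inf_le_left) hV.2 hN₁V hN₁p
  refine ⟨y * a, V, hV, ?_, ?_⟩
  · rw [← cj_mul]
    exact cj_eq_of_mem_normalizer hyN
  · rw [← cj_mul]
    rintro _ ⟨q, hq, rfl⟩
    have := hy q hq
    simpa [MulAut.conj_apply] using this

theorem reach_tame (T : Subgroup G) (hT : T ≤ (S : Subgroup G)) (g : G)
    (hTg : cj g⁻¹ T ≤ (S : Subgroup G)) : Reach (tameFamily S) (T : Set G) g := by
  apply alperin_main S _ _ _ _ T hT rfl g hTg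
  · intro U hU
    exact hU.1
  · intro T' hT'
    obtain ⟨b, V, hV, hbV, -⟩ := exists_tame_conj S hT'
    exact ⟨V, hV, ⟨b, hbV⟩, hV.2⟩

end tame

section chaincard
variable {G : Type*} [Group G] [Finite G]

theorem Chain.card_le (𝓕 : Set (Subgroup G)) {l : List (Subgroup G × G)} :
    ∀ {K : Subgroup G}, Chain 𝓕 (K : Set G) l → ∀ q ∈ l, Nat.card K ≤ Nat.card q.1 := by
  induction l with
  | nil => intro K _ q hq; simp at hq
  | cons a l ih =>
    obtain ⟨T, x⟩ := a
    rintro K ⟨-, -, hA, hl⟩ q hq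
    rcases List.mem_cons.mp hq with rfl | hq
    · exact Nat.card_le_card_of_injective (Set.inclusion hA) (Set.inclusion_injective hA)
    · rw [cjs_coe] at hl
      have := ih hl q hq
      rwa [card_cj] at this

end chaincard

section famtransfer
variable {G : Type*} [Group G] [Finite G] {p : ℕ} [Fact p.Prime]
  (𝓦 : Set (Subgroup G → Subgroup G)) (h𝓦 : ∀ W ∈ 𝓦, Cfsg.IsConjugacyFunctor p W)

include h𝓦 in
/-- conjugation-invariance of the choice of the Sylow subgroup in `FamilyControlsTransferIn` -/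
theorem familyControlsTransferIn_sylow {H S₁ : Subgroup G}
    (h : Cfsg.FamilyControlsTransferIn p 𝓦 H) (hS₁H : S₁ ≤ H) (hS₁p : IsPGroup p S₁)
    (hS₁idx : ¬ p ∣ S₁.relIndex H) :
    S₁ ⊓ ⁅H, H⁆ = ⨆ W ∈ 𝓦, S₁ ⊓ ⁅H ⊓ Subgroup.normalizer ((W S₁ : Subgroup G) : Set G),
      H ⊓ Subgroup.normalizer ((W S₁ : Subgroup G) : Set G)⁆ := by
  obtain ⟨T', hT'H, hT'p, hT'idx, heq⟩ := h
  obtain ⟨k, hkH, hk⟩ := exists_conj_mem_of_relIndex T' H S₁ hT'p hT'idx hS₁H hS₁p
  have hkS₁ : cj k S₁ ≤ T' := by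
    rintro _ ⟨s, hs, rfl⟩
    simpa [MulAut.conj_apply] using hk s hs
  have hcjH : cj k H = H := cj_self_of_mem hkH
  have hcjH' : cj k⁻¹ H = H := cj_self_of_mem (inv_mem hkH)
  have hT'eq : T' = cj k S₁ := by
    apply le_antisymm _ hkS₁
    apply le_of_isPGroup_of_relIndex (p := p) hkS₁ hT'H hT'p
    rw [← hcjH, cj_relIndex]
    exact hS₁idx
  have h1 := congrArg (cj k⁻¹) heq
  rw [cj_inf, cj_commutator, hcjH', hT'eq, cj_inv_cj] at h1
  rw [h1, cj_def, Subgroup.map_iSup]
  refine iSup_congr fun W => ?_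
  rw [Subgroup.map_iSup]
  refine iSup_congr fun hWmem => ?_
  have hWT' : W (cj k S₁) = cj k (W S₁) := (h𝓦 W hWmem S₁ hS₁p).2.2 k
  rw [← cj_def, cj_inf, cj_commutator, cj_inf, hcjH', cj_normalizer, hWT', cj_inv_cj, cj_inv_cj]

omit [Finite G] in
/-- along a chain, elements move within a coset of `F`, provided each member satisfies the local claim -/
theorem transfer_of_chain' (S F : Subgroup G) (𝓕 : Set (Subgroup G)) (l : List (Subgroup G × G))
    (hmem : ∀ q ∈ l, q.1 ≠ ⊥ → q.1 ≤ S ∧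
      (S ⊓ Subgroup.normalizer ((q.1 : Subgroup G) : Set G)) ⊓
        ⁅Subgroup.normalizer ((q.1 : Subgroup G) : Set G),
          Subgroup.normalizer ((q.1 : Subgroup G) : Set G)⁆ ≤ F) :
    ∀ A : Set G, Chain 𝓕 A l → ∀ a ∈ A, a * ((prodOf l)⁻¹ * a * prodOf l)⁻¹ ∈ F := by
  induction l with
  | nil =>
    intro A _ a _
    simp [prodOf_nil]
  | cons q l ih =>
    obtain ⟨T, x⟩ := q
    rintro A ⟨hT, hx, hA, hl⟩ a ha
    have h2 := ih (fun q hq => hmem q (List.mem_cons_of_mem _ hq)) _ hl (x⁻¹ * a * x) ⟨a, ha, rfl⟩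
    have h1 : a * (x⁻¹ * a * x)⁻¹ ∈ F := by
      by_cases hTbot : T = ⊥
      · have : a = 1 := by
          have := hA ha
          rw [hTbot] at this
          exact Subgroup.mem_bot.mp this
        subst this
        simp
      · obtain ⟨hTS, hTF⟩ := hmem (T, x) List.mem_cons_self hTbot
        apply hTF
        have haT : a ∈ T := hA ha
        have hxa : x⁻¹ * a * x ∈ T := by
          have := cjs_subset_of_mem_normalizer hx hA ⟨a, ha, rfl⟩
          simpa using this
        refine Subgroup.mem_inf.mpr ⟨Subgroup.mem_inf.mpr ⟨hTS ?_, Subgroup.le_normalizer ?_⟩, ?_⟩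
        · exact mul_mem haT (inv_mem hxa)
        · exact mul_mem haT (inv_mem hxa)
        · have e : a * (x⁻¹ * a * x)⁻¹ = ⁅a, x⁻¹⁆ := by
            rw [commutatorElement_def]; group
          rw [e]
          exact Subgroup.commutator_mem_commutator (Subgroup.le_normalizer haT) (inv_mem hx)
    rw [prodOf_cons]
    have e : a * ((x * prodOf l)⁻¹ * a * (x * prodOf l))⁻¹ =
        (a * (x⁻¹ * a * x)⁻¹) * ((x⁻¹ * a * x) * ((prodOf l)⁻¹ * (x⁻¹ * a * x) * prodOf l)⁻¹) := by
      group
    rw [e]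
    exact mul_mem h1 h2

include h𝓦 in
/-- the inductive claim for a set of functors: tame subgroups -/
theorem famTransfer_of_tame (S : Sylow p G)
    (hloc : ∀ T : Subgroup G, T ≤ (S : Subgroup G) → T ≠ ⊥ →
      ¬ p ∣ ((S : Subgroup G) ⊓ Subgroup.normalizer ((T : Subgroup G) : Set G)).relIndex
        (Subgroup.normalizer ((T : Subgroup G) : Set G)) →
      Cfsg.FamilyControlsTransferIn p 𝓦 (Subgroup.normalizer ((T : Subgroup G) : Set G))) :
    ∀ (d : ℕ) (T : Subgroup G), T ∈ tameFamily S → T ≠ ⊥ →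
      Nat.card (S : Subgroup G) -
        Nat.card ↥((S : Subgroup G) ⊓ Subgroup.normalizer ((T : Subgroup G) : Set G)) = d →
      ((S : Subgroup G) ⊓ Subgroup.normalizer ((T : Subgroup G) : Set G)) ⊓
        ⁅Subgroup.normalizer ((T : Subgroup G) : Set G), Subgroup.normalizer ((T : Subgroup G) : Set G)⁆ ≤
      ⨆ W ∈ 𝓦, (S : Subgroup G) ⊓ ⁅⊤ ⊓ Subgroup.normalizer ((W (S : Subgroup G) : Subgroup G) : Set G),
        ⊤ ⊓ Subgroup.normalizer ((W (S : Subgroup G) : Subgroup G) : Set G)⁆ := by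
  intro d
  induction d using Nat.strong_induction_on with
  | _ d IH =>
  intro T htame hne hd
  have hS₁p : IsPGroup p ↥((S : Subgroup G) ⊓ Subgroup.normalizer ((T : Subgroup G) : Set G)) :=
    S.2.to_le inf_le_left
  have hsyl := familyControlsTransferIn_sylow 𝓦 h𝓦 (hloc T htame.1 hne htame.2)
    (inf_le_right : (S : Subgroup G) ⊓ Subgroup.normalizer ((T : Subgroup G) : Set G) ≤ _) hS₁p htame.2
  rw [hsyl]
  apply iSup₂_le
  intro W hWmem
  by_cases hS₁S : (S : Subgroup G) ⊓ Subgroup.normalizer ((T : Subgroup G) : Set G) = (S : Subgroup G)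
  · rw [hS₁S]
    have hle : (S : Subgroup G) ⊓
        ⁅Subgroup.normalizer ((T : Subgroup G) : Set G) ⊓
          Subgroup.normalizer ((W (S : Subgroup G) : Subgroup G) : Set G),
        Subgroup.normalizer ((T : Subgroup G) : Set G) ⊓
          Subgroup.normalizer ((W (S : Subgroup G) : Subgroup G) : Set G)⁆ ≤
        (S : Subgroup G) ⊓ ⁅⊤ ⊓ Subgroup.normalizer ((W (S : Subgroup G) : Subgroup G) : Set G),
          ⊤ ⊓ Subgroup.normalizer ((W (S : Subgroup G) : Subgroup G) : Set G)⁆ :=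
      inf_le_inf_left _ (Subgroup.commutator_mono (inf_le_inf_right _ le_top) (inf_le_inf_right _ le_top))
    exact le_trans hle (le_biSup (fun W : Subgroup G → Subgroup G => (S : Subgroup G) ⊓
      ⁅⊤ ⊓ Subgroup.normalizer ((W (S : Subgroup G) : Subgroup G) : Set G),
        ⊤ ⊓ Subgroup.normalizer ((W (S : Subgroup G) : Subgroup G) : Set G)⁆) hWmem)
  · -- the subgroup `U = W(S₁)`
    have hWfun := h𝓦 W hWmem _ hS₁p
    set S₁ := (S : Subgroup G) ⊓ Subgroup.normalizer ((T : Subgroup G) : Set G) with hS₁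
    have hS₁ne : S₁ ≠ ⊥ := by
      intro h
      apply hne
      rw [eq_bot_iff, ← h]
      exact le_inf htame.1 Subgroup.le_normalizer
    have hUS₁ : W S₁ ≤ S₁ := hWfun.1
    have hUne : W S₁ ≠ ⊥ := hWfun.2.1 hS₁ne
    have hUS : W S₁ ≤ (S : Subgroup G) := hUS₁.trans inf_le_left
    -- `S₁ < N_S(U)`
    have hS₁NU : S₁ ≤ (S : Subgroup G) ⊓ Subgroup.normalizer ((W S₁ : Subgroup G) : Set G) := by
      apply le_inf inf_le_left
      intro g hg
      apply mem_normalizer_of_cj_eq
      have h2 : W (cj g S₁) = cj g (W S₁) := hWfun.2.2 g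
      rw [cj_self_of_mem hg] at h2
      exact h2.symm
    have hlt : Nat.card S₁ <
        Nat.card ↥((S : Subgroup G) ⊓ Subgroup.normalizer ((W S₁ : Subgroup G) : Set G)) := by
      have h1 := card_lt_card_inf_normalizer S.2 (inf_le_left : S₁ ≤ (S : Subgroup G)) hS₁S
      refine lt_of_lt_of_le h1 (Subgroup.card_le_of_le ?_)
      apply le_inf inf_le_left
      intro g hg
      have hgN := (Subgroup.mem_inf.mp hg).2
      apply mem_normalizer_of_cj_eq
      have h2 : W (cj g S₁) = cj g (W S₁) := hWfun.2.2 g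
      rw [cj_eq_of_mem_normalizer hgN] at h2
      exact h2.symm
    have hcardS : ∀ K : Subgroup G, K ≤ (S : Subgroup G) → Nat.card K ≤ Nat.card (S : Subgroup G) :=
      fun K hK => Subgroup.card_le_of_le hK
    -- a tame conjugate of `U`
    obtain ⟨b, V, hV, hbV, hbN⟩ := exists_tame_conj S hUS
    set NU := (S : Subgroup G) ⊓ Subgroup.normalizer ((W S₁ : Subgroup G) : Set G) with hNU
    have hreach : Reach (tameFamily S) (NU : Set G) b⁻¹ := by
      apply reach_tame S NU inf_le_left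
      rw [inv_inv]
      exact hbN.trans inf_le_left
    obtain ⟨l, hl, hprod⟩ := hreach
    have hVne : V ≠ ⊥ := by
      intro h
      apply hUne
      have h1 : Nat.card (W S₁) = 1 := by
        rw [← card_cj b, hbV, h, Subgroup.card_bot]
      exact Subgroup.card_eq_one.mp h1
    have hNVcard : Nat.card NU ≤
        Nat.card ↥((S : Subgroup G) ⊓ Subgroup.normalizer ((V : Subgroup G) : Set G)) := by
      rw [← card_cj b NU]
      exact Subgroup.card_le_of_le hbN
    intro z hz
    obtain ⟨hzS₁, hzc⟩ := Subgroup.mem_inf.mp hz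
    have hzNU : z ∈ NU := hS₁NU hzS₁
    have hzc' : z ∈ ⁅Subgroup.normalizer ((W S₁ : Subgroup G) : Set G),
        Subgroup.normalizer ((W S₁ : Subgroup G) : Set G)⁆ :=
      Subgroup.commutator_mono inf_le_right inf_le_right hzc
    -- the chain part
    have hstep := transfer_of_chain' (S : Subgroup G) _ (tameFamily S) l
      (fun q hq hqne => by
        have hq𝓕 : q.1 ∈ tameFamily S := (hl.mem _ q hq).1
        refine ⟨hq𝓕.1, ?_⟩
        have h1 : Nat.card NU ≤ Nat.card q.1 := hl.card_le _ q hq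
        have h2 : Nat.card q.1 ≤
            Nat.card ↥((S : Subgroup G) ⊓ Subgroup.normalizer ((q.1 : Subgroup G) : Set G)) :=
          Subgroup.card_le_of_le (le_inf hq𝓕.1 Subgroup.le_normalizer)
        have h3 := hcardS _ (inf_le_left : (S : Subgroup G) ⊓
          Subgroup.normalizer ((q.1 : Subgroup G) : Set G) ≤ (S : Subgroup G))
        exact IH _ (by omega) q.1 hq𝓕 hqne rfl) _ hl z hzNU
    rw [hprod, inv_inv] at hstep
    -- the tame part
    have hbz : b * z * b⁻¹ ∈ ((S : Subgroup G) ⊓ Subgroup.normalizer ((V : Subgroup G) : Set G)) ⊓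
        ⁅Subgroup.normalizer ((V : Subgroup G) : Set G), Subgroup.normalizer ((V : Subgroup G) : Set G)⁆ := by
      refine Subgroup.mem_inf.mpr ⟨hbN ⟨z, hzNU, by simp [MulAut.conj_apply]⟩, ?_⟩
      have h1 : b * z * b⁻¹ ∈ cj b ⁅Subgroup.normalizer ((W S₁ : Subgroup G) : Set G),
          Subgroup.normalizer ((W S₁ : Subgroup G) : Set G)⁆ := ⟨z, hzc', by simp [MulAut.conj_apply]⟩
      rw [cj_commutator, cj_normalizer, hbV] at h1
      exact h1
    have h3 := hcardS _ (inf_le_left : (S : Subgroup G) ⊓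
      Subgroup.normalizer ((V : Subgroup G) : Set G) ≤ (S : Subgroup G))
    have htameV := IH _ (by omega) V hV hVne rfl hbz
    have e : z = (z * (b * z * b⁻¹)⁻¹) * (b * z * b⁻¹) := by group
    rw [e]
    exact mul_mem hstep htameV

include h𝓦 in
theorem familyControlsTransferIn_top_of_tame (S : Sylow p G)
    (hloc : ∀ T : Subgroup G, T ≤ (S : Subgroup G) → T ≠ ⊥ →
      ¬ p ∣ ((S : Subgroup G) ⊓ Subgroup.normalizer ((T : Subgroup G) : Set G)).relIndex
        (Subgroup.normalizer ((T : Subgroup G) : Set G)) →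
      Cfsg.FamilyControlsTransferIn p 𝓦 (Subgroup.normalizer ((T : Subgroup G) : Set G))) :
    Cfsg.FamilyControlsTransferIn p 𝓦 ⊤ := by
  refine ⟨(S : Subgroup G), le_top, S.2, ?_, ?_⟩
  · rw [Subgroup.relIndex_top_right]
    exact S.not_dvd_index
  · apply le_antisymm
    · have hfocal := Subgroup.commutator_inf_eq_focalSubgroup S
      rw [commutator_def, inf_comm] at hfocal
      rw [hfocal, Subgroup.focalSubgroup_def, Subgroup.closure_le]
      rintro g ⟨hgS, x, hxS, u, rfl⟩
      have huxu : u * x * u⁻¹ ∈ (S : Subgroup G) := by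
        have h1 : x⁻¹ * ⁅x, u⁆ ∈ (S : Subgroup G) := mul_mem (inv_mem hxS) hgS
        have e : u * x * u⁻¹ = (x⁻¹ * ⁅x, u⁆)⁻¹ := by rw [commutatorElement_def]; group
        rw [e]; exact inv_mem h1
      have h1 : Subgroup.zpowers x ≤ (S : Subgroup G) := (Subgroup.zpowers_le).mpr hxS
      have h2 : cj u⁻¹⁻¹ (Subgroup.zpowers x) ≤ (S : Subgroup G) := by
        rw [inv_inv, cj_def, MonoidHom.map_zpowers, Subgroup.zpowers_le]
        simpa [MulAut.conj_apply] using huxu
      obtain ⟨l, hl, hprod⟩ := reach_tame S _ h1 u⁻¹ h2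
      have := transfer_of_chain' (S : Subgroup G) _ (tameFamily S) l
        (fun q hq hqne => by
          have hq𝓕 : q.1 ∈ tameFamily S := (hl.mem _ q hq).1
          exact ⟨hq𝓕.1, famTransfer_of_tame 𝓦 h𝓦 S hloc _ q.1 hq𝓕 hqne rfl⟩) _ hl x
        (Subgroup.mem_zpowers x)
      rw [hprod, inv_inv] at this
      have e : ⁅x, u⁆ = x * (u * x * u⁻¹)⁻¹ := by rw [commutatorElement_def]; group
      rw [SetLike.mem_coe, e]
      exact this
    · apply iSup₂_le
      intro W _
      exact inf_le_inf_left _ (Subgroup.commutator_mono le_top le_top)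

end famtransfer

end Cfsg.Agent.Lib.Helper12
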