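import Mathlib
import Cfsg.Prelude.Def_ConjugacyFunctors
import Cfsg.Agent.Lib.Helper12.Basic
import Cfsg.Agent.Lib.Helper12.WellPlaced
import Cfsg.Agent.Lib.Helper12.Alperin
import Cfsg.Agent.Lib.Helper12.Control
import Cfsg.Agent.Lib.Helper12.ControlTransfer
import Cfsg.Agent.Lib.Helper12.FamilyTransfer

/-!
Helper lemmas (helper12): local-to-global control of strong fusion for a set of conjugacy functors.
-/

set_option autoImplicit false
open Subgroup
namespace Cfsg.Agent.Lib.Helper12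

section lcj
variable {G : Type*} [Group G]

/-- left conjugate of a set: `x A x⁻¹` -/
def lcj (x : G) (A : Set G) : Set G := (fun a => x * a * x⁻¹) '' A

theorem lcj_def (x : G) (A : Set G) : lcj x A = (fun a => x * a * x⁻¹) '' A := rfl

theorem mem_lcj {x : G} {A : Set G} {g : G} : g ∈ lcj x A ↔ x⁻¹ * g * x ∈ A := by
  constructor
  · rintro ⟨a, ha, rfl⟩
    have e : x⁻¹ * (x * a * x⁻¹) * x = a := by group
    rw [e]; exact ha
  · intro h
    exact ⟨_, h, by group⟩

theorem mem_lcj_of_mem {x : G} {A : Set G} {a : G} (ha : a ∈ A) : x * a * x⁻¹ ∈ lcj x A :=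
  ⟨a, ha, rfl⟩

theorem lcj_one (A : Set G) : lcj 1 A = A := by
  ext g; simp [mem_lcj]

theorem lcj_mul (x y : G) (A : Set G) : lcj (x * y) A = lcj x (lcj y A) := by
  ext g; simp [mem_lcj, mul_assoc]

theorem lcj_mono (x : G) {A B : Set G} (h : A ⊆ B) : lcj x A ⊆ lcj x B := Set.image_mono h

theorem lcj_inv_lcj (x : G) (A : Set G) : lcj x⁻¹ (lcj x A) = A := by
  rw [← lcj_mul, inv_mul_cancel, lcj_one]

theorem lcj_lcj_inv (x : G) (A : Set G) : lcj x (lcj x⁻¹ A) = A := by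
  rw [← lcj_mul, mul_inv_cancel, lcj_one]

theorem lcj_coe (x : G) (K : Subgroup G) : lcj x (K : Set G) = ((cj x K : Subgroup G) : Set G) := by
  ext y
  constructor
  · rintro ⟨a, ha, rfl⟩
    exact ⟨a, ha, by simp [MulAut.conj_apply]⟩
  · rintro ⟨a, ha, rfl⟩
    exact ⟨a, ha, by simp [MulAut.conj_apply]⟩

theorem lcj_congr {x y : G} {A : Set G} (h : ∀ a ∈ A, x * a * x⁻¹ = y * a * y⁻¹) :
    lcj x A = lcj y A := Set.image_congr h

theorem cjs_eq_lcj (x : G) (A : Set G) : cjs x A = lcj x⁻¹ A := by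
  unfold cjs lcj
  rw [inv_inv]

theorem lcj_subset_of_mem_normalizer {x : G} {T : Subgroup G}
    (hx : x ∈ Subgroup.normalizer (T : Set G)) {A : Set G} (hA : A ⊆ T) : lcj x A ⊆ T := by
  rintro _ ⟨a, ha, rfl⟩
  exact (Subgroup.mem_normalizer_iff.mp hx a).mp (hA ha)

end lcj

section freach
variable {G : Type*} [Group G] (𝓦 : Set (Subgroup G → Subgroup G)) (H T : Subgroup G)

/-- `FReach 𝓦 H T A c`: `c` is a product of elements of the subgroups `N_H(W T)`, `W ∈ 𝓦`, such that all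
partial products conjugate `A` into `T` -/
inductive FReach (A : Set G) : G → Prop
  | refl (hA : A ⊆ T) : FReach A 1
  | step (c y : G) (W : Subgroup G → Subgroup G) (hW : W ∈ 𝓦)
      (hy : y ∈ H ⊓ Subgroup.normalizer ((W T : Subgroup G) : Set G))
      (hc : FReach A c) (himg : lcj (y * c) A ⊆ T) : FReach A (y * c)

variable {𝓦 H T}

theorem FReach.subset {A : Set G} {c : G} (h : FReach 𝓦 H T A c) : A ⊆ T := by
  induction h with
  | refl hA => exact hA
  | step c y W hW hy hc himg ih => exact ih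

theorem FReach.image_subset {A : Set G} {c : G} (h : FReach 𝓦 H T A c) : lcj c A ⊆ T := by
  cases h with
  | refl hA => rw [lcj_one]; exact hA
  | step c y W hW hy hc himg => exact himg

theorem FReach.mono {A B : Set G} {c : G} (h : FReach 𝓦 H T A c) (hBA : B ⊆ A) :
    FReach 𝓦 H T B c := by
  induction h with
  | refl hA => exact FReach.refl (hBA.trans hA)
  | step c y W hW hy hc himg ih => exact FReach.step c y W hW hy ih ((lcj_mono _ hBA).trans himg)

theorem FReach.mono_left {H' : Subgroup G} {A : Set G} {c : G} (h : FReach 𝓦 H T A c)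
    (hH : H ≤ H') : FReach 𝓦 H' T A c := by
  induction h with
  | refl hA => exact FReach.refl hA
  | step c y W hW hy hc himg ih =>
    exact FReach.step c y W hW (inf_le_inf_right _ hH hy) ih himg

theorem FReach.trans {A : Set G} {c d : G} (h₁ : FReach 𝓦 H T A c)
    (h₂ : FReach 𝓦 H T (lcj c A) d) : FReach 𝓦 H T A (d * c) := by
  induction h₂ with
  | refl hA => rw [one_mul]; exact h₁
  | step d y W hW hy hd himg ih =>
    rw [mul_assoc]
    refine FReach.step (d * c) y W hW hy ih ?_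
    rw [← mul_assoc, lcj_mul]
    exact himg

theorem FReach.single {A : Set G} {y : G} (W : Subgroup G → Subgroup G) (hW : W ∈ 𝓦)
    (hy : y ∈ H ⊓ Subgroup.normalizer ((W T : Subgroup G) : Set G)) (hA : A ⊆ T)
    (himg : lcj y A ⊆ T) : FReach 𝓦 H T A y := by
  have := FReach.step (𝓦 := 𝓦) (H := H) (T := T) (A := A) 1 y W hW hy (FReach.refl hA)
    (by rw [mul_one]; exact himg)
  rwa [mul_one] at this

theorem FReach.symm {A : Set G} {c : G} (h : FReach 𝓦 H T A c) :
    FReach 𝓦 H T (lcj c A) c⁻¹ := by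
  induction h with
  | refl hA =>
    rw [inv_one, lcj_one]
    exact FReach.refl hA
  | step c y W hW hy hc himg ih =>
    rw [mul_inv_rev]
    apply FReach.trans
    · apply FReach.single W hW (inv_mem hy) himg
      rw [lcj_mul, lcj_inv_lcj]
      exact hc.image_subset
    · rw [lcj_mul, lcj_inv_lcj]
      exact ih

/-- conjugation by `h` on `A` is induced by an element reached through the `N_H(W T)` -/
def FCtl (𝓦 : Set (Subgroup G → Subgroup G)) (H T : Subgroup G) (A : Set G) (h : G) : Prop :=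
  ∃ c, FReach 𝓦 H T A c ∧ ∀ a ∈ A, c * a * c⁻¹ = h * a * h⁻¹

theorem FCtl.subset {A : Set G} {h : G} (hc : FCtl 𝓦 H T A h) : A ⊆ T := by
  obtain ⟨c, hc, -⟩ := hc
  exact hc.subset

theorem FCtl.image_subset {A : Set G} {h : G} (hc : FCtl 𝓦 H T A h) : lcj h A ⊆ T := by
  obtain ⟨c, hc, hag⟩ := hc
  rw [← lcj_congr hag]
  exact hc.image_subset

theorem FCtl.one {A : Set G} (hA : A ⊆ T) : FCtl 𝓦 H T A 1 := ⟨1, FReach.refl hA, fun _ _ => rfl⟩

theorem FCtl.mono {A B : Set G} {h : G} (hc : FCtl 𝓦 H T A h) (hBA : B ⊆ A) : FCtl 𝓦 H T B h := by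
  obtain ⟨c, hc, hag⟩ := hc
  exact ⟨c, hc.mono hBA, fun a ha => hag a (hBA ha)⟩

theorem FCtl.mono_left {H' : Subgroup G} {A : Set G} {h : G} (hc : FCtl 𝓦 H T A h) (hH : H ≤ H') :
    FCtl 𝓦 H' T A h := by
  obtain ⟨c, hc, hag⟩ := hc
  exact ⟨c, hc.mono_left hH, hag⟩

theorem FCtl.congr {A : Set G} {h h' : G} (hc : FCtl 𝓦 H T A h)
    (hh : ∀ a ∈ A, h' * a * h'⁻¹ = h * a * h⁻¹) : FCtl 𝓦 H T A h' := by
  obtain ⟨c, hc, hag⟩ := hc
  exact ⟨c, hc, fun a ha => (hag a ha).trans (hh a ha).symm⟩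

theorem FCtl.trans {A : Set G} {h k : G} (h₁ : FCtl 𝓦 H T A h) (h₂ : FCtl 𝓦 H T (lcj h A) k) :
    FCtl 𝓦 H T A (k * h) := by
  obtain ⟨c, hc, hcag⟩ := h₁
  obtain ⟨d, hd, hdag⟩ := h₂
  rw [← lcj_congr hcag] at hd
  refine ⟨d * c, hc.trans hd, fun a ha => ?_⟩
  have h1 := hdag (h * a * h⁻¹) (mem_lcj_of_mem ha)
  calc d * c * a * (d * c)⁻¹ = d * (c * a * c⁻¹) * d⁻¹ := by group
    _ = d * (h * a * h⁻¹) * d⁻¹ := by rw [hcag a ha]
    _ = k * (h * a * h⁻¹) * k⁻¹ := h1
    _ = k * h * a * (k * h)⁻¹ := by group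

theorem FCtl.symm {A : Set G} {h : G} (h₁ : FCtl 𝓦 H T A h) : FCtl 𝓦 H T (lcj h A) h⁻¹ := by
  obtain ⟨c, hc, hcag⟩ := h₁
  refine ⟨c⁻¹, ?_, ?_⟩
  · rw [← lcj_congr hcag]
    exact hc.symm
  · rintro _ ⟨a, ha, rfl⟩
    calc c⁻¹ * (h * a * h⁻¹) * c⁻¹⁻¹ = c⁻¹ * (c * a * c⁻¹) * c⁻¹⁻¹ := by rw [hcag a ha]
      _ = a := by group
      _ = h⁻¹ * (h * a * h⁻¹) * h⁻¹⁻¹ := by group

theorem FCtl.single {A : Set G} {y : G} (W : Subgroup G → Subgroup G) (hW : W ∈ 𝓦)
    (hy : y ∈ H ⊓ Subgroup.normalizer ((W T : Subgroup G) : Set G)) (hA : A ⊆ T)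
    (himg : lcj y A ⊆ T) : FCtl 𝓦 H T A y :=
  ⟨y, FReach.single W hW hy hA himg, fun _ _ => rfl⟩

/-- the chain form used in `Cfsg.FamilyControlsStrongFusionIn` -/
theorem FReach.exists_fin {A : Set G} {c : G} (h : FReach 𝓦 H T A c) :
    ∃ (n : ℕ) (f : Fin (n + 1) → G), f 0 = 1 ∧
      (∀ i : Fin n, ∃ W ∈ 𝓦,
        f i.succ * (f i.castSucc)⁻¹ ∈ H ⊓ Subgroup.normalizer ((W T : Subgroup G) : Set G)) ∧
      (∀ i : Fin (n + 1), (fun a => f i * a * (f i)⁻¹) '' A ⊆ T) ∧ f (Fin.last n) = c := by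
  induction h with
  | refl hA =>
    refine ⟨0, fun _ => 1, rfl, fun i => i.elim0, fun i => ?_, rfl⟩
    rintro _ ⟨a, ha, rfl⟩
    simpa using hA ha
  | step c y W hW hy hc himg ih =>
    obtain ⟨n, f, hf0, hfstep, hfimg, hflast⟩ := ih
    refine ⟨n + 1, Fin.snoc f (y * c), ?_, ?_, ?_, ?_⟩
    · rw [← Fin.castSucc_zero, Fin.snoc_castSucc]
      exact hf0
    · intro i
      refine Fin.lastCases ?_ (fun j => ?_) i
      · refine ⟨W, hW, ?_⟩
        rw [Fin.succ_last, Fin.snoc_last, Fin.snoc_castSucc, hflast, mul_inv_cancel_right]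
        exact hy
      · rw [Fin.succ_castSucc, Fin.snoc_castSucc, Fin.snoc_castSucc]
        exact hfstep j
    · intro i
      refine Fin.lastCases ?_ (fun j => ?_) i
      · rw [Fin.snoc_last]
        exact himg
      · rw [Fin.snoc_castSucc]
        exact hfimg j
    · rw [Fin.snoc_last]

theorem FReach.of_fin {A : Set G} {n : ℕ} (f : Fin (n + 1) → G) (hf0 : f 0 = 1)
    (hfstep : ∀ i : Fin n, ∃ W ∈ 𝓦,
      f i.succ * (f i.castSucc)⁻¹ ∈ H ⊓ Subgroup.normalizer ((W T : Subgroup G) : Set G))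
    (hfimg : ∀ i : Fin (n + 1), (fun a => f i * a * (f i)⁻¹) '' A ⊆ T) :
    ∀ i : Fin (n + 1), FReach 𝓦 H T A (f i) := by
  intro i
  induction i using Fin.induction with
  | zero =>
    rw [hf0]
    apply FReach.refl
    have := hfimg 0
    rw [hf0] at this
    intro a ha
    have h1 := this ⟨a, ha, rfl⟩
    simpa using h1
  | succ i ih =>
    obtain ⟨W, hW, hy⟩ := hfstep i
    have e : f i.succ = (f i.succ * (f i.castSucc)⁻¹) * f i.castSucc := by group
    rw [e]
    refine FReach.step _ _ W hW hy ih ?_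
    rw [← e]
    exact hfimg i.succ

/-- `FCtl` in the form of the definition -/
theorem fctl_iff_fin {A : Set G} {h : G} : FCtl 𝓦 H T A h ↔
    ∃ (n : ℕ) (c : Fin (n + 1) → G), c 0 = 1 ∧
      (∀ i : Fin n, ∃ W ∈ 𝓦,
        c i.succ * (c i.castSucc)⁻¹ ∈ H ⊓ Subgroup.normalizer ((W T : Subgroup G) : Set G)) ∧
      (∀ i : Fin (n + 1), (fun a => c i * a * (c i)⁻¹) '' A ⊆ T) ∧
      ∀ a ∈ A, c (Fin.last n) * a * (c (Fin.last n))⁻¹ = h * a * h⁻¹ := by
  constructor
  · rintro ⟨c, hc, hag⟩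
    obtain ⟨n, f, hf0, hfstep, hfimg, hflast⟩ := hc.exists_fin
    exact ⟨n, f, hf0, hfstep, hfimg, by rw [hflast]; exact hag⟩
  · rintro ⟨n, f, hf0, hfstep, hfimg, hag⟩
    exact ⟨f (Fin.last n), FReach.of_fin f hf0 hfstep hfimg _, hag⟩

/-- transport along conjugation by an element of `H` -/
theorem FReach.conj {A : Set G} {c : G} (h : FReach 𝓦 H T A c) {k : G} (hk : k ∈ H)
    (hWk : ∀ W ∈ 𝓦, W (cj k T) = cj k (W T)) :
    FReach 𝓦 H (cj k T) (lcj k A) (k * c * k⁻¹) := by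
  induction h with
  | refl hA =>
    rw [mul_one, mul_inv_cancel]
    apply FReach.refl
    rw [← lcj_coe]
    exact lcj_mono k hA
  | step c y W hW hy hc himg ih =>
    have e : k * (y * c) * k⁻¹ = (k * y * k⁻¹) * (k * c * k⁻¹) := by group
    rw [e]
    refine FReach.step _ _ W hW ?_ ih ?_
    · obtain ⟨hyH, hyN⟩ := Subgroup.mem_inf.mp hy
      refine Subgroup.mem_inf.mpr ⟨H.mul_mem (H.mul_mem hk hyH) (H.inv_mem hk), ?_⟩
      rw [hWk W hW, ← cj_normalizer]
      exact ⟨y, hyN, by simp [MulAut.conj_apply]⟩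
    · rw [← lcj_mul, ← lcj_coe]
      have e2 : (k * y * k⁻¹) * (k * c * k⁻¹) * k = k * (y * c) := by group
      rw [e2, lcj_mul]
      exact lcj_mono k himg

end freach

section famfusion
variable {G : Type*} [Group G] [Finite G] {p : ℕ} [Fact p.Prime]
  (𝓦 : Set (Subgroup G → Subgroup G)) (h𝓦 : ∀ W ∈ 𝓦, Cfsg.IsConjugacyFunctor p W)

include h𝓦 in
/-- conjugation-invariance of the choice of the Sylow subgroup in `FamilyControlsStrongFusionIn` -/
theorem familyControlsStrongFusionIn_sylow {H S₁ : Subgroup G}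
    (h : Cfsg.FamilyControlsStrongFusionIn p 𝓦 H) (hS₁H : S₁ ≤ H) (hS₁p : IsPGroup p S₁)
    (hS₁idx : ¬ p ∣ S₁.relIndex H) :
    ∀ (A : Set G) (x : G), x ∈ H → A ⊆ S₁ → lcj x A ⊆ S₁ → FCtl 𝓦 H S₁ A x := by
  obtain ⟨T', hT'H, hT'p, hT'idx, hctl⟩ := h
  obtain ⟨k, hkH, hk⟩ := exists_conj_mem_of_relIndex T' H S₁ hT'p hT'idx hS₁H hS₁p
  have hkS₁ : cj k S₁ ≤ T' := by
    rintro _ ⟨s, hs, rfl⟩
    simpa [MulAut.conj_apply] using hk s hs
  have hcjH : cj k H = H := cj_self_of_mem hkH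
  have hT'eq : T' = cj k S₁ := by
    apply le_antisymm _ hkS₁
    apply le_of_isPGroup_of_relIndex (p := p) hkS₁ hT'H hT'p
    rw [← hcjH, cj_relIndex]
    exact hS₁idx
  intro A x hxH hAS hAx
  have hA' : lcj k A ⊆ T' := by
    rintro _ ⟨a, ha, rfl⟩
    exact hk a (hAS ha)
  have hA'x : (fun a => (k * x * k⁻¹) * a * (k * x * k⁻¹)⁻¹) '' (lcj k A) ⊆ T' := by
    rintro _ ⟨_, ⟨a, ha, rfl⟩, rfl⟩
    have h1 : x * a * x⁻¹ ∈ S₁ := hAx ⟨a, ha, rfl⟩
    have h2 := hk _ h1
    have e : (k * x * k⁻¹) * (k * a * k⁻¹) * (k * x * k⁻¹)⁻¹ = k * (x * a * x⁻¹) * k⁻¹ := by group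
    show (k * x * k⁻¹) * (k * a * k⁻¹) * (k * x * k⁻¹)⁻¹ ∈ T'
    rw [e]; exact h2
  have h1 : FCtl 𝓦 H T' (lcj k A) (k * x * k⁻¹) :=
    fctl_iff_fin.mpr (hctl _ (k * x * k⁻¹) (H.mul_mem (H.mul_mem hkH hxH) (H.inv_mem hkH)) hA' hA'x)
  obtain ⟨c, hc, hag⟩ := h1
  have h2 := hc.conj (H.inv_mem hkH) (fun W hW => (h𝓦 W hW T' hT'p).2.2 k⁻¹)
  rw [lcj_inv_lcj, hT'eq, cj_inv_cj] at h2
  refine ⟨_, h2, fun a ha => ?_⟩
  have h3 := hag (k * a * k⁻¹) (mem_lcj_of_mem ha)
  calc k⁻¹ * c * k⁻¹⁻¹ * a * (k⁻¹ * c * k⁻¹⁻¹)⁻¹ = k⁻¹ * (c * (k * a * k⁻¹) * c⁻¹) * k := by group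
    _ = k⁻¹ * ((k * x * k⁻¹) * (k * a * k⁻¹) * (k * x * k⁻¹)⁻¹) * k := by rw [h3]
    _ = x * a * x⁻¹ := by group

omit [Finite G] [Fact p.Prime] in
/-- along a chain, conjugation is reached, provided each member satisfies the local claim -/
theorem fctl_of_chain (S : Subgroup G) (𝓕 : Set (Subgroup G)) (l : List (Subgroup G × G))
    (hmem : ∀ q ∈ l, q.1 ≠ ⊥ → q.1 ≤ S ∧ ∀ (B : Set G) (x : G),
      x ∈ Subgroup.normalizer ((q.1 : Subgroup G) : Set G) →
      B ⊆ (S ⊓ Subgroup.normalizer ((q.1 : Subgroup G) : Set G) : Subgroup G) →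
      lcj x B ⊆ (S ⊓ Subgroup.normalizer ((q.1 : Subgroup G) : Set G) : Subgroup G) →
      FCtl 𝓦 ⊤ S B x) :
    ∀ A : Set G, A ⊆ S → Chain 𝓕 A l → FCtl 𝓦 ⊤ S A (prodOf l)⁻¹ := by
  induction l with
  | nil =>
    intro A hAS _
    rw [prodOf_nil, inv_one]
    exact FCtl.one hAS
  | cons q l ih =>
    obtain ⟨T, x⟩ := q
    rintro A hAS ⟨hT, hx, hA, hl⟩
    by_cases hTbot : T = ⊥
    · apply (FCtl.one (𝓦 := 𝓦) (H := ⊤) hAS).congr
      intro a ha
      have : a = 1 := by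
        have := hA ha
        rw [hTbot] at this
        exact Subgroup.mem_bot.mp this
      subst this
      simp
    · obtain ⟨hTS, hclaim⟩ := hmem (T, x) List.mem_cons_self hTbot
      have hTS₁ : T ≤ S ⊓ Subgroup.normalizer ((T : Subgroup G) : Set G) :=
        le_inf hTS Subgroup.le_normalizer
      have hxA : lcj x⁻¹ A ⊆ T := lcj_subset_of_mem_normalizer (inv_mem hx) hA
      have h1 : FCtl 𝓦 ⊤ S A x⁻¹ :=
        hclaim A x⁻¹ (inv_mem hx) (hA.trans hTS₁) (hxA.trans hTS₁)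
      rw [cjs_eq_lcj] at hl
      have h2 := ih (fun q hq => hmem q (List.mem_cons_of_mem _ hq)) _ (hxA.trans hTS) hl
      rw [prodOf_cons, mul_inv_rev]
      exact h1.trans h2

include h𝓦 in
/-- the inductive claim for a set of functors: tame subgroups -/
theorem fctl_of_tame (S : Sylow p G)
    (hloc : ∀ T : Subgroup G, T ≤ (S : Subgroup G) → T ≠ ⊥ →
      ¬ p ∣ ((S : Subgroup G) ⊓ Subgroup.normalizer ((T : Subgroup G) : Set G)).relIndex
        (Subgroup.normalizer ((T : Subgroup G) : Set G)) →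
      Cfsg.FamilyControlsStrongFusionIn p 𝓦 (Subgroup.normalizer ((T : Subgroup G) : Set G))) :
    ∀ (d : ℕ) (T : Subgroup G), T ∈ tameFamily S → T ≠ ⊥ →
      Nat.card (S : Subgroup G) -
        Nat.card ↥((S : Subgroup G) ⊓ Subgroup.normalizer ((T : Subgroup G) : Set G)) = d →
      ∀ (B : Set G) (x : G), x ∈ Subgroup.normalizer ((T : Subgroup G) : Set G) →
        B ⊆ ((S : Subgroup G) ⊓ Subgroup.normalizer ((T : Subgroup G) : Set G) : Subgroup G) →
        lcj x B ⊆ ((S : Subgroup G) ⊓ Subgroup.normalizer ((T : Subgroup G) : Set G) : Subgroup G) →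
        FCtl 𝓦 ⊤ (S : Subgroup G) B x := by
  intro d
  induction d using Nat.strong_induction_on with
  | _ d IH =>
  intro T htame hne hd B x hxN hB hBx
  have hS₁p : IsPGroup p ↥((S : Subgroup G) ⊓ Subgroup.normalizer ((T : Subgroup G) : Set G)) :=
    S.2.to_le inf_le_left
  have hsyl := familyControlsStrongFusionIn_sylow 𝓦 h𝓦 (hloc T htame.1 hne htame.2)
    (inf_le_right : (S : Subgroup G) ⊓ Subgroup.normalizer ((T : Subgroup G) : Set G) ≤ _) hS₁p htame.2
    B x hxN hB hBx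
  set S₁ := (S : Subgroup G) ⊓ Subgroup.normalizer ((T : Subgroup G) : Set G) with hS₁
  have hS₁S' : S₁ ≤ (S : Subgroup G) := inf_le_left
  -- the key claim: single steps
  have key : ∀ W ∈ 𝓦, ∀ y ∈ Subgroup.normalizer ((W S₁ : Subgroup G) : Set G), ∀ B' : Set G,
      B' ⊆ S₁ → lcj y B' ⊆ S₁ → FCtl 𝓦 ⊤ (S : Subgroup G) B' y := by
    intro W hWmem y hyN B' hB' hyB'
    by_cases hS₁S : S₁ = (S : Subgroup G)
    · rw [hS₁S] at hyN hB' hyB'
      exact FCtl.single W hWmem (Subgroup.mem_inf.mpr ⟨Subgroup.mem_top _, hyN⟩) hB' hyB'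
    · have hWfun := h𝓦 W hWmem _ hS₁p
      have hS₁ne : S₁ ≠ ⊥ := by
        intro h
        apply hne
        rw [eq_bot_iff, ← h]
        exact le_inf htame.1 Subgroup.le_normalizer
      have hUS₁ : W S₁ ≤ S₁ := hWfun.1
      have hUne : W S₁ ≠ ⊥ := hWfun.2.1 hS₁ne
      have hUS : W S₁ ≤ (S : Subgroup G) := hUS₁.trans inf_le_left
      have hS₁NU : S₁ ≤ (S : Subgroup G) ⊓ Subgroup.normalizer ((W S₁ : Subgroup G) : Set G) := by
        apply le_inf inf_le_left
        intro g hg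
        apply mem_normalizer_of_cj_eq
        have h2 : W (cj g S₁) = cj g (W S₁) := hWfun.2.2 g
        rw [cj_self_of_mem hg] at h2
        exact h2.symm
      have hlt : Nat.card S₁ <
          Nat.card ↥((S : Subgroup G) ⊓ Subgroup.normalizer ((W S₁ : Subgroup G) : Set G)) := by
        have h1 := card_lt_card_inf_normalizer S.2 (inf_le_left : S₁ ≤ (S : Subgroup G)) hS₁S
        refine lt_of_lt_of_le h1 (Subgroup.card_le_of_le ?_)
        apply le_inf inf_le_left
        intro g hg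
        have hgN := (Subgroup.mem_inf.mp hg).2
        apply mem_normalizer_of_cj_eq
        have h2 : W (cj g S₁) = cj g (W S₁) := hWfun.2.2 g
        rw [cj_eq_of_mem_normalizer hgN] at h2
        exact h2.symm
      have hcardS : ∀ K : Subgroup G, K ≤ (S : Subgroup G) →
          Nat.card K ≤ Nat.card (S : Subgroup G) := fun K hK => Subgroup.card_le_of_le hK
      obtain ⟨b, V, hV, hbV, hbN⟩ := exists_tame_conj S hUS
      set NU := (S : Subgroup G) ⊓ Subgroup.normalizer ((W S₁ : Subgroup G) : Set G) with hNU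
      have hreach : Reach (tameFamily S) (NU : Set G) b⁻¹ := by
        apply reach_tame S NU inf_le_left
        rw [inv_inv]
        exact hbN.trans inf_le_left
      obtain ⟨l, hl, hprod⟩ := hreach
      have hVne : V ≠ ⊥ := by
        intro h
        apply hUne
        have h1 : Nat.card (W S₁) = 1 := by
          rw [← card_cj b, hbV, h, Subgroup.card_bot]
        exact Subgroup.card_eq_one.mp h1
      have hNVcard : Nat.card NU ≤
          Nat.card ↥((S : Subgroup G) ⊓ Subgroup.normalizer ((V : Subgroup G) : Set G)) := by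
        rw [← card_cj b NU]
        exact Subgroup.card_le_of_le hbN
      -- conjugation by `b` on `NU`
      have hb : FCtl 𝓦 ⊤ (S : Subgroup G) (NU : Set G) b := by
        have h1 := fctl_of_chain 𝓦 (S : Subgroup G) (tameFamily S) l
          (fun q hq hqne => by
            have hq𝓕 : q.1 ∈ tameFamily S := (hl.mem _ q hq).1
            refine ⟨hq𝓕.1, ?_⟩
            have h1 : Nat.card NU ≤ Nat.card q.1 := hl.card_le _ q hq
            have h2 : Nat.card q.1 ≤
                Nat.card ↥((S : Subgroup G) ⊓ Subgroup.normalizer ((q.1 : Subgroup G) : Set G)) :=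
              Subgroup.card_le_of_le (le_inf hq𝓕.1 Subgroup.le_normalizer)
            have h3 := hcardS _ (inf_le_left : (S : Subgroup G) ⊓
              Subgroup.normalizer ((q.1 : Subgroup G) : Set G) ≤ (S : Subgroup G))
            exact IH _ (by omega) q.1 hq𝓕 hqne rfl) _
          (show (NU : Set G) ⊆ (S : Subgroup G) from (inf_le_left : NU ≤ (S : Subgroup G))) hl
        rw [hprod, inv_inv] at h1
        exact h1
      have hB'NU : B' ⊆ (NU : Set G) := hB'.trans hS₁NU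
      have hyB'NU : lcj y B' ⊆ (NU : Set G) := hyB'.trans hS₁NU
      -- the tame part
      have h3 := hcardS _ (inf_le_left : (S : Subgroup G) ⊓
        Subgroup.normalizer ((V : Subgroup G) : Set G) ≤ (S : Subgroup G))
      have hbNs : lcj b (NU : Set G) ⊆
          ((S : Subgroup G) ⊓ Subgroup.normalizer ((V : Subgroup G) : Set G) : Subgroup G) := by
        rw [lcj_coe]
        exact hbN
      have hbyN : b * y * b⁻¹ ∈ Subgroup.normalizer ((V : Subgroup G) : Set G) := by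
        rw [← hbV, ← cj_normalizer]
        exact ⟨y, hyN, by simp [MulAut.conj_apply]⟩
      have htameV : FCtl 𝓦 ⊤ (S : Subgroup G) (lcj b B') (b * y * b⁻¹) := by
        apply IH _ (by omega) V hV hVne rfl _ _ hbyN ((lcj_mono b hB'NU).trans hbNs)
        rw [← lcj_mul]
        have e : b * y * b⁻¹ * b = b * y := by group
        rw [e, lcj_mul]
        exact (lcj_mono b hyB'NU).trans hbNs
      have h4 : FCtl 𝓦 ⊤ (S : Subgroup G) B' (b * y * b⁻¹ * b) := (hb.mono hB'NU).trans htameV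
      have h5 : FCtl 𝓦 ⊤ (S : Subgroup G) (lcj (b * y * b⁻¹ * b) B') b⁻¹ := by
        have e : b * y * b⁻¹ * b = b * y := by group
        rw [e, lcj_mul]
        exact (hb.mono hyB'NU).symm
      have h6 := h4.trans h5
      have e : b⁻¹ * (b * y * b⁻¹ * b) = y := by group
      rw [e] at h6
      exact h6
  obtain ⟨c, hc, hag⟩ := hsyl
  have main : FCtl 𝓦 ⊤ (S : Subgroup G) B c := by
    clear hag
    induction hc with
    | refl hA => exact FCtl.one (hA.trans hS₁S')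
    | step c y W hW hy hc himg ih =>
      have h1 := key W hW y (Subgroup.mem_inf.mp hy).2 (lcj c B) hc.image_subset
        (by rw [← lcj_mul]; exact himg)
      exact ih.trans h1
  exact main.congr (fun a ha => (hag a ha).symm)

include h𝓦 in
theorem familyControlsStrongFusionIn_top_of_tame (S : Sylow p G)
    (hloc : ∀ T : Subgroup G, T ≤ (S : Subgroup G) → T ≠ ⊥ →
      ¬ p ∣ ((S : Subgroup G) ⊓ Subgroup.normalizer ((T : Subgroup G) : Set G)).relIndex
        (Subgroup.normalizer ((T : Subgroup G) : Set G)) →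
      Cfsg.FamilyControlsStrongFusionIn p 𝓦 (Subgroup.normalizer ((T : Subgroup G) : Set G))) :
    Cfsg.FamilyControlsStrongFusionIn p 𝓦 ⊤ := by
  refine ⟨(S : Subgroup G), le_top, S.2, ?_, ?_⟩
  · rw [Subgroup.relIndex_top_right]
    exact S.not_dvd_index
  · intro A h _ hAS hAh
    rw [← fctl_iff_fin]
    have h1 : Subgroup.closure A ≤ (S : Subgroup G) := (Subgroup.closure_le _).mpr hAS
    have h2 : cj h⁻¹⁻¹ (Subgroup.closure A) ≤ (S : Subgroup G) := by
      rw [inv_inv, cj_def, MonoidHom.map_closure, Subgroup.closure_le]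
      rintro _ ⟨a, ha, rfl⟩
      apply hAh
      exact ⟨a, ha, by simp [MulAut.conj_apply]⟩
    obtain ⟨l, hl, hprod⟩ := reach_tame S _ h1 h⁻¹ h2
    have h3 := fctl_of_chain 𝓦 (S : Subgroup G) (tameFamily S) l
      (fun q hq hqne => by
        have hq𝓕 : q.1 ∈ tameFamily S := (hl.mem _ q hq).1
        exact ⟨hq𝓕.1, fctl_of_tame 𝓦 h𝓦 S hloc _ q.1 hq𝓕 hqne rfl⟩) _
      (show ((Subgroup.closure A : Subgroup G) : Set G) ⊆ (S : Subgroup G) from h1) hl
    rw [hprod, inv_inv] at h3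
    exact h3.mono Subgroup.subset_closure

end famfusion

end Cfsg.Agent.Lib.Helper12
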