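import Mathlib
import Cfsg.Prelude.Def_ConjugacyFunctors
import Cfsg.Agent.Lib.Helper12.FamilyFusion

/-!
Helper lemmas (helper12): chains of conjugations through a family `𝓛` of local-subgroup assignments
`T ↦ L T` (for instance `T ↦ N_G(W T)` or `T ↦ C_G(V T)`), generalizing `FReach` / `FCtl`.
-/

set_option autoImplicit false
set_option linter.unusedSectionVars false
open Subgroup
namespace Cfsg.Agent.Lib.Helper12

section lreach
variable {G : Type*} [Group G] (𝓛 : Set (Subgroup G → Subgroup G)) (H T : Subgroup G)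

/-- `LReach 𝓛 H T A c`: `c` is a product of elements of the subgroups `N_H(W T)`, `W ∈ 𝓛`, such that all
partial products conjugate `A` into `T` -/
inductive LReach (A : Set G) : G → Prop
  | refl (hA : A ⊆ T) : LReach A 1
  | step (c y : G) (W : Subgroup G → Subgroup G) (hW : W ∈ 𝓛)
      (hy : y ∈ H ⊓ W T)
      (hc : LReach A c) (himg : lcj (y * c) A ⊆ T) : LReach A (y * c)

variable {𝓛 H T}

theorem LReach.subset {A : Set G} {c : G} (h : LReach 𝓛 H T A c) : A ⊆ T := by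
  induction h with
  | refl hA => exact hA
  | step c y W hW hy hc himg ih => exact ih

theorem LReach.image_subset {A : Set G} {c : G} (h : LReach 𝓛 H T A c) : lcj c A ⊆ T := by
  cases h with
  | refl hA => rw [lcj_one]; exact hA
  | step c y W hW hy hc himg => exact himg

theorem LReach.mono {A B : Set G} {c : G} (h : LReach 𝓛 H T A c) (hBA : B ⊆ A) :
    LReach 𝓛 H T B c := by
  induction h with
  | refl hA => exact LReach.refl (hBA.trans hA)
  | step c y W hW hy hc himg ih => exact LReach.step c y W hW hy ih ((lcj_mono _ hBA).trans himg)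

theorem LReach.mono_left {H' : Subgroup G} {A : Set G} {c : G} (h : LReach 𝓛 H T A c)
    (hH : H ≤ H') : LReach 𝓛 H' T A c := by
  induction h with
  | refl hA => exact LReach.refl hA
  | step c y W hW hy hc himg ih =>
    exact LReach.step c y W hW (inf_le_inf_right _ hH hy) ih himg

theorem LReach.trans {A : Set G} {c d : G} (h₁ : LReach 𝓛 H T A c)
    (h₂ : LReach 𝓛 H T (lcj c A) d) : LReach 𝓛 H T A (d * c) := by
  induction h₂ with
  | refl hA => rw [one_mul]; exact h₁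
  | step d y W hW hy hd himg ih =>
    rw [mul_assoc]
    refine LReach.step (d * c) y W hW hy ih ?_
    rw [← mul_assoc, lcj_mul]
    exact himg

theorem LReach.single {A : Set G} {y : G} (W : Subgroup G → Subgroup G) (hW : W ∈ 𝓛)
    (hy : y ∈ H ⊓ W T) (hA : A ⊆ T)
    (himg : lcj y A ⊆ T) : LReach 𝓛 H T A y := by
  have := LReach.step (𝓛 := 𝓛) (H := H) (T := T) (A := A) 1 y W hW hy (LReach.refl hA)
    (by rw [mul_one]; exact himg)
  rwa [mul_one] at this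

theorem LReach.symm {A : Set G} {c : G} (h : LReach 𝓛 H T A c) :
    LReach 𝓛 H T (lcj c A) c⁻¹ := by
  induction h with
  | refl hA =>
    rw [inv_one, lcj_one]
    exact LReach.refl hA
  | step c y W hW hy hc himg ih =>
    rw [mul_inv_rev]
    apply LReach.trans
    · apply LReach.single W hW (inv_mem hy) himg
      rw [lcj_mul, lcj_inv_lcj]
      exact hc.image_subset
    · rw [lcj_mul, lcj_inv_lcj]
      exact ih

/-- conjugation by `h` on `A` is induced by an element reached through the `N_H(W T)` -/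
def LCtl (𝓛 : Set (Subgroup G → Subgroup G)) (H T : Subgroup G) (A : Set G) (h : G) : Prop :=
  ∃ c, LReach 𝓛 H T A c ∧ ∀ a ∈ A, c * a * c⁻¹ = h * a * h⁻¹

theorem LCtl.subset {A : Set G} {h : G} (hc : LCtl 𝓛 H T A h) : A ⊆ T := by
  obtain ⟨c, hc, -⟩ := hc
  exact hc.subset

theorem LCtl.image_subset {A : Set G} {h : G} (hc : LCtl 𝓛 H T A h) : lcj h A ⊆ T := by
  obtain ⟨c, hc, hag⟩ := hc
  rw [← lcj_congr hag]
  exact hc.image_subset

theorem LCtl.one {A : Set G} (hA : A ⊆ T) : LCtl 𝓛 H T A 1 := ⟨1, LReach.refl hA, fun _ _ => rfl⟩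

theorem LCtl.mono {A B : Set G} {h : G} (hc : LCtl 𝓛 H T A h) (hBA : B ⊆ A) : LCtl 𝓛 H T B h := by
  obtain ⟨c, hc, hag⟩ := hc
  exact ⟨c, hc.mono hBA, fun a ha => hag a (hBA ha)⟩

theorem LCtl.mono_left {H' : Subgroup G} {A : Set G} {h : G} (hc : LCtl 𝓛 H T A h) (hH : H ≤ H') :
    LCtl 𝓛 H' T A h := by
  obtain ⟨c, hc, hag⟩ := hc
  exact ⟨c, hc.mono_left hH, hag⟩

theorem LCtl.congr {A : Set G} {h h' : G} (hc : LCtl 𝓛 H T A h)
    (hh : ∀ a ∈ A, h' * a * h'⁻¹ = h * a * h⁻¹) : LCtl 𝓛 H T A h' := by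
  obtain ⟨c, hc, hag⟩ := hc
  exact ⟨c, hc, fun a ha => (hag a ha).trans (hh a ha).symm⟩

theorem LCtl.trans {A : Set G} {h k : G} (h₁ : LCtl 𝓛 H T A h) (h₂ : LCtl 𝓛 H T (lcj h A) k) :
    LCtl 𝓛 H T A (k * h) := by
  obtain ⟨c, hc, hcag⟩ := h₁
  obtain ⟨d, hd, hdag⟩ := h₂
  rw [← lcj_congr hcag] at hd
  refine ⟨d * c, hc.trans hd, fun a ha => ?_⟩
  have h1 := hdag (h * a * h⁻¹) (mem_lcj_of_mem ha)
  calc d * c * a * (d * c)⁻¹ = d * (c * a * c⁻¹) * d⁻¹ := by group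
    _ = d * (h * a * h⁻¹) * d⁻¹ := by rw [hcag a ha]
    _ = k * (h * a * h⁻¹) * k⁻¹ := h1
    _ = k * h * a * (k * h)⁻¹ := by group

theorem LCtl.symm {A : Set G} {h : G} (h₁ : LCtl 𝓛 H T A h) : LCtl 𝓛 H T (lcj h A) h⁻¹ := by
  obtain ⟨c, hc, hcag⟩ := h₁
  refine ⟨c⁻¹, ?_, ?_⟩
  · rw [← lcj_congr hcag]
    exact hc.symm
  · rintro _ ⟨a, ha, rfl⟩
    calc c⁻¹ * (h * a * h⁻¹) * c⁻¹⁻¹ = c⁻¹ * (c * a * c⁻¹) * c⁻¹⁻¹ := by rw [hcag a ha]
      _ = a := by group
      _ = h⁻¹ * (h * a * h⁻¹) * h⁻¹⁻¹ := by group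

theorem LCtl.single {A : Set G} {y : G} (W : Subgroup G → Subgroup G) (hW : W ∈ 𝓛)
    (hy : y ∈ H ⊓ W T) (hA : A ⊆ T)
    (himg : lcj y A ⊆ T) : LCtl 𝓛 H T A y :=
  ⟨y, LReach.single W hW hy hA himg, fun _ _ => rfl⟩

/-- the chain form used in `Cfsg.FamilyControlsStrongFusionIn` -/
theorem LReach.exists_fin {A : Set G} {c : G} (h : LReach 𝓛 H T A c) :
    ∃ (n : ℕ) (f : Fin (n + 1) → G), f 0 = 1 ∧
      (∀ i : Fin n, ∃ W ∈ 𝓛,
        f i.succ * (f i.castSucc)⁻¹ ∈ H ⊓ W T) ∧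
      (∀ i : Fin (n + 1), (fun a => f i * a * (f i)⁻¹) '' A ⊆ T) ∧ f (Fin.last n) = c := by
  induction h with
  | refl hA =>
    refine ⟨0, fun _ => 1, rfl, fun i => i.elim0, fun i => ?_, rfl⟩
    rintro _ ⟨a, ha, rfl⟩
    simpa using hA ha
  | step c y W hW hy hc himg ih =>
    obtain ⟨n, f, hf0, hfstep, hfimg, hflast⟩ := ih
    refine ⟨n + 1, Fin.snoc f (y * c), ?_, ?_, ?_, ?_⟩
    · rw [← Fin.castSucc_zero, Fin.snoc_castSucc]
      exact hf0
    · intro i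
      refine Fin.lastCases ?_ (fun j => ?_) i
      · refine ⟨W, hW, ?_⟩
        rw [Fin.succ_last, Fin.snoc_last, Fin.snoc_castSucc, hflast, mul_inv_cancel_right]
        exact hy
      · rw [Fin.succ_castSucc, Fin.snoc_castSucc, Fin.snoc_castSucc]
        exact hfstep j
    · intro i
      refine Fin.lastCases ?_ (fun j => ?_) i
      · rw [Fin.snoc_last]
        exact himg
      · rw [Fin.snoc_castSucc]
        exact hfimg j
    · rw [Fin.snoc_last]

theorem LReach.of_fin {A : Set G} {n : ℕ} (f : Fin (n + 1) → G) (hf0 : f 0 = 1)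
    (hfstep : ∀ i : Fin n, ∃ W ∈ 𝓛,
      f i.succ * (f i.castSucc)⁻¹ ∈ H ⊓ W T)
    (hfimg : ∀ i : Fin (n + 1), (fun a => f i * a * (f i)⁻¹) '' A ⊆ T) :
    ∀ i : Fin (n + 1), LReach 𝓛 H T A (f i) := by
  intro i
  induction i using Fin.induction with
  | zero =>
    rw [hf0]
    apply LReach.refl
    have := hfimg 0
    rw [hf0] at this
    intro a ha
    have h1 := this ⟨a, ha, rfl⟩
    simpa using h1
  | succ i ih =>
    obtain ⟨W, hW, hy⟩ := hfstep i
    have e : f i.succ = (f i.succ * (f i.castSucc)⁻¹) * f i.castSucc := by group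
    rw [e]
    refine LReach.step _ _ W hW hy ih ?_
    rw [← e]
    exact hfimg i.succ

/-- `LCtl` in the form of the definition -/
theorem lctl_iff_fin {A : Set G} {h : G} : LCtl 𝓛 H T A h ↔
    ∃ (n : ℕ) (c : Fin (n + 1) → G), c 0 = 1 ∧
      (∀ i : Fin n, ∃ W ∈ 𝓛,
        c i.succ * (c i.castSucc)⁻¹ ∈ H ⊓ W T) ∧
      (∀ i : Fin (n + 1), (fun a => c i * a * (c i)⁻¹) '' A ⊆ T) ∧
      ∀ a ∈ A, c (Fin.last n) * a * (c (Fin.last n))⁻¹ = h * a * h⁻¹ := by
  constructor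
  · rintro ⟨c, hc, hag⟩
    obtain ⟨n, f, hf0, hfstep, hfimg, hflast⟩ := hc.exists_fin
    exact ⟨n, f, hf0, hfstep, hfimg, by rw [hflast]; exact hag⟩
  · rintro ⟨n, f, hf0, hfstep, hfimg, hag⟩
    exact ⟨f (Fin.last n), LReach.of_fin f hf0 hfstep hfimg _, hag⟩

/-- transport along conjugation by an arbitrary element -/
theorem LReach.conj {A : Set G} {c : G} (h : LReach 𝓛 H T A c) (k : G)
    (hWk : ∀ W ∈ 𝓛, W (cj k T) = cj k (W T)) :
    LReach 𝓛 (cj k H) (cj k T) (lcj k A) (k * c * k⁻¹) := by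
  induction h with
  | refl hA =>
    rw [mul_one, mul_inv_cancel]
    apply LReach.refl
    rw [← lcj_coe]
    exact lcj_mono k hA
  | step c y W hW hy hc himg ih =>
    have e : k * (y * c) * k⁻¹ = (k * y * k⁻¹) * (k * c * k⁻¹) := by group
    rw [e]
    refine LReach.step _ _ W hW ?_ ih ?_
    · obtain ⟨hyH, hyN⟩ := Subgroup.mem_inf.mp hy
      refine Subgroup.mem_inf.mpr ⟨⟨y, hyH, by simp [MulAut.conj_apply]⟩, ?_⟩
      rw [hWk W hW]
      exact ⟨y, hyN, by simp [MulAut.conj_apply]⟩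
    · rw [← lcj_mul, ← lcj_coe]
      have e2 : (k * y * k⁻¹) * (k * c * k⁻¹) * k = k * (y * c) := by group
      rw [e2, lcj_mul]
      exact lcj_mono k himg

theorem LCtl.conj {A : Set G} {h : G} (hc : LCtl 𝓛 H T A h) (k : G)
    (hWk : ∀ W ∈ 𝓛, W (cj k T) = cj k (W T)) :
    LCtl 𝓛 (cj k H) (cj k T) (lcj k A) (k * h * k⁻¹) := by
  obtain ⟨c, hc, hag⟩ := hc
  refine ⟨k * c * k⁻¹, hc.conj k hWk, ?_⟩
  rintro _ ⟨a, ha, rfl⟩
  calc k * c * k⁻¹ * (k * a * k⁻¹) * (k * c * k⁻¹)⁻¹ = k * (c * a * c⁻¹) * k⁻¹ := by group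
    _ = k * (h * a * h⁻¹) * k⁻¹ := by rw [hag a ha]
    _ = k * h * k⁻¹ * (k * a * k⁻¹) * (k * h * k⁻¹)⁻¹ := by group

end lreach

end Cfsg.Agent.Lib.Helper12
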