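import Mathlib
import Cfsg.Prelude.Def_ConjugacyFunctors
import Cfsg.Agent.Lib.Helper12.LocalFusion
import Cfsg.Agent.Lib.Helper12.PComplement

/-!
Helper lemmas (helper12): local-to-global control of strong fusion for a pair of conjugacy functors `(W, V)` with
`Z(H) ≤ W H`, `V H ≤ Z(H)` and `V` monotone with respect to centres, the local subgroups being `N_G(W Q)` and
`C_G(V Q)`; the local hypothesis is only required in the normalizers `N_G(H)` with `Z(P) ≤ H ≤ P`.
-/

set_option autoImplicit false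
set_option linter.unusedSectionVars false
set_option linter.style.haveILetI false
open Subgroup
namespace Cfsg.Agent.Lib.Helper12

section relsylow
variable {G : Type*} [Group G] [Finite G] {p : ℕ} [Fact p.Prime]

/-- If `T₁` is a Sylow `p`-subgroup of `H` (in the `relIndex` encoding) and `H` normalizes `K ≤ H`, then `T₁ ∩ K`
is a Sylow `p`-subgroup of `K`. -/
theorem inf_relIndex_of_relIndex (T₁ H K : Subgroup G) (hT₁ : IsPGroup p T₁)
    (hidx : ¬ p ∣ T₁.relIndex H) (hKH : K ≤ H) (hnorm : ∀ h ∈ H, ∀ k ∈ K, h * k * h⁻¹ ∈ K) :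
    ¬ p ∣ (T₁ ⊓ K).relIndex K := by
  have hZp : IsPGroup p ((T₁ ⊓ K).subgroupOf K) := (hT₁.to_le inf_le_left).comap_subtype
  obtain ⟨Q', hQ'⟩ := hZp.exists_le_sylow
  let Q : Subgroup G := (Q' : Subgroup K).map K.subtype
  have hQK : Q ≤ K := by
    rintro _ ⟨y, _, rfl⟩; exact y.2
  have hQp : IsPGroup p Q := Q'.2.map _
  obtain ⟨h, hhH, hh⟩ := exists_conj_mem_of_relIndex T₁ H Q hT₁ hidx (le_trans hQK hKH) hQp
  have hmaps : ∀ q ∈ Q, h * q * h⁻¹ ∈ T₁ ⊓ K :=
    fun q hq => ⟨hh q hq, hnorm h hhH q (hQK hq)⟩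
  have hZQ : T₁ ⊓ K ≤ Q := by
    intro x hx
    have : (⟨x, hx.2⟩ : K) ∈ (Q' : Subgroup K) := hQ' (by
      rw [mem_subgroupOf]; exact hx)
    exact ⟨⟨x, hx.2⟩, this, rfl⟩
  have hcard : Nat.card Q ≤ Nat.card ↥(T₁ ⊓ K) := by
    apply Nat.card_le_card_of_injective (fun q : Q => (⟨h * q * h⁻¹, hmaps q q.2⟩ : ↥(T₁ ⊓ K)))
    intro a b hab
    have := congrArg Subtype.val hab
    simp only [mul_left_inj, mul_right_inj] at this
    exact Subtype.ext this
  have heq : T₁ ⊓ K = Q := by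
    apply Subgroup.eq_of_le_of_card_ge hZQ hcard
  rw [heq]
  have : Q.relIndex K = (Q' : Subgroup K).index := by
    rw [Subgroup.relIndex]
    congr 1
    ext x
    rw [mem_subgroupOf]
    constructor
    · rintro ⟨y, hy, hyx⟩
      have : y = x := Subtype.ext hyx
      rw [← this]; exact hy
    · intro hx; exact ⟨x, hx, rfl⟩
  rw [this]
  exact Q'.not_dvd_index

/-- Frattini argument in `N_G(T)` for the normal subgroup `C_G(T)`, `T` tame in `S` -/
theorem exists_mul_of_tame (S : Sylow p G) {T : Subgroup G} (hT : T ∈ tameFamily S) {x : G}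
    (hx : x ∈ Subgroup.normalizer (T : Set G)) :
    ∃ c ∈ Subgroup.centralizer (T : Set G), ∃ y ∈ Subgroup.normalizer (T : Set G) ⊓
      Subgroup.normalizer ((T ⊔ ((S : Subgroup G) ⊓ Subgroup.centralizer (T : Set G)) : Subgroup G) : Set G),
      x = c * y := by
  set L := Subgroup.normalizer (T : Set G) with hL
  set C := Subgroup.centralizer (T : Set G) with hC
  have hCL : C ≤ L := Subgroup.centralizer_le_normalizer _
  have hnorm : ∀ h ∈ L, ∀ k ∈ C, h * k * h⁻¹ ∈ C := by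
    intro h hh k hk
    rw [hC, Subgroup.mem_centralizer_iff]
    intro t ht
    have ht' : h⁻¹ * t * h ∈ T := by
      have := (Subgroup.mem_normalizer_iff.mp (L.inv_mem hh) t).mp ht
      simpa using this
    have h1 : (h⁻¹ * t * h) * k = k * (h⁻¹ * t * h) := (Subgroup.mem_centralizer_iff.mp hk) _ ht'
    calc t * (h * k * h⁻¹) = h * ((h⁻¹ * t * h) * k) * h⁻¹ := by group
      _ = h * (k * (h⁻¹ * t * h)) * h⁻¹ := by rw [h1]
      _ = h * k * h⁻¹ * t := by group
  have hS₁p : IsPGroup p ↥((S : Subgroup G) ⊓ L) := S.2.to_le inf_le_left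
  have hRidx := inf_relIndex_of_relIndex ((S : Subgroup G) ⊓ L) L C hS₁p hT.2 hCL hnorm
  have hReq : (S : Subgroup G) ⊓ L ⊓ C = (S : Subgroup G) ⊓ C := by
    rw [inf_assoc, inf_eq_right.mpr hCL]
  rw [hReq] at hRidx
  set R := (S : Subgroup G) ⊓ C with hR
  have hRp : IsPGroup p R := S.2.to_le inf_le_left
  have hxR : cj x R ≤ C := by
    rintro _ ⟨r, hr, rfl⟩
    exact hnorm x hx r hr.2
  obtain ⟨c, hcC, hc⟩ := exists_conj_mem_of_relIndex R C (cj x R) hRp hRidx hxR (hRp.map _)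
  have hcxR : c * x ∈ Subgroup.normalizer (R : Set G) := by
    apply mem_normalizer_of_cj_eq
    apply cj_eq_of_le
    rw [← cj_mul]
    rintro _ ⟨v, hv, rfl⟩
    simpa [MulAut.conj_apply] using hc v hv
  have hcxL : c * x ∈ L := L.mul_mem (hCL hcC) hx
  refine ⟨c⁻¹, C.inv_mem hcC, c * x, Subgroup.mem_inf.mpr ⟨hcxL, ?_⟩, by group⟩
  apply mem_normalizer_of_cj_eq
  rw [cj_def, Subgroup.map_sup, ← cj_def, ← cj_def, cj_eq_of_mem_normalizer hcxL,
    cj_eq_of_mem_normalizer hcxR]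

end relsylow

section lchain
variable {G : Type*} [Group G] {𝓛 : Set (Subgroup G → Subgroup G)}

/-- along a chain, conjugation is reached, provided each member satisfies the local claim -/
theorem lctl_of_chain (S : Subgroup G) (𝓕 : Set (Subgroup G)) (l : List (Subgroup G × G))
    (hmem : ∀ q ∈ l, ∀ x ∈ Subgroup.normalizer ((q.1 : Subgroup G) : Set G),
      LCtl 𝓛 ⊤ S (q.1 : Set G) x) :
    ∀ A : Set G, A ⊆ S → Chain 𝓕 A l → LCtl 𝓛 ⊤ S A (prodOf l)⁻¹ := by
  induction l with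
  | nil =>
    intro A hAS _
    rw [prodOf_nil, inv_one]
    exact LCtl.one hAS
  | cons q l ih =>
    obtain ⟨T, x⟩ := q
    rintro A hAS ⟨hT, hx, hA, hl⟩
    have h1 : LCtl 𝓛 ⊤ S (T : Set G) x⁻¹ := hmem (T, x) List.mem_cons_self x⁻¹ (inv_mem hx)
    have h1' : LCtl 𝓛 ⊤ S A x⁻¹ := h1.mono hA
    rw [cjs_eq_lcj] at hl
    have h2 := ih (fun q hq => hmem q (List.mem_cons_of_mem _ hq)) _ h1'.image_subset hl
    rw [prodOf_cons, mul_inv_rev]
    exact h1'.trans h2

end lchain

section pair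
variable {G : Type*} [Group G] [Finite G] {p : ℕ} [Fact p.Prime]

omit [Finite G] [Fact p.Prime] in
theorem cj_centralizer (x : G) (H : Subgroup G) :
    cj x (Subgroup.centralizer (H : Set G)) = Subgroup.centralizer ((cj x H : Subgroup G) : Set G) := by
  ext y
  rw [cj_def, mem_map_conj_iff, Subgroup.mem_centralizer_iff, Subgroup.mem_centralizer_iff]
  constructor
  · rintro h _ ⟨t, ht, rfl⟩
    have h1 := h t ht
    show x * t * x⁻¹ * y = y * (x * t * x⁻¹)
    calc x * t * x⁻¹ * y = x * (t * (x⁻¹ * y * x)) * x⁻¹ := by group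
      _ = x * ((x⁻¹ * y * x) * t) * x⁻¹ := by rw [h1]
      _ = y * (x * t * x⁻¹) := by group
  · intro h t ht
    have h1 := h (x * t * x⁻¹) ⟨t, ht, rfl⟩
    calc t * (x⁻¹ * y * x) = x⁻¹ * ((x * t * x⁻¹) * y) * x := by group
      _ = x⁻¹ * (y * (x * t * x⁻¹)) * x := by rw [h1]
      _ = x⁻¹ * y * x * t := by group

omit [Finite G] [Fact p.Prime] in
/-- a conjugacy functor value at a `p`-subgroup is normalized by the subgroup's normalizer -/
theorem normalizer_le_normalizer_functor {W' : Subgroup G → Subgroup G}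
    (hW' : Cfsg.IsConjugacyFunctor p W') {T : Subgroup G} (hT : IsPGroup p T) :
    Subgroup.normalizer (T : Set G) ≤ Subgroup.normalizer ((W' T : Subgroup G) : Set G) := by
  intro g hg
  apply mem_normalizer_of_cj_eq
  have h1 := (hW' T hT).2.2 g
  have h2 : T.map (MulAut.conj g).toMonoidHom = T := cj_eq_of_mem_normalizer hg
  rw [h2] at h1
  exact h1.symm

/-- local-subgroup assignments equivariant under conjugation at `p`-subgroups -/
def LEquivariant (p : ℕ) (𝓛 : Set (Subgroup G → Subgroup G)) : Prop :=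
  ∀ L ∈ 𝓛, ∀ T : Subgroup G, IsPGroup p T → ∀ k : G, L (cj k T) = cj k (L T)

/-- the pair of local-subgroup assignments `Q ↦ N_G(W Q)` and `Q ↦ C_G(V Q)` -/
def pairLocal (W V : Subgroup G → Subgroup G) : Set (Subgroup G → Subgroup G) :=
  {fun T => Subgroup.normalizer ((W T : Subgroup G) : Set G),
   fun T => Subgroup.centralizer ((V T : Subgroup G) : Set G)}

omit [Finite G] [Fact p.Prime] in
theorem lEquivariant_pairLocal {W V : Subgroup G → Subgroup G} (hW : Cfsg.IsConjugacyFunctor p W)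
    (hV : Cfsg.IsConjugacyFunctor p V) : LEquivariant p (pairLocal W V) := by
  intro L hL T hT k
  rcases hL with rfl | hL
  · show Subgroup.normalizer ((W (cj k T) : Subgroup G) : Set G) =
      cj k (Subgroup.normalizer ((W T : Subgroup G) : Set G))
    rw [cj_normalizer, cj_def, cj_def, (hW T hT).2.2 k]
  · have hL' : L = fun T => Subgroup.centralizer ((V T : Subgroup G) : Set G) := hL
    subst hL'
    show Subgroup.centralizer ((V (cj k T) : Subgroup G) : Set G) =
      cj k (Subgroup.centralizer ((V T : Subgroup G) : Set G))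
    rw [cj_centralizer, cj_def, cj_def, (hV T hT).2.2 k]

/-- transport of local control along conjugation and change of the Sylow subgroup -/
theorem lctl_sylow_transport {𝓛 : Set (Subgroup G → Subgroup G)} (h𝓛 : LEquivariant p 𝓛)
    {U Q : Subgroup G} (hQN : Q ≤ Subgroup.normalizer (U : Set G)) (hQp : IsPGroup p Q)
    (hQidx : ¬ p ∣ Q.relIndex (Subgroup.normalizer (U : Set G)))
    (hctl : ∀ (X : Set G) (a : G), X ⊆ Q → a ∈ Subgroup.normalizer (U : Set G) → lcj a X ⊆ Q →
      LCtl 𝓛 (Subgroup.normalizer (U : Set G)) Q X a)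
    (g : G) {S₁ : Subgroup G} (hS₁N : S₁ ≤ Subgroup.normalizer ((cj g U : Subgroup G) : Set G))
    (hS₁p : IsPGroup p S₁)
    (hS₁idx : ¬ p ∣ S₁.relIndex (Subgroup.normalizer ((cj g U : Subgroup G) : Set G))) :
    ∀ (X : Set G) (a : G), X ⊆ S₁ → a ∈ Subgroup.normalizer ((cj g U : Subgroup G) : Set G) →
      lcj a X ⊆ S₁ → LCtl 𝓛 (Subgroup.normalizer ((cj g U : Subgroup G) : Set G)) S₁ X a := by
  set N := Subgroup.normalizer (U : Set G) with hN
  set N' := Subgroup.normalizer ((cj g U : Subgroup G) : Set G) with hN'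
  have hNN' : cj g N = N' := cj_normalizer g U
  have hQ'N' : cj g Q ≤ N' := hNN' ▸ cj_mono g hQN
  have hQ'p : IsPGroup p ↥(cj g Q) := hQp.map _
  have hQ'idx : ¬ p ∣ (cj g Q).relIndex N' := by
    rw [← hNN', cj_relIndex]; exact hQidx
  obtain ⟨k, hkN', hk⟩ := exists_conj_mem_of_relIndex (cj g Q) N' S₁ hQ'p hQ'idx hS₁N hS₁p
  have hkS₁ : cj k S₁ ≤ cj g Q := by
    rintro _ ⟨s, hs, rfl⟩
    simpa [MulAut.conj_apply] using hk s hs
  have hcjN' : cj k N' = N' := cj_self_of_mem hkN'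
  have hQ'eq : cj g Q = cj k S₁ := by
    apply le_antisymm _ hkS₁
    apply le_of_isPGroup_of_relIndex (p := p) hkS₁ hQ'N' hQ'p
    rw [← hcjN', cj_relIndex]
    exact hS₁idx
  -- `m = g⁻¹ k` carries `S₁` to `Q` and `N'` to `N`
  set m := g⁻¹ * k with hm
  have hmS₁ : cj m S₁ = Q := by
    rw [hm, ← cj_mul, ← hQ'eq, cj_inv_cj]
  have hmN' : cj m N' = N := by
    rw [hm, ← cj_mul, hcjN', ← hNN', cj_inv_cj]
  intro X a hX ha hXa
  have hX₀ : lcj m X ⊆ Q := by
    rw [← hmS₁, ← lcj_coe]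
    exact lcj_mono m hX
  have ha₀ : m * a * m⁻¹ ∈ N := by
    rw [← hmN']
    exact ⟨a, ha, by simp [MulAut.conj_apply]⟩
  have hXa₀ : lcj (m * a * m⁻¹) (lcj m X) ⊆ Q := by
    rw [← lcj_mul]
    have e : m * a * m⁻¹ * m = m * a := by group
    rw [e, lcj_mul, ← hmS₁, ← lcj_coe]
    exact lcj_mono m hXa
  have h1 := (hctl (lcj m X) (m * a * m⁻¹) hX₀ ha₀ hXa₀).conj m⁻¹
    (fun L hL => h𝓛 L hL Q hQp m⁻¹)
  have e1 : cj m⁻¹ N = N' := by rw [← hmN', cj_inv_cj]
  have e2 : cj m⁻¹ Q = S₁ := by rw [← hmS₁, cj_inv_cj]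
  have e3 : m⁻¹ * (m * a * m⁻¹) * m⁻¹⁻¹ = a := by group
  rw [e1, e2, lcj_inv_lcj, e3] at h1
  exact h1

end pair

section pairmain
variable {G : Type*} [Group G] [Finite G] {p : ℕ} [Fact p.Prime]
  (W V : Subgroup G → Subgroup G) (hW : Cfsg.IsConjugacyFunctor p W)
  (hV : Cfsg.IsConjugacyFunctor p V)
  (hWZ : ∀ H : Subgroup G, IsPGroup p ↥H → H ⊓ Subgroup.centralizer ((H : Subgroup G) : Set G) ≤ W H)
  (hVmono : ∀ H K : Subgroup G, IsPGroup p ↥H → IsPGroup p ↥K → H ≠ ⊥ → K ≠ ⊥ →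
    H ⊓ Subgroup.centralizer ((H : Subgroup G) : Set G) ≤
      K ⊓ Subgroup.centralizer ((K : Subgroup G) : Set G) → V H ≤ V K)
  (S : Sylow p G) (hSne : (S : Subgroup G) ≠ ⊥)
  (hloc : ∀ H : Subgroup G,
    (S : Subgroup G) ⊓ Subgroup.centralizer (((S : Subgroup G) : Subgroup G) : Set G) ≤ H →
    H ≤ (S : Subgroup G) → ∃ Q : Subgroup G, Q ≤ Subgroup.normalizer ((H : Subgroup G) : Set G) ∧
      IsPGroup p ↥Q ∧ ¬ p ∣ Q.relIndex (Subgroup.normalizer ((H : Subgroup G) : Set G)) ∧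
      ∀ (X : Set G) (a : G), X ⊆ Q → a ∈ Subgroup.normalizer ((H : Subgroup G) : Set G) →
        lcj a X ⊆ Q → LCtl (pairLocal W V) (Subgroup.normalizer ((H : Subgroup G) : Set G)) Q X a)

omit [Finite G] [Fact p.Prime] in
/-- the centre of `S` lies in the centre of every subgroup of `S` containing it -/
theorem center_le_center_of_le {S S₁ : Subgroup G} (hS₁S : S₁ ≤ S)
    (hZ : S ⊓ Subgroup.centralizer (S : Set G) ≤ S₁) :
    S ⊓ Subgroup.centralizer (S : Set G) ≤ S₁ ⊓ Subgroup.centralizer (S₁ : Set G) :=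
  le_inf hZ (inf_le_right.trans (Subgroup.centralizer_le hS₁S))

omit [Finite G] [Fact p.Prime] in
/-- the centre of `S` normalizes every subgroup of `S` -/
theorem center_le_normalizer_of_le {S U : Subgroup G} (hUS : U ≤ S) :
    S ⊓ Subgroup.centralizer (S : Set G) ≤ S ⊓ Subgroup.normalizer (U : Set G) :=
  le_inf inf_le_left (inf_le_right.trans ((Subgroup.centralizer_le hUS).trans
    (Subgroup.centralizer_le_normalizer _)))

include hSne in
theorem sylow_center_ne_bot :
    (S : Subgroup G) ⊓ Subgroup.centralizer (((S : Subgroup G) : Subgroup G) : Set G) ≠ ⊥ := by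
  haveI : Nontrivial ↥(S : Subgroup G) := (Subgroup.nontrivial_iff_ne_bot _).mpr hSne
  haveI := S.2.center_nontrivial
  obtain ⟨z, hz⟩ := exists_ne (1 : Subgroup.center ↥(S : Subgroup G))
  intro hbot
  apply hz
  have h1 : ((z : ↥(S : Subgroup G)) : G) ∈
      (S : Subgroup G) ⊓ Subgroup.centralizer (((S : Subgroup G) : Subgroup G) : Set G) := by
    refine Subgroup.mem_inf.mpr ⟨(z : ↥(S : Subgroup G)).2, ?_⟩
    rw [Subgroup.mem_centralizer_iff]
    intro s hs
    have := (Subgroup.mem_center_iff.mp z.2) ⟨s, hs⟩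
    exact congrArg Subtype.val this
  rw [hbot, Subgroup.mem_bot] at h1
  exact Subtype.ext (Subtype.ext h1)

include hW hV hWZ hVmono hSne hloc in
/-- the inductive claim: subgroups `U` containing `Z(S)` -/
theorem lctl_of_center_le :
    ∀ (d : ℕ) (U : Subgroup G),
      (S : Subgroup G) ⊓ Subgroup.centralizer (((S : Subgroup G) : Subgroup G) : Set G) ≤ U →
      U ≤ (S : Subgroup G) →
      Nat.card (S : Subgroup G) -
        Nat.card ↥((S : Subgroup G) ⊓ Subgroup.normalizer ((U : Subgroup G) : Set G)) = d →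
      ∀ (y : G), y ∈ Subgroup.normalizer ((U : Subgroup G) : Set G) → ∀ B : Set G,
        B ⊆ ((S : Subgroup G) ⊓ Subgroup.normalizer ((U : Subgroup G) : Set G) : Subgroup G) →
        lcj y B ⊆ ((S : Subgroup G) ⊓ Subgroup.normalizer ((U : Subgroup G) : Set G) : Subgroup G) →
        LCtl (pairLocal W V) ⊤ (S : Subgroup G) B y := by
  have h𝓛 := lEquivariant_pairLocal hW hV
  set Z := (S : Subgroup G) ⊓ Subgroup.centralizer (((S : Subgroup G) : Subgroup G) : Set G) with hZ
  have hZne : Z ≠ ⊥ := sylow_center_ne_bot S hSne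
  have hcardS : ∀ K : Subgroup G, K ≤ (S : Subgroup G) → Nat.card K ≤ Nat.card (S : Subgroup G) :=
    fun K hK => Subgroup.card_le_of_le hK
  -- single steps in `N_G(S)`
  have hNS : ∀ x ∈ Subgroup.normalizer (((S : Subgroup G) : Subgroup G) : Set G),
      LCtl (pairLocal W V) ⊤ (S : Subgroup G) ((S : Subgroup G) : Set G) x := by
    intro x hx
    refine LCtl.single (fun T => Subgroup.normalizer ((W T : Subgroup G) : Set G)) (Or.inl rfl)
      (Subgroup.mem_inf.mpr ⟨Subgroup.mem_top _, normalizer_le_normalizer_functor hW S.2 hx⟩) le_rfl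
      (lcj_subset_of_mem_normalizer hx le_rfl)
  intro d
  induction d using Nat.strong_induction_on with
  | _ d IH =>
  -- the claim for tame subgroups
  have claimT : ∀ T ∈ tameFamily S,
      Nat.card (S : Subgroup G) -
        Nat.card ↥((S : Subgroup G) ⊓ Subgroup.normalizer ((T : Subgroup G) : Set G)) < d →
      ∀ x ∈ Subgroup.normalizer ((T : Subgroup G) : Set G),
        LCtl (pairLocal W V) ⊤ (S : Subgroup G) (T : Set G) x := by
    intro T hT hdT x hx
    obtain ⟨c, hc, y, hy, rfl⟩ := exists_mul_of_tame S hT hx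
    set T₁ := T ⊔ ((S : Subgroup G) ⊓ Subgroup.centralizer (T : Set G)) with hT₁
    have hT₁S : T₁ ≤ (S : Subgroup G) := sup_le hT.1 inf_le_left
    have hZT₁ : Z ≤ T₁ :=
      le_trans (inf_le_inf_left _ (Subgroup.centralizer_le hT.1)) le_sup_right
    have hNN : (S : Subgroup G) ⊓ Subgroup.normalizer ((T : Subgroup G) : Set G) ≤
        (S : Subgroup G) ⊓ Subgroup.normalizer ((T₁ : Subgroup G) : Set G) := by
      apply le_inf inf_le_left
      intro s hs
      apply mem_normalizer_of_cj_eq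
      rw [hT₁, cj_def, Subgroup.map_sup, ← cj_def, ← cj_def, cj_inf, cj_centralizer,
        cj_eq_of_mem_normalizer hs.2, cj_self_of_mem hs.1]
    have hcard := Subgroup.card_le_of_le hNN
    have h3 := hcardS _ (inf_le_left : (S : Subgroup G) ⊓
      Subgroup.normalizer ((T₁ : Subgroup G) : Set G) ≤ (S : Subgroup G))
    have hTT₁ : (T : Set G) ⊆ ((S : Subgroup G) ⊓
        Subgroup.normalizer ((T₁ : Subgroup G) : Set G) : Subgroup G) :=
      (le_sup_left : T ≤ T₁).trans (le_inf hT₁S Subgroup.le_normalizer)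
    have hyT : lcj y (T : Set G) ⊆ (T : Set G) := lcj_subset_of_mem_normalizer hy.1 le_rfl
    have h1 := IH _ (by omega) T₁ hZT₁ hT₁S rfl y hy.2 (T : Set G) hTT₁ (hyT.trans hTT₁)
    apply h1.congr
    intro t ht
    have hyt : y * t * y⁻¹ ∈ T := hyT (mem_lcj_of_mem ht)
    have hcomm : (y * t * y⁻¹) * c = c * (y * t * y⁻¹) := (Subgroup.mem_centralizer_iff.mp hc) _ hyt
    calc c * y * t * (c * y)⁻¹ = c * (y * t * y⁻¹) * c⁻¹ := by group
      _ = (y * t * y⁻¹) * c * c⁻¹ := by rw [hcomm]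
      _ = y * t * y⁻¹ := by group
  intro U hZU hUS hd y hy B hB hyB
  obtain ⟨g, U', hU', hgU, hgN⟩ := exists_tame_conj S hUS
  set NU := (S : Subgroup G) ⊓ Subgroup.normalizer ((U : Subgroup G) : Set G) with hNU
  set S₁ := (S : Subgroup G) ⊓ Subgroup.normalizer ((U' : Subgroup G) : Set G) with hS₁
  have hS₁p : IsPGroup p S₁ := S.2.to_le inf_le_left
  have hNUS₁ : Nat.card NU ≤ Nat.card S₁ := by
    rw [← card_cj g NU]
    exact Subgroup.card_le_of_le hgN
  have hS₁S := hcardS S₁ inf_le_left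
  -- conjugation by `g` on `NU`
  have hb : LCtl (pairLocal W V) ⊤ (S : Subgroup G) (NU : Set G) g := by
    obtain ⟨l, hl, hprod⟩ := reach_tame S NU inf_le_left g⁻¹ (by rw [inv_inv]; exact hgN.trans inf_le_left)
    have h1 := lctl_of_chain (𝓛 := pairLocal W V) (S : Subgroup G) (tameFamily S) l
      (fun q hq x hx => by
        have hq𝓕 : q.1 ∈ tameFamily S := (hl.mem _ q hq).1
        by_cases hqS : q.1 = (S : Subgroup G)
        · rw [hqS] at hx ⊢
          exact hNS x hx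
        · have h1 : Nat.card NU ≤ Nat.card q.1 := hl.card_le _ q hq
          have h2 := card_lt_card_inf_normalizer S.2 hq𝓕.1 hqS
          have h3 := hcardS _ (inf_le_left : (S : Subgroup G) ⊓
            Subgroup.normalizer ((q.1 : Subgroup G) : Set G) ≤ (S : Subgroup G))
          exact claimT q.1 hq𝓕 (by omega) x hx) _
      (show (NU : Set G) ⊆ (S : Subgroup G) from (inf_le_left : NU ≤ (S : Subgroup G))) hl
    rw [hprod, inv_inv] at h1
    exact h1
  -- local control at `U'` with respect to `S₁`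
  obtain ⟨Q, hQN, hQp, hQidx, hctl⟩ := hloc U hZU hUS
  have hlocU' := lctl_sylow_transport h𝓛 hQN hQp hQidx hctl g (S₁ := S₁)
    (by rw [hgU]; exact inf_le_right) hS₁p (by rw [hgU]; exact hU'.2)
  rw [hgU] at hlocU'
  have hZS₁ : Z ≤ S₁ := center_le_normalizer_of_le hU'.1
  have hZZS₁ : Z ≤ S₁ ⊓ Subgroup.centralizer (S₁ : Set G) :=
    center_le_center_of_le inf_le_left hZS₁
  have hS₁ne : S₁ ≠ ⊥ := fun h => hZne (le_bot_iff.mp (h ▸ hZS₁))
  -- single steps
  have key : ∀ L ∈ pairLocal W V, ∀ y₁ ∈ Subgroup.normalizer ((U' : Subgroup G) : Set G) ⊓ L S₁,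
      ∀ B' : Set G, B' ⊆ S₁ → lcj y₁ B' ⊆ S₁ →
      LCtl (pairLocal W V) ⊤ (S : Subgroup G) B' y₁ := by
    intro L hL y₁ hy₁ B' hB' hyB'
    have hB'S : B' ⊆ (S : Subgroup G) := hB'.trans (inf_le_left : S₁ ≤ (S : Subgroup G))
    have hyB'S : lcj y₁ B' ⊆ (S : Subgroup G) := hyB'.trans (inf_le_left : S₁ ≤ (S : Subgroup G))
    rcases hL with rfl | hL
    · -- normalizer steps
      have hy₁N : y₁ ∈ Subgroup.normalizer ((W S₁ : Subgroup G) : Set G) := hy₁.2
      by_cases hS₁eq : S₁ = (S : Subgroup G)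
      · rw [hS₁eq] at hy₁N
        exact LCtl.single (fun T => Subgroup.normalizer ((W T : Subgroup G) : Set G)) (Or.inl rfl)
          (Subgroup.mem_inf.mpr ⟨Subgroup.mem_top _, hy₁N⟩) hB'S hyB'S
      · have hWfun := hW S₁ hS₁p
        have hU₂S₁ : W S₁ ≤ S₁ := hWfun.1
        have hZU₂ : Z ≤ W S₁ := hZZS₁.trans (hWZ S₁ hS₁p)
        have hS₁NU₂ : S₁ ≤ (S : Subgroup G) ⊓ Subgroup.normalizer ((W S₁ : Subgroup G) : Set G) :=
          le_inf inf_le_left (Subgroup.le_normalizer.trans (normalizer_le_normalizer_functor hW hS₁p))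
        have hlt : Nat.card S₁ <
            Nat.card ↥((S : Subgroup G) ⊓ Subgroup.normalizer ((W S₁ : Subgroup G) : Set G)) := by
          have h1 := card_lt_card_inf_normalizer S.2 (inf_le_left : S₁ ≤ (S : Subgroup G)) hS₁eq
          refine lt_of_lt_of_le h1 (Subgroup.card_le_of_le ?_)
          exact inf_le_inf_left _ (normalizer_le_normalizer_functor hW hS₁p)
        have h3 := hcardS _ (inf_le_left : (S : Subgroup G) ⊓
          Subgroup.normalizer ((W S₁ : Subgroup G) : Set G) ≤ (S : Subgroup G))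
        exact IH _ (by omega) (W S₁) hZU₂ (hU₂S₁.trans inf_le_left) rfl y₁ hy₁N B'
          (hB'.trans hS₁NU₂) (hyB'.trans hS₁NU₂)
    · -- centralizer steps
      have hL' : L = fun T => Subgroup.centralizer ((V T : Subgroup G) : Set G) := hL
      subst hL'
      have hy₁C : y₁ ∈ Subgroup.centralizer ((V S₁ : Subgroup G) : Set G) := hy₁.2
      have hVV : V (S : Subgroup G) ≤ V S₁ := hVmono (S : Subgroup G) S₁ S.2 hS₁p hSne hS₁ne hZZS₁
      exact LCtl.single (fun T => Subgroup.centralizer ((V T : Subgroup G) : Set G)) (Or.inr rfl)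
        (Subgroup.mem_inf.mpr ⟨Subgroup.mem_top _, Subgroup.centralizer_le hVV hy₁C⟩) hB'S hyB'S
  -- the tame part
  have hB'S₁ : lcj g B ⊆ S₁ := by
    refine (lcj_mono g hB).trans ?_
    rw [lcj_coe]
    exact hgN
  have hgyN : g * y * g⁻¹ ∈ Subgroup.normalizer ((U' : Subgroup G) : Set G) := by
    rw [← hgU, ← cj_normalizer]
    exact ⟨y, hy, by simp [MulAut.conj_apply]⟩
  have hyB'S₁ : lcj (g * y * g⁻¹) (lcj g B) ⊆ S₁ := by
    rw [← lcj_mul]
    have e : g * y * g⁻¹ * g = g * y := by group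
    rw [e, lcj_mul]
    refine (lcj_mono g hyB).trans ?_
    rw [lcj_coe]
    exact hgN
  obtain ⟨c, hc, hag⟩ := hlocU' (lcj g B) (g * y * g⁻¹) hB'S₁ hgyN hyB'S₁
  have main : LCtl (pairLocal W V) ⊤ (S : Subgroup G) (lcj g B) c := by
    clear hag
    induction hc with
    | refl hA => exact LCtl.one (hA.trans (inf_le_left : S₁ ≤ (S : Subgroup G)))
    | step c y₁ L hL hy₁ hc himg ih =>
      have h1 := key L hL y₁ hy₁ (lcj c (lcj g B)) hc.image_subset
        (by rw [← lcj_mul]; exact himg)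
      exact ih.trans h1
  have htameV : LCtl (pairLocal W V) ⊤ (S : Subgroup G) (lcj g B) (g * y * g⁻¹) :=
    main.congr (fun a ha => (hag a ha).symm)
  have h4 : LCtl (pairLocal W V) ⊤ (S : Subgroup G) B (g * y * g⁻¹ * g) := (hb.mono hB).trans htameV
  have h5 : LCtl (pairLocal W V) ⊤ (S : Subgroup G) (lcj (g * y * g⁻¹ * g) B) g⁻¹ := by
    have e : g * y * g⁻¹ * g = g * y := by group
    rw [e, lcj_mul]
    exact (hb.mono hyB).symm
  have h6 := h4.trans h5
  have e : g⁻¹ * (g * y * g⁻¹ * g) = y := by group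
  rw [e] at h6
  exact h6

include hW hV hWZ hVmono hSne hloc in
/-- local-to-global control of strong fusion for the pair `(W, V)` -/
theorem lctl_top_of_pair :
    ∀ (X : Set G) (a : G), X ⊆ (S : Subgroup G) → lcj a X ⊆ (S : Subgroup G) →
      LCtl (pairLocal W V) ⊤ (S : Subgroup G) X a := by
  have hclaim := lctl_of_center_le W V hW hV hWZ hVmono S hSne hloc
  have hNS : ∀ x ∈ Subgroup.normalizer (((S : Subgroup G) : Subgroup G) : Set G),
      LCtl (pairLocal W V) ⊤ (S : Subgroup G) ((S : Subgroup G) : Set G) x := by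
    intro x hx
    refine LCtl.single (fun T => Subgroup.normalizer ((W T : Subgroup G) : Set G)) (Or.inl rfl)
      (Subgroup.mem_inf.mpr ⟨Subgroup.mem_top _, normalizer_le_normalizer_functor hW S.2 hx⟩) le_rfl
      (lcj_subset_of_mem_normalizer hx le_rfl)
  set Z := (S : Subgroup G) ⊓ Subgroup.centralizer (((S : Subgroup G) : Subgroup G) : Set G) with hZ
  have claimT : ∀ T ∈ tameFamily S, ∀ x ∈ Subgroup.normalizer ((T : Subgroup G) : Set G),
      LCtl (pairLocal W V) ⊤ (S : Subgroup G) (T : Set G) x := by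
    intro T hT x hx
    obtain ⟨c, hc, y, hy, rfl⟩ := exists_mul_of_tame S hT hx
    set T₁ := T ⊔ ((S : Subgroup G) ⊓ Subgroup.centralizer (T : Set G)) with hT₁
    have hT₁S : T₁ ≤ (S : Subgroup G) := sup_le hT.1 inf_le_left
    have hZT₁ : Z ≤ T₁ :=
      le_trans (inf_le_inf_left _ (Subgroup.centralizer_le hT.1)) le_sup_right
    have hTT₁ : (T : Set G) ⊆ ((S : Subgroup G) ⊓
        Subgroup.normalizer ((T₁ : Subgroup G) : Set G) : Subgroup G) :=
      (le_sup_left : T ≤ T₁).trans (le_inf hT₁S Subgroup.le_normalizer)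
    have hyT : lcj y (T : Set G) ⊆ (T : Set G) := lcj_subset_of_mem_normalizer hy.1 le_rfl
    have h1 := hclaim _ T₁ hZT₁ hT₁S rfl y hy.2 (T : Set G) hTT₁ (hyT.trans hTT₁)
    apply h1.congr
    intro t ht
    have hyt : y * t * y⁻¹ ∈ T := hyT (mem_lcj_of_mem ht)
    have hcomm : (y * t * y⁻¹) * c = c * (y * t * y⁻¹) := (Subgroup.mem_centralizer_iff.mp hc) _ hyt
    calc c * y * t * (c * y)⁻¹ = c * (y * t * y⁻¹) * c⁻¹ := by group
      _ = (y * t * y⁻¹) * c * c⁻¹ := by rw [hcomm]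
      _ = y * t * y⁻¹ := by group
  intro X a hX hXa
  have h1 : Subgroup.closure X ≤ (S : Subgroup G) := (Subgroup.closure_le _).mpr hX
  have h2 : cj a⁻¹⁻¹ (Subgroup.closure X) ≤ (S : Subgroup G) := by
    rw [inv_inv, cj_def, MonoidHom.map_closure, Subgroup.closure_le]
    rintro _ ⟨x, hx, rfl⟩
    apply hXa
    exact ⟨x, hx, rfl⟩
  obtain ⟨l, hl, hprod⟩ := reach_tame S _ h1 a⁻¹ h2
  have h3 := lctl_of_chain (𝓛 := pairLocal W V) (S : Subgroup G) (tameFamily S) l
    (fun q hq x hx => claimT q.1 (hl.mem _ q hq).1 x hx) _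
    (show ((Subgroup.closure X : Subgroup G) : Set G) ⊆ (S : Subgroup G) from h1) hl
  rw [hprod, inv_inv] at h3
  exact h3.mono Subgroup.subset_closure

end pairmain

end Cfsg.Agent.Lib.Helper12
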