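import Mathlib
import Cfsg.Prelude.Def_ConjugacyFunctors
import Cfsg.Agent.Lib.Helper12.Control
import Cfsg.Agent.Lib.Helper12.PairFusion
import Cfsg.Agent.Lib.Helper12.FamilyTransfer

/-!
Helper lemmas (helper12): local-to-global control of fusion through well-placed subgroups containing a
fixed central subgroup `Z` of the Sylow subgroup (Goldschmidt-style centric refinement): the local
hypothesis is only needed for well-placed subgroups `T ≥ Z`.
-/

set_option autoImplicit false
open Subgroup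
namespace Cfsg.Agent.Lib.Helper12

section centric
variable {G : Type*} [Group G] {p : ℕ} [Fact p.Prime]
  (W : Subgroup G → Subgroup G) (hW : Cfsg.IsConjugacyFunctor p W) (S : Subgroup G)

include hW in
/-- the inductive claim of `ctlAt_of_wellPlaced`, with the local hypothesis restricted to a class `Φ` of
subgroups stable under passing to the next term of the tower -/
theorem ctlAt_of_wellPlaced_of [Finite G] (P : Sylow p G) (hPS : (P : Subgroup G) = S)
    (Φ : Subgroup G → Prop)
    (hΦ : ∀ T : Subgroup G, T ≤ S → Φ T → Φ (Cfsg.functorTower W S T 1))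
    (hloc : ∀ T : Subgroup G, T ≠ ⊥ → Φ T → Cfsg.IsWellPlaced p W S T →
      Cfsg.ControlsStrongFusionIn p W (Subgroup.normalizer ((T : Subgroup G) : Set G))) :
    ∀ (d : ℕ) (T : Subgroup G), Cfsg.IsWellPlaced p W S T → Φ T → T ≠ ⊥ →
      Nat.card S - Nat.card ↥(S ⊓ Subgroup.normalizer ((T : Subgroup G) : Set G)) = d →
      ∀ (B : Set G) (x : G), x ∈ Subgroup.normalizer ((T : Subgroup G) : Set G) →
        B ⊆ (S ⊓ Subgroup.normalizer ((T : Subgroup G) : Set G) : Subgroup G) →
        (fun b => x * b * x⁻¹) '' B ⊆ (S ⊓ Subgroup.normalizer ((T : Subgroup G) : Set G) : Subgroup G) →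
        CtlAt W S B x := by
  have hS : IsPGroup p S := hPS ▸ P.2
  intro d
  induction d using Nat.strong_induction_on with
  | _ d IH =>
  intro T hwp hΦT hne hd B x hxN hB hBx
  set S₁ := S ⊓ Subgroup.normalizer ((T : Subgroup G) : Set G) with hS₁
  have hS₁p : IsPGroup p S₁ := hS.to_le inf_le_left
  have hsyl := controlsStrongFusionIn_sylow W hW (hloc T hne hΦT hwp) (inf_le_right : S₁ ≤ _) hS₁p
    (hwp.2 0)
  obtain ⟨y, hy, hyb⟩ := hsyl B x hxN hB hBx
  obtain ⟨hyN, hyU⟩ := Subgroup.mem_inf.mp hy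
  by_cases hS₁S : S₁ = S
  · have hyU' : y ∈ Subgroup.normalizer ((W S₁ : Subgroup G) : Set G) := hyU
    rw [hS₁S] at hyU'
    exact ⟨y, hyU', hyb⟩
  · -- pass to `U = W(S₁)`
    set U := Cfsg.functorTower W S T 1 with hU
    have hUwp : Cfsg.IsWellPlaced p W S U := isWellPlaced_tower_one W hW S hS hwp
    have hUne : U ≠ ⊥ := tower_one_ne_bot W hW S hS hwp.1 hne
    have hΦU : Φ U := hΦ T hwp.1 hΦT
    have hyU' : y ∈ Subgroup.normalizer ((U : Subgroup G) : Set G) := hyU
    have hS₁U : S₁ ≤ S ⊓ Subgroup.normalizer ((U : Subgroup G) : Set G) :=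
      towerNormalizer_le_succ W hW S hS T 0
    -- strict growth
    have hlt : Nat.card S₁ < Nat.card ↥(S ⊓ Subgroup.normalizer ((U : Subgroup G) : Set G)) := by
      have h1 : Nat.card S₁ < Nat.card ↥(S ⊓ Subgroup.normalizer ((S₁ : Subgroup G) : Set G)) :=
        card_lt_card_inf_normalizer hS inf_le_left hS₁S
      refine lt_of_lt_of_le h1 (Subgroup.card_le_of_le ?_)
      apply le_inf inf_le_left
      -- `N_S(S₁) ≤ N_G(W(S₁))`
      intro g hg
      have hgN : g ∈ Subgroup.normalizer ((S₁ : Subgroup G) : Set G) := (Subgroup.mem_inf.mp hg).2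
      apply mem_normalizer_of_cj_eq
      have h2 : W (cj g S₁) = cj g (W S₁) := (hW S₁ hS₁p).2.2 g
      rw [cj_eq_of_mem_normalizer hgN] at h2
      exact h2.symm
    have hcardle : Nat.card ↥(S ⊓ Subgroup.normalizer ((U : Subgroup G) : Set G)) ≤ Nat.card S :=
      Subgroup.card_le_of_le inf_le_left
    have := IH (Nat.card S - Nat.card ↥(S ⊓ Subgroup.normalizer ((U : Subgroup G) : Set G)))
      (by omega) U hUwp hΦU hUne rfl B y hyU' (hB.trans hS₁U)
      (by
        rintro _ ⟨b, hb, rfl⟩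
        show y * b * y⁻¹ ∈ _
        rw [hyb b hb]
        exact hS₁U (hBx ⟨b, hb, rfl⟩))
    obtain ⟨z, hz, hzb⟩ := this
    exact ⟨z, hz, fun b hb => (hzb b hb).trans (hyb b hb)⟩

omit [Fact p.Prime] in
/-- along a chain, conjugation is induced by an element of `N_G(W(S))`, provided each member satisfies the
local claim -/
theorem ctlAt_of_chain_of (𝓕 : Set (Subgroup G)) (l : List (Subgroup G × G))
    (hmem : ∀ q ∈ l, q.1 ≠ ⊥ → ∀ (B : Set G) (x : G),
      x ∈ Subgroup.normalizer ((q.1 : Subgroup G) : Set G) → B ⊆ (q.1 : Subgroup G) → CtlAt W S B x) :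
    ∀ A : Set G, Chain 𝓕 A l →
      ∃ y ∈ Subgroup.normalizer ((W S : Subgroup G) : Set G),
        ∀ a ∈ A, y⁻¹ * a * y = (prodOf l)⁻¹ * a * prodOf l := by
  induction l with
  | nil =>
    intro A _
    exact ⟨1, one_mem _, fun a _ => by simp [prodOf_nil]⟩
  | cons q l ih =>
    obtain ⟨T, x⟩ := q
    rintro A ⟨hT, hx, hA, hl⟩
    obtain ⟨y₂, hy₂, hy₂b⟩ := ih (fun q hq => hmem q (List.mem_cons_of_mem _ hq)) _ hl
    by_cases hTbot : T = ⊥
    · -- trivial subgroup: `A ⊆ {1}`
      refine ⟨1, one_mem _, fun a ha => ?_⟩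
      have : a = 1 := by
        have := hA ha
        rw [hTbot] at this
        exact Subgroup.mem_bot.mp this
      subst this
      simp
    · have h1 := hmem (T, x) List.mem_cons_self hTbot A x⁻¹ (inv_mem hx) hA
      obtain ⟨y₁, hy₁, hy₁b⟩ := h1
      refine ⟨y₁⁻¹ * y₂, mul_mem (inv_mem hy₁) hy₂, fun a ha => ?_⟩
      have h2 := hy₁b a ha
      rw [inv_inv] at h2
      have h3 := hy₂b (x⁻¹ * a * x) ⟨a, ha, rfl⟩
      rw [prodOf_cons]
      calc (y₁⁻¹ * y₂)⁻¹ * a * (y₁⁻¹ * y₂) = y₂⁻¹ * (y₁ * a * y₁⁻¹) * y₂ := by group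
        _ = y₂⁻¹ * (x⁻¹ * a * x) * y₂ := by rw [h2]
        _ = (prodOf l)⁻¹ * (x⁻¹ * a * x) * prodOf l := h3
        _ = (x * prodOf l)⁻¹ * a * (x * prodOf l) := by group

/-- Frattini argument in `N_G(U)` relative to `C_G(U)`: if `N_S(U)` is a Sylow `p`-subgroup of `N_G(U)`,
every `x ∈ N_G(U)` can be corrected by an element of `C_G(U)` so as to normalize `C_S(U)` -/
theorem exists_centralizer_mul_mem_normalizer [Finite G] (hS : IsPGroup p S) {U : Subgroup G}
    (hidx : ¬ p ∣ (S ⊓ Subgroup.normalizer ((U : Subgroup G) : Set G)).relIndex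
      (Subgroup.normalizer ((U : Subgroup G) : Set G)))
    {x : G} (hx : x ∈ Subgroup.normalizer ((U : Subgroup G) : Set G)) :
    ∃ c ∈ Subgroup.centralizer ((U : Subgroup G) : Set G),
      c * x ∈ Subgroup.normalizer ((S ⊓ Subgroup.centralizer ((U : Subgroup G) : Set G) : Subgroup G) : Set G) := by
  set N := Subgroup.normalizer ((U : Subgroup G) : Set G) with hN
  set K := Subgroup.centralizer ((U : Subgroup G) : Set G) with hK
  have hKN : K ≤ N := Subgroup.centralizer_le_normalizer _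
  have hnorm : ∀ h ∈ N, ∀ k ∈ K, h * k * h⁻¹ ∈ K := by
    intro h hh k hk
    rw [hK, Subgroup.mem_centralizer_iff]
    intro u hu
    have hu' : h⁻¹ * u * h ∈ U := by
      have := (Subgroup.mem_normalizer_iff.mp (N.inv_mem hh) u).mp hu
      simpa using this
    have hk' := (Subgroup.mem_centralizer_iff.mp hk) _ hu'
    calc u * (h * k * h⁻¹) = h * ((h⁻¹ * u * h) * k) * h⁻¹ := by group
      _ = h * (k * (h⁻¹ * u * h)) * h⁻¹ := by rw [hk']
      _ = h * k * h⁻¹ * u := by group
  have hidxK : ¬ p ∣ (S ⊓ K).relIndex K := by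
    have h1 := inf_relIndex_of_relIndex (S ⊓ N) N K (hS.to_le inf_le_left) hidx hKN hnorm
    have e : S ⊓ N ⊓ K = S ⊓ K := by
      rw [inf_assoc, inf_eq_right.mpr hKN]
    rwa [e] at h1
  have hQK : cj x (S ⊓ K) ≤ K := by
    rintro _ ⟨q, hq, rfl⟩
    have := hnorm x hx q hq.2
    simpa [MulAut.conj_apply] using this
  have hQp : IsPGroup p ↥(cj x (S ⊓ K)) := by
    rw [cj_def]
    exact (hS.to_le inf_le_left).map _
  obtain ⟨c, hcK, hc⟩ := exists_conj_mem_of_relIndex (S ⊓ K) K (cj x (S ⊓ K))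
    (hS.to_le inf_le_left) hidxK hQK hQp
  refine ⟨c, hcK, ?_⟩
  apply mem_normalizer_of_cj_eq
  apply cj_eq_of_le
  rw [← cj_mul]
  rintro _ ⟨q, hq, rfl⟩
  have := hc q hq
  simpa [MulAut.conj_apply] using this

include hW in
/-- **Centric local-to-global control**: if `Z ≤ Z(S)` is contained in `W Q` whenever `Z ≤ Q ≤ S`, and `W` controls
strong fusion in `N_G(T)` for every well-placed `T ≥ Z`, then every conjugation between subgroups of `S` is
induced by an element of `N_G(W(S))`. -/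
theorem ctlAt_of_centric [Finite G] (P : Sylow p G) (hPS : (P : Subgroup G) = S)
    (Z : Subgroup G) (hZS : Z ≤ S) (hZc : Z ≤ Subgroup.centralizer (S : Set G))
    (hZW : ∀ Q : Subgroup G, Q ≤ S → Z ≤ Q → Z ≤ W Q)
    (hloc : ∀ T : Subgroup G, T ≠ ⊥ → Z ≤ T → Cfsg.IsWellPlaced p W S T →
      Cfsg.ControlsStrongFusionIn p W (Subgroup.normalizer ((T : Subgroup G) : Set G))) :
    ∀ (d : ℕ) (T : Subgroup G), T ≤ S → Nat.card S - Nat.card T = d →
      ∀ g : G, cj g T ≤ S → CtlAt W S (T : Set G) g := by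
  have hS : IsPGroup p S := hPS ▸ P.2
  -- `Z` normalizes every subgroup of `S`
  have hZN : ∀ T : Subgroup G, T ≤ S → Z ≤ Subgroup.normalizer ((T : Subgroup G) : Set G) := by
    intro T hT
    refine le_trans ?_ (Subgroup.centralizer_le_normalizer (T : Set G))
    exact le_trans hZc (Subgroup.centralizer_le hT)
  have hΦ : ∀ T : Subgroup G, T ≤ S → Z ≤ T → Z ≤ Cfsg.functorTower W S T 1 := by
    intro T hT _
    show Z ≤ W (S ⊓ Subgroup.normalizer ((T : Subgroup G) : Set G))
    exact hZW _ inf_le_left (le_inf hZS (hZN T hT))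
  intro d
  induction d using Nat.strong_induction_on with
  | _ d IH =>
  intro T hT hd g hTg
  subst hPS
  obtain ⟨l, hl, hprod⟩ := reach_wellPlaced P W hW T hT g⁻¹ (by rw [inv_inv]; exact hTg)
  have hmem : ∀ q ∈ l, q.1 ≠ ⊥ → ∀ (B : Set G) (x : G),
      x ∈ Subgroup.normalizer ((q.1 : Subgroup G) : Set G) → B ⊆ (q.1 : Subgroup G) →
      CtlAt W (P : Subgroup G) B x := by
    intro q hq hqne B x hx hB
    have hqwp : Cfsg.IsWellPlaced p W (P : Subgroup G) q.1 := (hl.mem _ q hq).1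
    have hqS : q.1 ≤ (P : Subgroup G) := hqwp.1
    have hcard : Nat.card T ≤ Nat.card q.1 := Chain.card_le _ hl q hq
    have hxB : (fun b => x * b * x⁻¹) '' B ⊆ (q.1 : Subgroup G) := by
      rintro _ ⟨b, hb, rfl⟩
      exact (Subgroup.mem_normalizer_iff.mp hx b).mp (hB hb)
    have hqN : q.1 ≤ (P : Subgroup G) ⊓ Subgroup.normalizer ((q.1 : Subgroup G) : Set G) :=
      le_inf hqS Subgroup.le_normalizer
    by_cases hZq : Z ≤ q.1
    · exact ctlAt_of_wellPlaced_of W hW (P : Subgroup G) P rfl (fun T => Z ≤ T) hΦ hloc _ q.1 hqwp hZq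
        hqne rfl B x hx (hB.trans hqN) (hxB.trans hqN)
    · -- Frattini step: enlarge `q.1` by its centralizer in `S`
      set U := q.1 with hUdef
      set C := (P : Subgroup G) ⊓ Subgroup.centralizer ((U : Subgroup G) : Set G) with hC
      have hZC : Z ≤ C := le_inf hZS (le_trans hZc (Subgroup.centralizer_le hqS))
      have hUC : U ⊔ C ≤ (P : Subgroup G) := sup_le hqS inf_le_left
      have hlt : Nat.card U < Nat.card ↥(U ⊔ C) := by
        have hle : U ≤ U ⊔ C := le_sup_left
        rcases lt_or_eq_of_le (Subgroup.card_le_of_le hle) with h | h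
        · exact h
        · exfalso
          apply hZq
          have : U = U ⊔ C := Subgroup.eq_of_le_of_card_ge hle (le_of_eq h.symm)
          rw [this]
          exact le_trans hZC le_sup_right
      have hcardS : Nat.card ↥(U ⊔ C) ≤ Nat.card (P : Subgroup G) := Subgroup.card_le_of_le hUC
      have hidx0 : ¬ p ∣ ((P : Subgroup G) ⊓ Subgroup.normalizer ((U : Subgroup G) : Set G)).relIndex
          (Subgroup.normalizer ((U : Subgroup G) : Set G)) := hqwp.2 0
      obtain ⟨c, hc, hcx⟩ := exists_centralizer_mul_mem_normalizer (P : Subgroup G) hS hidx0 hx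
      have hcxU : c * x ∈ Subgroup.normalizer ((U : Subgroup G) : Set G) :=
        mul_mem (Subgroup.centralizer_le_normalizer _ hc) hx
      have hcj : cj (c * x) (U ⊔ C) ≤ (P : Subgroup G) := by
        rw [cj_def, Subgroup.map_sup, ← cj_def, ← cj_def, cj_eq_of_mem_normalizer hcxU,
          cj_eq_of_mem_normalizer hcx]
        exact hUC
      have h1 := IH (Nat.card (P : Subgroup G) - Nat.card ↥(U ⊔ C)) (by omega) (U ⊔ C) hUC rfl
        (c * x) hcj
      obtain ⟨y, hy, hyb⟩ := h1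
      refine ⟨y, hy, fun b hb => ?_⟩
      have hbU : b ∈ U := hB hb
      rw [hyb b (show b ∈ ((U ⊔ C : Subgroup G) : Set G) from (le_sup_left : U ≤ U ⊔ C) hbU)]
      have hxb : x * b * x⁻¹ ∈ U := hxB ⟨b, hb, rfl⟩
      have hcomm := (Subgroup.mem_centralizer_iff.mp hc) _ hxb
      calc c * x * b * (c * x)⁻¹ = c * (x * b * x⁻¹) * c⁻¹ := by group
        _ = (x * b * x⁻¹) * c * c⁻¹ := by rw [hcomm]
        _ = x * b * x⁻¹ := by group
  obtain ⟨y, hy, hya⟩ := ctlAt_of_chain_of W (P : Subgroup G) _ l hmem _ hl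
  refine ⟨y⁻¹, inv_mem hy, fun a ha => ?_⟩
  have := hya a ha
  rw [hprod, inv_inv] at this
  rw [inv_inv]
  exact this

end centric

end Cfsg.Agent.Lib.Helper12
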