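import Mathlib

/-!
Helper lemmas (helper12): properties of all sections `K / R` of a group, for an isomorphism-invariant
property `Φ` of groups: the property passes to sections presented by surjections, to the sections of a subgroup
and to the sections of a quotient.
-/

set_option autoImplicit false
open Subgroup

namespace Cfsg.Agent.Lib.Helper12

universe u

/-- `Φ` holds for all sections `K / R` of `G` -/
def AllSections (Φ : ∀ (Q : Type u) [Group Q], Prop) (G : Type u) [Group G] : Prop :=
  ∀ (K R : Subgroup G) [hR : (R.subgroupOf K).Normal], Φ (↥K ⧸ R.subgroupOf K)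

section
variable (Φ : ∀ (Q : Type u) [Group Q], Prop)
  (hΦ : ∀ (Q Q' : Type u) [Group Q] [Group Q'], (Q ≃* Q') → Φ Q → Φ Q')
  {G : Type u} [Group G]

include hΦ in
/-- a section presented by a surjection -/
theorem AllSections.of_section (h : AllSections Φ G)
    (K R : Subgroup G) {Y : Type u} [Group Y] (f : ↥K →* Y) (hf : Function.Surjective f)
    (hker : f.ker = R.subgroupOf K) : Φ Y := by
  have : (R.subgroupOf K).Normal := hker ▸ f.normal_ker
  have e : ↥K ⧸ R.subgroupOf K ≃* Y :=
    (QuotientGroup.quotientMulEquivOfEq hker.symm).trans (QuotientGroup.quotientKerEquivOfSurjective f hf)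
  exact hΦ _ _ e (h K R)

include hΦ in
theorem AllSections.self (h : AllSections Φ G) : Φ G := by
  apply AllSections.of_section Φ hΦ h ⊤ ⊥ (Subgroup.subtype ⊤)
  · intro g; exact ⟨⟨g, Subgroup.mem_top g⟩, rfl⟩
  · rw [Subgroup.ker_subtype, Subgroup.bot_subgroupOf]

include hΦ in
/-- the section hypothesis passes to subgroups -/
theorem AllSections.subgroup (h : AllSections Φ G) (N₁ : Subgroup G) : AllSections Φ ↥N₁ := by
  intro K' R' _hR
  let e₀ : ↥K' ≃* ↥(K'.map N₁.subtype) := K'.equivMapOfInjective N₁.subtype N₁.subtype_injective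
  let f : ↥(K'.map N₁.subtype) →* ↥K' ⧸ R'.subgroupOf K' :=
    (QuotientGroup.mk' (R'.subgroupOf K')).comp e₀.symm.toMonoidHom
  apply AllSections.of_section Φ hΦ h (K'.map N₁.subtype) (R'.map N₁.subtype) f
  · exact (QuotientGroup.mk'_surjective _).comp e₀.symm.surjective
  · ext x
    obtain ⟨y, rfl⟩ := e₀.surjective x
    rw [MonoidHom.mem_ker]
    show ((QuotientGroup.mk' (R'.subgroupOf K')) (e₀.symm (e₀ y)) = 1) ↔ _
    rw [MulEquiv.symm_apply_apply, QuotientGroup.mk'_apply, QuotientGroup.eq_one_iff,
      Subgroup.mem_subgroupOf, Subgroup.mem_subgroupOf]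
    have hcoe : ((e₀ y : ↥(K'.map N₁.subtype)) : G) = ((y : ↥N₁) : G) :=
      Subgroup.coe_equivMapOfInjective_apply _ _ _ y
    rw [hcoe]
    constructor
    · intro hy
      exact ⟨y.1, hy, rfl⟩
    · rintro ⟨r, hr, hry⟩
      have : r = y.1 := Subtype.ext hry
      rw [← this]; exact hr

include hΦ in
/-- the section hypothesis passes to quotients -/
theorem AllSections.quotient (h : AllSections Φ G) (Z : Subgroup G) [Z.Normal] :
    AllSections Φ (G ⧸ Z) := by
  intro K' R' _hR
  let f : ↥(K'.comap (QuotientGroup.mk' Z)) →* ↥K' ⧸ R'.subgroupOf K' :=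
    (QuotientGroup.mk' (R'.subgroupOf K')).comp ((QuotientGroup.mk' Z).subgroupComap K')
  apply AllSections.of_section Φ hΦ h (K'.comap (QuotientGroup.mk' Z))
    (R'.comap (QuotientGroup.mk' Z)) f
  · exact (QuotientGroup.mk'_surjective _).comp
      (MonoidHom.subgroupComap_surjective_of_surjective _ _ (QuotientGroup.mk'_surjective Z))
  · ext x
    rw [MonoidHom.mem_ker]
    show ((QuotientGroup.mk' (R'.subgroupOf K')) (((QuotientGroup.mk' Z).subgroupComap K') x) = 1) ↔ _
    rw [QuotientGroup.mk'_apply, QuotientGroup.eq_one_iff, Subgroup.mem_subgroupOf,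
      Subgroup.mem_subgroupOf, Subgroup.mem_comap]
    rfl

end

end Cfsg.Agent.Lib.Helper12
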