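import Cfsg.Agent.Lib.Helper12.Alperin
import Cfsg.Prelude.Def_Local

/-!
Helper lemmas (helper12): tightly embedded subgroups, the configuration `T ∈ Syl_2(N_{Q^g}(Q))`,
`T ≤ S ∈ Syl_2(QT)`: `N_S(T) = T × R`, `R = N_{S ∩ Q}(T) ≅ T`.
-/

set_option autoImplicit false
set_option linter.unusedSectionVars false
open Subgroup
open scoped commutatorElement
namespace Cfsg.Agent.Lib.Helper12

section te
variable {G : Type*} [Group G] [Finite G]

/-- a `2`-subgroup of a group of odd order is trivial -/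
theorem eq_bot_of_isPGroup_two_of_le_of_odd {A B : Subgroup G} (hA : IsPGroup 2 A) (hAB : A ≤ B)
    (hB : Odd (Nat.card B)) : A = ⊥ := by
  obtain ⟨k, hk⟩ := IsPGroup.iff_card.mp hA
  have h1 : Nat.card A ∣ Nat.card B := Subgroup.card_dvd_of_le hAB
  rw [hk] at h1
  rcases Nat.eq_zero_or_pos k with rfl | hk0
  · rw [pow_zero] at hk
    exact Subgroup.card_eq_one.mp hk
  · exfalso
    have h2 : 2 ∣ Nat.card B := dvd_trans (dvd_pow_self 2 (ne_of_gt hk0)) h1
    exact (Nat.not_even_iff_odd.mpr hB) (even_iff_two_dvd.mpr h2)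

/-- in a tightly embedded subgroup, a nontrivial `2`-subgroup of `Q ∩ Q^h` forces `h ∈ N(Q)` -/
theorem mem_normalizer_of_tightlyEmbedded {Q : Subgroup G} (hQ : Cfsg.IsTightlyEmbedded Q)
    {A : Subgroup G} (hA : IsPGroup 2 A) (hA1 : A ≠ ⊥) {h : G} (hAQ : A ≤ Q) (hAQh : A ≤ cj h Q) :
    h ∈ Subgroup.normalizer (Q : Set G) := by
  by_contra hn
  exact hA1 (eq_bot_of_isPGroup_two_of_le_of_odd hA (le_inf hAQ hAQh) (hQ.2 h hn))

omit [Finite G] in
/-- a conjugate of a tightly embedded subgroup is tightly embedded -/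
theorem isTightlyEmbedded_cj {Q : Subgroup G} (hQ : Cfsg.IsTightlyEmbedded Q) (g : G) :
    Cfsg.IsTightlyEmbedded (cj g Q) := by
  refine ⟨by rw [card_cj]; exact hQ.1, ?_⟩
  intro h hh
  have hn : g⁻¹ * h * g ∉ Subgroup.normalizer (Q : Set G) := by
    intro hmem
    apply hh
    rw [← cj_normalizer]
    refine ⟨g⁻¹ * h * g, hmem, ?_⟩
    simp [MulAut.conj_apply, mul_assoc]
  have h1 := hQ.2 _ hn
  have e : cj g Q ⊓ (cj g Q).map (MulAut.conj h).toMonoidHom = cj g (Q ⊓ cj (g⁻¹ * h * g) Q) := by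
    rw [cj_inf, cj_mul, ← cj_def, cj_mul]
    congr 2
    group
  rw [e, card_cj]
  exact h1

/-- cardinality bound for disjoint subgroups of a common overgroup -/
theorem card_mul_card_le_of_disjoint {A B M : Subgroup G} (hd : A ⊓ B = ⊥) (hA : A ≤ M) (hB : B ≤ M) :
    Nat.card A * Nat.card B ≤ Nat.card M := by
  rw [← Nat.card_prod]
  let f : ↥A × ↥B → ↥M := fun x => ⟨x.1.1 * x.2.1, M.mul_mem (hA x.1.2) (hB x.2.2)⟩
  apply Nat.card_le_card_of_injective f
  intro x y hxy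
  have h1 : x.1.1 * x.2.1 = y.1.1 * y.2.1 := congrArg Subtype.val hxy
  exact Subgroup.mul_injective_of_disjoint (disjoint_iff.mpr hd) h1

omit [Finite G] in
/-- cardinality of a product of disjoint subgroups covering `M` -/
theorem card_mul_card_eq_of_disjoint_of_forall {A B M : Subgroup G} (hd : A ⊓ B = ⊥) (hA : A ≤ M)
    (hB : B ≤ M) (hM : ∀ m ∈ M, ∃ a ∈ A, ∃ b ∈ B, m = a * b) :
    Nat.card A * Nat.card B = Nat.card M := by
  rw [← Nat.card_prod]
  let f : ↥A × ↥B → ↥M := fun x => ⟨x.1.1 * x.2.1, M.mul_mem (hA x.1.2) (hB x.2.2)⟩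
  apply Nat.card_congr (Equiv.ofBijective f ⟨?_, ?_⟩)
  · intro x y hxy
    have h1 : x.1.1 * x.2.1 = y.1.1 * y.2.1 := congrArg Subtype.val hxy
    exact Subgroup.mul_injective_of_disjoint (disjoint_iff.mpr hd) h1
  · rintro ⟨m, hm⟩
    obtain ⟨a, ha, b, hb, rfl⟩ := hM m hm
    exact ⟨(⟨a, ha⟩, ⟨b, hb⟩), rfl⟩

omit [Finite G] in
theorem card_mul_relIndex_of_le {B H : Subgroup G} (hBH : B ≤ H) :
    Nat.card B * B.relIndex H = Nat.card H := by
  have h1 := (B.subgroupOf H).card_mul_index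
  rw [Nat.card_congr (Subgroup.subgroupOfEquivOfLe hBH).toEquiv] at h1
  exact h1

/-- a `2`-subgroup of `H` has order at most that of a subgroup of odd index -/
theorem card_le_of_isPGroup_two_of_odd_relIndex {A B H : Subgroup G} (hA : IsPGroup 2 A) (hAH : A ≤ H)
    (hBH : B ≤ H) (hB : ¬ 2 ∣ B.relIndex H) : Nat.card A ≤ Nat.card B := by
  obtain ⟨k, hk⟩ := IsPGroup.iff_card.mp hA
  have h1 : Nat.card A ∣ Nat.card H := Subgroup.card_dvd_of_le hAH
  have h2 : B.relIndex H * Nat.card B = Nat.card H := by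
    rw [mul_comm]; exact card_mul_relIndex_of_le hBH
  rw [← h2, hk] at h1
  have hcop : Nat.Coprime (2 ^ k) (B.relIndex H) :=
    Nat.Coprime.pow_left k ((Nat.Prime.coprime_iff_not_dvd Nat.prime_two).mpr hB)
  have h3 : 2 ^ k ∣ Nat.card B := hcop.dvd_of_dvd_mul_left h1
  rw [hk]
  exact Nat.le_of_dvd Nat.card_pos h3

/-- existence of a Sylow `2`-subgroup of `H` containing a given `2`-subgroup, as a subgroup of `G` -/
theorem exists_sylow_two_ge {A H : Subgroup G} (hA : IsPGroup 2 A)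
    (hAH : A ≤ H) : ∃ B : Subgroup G, A ≤ B ∧ B ≤ H ∧ IsPGroup 2 B ∧ ¬ 2 ∣ B.relIndex H := by
  haveI : Fact (Nat.Prime 2) := ⟨Nat.prime_two⟩
  have hA' : IsPGroup 2 (A.subgroupOf H) := hA.comap_subtype
  obtain ⟨P, hP⟩ := hA'.exists_le_sylow
  refine ⟨(P : Subgroup ↥H).map H.subtype, ?_, Subgroup.map_subtype_le _, P.isPGroup'.map _, ?_⟩
  · intro a ha
    exact ⟨⟨a, hAH ha⟩, hP (Subgroup.mem_subgroupOf.mpr ha), rfl⟩
  · have h2 : ((P : Subgroup ↥H).map H.subtype).relIndex H = (P : Subgroup ↥H).index := by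
      unfold Subgroup.relIndex Subgroup.subgroupOf
      rw [Subgroup.comap_map_eq_self_of_injective (Subgroup.subtype_injective _)]
    rw [h2]
    exact P.not_dvd_index

/-- two `2`-subgroups of odd index in `H` are isomorphic -/
theorem nonempty_mulEquiv_of_odd_relIndex {A B H : Subgroup G} (hA : IsPGroup 2 A) (hB : IsPGroup 2 B)
    (hAH : A ≤ H) (hBH : B ≤ H) (hA' : ¬ 2 ∣ A.relIndex H) (hB' : ¬ 2 ∣ B.relIndex H) :
    Nonempty (↥A ≃* ↥B) := by
  haveI : Fact (Nat.Prime 2) := ⟨Nat.prime_two⟩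
  have hA2 : IsPGroup 2 ↥(A.subgroupOf H) := hA.comap_subtype
  have hB2 : IsPGroup 2 ↥(B.subgroupOf H) := hB.comap_subtype
  let PA : Sylow 2 ↥H := hA2.toSylow hA'
  let PB : Sylow 2 ↥H := hB2.toSylow hB'
  have e : ↥(A.subgroupOf H) ≃* ↥(B.subgroupOf H) := Sylow.equiv PA PB
  exact ⟨(Subgroup.subgroupOfEquivOfLe hAH).symm.trans (e.trans (Subgroup.subgroupOfEquivOfLe hBH))⟩

omit [Finite G] in
/-- two complements of a normal subgroup are isomorphic -/
theorem nonempty_mulEquiv_of_isComplement' {A B N : Subgroup G} [N.Normal] (hA : IsComplement' A N)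
    (hB : IsComplement' B N) : Nonempty (↥A ≃* ↥B) :=
  ⟨hA.QuotientMulEquiv.symm.trans hB.QuotientMulEquiv⟩

/-- complements inside a subgroup `M` -/
theorem isComplement'_subgroupOf {A N M : Subgroup G} (hA : A ≤ M) (hN : N ≤ M) (hd : A ⊓ N = ⊥)
    (hcard : Nat.card A * Nat.card N = Nat.card M) :
    IsComplement' (A.subgroupOf M) (N.subgroupOf M) := by
  apply Subgroup.isComplement'_of_card_mul_and_disjoint
  · rw [Nat.card_congr (Subgroup.subgroupOfEquivOfLe hA).toEquiv,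
      Nat.card_congr (Subgroup.subgroupOfEquivOfLe hN).toEquiv]
    exact hcard
  · rw [disjoint_iff, eq_bot_iff]
    intro x hx
    have h1 : (x : G) ∈ A ⊓ N := ⟨Subgroup.mem_subgroupOf.mp hx.1, Subgroup.mem_subgroupOf.mp hx.2⟩
    rw [hd, Subgroup.mem_bot] at h1
    rw [Subgroup.mem_bot]
    exact Subtype.ext h1

/-- The configuration: `Q` tightly embedded, `g ∉ N(Q)`, `1 ≠ T ∈ Syl_2(Q^g ∩ N(Q))`,
`T ≤ S ∈ Syl_2(QT)`. -/
structure TECfg (Q : Subgroup G) (g : G) (T S : Subgroup G) : Prop where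
  tight : Cfsg.IsTightlyEmbedded Q
  hg : g ∉ Subgroup.normalizer (Q : Set G)
  hT1 : T ≠ ⊥
  hT : T ≤ cj g Q ⊓ Subgroup.normalizer (Q : Set G)
  hT2 : IsPGroup 2 T
  hTsyl : ¬ 2 ∣ T.relIndex (cj g Q ⊓ Subgroup.normalizer (Q : Set G))
  hTS : T ≤ S
  hS : S ≤ Q ⊔ T
  hS2 : IsPGroup 2 S
  hSsyl : ¬ 2 ∣ S.relIndex (Q ⊔ T)

namespace TECfg

variable {Q : Subgroup G} {g : G} {T S : Subgroup G} (c : TECfg Q g T S)
include c

theorem T_le_normalizer : T ≤ Subgroup.normalizer (Q : Set G) := c.hT.trans inf_le_right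

theorem T_le_cj : T ≤ cj g Q := c.hT.trans inf_le_left

theorem S_le_normalizer : S ≤ Subgroup.normalizer (Q : Set G) :=
  c.hS.trans (sup_le Subgroup.le_normalizer c.T_le_normalizer)

theorem T_inf_Q : T ⊓ Q = ⊥ := by
  apply eq_bot_of_isPGroup_two_of_le_of_odd (c.hT2.to_le inf_le_left) (B := Q ⊓ cj g Q)
  · exact le_inf inf_le_right (inf_le_left.trans c.T_le_cj)
  · exact c.tight.2 g c.hg

/-- `R = N_{S ∩ Q}(T)` -/
theorem T_inf_R : T ⊓ (S ⊓ Subgroup.normalizer (T : Set G) ⊓ Q) = ⊥ := by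
  rw [eq_bot_iff, ← c.T_inf_Q]
  exact inf_le_inf_left _ inf_le_right

theorem comm_T_R : ⁅T, S ⊓ Subgroup.normalizer (T : Set G) ⊓ Q⁆ = ⊥ := by
  rw [eq_bot_iff, ← c.T_inf_Q, Subgroup.commutator_le]
  intro t ht r hr
  have hrN : r ∈ Subgroup.normalizer (T : Set G) := hr.1.2
  have hrQ : r ∈ Q := hr.2
  refine ⟨?_, ?_⟩
  · have h1 : r * t⁻¹ * r⁻¹ ∈ T := (Subgroup.mem_normalizer_iff.mp hrN _).mp (T.inv_mem ht)
    have e : ⁅t, r⁆ = t * (r * t⁻¹ * r⁻¹) := by rw [commutatorElement_def]; group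
    rw [e]; exact T.mul_mem ht h1
  · have h1 : t * r * t⁻¹ ∈ Q := (Subgroup.mem_normalizer_iff.mp (c.T_le_normalizer ht) _).mp hrQ
    rw [commutatorElement_def]
    exact Q.mul_mem h1 (Q.inv_mem hrQ)

/-- every element of `N_S(T)` is a product `t r` -/
theorem exists_mul_of_mem {s : G} (hs : s ∈ S ⊓ Subgroup.normalizer (T : Set G)) :
    ∃ t ∈ T, ∃ r ∈ S ⊓ Subgroup.normalizer (T : Set G) ⊓ Q, s = t * r := by
  have h1 : s ∈ T ⊔ Q := by rw [sup_comm]; exact c.hS hs.1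
  rw [← SetLike.mem_coe, Subgroup.coe_mul_of_left_le_normalizer_right T Q c.T_le_normalizer,
    Set.mem_mul] at h1
  obtain ⟨t, ht, q, hq, rfl⟩ := h1
  have ht' : t ∈ S ⊓ Subgroup.normalizer (T : Set G) := ⟨c.hTS ht, Subgroup.le_normalizer ht⟩
  refine ⟨t, ht, q, ⟨?_, hq⟩, rfl⟩
  have e : q = t⁻¹ * (t * q) := by group
  rw [e]
  exact Subgroup.mul_mem _ (Subgroup.inv_mem _ ht') hs

theorem T_sup_R : T ⊔ (S ⊓ Subgroup.normalizer (T : Set G) ⊓ Q) = S ⊓ Subgroup.normalizer (T : Set G) := by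
  apply le_antisymm
  · exact sup_le (le_inf c.hTS Subgroup.le_normalizer) inf_le_left
  · intro s hs
    obtain ⟨t, ht, r, hr, rfl⟩ := c.exists_mul_of_mem hs
    exact Subgroup.mul_mem_sup ht hr

theorem card_T_mul_card_R :
    Nat.card T * Nat.card ↥(S ⊓ Subgroup.normalizer (T : Set G) ⊓ Q) =
      Nat.card ↥(S ⊓ Subgroup.normalizer (T : Set G)) :=
  card_mul_card_eq_of_disjoint_of_forall c.T_inf_R (le_inf c.hTS Subgroup.le_normalizer) inf_le_left
    (fun _ hm => c.exists_mul_of_mem hm)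

/-- `T = S ∩ Q^g` -/
theorem T_eq : S ⊓ cj g Q ≤ T := by
  apply le_of_isPGroup_of_relIndex (p := 2) (le_inf c.hTS c.T_le_cj)
    (M := cj g Q ⊓ Subgroup.normalizer (Q : Set G))
  · exact le_inf inf_le_right (inf_le_left.trans c.S_le_normalizer)
  · exact c.hS2.to_le inf_le_left
  · exact c.hTsyl

/-- every element of `S` is a product `t q` with `q ∈ S ∩ Q` -/
theorem exists_mul_of_mem_S {s : G} (hs : s ∈ S) : ∃ t ∈ T, ∃ q ∈ S ⊓ Q, s = t * q := by
  have h1 : s ∈ T ⊔ Q := by rw [sup_comm]; exact c.hS hs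
  rw [← SetLike.mem_coe, Subgroup.coe_mul_of_left_le_normalizer_right T Q c.T_le_normalizer,
    Set.mem_mul] at h1
  obtain ⟨t, ht, q, hq, rfl⟩ := h1
  refine ⟨t, ht, q, ⟨?_, hq⟩, rfl⟩
  have e : q = t⁻¹ * (t * q) := by group
  rw [e]
  exact Subgroup.mul_mem _ (Subgroup.inv_mem _ (c.hTS ht)) hs

theorem card_T_mul_card_S_inf_Q : Nat.card T * Nat.card ↥(S ⊓ Q) = Nat.card S := by
  apply card_mul_card_eq_of_disjoint_of_forall _ c.hTS inf_le_left (fun _ hm => c.exists_mul_of_mem_S hm)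
  rw [eq_bot_iff, ← c.T_inf_Q]
  exact inf_le_inf_left _ inf_le_right

theorem card_T_mul_card_Q : Nat.card T * Nat.card Q = Nat.card ↥(Q ⊔ T) := by
  apply card_mul_card_eq_of_disjoint_of_forall c.T_inf_Q le_sup_right le_sup_left
  intro m hm
  have h1 : m ∈ T ⊔ Q := by rw [sup_comm]; exact hm
  rw [← SetLike.mem_coe, Subgroup.coe_mul_of_left_le_normalizer_right T Q c.T_le_normalizer,
    Set.mem_mul] at h1
  obtain ⟨t, ht, q, hq, rfl⟩ := h1
  exact ⟨t, ht, q, hq, rfl⟩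

/-- `S ∩ Q` is a Sylow `2`-subgroup of `Q` -/
theorem odd_relIndex_S_inf_Q : ¬ 2 ∣ (S ⊓ Q).relIndex Q := by
  have h1 := card_mul_relIndex_of_le (inf_le_right : S ⊓ Q ≤ Q)
  have h2 := card_mul_relIndex_of_le c.hS
  have h3 := c.card_T_mul_card_S_inf_Q
  have h4 := c.card_T_mul_card_Q
  have hTpos : 0 < Nat.card T := Nat.card_pos
  have h5 : Nat.card T * (Nat.card ↥(S ⊓ Q) * S.relIndex (Q ⊔ T)) =
      Nat.card T * (Nat.card ↥(S ⊓ Q) * (S ⊓ Q).relIndex Q) := by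
    rw [← mul_assoc, h3, h2, h1, h4]
  have h6 := Nat.eq_of_mul_eq_mul_left hTpos h5
  have hpos : 0 < Nat.card ↥(S ⊓ Q) := Nat.card_pos
  have h7 := Nat.eq_of_mul_eq_mul_left hpos h6
  rw [← h7]
  exact c.hSsyl

theorem card_T_le_card_S_inf_Q : Nat.card T ≤ Nat.card ↥(S ⊓ Q) := by
  have h1 : Nat.card ↥(cj g⁻¹ T) ≤ Nat.card ↥(S ⊓ Q) := by
    apply card_le_of_isPGroup_two_of_odd_relIndex (H := Q) _ _ inf_le_right c.odd_relIndex_S_inf_Q
    · rw [cj_def]; exact c.hT2.map _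
    · have := cj_mono g⁻¹ c.T_le_cj
      rwa [cj_inv_cj] at this
  rwa [card_cj] at h1

/-- if `T` is not normal in `S`, some conjugate of `T` inside `N_S(T)` meets `T` trivially -/
theorem exists_disjoint_conj (hSN : ¬ S ≤ Subgroup.normalizer (T : Set G)) :
    ∃ x : G, cj x T ≤ S ⊓ Subgroup.normalizer (T : Set G) ∧ cj x T ⊓ T = ⊥ := by
  set M := S ⊓ Subgroup.normalizer (T : Set G) with hM
  have hMS : M ≤ S := inf_le_left
  have hne : M ≠ S := fun h => hSN (h ▸ inf_le_right)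
  have hlt := card_lt_card_inf_normalizer c.hS2 hMS hne
  -- an element of `N_S(M)` outside `M`
  have hex : ∃ x, x ∈ S ⊓ Subgroup.normalizer (M : Set G) ∧ x ∉ M := by
    by_contra hcon
    push Not at hcon
    have hle : S ⊓ Subgroup.normalizer (M : Set G) ≤ M := fun x hx => hcon x hx
    exact absurd (Subgroup.card_le_of_le hle) (not_le.mpr hlt)
  obtain ⟨x, hx, hxM⟩ := hex
  have hxT : cj x T ≠ T := fun h => hxM ⟨hx.1, mem_normalizer_of_cj_eq h⟩
  have hTM : T ≤ M := le_inf c.hTS Subgroup.le_normalizer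
  have hT1M : cj x T ≤ M := by
    have := cj_mono x hTM
    rwa [cj_eq_of_mem_normalizer hx.2] at this
  refine ⟨x, hT1M, ?_⟩
  by_contra hnb
  have hxN : x ∈ Subgroup.normalizer ((cj g Q : Subgroup G) : Set G) := by
    apply mem_normalizer_of_tightlyEmbedded (isTightlyEmbedded_cj c.tight g)
      (c.hT2.to_le inf_le_right) hnb (inf_le_right.trans c.T_le_cj)
    exact inf_le_left.trans (cj_mono x c.T_le_cj)
  apply hxT
  apply cj_eq_of_le
  have h1 : cj x T ≤ cj x (S ⊓ cj g Q) := cj_mono x (le_inf c.hTS c.T_le_cj)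
  rw [cj_inf, cj_eq_of_mem_normalizer hxN,
    cj_eq_of_mem_normalizer (Subgroup.le_normalizer hx.1)] at h1
  exact h1.trans c.T_eq

/-- **First inequality**: `|T| ≤ |N_{S ∩ Q}(T)|`. -/
theorem card_T_le_card_R : Nat.card T ≤ Nat.card ↥(S ⊓ Subgroup.normalizer (T : Set G) ⊓ Q) := by
  by_cases hSN : S ≤ Subgroup.normalizer (T : Set G)
  · rw [inf_of_le_left hSN]
    exact c.card_T_le_card_S_inf_Q
  · obtain ⟨x, hT1M, hdisj⟩ := c.exists_disjoint_conj hSN
    have hTM : T ≤ S ⊓ Subgroup.normalizer (T : Set G) := le_inf c.hTS Subgroup.le_normalizer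
    have h2 := card_mul_card_le_of_disjoint hdisj hT1M hTM
    rw [card_cj, ← c.card_T_mul_card_R] at h2
    exact Nat.le_of_mul_le_mul_left h2 Nat.card_pos

/-- `R` normalizes `Q^g` -/
theorem R_le : S ⊓ Subgroup.normalizer (T : Set G) ⊓ Q ≤
    Q ⊓ Subgroup.normalizer ((cj g Q : Subgroup G) : Set G) := by
  intro r hr
  refine ⟨hr.2, ?_⟩
  have hcent : T ≤ Subgroup.centralizer ((S ⊓ Subgroup.normalizer (T : Set G) ⊓ Q : Subgroup G) : Set G) :=
    Subgroup.commutator_eq_bot_iff_le_centralizer.mp c.comm_T_R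
  apply mem_normalizer_of_tightlyEmbedded (isTightlyEmbedded_cj c.tight g) c.hT2 c.hT1 c.T_le_cj
  intro t ht
  refine ⟨r⁻¹ * t * r, ?_, ?_⟩
  · have h1 : r * t = t * r := (Subgroup.mem_centralizer_iff.mp (hcent ht)) r hr
    have e : r⁻¹ * t * r = t := by
      rw [mul_assoc, ← h1]; group
    rw [e]; exact c.T_le_cj ht
  · simp [MulAut.conj_apply, mul_assoc]

/-- **Second inequality**: `|N_{S ∩ Q}(T)| ≤ |T|`. -/
theorem card_R_le_card_T : Nat.card ↥(S ⊓ Subgroup.normalizer (T : Set G) ⊓ Q) ≤ Nat.card T := by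
  set R := S ⊓ Subgroup.normalizer (T : Set G) ⊓ Q with hR
  by_cases hR1 : R = ⊥
  · rw [hR1, Subgroup.card_bot]; exact Nat.card_pos
  set Q' := cj g Q with hQ'
  set Y := Q ⊓ Subgroup.normalizer (Q' : Set G) with hY
  have hR2 : IsPGroup 2 R := c.hS2.to_le (inf_le_left.trans inf_le_left)
  obtain ⟨T', hRT', hT'Y, hT'2, hT'syl⟩ := exists_sylow_two_ge hR2 c.R_le
  have hT'1 : T' ≠ ⊥ := fun h => hR1 (eq_bot_iff.mpr (h ▸ hRT'))
  obtain ⟨S', hT'S', hS'W, hS'2, hS'syl⟩ :=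
    exists_sylow_two_ge hT'2 (le_sup_right : T' ≤ Q' ⊔ T')
  have hQ'' : cj g⁻¹ Q' = Q := cj_inv_cj g Q
  have c' : TECfg Q' g⁻¹ T' S' :=
    { tight := isTightlyEmbedded_cj c.tight g
      hg := by
        intro h
        have h1 := cj_eq_of_mem_normalizer h
        rw [hQ''] at h1
        exact c.hg (mem_normalizer_of_cj_eq h1.symm)
      hT1 := hT'1
      hT := by rw [hQ'']; exact hT'Y
      hT2 := hT'2
      hTsyl := by rw [hQ'']; exact hT'syl
      hTS := hT'S'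
      hS := hS'W
      hS2 := hS'2
      hSsyl := hS'syl }
  have h1 := c'.card_T_le_card_R
  have h2 := c'.R_le
  rw [hQ''] at h2
  have h3 : Nat.card ↥(S' ⊓ Subgroup.normalizer (T' : Set G) ⊓ Q') ≤ Nat.card T := by
    apply card_le_of_isPGroup_two_of_odd_relIndex (H := cj g Q ⊓ Subgroup.normalizer (Q : Set G))
      (hS'2.to_le (inf_le_left.trans inf_le_left)) h2 c.hT c.hTsyl
  exact (Subgroup.card_le_of_le hRT').trans (h1.trans h3)

theorem card_R_eq_card_T : Nat.card ↥(S ⊓ Subgroup.normalizer (T : Set G) ⊓ Q) = Nat.card T :=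
  le_antisymm c.card_R_le_card_T c.card_T_le_card_R

/-- **`N_{S ∩ Q}(T) ≅ T`.** -/
theorem nonempty_mulEquiv : Nonempty (↥(S ⊓ Subgroup.normalizer (T : Set G) ⊓ Q) ≃* ↥T) := by
  by_cases hSN : S ≤ Subgroup.normalizer (T : Set G)
  · -- `T ⊴ S`: `R = S ∩ Q` and `T` are Sylow subgroups of `Q^g`, up to conjugation
    have hcard := c.card_R_eq_card_T
    rw [inf_of_le_left hSN] at hcard ⊢
    have hR2 : IsPGroup 2 ↥(S ⊓ Q) := c.hS2.to_le inf_le_left
    have e1 : ↥(S ⊓ Q) ≃* ↥(cj g (S ⊓ Q)) :=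
      (S ⊓ Q).equivMapOfInjective (MulAut.conj g).toMonoidHom (MulAut.conj g).injective
    have hodd1 : ¬ 2 ∣ (cj g (S ⊓ Q)).relIndex (cj g Q) := by
      rw [cj_relIndex]; exact c.odd_relIndex_S_inf_Q
    have hodd2 : ¬ 2 ∣ T.relIndex (cj g Q) := by
      have h1 := card_mul_relIndex_of_le c.T_le_cj
      have h2 := card_mul_relIndex_of_le (inf_le_right : S ⊓ Q ≤ Q)
      rw [card_cj, ← h2, ← hcard] at h1
      have h3 := Nat.eq_of_mul_eq_mul_left Nat.card_pos h1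
      rw [h3]; exact c.odd_relIndex_S_inf_Q
    obtain ⟨e2⟩ := nonempty_mulEquiv_of_odd_relIndex (H := cj g Q)
      (by rw [cj_def]; exact hR2.map _) c.hT2 (cj_mono g inf_le_right) c.T_le_cj hodd1 hodd2
    exact ⟨e1.trans e2⟩
  · obtain ⟨x, hT1M, hdisj⟩ := c.exists_disjoint_conj hSN
    set M := S ⊓ Subgroup.normalizer (T : Set G) with hM
    set R := S ⊓ Subgroup.normalizer (T : Set G) ⊓ Q with hR
    have hTM : T ≤ M := le_inf c.hTS Subgroup.le_normalizer
    have hRM : R ≤ M := inf_le_left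
    haveI hTn : (T.subgroupOf M).Normal :=
      (Subgroup.normal_subgroupOf_iff_le_normalizer hTM).mpr inf_le_right
    have hcard := c.card_R_eq_card_T
    have hcard2 := c.card_T_mul_card_R
    have hcA : IsComplement' (R.subgroupOf M) (T.subgroupOf M) := by
      apply isComplement'_subgroupOf hRM hTM
      · rw [inf_comm]; exact c.T_inf_R
      · rw [mul_comm]; exact hcard2
    have hcB : IsComplement' ((cj x T).subgroupOf M) (T.subgroupOf M) := by
      apply isComplement'_subgroupOf hT1M hTM hdisj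
      rw [card_cj, ← hcard2, hcard]
    obtain ⟨e⟩ := nonempty_mulEquiv_of_isComplement' hcA hcB
    have e3 : ↥T ≃* ↥(cj x T) :=
      T.equivMapOfInjective (MulAut.conj x).toMonoidHom (MulAut.conj x).injective
    exact ⟨(Subgroup.subgroupOfEquivOfLe hRM).symm.trans
      (e.trans ((Subgroup.subgroupOfEquivOfLe hT1M).trans e3.symm))⟩

end TECfg

end te

end Cfsg.Agent.Lib.Helper12
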