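import Mathlib
import Cfsg.Prelude.Def_ConjugacyFunctors
import Cfsg.Agent.Lib.Helper12.InducedFunctor
import Cfsg.Agent.Lib.Helper12.Sections
import Cfsg.Agent.Lib.Helper12.Cores
import Cfsg.Agent.Lib.Helper12.PComplement
import Cfsg.Agent.Lib.Helper1.Fitting
import Cfsg.Agent.Lib.Helper16.Minimal
import Cfsg.Agent.Lib.Helper12.TightlyEmbedded

/-!
Helper lemmas (helper12): Glauberman's theorem that an isomorphism-invariant `p`-group functor `W` satisfying the
focal condition `O_p(H) ∩ H' = O_p(H) ∩ N_H(W(T))'` in every section `H` with `C_H(O_p(H)) ≤ O_p(H)` controls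
transfer in every section.
-/

set_option autoImplicit false
set_option linter.unusedSectionVars false
set_option linter.style.haveILetI false
open Subgroup
open scoped Pointwise commutatorElement

namespace Cfsg.Agent.Lib.Helper12

universe u

section transport
variable {p : ℕ} [Fact p.Prime] (W : ∀ (Q : Type u) [Group Q], Subgroup Q)
  (hW : Cfsg.IsCharPFunctor.{u} p W)

include hW in
/-- naturality of the induced functor under a homomorphism injective on the `p`-subgroup -/
theorem inducedFunctor_map_of_injOn_set {X Y : Type u} [Group X] [Group Y] (f : X →* Y)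
    (T : Subgroup X) [Finite T] (hT : IsPGroup p T) (hinj : Set.InjOn f (T : Set X)) :
    Cfsg.inducedFunctor W (T.map f) = (Cfsg.inducedFunctor W T).map f := by
  have hbij : Function.Bijective (f.subgroupMap T) := by
    refine ⟨?_, f.subgroupMap_surjective T⟩
    intro a b hab
    have h1 : f (a : X) = f (b : X) := congrArg Subtype.val hab
    exact Subtype.ext (hinj a.2 b.2 h1)
  let e : ↥T ≃* ↥(T.map f) := MulEquiv.ofBijective (f.subgroupMap T) hbij
  have h := hW.2 ↥T ↥(T.map f) hT e
  unfold Cfsg.inducedFunctor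
  rw [← h, Subgroup.map_map, Subgroup.map_map]
  congr 1

include hW in
/-- control of transfer in the group `↥N₁` gives control of transfer in the subgroup `N₁` -/
theorem controlsTransferIn_of_subtype {H : Type u} [Group H] [Finite H] (N₁ : Subgroup H)
    (h : Cfsg.ControlsTransferIn p (Cfsg.inducedFunctor (G := ↥N₁) W) ⊤) :
    Cfsg.ControlsTransferIn p (Cfsg.inducedFunctor (G := H) W) N₁ := by
  obtain ⟨T, -, hTp, hidx, heq⟩ := h
  have hmapW : Cfsg.inducedFunctor W (T.map N₁.subtype) =
      (Cfsg.inducedFunctor W T).map N₁.subtype :=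
    inducedFunctor_map_of_injOn_set W hW N₁.subtype T hTp (N₁.subtype_injective.injOn)
  refine ⟨T.map N₁.subtype, Subgroup.map_subtype_le _, hTp.map _, ?_, ?_⟩
  · rw [Subgroup.relIndex_top_right] at hidx
    have : (T.map N₁.subtype).relIndex N₁ = T.index := by
      have h1 := Subgroup.relIndex_map_map_of_injective T ⊤ N₁.subtype_injective
      rw [← MonoidHom.range_eq_map, Subgroup.range_subtype, Subgroup.relIndex_top_right] at h1
      exact h1
    rwa [this]
  · apply le_antisymm
    · rintro x ⟨⟨t, ht, rfl⟩, hx2⟩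
      refine ⟨⟨t, ht, rfl⟩, ?_⟩
      have h1 : t ∈ ⁅(⊤ : Subgroup ↥N₁), (⊤ : Subgroup ↥N₁)⁆ := by
        have h2 : ⁅N₁, N₁⁆ = (⁅(⊤ : Subgroup ↥N₁), (⊤ : Subgroup ↥N₁)⁆).map N₁.subtype := by
          rw [Subgroup.map_commutator, ← MonoidHom.range_eq_map, Subgroup.range_subtype]
        rw [h2] at hx2
        obtain ⟨t', ht', htt⟩ := hx2
        have : t' = t := Subtype.ext htt
        rwa [← this]
      have h3 : t ∈ T ⊓ ⁅(⊤ : Subgroup ↥N₁), (⊤ : Subgroup ↥N₁)⁆ := ⟨ht, h1⟩
      rw [heq] at h3
      have h4 : (t : H) ∈ (⁅⊤ ⊓ Subgroup.normalizer ((Cfsg.inducedFunctor W T : Subgroup ↥N₁) : Set ↥N₁),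
          ⊤ ⊓ Subgroup.normalizer ((Cfsg.inducedFunctor W T : Subgroup ↥N₁) : Set ↥N₁)⁆).map N₁.subtype :=
        ⟨t, h3.2, rfl⟩
      rw [Subgroup.map_commutator] at h4
      refine Subgroup.commutator_mono ?_ ?_ h4
      all_goals
        rintro _ ⟨n, hn, rfl⟩
        refine ⟨n.2, ?_⟩
        rw [hmapW]
        have hn2 : n ∈ Subgroup.normalizer ((Cfsg.inducedFunctor W T : Subgroup ↥N₁) : Set ↥N₁) := hn.2
        show (n : H) ∈ Subgroup.normalizer
          (((Cfsg.inducedFunctor W T).map N₁.subtype : Subgroup H) : Set H)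
        rw [Subgroup.mem_normalizer_iff] at hn2 ⊢
        intro y
        constructor
        · rintro ⟨w, hw, rfl⟩
          exact ⟨n * w * n⁻¹, (hn2 w).mp hw, rfl⟩
        · rintro ⟨w, hw, hwy⟩
          have hyN : y ∈ N₁ := by
            have : y = (n : H)⁻¹ * (w : H) * (n : H) := by
              rw [show (w : H) = N₁.subtype w from rfl, hwy]; group
            rw [this]
            exact N₁.mul_mem (N₁.mul_mem (N₁.inv_mem n.2) w.2) n.2
          refine ⟨⟨y, hyN⟩, ?_, rfl⟩
          have : n * ⟨y, hyN⟩ * n⁻¹ = w := Subtype.ext hwy.symm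
          exact (hn2 ⟨y, hyN⟩).mpr (by rw [this]; exact hw)
    · exact inf_le_inf_left _ (Subgroup.commutator_mono inf_le_left inf_le_left)

include hW in
/-- pulling back control of transfer in a quotient -/
theorem inf_commutator_le_of_quotient {H : Type u} [Group H] [Finite H] (Z : Subgroup H) [Z.Normal]
    (S : Sylow p H)
    (h : Cfsg.ControlsTransferIn p (Cfsg.inducedFunctor (G := H ⧸ Z) W) ⊤) :
    (S : Subgroup H) ⊓ commutator H ≤
      ⁅(Subgroup.normalizer ((Cfsg.inducedFunctor W ((S : Subgroup H).map (QuotientGroup.mk' Z)) :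
          Subgroup (H ⧸ Z)) : Set (H ⧸ Z))).comap (QuotientGroup.mk' Z),
       (Subgroup.normalizer ((Cfsg.inducedFunctor W ((S : Subgroup H).map (QuotientGroup.mk' Z)) :
          Subgroup (H ⧸ Z)) : Set (H ⧸ Z))).comap (QuotientGroup.mk' Z)⁆ ⊔ Z := by
  set π := QuotientGroup.mk' Z with hπ
  have hπs : Function.Surjective π := QuotientGroup.mk'_surjective Z
  set Sb := (S : Subgroup H).map π with hSb
  have hWq := isConjugacyFunctor_induced W hW (H ⧸ Z)
  have hidx : ¬ p ∣ Sb.relIndex ⊤ := by
    rw [Subgroup.relIndex_top_right]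
    intro hdvd
    exact S.not_dvd_index (dvd_trans hdvd (Subgroup.index_map_dvd _ hπs))
  have heq := controlsTransferIn_sylow _ hWq h (le_top : Sb ≤ ⊤) (S.2.map π) hidx
  rw [top_inf_eq] at heq
  set Nb := Subgroup.normalizer ((Cfsg.inducedFunctor W Sb : Subgroup (H ⧸ Z)) : Set (H ⧸ Z)) with hNb
  set L := Nb.comap π with hL
  intro x hx
  have h1 : π x ∈ Sb ⊓ ⁅(⊤ : Subgroup (H ⧸ Z)), (⊤ : Subgroup (H ⧸ Z))⁆ := by
    refine ⟨⟨x, hx.1, rfl⟩, ?_⟩
    have : (commutator H).map π ≤ ⁅(⊤ : Subgroup (H ⧸ Z)), (⊤ : Subgroup (H ⧸ Z))⁆ := by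
      rw [commutator_def, Subgroup.map_commutator]
      exact Subgroup.commutator_mono le_top le_top
    exact this ⟨x, hx.2, rfl⟩
  rw [heq] at h1
  have h2 : ⁅Nb, Nb⁆ = (⁅L, L⁆).map π := by
    rw [Subgroup.map_commutator, hL, Subgroup.map_comap_eq_self_of_surjective hπs]
  have h3 : x ∈ ((⁅L, L⁆).map π).comap π := by
    rw [Subgroup.mem_comap, ← h2]; exact h1.2
  rw [Subgroup.comap_map_eq, QuotientGroup.ker_mk'] at h3
  exact h3

end transport

section transferLemma

/-- for a normal `p`-subgroup `P` inside the Sylow `p`-subgroup `S`: `P ∩ H' ≤ [P, H] S'` -/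
theorem normal_inf_commutator_le {H : Type*} [Group H] [Finite H] {p : ℕ} [Fact p.Prime]
    (S : Sylow p H) (P : Subgroup H) [hPn : P.Normal] (hPS : P ≤ (S : Subgroup H)) :
    P ⊓ commutator H ≤ ⁅P, (⊤ : Subgroup H)⁆ ⊔ ⁅(S : Subgroup H), (S : Subgroup H)⁆ := by
  set Z : Subgroup H := ⁅P, (⊤ : Subgroup H)⁆ with hZ
  haveI hZn : Z.Normal := by rw [hZ]; infer_instance
  set π := QuotientGroup.mk' Z with hπ
  have hπs : Function.Surjective π := QuotientGroup.mk'_surjective Z
  set St := (S : Subgroup H).map π with hSt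
  intro z hz
  have hcent : ∀ h : H ⧸ Z, h * π z = π z * h := by
    intro h
    obtain ⟨h, rfl⟩ := hπs h
    rw [← map_mul, ← map_mul]
    apply (QuotientGroup.eq).mpr
    have e : (h * z)⁻¹ * (z * h) = ⁅z⁻¹, h⁻¹⁆ := by
      rw [commutatorElement_def]; group
    rw [e]
    exact Subgroup.commutator_mem_commutator (P.inv_mem hz.1) (Subgroup.mem_top _)
  have hcentk : ∀ (k : ℕ) (h : H ⧸ Z), h * (π z) ^ k = (π z) ^ k * h := by
    intro k h
    induction k with
    | zero => simp
    | succ k ih => rw [pow_succ, ← mul_assoc, ih, mul_assoc, hcent, mul_assoc]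
  let ϕ : St →* Abelianization St := Abelianization.of
  have key : ∀ (k : ℕ) (g₀ : H ⧸ Z), g₀⁻¹ * (π z) ^ k * g₀ ∈ St →
      g₀⁻¹ * (π z) ^ k * g₀ = (π z) ^ k := by
    intro k g₀ _
    rw [mul_assoc, ← hcentk k g₀, ← mul_assoc, inv_mul_cancel, one_mul]
  have h1 := MonoidHom.transfer_eq_pow ϕ (π z) key
  have h2 : MonoidHom.transfer ϕ (π z) = 1 := by
    have hzc : π z ∈ commutator (H ⧸ Z) := by
      have : (commutator H).map π ≤ commutator (H ⧸ Z) := by
        rw [commutator_def, commutator_def, Subgroup.map_commutator]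
        exact Subgroup.commutator_mono le_top le_top
      exact this ⟨z, hz.2, rfl⟩
    exact Abelianization.commutator_subset_ker _ hzc
  rw [h1] at h2
  have h3 : (π z) ^ St.index ∈ ⁅St, St⁆ := by
    have h4 : (⟨(π z) ^ St.index, MonoidHom.transfer_eq_pow_aux (π z) key⟩ : St) ∈ commutator St := by
      rw [← Abelianization.ker_of]; exact h2
    have h5 : ⁅St, St⁆ = (commutator St).map St.subtype := by
      rw [commutator_def, Subgroup.map_commutator, ← MonoidHom.range_eq_map, Subgroup.range_subtype]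
    rw [h5]
    exact ⟨_, h4, rfl⟩
  have h6 : z ^ St.index ∈ ⁅(S : Subgroup H), (S : Subgroup H)⁆ ⊔ Z := by
    have h7 : ⁅St, St⁆ = (⁅(S : Subgroup H), (S : Subgroup H)⁆).map π := by
      rw [Subgroup.map_commutator]
    rw [h7, ← map_pow] at h3
    have h8 : z ^ St.index ∈ ((⁅(S : Subgroup H), (S : Subgroup H)⁆).map π).comap π := h3
    rw [Subgroup.comap_map_eq, QuotientGroup.ker_mk'] at h8
    exact h8
  -- `z` is a power of `z ^ m`
  have hcop : Nat.Coprime St.index (orderOf z) := by
    obtain ⟨k, hk⟩ := (S.2.to_le hPS) ⟨z, hz.1⟩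
    have hord : orderOf z ∣ p ^ k := by
      apply orderOf_dvd_of_pow_eq_one
      have := congrArg Subtype.val hk
      simpa using this
    have hp : p.Prime := Fact.out
    have h9 : Nat.Coprime St.index p := by
      have h10 : ¬ p ∣ St.index := fun hdvd =>
        S.not_dvd_index (dvd_trans hdvd (Subgroup.index_map_dvd _ hπs))
      exact ((Nat.Prime.coprime_iff_not_dvd hp).mpr h10).symm
    exact Nat.Coprime.coprime_dvd_right hord (Nat.Coprime.pow_right k h9)
  obtain ⟨m, hm⟩ := exists_pow_eq_self_of_coprime hcop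
  rw [← hm, sup_comm]
  exact Subgroup.pow_mem _ h6 m

end transferLemma

section aux
variable {H : Type*} [Group H] {p : ℕ} [Fact p.Prime]

/-- a conjugacy functor value at a `p`-subgroup is normalized by the subgroup's normalizer -/
theorem normalizer_le_normalizer_of_isConjugacyFunctor {W' : Subgroup H → Subgroup H}
    (hW' : Cfsg.IsConjugacyFunctor p W') {T : Subgroup H} (hT : IsPGroup p T) :
    Subgroup.normalizer (T : Set H) ≤ Subgroup.normalizer ((W' T : Subgroup H) : Set H) := by
  intro g hg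
  apply mem_normalizer_of_cj_eq
  have h1 := (hW' T hT).2.2 g
  have h2 : T.map (MulAut.conj g).toMonoidHom = T := cj_eq_of_mem_normalizer hg
  rw [h2] at h1
  exact h1.symm

/-- `⁅M D, M D⁆ ≤ ⁅M, M⁆ D` for `D` normal -/
theorem commutator_sup_normal_le (M D : Subgroup H) [D.Normal] :
    ⁅M ⊔ D, M ⊔ D⁆ ≤ ⁅M, M⁆ ⊔ D := by
  set π := QuotientGroup.mk' D with hπ
  have h1 : (M ⊔ D).map π = M.map π := by
    rw [Subgroup.map_sup]
    have : D.map π = ⊥ := by
      rw [Subgroup.map_eq_bot_iff, QuotientGroup.ker_mk']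
    rw [this, sup_bot_eq]
  have h2 : (⁅M ⊔ D, M ⊔ D⁆).map π = (⁅M, M⁆).map π := by
    rw [Subgroup.map_commutator, Subgroup.map_commutator, h1]
  calc ⁅M ⊔ D, M ⊔ D⁆ ≤ ((⁅M ⊔ D, M ⊔ D⁆).map π).comap π := Subgroup.le_comap_map _ _
    _ = ⁅M, M⁆ ⊔ D := by rw [h2, Subgroup.comap_map_eq, QuotientGroup.ker_mk']

/-- a `p`-element of `M` lying in `M' D`, `D` a normal `p'`-subgroup, lies in `M'` -/
theorem mem_commutator_of_mem_sup_coprime [Finite H] (M D : Subgroup H) [D.Normal]
    (hD : (Nat.card D).Coprime p) {x : H} (hxM : x ∈ M) (hxp : ∃ k : ℕ, x ^ p ^ k = 1)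
    (hx : x ∈ ⁅M, M⁆ ⊔ D) : x ∈ ⁅M, M⁆ := by
  rw [Subgroup.mem_sup_of_normal_right] at hx
  obtain ⟨m, hm, d, hd, hmd⟩ := hx
  have hmM : m ∈ M := Subgroup.commutator_le_self M hm   -- placeholder
  have hdM : d ∈ M := by
    have : d = m⁻¹ * x := by rw [← hmd]; group
    rw [this]; exact M.mul_mem (M.inv_mem hmM) hxM
  have h5 : ⁅M, M⁆ = (commutator ↥M).map M.subtype := by
    rw [commutator_def, Subgroup.map_commutator, ← MonoidHom.range_eq_map, Subgroup.range_subtype]
  have hb : (⟨m, hmM⟩ : ↥M) ∈ commutator ↥M := by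
    rw [h5] at hm
    obtain ⟨b, hb, hbm⟩ := hm
    have : b = ⟨m, hmM⟩ := Subtype.ext hbm
    rwa [← this]
  have hof : Abelianization.of (⟨x, hxM⟩ : ↥M) = Abelianization.of (⟨d, hdM⟩ : ↥M) := by
    have e : (⟨x, hxM⟩ : ↥M) = ⟨m, hmM⟩ * ⟨d, hdM⟩ := Subtype.ext hmd.symm
    rw [e, map_mul]
    have : Abelianization.of (⟨m, hmM⟩ : ↥M) = 1 := by
      rw [← MonoidHom.mem_ker, Abelianization.ker_of]; exact hb
    rw [this, one_mul]
  obtain ⟨k, hk⟩ := hxp
  have h1 : orderOf (Abelianization.of (⟨x, hxM⟩ : ↥M)) ∣ p ^ k := by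
    apply orderOf_dvd_of_pow_eq_one
    rw [← map_pow]
    have : (⟨x, hxM⟩ : ↥M) ^ p ^ k = 1 := Subtype.ext (by simpa using hk)
    rw [this, map_one]
  have h2 : orderOf (Abelianization.of (⟨x, hxM⟩ : ↥M)) ∣ Nat.card D := by
    rw [hof]
    refine dvd_trans (orderOf_map_dvd _ _) ?_
    rw [Subgroup.orderOf_mk]
    exact Subgroup.orderOf_dvd_natCard D hd
  have h3 : orderOf (Abelianization.of (⟨x, hxM⟩ : ↥M)) = 1 := by
    have hc : Nat.Coprime (p ^ k) (Nat.card D) := (Nat.Coprime.pow_right k hD).symm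
    exact Nat.eq_one_of_dvd_coprimes hc h1 h2
  have h4 : (⟨x, hxM⟩ : ↥M) ∈ commutator ↥M := by
    rw [← Abelianization.ker_of, MonoidHom.mem_ker]
    exact orderOf_eq_one_iff.mp h3
  rw [h5]
  exact ⟨_, h4, rfl⟩

/-- if `O_{p'}(H) = 1` and `C_S(P) ≤ P` for `P = O_p(H)`, then `C_H(P) ≤ P` -/
theorem centralizer_pCore_le_of_sylow_inf [Finite H] (S : Sylow p H)
    (hD : Cfsg.pPrimeCore p H = ⊥)
    (hCS : (S : Subgroup H) ⊓ Subgroup.centralizer ((Cfsg.pCore p H : Subgroup H) : Set H) ≤
      Cfsg.pCore p H) :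
    Subgroup.centralizer ((Cfsg.pCore p H : Subgroup H) : Set H) ≤ Cfsg.pCore p H := by
  set P := Cfsg.pCore p H with hP
  haveI hPn : P.Normal := Cfsg.Agent.Lib.Helper1.pCore_normal p H
  set C := Subgroup.centralizer (P : Set H) with hC
  haveI hCn : C.Normal := Subgroup.normal_centralizer
  have hZidx : ¬ p ∣ ((S : Subgroup H) ⊓ C).relIndex C :=
    sylow_inf_relIndex S ⊤ C le_top le_top (fun h _ k hk => hCn.conj_mem k hk h)
  have hZp : IsPGroup p (((S : Subgroup H) ⊓ C).subgroupOf C) :=
    (S.2.to_le inf_le_left).comap_subtype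
  let PC : Sylow p C := hZp.toSylow hZidx
  have hcentral : ∀ x ∈ (PC : Subgroup C), ∀ c : C, c * x = x * c := by
    intro x hx c
    have hx' : (x : H) ∈ (S : Subgroup H) ⊓ C := by
      have : x ∈ ((S : Subgroup H) ⊓ C).subgroupOf C := hx
      rwa [mem_subgroupOf] at this
    have hxP : (x : H) ∈ P := hCS hx'
    have := (mem_centralizer_iff.mp c.2) (x : H) hxP
    exact Subtype.ext this.symm
  have hcard := card_pPrimeCore_mul_of_central_sylow PC hcentral
  have hchar : (Cfsg.pPrimeCore p C).Characteristic := pPrimeCore_characteristic p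
  have hnorm : ((Cfsg.pPrimeCore p C).map C.subtype).Normal :=
    ConjAct.normal_of_characteristic_of_normal
  have hO'card : Nat.card ↥((Cfsg.pPrimeCore p C).map C.subtype) = Nat.card ↥(Cfsg.pPrimeCore p C) :=
    Subgroup.card_map_of_injective (Subgroup.subtype_injective _)
  have hcop : (Nat.card ↥((Cfsg.pPrimeCore p C).map C.subtype)).Coprime p := by
    rw [hO'card]; exact pPrimeCore_coprime p
  have hle : (Cfsg.pPrimeCore p C).map C.subtype ≤ Cfsg.pPrimeCore p H :=
    le_pPrimeCore p _ hnorm hcop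
  rw [hD, le_bot_iff] at hle
  have hbot : Cfsg.pPrimeCore p C = ⊥ :=
    (Subgroup.map_eq_bot_iff_of_injective _ C.subtype_injective).mp hle
  rw [hbot, Subgroup.card_bot, one_mul] at hcard
  have htop : (PC : Subgroup C) = ⊤ := (Subgroup.card_eq_iff_eq_top _).mp hcard
  intro c hc
  have h1 : (⟨c, hc⟩ : C) ∈ (PC : Subgroup C) := by rw [htop]; trivial
  have h2 : (⟨c, hc⟩ : C) ∈ ((S : Subgroup H) ⊓ C).subgroupOf C := h1
  rw [mem_subgroupOf] at h2
  exact hCS h2

end aux

section focal
variable {p : ℕ} [Fact p.Prime] (W : ∀ (Q : Type u) [Group Q], Subgroup Q)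
  (hW : Cfsg.IsCharPFunctor.{u} p W)

/-- the focal condition of a group `Q` with `C_Q(O_p(Q)) ≤ O_p(Q)` -/
def FocalHyp (p : ℕ) (W : ∀ (Q : Type u) [Group Q], Subgroup Q) (Q : Type u) [Group Q] : Prop :=
  Subgroup.centralizer ((Cfsg.pCore p Q : Subgroup Q) : Set Q) ≤ Cfsg.pCore p Q →
    ∀ T : Sylow p Q, Cfsg.pCore p Q ⊓ commutator Q =
      Cfsg.pCore p Q ⊓
        ⁅Subgroup.normalizer ((Cfsg.inducedFunctor (G := Q) W (T : Subgroup Q) : Subgroup Q) : Set Q),
          Subgroup.normalizer ((Cfsg.inducedFunctor (G := Q) W (T : Subgroup Q) : Subgroup Q) : Set Q)⁆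

include hW in
/-- the focal condition is invariant under isomorphism -/
theorem focalHyp_of_equiv {Q Q' : Type u} [Group Q] [Group Q'] [Finite Q] (e : Q ≃* Q')
    (h : FocalHyp p W Q) : FocalHyp p W Q' := by
  intro hC' T'
  have hcore : (Cfsg.pCore p Q).map e.toMonoidHom = Cfsg.pCore p Q' := pCore_map_equiv' p e
  have hC : Subgroup.centralizer ((Cfsg.pCore p Q : Subgroup Q) : Set Q) ≤ Cfsg.pCore p Q := by
    intro x hx
    have h1 : e x ∈ Subgroup.centralizer ((Cfsg.pCore p Q' : Subgroup Q') : Set Q') := by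
      rw [Subgroup.mem_centralizer_iff]
      intro y' hy'
      rw [SetLike.mem_coe, ← hcore] at hy'
      obtain ⟨y, hy, rfl⟩ := hy'
      have := (Subgroup.mem_centralizer_iff.mp hx) y hy
      show e y * e x = e x * e y
      rw [← map_mul, ← map_mul, this]
    have h2 := hC' h1
    rw [← hcore] at h2
    obtain ⟨x', hx', hxx⟩ := h2
    have : x' = x := e.injective hxx
    rwa [← this]
  let T : Sylow p Q := T'.comapOfInjective e.toMonoidHom e.injective
    (by intro y _; exact ⟨e.symm y, e.apply_symm_apply y⟩)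
  have hTcoe : (T : Subgroup Q) = (T' : Subgroup Q').comap e.toMonoidHom :=
    Sylow.coe_comapOfInjective _ _ _ _
  have hTmap : (T : Subgroup Q).map e.toMonoidHom = (T' : Subgroup Q') := by
    rw [hTcoe]
    exact Subgroup.map_comap_eq_self_of_surjective e.surjective _
  have h1 := congrArg (Subgroup.map e.toMonoidHom) (h hC T)
  have htop : (⊤ : Subgroup Q).map e.toMonoidHom = ⊤ :=
    Subgroup.map_top_of_surjective _ e.surjective
  rw [Subgroup.map_inf _ _ _ e.injective, Subgroup.map_inf _ _ _ e.injective,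
    Subgroup.map_commutator, Subgroup.map_equiv_normalizer_eq,
    ← inducedFunctor_map_equiv W hW e T T.2, hTmap, hcore, commutator_def,
    Subgroup.map_commutator, htop] at h1
  exact h1

end focal

section key
variable {p : ℕ} [Fact p.Prime] (W : ∀ (Q : Type u) [Group Q], Subgroup Q)
  (hW : Cfsg.IsCharPFunctor.{u} p W)

include hW in
/-- for a normal `p'`-subgroup `D`: the preimage of `N_{H/D}(W(SD/D))` lies in `N_H(W(S)) D` -/
theorem comap_normalizer_le_of_coprime {H : Type u} [Group H] [Finite H] (D : Subgroup H)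
    [hDn : D.Normal] (hD : (Nat.card D).Coprime p) (S : Sylow p H) :
    (Subgroup.normalizer ((Cfsg.inducedFunctor W ((S : Subgroup H).map (QuotientGroup.mk' D)) :
        Subgroup (H ⧸ D)) : Set (H ⧸ D))).comap (QuotientGroup.mk' D) ≤
      Subgroup.normalizer ((Cfsg.inducedFunctor W (S : Subgroup H) : Subgroup H) : Set H) ⊔ D := by
  set π := QuotientGroup.mk' D with hπ
  set U := Cfsg.inducedFunctor W (S : Subgroup H) with hU
  have hW' := isConjugacyFunctor_induced W hW H
  have hUS : U ≤ S := (hW' S S.2).1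
  have hUp : IsPGroup p U := S.2.to_le hUS
  have hdisj : (S : Subgroup H) ⊓ D = ⊥ := by
    apply disjoint_iff.mp
    apply Subgroup.disjoint_of_coprime_natCard
    obtain ⟨k, hk⟩ := IsPGroup.iff_card.mp S.2
    rw [hk]
    exact (Nat.Coprime.pow_right k hD).symm
  have hinj : Set.InjOn π ((S : Subgroup H) : Set H) := by
    intro a ha b hb hab
    have h1 : a⁻¹ * b ∈ D := QuotientGroup.eq.mp hab
    have h2 : a⁻¹ * b ∈ (S : Subgroup H) := (S : Subgroup H).mul_mem ((S : Subgroup H).inv_mem ha) hb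
    have h3 : a⁻¹ * b ∈ (S : Subgroup H) ⊓ D := ⟨h2, h1⟩
    rw [hdisj, Subgroup.mem_bot] at h3
    exact (inv_mul_eq_one.mp h3)
  have hmapW : Cfsg.inducedFunctor W ((S : Subgroup H).map π) = U.map π :=
    inducedFunctor_map_of_injOn_set W hW π S S.2 hinj
  intro x hx
  rw [Subgroup.mem_comap, hmapW] at hx
  set Y := U ⊔ D with hY
  have hxU : cj x U ≤ Y := by
    rintro _ ⟨u, hu, rfl⟩
    have h1 : π (x * u * x⁻¹) ∈ U.map π := by
      have := (Subgroup.mem_normalizer_iff.mp hx (π u)).mp ⟨u, hu, rfl⟩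
      simpa using this
    have h2 : x * u * x⁻¹ ∈ (U.map π).comap π := h1
    rw [Subgroup.comap_map_eq, QuotientGroup.ker_mk'] at h2
    simpa [MulAut.conj_apply] using h2
  have hidx : ¬ p ∣ U.relIndex Y := by
    have h1 : Nat.card D * D.relIndex Y = Nat.card Y := card_mul_relIndex_of_le le_sup_right
    have h2 : D.relIndex Y = D.relIndex U := Subgroup.relIndex_sup_right U D
    have h3 : D.relIndex U ∣ Nat.card U := Subgroup.relIndex_dvd_card D U
    have h4 : Nat.card U * U.relIndex Y = Nat.card Y := card_mul_relIndex_of_le le_sup_left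
    have h5 : Nat.card U * U.relIndex Y ∣ Nat.card U * Nat.card D := by
      rw [h4, ← h1, h2, mul_comm (Nat.card U)]
      exact Nat.mul_dvd_mul_left _ h3
    have h6 : U.relIndex Y ∣ Nat.card D := Nat.dvd_of_mul_dvd_mul_left Nat.card_pos h5
    intro hdvd
    have hp : p.Prime := Fact.out
    exact (Nat.Prime.coprime_iff_not_dvd hp).mp hD.symm (dvd_trans hdvd h6)
  obtain ⟨k, hkY, hk⟩ := exists_conj_mem_of_relIndex U Y (cj x U) hUp hidx hxU (hUp.map _)
  have hkx : k * x ∈ Subgroup.normalizer (U : Set H) := by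
    apply mem_normalizer_of_cj_eq
    apply cj_eq_of_le
    rw [← cj_mul]
    rintro _ ⟨v, hv, rfl⟩
    simpa [MulAut.conj_apply] using hk v hv
  have hYle : Y ≤ Subgroup.normalizer (U : Set H) ⊔ D := sup_le_sup_right Subgroup.le_normalizer D
  have e : x = k⁻¹ * (k * x) := by group
  rw [e]
  exact Subgroup.mul_mem _ (Subgroup.inv_mem _ (hYle hkY)) (Subgroup.mem_sup_left hkx)

include hW in
/-- the inductive step for a group with `O_p(H) ≠ 1` -/
theorem inf_commutator_le_of_pCore_ne_bot {H : Type u} [Group H] [Finite H] (S : Sylow p H)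
    (ihsub : ∀ N₁ : Subgroup H, N₁ ≠ ⊤ →
      Cfsg.ControlsTransferIn p (Cfsg.inducedFunctor (G := H) W) N₁)
    (ihquot : ∀ (Z : Subgroup H) [Z.Normal], Z ≠ ⊥ →
      Cfsg.ControlsTransferIn p (Cfsg.inducedFunctor (G := H ⧸ Z) W) ⊤)
    (hH : FocalHyp p W H) (hP : Cfsg.pCore p H ≠ ⊥) :
    (S : Subgroup H) ⊓ commutator H ≤
      ⁅Subgroup.normalizer ((Cfsg.inducedFunctor W (S : Subgroup H) : Subgroup H) : Set H),
        Subgroup.normalizer ((Cfsg.inducedFunctor W (S : Subgroup H) : Subgroup H) : Set H)⁆ := by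
  have hW' := isConjugacyFunctor_induced W hW H
  set M := Subgroup.normalizer ((Cfsg.inducedFunctor W (S : Subgroup H) : Subgroup H) : Set H) with hM
  have hSM : (S : Subgroup H) ≤ M :=
    Subgroup.le_normalizer.trans (normalizer_le_normalizer_of_isConjugacyFunctor hW' S.2)
  have hSpow : ∀ x ∈ (S : Subgroup H), ∃ k : ℕ, x ^ p ^ k = 1 := by
    intro x hx
    obtain ⟨k, hk⟩ := S.2 ⟨x, hx⟩
    exact ⟨k, by simpa using congrArg Subtype.val hk⟩
  have hsub : ∀ N₁ : Subgroup H, N₁ ≠ ⊤ → (S : Subgroup H) ≤ N₁ →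
      (S : Subgroup H) ⊓ ⁅N₁, N₁⁆ ≤ ⁅M, M⁆ := by
    intro N₁ hne hSN
    have hidx : ¬ p ∣ (S : Subgroup H).relIndex N₁ := fun hdvd =>
      S.not_dvd_index (dvd_trans hdvd (Subgroup.relIndex_dvd_index_of_le hSN))
    have heq := controlsTransferIn_sylow _ hW' (ihsub N₁ hne) hSN S.2 hidx
    rw [heq]
    exact inf_le_right.trans (Subgroup.commutator_mono inf_le_right inf_le_right)
  by_cases hD : Cfsg.pPrimeCore p H = ⊥
  · set P := Cfsg.pCore p H with hPdef
    haveI hPn : P.Normal := Cfsg.Agent.Lib.Helper1.pCore_normal p H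
    have hPp : IsPGroup p P := Cfsg.Agent.Lib.Helper1.pCore_isPGroup p H
    have hPS : P ≤ (S : Subgroup H) := Cfsg.Agent.Lib.Helper1.pCore_le_sylow S
    by_cases hSP : (S : Subgroup H) = P
    · have hSn : (S : Subgroup H).Normal := hSP ▸ hPn
      have hMtop : M = ⊤ := by
        rw [eq_top_iff]
        have h1 : Subgroup.normalizer ((S : Subgroup H) : Set H) = ⊤ :=
          Subgroup.normalizer_eq_top_iff.mpr hSn
        rw [← h1]
        exact normalizer_le_normalizer_of_isConjugacyFunctor hW' S.2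
      rw [hMtop, ← commutator_def]
      exact inf_le_right
    · have h1 := inf_commutator_le_of_quotient W hW P S (ihquot P hP)
      set π := QuotientGroup.mk' P with hπ
      have hπs : Function.Surjective π := QuotientGroup.mk'_surjective P
      set Sb := (S : Subgroup H).map π with hSb
      have hWq := isConjugacyFunctor_induced W hW (H ⧸ P)
      set Nb := Subgroup.normalizer ((Cfsg.inducedFunctor W Sb : Subgroup (H ⧸ P)) : Set (H ⧸ P))
        with hNb
      set L := Nb.comap π with hL
      have hSL : (S : Subgroup H) ≤ L := by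
        intro s hs
        show π s ∈ Nb
        exact (Subgroup.le_normalizer.trans
          (normalizer_le_normalizer_of_isConjugacyFunctor hWq (S.2.map π))) ⟨s, hs, rfl⟩
      have hLne : L ≠ ⊤ := by
        intro hLtop
        have hNbtop : Nb = ⊤ := by
          rw [eq_top_iff]
          intro y _
          obtain ⟨x, rfl⟩ := hπs y
          have : x ∈ L := by rw [hLtop]; trivial
          exact this
        have hVn : (Cfsg.inducedFunctor W Sb : Subgroup (H ⧸ P)).Normal :=
          Subgroup.normalizer_eq_top_iff.mp hNbtop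
        set V := (Cfsg.inducedFunctor W Sb : Subgroup (H ⧸ P)).comap π with hV
        have hVn' : V.Normal := hVn.comap π
        have hWSb : IsPGroup p (Cfsg.inducedFunctor W Sb : Subgroup (H ⧸ P)) :=
          (S.2.map π).to_le (hWq Sb (S.2.map π)).1
        have hVp : IsPGroup p V := by
          apply hWSb.comap_of_ker_isPGroup
          rw [hπ, QuotientGroup.ker_mk']
          exact hPp
        have hVP : V ≤ P := Cfsg.Agent.Lib.Helper1.le_pCore hVn' hVp
        have hbot : (Cfsg.inducedFunctor W Sb : Subgroup (H ⧸ P)) = ⊥ := by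
          rw [← Subgroup.map_comap_eq_self_of_surjective hπs (Cfsg.inducedFunctor W Sb), eq_bot_iff]
          calc V.map π ≤ P.map π := Subgroup.map_mono hVP
            _ = ⊥ := by rw [Subgroup.map_eq_bot_iff, QuotientGroup.ker_mk']
        have hSbbot : Sb = ⊥ := by
          by_contra h
          exact (hWq Sb (S.2.map π)).2.1 h hbot
        have hSleP : (S : Subgroup H) ≤ P := by
          rw [hSb, Subgroup.map_eq_bot_iff, QuotientGroup.ker_mk'] at hSbbot
          exact hSbbot
        exact hSP (le_antisymm hSleP hPS)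
      have h2 := hsub L hLne hSL
      have hPH : P ⊓ commutator H ≤ ⁅M, M⁆ := by
        by_cases hC : Subgroup.centralizer (P : Set H) ≤ P
        · rw [hH hC S]; exact inf_le_right
        · set C := Subgroup.centralizer (P : Set H) with hCdef
          haveI hCn : C.Normal := Subgroup.normal_centralizer
          have hCS : ¬ ((S : Subgroup H) ⊓ C ≤ P) := fun h =>
            hC (centralizer_pCore_le_of_sylow_inf S hD h)
          set N := P ⊔ C with hN
          haveI hNn : N.Normal := inferInstance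
          obtain ⟨R₀, hR₀⟩ := Cfsg.Agent.Lib.Helper16.exists_sylow_of_normal_inf S N
          have hfr := Sylow.normalizer_sup_eq_top R₀
          rw [hR₀] at hfr
          set R := (S : Subgroup H) ⊓ N with hR
          set N₂ := Subgroup.normalizer (R : Set H) with hN₂
          have hPR : P ≤ R := le_inf hPS le_sup_left
          have hSN₂ : (S : Subgroup H) ≤ N₂ := by
            intro s hs
            rw [hN₂, Subgroup.mem_normalizer_iff]
            intro y
            constructor
            · rintro ⟨hyS, hyN⟩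
              exact ⟨(S : Subgroup H).mul_mem ((S : Subgroup H).mul_mem hs hyS)
                ((S : Subgroup H).inv_mem hs), hNn.conj_mem y hyN s⟩
            · rintro ⟨h1, h2⟩
              refine ⟨?_, ?_⟩
              · have e : y = s⁻¹ * (s * y * s⁻¹) * s := by group
                rw [e]
                exact (S : Subgroup H).mul_mem ((S : Subgroup H).mul_mem
                  ((S : Subgroup H).inv_mem hs) h1) hs
              · have := hNn.conj_mem _ h2 s⁻¹
                have e : y = s⁻¹ * (s * y * s⁻¹) * s⁻¹⁻¹ := by group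
                rw [e]; exact this
          have hN₂ne : N₂ ≠ ⊤ := by
            intro htop
            have hRn : R.Normal := Subgroup.normalizer_eq_top_iff.mp htop
            have hRP : R ≤ P := Cfsg.Agent.Lib.Helper1.le_pCore hRn (S.2.to_le inf_le_left)
            exact hCS ((inf_le_inf_left _ le_sup_right).trans hRP)
          have h3 := hsub N₂ hN₂ne hSN₂
          have hN₂C : N₂ ⊔ C = ⊤ := by
            rw [eq_top_iff, ← hfr]
            exact sup_le le_sup_left
              (sup_le ((hPR.trans Subgroup.le_normalizer).trans le_sup_left) le_sup_right)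
          have hPcomm : ⁅P, (⊤ : Subgroup H)⁆ ≤ ⁅P, N₂⁆ := by
            rw [Subgroup.commutator_le]
            intro x hx h _
            have hh : h ∈ N₂ ⊔ C := by rw [hN₂C]; trivial
            rw [Subgroup.mem_sup_of_normal_right] at hh
            obtain ⟨n, hn, c, hc, rfl⟩ := hh
            have hcx : x⁻¹ * c = c * x⁻¹ :=
              (Subgroup.mem_centralizer_iff.mp hc) x⁻¹ (P.inv_mem hx)
            have e : ⁅x, n * c⁆ = ⁅x, n⁆ := by
              rw [commutatorElement_def, commutatorElement_def]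
              calc x * (n * c) * x⁻¹ * (n * c)⁻¹ = x * n * (c * x⁻¹) * c⁻¹ * n⁻¹ := by group
                _ = x * n * (x⁻¹ * c) * c⁻¹ * n⁻¹ := by rw [hcx]
                _ = x * n * x⁻¹ * n⁻¹ := by group
            rw [e]
            exact Subgroup.commutator_mem_commutator hx hn
          have h4 : ⁅P, N₂⁆ ≤ ⁅M, M⁆ := by
            refine le_trans (le_inf ?_ ?_) h3
            · exact (Subgroup.commutator_le_left P N₂).trans hPS
            · exact Subgroup.commutator_mono (hPR.trans Subgroup.le_normalizer) le_rfl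
          refine (normal_inf_commutator_le S P hPS).trans (sup_le (hPcomm.trans h4) ?_)
          exact Subgroup.commutator_mono hSM hSM
      intro x hx
      have h3 := h1 hx
      rw [Subgroup.mem_sup_of_normal_right] at h3
      obtain ⟨y, hy, z, hz, rfl⟩ := h3
      have hyS : y ∈ (S : Subgroup H) := by
        have e : y = (y * z) * z⁻¹ := by group
        rw [e]
        exact (S : Subgroup H).mul_mem hx.1 ((S : Subgroup H).inv_mem (hPS hz))
      have hyM : y ∈ ⁅M, M⁆ := h2 ⟨hyS, hy⟩
      have hyH : y ∈ commutator H := by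
        rw [commutator_def]
        exact Subgroup.commutator_mono le_top le_top hy
      have hzH : z ∈ commutator H := by
        have e : z = y⁻¹ * (y * z) := by group
        rw [e]
        exact Subgroup.mul_mem _ (Subgroup.inv_mem _ hyH) hx.2
      exact Subgroup.mul_mem _ hyM (hPH ⟨hz, hzH⟩)
  · set D := Cfsg.pPrimeCore p H with hDdef
    haveI hDn : D.Normal := Cfsg.Agent.Lib.Helper1.pPrimeCore_normal p H
    have hDcop : (Nat.card D).Coprime p := pPrimeCore_coprime p
    have h1 := inf_commutator_le_of_quotient W hW D S (ihquot D hD)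
    have h3 := comap_normalizer_le_of_coprime W hW D hDcop S
    intro x hx
    have h2 := h1 hx
    have h4 : x ∈ ⁅M, M⁆ ⊔ D := by
      have h5 : ⁅(Subgroup.normalizer ((Cfsg.inducedFunctor W ((S : Subgroup H).map
          (QuotientGroup.mk' D)) : Subgroup (H ⧸ D)) : Set (H ⧸ D))).comap (QuotientGroup.mk' D),
          (Subgroup.normalizer ((Cfsg.inducedFunctor W ((S : Subgroup H).map
          (QuotientGroup.mk' D)) : Subgroup (H ⧸ D)) : Set (H ⧸ D))).comap (QuotientGroup.mk' D)⁆ ⊔ D ≤
          ⁅M, M⁆ ⊔ D :=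
        sup_le ((Subgroup.commutator_mono h3 h3).trans (commutator_sup_normal_le M D)) le_sup_right
      exact h5 h2
    exact mem_commutator_of_mem_sup_coprime M D hDcop (hSM hx.1) (hSpow x hx.1) h4

include hW in
/-- **Glauberman**: the focal condition in all constrained sections gives control of transfer -/
theorem controlsTransferIn_top_of_focalHyp : ∀ (n : ℕ) (H : Type u) [Group H] [Finite H],
    Nat.card H = n → AllSections (fun Q _ => Finite Q → FocalHyp p W Q) H →
    Cfsg.ControlsTransferIn p (Cfsg.inducedFunctor (G := H) W) ⊤ := by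
  intro n
  induction n using Nat.strong_induction_on with
  | _ n ih =>
  intro H _ _ hcard hgood
  have hΦ : ∀ (Q Q' : Type u) [Group Q] [Group Q'], (Q ≃* Q') →
      (Finite Q → FocalHyp p W Q) → (Finite Q' → FocalHyp p W Q') := by
    intro Q Q' _ _ e h hfin
    haveI : Finite Q := Finite.of_equiv Q' e.symm.toEquiv
    exact focalHyp_of_equiv W hW e (h inferInstance)
  obtain ⟨S⟩ : Nonempty (Sylow p H) := inferInstance
  have hW' := isConjugacyFunctor_induced W hW H
  have ihsub : ∀ N₁ : Subgroup H, N₁ ≠ ⊤ →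
      Cfsg.ControlsTransferIn p (Cfsg.inducedFunctor (G := H) W) N₁ := by
    intro N₁ hne
    apply controlsTransferIn_of_subtype W hW
    apply ih (Nat.card N₁) _ ↥N₁ rfl (AllSections.subgroup _ hΦ hgood N₁)
    rw [← hcard]
    exact lt_of_le_of_ne (Subgroup.card_le_card_group N₁)
      (fun h => hne ((Subgroup.card_eq_iff_eq_top N₁).mp h))
  have ihquot : ∀ (Z : Subgroup H) [Z.Normal], Z ≠ ⊥ →
      Cfsg.ControlsTransferIn p (Cfsg.inducedFunctor (G := H ⧸ Z) W) ⊤ := by
    intro Z _ hne
    apply ih (Nat.card (H ⧸ Z)) _ (H ⧸ Z) rfl (AllSections.quotient _ hΦ hgood Z)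
    rw [← hcard, ← Subgroup.index_eq_card, ← Z.index_mul_card]
    have h1 : 1 < Nat.card Z := (Subgroup.one_lt_card_iff_ne_bot Z).mpr hne
    have h0 : 0 < Z.index := Nat.pos_of_ne_zero Subgroup.index_ne_zero_of_finite
    nlinarith
  have hH : FocalHyp p W H := AllSections.self _ hΦ hgood inferInstance
  apply controlsTransferIn_top_of_wellPlaced S _ hW'
  intro T hTne hTwp
  by_cases hN : Subgroup.normalizer (T : Set H) = ⊤
  · rw [hN]
    have hTn : T.Normal := Subgroup.normalizer_eq_top_iff.mp hN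
    have hTp : IsPGroup p T := S.2.to_le hTwp.1
    have hPne : Cfsg.pCore p H ≠ ⊥ := by
      intro h
      apply hTne
      rw [eq_bot_iff, ← h]
      exact Cfsg.Agent.Lib.Helper1.le_pCore hTn hTp
    have hkey := inf_commutator_le_of_pCore_ne_bot W hW S ihsub ihquot hH hPne
    refine ⟨S, le_top, S.2, ?_, ?_⟩
    · rw [Subgroup.relIndex_top_right]; exact S.not_dvd_index
    · rw [top_inf_eq]
      apply le_antisymm
      · exact le_inf inf_le_left (by rw [← commutator_def]; exact hkey)
      · exact inf_le_inf_left _ (Subgroup.commutator_mono le_top le_top)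
  · exact ihsub _ hN

end key

end Cfsg.Agent.Lib.Helper12
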