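import Mathlib
import Cfsg.Prelude.Def_ConjugacyFunctors
import Cfsg.Prelude.Def_LocalEven
import Cfsg.Agent.Lib.Helper12.FusionConvert
import Cfsg.Agent.Lib.Helper12.CentricControl
import Cfsg.Agent.Lib.Helper27.QdFusion
import Cfsg.Agent.Lib.Helper27.ZJFun
import Cfsg.Agent.Lib.Helper29.QdTheoremQ
import Cfsg.Agent.S0653

/-!
Helper lemmas (helper12): control of strong fusion by `Z(J)` inside an `SL₂(p)`-free subgroup of a finite
group, and the local-to-global theorem for `Z(J)` under local `SL₂(p)`-freeness.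
-/

set_option autoImplicit false
set_option linter.unusedSectionVars false
set_option linter.style.haveILetI false
open Subgroup

namespace Cfsg.Agent.Lib.Helper12

universe u

section localfunctor
variable {p : ℕ} [Fact p.Prime]

/-- local version of the section theorem: if `W(T)` is normal in every constrained section of the subgroup
`N` of `G`, then `W` controls strong fusion in `N` -/
theorem controlsStrongFusionIn_of_normal_in_sections {G : Type u} [Group G] [Finite G]
    (W : ∀ (Q : Type u) [Group Q], Subgroup Q) (hW : Cfsg.IsCharPFunctor.{u} p W) (N : Subgroup G)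
    (hloc : ∀ (K R : Subgroup ↥N) [(R.subgroupOf K).Normal],
      Subgroup.centralizer ((Cfsg.pCore p (↥K ⧸ R.subgroupOf K) : Subgroup (↥K ⧸ R.subgroupOf K)) :
        Set (↥K ⧸ R.subgroupOf K)) ≤ Cfsg.pCore p (↥K ⧸ R.subgroupOf K) →
      ∀ T : Sylow p (↥K ⧸ R.subgroupOf K),
        (Cfsg.inducedFunctor (G := (↥K ⧸ R.subgroupOf K)) W
          ((T : Subgroup (↥K ⧸ R.subgroupOf K)))).Normal) :
    Cfsg.ControlsStrongFusionIn p (Cfsg.inducedFunctor (G := G) W) N := by
  classical
  set 𝓦 : Set (∀ (Q : Type u) [Group Q], Subgroup Q) := {W} with h𝓦def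
  have h𝓦 : ∀ W' ∈ 𝓦, Cfsg.IsCharPFunctor.{u} p W' := by
    intro W' hW'
    have : W' = W := hW'
    rw [this]
    exact hW
  have hgood : AllSections (fun Q _ => Finite Q → FamFusHyp p 𝓦 Q) ↥N := by
    intro K' R' _ _ hC
    obtain ⟨T'⟩ : Nonempty (Sylow p (↥K' ⧸ R'.subgroupOf K')) := inferInstance
    apply familyControlsStrongFusionIn_top_of_fctl _ T'
    intro A x hA hAx
    have hn := hloc K' R' hC T'
    refine FCtl.single (Cfsg.inducedFunctor W) ⟨W, rfl, rfl⟩
      (Subgroup.mem_inf.mpr ⟨Subgroup.mem_top _, ?_⟩) hA hAx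
    rw [Subgroup.normalizer_eq_top_iff.mpr hn]
    trivial
  have hmain := familyControlsStrongFusionIn_top_of_famFusHyp 𝓦 h𝓦 _ ↥N rfl hgood
  have h2 := familyControlsStrongFusionIn_of_subtype 𝓦 h𝓦 N hmain
  obtain ⟨T, hTN, hTp, hidx, hctl⟩ := h2
  refine ⟨T, hTN, hTp, hidx, fun A h hh hA hAh => ?_⟩
  obtain ⟨c, hc, hag⟩ := fctl_iff_fin.mpr (hctl A h hh hA hAh)
  refine ⟨c, hc.mem_of_normalizer_le _ ?_, hag⟩
  intro W'' hW''
  obtain ⟨W', hW', hWW⟩ := hW''
  have e : W' = W := hW'
  rw [← hWW, e]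

end localfunctor

section qdlin
open Matrix Cfsg.Agent.Lib.Helper27.QdNatural Cfsg.Agent.Lib.Helper27.QdFusion

variable {p : ℕ} [hpF : Fact p.Prime]

/-- the linear part of an element of `Qd(p)` -/
noncomputable def qdLinFun (g : ↥(Cfsg.qd p)) : SpecialLinearGroup (Fin 2) (ZMod p) :=
  (exists_rep g).choose

theorem qdLinFun_eq (g : ↥(Cfsg.qd p)) (A : SpecialLinearGroup (Fin 2) (ZMod p))
    (u : Fin 2 → ZMod p) (hg : g.1 = affSL A u) : qdLinFun g = A := by
  obtain ⟨w, hw⟩ := (exists_rep g).choose_spec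
  have hw' : affSL A u = affSL (exists_rep g).choose w := hg.symm.trans hw
  exact (affSL_inj_left hw').symm

/-- the projection of `Qd(p)` onto `SL₂(p)` -/
noncomputable def qdLin : ↥(Cfsg.qd p) →* SpecialLinearGroup (Fin 2) (ZMod p) where
  toFun := qdLinFun
  map_one' := by
    apply qdLinFun_eq 1 1 0
    apply Subtype.ext
    ext i j
    fin_cases i <;> fin_cases j <;> simp [affSL, affMat]
  map_mul' g h := by
    obtain ⟨A, u, hg⟩ := exists_rep g
    obtain ⟨B, w, hh⟩ := exists_rep h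
    rw [qdLinFun_eq g A u hg, qdLinFun_eq h B w hh]
    apply qdLinFun_eq (g * h) (A * B) (A.1 *ᵥ w + u)
    rw [Subgroup.coe_mul, hg, hh, affSL_mul]

theorem qdLin_surjective : Function.Surjective (qdLin (p := p)) := by
  intro A
  exact ⟨⟨affSL A 0, affSL_mem_qd _ _⟩, qdLinFun_eq _ A 0 rfl⟩

end qdlin

section located
variable {G : Type*} [Group G]

/-- a surjection from a subgroup `H` of `G` presents its target as a section `H / K` of `G` -/
theorem exists_section_of_surjective {L : Type*} [Group L] (H : Subgroup G) (g : ↥H →* L)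
    (hg : Function.Surjective g) :
    ∃ (K : Subgroup G) (_ : (K.subgroupOf H).Normal), Nonempty (↥H ⧸ K.subgroupOf H ≃* L) := by
  have hker : ((g.ker).map H.subtype).subgroupOf H = g.ker := by
    show ((g.ker).map H.subtype).comap H.subtype = g.ker
    exact Subgroup.comap_map_eq_self_of_injective H.subtype_injective _
  have hn : (((g.ker).map H.subtype).subgroupOf H).Normal := by
    rw [hker]; infer_instance
  exact ⟨(g.ker).map H.subtype, hn,
    ⟨(QuotientGroup.quotientMulEquivOfEq hker).trans (QuotientGroup.quotientKerEquivOfSurjective g hg)⟩⟩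

/-- if `Qd(p)` is involved in the subgroup `N` of `G`, then `SL₂(p)` is a section `H / K` of `G` with `H ≤ N` -/
theorem exists_sl2_section_of_involves_qd {p : ℕ} [Fact p.Prime] (N : Subgroup G)
    (h : Cfsg.Involves ↥(Cfsg.qd p) ↥N) :
    ∃ (H K : Subgroup G) (_ : (K.subgroupOf H).Normal), H ≤ N ∧
      Nonempty ((↥H ⧸ K.subgroupOf H) ≃* Matrix.SpecialLinearGroup (Fin 2) (ZMod p)) := by
  obtain ⟨K₀, R₀, hn, ⟨e⟩⟩ := h
  let g₀ : ↥K₀ →* Matrix.SpecialLinearGroup (Fin 2) (ZMod p) :=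
    (qdLin (p := p)).comp (e.toMonoidHom.comp (QuotientGroup.mk' (R₀.subgroupOf K₀)))
  have hg₀ : Function.Surjective g₀ := by
    intro A
    obtain ⟨q, hq⟩ := qdLin_surjective (p := p) A
    obtain ⟨x, hx⟩ := QuotientGroup.mk'_surjective (R₀.subgroupOf K₀) (e.symm q)
    refine ⟨x, ?_⟩
    show qdLin (e ((QuotientGroup.mk' (R₀.subgroupOf K₀)) x)) = A
    rw [hx, MulEquiv.apply_symm_apply, hq]
  let iso : ↥K₀ ≃* ↥(K₀.map N.subtype) := K₀.equivMapOfInjective N.subtype N.subtype_injective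
  obtain ⟨K, hK, hiso⟩ := exists_section_of_surjective (K₀.map N.subtype)
    (g₀.comp iso.symm.toMonoidHom) (by
      intro A
      obtain ⟨x, hx⟩ := hg₀ A
      exact ⟨iso x, by simp [hx]⟩)
  exact ⟨K₀.map N.subtype, K, hK, Subgroup.map_subtype_le _, hiso⟩

end located

section zjlocal
variable {p : ℕ} [Fact p.Prime]

/-- `Z(J)` controls strong fusion in every `SL₂(p)`-free subgroup (`p` odd) -/
theorem controlsStrongFusionIn_zj_of_sl2_free {G : Type u} [Group G] [Finite G] (hp : p ≠ 2)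
    (N : Subgroup G)
    (hfree : ¬ ∃ (H K : Subgroup G) (_ : (K.subgroupOf H).Normal), H ≤ N ∧
      Nonempty ((↥H ⧸ K.subgroupOf H) ≃* Matrix.SpecialLinearGroup (Fin 2) (ZMod p))) :
    Cfsg.ControlsStrongFusionIn p (fun Q : Subgroup G => Cfsg.centerThompsonAOf Q) N := by
  have hqd : ¬ Cfsg.Involves ↥(Cfsg.qd p) ↥N := fun h => hfree (exists_sl2_section_of_involves_qd N h)
  have h1 := controlsStrongFusionIn_of_normal_in_sections (p := p)
    (fun (Q : Type u) [Group Q] => Cfsg.Agent.Lib.Helper27.ZJFun.zjA Q)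
    (Cfsg.Agent.Lib.Helper27.ZJFun.isCharPFunctor_zjA p) N (by
      intro K' R' hR' hC T'
      rw [Cfsg.Agent.Lib.Helper27.ZJFun.inducedFunctor_zjA]
      have hfreeQ : ¬ Cfsg.Involves ↥(Cfsg.qd p) (↥K' ⧸ R'.subgroupOf K') := by
        intro h
        apply hqd
        have h1 : Cfsg.Involves ↥(Cfsg.qd p) ↥K' :=
          Cfsg.Agent.Lib.Helper8.ThTwo.involves_of_quotient (R'.subgroupOf K') h
        exact Cfsg.Agent.Lib.Helper27.involves_of_injective K'.subtype K'.subtype_injective h1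
      haveI := Cfsg.Agent.S0653.result hp hC (fun P _ hP =>
        Cfsg.Agent.Lib.Helper29.Qd.isPStableOn_of_not_involves_qd_pGroup hp hfreeQ P hP) T'
      exact Subgroup.normal_of_characteristic _)
  have e : (Cfsg.inducedFunctor (G := G) (fun (Q : Type u) [Group Q] => Cfsg.Agent.Lib.Helper27.ZJFun.zjA Q)) =
      fun Q : Subgroup G => Cfsg.centerThompsonAOf Q :=
    funext (fun T => Cfsg.Agent.Lib.Helper27.ZJFun.inducedFunctor_zjA T)
  rwa [e] at h1

/-- `Z(J)` as a conjugacy functor -/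
theorem isConjugacyFunctor_zj (G : Type u) [Group G] [Finite G] :
    Cfsg.IsConjugacyFunctor p (fun Q : Subgroup G => Cfsg.centerThompsonAOf Q) := by
  have h := isConjugacyFunctor_induced (p := p)
    (fun (Q : Type u) [Group Q] => Cfsg.Agent.Lib.Helper27.ZJFun.zjA Q)
    (Cfsg.Agent.Lib.Helper27.ZJFun.isCharPFunctor_zjA p) G
  have e : (Cfsg.inducedFunctor (G := G) (fun (Q : Type u) [Group Q] => Cfsg.Agent.Lib.Helper27.ZJFun.zjA Q)) =
      fun Q : Subgroup G => Cfsg.centerThompsonAOf Q :=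
    funext (fun T => Cfsg.Agent.Lib.Helper27.ZJFun.inducedFunctor_zjA T)
  rwa [e] at h

/-- the centre of a finite subgroup lies in its `Z(J)` -/
theorem center_le_centerThompsonAOf {G : Type u} [Group G] [Finite G] (Q : Subgroup G) :
    Q ⊓ Subgroup.centralizer (Q : Set G) ≤ Cfsg.centerThompsonAOf Q := by
  intro z hz
  rw [← Cfsg.Agent.Lib.Helper27.ZJFun.inducedFunctor_zjA]
  have hzc : (⟨z, hz.1⟩ : ↥Q) ∈ Subgroup.center ↥Q := by
    rw [Subgroup.mem_center_iff]
    intro y
    apply Subtype.ext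
    exact (Subgroup.mem_centralizer_iff.mp hz.2) y.1 y.2
  exact ⟨⟨z, hz.1⟩, Cfsg.Agent.Lib.Helper27.ZJFun.center_le_zjA ↥Q hzc, rfl⟩

/-- **`Z(J)` controls fusion under local `SL₂(p)`-freeness**: if `N_G(T)` is `SL₂(p)`-free for every `T` with
`Z(S) ≤ T ≤ S`, then every conjugation between subgroups of `S` is induced by an element of `N_G(Z(J(S)))`. -/
theorem ctlAt_zj_of_locally_sl2_free {G : Type u} [Group G] [Finite G] (hp : p ≠ 2) (S : Sylow p G)
    (hfree : ∀ P : Subgroup G,
      (S : Subgroup G) ⊓ Subgroup.centralizer ((S : Subgroup G) : Set G) ≤ P → P ≤ S →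
      ¬ ∃ (H K : Subgroup G) (_ : (K.subgroupOf H).Normal), H ≤ Subgroup.normalizer (P : Set G) ∧
        Nonempty ((↥H ⧸ K.subgroupOf H) ≃* Matrix.SpecialLinearGroup (Fin 2) (ZMod p)))
    (T : Subgroup G) (hT : T ≤ S) (g : G) (hTg : cj g T ≤ S) :
    CtlAt (fun Q : Subgroup G => Cfsg.centerThompsonAOf Q) (S : Subgroup G) (T : Set G) g := by
  apply ctlAt_of_centric (fun Q : Subgroup G => Cfsg.centerThompsonAOf Q) (isConjugacyFunctor_zj G)
    (S : Subgroup G) S rfl ((S : Subgroup G) ⊓ Subgroup.centralizer ((S : Subgroup G) : Set G))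
    inf_le_left inf_le_right ?_ ?_ _ T hT rfl g hTg
  · intro Q hQS hZQ
    refine le_trans ?_ (center_le_centerThompsonAOf Q)
    exact le_inf hZQ (le_trans inf_le_right (Subgroup.centralizer_le hQS))
  · intro T' _ hZT' hwp
    exact controlsStrongFusionIn_zj_of_sl2_free hp _ (hfree T' hZT' hwp.1)

end zjlocal

end Cfsg.Agent.Lib.Helper12
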