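import Mathlib

/-!
Helper lemmas (helper12): the Frobenius sum argument for an element `g` normalizing a finite subgroup `A` on which its
nontrivial powers act fixed-point-freely (`apply_eq_of_frobenius_sum`), binomial expansion of `(x-1)^k` in a ring, and
minimal invariant subgroups of abelian `p'`-groups (`exists_invariant_fixedPointFree`).
-/

set_option autoImplicit false
open scoped BigOperators

namespace Cfsg.Agent.Lib.Helper12

section frobsum
variable {H M : Type*} [Group H] [AddCommGroup M] (ρ : H →* AddMonoid.End M)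

/-- conjugation by a power of a normalizing element preserves the subgroup -/
theorem pow_conj_mem_of_normalizes (A : Subgroup H) (g : H) (hnorm : ∀ a ∈ A, g * a * g⁻¹ ∈ A)
    (i : ℕ) : ∀ a ∈ A, g ^ i * a * (g ^ i)⁻¹ ∈ A := by
  induction i with
  | zero => intro a ha; simpa using ha
  | succ i ih =>
    intro a ha
    have h1 := hnorm _ (ih a ha)
    have e : g ^ (i + 1) * a * (g ^ (i + 1))⁻¹ = g * (g ^ i * a * (g ^ i)⁻¹) * g⁻¹ := by
      rw [pow_succ']; group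
    rw [e]; exact h1

/-- **Frobenius sum argument.** Let `g` normalize the finite subgroup `A` with `C_A(g^i) = 1` for `1 ≤ i ≤ k`, and
suppose `∑_{i ≤ k} c_i ρ(g^i) = 0` with `c_0 = ± 1`. If `M` has no `|A|`-torsion then `A` acts trivially on `M`. -/
theorem apply_eq_of_frobenius_sum (A : Subgroup H) [Finite A] (g : H) (k : ℕ) (c : ℕ → ℤ)
    (hnorm : ∀ a ∈ A, g * a * g⁻¹ ∈ A)
    (hfix : ∀ i, 1 ≤ i → i ≤ k → ∀ a ∈ A, g ^ i * a = a * g ^ i → a = 1)
    (hsum : ∑ i ∈ Finset.range (k + 1), c i • ρ (g ^ i) = 0)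
    (hc0 : c 0 = 1 ∨ c 0 = -1)
    (htors : ∀ m : M, Nat.card A • m = 0 → m = 0) :
    ∀ a ∈ A, ∀ m : M, ρ a m = m := by
  classical
  have : Fintype ↥A := Fintype.ofFinite ↥A
  -- the averaging element
  obtain ⟨E, hE⟩ : ∃ E : AddMonoid.End M, E = ∑ b : ↥A, ρ (b : H) := ⟨_, rfl⟩
  have hEfix : ∀ a : ↥A, ρ (a : H) * E = E := by
    intro a
    rw [hE, Finset.mul_sum]
    have : ∀ b : ↥A, ρ (a : H) * ρ (b : H) = ρ ((a * b : ↥A) : H) := by
      intro b; rw [Subgroup.coe_mul, map_mul]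
    simp_rw [this]
    exact Fintype.sum_bijective (fun b => a * b) (Group.mulLeft_bijective a) _ _ (fun b => rfl)
  -- the conjugated sums
  have hconj : ∀ i, 1 ≤ i → i ≤ k → ∑ a : ↥A, ρ ((a : H)⁻¹ * g ^ i * (a : H)) = E * ρ (g ^ i) := by
    intro i hi1 hik
    let ψ : ↥A → ↥A := fun a => ⟨(a : H)⁻¹ * (g ^ i * (a : H) * (g ^ i)⁻¹),
      A.mul_mem (A.inv_mem a.2) (pow_conj_mem_of_normalizes A g hnorm i _ a.2)⟩
    have hψinj : Function.Injective ψ := by
      intro a b hab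
      have h1 : (a : H)⁻¹ * (g ^ i * (a : H) * (g ^ i)⁻¹) = (b : H)⁻¹ * (g ^ i * (b : H) * (g ^ i)⁻¹) :=
        congrArg Subtype.val hab
      have h2 : g ^ i * ((a : H) * (b : H)⁻¹) = ((a : H) * (b : H)⁻¹) * g ^ i := by
        have e1 : g ^ i * ((a : H) * (b : H)⁻¹) =
            (a : H) * ((a : H)⁻¹ * (g ^ i * (a : H) * (g ^ i)⁻¹)) * g ^ i * (b : H)⁻¹ := by group
        rw [e1, h1]; group
      have h3 := hfix i hi1 hik _ (A.mul_mem a.2 (A.inv_mem b.2)) h2
      apply Subtype.ext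
      have : (a : H) = (a : H) * (b : H)⁻¹ * (b : H) := by group
      rw [this, h3, one_mul]
    have hψbij : Function.Bijective ψ := Finite.injective_iff_bijective.mp hψinj
    have h1 : ∀ a : ↥A, ρ ((a : H)⁻¹ * g ^ i * (a : H)) = ρ ((ψ a : ↥A) : H) * ρ (g ^ i) := by
      intro a
      rw [← map_mul]
      congr 1
      show (a : H)⁻¹ * g ^ i * (a : H) = (a : H)⁻¹ * (g ^ i * (a : H) * (g ^ i)⁻¹) * g ^ i
      group
    simp_rw [h1]
    rw [← Finset.sum_mul, hE]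
    congr 1
    exact Fintype.sum_bijective ψ hψbij _ _ (fun b => rfl)
  -- the key identity
  have hkey : (c 0 * (Nat.card ↥A : ℤ)) • (1 : AddMonoid.End M) +
      ∑ i ∈ Finset.Ico 1 (k + 1), c i • (E * ρ (g ^ i)) = 0 := by
    have h0 : ∑ a : ↥A, ρ ((a : H)⁻¹) * (∑ i ∈ Finset.range (k + 1), c i • ρ (g ^ i)) * ρ (a : H) = 0 := by
      rw [hsum]; simp
    have h1 : ∀ a : ↥A, ρ ((a : H)⁻¹) * (∑ i ∈ Finset.range (k + 1), c i • ρ (g ^ i)) * ρ (a : H) =
        ∑ i ∈ Finset.range (k + 1), c i • ρ ((a : H)⁻¹ * g ^ i * (a : H)) := by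
      intro a
      rw [Finset.mul_sum, Finset.sum_mul]
      apply Finset.sum_congr rfl
      intro i _
      rw [mul_smul_comm, smul_mul_assoc, map_mul, map_mul]
    simp_rw [h1] at h0
    rw [Finset.sum_comm] at h0
    rw [Finset.range_eq_Ico, Finset.sum_eq_sum_Ico_succ_bot (Nat.succ_pos k)] at h0
    rw [← h0]
    congr 1
    · simp only [pow_zero, mul_one, inv_mul_cancel, map_one]
      rw [Finset.sum_const, Finset.card_univ, ← Nat.card_eq_fintype_card, ← natCast_zsmul, smul_smul,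
        mul_comm]
    · apply Finset.sum_congr rfl
      intro i hi
      rw [Finset.mem_Ico] at hi
      rw [← hconj i hi.1 (by omega)]
      exact Finset.smul_sum
  intro a ha m
  have h2 : ρ a * ((c 0 * (Nat.card ↥A : ℤ)) • (1 : AddMonoid.End M) +
      ∑ i ∈ Finset.Ico 1 (k + 1), c i • (E * ρ (g ^ i))) = 0 := by rw [hkey, mul_zero]
  rw [mul_add, Finset.mul_sum] at h2
  have h3 : ∀ i, ρ a * c i • (E * ρ (g ^ i)) = c i • (E * ρ (g ^ i)) := by
    intro i
    rw [mul_smul_comm, ← mul_assoc, hEfix ⟨a, ha⟩]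
  simp_rw [h3] at h2
  have h4 : ρ a * (c 0 * (Nat.card ↥A : ℤ)) • (1 : AddMonoid.End M) =
      (c 0 * (Nat.card ↥A : ℤ)) • (1 : AddMonoid.End M) := by
    have h2' := h2
    rw [← hkey] at h2'
    exact add_right_cancel h2'
  rw [mul_smul_comm, mul_one] at h4
  have h5 : ((c 0 * (Nat.card ↥A : ℤ)) • ρ a) m = ((c 0 * (Nat.card ↥A : ℤ)) • (1 : AddMonoid.End M)) m :=
    congrArg (fun f : AddMonoid.End M => f m) h4
  have e1 := AddMonoid.End.smul_apply (c 0 * (Nat.card ↥A : ℤ)) (ρ a) m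
  have e2 := AddMonoid.End.smul_apply (c 0 * (Nat.card ↥A : ℤ)) (1 : AddMonoid.End M) m
  have h5' : (c 0 * (Nat.card ↥A : ℤ)) • ρ a m = (c 0 * (Nat.card ↥A : ℤ)) • m :=
    e1.symm.trans (h5.trans e2)
  have h6 : (c 0 * (Nat.card ↥A : ℤ)) • (ρ a m - m) = 0 := by
    rw [smul_sub, sub_eq_zero]
    exact h5'
  have h7 : Nat.card ↥A • (ρ a m - m) = 0 := by
    rcases hc0 with h | h
    · rw [h, one_mul] at h6
      exact_mod_cast h6
    · rw [h, neg_one_mul, neg_smul, neg_eq_zero] at h6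
      exact_mod_cast h6
  have h8 := htors _ h7
  exact sub_eq_zero.mp h8

end frobsum

section binom

/-- binomial expansion of `(x - 1)^k` with integer coefficients -/
theorem sub_one_pow_eq_sum_zsmul {R : Type*} [Ring R] (x : R) (k : ℕ) :
    (x - 1) ^ k = ∑ i ∈ Finset.range (k + 1), ((-1 : ℤ) ^ (k - i) * (k.choose i : ℤ)) • x ^ i := by
  have h : Commute x (-1 : R) := (Commute.one_right x).neg_right
  rw [sub_eq_add_neg, h.add_pow]
  apply Finset.sum_congr rfl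
  intro i _
  rw [zsmul_eq_mul]
  push_cast
  have h2 : Commute (x ^ i) ((-1 : R) ^ (k - i)) := ((Commute.one_right x).neg_right.pow_right _).pow_left _
  have h3 : Commute (x ^ i) ((k.choose i : ℕ) : R) := Nat.commute_cast _ _
  rw [h2.eq, mul_assoc, h3.eq, ← mul_assoc]

/-- if `(x - 1)^e = 0` then `(x^s - 1)^e = 0` -/
theorem pow_sub_one_pow_eq_zero {R : Type*} [Ring R] (x : R) (e s : ℕ) (h : (x - 1) ^ e = 0) :
    (x ^ s - 1) ^ e = 0 := by
  have h1 : x ^ s - 1 = (x - 1) * ∑ i ∈ Finset.range s, x ^ i := (mul_geom_sum x s).symm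
  have hc : Commute (x - 1) (∑ i ∈ Finset.range s, x ^ i) := by
    apply Commute.sum_right
    intro i _
    exact ((Commute.refl x).sub_left (Commute.one_left x)).pow_right i
  rw [h1, hc.mul_pow, h, zero_mul]

end binom

section minimal
variable {H : Type*} [Group H]

/-- if `c` commutes with `r` and `r x r⁻¹ = x c` then `r^k x r^-k = x c^k` -/
theorem pow_conj_eq_mul_pow (r x c : H) (hc : r * c = c * r)
    (h : r * x * r⁻¹ = x * c) (k : ℕ) : r ^ k * x * (r ^ k)⁻¹ = x * c ^ k := by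
  induction k with
  | zero => simp
  | succ k ih =>
    have h1 : r ^ (k + 1) * x * (r ^ (k + 1))⁻¹ = r * (r ^ k * x * (r ^ k)⁻¹) * r⁻¹ := by
      rw [pow_succ']; group
    have h2 : r * c ^ k = c ^ k * r := (Commute.pow_right (show Commute r c from hc) k)
    rw [h1, ih]
    calc r * (x * c ^ k) * r⁻¹ = (r * x * r⁻¹) * (r * c ^ k) * r⁻¹ := by group
      _ = x * c * (c ^ k * r) * r⁻¹ := by rw [h, h2]
      _ = x * c ^ (k + 1) := by rw [pow_succ']; group

/-- a minimal invariant subgroup of an abelian `p'`-group not centralized by an element `g` of order `p` is acted on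
fixed-point-freely by the nontrivial powers of `g` -/
theorem exists_invariant_fixedPointFree [Finite H] (A : Subgroup H)
    (hA : ∀ a ∈ A, ∀ b ∈ A, a * b = b * a)
    (g : H) (p : ℕ) (hp : p.Prime) (hgp : g ^ p = 1) (hnorm : ∀ a ∈ A, g * a * g⁻¹ ∈ A)
    (hcop : (Nat.card A).Coprime p) (hnc : ∃ a ∈ A, g * a ≠ a * g) :
    ∃ B : Subgroup H, B ≤ A ∧ B ≠ ⊥ ∧ (∀ b ∈ B, g * b * g⁻¹ ∈ B) ∧
      ∀ i, 1 ≤ i → i < p → ∀ b ∈ B, g ^ i * b = b * g ^ i → b = 1 := by
  classical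
  -- the family of invariant, non-centralized subgroups
  let 𝓑 : Set (Subgroup H) := {B | B ≤ A ∧ (∀ b ∈ B, g * b * g⁻¹ ∈ B) ∧ ∃ b ∈ B, g * b ≠ b * g}
  have hne : 𝓑.Nonempty := ⟨A, le_rfl, hnorm, hnc⟩
  obtain ⟨B, ⟨hBA, hBinv, hBnc⟩, hmin⟩ :=
    Set.exists_min_image 𝓑 (fun B => Nat.card ↥B) (Set.toFinite 𝓑) hne
  have hBcomm : ∀ a ∈ B, ∀ b ∈ B, a * b = b * a := fun a ha b hb => hA a (hBA ha) b (hBA hb)
  -- the commutator map
  have hφmem : ∀ b ∈ B, b⁻¹ * (g * b * g⁻¹) ∈ B := fun b hb => B.mul_mem (B.inv_mem hb) (hBinv b hb)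
  let B₁ : Subgroup H :=
    { carrier := {x | ∃ b ∈ B, x = b⁻¹ * (g * b * g⁻¹)}
      one_mem' := ⟨1, B.one_mem, by simp⟩
      mul_mem' := by
        rintro _ _ ⟨a, ha, rfl⟩ ⟨b, hb, rfl⟩
        refine ⟨a * b, B.mul_mem ha hb, ?_⟩
        have h1 := hBcomm _ (hφmem a ha) _ (B.inv_mem hb)
        calc a⁻¹ * (g * a * g⁻¹) * (b⁻¹ * (g * b * g⁻¹))
            = (a⁻¹ * (g * a * g⁻¹) * b⁻¹) * (g * b * g⁻¹) := by group
          _ = (b⁻¹ * (a⁻¹ * (g * a * g⁻¹))) * (g * b * g⁻¹) := by rw [h1]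
          _ = (a * b)⁻¹ * (g * (a * b) * g⁻¹) := by group
      inv_mem' := by
        rintro _ ⟨a, ha, rfl⟩
        refine ⟨a⁻¹, B.inv_mem ha, ?_⟩
        have h1 := hBcomm _ (B.inv_mem (hBinv a ha)) _ ha
        calc (a⁻¹ * (g * a * g⁻¹))⁻¹ = (g * a * g⁻¹)⁻¹ * a := by group
          _ = a * (g * a * g⁻¹)⁻¹ := h1
          _ = a⁻¹⁻¹ * (g * a⁻¹ * g⁻¹) := by group }
  have hB₁B : B₁ ≤ B := by rintro _ ⟨b, hb, rfl⟩; exact hφmem b hb
  have hB₁inv : ∀ b ∈ B₁, g * b * g⁻¹ ∈ B₁ := by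
    rintro _ ⟨b, hb, rfl⟩
    exact ⟨g * b * g⁻¹, hBinv b hb, by group⟩
  -- an element of `A` with `p`-th power `1` is trivial
  have htriv : ∀ c ∈ A, c ^ p = 1 → c = 1 := by
    intro c hcA hcp
    have h3 : c ^ Nat.card ↥A = 1 := by
      have := pow_card_eq_one' (G := ↥A) (x := ⟨c, hcA⟩)
      exact congrArg Subtype.val this
    have h4 : c ^ Nat.gcd (Nat.card ↥A) p = 1 := pow_gcd_eq_one.mpr ⟨h3, hcp⟩
    rwa [hcop, pow_one] at h4
  -- if `g` centralizes `[b, g]` then it centralizes `b`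
  have hcent : ∀ b ∈ B, g * (b⁻¹ * (g * b * g⁻¹)) = (b⁻¹ * (g * b * g⁻¹)) * g → g * b = b * g := by
    intro b hb hc
    have h0 : g * b * g⁻¹ = b * (b⁻¹ * (g * b * g⁻¹)) := by group
    have h1 := pow_conj_eq_mul_pow g b _ hc h0 p
    rw [hgp] at h1
    have h2 : (b⁻¹ * (g * b * g⁻¹)) ^ p = 1 := by
      have : b = b * (b⁻¹ * (g * b * g⁻¹)) ^ p := by simpa using h1
      exact (mul_eq_left.mp this.symm)
    have h4 := htriv _ (hBA (hφmem b hb)) h2
    have : g * b * g⁻¹ = b := by rw [h0, h4, mul_one]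
    calc g * b = (g * b * g⁻¹) * g := by group
      _ = b * g := by rw [this]
  -- `B₁` is not centralized by `g`
  have hB₁nc : ∃ b ∈ B₁, g * b ≠ b * g := by
    by_contra hcon
    push Not at hcon
    obtain ⟨b, hb, hbg⟩ := hBnc
    exact hbg (hcent b hb (hcon _ ⟨b, hb, rfl⟩))
  have hB₁mem : B₁ ∈ 𝓑 := ⟨hB₁B.trans hBA, hB₁inv, hB₁nc⟩
  have hcard : Nat.card ↥B ≤ Nat.card ↥B₁ := hmin B₁ hB₁mem
  have hB₁eq : B₁ = B := by
    apply le_antisymm hB₁B
    intro x hx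
    by_contra hxn
    have hlt : B₁ < B := lt_of_le_of_ne hB₁B (fun h => hxn (h ▸ hx))
    have hlt' : Nat.card ↥B₁ < Nat.card ↥B := by
      have hle := Subgroup.card_le_of_le hlt.le
      refine lt_of_le_of_ne hle (fun he => ?_)
      have : (B₁ : Set H) = B := Set.eq_of_subset_of_ncard_le hlt.le (by
        rw [← Nat.card_coe_set_eq, ← Nat.card_coe_set_eq]; exact he.ge) (Set.toFinite _)
      exact hlt.ne (SetLike.coe_injective this)
    omega
  -- the map `b ↦ [b, g]` is a bijection of `B`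
  have hinj : ∀ b ∈ B, g * b = b * g → b = 1 := by
    intro b hb hbg
    -- the map is surjective onto `B`, hence injective
    let φ : ↥B → ↥B := fun b => ⟨(b : H)⁻¹ * (g * (b : H) * g⁻¹), hφmem b b.2⟩
    have hφsurj : Function.Surjective φ := by
      rintro ⟨x, hx⟩
      have hx' : x ∈ B₁ := hB₁eq ▸ hx
      obtain ⟨b', hb', rfl⟩ := hx'
      exact ⟨⟨b', hb'⟩, rfl⟩
    have hφinj : Function.Injective φ := Finite.injective_iff_surjective.mpr hφsurj
    have h1 : φ ⟨b, hb⟩ = φ 1 := by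
      apply Subtype.ext
      show b⁻¹ * (g * b * g⁻¹) = ((1 : ↥B) : H)⁻¹ * (g * ((1 : ↥B) : H) * g⁻¹)
      rw [hbg]; simp
    have := hφinj h1
    exact congrArg Subtype.val this
  refine ⟨B, hBA, ?_, hBinv, ?_⟩
  · rintro rfl
    obtain ⟨b, hb, hbg⟩ := hBnc
    rw [Subgroup.mem_bot] at hb
    rw [hb] at hbg
    simp at hbg
  · intro i hi1 hip b hb hbi
    apply hinj b hb
    -- `g` is a power of `g ^ i`
    have hcop' : Nat.Coprime i p :=
      ((Nat.Prime.coprime_iff_not_dvd hp).mpr (Nat.not_dvd_of_pos_of_lt hi1 hip)).symm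
    obtain ⟨j, -, hj⟩ := Nat.exists_mul_mod_eq_one_of_coprime hcop' hp.one_lt
    have hij : i * j = p * (i * j / p) + 1 := by
      have := Nat.div_add_mod (i * j) p
      rw [hj] at this
      exact this.symm
    have hg : (g ^ i) ^ j = g := by
      rw [← pow_mul, hij, pow_add, pow_mul, hgp, one_pow, one_mul, pow_one]
    have hcomm : Commute (g ^ i) b := hbi
    have := hcomm.pow_left j
    rw [hg] at this
    exact this

end minimal

end Cfsg.Agent.Lib.Helper12
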