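import Mathlib
import Cfsg.Prelude.Def_Local
import Cfsg.Agent.Lib.Helper12.FrobSum
import Cfsg.Agent.Lib.Helper12.HallHigman
import Cfsg.Agent.Lib.Helper25.PSolvableOfSolvable

set_option autoImplicit false
open scoped BigOperators

namespace Cfsg.Agent.Lib.Helper12

section hhlite

/-- a normal `p`-subgroup acts trivially on an irreducible module of `p`-power order -/
theorem apply_eq_of_normal_isPGroup {H M : Type*} [Group H] [AddCommGroup M] [Finite M]
    (ρ : H →* AddMonoid.End M) {p : ℕ} [Fact p.Prime] (n : ℕ) (hn : 1 ≤ n) (hM : Nat.card M = p ^ n)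
    (hirr : ∀ S : AddSubgroup M, (∀ h : H, ∀ m ∈ S, ρ h m ∈ S) → S = ⊥ ∨ S = ⊤)
    (R : Subgroup H) (hRn : R.Normal) (hRp : IsPGroup p R) : ∀ r ∈ R, ∀ m : M, ρ r m = m := by
  let S : AddSubgroup M :=
    { carrier := {m | ∀ r ∈ R, ρ r m = m}
      zero_mem' := fun r _ => map_zero _
      add_mem' := fun {a b} ha hb r hr => by rw [map_add, ha r hr, hb r hr]
      neg_mem' := fun {a} ha r hr => by rw [map_neg, ha r hr] }
  have hSinv : ∀ h : H, ∀ m ∈ S, ρ h m ∈ S := by
    intro h m hm r hr
    have hmem : h⁻¹ * r * h ∈ R := by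
      have := hRn.conj_mem r hr h⁻¹
      rwa [inv_inv] at this
    have h1 : ρ (h⁻¹ * r * h) m = m := hm _ hmem
    have e : r * h = h * (h⁻¹ * r * h) := by group
    calc ρ r (ρ h m) = (ρ r * ρ h) m := rfl
      _ = ρ (r * h) m := by rw [map_mul]
      _ = ρ (h * (h⁻¹ * r * h)) m := by rw [e]
      _ = ρ h (ρ (h⁻¹ * r * h) m) := by rw [map_mul]; rfl
      _ = ρ h m := by rw [h1]
  have hSne : S ≠ ⊥ := by
    let act : MulAction ↥R M :=
      { smul := fun r m => ρ (r : H) m
        one_smul := fun m => by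
          show ρ ((1 : ↥R) : H) m = m
          rw [Subgroup.coe_one, map_one]; rfl
        mul_smul := fun r s m => by
          show ρ ((r * s : ↥R) : H) m = ρ r (ρ s m)
          rw [Subgroup.coe_mul, map_mul]; rfl }
    have hdvd : p ∣ Nat.card M := by rw [hM]; exact dvd_pow_self p (by omega)
    have h0 : (0 : M) ∈ MulAction.fixedPoints ↥R M := by
      intro r
      show ρ (r : H) 0 = 0
      exact map_zero _
    obtain ⟨b, hb, hb0⟩ := hRp.exists_fixed_point_of_prime_dvd_card_of_fixed_point M hdvd h0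
    intro hbot
    have hbS : b ∈ S := by
      intro r hr
      exact hb ⟨r, hr⟩
    rw [hbot, AddSubgroup.mem_bot] at hbS
    exact hb0 hbS.symm
  rcases hirr S hSinv with h | h
  · exact absurd h hSne
  · intro r hr m
    have : m ∈ S := h ▸ AddSubgroup.mem_top m
    exact this r hr

end hhlite

end Cfsg.Agent.Lib.Helper12
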