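import Mathlib
import Cfsg.Prelude.Def_Local
import Cfsg.Agent.Lib.Helper12.FrobSum
import Cfsg.Agent.Lib.Helper12.HallHigman
import Cfsg.Agent.Lib.Helper25.PSolvableOfSolvable
import Cfsg.Agent.Lib.Helper12.HHLite0

set_option autoImplicit false
open scoped BigOperators

namespace Cfsg.Agent.Lib.Helper12

section hhlite

/-- **Hall–Higman, abelian `q`-group case** (faithful form): a solvable `{p,q}`-group `H` with abelian `q`-subgroups acts
faithfully and irreducibly on `M` of `p`-power order; a `p`-element `g` with `(g - 1)^e = 0`, `e ≤ p - 1`, is trivial. -/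
theorem hhlite_faithful {H M : Type*} [Group H] [Finite H] [AddCommGroup M] [Finite M]
    (ρ : H →* AddMonoid.End M) (hρ : Function.Injective ρ)
    {p q : ℕ} [hpf : Fact p.Prime] [hqf : Fact q.Prime] (hpq : p ≠ q)
    (n : ℕ) (hn : 1 ≤ n) (hM : Nat.card M = p ^ n)
    (hirr : ∀ S : AddSubgroup M, (∀ h : H, ∀ m ∈ S, ρ h m ∈ S) → S = ⊥ ∨ S = ⊤)
    (hsol : Group.IsSolvable H)
    (hdiv : ∀ r : ℕ, r.Prime → r ∣ Nat.card H → r = p ∨ r = q)
    (hab : ∀ B : Subgroup H, IsPGroup q B → ∀ a ∈ B, ∀ b ∈ B, a * b = b * a)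
    (g : H) (k : ℕ) (hg : g ^ p ^ k = 1) (e : ℕ) (he : e ≤ p - 1) (heng : (ρ g - 1) ^ e = 0) :
    g = 1 := by
  by_contra hg1
  have hp : p.Prime := Fact.out
  have hq : q.Prime := Fact.out
  -- faithful: trivial action means trivial element
  have hfaith : ∀ h : H, (∀ m : M, ρ h m = m) → h = 1 := by
    intro h hh
    apply hρ
    rw [map_one]
    ext m
    exact hh m
  -- (1) normal `p`-subgroups are trivial
  have hOp : ∀ R : Subgroup H, R.Normal → IsPGroup p R → R = ⊥ := by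
    intro R hRn hRp
    rw [eq_bot_iff]
    intro r hr
    rw [Subgroup.mem_bot]
    exact hfaith r (apply_eq_of_normal_isPGroup ρ n hn hM hirr R hRn hRp r hr)
  -- (2) `O_{q'}(H) = 1`
  have hOq' : Cfsg.pPrimeCore q H = ⊥ := by
    have hcop : (Nat.card (Cfsg.pPrimeCore q H)).Coprime q := pPrimeCore_coprime q
    apply hOp _ (Cfsg.Agent.Lib.Helper24.pPrimeCore_normal' q)
    -- a subgroup of order prime to `q` is a `p`-group
    apply IsPGroup.of_card (n := (Nat.card (Cfsg.pPrimeCore q H)).primeFactorsList.length)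
    apply Nat.eq_prime_pow_of_unique_prime_dvd (Nat.card_pos).ne'
    intro r hr hrd
    rcases hdiv r hr (dvd_trans hrd (Subgroup.card_subgroup_dvd_card _)) with h | h
    · exact h
    · exfalso
      rw [h] at hrd
      have h6 : q ∣ Nat.gcd (Nat.card (Cfsg.pPrimeCore q H)) q := Nat.dvd_gcd hrd (dvd_refl q)
      rw [hcop] at h6
      exact hq.one_lt.ne' (Nat.dvd_one.mp h6)
  have hqsol : Cfsg.IsPSolvable q H := Cfsg.Agent.Lib.Helper25.isPSolvable_of_isSolvable' q hq hsol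
  have hcent := centralizer_pCore_le_pCore q hqsol hOq'
  obtain ⟨A, hA⟩ : ∃ A, A = Cfsg.pCore q H := ⟨_, rfl⟩
  rw [← hA] at hcent
  have hAn : A.Normal := hA ▸ Cfsg.Agent.Lib.Helper24.pCore_normal' q
  have hAq : IsPGroup q A := hA ▸ pCore_isPGroup' q
  have hAab := hab A hAq
  -- (3) the element of order `p`
  obtain ⟨k₀, hk₀, hk₀min⟩ : ∃ k₀, g ^ p ^ k₀ = 1 ∧ ∀ j < k₀, g ^ p ^ j ≠ 1 := by
    classical
    have hex : ∃ k, g ^ p ^ k = 1 := ⟨k, hg⟩
    exact ⟨Nat.find hex, Nat.find_spec hex, fun j hj => Nat.find_min hex hj⟩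
  have hk₀pos : 1 ≤ k₀ := by
    by_contra h
    have : k₀ = 0 := by omega
    rw [this, pow_zero, pow_one] at hk₀
    exact hg1 hk₀
  obtain ⟨g₀, hg₀⟩ : ∃ g₀, g₀ = g ^ p ^ (k₀ - 1) := ⟨_, rfl⟩
  have hg₀ne : g₀ ≠ 1 := hg₀ ▸ hk₀min (k₀ - 1) (by omega)
  have hg₀p : g₀ ^ p = 1 := by
    rw [hg₀, ← pow_mul, ← pow_succ]
    have : k₀ - 1 + 1 = k₀ := by omega
    rw [this]; exact hk₀
  -- `g₀` does not centralize `A`
  have hg₀nc : ∃ a ∈ A, g₀ * a ≠ a * g₀ := by
    by_contra hcon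
    push Not at hcon
    have h1 : g₀ ∈ Subgroup.centralizer (A : Set H) := by
      rw [Subgroup.mem_centralizer_iff]
      intro a ha
      exact (hcon a ha).symm
    have h2 : g₀ ∈ A := hcent h1
    obtain ⟨j, hj⟩ := hAq ⟨g₀, h2⟩
    have hj' : g₀ ^ q ^ j = 1 := by
      have := congrArg Subtype.val hj
      simpa using this
    have h3 : g₀ ^ Nat.gcd (q ^ j) p = 1 := pow_gcd_eq_one.mpr ⟨hj', hg₀p⟩
    have h4 : Nat.Coprime (q ^ j) p := Nat.Coprime.pow_left j ((Nat.coprime_primes hq hp).mpr (Ne.symm hpq))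
    rw [h4, pow_one] at h3
    exact hg₀ne h3
  have hAcop : (Nat.card A).Coprime p := by
    obtain ⟨j, hj⟩ := IsPGroup.iff_card.mp hAq
    rw [hj]
    exact Nat.Coprime.pow_left j ((Nat.coprime_primes hq hp).mpr (Ne.symm hpq))
  -- (4) minimal invariant subgroup
  obtain ⟨B, hBA, hBne, hBinv, hBfix⟩ := exists_invariant_fixedPointFree A hAab g₀ p hp hg₀p
    (fun a ha => hAn.conj_mem a ha g₀) hAcop hg₀nc
  -- (5) Engel condition for `g₀`
  have heng₀ : (ρ g₀ - 1) ^ e = 0 := by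
    rw [hg₀, map_pow]
    exact pow_sub_one_pow_eq_zero (ρ g) e _ heng
  -- (6) expansion and the Frobenius sum argument
  have hsum : ∑ i ∈ Finset.range (e + 1), ((-1 : ℤ) ^ (e - i) * (e.choose i : ℤ)) • ρ (g₀ ^ i) = 0 := by
    rw [← heng₀, sub_one_pow_eq_sum_zsmul]
    apply Finset.sum_congr rfl
    intro i _
    rw [map_pow]
  have hc0 : ((-1 : ℤ) ^ (e - 0) * (e.choose 0 : ℤ)) = 1 ∨ ((-1 : ℤ) ^ (e - 0) * (e.choose 0 : ℤ)) = -1 := by
    rw [Nat.choose_zero_right, Nat.cast_one, mul_one, Nat.sub_zero]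
    exact neg_one_pow_eq_or ℤ e
  have hBq : IsPGroup q B := hAq.to_le hBA
  have htors : ∀ m : M, Nat.card B • m = 0 → m = 0 := by
    intro m hm
    obtain ⟨j, hj⟩ := IsPGroup.iff_card.mp hBq
    have h1 : addOrderOf m ∣ q ^ j := by rw [← hj]; exact addOrderOf_dvd_of_nsmul_eq_zero hm
    have h2 : addOrderOf m ∣ p ^ n := by rw [← hM]; exact addOrderOf_dvd_natCard m
    have h3 : Nat.Coprime (q ^ j) (p ^ n) :=
      Nat.Coprime.pow j n ((Nat.coprime_primes hq hp).mpr (Ne.symm hpq))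
    have h4 : addOrderOf m = 1 := Nat.eq_one_of_dvd_coprimes h3 h1 h2
    exact AddMonoid.addOrderOf_eq_one_iff.mp h4
  have hp1 : 1 ≤ p := hp.one_lt.le
  have htriv := apply_eq_of_frobenius_sum ρ B g₀ e _ hBinv
    (fun i hi1 hie a ha => hBfix i hi1 (by omega) a ha) hsum hc0 htors
  apply hBne
  rw [eq_bot_iff]
  intro b hb
  rw [Subgroup.mem_bot]
  exact hfaith b (htriv b hb)

end hhlite

end Cfsg.Agent.Lib.Helper12
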