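import Mathlib
import Cfsg.Prelude.Def_Local
import Cfsg.Agent.Lib.Helper12.FrobSum
import Cfsg.Agent.Lib.Helper12.HallHigman
import Cfsg.Agent.Lib.Helper25.PSolvableOfSolvable
import Cfsg.Agent.Lib.Helper12.HHLite0
import Cfsg.Agent.Lib.Helper12.HHLite1

set_option autoImplicit false
open scoped BigOperators

namespace Cfsg.Agent.Lib.Helper12

section hhlite

/-- `q`-subgroups of a quotient are images of `q`-subgroups; in particular they are abelian if all `q`-subgroups of the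
group are -/
theorem quotient_qSubgroups_comm {H : Type*} [Group H] [Finite H] (K : Subgroup H) [K.Normal] {q : ℕ} [Fact q.Prime]
    (hab : ∀ B : Subgroup H, IsPGroup q B → ∀ a ∈ B, ∀ b ∈ B, a * b = b * a)
    (B : Subgroup (H ⧸ K)) (hB : IsPGroup q B) : ∀ a ∈ B, ∀ b ∈ B, a * b = b * a := by
  let f : ↥(B.comap (QuotientGroup.mk' K)) →* ↥B := (QuotientGroup.mk' K).subgroupComap B
  have hf : Function.Surjective f :=
    MonoidHom.subgroupComap_surjective_of_surjective _ _ (QuotientGroup.mk'_surjective K)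
  obtain ⟨Q⟩ : Nonempty (Sylow q ↥(B.comap (QuotientGroup.mk' K))) := inferInstance
  have htop : (⊤ : Subgroup ↥B) = (Q.mapSurjective hf : Sylow q ↥B) := by
    apply (Q.mapSurjective hf).is_maximal' _ le_top
    intro x
    obtain ⟨j, hj⟩ := hB x.1
    exact ⟨j, Subtype.ext hj⟩
  have hQ' : IsPGroup q ((Q : Subgroup ↥(B.comap (QuotientGroup.mk' K))).map (Subgroup.subtype _)) := Q.2.map _
  intro a ha b hb
  have ha' : (⟨a, ha⟩ : ↥B) ∈ ((Q.mapSurjective hf : Sylow q ↥B) : Subgroup ↥B) := by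
    rw [← htop]; exact Subgroup.mem_top _
  have hb' : (⟨b, hb⟩ : ↥B) ∈ ((Q.mapSurjective hf : Sylow q ↥B) : Subgroup ↥B) := by
    rw [← htop]; exact Subgroup.mem_top _
  obtain ⟨x, hx, hxa⟩ := ha'
  obtain ⟨y, hy, hyb⟩ := hb'
  have hxy : (x : H) * (y : H) = (y : H) * (x : H) :=
    hab _ hQ' _ ⟨x, hx, rfl⟩ _ ⟨y, hy, rfl⟩
  have hxy' : x * y = y * x := Subtype.ext hxy
  have h1 : f x * f y = f y * f x := by rw [← map_mul, ← map_mul, hxy']
  rw [hxa, hyb] at h1
  exact congrArg Subtype.val h1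

/-- **Hall–Higman, abelian `q`-group case**: a solvable `{p,q}`-group `H` with abelian `q`-subgroups acts irreducibly on
`M` of `p`-power order; a `p`-element `g` with `(g - 1)^e = 0`, `e ≤ p - 1`, acts trivially. -/
theorem hhlite {H M : Type*} [Group H] [Finite H] [AddCommGroup M] [Finite M]
    (ρ : H →* AddMonoid.End M)
    {p q : ℕ} [hpf : Fact p.Prime] [hqf : Fact q.Prime] (hpq : p ≠ q)
    (n : ℕ) (hn : 1 ≤ n) (hM : Nat.card M = p ^ n)
    (hirr : ∀ S : AddSubgroup M, (∀ h : H, ∀ m ∈ S, ρ h m ∈ S) → S = ⊥ ∨ S = ⊤)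
    (hsol : Group.IsSolvable H)
    (hdiv : ∀ r : ℕ, r.Prime → r ∣ Nat.card H → r = p ∨ r = q)
    (hab : ∀ B : Subgroup H, IsPGroup q B → ∀ a ∈ B, ∀ b ∈ B, a * b = b * a)
    (g : H) (k : ℕ) (hg : g ^ p ^ k = 1) (e : ℕ) (he : e ≤ p - 1) (heng : (ρ g - 1) ^ e = 0) :
    ρ g = 1 := by
  obtain ⟨ρu, hρu⟩ : ∃ ρu : H →* (AddMonoid.End M)ˣ, ρu = ρ.toHomUnits := ⟨_, rfl⟩
  have hρu' : ∀ h : H, ((ρu h : (AddMonoid.End M)ˣ) : AddMonoid.End M) = ρ h := by
    intro h; rw [hρu]; rfl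
  let ρq : H ⧸ ρu.ker →* AddMonoid.End M := (Units.coeHom _).comp (QuotientGroup.kerLift ρu)
  have hρq : ∀ h : H, ρq (QuotientGroup.mk h) = ρ h := fun h => hρu' h
  have hinj : Function.Injective ρq := by
    intro a b hab'
    apply QuotientGroup.kerLift_injective ρu
    exact Units.ext hab'
  have hsol' : Group.IsSolvable (H ⧸ ρu.ker) := inferInstance
  have h1 : (QuotientGroup.mk g : H ⧸ ρu.ker) = 1 := by
    apply hhlite_faithful ρq hinj hpq n hn hM _ hsol' _ (quotient_qSubgroups_comm ρu.ker hab)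
      (QuotientGroup.mk g) k _ e he _
    · intro S hS
      apply hirr S
      intro h m hm
      rw [← hρq]
      exact hS _ m hm
    · intro r hr hrd
      exact hdiv r hr (dvd_trans hrd (Subgroup.card_quotient_dvd_card _))
    · rw [← QuotientGroup.mk_pow, hg, QuotientGroup.mk_one]
    · rw [hρq]; exact heng
  have h2 : g ∈ ρu.ker := (QuotientGroup.eq_one_iff g).mp h1
  rw [MonoidHom.mem_ker] at h2
  rw [← hρu', h2]
  rfl

end hhlite

end Cfsg.Agent.Lib.Helper12
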