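import Mathlib
import Cfsg.Prelude.Def_LocalEven
import Cfsg.Prelude.Def_PLocal
import Cfsg.Agent.Lib.Helper12.HHLite

set_option autoImplicit false
open scoped BigOperators

namespace Cfsg.Agent.Lib.Helper12

section bridge

/-- an action by automorphisms on a commutative group, as additive endomorphisms -/
noncomputable def endOfAut {Γ N : Type*} [Group Γ] [CommGroup N] (φ : Γ →* MulAut N) :
    Γ →* AddMonoid.End (Additive N) :=
  (monoidEndToAdditive N).toMonoidHom.comp ((MulDistribMulAction.toMonoidEnd (MulAut N) N).comp φ)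

theorem endOfAut_apply {Γ N : Type*} [Group Γ] [CommGroup N] (φ : Γ →* MulAut N) (y : Γ) (x : N) :
    endOfAut φ y (Additive.ofMul x) = Additive.ofMul (φ y x) := rfl

theorem endOfAut_sub_one_pow_apply {Γ N : Type*} [Group Γ] [CommGroup N] (φ : Γ →* MulAut N) (g : Γ) (e : ℕ)
    (x : N) :
    ((endOfAut φ g - 1) ^ e) (Additive.ofMul x) = Additive.ofMul ((fun x => φ g x / x)^[e] x) := by
  induction e generalizing x with
  | zero => simp
  | succ e ih =>
    rw [pow_succ, Function.iterate_succ_apply]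
    have h1 : ((endOfAut φ g - 1) ^ e * (endOfAut φ g - 1)) (Additive.ofMul x)
        = ((endOfAut φ g - 1) ^ e) ((endOfAut φ g - 1) (Additive.ofMul x)) := rfl
    rw [h1]
    have h2 : (endOfAut φ g - 1) (Additive.ofMul x) = Additive.ofMul (φ g x / x) := rfl
    rw [h2, ih]

/-- multiplicative form of `hhlite` -/
theorem aut_trivial_of_engel {H N : Type*} [Group H] [Finite H] [CommGroup N] [Finite N] (φ : H →* MulAut N)
    {p q : ℕ} [Fact p.Prime] [Fact q.Prime] (hpq : p ≠ q) (n : ℕ) (hn : 1 ≤ n) (hN : Nat.card N = p ^ n)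
    (hirr : ∀ S : Subgroup N, (∀ h : H, ∀ x ∈ S, φ h x ∈ S) → S = ⊥ ∨ S = ⊤)
    (hsol : Group.IsSolvable H)
    (hdiv : ∀ r : ℕ, r.Prime → r ∣ Nat.card H → r = p ∨ r = q)
    (hab : ∀ B : Subgroup H, IsPGroup q B → ∀ a ∈ B, ∀ b ∈ B, a * b = b * a)
    (g : H) (k : ℕ) (hg : g ^ p ^ k = 1) (e : ℕ) (he : e ≤ p - 1)
    (heng : ∀ x : N, (fun x => φ g x / x)^[e] x = 1) : φ g = 1 := by
  have hM : Nat.card (Additive N) = p ^ n := hN
  have h1 : endOfAut φ g = 1 := by
    apply hhlite (endOfAut φ) hpq n hn hM _ hsol hdiv hab g k hg e he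
    · ext m
      obtain ⟨x, rfl⟩ := Additive.ofMul.surjective m
      rw [endOfAut_sub_one_pow_apply, heng x]
      rfl
    · intro S hS
      rcases hirr (AddSubgroup.toSubgroup' S) (by
        intro h x hx
        rw [AddSubgroup.mem_toSubgroup'] at hx ⊢
        exact hS h _ hx) with h | h
      · left
        rw [eq_bot_iff]
        intro m hm
        obtain ⟨x, rfl⟩ := Additive.ofMul.surjective m
        have : x ∈ AddSubgroup.toSubgroup' S := (AddSubgroup.mem_toSubgroup' S x).mpr hm
        rw [h, Subgroup.mem_bot] at this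
        rw [this]; exact AddSubgroup.zero_mem _
      · right
        rw [eq_top_iff]
        intro m _
        obtain ⟨x, rfl⟩ := Additive.ofMul.surjective m
        have : x ∈ AddSubgroup.toSubgroup' S := by rw [h]; exact Subgroup.mem_top _
        exact (AddSubgroup.mem_toSubgroup' S x).mp this
  ext x
  have := endOfAut_apply φ g x
  rw [h1] at this
  exact (Additive.ofMul.injective this).symm

/-- the same with a commutativity hypothesis instead of an instance -/
theorem aut_trivial_of_engel' {H N : Type*} [Group H] [Finite H] [Group N] [Finite N]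
    (hc : ∀ a b : N, a * b = b * a) (φ : H →* MulAut N)
    {p q : ℕ} [Fact p.Prime] [Fact q.Prime] (hpq : p ≠ q) (n : ℕ) (hn : 1 ≤ n) (hN : Nat.card N = p ^ n)
    (hirr : ∀ S : Subgroup N, (∀ h : H, ∀ x ∈ S, φ h x ∈ S) → S = ⊥ ∨ S = ⊤)
    (hsol : Group.IsSolvable H)
    (hdiv : ∀ r : ℕ, r.Prime → r ∣ Nat.card H → r = p ∨ r = q)
    (hab : ∀ B : Subgroup H, IsPGroup q B → ∀ a ∈ B, ∀ b ∈ B, a * b = b * a)
    (g : H) (k : ℕ) (hg : g ^ p ^ k = 1) (e : ℕ) (he : e ≤ p - 1)
    (heng : ∀ x : N, (fun x => φ g x / x)^[e] x = 1) : φ g = 1 := by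
  let _ : CommGroup N := { (inferInstance : Group N) with mul_comm := hc }
  exact aut_trivial_of_engel φ hpq n hn hN hirr hsol hdiv hab g k hg e he heng

end bridge

end Cfsg.Agent.Lib.Helper12
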