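import Mathlib
import Cfsg.Prelude.Def_LocalEven
import Cfsg.Prelude.Def_PLocal
import Cfsg.Agent.Lib.Helper12.HHLiteGroup0

set_option autoImplicit false
open scoped BigOperators commutatorElement

namespace Cfsg.Agent.Lib.Helper12

section bridge2

/-- **Hall–Higman-lite for chief factors**: in a solvable `{p,q}`-group with abelian `q`-subgroups, a `p`-element that is
`e`-Engel (`e ≤ p - 1`) on a `p`-chief factor `U / V` centralizes it. -/
theorem commutator_le_of_iterCommutator_le {Y : Type*} [Group Y] [Finite Y] {p q : ℕ} [Fact p.Prime] [Fact q.Prime]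
    (hpq : p ≠ q) (hsol : Group.IsSolvable Y)
    (hdiv : ∀ r : ℕ, r.Prime → r ∣ Nat.card Y → r = p ∨ r = q)
    (hab : ∀ B : Subgroup Y, IsPGroup q B → ∀ a ∈ B, ∀ b ∈ B, a * b = b * a)
    (U V : Subgroup Y) (hUV : Cfsg.IsChiefFactor U V) (hU : IsPGroup p U)
    (g : Y) (k : ℕ) (hg : g ^ p ^ k = 1) (e : ℕ) (he : e ≤ p - 1)
    (heng : Cfsg.iterCommutator U (Subgroup.zpowers g) e ≤ V) :
    ⁅U, Subgroup.zpowers g⁆ ≤ V := by
  obtain ⟨hlt, hUn, hVn, hmin⟩ := hUV
  have := hUn
  have := hVn
  obtain ⟨Ub, hUb⟩ : ∃ Ub : Subgroup (Y ⧸ V), Ub = U.map (QuotientGroup.mk' V) := ⟨_, rfl⟩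
  have hUbn : Ub.Normal := by
    rw [hUb]; exact Subgroup.Normal.map hUn _ (QuotientGroup.mk'_surjective V)
  have hcomap : Ub.comap (QuotientGroup.mk' V) = U := by
    rw [hUb, Subgroup.comap_map_eq, QuotientGroup.ker_mk', sup_eq_left.mpr hlt.le]
  have hmemUb : ∀ u : Y, QuotientGroup.mk' V u ∈ Ub ↔ u ∈ U := by
    intro u
    rw [← hcomap, Subgroup.mem_comap]
  -- normal subgroups of the quotient inside `Ub`
  have hmin' : ∀ Lb : Subgroup (Y ⧸ V), Lb.Normal → Lb ≤ Ub → Lb = ⊥ ∨ Lb = Ub := by
    intro Lb hLbn hLb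
    have hV : V ≤ Lb.comap (QuotientGroup.mk' V) := by
      intro v hv
      rw [Subgroup.mem_comap]
      have : QuotientGroup.mk' V v = 1 := (QuotientGroup.eq_one_iff v).mpr hv
      rw [this]; exact one_mem _
    have hUL : Lb.comap (QuotientGroup.mk' V) ≤ U := by
      rw [← hcomap]; exact Subgroup.comap_mono hLb
    rcases hmin (Lb.comap (QuotientGroup.mk' V)) (hLbn.comap _) hV hUL with h | h
    · left
      rw [eq_bot_iff]
      intro x hx
      obtain ⟨y, rfl⟩ := QuotientGroup.mk'_surjective V x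
      have : y ∈ Lb.comap (QuotientGroup.mk' V) := hx
      rw [h] at this
      exact (QuotientGroup.eq_one_iff y).mpr this
    · right
      apply le_antisymm hLb
      intro x hx
      obtain ⟨y, rfl⟩ := QuotientGroup.mk'_surjective V x
      have h1 : y ∈ U := (hmemUb y).mp hx
      rw [← h] at h1
      exact h1
  have hnt : Nontrivial ↥Ub := by
    obtain ⟨u, hu, huV⟩ := SetLike.exists_of_lt hlt
    refine ⟨⟨⟨QuotientGroup.mk' V u, (hmemUb u).mpr hu⟩, 1, ?_⟩⟩
    intro h
    apply huV
    have := congrArg Subtype.val h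
    exact (QuotientGroup.eq_one_iff u).mp this
  have hcomm : ∀ a b : ↥Ub, a * b = b * a := by
    rcases hmin' ⁅Ub, Ub⁆ inferInstance (Subgroup.commutator_le_right Ub Ub) with h | h
    · intro a b
      rw [Subgroup.commutator_eq_bot_iff_le_centralizer] at h
      have := (Subgroup.mem_centralizer_iff.mp (h b.2)) a a.2
      exact Subtype.ext this
    · exfalso
      have h1 : (commutator ↥Ub).map Ub.subtype = Ub := by
        rw [commutator_def, Subgroup.map_commutator, ← MonoidHom.range_eq_map, Subgroup.range_subtype, h]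
      have h2 : commutator ↥Ub = ⊤ := by
        apply Subgroup.map_injective Ub.subtype_injective
        rw [h1, ← MonoidHom.range_eq_map, Subgroup.range_subtype]
      exact (Group.IsSolvable.commutator_lt_top_of_nontrivial ↥Ub).ne h2
  have hUbp : IsPGroup p ↥Ub := by
    rintro ⟨x, hx⟩
    obtain ⟨u, rfl⟩ := QuotientGroup.mk'_surjective V x
    have hu : u ∈ U := (hmemUb u).mp hx
    obtain ⟨j, hj⟩ := hU ⟨u, hu⟩
    refine ⟨j, Subtype.ext ?_⟩
    have : u ^ p ^ j = 1 := by simpa using congrArg Subtype.val hj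
    show (QuotientGroup.mk' V u) ^ p ^ j = 1
    rw [← map_pow, this, map_one]
  obtain ⟨n, hn⟩ := IsPGroup.iff_card.mp hUbp
  have hn1 : 1 ≤ n := by
    rcases Nat.eq_zero_or_pos n with h | h
    · subst h
      rw [pow_zero] at hn
      have := (Nat.card_eq_one_iff_unique.mp hn).1
      exact absurd hnt (not_nontrivial _)
    · exact h
  obtain ⟨φ, hφ⟩ : ∃ φ : Y →* MulAut ↥Ub, φ = (MulAut.conjNormal (H := Ub)).comp (QuotientGroup.mk' V) := ⟨_, rfl⟩
  have hφa : ∀ (y : Y) (x : ↥Ub), ((φ y x : ↥Ub) : Y ⧸ V) = QuotientGroup.mk' V y * x * (QuotientGroup.mk' V y)⁻¹ := by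
    intro y x
    rw [hφ]
    rfl
  have hφg : φ g = 1 := by
    apply aut_trivial_of_engel' hcomm φ hpq n hn1 hn _ hsol hdiv hab g k hg e he
    · -- Engel condition
      have key : ∀ (e' j : ℕ) (u : Y), u ∈ Cfsg.iterCommutator U (Subgroup.zpowers g) j →
          ∀ h : QuotientGroup.mk' V u ∈ Ub,
          ∃ u' ∈ Cfsg.iterCommutator U (Subgroup.zpowers g) (j + e'), ∃ h' : QuotientGroup.mk' V u' ∈ Ub,
            (fun x => φ g x / x)^[e'] ⟨QuotientGroup.mk' V u, h⟩ = ⟨QuotientGroup.mk' V u', h'⟩ := by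
        intro e'
        induction e' with
        | zero => intro j u hu h; exact ⟨u, hu, h, rfl⟩
        | succ e' ih =>
          intro j u hu h
          have hu0 : u ∈ U := (hmemUb u).mp h
          have hu1 : g * u * g⁻¹ * u⁻¹ ∈ Cfsg.iterCommutator U (Subgroup.zpowers g) (j + 1) := by
            show _ ∈ ⁅_, _⁆
            rw [Subgroup.commutator_comm]
            exact Subgroup.commutator_mem_commutator (Subgroup.mem_zpowers g) hu
          have hmem : QuotientGroup.mk' V (g * u * g⁻¹ * u⁻¹) ∈ Ub :=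
            (hmemUb _).mpr (U.mul_mem (hUn.conj_mem u hu0 g) (U.inv_mem hu0))
          obtain ⟨u', hu', h', heq⟩ := ih (j + 1) _ hu1 hmem
          refine ⟨u', by rw [show j + (e' + 1) = j + 1 + e' by omega]; exact hu', h', ?_⟩
          rw [Function.iterate_succ_apply, ← heq]
          congr 1
          apply Subtype.ext
          rw [div_eq_mul_inv, Subgroup.coe_mul, hφa]
          simp
      intro x
      obtain ⟨x, hx⟩ := x
      obtain ⟨u, rfl⟩ := QuotientGroup.mk'_surjective V x
      obtain ⟨u', hu', h', heq⟩ := key e 0 u ((hmemUb u).mp hx) hx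
      rw [heq]
      apply Subtype.ext
      rw [zero_add] at hu'
      exact (QuotientGroup.eq_one_iff u').mpr (heng hu')
    · -- irreducibility
      intro S hS
      have hLn : (S.map Ub.subtype).Normal := by
        constructor
        rintro _ ⟨s, hs, rfl⟩ y
        obtain ⟨y0, rfl⟩ := QuotientGroup.mk'_surjective V y
        refine ⟨φ y0 s, hS y0 s hs, ?_⟩
        exact hφa y0 s
      rcases hmin' _ hLn (Subgroup.map_subtype_le S) with h | h
      · left
        rwa [Subgroup.map_eq_bot_iff_of_injective S Ub.subtype_injective] at h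
      · right
        apply Subgroup.map_injective Ub.subtype_injective
        rw [h, ← MonoidHom.range_eq_map, Subgroup.range_subtype]
  have hgc : g ∈ (Subgroup.centralizer (Ub : Set (Y ⧸ V))).comap (QuotientGroup.mk' V) := by
    rw [Subgroup.mem_comap, Subgroup.mem_centralizer_iff]
    intro x hx
    have h1 := hφa g ⟨x, hx⟩
    rw [hφg] at h1
    have h2 : x = QuotientGroup.mk' V g * x * (QuotientGroup.mk' V g)⁻¹ := h1
    calc x * QuotientGroup.mk' V g = QuotientGroup.mk' V g * x * (QuotientGroup.mk' V g)⁻¹ * QuotientGroup.mk' V g := by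
          rw [← h2]
      _ = QuotientGroup.mk' V g * x := by group
  rw [Subgroup.commutator_le]
  intro u hu z hz
  have hz' := (Subgroup.zpowers_le.mpr hgc) hz
  rw [Subgroup.mem_comap, Subgroup.mem_centralizer_iff] at hz'
  have h3 := hz' (QuotientGroup.mk' V u) ((hmemUb u).mpr hu)
  apply (QuotientGroup.eq_one_iff _).mp
  have h4 : ((⁅u, z⁆ : Y) : Y ⧸ V) = ⁅QuotientGroup.mk' V u, QuotientGroup.mk' V z⁆ := by
    rw [commutatorElement_def, commutatorElement_def]
    simp
  rw [h4, commutatorElement_eq_one_iff_mul_comm]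
  exact h3

end bridge2

end Cfsg.Agent.Lib.Helper12
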