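import Mathlib
import Cfsg.Prelude.Def_LocalEven
import Cfsg.Prelude.Def_PLocal
import Cfsg.Agent.Lib.Helper12.HHLiteGroup
import Cfsg.Agent.Lib.Helper12.HallHigman
import Cfsg.Agent.Lib.Helper12.Cores

set_option autoImplicit false
open scoped commutatorElement

namespace Cfsg.Agent.Lib.Helper12

section pstable

/-- the class of solvable `{p,q}`-groups with abelian `q`-subgroups -/
def IsPQAb (p q : ℕ) (X : Type*) [Group X] : Prop :=
  Group.IsSolvable X ∧ (∀ r : ℕ, r.Prime → r ∣ Nat.card X → r = p ∨ r = q) ∧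
    ∀ B : Subgroup X, IsPGroup q B → ∀ a ∈ B, ∀ b ∈ B, a * b = b * a

theorem IsPQAb.subgroup {p q : ℕ} {X : Type*} [Group X] (h : IsPQAb p q X) (H : Subgroup X) :
    IsPQAb p q ↥H := by
  obtain ⟨h1, h2, h3⟩ := h
  refine ⟨inferInstance, ?_, ?_⟩
  · intro r hr hrd
    exact h2 r hr (hrd.trans (Subgroup.card_subgroup_dvd_card H))
  · intro B hB a ha b hb
    have hB' : IsPGroup q (B.map H.subtype) := hB.map _
    have := h3 _ hB' _ (Subgroup.mem_map_of_mem _ ha) _ (Subgroup.mem_map_of_mem _ hb)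
    exact Subtype.ext this

theorem IsPQAb.quotient {p q : ℕ} [Fact q.Prime] {X : Type*} [Group X] [Finite X] (h : IsPQAb p q X)
    (N : Subgroup X) [N.Normal] : IsPQAb p q (X ⧸ N) := by
  obtain ⟨h1, h2, h3⟩ := h
  refine ⟨inferInstance, ?_, quotient_qSubgroups_comm N h3⟩
  intro r hr hrd
  exact h2 r hr (hrd.trans (Subgroup.card_quotient_dvd_card N))

/-- elements centralizing every chief factor below `P` -/
def chiefCentralizer {N : Type*} [Group N] (P : Subgroup N) : Subgroup N where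
  carrier := {x | ∀ U V : Subgroup N, Cfsg.IsChiefFactor U V → U ≤ P → ∀ u ∈ U, u * x * u⁻¹ * x⁻¹ ∈ V}
  one_mem' := by
    intro U V _ _ u _
    simp
  mul_mem' := by
    intro x y hx hy U V h hUP u hu
    have hVn := h.2.2.1
    have e : u * (x * y) * u⁻¹ * (x * y)⁻¹ = (u * x * u⁻¹ * x⁻¹) * (x * (u * y * u⁻¹ * y⁻¹) * x⁻¹) := by group
    rw [e]
    exact V.mul_mem (hx U V h hUP u hu) (hVn.conj_mem _ (hy U V h hUP u hu) x)
  inv_mem' := by
    intro x hx U V h hUP u hu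
    have hVn := h.2.2.1
    have e : u * x⁻¹ * u⁻¹ * x⁻¹⁻¹ = x⁻¹ * (u * x * u⁻¹ * x⁻¹)⁻¹ * x⁻¹⁻¹ := by group
    rw [e]
    exact hVn.conj_mem _ (V.inv_mem (hx U V h hUP u hu)) x⁻¹

theorem mem_chiefCentralizer {N : Type*} [Group N] (P : Subgroup N) (x : N) :
    x ∈ chiefCentralizer P ↔
      ∀ U V : Subgroup N, Cfsg.IsChiefFactor U V → U ≤ P → ∀ u ∈ U, u * x * u⁻¹ * x⁻¹ ∈ V := Iff.rfl

instance chiefCentralizer_normal {N : Type*} [Group N] (P : Subgroup N) : (chiefCentralizer P).Normal := by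
  constructor
  intro x hx y U V h hUP u hu
  have hUn := h.2.1
  have hVn := h.2.2.1
  have e : u * (y * x * y⁻¹) * u⁻¹ * (y * x * y⁻¹)⁻¹ =
      y * ((y⁻¹ * u * y⁻¹⁻¹) * x * (y⁻¹ * u * y⁻¹⁻¹)⁻¹ * x⁻¹) * y⁻¹ := by group
  rw [e]
  exact hVn.conj_mem _ (hx U V h hUP _ (hUn.conj_mem u hu y⁻¹)) y

/-- coprime action: if `x` has order prime to `p`, commutes with the `p`-element `c = [u, x]`, then `c = 1`. -/
theorem comm_of_coprime_of_comm_commutator {G : Type*} [Group G] {p : ℕ} (x u : G) (m k : ℕ) (hm : m.Coprime p)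
    (hx : x ^ m = 1) (hc : (u * x * u⁻¹ * x⁻¹) ^ p ^ k = 1)
    (hcomm : x * (u * x * u⁻¹ * x⁻¹) = (u * x * u⁻¹ * x⁻¹) * x) : u * x = x * u := by
  obtain ⟨c, hcdef⟩ : ∃ c, c = u * x * u⁻¹ * x⁻¹ := ⟨_, rfl⟩
  rw [← hcdef] at hc hcomm
  have h1 : u * x * u⁻¹ = c * x := by rw [hcdef]; group
  have h2 : (u * x * u⁻¹) ^ m = 1 := by rw [conj_pow, hx]; group
  have h3 : (c * x) ^ m = c ^ m * x ^ m := Commute.mul_pow (show Commute c x from hcomm.symm) m
  rw [h1, h3, hx, mul_one] at h2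
  have h4 : c = 1 := eq_one_of_pow_eq_one_of_coprime c k m hc h2 hm
  rw [h4] at h1
  calc u * x = u * x * u⁻¹ * u := by group
    _ = x * u := by rw [h1, one_mul]

/-- a `p'`-element centralizing all chief factors below the `p`-group `P` centralizes every normal subgroup below `P` -/
theorem comm_of_mem_chiefCentralizer {N : Type*} [Group N] [Finite N] {p : ℕ} (P : Subgroup N)
    (hPp : IsPGroup p P) (x : N) (hx : x ∈ chiefCentralizer P) (m : ℕ) (hm : m.Coprime p) (hxm : x ^ m = 1) :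
    ∀ (n : ℕ) (U : Subgroup N), Nat.card U = n → U.Normal → U ≤ P → ∀ u ∈ U, u * x = x * u := by
  intro n
  induction n using Nat.strong_induction_on with
  | _ n ih =>
  intro U hcard hUn hUP u hu
  by_cases hU : U = ⊥
  · rw [hU, Subgroup.mem_bot] at hu
    rw [hu, one_mul, mul_one]
  let 𝒱 : Set (Subgroup N) := {V | V.Normal ∧ V < U}
  have hne : 𝒱.Nonempty := ⟨⊥, inferInstance, bot_lt_iff_ne_bot.mpr hU⟩
  obtain ⟨V, ⟨hVn, hVU⟩, hmax⟩ := Set.exists_max_image 𝒱 (fun V => Nat.card ↥V) (Set.toFinite 𝒱) hne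
  have hchief : Cfsg.IsChiefFactor U V := by
    refine ⟨hVU, hUn, hVn, ?_⟩
    intro N' hN'n hVN' hN'U
    by_cases h : N' = U
    · right; exact h
    · left
      have hlt : N' < U := lt_of_le_of_ne hN'U h
      have := hmax N' ⟨hN'n, hlt⟩
      exact (Subgroup.eq_of_le_of_card_ge hVN' this).symm
  have hcardV : Nat.card V < n := by
    rw [← hcard]
    apply lt_of_le_of_ne (Subgroup.card_le_of_le hVU.le)
    intro h
    exact hVU.ne (Subgroup.eq_of_le_of_card_ge hVU.le h.ge)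
  have hc : u * x * u⁻¹ * x⁻¹ ∈ V := hx U V hchief hUP u hu
  have hcomm : x * (u * x * u⁻¹ * x⁻¹) = (u * x * u⁻¹ * x⁻¹) * x :=
    (ih _ hcardV V rfl hVn (hVU.le.trans hUP) _ hc).symm
  obtain ⟨k, hk⟩ := hPp ⟨u * x * u⁻¹ * x⁻¹, hUP (hVU.le hc)⟩
  have hk' : (u * x * u⁻¹ * x⁻¹) ^ p ^ k = 1 := by simpa using congrArg Subtype.val hk
  exact comm_of_coprime_of_comm_commutator x u m k hm hxm hk' hcomm

/-- decomposition of an element of finite order into `p`-part and `p'`-part -/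
theorem exists_pPart_decomposition {G : Type*} [Group G] [Finite G] (g : G) (p : ℕ) [hp : Fact p.Prime] :
    ∃ z y : G, z ∈ Subgroup.zpowers g ∧ y ∈ Subgroup.zpowers g ∧ g = z * y ∧ (∃ a : ℕ, z ^ p ^ a = 1) ∧
      ∃ m : ℕ, m.Coprime p ∧ y ^ m = 1 := by
  obtain ⟨a, m, hndvd, hn⟩ := Nat.exists_eq_pow_mul_and_not_dvd (orderOf_pos g).ne' p hp.out.ne_one
  have hcop : Nat.Coprime (p ^ a) m := Nat.Coprime.pow_left a ((Nat.Prime.coprime_iff_not_dvd hp.out).mpr hndvd)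
  have hbez := Int.gcd_eq_gcd_ab (p ^ a : ℕ) m
  rw [Int.gcd_natCast_natCast, hcop.gcd_eq_one] at hbez
  obtain ⟨A, hA⟩ : ∃ A : ℤ, A = Int.gcdA (p ^ a : ℕ) m := ⟨_, rfl⟩
  obtain ⟨B, hB⟩ : ∃ B : ℤ, B = Int.gcdB (p ^ a : ℕ) m := ⟨_, rfl⟩
  rw [← hA, ← hB] at hbez
  have hgn : ∀ c : ℤ, g ^ (((p ^ a : ℕ) : ℤ) * (m : ℤ) * c) = 1 := by
    intro c
    rw [zpow_mul, ← Nat.cast_mul, zpow_natCast, ← hn, pow_orderOf_eq_one, one_zpow]
  refine ⟨g ^ ((m : ℤ) * B), g ^ (((p ^ a : ℕ) : ℤ) * A), ⟨_, rfl⟩, ⟨_, rfl⟩, ?_, ⟨a, ?_⟩, ⟨m, ?_, ?_⟩⟩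
  · rw [← zpow_add, add_comm, ← hbez]
    simp
  · rw [← zpow_natCast, ← zpow_mul]
    have : (m : ℤ) * B * ((p ^ a : ℕ) : ℤ) = ((p ^ a : ℕ) : ℤ) * (m : ℤ) * B := by ring
    rw [this]; exact hgn B
  · exact Nat.Coprime.symm ((Nat.Prime.coprime_iff_not_dvd hp.out).mpr hndvd)
  · rw [← zpow_natCast, ← zpow_mul]
    have : ((p ^ a : ℕ) : ℤ) * A * (m : ℤ) = ((p ^ a : ℕ) : ℤ) * (m : ℤ) * A := by ring
    rw [this]; exact hgn A

/-- the image of the chief-factor centralizer modulo (a normal subgroup containing) `C(P)` is a `p`-group -/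
theorem isPGroup_map_chiefCentralizer {N : Type*} [Group N] [Finite N] {p : ℕ} [hp : Fact p.Prime] (P : Subgroup N)
    [hPn : P.Normal] (hPp : IsPGroup p P) (C : Subgroup N) [C.Normal]
    (hC : ∀ x : N, (∀ u ∈ P, u * x = x * u) → x ∈ C) :
    IsPGroup p ((chiefCentralizer P).map (QuotientGroup.mk' C)) := by
  rintro ⟨_, x, hx, rfl⟩
  obtain ⟨a, m, hndvd, hn⟩ := Nat.exists_eq_pow_mul_and_not_dvd (orderOf_pos x).ne' p hp.out.ne_one
  have hm : m.Coprime p := Nat.Coprime.symm ((Nat.Prime.coprime_iff_not_dvd hp.out).mpr hndvd)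
  have hy : x ^ p ^ a ∈ chiefCentralizer P := (chiefCentralizer P).pow_mem hx _
  have hym : (x ^ p ^ a) ^ m = 1 := by rw [← pow_mul, ← hn, pow_orderOf_eq_one]
  have hyC : x ^ p ^ a ∈ C :=
    hC _ (comm_of_mem_chiefCentralizer P hPp _ hy m hm hym _ P rfl hPn le_rfl)
  refine ⟨a, Subtype.ext ?_⟩
  show (QuotientGroup.mk' C x) ^ p ^ a = 1
  rw [← map_pow]
  exact (QuotientGroup.eq_one_iff _).mpr hyC

/-- **`p`-stability, internal form**: in a solvable `{p,q}`-group `N` (`p` odd) with abelian `q`-subgroups, an element acting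
quadratically on a normal `p`-subgroup `P` lies in `O_p` modulo the centralizer of `P`. -/
theorem mk_mem_pCore_of_quadratic {N : Type*} [Group N] [Finite N] {p q : ℕ} [hp : Fact p.Prime] [Fact q.Prime]
    (hp2 : p ≠ 2) (hpq : p ≠ q) (hD : IsPQAb p q N) (P : Subgroup N) [hPn : P.Normal] (hPp : IsPGroup p P)
    (C : Subgroup N) [hCn : C.Normal] (hC : ∀ x : N, (∀ u ∈ P, u * x = x * u) → x ∈ C) (g : N)
    (hquad : ⁅⁅P, Subgroup.zpowers g⁆, Subgroup.zpowers g⁆ = ⊥) :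
    QuotientGroup.mk' C g ∈ Cfsg.pCore p (N ⧸ C) := by
  obtain ⟨z, y, hz, hy, hgzy, ⟨a, hza⟩, m, hm, hym⟩ := exists_pPart_decomposition g p
  have hcommP : ∀ c ∈ ⁅P, Subgroup.zpowers g⁆, ∀ h ∈ Subgroup.zpowers g, h * c = c * h := by
    intro c hc h hh
    have h1 : ⁅c, h⁆ ∈ ⁅⁅P, Subgroup.zpowers g⁆, Subgroup.zpowers g⁆ := Subgroup.commutator_mem_commutator hc hh
    rw [hquad, Subgroup.mem_bot, commutatorElement_eq_one_iff_mul_comm] at h1
    exact h1.symm
  -- the `p'`-part centralizes `P`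
  have hyC : y ∈ C := by
    apply hC
    intro u hu
    have hcP : u * y * u⁻¹ * y⁻¹ ∈ P := by
      have : u * y * u⁻¹ * y⁻¹ = u * (y * u⁻¹ * y⁻¹) := by group
      rw [this]
      exact P.mul_mem hu (hPn.conj_mem _ (P.inv_mem hu) y)
    obtain ⟨k, hk⟩ := hPp ⟨_, hcP⟩
    have hk' : (u * y * u⁻¹ * y⁻¹) ^ p ^ k = 1 := by simpa using congrArg Subtype.val hk
    have hmem : u * y * u⁻¹ * y⁻¹ ∈ ⁅P, Subgroup.zpowers g⁆ := Subgroup.commutator_mem_commutator hu hy
    exact comm_of_coprime_of_comm_commutator y u m k hm hym hk' (hcommP _ hmem y hy)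
  -- the `p`-part centralizes the chief factors
  have hp3 : 2 ≤ p - 1 := by
    have := hp.out.two_le
    omega
  have hzR : z ∈ chiefCentralizer P := by
    intro U V hUV hUP u hu
    have hzg : Subgroup.zpowers z ≤ Subgroup.zpowers g := Subgroup.zpowers_le.mpr hz
    have heng : Cfsg.iterCommutator U (Subgroup.zpowers z) 2 ≤ V := by
      have h1 : Cfsg.iterCommutator U (Subgroup.zpowers z) 2 ≤ ⁅⁅P, Subgroup.zpowers g⁆, Subgroup.zpowers g⁆ :=
        Subgroup.commutator_mono (Subgroup.commutator_mono hUP hzg) hzg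
      rw [hquad] at h1
      exact h1.trans bot_le
    have h2 := commutator_le_of_iterCommutator_le hpq hD.1 hD.2.1 hD.2.2 U V hUV (hPp.to_le hUP) z a hza 2 hp3 heng
    exact h2 (Subgroup.commutator_mem_commutator hu (Subgroup.mem_zpowers z))
  have hmk : QuotientGroup.mk' C g = QuotientGroup.mk' C z := by
    have hy1 : QuotientGroup.mk' C y = 1 := (QuotientGroup.eq_one_iff y).mpr hyC
    rw [hgzy, map_mul, hy1, mul_one]
  rw [hmk]
  have hle : (chiefCentralizer P).map (QuotientGroup.mk' C) ≤ Cfsg.pCore p (N ⧸ C) :=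
    le_pCore' p _ (Subgroup.Normal.map inferInstance _ (QuotientGroup.mk'_surjective C))
      (isPGroup_map_chiefCentralizer P hPp C hC)
  exact hle (Subgroup.mem_map_of_mem _ hzR)

/-- **solvable `{p,q}`-groups (`p` odd) with abelian `q`-subgroups are `p`-stable in the normalizer form** -/
theorem isNormalizerPStable_of_isPQAb {X : Type*} [Group X] [Finite X] {p q : ℕ} [hp : Fact p.Prime] [Fact q.Prime]
    (hp2 : p ≠ 2) (hpq : p ≠ q) (hD : IsPQAb p q X) : Cfsg.IsNormalizerPStable p X := by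
  intro P hPp g hg hquad
  have hPp' : IsPGroup p (P.subgroupOf (Subgroup.normalizer (P : Set X))) :=
    hPp.comap_of_injective _ (Subgroup.subtype_injective _)
  have hmapP : (P.subgroupOf (Subgroup.normalizer (P : Set X))).map (Subgroup.normalizer (P : Set X)).subtype = P :=
    Subgroup.map_subgroupOf_eq_of_le Subgroup.le_normalizer
  have hquad' : ⁅⁅P.subgroupOf (Subgroup.normalizer (P : Set X)),
      Subgroup.zpowers (⟨g, hg⟩ : ↥(Subgroup.normalizer (P : Set X)))⁆,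
      Subgroup.zpowers (⟨g, hg⟩ : ↥(Subgroup.normalizer (P : Set X)))⁆ = ⊥ := by
    rw [← Subgroup.map_eq_bot_iff_of_injective _ (Subgroup.normalizer (P : Set X)).subtype_injective,
      Subgroup.map_commutator, Subgroup.map_commutator, hmapP, MonoidHom.map_zpowers]
    exact hquad
  apply mk_mem_pCore_of_quadratic hp2 hpq (hD.subgroup _) (P.subgroupOf (Subgroup.normalizer (P : Set X))) hPp'
    ((Subgroup.centralizer (P : Set X)).subgroupOf (Subgroup.normalizer (P : Set X))) _ ⟨g, hg⟩ hquad'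
  intro x hx
  rw [Subgroup.mem_subgroupOf, Subgroup.mem_centralizer_iff]
  intro u hu
  have := hx ⟨u, Subgroup.le_normalizer hu⟩ (by rw [Subgroup.mem_subgroupOf]; exact hu)
  exact congrArg Subtype.val this

end pstable

end Cfsg.Agent.Lib.Helper12
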