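import Mathlib
import Cfsg.Prelude.Def_Local
import Cfsg.Agent.Lib.Helper12.Cores
import Cfsg.Agent.Lib.Helper12.PNilpotent
import Cfsg.Agent.Lib.Helper1.Coprime
import Cfsg.Agent.Lib.Helper24.PSolvable

set_option autoImplicit false
open scoped Pointwise

namespace Cfsg.Agent.Lib.Helper12

universe u

section config

/-- a normal `p'`-subgroup supplemented... : if a `p`-subgroup `Tb` is a maximal subgroup of `X` and `Nb` is a normal
`p'`-subgroup, then `Nb` is an abelian `q`-group for some prime `q ≠ p`. -/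
theorem exists_prime_isPGroup_comm_of_coatom {X : Type*} [Group X] [Finite X] {p : ℕ} [hp : Fact p.Prime]
    (Nb Tb : Subgroup X) [hNn : Nb.Normal] (hcop : (Nat.card Nb).Coprime p) (hTp : IsPGroup p Tb)
    (hT : IsCoatom Tb) :
    ∃ q : ℕ, q.Prime ∧ p ≠ q ∧ IsPGroup q Nb ∧ ∀ a ∈ Nb, ∀ b ∈ Nb, a * b = b * a := by
  by_cases hbot : Nb = ⊥
  · obtain ⟨q, hq, hqp⟩ : ∃ q : ℕ, q.Prime ∧ p ≠ q := by
      by_cases h2 : p = 2
      · exact ⟨3, Nat.prime_three, by omega⟩
      · exact ⟨2, Nat.prime_two, h2⟩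
    refine ⟨q, hq, hqp, ?_, ?_⟩
    · rw [hbot]
      have := Fact.mk hq
      exact IsPGroup.of_bot
    · intro a ha b hb
      rw [hbot, Subgroup.mem_bot] at ha hb
      rw [ha, hb]
  have hinf : Nb ⊓ Tb = ⊥ := by
    obtain ⟨k, hk⟩ := IsPGroup.iff_card.mp hTp
    apply (Subgroup.disjoint_of_coprime_natCard ?_).eq_bot
    rw [hk]
    exact Nat.Coprime.pow_right _ hcop
  -- minimality of `Nb`
  have hminN : ∀ R : Subgroup X, R.Normal → R ≤ Nb → R ≠ ⊥ → R = Nb := by
    have hcardR : ∀ R : Subgroup X, R.Normal → R ≤ Nb → R ≠ ⊥ → Nat.card X = Nat.card R * Nat.card Tb := by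
      intro R hRn hRN hRne
      have hRT : R ⊓ Tb = ⊥ := le_bot_iff.mp (hinf ▸ inf_le_inf_right Tb hRN)
      have hnle : ¬ R ≤ Tb := by
        intro hle
        apply hRne
        rw [← inf_of_le_left hle, hRT]
      have hsup : Tb ⊔ R = ⊤ := by
        apply hT.2
        exact lt_of_le_of_ne le_sup_left (fun h => hnle (h ▸ le_sup_right))
      have h1 := card_sup_eq_of_normal Tb R
      rw [hsup, Subgroup.card_top] at h1
      rw [h1]
      congr 1
      rw [Subgroup.relIndex, ← Subgroup.inf_subgroupOf_right, hRT]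
      simp
    intro R hRn hRN hRne
    have h1 := hcardR R hRn hRN hRne
    have h2 := hcardR Nb hNn le_rfl hbot
    have hpos : 0 < Nat.card Tb := Nat.card_pos
    have h3 : Nat.card R = Nat.card Nb := by
      have := h1.symm.trans h2
      exact Nat.eq_of_mul_eq_mul_right hpos this
    exact Subgroup.eq_of_le_of_card_ge hRN h3.ge
  -- the prime `q`
  have hcard1 : Nat.card Nb ≠ 1 := by
    intro h
    exact hbot (Subgroup.card_eq_one.mp h)
  obtain ⟨q, hq, hqd⟩ := Nat.exists_prime_and_dvd hcard1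
  have hqf : Fact q.Prime := ⟨hq⟩
  have hpq : p ≠ q := by
    rintro rfl
    have := Nat.Coprime.eq_one_of_dvd hcop.symm hqd
    exact hp.out.one_lt.ne' this
  -- a `Tb`-invariant Sylow `q`-subgroup of `Nb`
  let act : MulAction ↥Tb (Sylow q ↥Nb) :=
    MulAction.compHom (Sylow q ↥Nb) ((MulAut.conjNormal (H := Nb)).comp Tb.subtype)
  have hnd : ¬ p ∣ Nat.card (Sylow q ↥Nb) := by
    intro hd
    obtain ⟨Q₁⟩ : Nonempty (Sylow q ↥Nb) := inferInstance
    have h1 : p ∣ Nat.card Nb := hd.trans ((Sylow.card_dvd_index Q₁).trans (Subgroup.index_dvd_card _))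
    have := Nat.Coprime.eq_one_of_dvd hcop.symm h1
    exact hp.out.one_lt.ne' this
  obtain ⟨Q₀, hQ₀⟩ := hTp.nonempty_fixed_point_of_prime_not_dvd_card (Sylow q ↥Nb) hnd
  have hQ₀' : ∀ t : ↥Tb, (MulAut.conjNormal (t : X) : MulAut ↥Nb) • Q₀ = Q₀ := fun t => hQ₀ t
  obtain ⟨Q, hQ⟩ : ∃ Q : Subgroup X, Q = (Q₀ : Subgroup ↥Nb).map Nb.subtype := ⟨_, rfl⟩
  have hQN : Q ≤ Nb := by rw [hQ]; exact Subgroup.map_subtype_le _
  have hQq : IsPGroup q Q := by rw [hQ]; exact Q₀.2.map _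
  have hQne : Q ≠ ⊥ := by
    rw [hQ]
    intro h
    rw [Subgroup.map_eq_bot_iff_of_injective _ Nb.subtype_injective] at h
    exact Q₀.ne_bot_of_dvd_card hqd h
  have hTQ : Tb ≤ Subgroup.normalizer (Q : Set X) := by
    intro t ht
    apply Cfsg.Agent.Lib.Helper1.mem_normalizer_of_forall_conj_mem
    intro x hx
    rw [hQ] at hx ⊢
    obtain ⟨y, hy, rfl⟩ := hx
    have h1 : (MulAut.conjNormal t : MulAut ↥Nb) • y ∈
        (((MulAut.conjNormal t : MulAut ↥Nb) • Q₀ : Sylow q ↥Nb) : Subgroup ↥Nb) := by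
      rw [Sylow.pointwise_smul_def]
      exact Subgroup.smul_mem_pointwise_smul _ _ _ hy
    rw [hQ₀' ⟨t, ht⟩] at h1
    exact ⟨_, h1, rfl⟩
  have hQnormal : Q.Normal := by
    rw [← Subgroup.normalizer_eq_top_iff]
    by_contra hne
    have h1 : Subgroup.normalizer (Q : Set X) = Tb := by
      by_contra h2
      exact hne (hT.2 _ (lt_of_le_of_ne hTQ (Ne.symm h2)))
    have h2 : Q ≤ Tb := h1 ▸ Subgroup.le_normalizer
    apply hQne
    have : Q ≤ Nb ⊓ Tb := le_inf hQN h2
    rw [hinf] at this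
    exact le_bot_iff.mp this
  have hQeq : Q = Nb := hminN Q hQnormal hQN hQne
  have hNq : IsPGroup q ↥Nb := hQeq ▸ hQq
  refine ⟨q, hq, hpq, hNq, ?_⟩
  -- the center
  have : Nontrivial ↥Nb := (Subgroup.nontrivial_iff_ne_bot Nb).mpr hbot
  have hZne : (Subgroup.center ↥Nb).map Nb.subtype ≠ ⊥ := by
    intro h
    rw [Subgroup.map_eq_bot_iff_of_injective _ Nb.subtype_injective] at h
    have := hNq.center_nontrivial
    rw [h] at this
    exact not_nontrivial _ this
  have hZ := hminN ((Subgroup.center ↥Nb).map Nb.subtype) inferInstance (Subgroup.map_subtype_le _) hZne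
  intro a ha b hb
  have ha' : a ∈ (Subgroup.center ↥Nb).map Nb.subtype := by rw [hZ]; exact ha
  obtain ⟨a', ha', rfl⟩ := ha'
  have := (Subgroup.mem_center_iff.mp ha') ⟨b, hb⟩
  exact (congrArg Subtype.val this).symm

/-- **Structure of Thompson's minimal configuration**: if `Y ⧸ O_p(Y)` has a normal `p`-complement and a Sylow `p`-subgroup
of `Y` is a maximal subgroup, then `Y` is a solvable `{p,q}`-group with abelian `q`-subgroups. -/
theorem exists_prime_structure_of_coatom_sylow' {Y : Type u} [Group Y] [Finite Y] {p : ℕ} [hp : Fact p.Prime]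
    (P : Subgroup Y) [hPn : P.Normal] (hPp : IsPGroup p P)
    (hquot : Cfsg.HasNormalPComplement p (Y ⧸ P))
    (T : Sylow p Y) (hT : IsCoatom (T : Subgroup Y)) :
    ∃ q : ℕ, q.Prime ∧ p ≠ q ∧ Group.IsSolvable Y ∧ (∀ r : ℕ, r.Prime → r ∣ Nat.card Y → r = p ∨ r = q) ∧
      ∀ B : Subgroup Y, IsPGroup q B → ∀ a ∈ B, ∀ b ∈ B, a * b = b * a := by
  obtain ⟨Pb, Nb, hNbn, hc⟩ := hquot
  have hcop : (Nat.card Nb).Coprime p := coprime_card_of_isComplement' Pb Nb hc
  have hPT : P ≤ (T : Subgroup Y) := Cfsg.Agent.Lib.Helper24.normal_pgroup_le_sylow P hPp T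
  obtain ⟨Tb, hTb⟩ : ∃ Tb : Subgroup (Y ⧸ P), Tb = (T : Subgroup Y).map (QuotientGroup.mk' P) := ⟨_, rfl⟩
  have hTbp : IsPGroup p Tb := by rw [hTb]; exact T.2.map _
  have hcomapT : Tb.comap (QuotientGroup.mk' P) = (T : Subgroup Y) := by
    rw [hTb, Subgroup.comap_map_eq, QuotientGroup.ker_mk', sup_eq_left.mpr hPT]
  have hTbc : IsCoatom Tb := by
    constructor
    · intro h
      apply hT.1
      rw [← hcomapT, h, Subgroup.comap_top]
    · intro Z hZ
      have h1 : (T : Subgroup Y) ≤ Z.comap (QuotientGroup.mk' P) := by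
        rw [← hcomapT]; exact Subgroup.comap_mono hZ.le
      have h2 : (T : Subgroup Y) ≠ Z.comap (QuotientGroup.mk' P) := by
        intro h
        apply hZ.ne
        rw [hTb, h, Subgroup.map_comap_eq_self_of_surjective (QuotientGroup.mk'_surjective P)]
      have h3 := hT.2 _ (lt_of_le_of_ne h1 h2)
      rw [← Subgroup.map_comap_eq_self_of_surjective (QuotientGroup.mk'_surjective P) Z, h3,
        Subgroup.map_top_of_surjective _ (QuotientGroup.mk'_surjective P)]
  obtain ⟨q, hq, hpq, hNq, hNab⟩ := exists_prime_isPGroup_comm_of_coatom Nb Tb hcop hTbp hTbc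
  have hqf : Fact q.Prime := ⟨hq⟩
  -- orders
  obtain ⟨kP, hkP⟩ := IsPGroup.iff_card.mp hPp
  obtain ⟨kN, hkN⟩ := IsPGroup.iff_card.mp hNq
  obtain ⟨kB, hkB⟩ := IsPGroup.iff_card.mp Pb.2
  have hcardX : Nat.card (Y ⧸ P) = q ^ kN * p ^ kB := by
    rw [← hc.card_mul_card, hkN, hkB]
  have hcardQ : Nat.card ((Y ⧸ P) ⧸ Nb) = p ^ kB := by
    have h1 := Subgroup.card_eq_card_quotient_mul_card_subgroup Nb
    rw [hcardX, hkN, mul_comm] at h1
    have hpos : 0 < q ^ kN := pow_pos hq.pos _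
    exact (Nat.eq_of_mul_eq_mul_right hpos h1).symm
  have hQp : IsPGroup p ((Y ⧸ P) ⧸ Nb) := IsPGroup.of_card hcardQ
  refine ⟨q, hq, hpq, ?_, ?_, ?_⟩
  · -- solvable
    have hs1 : Group.IsSolvable ↥Nb := by
      have : ∀ a b : ↥Nb, a * b = b * a := fun a b => Subtype.ext (hNab a a.2 b b.2)
      exact Group.isSolvable_of_comm this
    have hs2 : Group.IsSolvable ((Y ⧸ P) ⧸ Nb) := by
      have := hQp.isNilpotent
      infer_instance
    have hs3 : Group.IsSolvable (Y ⧸ P) :=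
      Group.isSolvable_of_ker_le_range Nb.subtype (QuotientGroup.mk' Nb) (by
        rw [QuotientGroup.ker_mk', Subgroup.range_subtype])
    have hs4 : Group.IsSolvable ↥P := by
      have := hPp.isNilpotent
      infer_instance
    exact Group.isSolvable_of_ker_le_range P.subtype (QuotientGroup.mk' P) (by
        rw [QuotientGroup.ker_mk', Subgroup.range_subtype])
  · -- prime divisors
    intro r hr hrd
    rw [Subgroup.card_eq_card_quotient_mul_card_subgroup P, hcardX, hkP] at hrd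
    rcases (Nat.Prime.dvd_mul hr).mp hrd with h | h
    · rcases (Nat.Prime.dvd_mul hr).mp h with h | h
      · right
        exact (Nat.prime_dvd_prime_iff_eq hr hq).mp (hr.dvd_of_dvd_pow h)
      · left
        exact (Nat.prime_dvd_prime_iff_eq hr hp.out).mp (hr.dvd_of_dvd_pow h)
    · left
      exact (Nat.prime_dvd_prime_iff_eq hr hp.out).mp (hr.dvd_of_dvd_pow h)
  · -- abelian `q`-subgroups
    intro B hB a ha b hb
    have hBN : ∀ x ∈ B, QuotientGroup.mk' P x ∈ Nb := by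
      intro x hx
      obtain ⟨j, hj⟩ := hB ⟨x, hx⟩
      have hxj : x ^ q ^ j = 1 := by simpa using congrArg Subtype.val hj
      apply (QuotientGroup.eq_one_iff (N := Nb) _).mp
      obtain ⟨i, hi⟩ := hQp (QuotientGroup.mk' Nb (QuotientGroup.mk' P x))
      have h1 : (QuotientGroup.mk' Nb (QuotientGroup.mk' P x)) ^ q ^ j = 1 := by
        rw [← map_pow, ← map_pow, hxj, map_one, map_one]
      have hcop' : Nat.Coprime (p ^ i) (q ^ j) :=
        Nat.Coprime.pow _ _ ((Nat.coprime_primes hp.out hq).mpr hpq)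
      have h2 := orderOf_dvd_of_pow_eq_one hi
      have h3 := orderOf_dvd_of_pow_eq_one h1
      have h4 : orderOf (QuotientGroup.mk' Nb (QuotientGroup.mk' P x)) = 1 :=
        Nat.eq_one_of_dvd_coprimes hcop' h2 h3
      exact orderOf_eq_one_iff.mp h4
    have hcomm := hNab _ (hBN a ha) _ (hBN b hb)
    have h1 : a * b * a⁻¹ * b⁻¹ ∈ P := by
      apply (QuotientGroup.eq_one_iff (N := P) _).mp
      have : ((a * b * a⁻¹ * b⁻¹ : Y) : Y ⧸ P) = QuotientGroup.mk' P a * QuotientGroup.mk' P b *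
          (QuotientGroup.mk' P a)⁻¹ * (QuotientGroup.mk' P b)⁻¹ := by simp
      rw [this, hcomm]
      group
    have h2 : a * b * a⁻¹ * b⁻¹ ∈ B := B.mul_mem (B.mul_mem (B.mul_mem ha hb) (B.inv_mem ha)) (B.inv_mem hb)
    have hdisj : Disjoint P B := IsPGroup.disjoint_of_ne p q hpq P B hPp hB
    have h3 : a * b * a⁻¹ * b⁻¹ = 1 := by
      have : a * b * a⁻¹ * b⁻¹ ∈ P ⊓ B := ⟨h1, h2⟩
      rw [hdisj.eq_bot] at this
      exact this
    calc a * b = a * b * a⁻¹ * b⁻¹ * (b * a) := by group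
      _ = b * a := by rw [h3, one_mul]

theorem exists_prime_structure_of_coatom_sylow {Y : Type u} [Group Y] [Finite Y] {p : ℕ} [hp : Fact p.Prime]
    (hquot : Cfsg.HasNormalPComplement p (Y ⧸ Cfsg.pCore p Y))
    (T : Sylow p Y) (hT : IsCoatom (T : Subgroup Y)) :
    ∃ q : ℕ, q.Prime ∧ p ≠ q ∧ Group.IsSolvable Y ∧ (∀ r : ℕ, r.Prime → r ∣ Nat.card Y → r = p ∨ r = q) ∧
      ∀ B : Subgroup Y, IsPGroup q B → ∀ a ∈ B, ∀ b ∈ B, a * b = b * a :=
  exists_prime_structure_of_coatom_sylow' (Cfsg.pCore p Y) (pCore_isPGroup' p) hquot T hT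

end config

end Cfsg.Agent.Lib.Helper12
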