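import Mathlib
import Cfsg.Prelude.Def_ConjugacyFunctors
import Cfsg.Prelude.Def_CaseTheorems
import Cfsg.Agent.Lib.Helper12.InducedFunctor
import Cfsg.Agent.Lib.Helper12.PNilpotent
import Cfsg.Agent.Lib.Helper12.ThompsonNPC0

/-!
Helper lemmas (helper12): Thompson's normal `p`-complement argument for an isomorphism-invariant `p`-group functor
(`Cfsg.IsCharPFunctor`), over a class of groups closed under subgroups and quotients:
`hasNormalPComplement_of_minimal_sections`.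
-/

set_option autoImplicit false
open Subgroup
open scoped Pointwise

namespace Cfsg.Agent.Lib.Helper12

universe u

section thompson
variable {p : ℕ} [Fact p.Prime] (W : ∀ (Q : Type u) [Group Q], Subgroup Q)
  (hW : Cfsg.IsCharPFunctor.{u} p W)

include hW in
/-- Step 1 of Thompson's argument: in a minimal counterexample `O_p(Y) ≠ 1` -/
theorem pCore_ne_bot_of_minimal {Y : Type u} [Group Y] [Finite Y]
    (hnot : ¬ Cfsg.HasNormalPComplement p Y)
    (hall : ∀ S' : Sylow p Y, Cfsg.HasNormalPComplement p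
      ↥(Subgroup.normalizer ((Cfsg.inducedFunctor W (S' : Subgroup Y) : Subgroup Y) : Set Y)))
    (IHsub : ∀ (M : Subgroup Y), M ≠ ⊤ → ∀ T : Sylow p ↥M,
      Cfsg.HasNormalPComplement p
        ↥(Subgroup.normalizer ((Cfsg.inducedFunctor W ((T : Subgroup ↥M).map M.subtype) : Subgroup Y) : Set Y)) →
      Cfsg.HasNormalPComplement p ↥M) :
    Cfsg.pCore p Y ≠ ⊥ := by
  let 𝓟 : Set (Subgroup Y × Subgroup Y) := {HT | IsPGroup p HT.1 ∧ HT.1 ≠ ⊥ ∧
      ¬ Cfsg.HasNormalPComplement p ↥(Subgroup.normalizer (HT.1 : Set Y)) ∧ IsPGroup p HT.2 ∧ HT.1 ≤ HT.2 ∧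
      HT.2 ≤ Subgroup.normalizer (HT.1 : Set Y)}
  obtain ⟨Q, hQp, hQne, hQn⟩ := exists_isPGroup_normalizer_not_hasNormalPComplement hnot
  have hne : 𝓟.Nonempty := ⟨(Q, Q), hQp, hQne, hQn, hQp, le_rfl, Subgroup.le_normalizer⟩
  obtain ⟨⟨H, T⟩, ⟨hHp, hHne, hHn, hTp, hHT, hTN⟩, hmax⟩ :=
    Set.exists_max_image 𝓟 (fun HT => Nat.card ↥HT.2) (Set.toFinite 𝓟) hne
  simp only at hHp hHne hHn hTp hHT hTN hmax
  obtain ⟨N, hN⟩ : ∃ N, N = Subgroup.normalizer (H : Set Y) := ⟨_, rfl⟩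
  rw [← hN] at hTN hHn
  have hTN' : IsPGroup p (T.subgroupOf N) := hTp.comap_of_injective _ (Subgroup.subtype_injective _)
  obtain ⟨S₀, hS₀⟩ := hTN'.exists_le_sylow
  obtain ⟨S₀', hS₀'⟩ : ∃ S₀' : Subgroup Y, S₀' = (S₀ : Subgroup ↥N).map N.subtype := ⟨_, rfl⟩
  have hS₀'p : IsPGroup p S₀' := by rw [hS₀']; exact S₀.2.map _
  have hTS₀' : T ≤ S₀' := by
    rw [hS₀', ← Subgroup.map_subgroupOf_eq_of_le hTN]
    exact Subgroup.map_mono hS₀
  have hHS₀' : H ≤ S₀' := hHT.trans hTS₀'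
  have hS₀'ne : S₀' ≠ ⊥ := fun h => hHne (le_bot_iff.mp (h ▸ hHS₀'))
  have hcardT : Nat.card T ≤ Nat.card S₀' := Subgroup.card_le_of_le hTS₀'
  obtain ⟨U, hU⟩ : ∃ U, U = Cfsg.inducedFunctor W S₀' := ⟨_, rfl⟩
  have hconj := isConjugacyFunctor_induced W hW Y S₀' hS₀'p
  rw [← hU] at hconj
  have hUS₀' : U ≤ S₀' := hconj.1
  have hUne : U ≠ ⊥ := hconj.2.1 hS₀'ne
  have hUp : IsPGroup p U := hS₀'p.to_le hUS₀'
  have hNS₀'U : Subgroup.normalizer (S₀' : Set Y) ≤ Subgroup.normalizer (U : Set Y) := by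
    rw [hU]; exact normalizer_le_normalizer_inducedFunctor W hW S₀' hS₀'p
  have hclaim : Cfsg.HasNormalPComplement p ↥(Subgroup.normalizer (U : Set Y)) := by
    by_contra hcon
    obtain ⟨S₁, hS₁⟩ := hS₀'p.exists_le_sylow
    rcases eq_or_lt_of_le hS₁ with heq | hlt
    · apply hcon
      rw [hU, heq]
      exact hall S₁
    · obtain ⟨s, hsS₁, hsN, hsS₀'⟩ := Cfsg.Agent.Lib.Helper29.exists_mem_normalizer_not_mem S₁ S₀' hlt
      have hT₂le : S₀' ⊔ Subgroup.zpowers s ≤ (S₁ : Subgroup Y) :=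
        sup_le hS₁ (by rw [Subgroup.zpowers_le]; exact hsS₁)
      have hT₂p : IsPGroup p (S₀' ⊔ Subgroup.zpowers s : Subgroup Y) := S₁.2.to_le hT₂le
      have hT₂N : S₀' ⊔ Subgroup.zpowers s ≤ Subgroup.normalizer (U : Set Y) :=
        sup_le (Subgroup.le_normalizer.trans hNS₀'U) (by rw [Subgroup.zpowers_le]; exact hNS₀'U hsN)
      have hmem : (U, S₀' ⊔ Subgroup.zpowers s) ∈ 𝓟 :=
        ⟨hUp, hUne, hcon, hT₂p, hUS₀'.trans le_sup_left, hT₂N⟩
      have h1 := hmax _ hmem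
      have h2 : S₀' < S₀' ⊔ Subgroup.zpowers s :=
        left_lt_sup.mpr (fun h => hsS₀' (h (Subgroup.mem_zpowers s)))
      have h3 := Cfsg.Agent.Lib.Helper29.card_lt_card_of_lt' h2
      simp only at h1
      omega
  have hNtop : N = ⊤ := by
    by_contra hNne
    apply hHn
    apply IHsub N hNne S₀
    rw [← hS₀', ← hU]
    exact hclaim
  have hHnormal : H.Normal := by
    rw [← Subgroup.normalizer_eq_top_iff, ← hN]; exact hNtop
  intro hbot
  exact hHne (le_bot_iff.mp (hbot ▸ le_pCore' p H hHnormal hHp))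

/-- a normal `p`-subgroup of `Y ⧸ O_p(Y)` is trivial -/
theorem eq_bot_of_normal_isPGroup_quotient_pCore {Y : Type*} [Group Y]
    (Nb : Subgroup (Y ⧸ Cfsg.pCore p Y)) [hNb : Nb.Normal] (h : IsPGroup p Nb) : Nb = ⊥ := by
  have hker : IsPGroup p (QuotientGroup.mk' (Cfsg.pCore p Y)).ker := by
    rw [QuotientGroup.ker_mk']; exact pCore_isPGroup' p
  have h1 : IsPGroup p (Nb.comap (QuotientGroup.mk' (Cfsg.pCore p Y))) :=
    h.comap_of_ker_isPGroup _ hker
  have h2 : Nb.comap (QuotientGroup.mk' (Cfsg.pCore p Y)) ≤ Cfsg.pCore p Y :=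
    le_pCore' p _ (hNb.comap _) h1
  rw [eq_bot_iff]
  intro x hx
  obtain ⟨y, rfl⟩ := QuotientGroup.mk'_surjective (Cfsg.pCore p Y) x
  have : y ∈ Cfsg.pCore p Y := h2 hx
  rw [Subgroup.mem_bot]
  exact (QuotientGroup.eq_one_iff y).mpr this

include hW in
/-- Step 2 of Thompson's argument: `Y ⧸ O_p(Y)` has a normal `p`-complement -/
theorem hasNormalPComplement_quotient_pCore_of_minimal {Y : Type u} [Group Y] [Finite Y]
    (S : Sylow p Y)
    (hNS : Cfsg.HasNormalPComplement p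
      ↥(Subgroup.normalizer ((Cfsg.inducedFunctor W (S : Subgroup Y) : Subgroup Y) : Set Y)))
    (IHsub : ∀ (M : Subgroup Y), M ≠ ⊤ → ∀ T : Sylow p ↥M,
      Cfsg.HasNormalPComplement p
        ↥(Subgroup.normalizer ((Cfsg.inducedFunctor W ((T : Subgroup ↥M).map M.subtype) : Subgroup Y) : Set Y)) →
      Cfsg.HasNormalPComplement p ↥M)
    (IHquot : ∀ Sb : Sylow p (Y ⧸ Cfsg.pCore p Y), Cfsg.HasNormalPComplement p
        ↥(Subgroup.normalizer ((Cfsg.inducedFunctor W (Sb : Subgroup (Y ⧸ Cfsg.pCore p Y)) :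
          Subgroup (Y ⧸ Cfsg.pCore p Y)) : Set (Y ⧸ Cfsg.pCore p Y))) →
      Cfsg.HasNormalPComplement p (Y ⧸ Cfsg.pCore p Y)) :
    Cfsg.HasNormalPComplement p (Y ⧸ Cfsg.pCore p Y) := by
  have hmk : Function.Surjective (QuotientGroup.mk' (Cfsg.pCore p Y)) := QuotientGroup.mk'_surjective _
  obtain ⟨Sb, hSb⟩ : ∃ Sb : Sylow p (Y ⧸ Cfsg.pCore p Y), Sb = S.mapSurjective hmk := ⟨_, rfl⟩
  have hSbc : (Sb : Subgroup (Y ⧸ Cfsg.pCore p Y)) = (S : Subgroup Y).map (QuotientGroup.mk' (Cfsg.pCore p Y)) := by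
    rw [hSb]; rfl
  obtain ⟨Wb, hWb⟩ : ∃ Wb, Wb = Cfsg.inducedFunctor W (Sb : Subgroup (Y ⧸ Cfsg.pCore p Y)) := ⟨_, rfl⟩
  have hconj := isConjugacyFunctor_induced W hW (Y ⧸ Cfsg.pCore p Y) (Sb : Subgroup _) Sb.2
  have hnn := normalizer_le_normalizer_inducedFunctor W hW (Sb : Subgroup (Y ⧸ Cfsg.pCore p Y)) Sb.2
  rw [← hWb] at hconj hnn
  have hSL : (S : Subgroup Y) ≤ (Subgroup.normalizer (Wb : Set (Y ⧸ Cfsg.pCore p Y))).comap
      (QuotientGroup.mk' (Cfsg.pCore p Y)) := by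
    intro s hs
    rw [Subgroup.mem_comap]
    have h1 : (QuotientGroup.mk' (Cfsg.pCore p Y)) s ∈ (Sb : Subgroup _) := by
      rw [hSbc]; exact ⟨s, hs, rfl⟩
    exact hnn (Subgroup.le_normalizer h1)
  apply IHquot Sb
  rw [← hWb]
  by_cases hLtop : (Subgroup.normalizer (Wb : Set (Y ⧸ Cfsg.pCore p Y))).comap
      (QuotientGroup.mk' (Cfsg.pCore p Y)) = ⊤
  · have hWbn : Wb.Normal := by
      rw [← Subgroup.normalizer_eq_top_iff, eq_top_iff]
      intro x _
      obtain ⟨y, rfl⟩ := hmk x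
      have : y ∈ (Subgroup.normalizer (Wb : Set (Y ⧸ Cfsg.pCore p Y))).comap
          (QuotientGroup.mk' (Cfsg.pCore p Y)) := hLtop ▸ Subgroup.mem_top y
      exact this
    have hWbp : IsPGroup p Wb := Sb.2.to_le hconj.1
    have hWbbot : Wb = ⊥ := eq_bot_of_normal_isPGroup_quotient_pCore Wb hWbp
    have hSbbot : (Sb : Subgroup (Y ⧸ Cfsg.pCore p Y)) = ⊥ := by
      by_contra h; exact hconj.2.1 h hWbbot
    apply hasNormalPComplement_subgroup
    apply hasNormalPComplement_of_coprime_card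
    have hidx : (Sb : Subgroup (Y ⧸ Cfsg.pCore p Y)).index = Nat.card (Y ⧸ Cfsg.pCore p Y) := by
      rw [hSbbot, Subgroup.index_bot]
    rw [← hidx, Nat.coprime_comm, Nat.Prime.coprime_iff_not_dvd Fact.out]
    exact Sb.not_dvd_index
  · have hLnpc : Cfsg.HasNormalPComplement p ↥((Subgroup.normalizer (Wb : Set (Y ⧸ Cfsg.pCore p Y))).comap
        (QuotientGroup.mk' (Cfsg.pCore p Y))) := by
      apply IHsub _ hLtop (S.subtype hSL)
      have : Subgroup.map (Subgroup.subtype _) (S.subtype hSL).toSubgroup = (S : Subgroup Y) := by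
        rw [Sylow.coe_subtype, Subgroup.map_subgroupOf_eq_of_le hSL]
      rw [this]; exact hNS
    exact hasNormalPComplement_of_surjective
      ((QuotientGroup.mk' (Cfsg.pCore p Y)).subgroupComap (Subgroup.normalizer (Wb : Set (Y ⧸ Cfsg.pCore p Y))))
      (MonoidHom.subgroupComap_surjective_of_surjective _ _ hmk) hLnpc

include hW in
/-- Step 3 of Thompson's argument: in a minimal counterexample `O_{p'}(Y) = 1` -/
theorem pPrimeCore_eq_bot_of_minimal {Y : Type u} [Group Y] [Finite Y]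
    (hnot : ¬ Cfsg.HasNormalPComplement p Y) (S : Sylow p Y)
    (hNS : Cfsg.HasNormalPComplement p
      ↥(Subgroup.normalizer ((Cfsg.inducedFunctor W (S : Subgroup Y) : Subgroup Y) : Set Y)))
    (IHquot : Cfsg.pPrimeCore p Y ≠ ⊥ → ∀ Sb : Sylow p (Y ⧸ Cfsg.pPrimeCore p Y), Cfsg.HasNormalPComplement p
        ↥(Subgroup.normalizer ((Cfsg.inducedFunctor W (Sb : Subgroup (Y ⧸ Cfsg.pPrimeCore p Y)) :
          Subgroup (Y ⧸ Cfsg.pPrimeCore p Y)) : Set (Y ⧸ Cfsg.pPrimeCore p Y))) →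
      Cfsg.HasNormalPComplement p (Y ⧸ Cfsg.pPrimeCore p Y)) :
    Cfsg.pPrimeCore p Y = ⊥ := by
  by_contra hD
  apply hnot
  have hDcop : (Nat.card (Cfsg.pPrimeCore p Y)).Coprime p := pPrimeCore_coprime p
  apply hasNormalPComplement_of_quotient (Cfsg.pPrimeCore p Y) hDcop
  have hmk : Function.Surjective (QuotientGroup.mk' (Cfsg.pPrimeCore p Y)) := QuotientGroup.mk'_surjective _
  apply IHquot hD (S.mapSurjective hmk)
  rw [Sylow.coe_mapSurjective]
  have hinj : ∀ x ∈ (S : Subgroup Y), (QuotientGroup.mk' (Cfsg.pPrimeCore p Y)) x = 1 → x = 1 := by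
    intro x hx h1
    have hxD : x ∈ Cfsg.pPrimeCore p Y := (QuotientGroup.eq_one_iff x).mp h1
    have hdisj : Disjoint (S : Subgroup Y) (Cfsg.pPrimeCore p Y) := by
      apply Subgroup.disjoint_of_coprime_natCard
      obtain ⟨k, hk⟩ := IsPGroup.iff_card.mp S.2
      rw [hk]
      exact (Nat.Coprime.pow_right k hDcop).symm
    exact Subgroup.disjoint_def.mp hdisj hx hxD
  rw [inducedFunctor_map_of_injOn W hW _ (S : Subgroup Y) S.2 hinj]
  have hZp : IsPGroup p (Cfsg.inducedFunctor W (S : Subgroup Y)) :=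
    S.2.to_le (isConjugacyFunctor_induced W hW Y (S : Subgroup Y) S.2).1
  have hle := normalizer_map_mk_le (Cfsg.pPrimeCore p Y) hDcop (Cfsg.inducedFunctor W (S : Subgroup Y)) hZp
  let f : ↥(Subgroup.normalizer ((Cfsg.inducedFunctor W (S : Subgroup Y) : Subgroup Y) : Set Y)) →*
      ↥(Subgroup.normalizer (((Cfsg.inducedFunctor W (S : Subgroup Y)).map
        (QuotientGroup.mk' (Cfsg.pPrimeCore p Y)) : Subgroup (Y ⧸ Cfsg.pPrimeCore p Y)) :
          Set (Y ⧸ Cfsg.pPrimeCore p Y))) :=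
    MonoidHom.codRestrict ((QuotientGroup.mk' (Cfsg.pPrimeCore p Y)).comp (Subgroup.subtype _)) _
      (fun x => Subgroup.le_normalizer_map _ ⟨x.1, x.2, rfl⟩)
  have hf : Function.Surjective f := by
    rintro ⟨y, hy⟩
    obtain ⟨x, hx, rfl⟩ := hle hy
    exact ⟨⟨x, hx⟩, Subtype.ext rfl⟩
  exact hasNormalPComplement_of_surjective f hf hNS

include hW in
/-- **Thompson's normal `p`-complement argument** for an isomorphism-invariant functor `W`, over a class `𝒞` of groups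
closed under subgroups and quotients: if in every group of the class with `C(O_p) ≤ O_p`, `Y/O_p(Y)` having a normal
`p`-complement and a Sylow `p`-subgroup `T` that is a maximal subgroup, `W(T)` is normal, then any group `Y` in the
class such that `N_Y(W(S))` has a normal `p`-complement has a normal `p`-complement. -/
theorem hasNormalPComplement_of_minimal_sections
    (𝒞 : ∀ (Y : Type u) [Group Y], Prop)
    (hsub : ∀ (Y : Type u) [Group Y] (H : Subgroup Y), 𝒞 Y → 𝒞 ↥H)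
    (hquot : ∀ (Y : Type u) [Group Y] (N : Subgroup Y) [N.Normal], 𝒞 Y → 𝒞 (Y ⧸ N))
    (hmin : ∀ (Y : Type u) [Group Y] [Finite Y], 𝒞 Y →
      Subgroup.centralizer ((Cfsg.pCore p Y : Subgroup Y) : Set Y) ≤ Cfsg.pCore p Y →
      Cfsg.HasNormalPComplement p (Y ⧸ Cfsg.pCore p Y) →
      ∀ T : Sylow p Y, IsCoatom (T : Subgroup Y) → (Cfsg.inducedFunctor W (T : Subgroup Y)).Normal) :
    ∀ (n : ℕ) (Y : Type u) [Group Y] [Finite Y], Nat.card Y = n → 𝒞 Y → ∀ S : Sylow p Y,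
      Cfsg.HasNormalPComplement p
        ↥(Subgroup.normalizer ((Cfsg.inducedFunctor W (S : Subgroup Y) : Subgroup Y) : Set Y)) →
      Cfsg.HasNormalPComplement p Y := by
  intro n
  induction n using Nat.strong_induction_on with
  | _ n IH =>
  intro Y _ _ hcard hCY S hNS
  by_contra hnot
  have hall := fun S' => hasNormalPComplement_normalizer_sylow W hW S S' hNS
  have IHsub : ∀ (M : Subgroup Y), M ≠ ⊤ → ∀ T : Sylow p ↥M,
      Cfsg.HasNormalPComplement p
        ↥(Subgroup.normalizer ((Cfsg.inducedFunctor W ((T : Subgroup ↥M).map M.subtype) : Subgroup Y) : Set Y)) →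
      Cfsg.HasNormalPComplement p ↥M := by
    intro M hM T hT
    have hlt : Nat.card ↥M < n := by
      rw [← hcard]
      exact lt_of_le_of_ne (Subgroup.card_le_card_group M)
        (fun h => hM ((Subgroup.card_eq_iff_eq_top M).mp h))
    exact IH _ hlt ↥M rfl (hsub Y M hCY) T (hasNormalPComplement_normalizer_subgroup W hW M T T.2 hT)
  have IHquot : ∀ (D : Subgroup Y) [D.Normal], D ≠ ⊥ → ∀ Sb : Sylow p (Y ⧸ D),
      Cfsg.HasNormalPComplement p
        ↥(Subgroup.normalizer ((Cfsg.inducedFunctor W (Sb : Subgroup (Y ⧸ D)) : Subgroup (Y ⧸ D)) : Set (Y ⧸ D))) →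
      Cfsg.HasNormalPComplement p (Y ⧸ D) := by
    intro D _ hD Sb hSb
    have hlt : Nat.card (Y ⧸ D) < n := by
      rw [← hcard, Subgroup.card_eq_card_quotient_mul_card_subgroup D]
      have h1 : 1 < Nat.card D := (Subgroup.one_lt_card_iff_ne_bot D).mpr hD
      have h2 : 0 < Nat.card (Y ⧸ D) := Nat.card_pos
      nlinarith
    exact IH _ hlt (Y ⧸ D) rfl (hquot Y D hCY) Sb hSb
  have hP : Cfsg.pCore p Y ≠ ⊥ := pCore_ne_bot_of_minimal W hW hnot hall IHsub
  have hquotNPC : Cfsg.HasNormalPComplement p (Y ⧸ Cfsg.pCore p Y) :=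
    hasNormalPComplement_quotient_pCore_of_minimal W hW S hNS IHsub (IHquot (Cfsg.pCore p Y) hP)
  have hD : Cfsg.pPrimeCore p Y = ⊥ :=
    pPrimeCore_eq_bot_of_minimal W hW hnot S hNS (fun h => IHquot (Cfsg.pPrimeCore p Y) h)
  have hPp : IsPGroup p (Cfsg.pCore p Y) := pCore_isPGroup' p
  have hsolv : Cfsg.IsPSolvable p Y :=
    isPSolvable_of_hasNormalPComplement_quotient (Cfsg.pCore p Y) hPp hquotNPC
  have hcent := centralizer_pCore_le_pCore p hsolv hD
  have hPS : Cfsg.pCore p Y ≤ (S : Subgroup Y) :=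
    Cfsg.Agent.Lib.Helper24.normal_pgroup_le_sylow (Cfsg.pCore p Y) hPp S
  have hcoatom : IsCoatom (S : Subgroup Y) := by
    constructor
    · intro htop
      apply hnot
      apply hasNormalPComplement_of_isPGroup
      intro g
      obtain ⟨k, hk⟩ := S.2 ⟨g, htop ▸ Subgroup.mem_top g⟩
      exact ⟨k, by simpa using congrArg Subtype.val hk⟩
    · intro M hSM
      by_contra hMtop
      have hMnpc : Cfsg.HasNormalPComplement p ↥M := by
        apply IHsub M hMtop (S.subtype hSM.le)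
        have : Subgroup.map M.subtype (S.subtype hSM.le).toSubgroup = (S : Subgroup Y) := by
          rw [Sylow.coe_subtype, Subgroup.map_subgroupOf_eq_of_le hSM.le]
        rw [this]; exact hNS
      have hMp : IsPGroup p ↥M :=
        isPGroup_of_hasNormalPComplement_of_centralizer_le (Cfsg.pCore p Y) hPp hcent M
          (hPS.trans hSM.le) hMnpc
      have := S.is_maximal' hMp hSM.le
      exact hSM.ne this.symm
  have hnormal := hmin Y hCY hcent hquotNPC S hcoatom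
  apply hnot
  have htop : Subgroup.normalizer ((Cfsg.inducedFunctor W (S : Subgroup Y) : Subgroup Y) : Set Y) = ⊤ :=
    Subgroup.normalizer_eq_top_iff.mpr hnormal
  apply hasNormalPComplement_of_surjective (Subgroup.subtype _) _ hNS
  intro y
  exact ⟨⟨y, htop ▸ Subgroup.mem_top y⟩, rfl⟩

end thompson

end Cfsg.Agent.Lib.Helper12
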