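import Mathlib
import Cfsg.Prelude.Def_OddOrder
import Cfsg.Prelude.Def_LieExceptional
import Cfsg.Prelude.Def_OddOrderLocal
import Cfsg.Agent.Lib.Helper12.LocalZJ

/-!
Helper lemmas (helper12): minimal simple CN-groups of odd order, part A.
`Z(J)` controls strong fusion in a group of odd order; a Sylow subgroup of a perfect group of odd order lies
in the derived subgroup of `N_G(Z(J(P)))`.
-/

set_option autoImplicit false
set_option linter.unusedSectionVars false
set_option linter.style.haveILetI false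
open Subgroup
open scoped commutatorElement

namespace Cfsg.Agent.Lib.Helper12.CNMin

universe u

section odd
variable {G : Type u} [Group G] [Finite G] {p : ℕ} [hp : Fact p.Prime]

/-- the `Z(J)` functor -/
abbrev zj (Q : Subgroup G) : Subgroup G := Cfsg.centerThompsonAOf Q

/-- `SL₂(p)` (`p` odd) has an involution, so it is not a section of a group of odd order -/
theorem sl2_free_of_odd (hodd : Odd (Nat.card G)) (hp2 : p ≠ 2) :
    ¬ ∃ (H K : Subgroup G) (_ : (K.subgroupOf H).Normal), H ≤ (⊤ : Subgroup G) ∧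
      Nonempty ((↥H ⧸ K.subgroupOf H) ≃* Matrix.SpecialLinearGroup (Fin 2) (ZMod p)) := by
  rintro ⟨H, K, hK, -, ⟨e⟩⟩
  -- the element `-1`
  let m : Matrix.SpecialLinearGroup (Fin 2) (ZMod p) :=
    ⟨-1, by rw [Matrix.det_neg, Matrix.det_one]; simp⟩
  have hm2 : m * m = 1 := by
    apply Subtype.ext
    show (-1 : Matrix (Fin 2) (Fin 2) (ZMod p)) * (-1) = 1
    rw [neg_mul_neg, one_mul]
  have hm1 : m ≠ 1 := by
    intro h
    have h1 : (-1 : Matrix (Fin 2) (Fin 2) (ZMod p)) = 1 := congrArg Subtype.val h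
    have h2 := congrFun (congrFun h1 0) 0
    simp only [Matrix.neg_apply, Matrix.one_apply_eq] at h2
    have h3 : (2 : ZMod p) = 0 := by
      have : (1 : ZMod p) + 1 = 0 := by
        nth_rewrite 1 [← h2]
        ring
      rw [← this]; norm_num
    have h4 : ((2 : ℕ) : ZMod p) = 0 := by exact_mod_cast h3
    rw [ZMod.natCast_eq_zero_iff] at h4
    exact hp2 ((Nat.prime_dvd_prime_iff_eq hp.out Nat.prime_two).mp h4)
  have hord : orderOf (e.symm m) = 2 := by
    apply orderOf_eq_prime
    · rw [pow_two, ← map_mul, hm2, map_one]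
    · intro h
      apply hm1
      have := congrArg e h
      rwa [map_one, MulEquiv.apply_symm_apply] at this
  have h2 : 2 ∣ Nat.card G := by
    have h3 : orderOf (e.symm m) ∣ Nat.card (↥H ⧸ K.subgroupOf H) := orderOf_dvd_natCard _
    rw [hord] at h3
    have h4 : Nat.card (↥H ⧸ K.subgroupOf H) ∣ Nat.card H := by
      rw [← Subgroup.index_eq_card]
      exact Subgroup.index_dvd_card _
    exact dvd_trans h3 (dvd_trans h4 (Subgroup.card_subgroup_dvd_card H))
  exact (Nat.not_even_iff_odd.mpr hodd) (even_iff_two_dvd.mpr h2)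

/-- `Z(J)` controls strong fusion in a group of odd order (every Sylow `p`-subgroup) -/
theorem control (hodd : Odd (Nat.card G)) (hp2 : p ≠ 2) (P : Sylow p G) :
    ∀ (A : Set G) (x : G), A ⊆ (P : Subgroup G) → (fun a => x * a * x⁻¹) '' A ⊆ (P : Subgroup G) →
      ∃ y ∈ Subgroup.normalizer ((zj (P : Subgroup G) : Subgroup G) : Set G),
        ∀ a ∈ A, y * a * y⁻¹ = x * a * x⁻¹ := by
  intro A x hA hxA
  have h1 := controlsStrongFusionIn_zj_of_sl2_free (G := G) (p := p) hp2 ⊤ (sl2_free_of_odd hodd hp2)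
  have h2 := controlsStrongFusionIn_sylow (fun Q : Subgroup G => Cfsg.centerThompsonAOf Q)
    (isConjugacyFunctor_zj G) h1 (le_top : (P : Subgroup G) ≤ ⊤) P.2
    (by rw [Subgroup.relIndex_top_right]; exact P.not_dvd_index) A x (Subgroup.mem_top x) hA hxA
  obtain ⟨y, hy, hya⟩ := h2
  exact ⟨y, hy.2, hya⟩

/-- `P ≤ N_G(Z(J(P)))` -/
theorem le_normalizer_zj (P : Subgroup G) (hP : IsPGroup p P) :
    P ≤ Subgroup.normalizer ((zj P : Subgroup G) : Set G) := by
  intro g hg
  have h : zj (P.map (MulAut.conj g).toMonoidHom) = (zj P).map (MulAut.conj g).toMonoidHom :=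
    ((isConjugacyFunctor_zj (p := p) G) P hP).2.2 g
  have h2 : P.map (MulAut.conj g).toMonoidHom = P := by
    have := cj_self_of_mem hg
    rwa [cj_def] at this
  rw [h2] at h
  -- `g` normalizes `zj P`
  rw [Subgroup.mem_normalizer_iff]
  intro x
  constructor
  · intro hx
    have : g * x * g⁻¹ ∈ (zj P).map (MulAut.conj g).toMonoidHom := ⟨x, hx, rfl⟩
    rw [← h] at this
    exact this
  · intro hx
    rw [h] at hx
    obtain ⟨y, hy, hyx⟩ := hx
    have : y = x := by
      have h3 : g * y * g⁻¹ = g * x * g⁻¹ := hyx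
      have := mul_left_cancel (mul_right_cancel h3)
      exact this
    rw [← this]; exact hy

/-- in a perfect group of odd order, a Sylow `p`-subgroup lies in the derived subgroup of `N_G(Z(J(P)))` -/
theorem sylow_le_commutator_normalizer (hodd : Odd (Nat.card G)) (hp2 : p ≠ 2)
    (hperf : commutator G = ⊤) (P : Sylow p G) :
    (P : Subgroup G) ≤ ⁅Subgroup.normalizer ((zj (P : Subgroup G) : Subgroup G) : Set G),
      Subgroup.normalizer ((zj (P : Subgroup G) : Subgroup G) : Set G)⁆ := by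
  have hfocal := Subgroup.commutator_inf_eq_focalSubgroup P
  rw [hperf, top_inf_eq] at hfocal
  intro g₀ hg₀
  rw [hfocal] at hg₀
  revert g₀
  show (P : Subgroup G).focalSubgroup ≤ _
  rw [Subgroup.focalSubgroup_def, Subgroup.closure_le]
  rintro g ⟨hgP, x, hxP, u, rfl⟩
  have huxu : u * x * u⁻¹ ∈ (P : Subgroup G) := by
    have h1 : x⁻¹ * ⁅x, u⁆ ∈ (P : Subgroup G) := mul_mem (inv_mem hxP) hgP
    have e : u * x * u⁻¹ = (x⁻¹ * ⁅x, u⁆)⁻¹ := by rw [commutatorElement_def]; group
    rw [e]; exact inv_mem h1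
  obtain ⟨y, hy, hya⟩ := control hodd hp2 P {x} u (Set.singleton_subset_iff.mpr hxP)
    (by rintro _ ⟨a, ha, rfl⟩; rw [Set.mem_singleton_iff] at ha; rw [ha]; exact huxu)
  have hyx := hya x rfl
  have e : ⁅x, u⁆ = ⁅x, y⁆ := by
    rw [commutatorElement_def, commutatorElement_def]
    have e1 : x * u * x⁻¹ * u⁻¹ = x * (u * x * u⁻¹)⁻¹ := by group
    have e2 : x * y * x⁻¹ * y⁻¹ = x * (y * x * y⁻¹)⁻¹ := by group
    rw [e1, e2, hyx]
  rw [SetLike.mem_coe, e]
  exact Subgroup.commutator_mem_commutator (le_normalizer_zj (P : Subgroup G) P.2 hxP) hy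

end odd

end Cfsg.Agent.Lib.Helper12.CNMin
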