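import Mathlib
import Cfsg.Agent.Lib.Helper12.LocalZJ
import Cfsg.Agent.Lib.Helper12.Control

/-!
Helper lemmas (helper12): in a `Qd(p)`-free finite group (`p` odd) with Sylow `p`-subgroup `P`, for a
strongly closed subgroup `R < P` the full preimage `W` of `Z(J(P/R))` is a subgroup properly containing `R`
such that every conjugation map on an overgroup of `R` in `P` agrees modulo `R` with conjugation by an
element normalizing `W`.
-/

set_option autoImplicit false
set_option linter.unusedSectionVars false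
set_option linter.style.haveILetI false
open Subgroup

namespace Cfsg.Agent.Lib.Helper12

universe u

section qdfactor
variable {p : ℕ} [Fact p.Prime]

/-- `Z(J)` controls strong fusion in every `Qd(p)`-free subgroup (`p` odd) -/
theorem controlsStrongFusionIn_zj_of_qd_free {G : Type u} [Group G] [Finite G] (hp : p ≠ 2)
    (N : Subgroup G) (hqd : ¬ Cfsg.Involves ↥(Cfsg.qd p) ↥N) :
    Cfsg.ControlsStrongFusionIn p (fun Q : Subgroup G => Cfsg.centerThompsonAOf Q) N := by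
  have h1 := controlsStrongFusionIn_of_normal_in_sections (p := p)
    (fun (Q : Type u) [Group Q] => Cfsg.Agent.Lib.Helper27.ZJFun.zjA Q)
    (Cfsg.Agent.Lib.Helper27.ZJFun.isCharPFunctor_zjA p) N (by
      intro K' R' hR' hC T'
      rw [Cfsg.Agent.Lib.Helper27.ZJFun.inducedFunctor_zjA]
      have hfreeQ : ¬ Cfsg.Involves ↥(Cfsg.qd p) (↥K' ⧸ R'.subgroupOf K') := by
        intro h
        apply hqd
        have h1 : Cfsg.Involves ↥(Cfsg.qd p) ↥K' :=
          Cfsg.Agent.Lib.Helper8.ThTwo.involves_of_quotient (R'.subgroupOf K') h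
        exact Cfsg.Agent.Lib.Helper27.involves_of_injective K'.subtype K'.subtype_injective h1
      haveI := Cfsg.Agent.S0653.result hp hC (fun P _ hP =>
        Cfsg.Agent.Lib.Helper29.Qd.isPStableOn_of_not_involves_qd_pGroup hp hfreeQ P hP) T'
      exact Subgroup.normal_of_characteristic _)
  have e : (Cfsg.inducedFunctor (G := G) (fun (Q : Type u) [Group Q] => Cfsg.Agent.Lib.Helper27.ZJFun.zjA Q)) =
      fun Q : Subgroup G => Cfsg.centerThompsonAOf Q :=
    funext (fun T => Cfsg.Agent.Lib.Helper27.ZJFun.inducedFunctor_zjA T)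
  rwa [e] at h1

/-- an element conjugating a finite subgroup into itself normalizes it -/
theorem mem_normalizer_of_conj_le {G : Type*} [Group G] (R : Subgroup G) [Finite R] (g : G)
    (h : ∀ x ∈ R, g * x * g⁻¹ ∈ R) : g ∈ Subgroup.normalizer (R : Set G) := by
  have hle : R.map (MulAut.conj g).toMonoidHom ≤ R := by
    rintro _ ⟨x, hx, rfl⟩
    simpa [MulAut.conj_apply] using h x hx
  have hcard : Nat.card (R.map (MulAut.conj g).toMonoidHom) = Nat.card R :=
    Subgroup.card_map_of_injective (MulAut.conj g).injective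
  have heq : R.map (MulAut.conj g).toMonoidHom = R :=
    Subgroup.eq_of_le_of_card_ge hle (le_of_eq hcard.symm)
  rw [Subgroup.mem_normalizer_iff]
  intro x
  constructor
  · exact h x
  · intro hx
    rw [← heq] at hx
    obtain ⟨y, hy, hyx⟩ := hx
    have : g * y * g⁻¹ = g * x * g⁻¹ := by simpa [MulAut.conj_apply] using hyx
    have e : y = x := by
      have := congrArg (fun t => g⁻¹ * t * g) this
      simpa [mul_assoc] using this
    rw [← e]; exact hy

/-- **The `Z(J)` of the quotient by a strongly closed subgroup**: in a `Qd(p)`-free group, `p` odd, let `R` be a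
proper subgroup of the Sylow `p`-subgroup `P` that is strongly closed in `P` with respect to `G`.  Then there
is a subgroup `W` with `R < W ≤ P` such that every conjugation of an overgroup `P₁` of `R` in `P` into `P`
agrees modulo `R` with the conjugation by an element that normalizes both `W` and `R`. -/
theorem exists_zj_mod_strongly_closed {G : Type u} [Group G] [Finite G] (hp : p ≠ 2)
    (hqd : ¬ Cfsg.Involves ↥(Cfsg.qd p) G) (P : Sylow p G) (R : Subgroup G)
    (hRP : R ≤ (P : Subgroup G)) (hne : R ≠ (P : Subgroup G))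
    (hsc : ∀ (g x : G), x ∈ R → g * x * g⁻¹ ∈ (P : Subgroup G) → g * x * g⁻¹ ∈ R) :
    ∃ W : Subgroup G, R ≤ W ∧ W ≤ (P : Subgroup G) ∧ W ≠ R ∧
      ∀ (P₁ : Subgroup G) (g : G), R ≤ P₁ → P₁ ≤ (P : Subgroup G) →
        (∀ x ∈ P₁, g * x * g⁻¹ ∈ (P : Subgroup G)) →
        ∃ n : G, n ∈ Subgroup.normalizer (W : Set G) ∧ n ∈ Subgroup.normalizer (R : Set G) ∧
          (∀ x ∈ P₁, (g * x * g⁻¹)⁻¹ * (n * x * n⁻¹) ∈ R) ∧
          ∀ x ∈ P₁ ⊔ W, n * x * n⁻¹ ∈ (P : Subgroup G) := by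
  classical
  set S : Subgroup G := (P : Subgroup G) with hS
  set N : Subgroup G := Subgroup.normalizer (R : Set G) with hN
  have hSN : S ≤ N := by
    intro s hs
    apply mem_normalizer_of_conj_le R s
    intro x hx
    exact hsc s x hx (S.mul_mem (S.mul_mem hs (hRP hx)) (S.inv_mem hs))
  have hRN : R ≤ N := Subgroup.le_normalizer
  haveI hRn : (R.subgroupOf N).Normal := Subgroup.normal_in_normalizer
  let π : ↥N →* ↥N ⧸ R.subgroupOf N := QuotientGroup.mk' (R.subgroupOf N)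
  have hπs : Function.Surjective π := QuotientGroup.mk'_surjective _
  have hπ1 : ∀ x : ↥N, π x = 1 ↔ (x : G) ∈ R := by
    intro x
    show (QuotientGroup.mk' (R.subgroupOf N)) x = 1 ↔ _
    rw [QuotientGroup.mk'_apply, QuotientGroup.eq_one_iff, Subgroup.mem_subgroupOf]
  have hπeq : ∀ x y : ↥N, π x = π y ↔ (x : G)⁻¹ * (y : G) ∈ R := by
    intro x y
    show (QuotientGroup.mk' (R.subgroupOf N)) x = (QuotientGroup.mk' (R.subgroupOf N)) y ↔ _
    rw [QuotientGroup.mk'_apply, QuotientGroup.mk'_apply, QuotientGroup.eq, Subgroup.mem_subgroupOf]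
    simp
  set T : Subgroup (↥N ⧸ R.subgroupOf N) := (S.subgroupOf N).map π with hT
  have hTp : IsPGroup p T := by
    have h1 : IsPGroup p (S.subgroupOf N) := (P.2).comap_subtype
    exact h1.map π
  have hTidx : ¬ p ∣ T.index := by
    have hker : π.ker ≤ S.subgroupOf N := by
      intro x hx
      rw [MonoidHom.mem_ker, hπ1] at hx
      rw [Subgroup.mem_subgroupOf]
      exact hRP hx
    rw [hT, Subgroup.index_map_eq _ hπs hker]
    show ¬ p ∣ S.relIndex N
    intro hdvd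
    have h2 : S.relIndex N ∣ S.index := Dvd.intro _ (Subgroup.relIndex_mul_index hSN)
    exact P.not_dvd_index (dvd_trans hdvd h2)
  have hqdQ : ¬ Cfsg.Involves ↥(Cfsg.qd p) ↥(⊤ : Subgroup (↥N ⧸ R.subgroupOf N)) := by
    intro h
    apply hqd
    have h1 : Cfsg.Involves ↥(Cfsg.qd p) (↥N ⧸ R.subgroupOf N) :=
      Cfsg.Agent.Lib.Helper27.involves_of_injective (⊤ : Subgroup (↥N ⧸ R.subgroupOf N)).subtype
        (Subgroup.subtype_injective _) h
    have h2 : Cfsg.Involves ↥(Cfsg.qd p) ↥N :=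
      Cfsg.Agent.Lib.Helper8.ThTwo.involves_of_quotient (R.subgroupOf N) h1
    exact Cfsg.Agent.Lib.Helper27.involves_of_injective N.subtype N.subtype_injective h2
  have hctl0 := controlsStrongFusionIn_zj_of_qd_free (p := p) hp
    (⊤ : Subgroup (↥N ⧸ R.subgroupOf N)) hqdQ
  have hfun := isConjugacyFunctor_zj (p := p) (↥N ⧸ R.subgroupOf N)
  have hctl := controlsStrongFusionIn_sylow (p := p)
    (fun Q : Subgroup (↥N ⧸ R.subgroupOf N) => Cfsg.centerThompsonAOf Q) hfun hctl0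
    (le_top : T ≤ ⊤) hTp (by rw [Subgroup.relIndex_top_right]; exact hTidx)
  set Wb : Subgroup (↥N ⧸ R.subgroupOf N) := Cfsg.centerThompsonAOf T with hWb
  have hWbT : Wb ≤ T := (hfun T hTp).1
  have hWbne : T ≠ ⊥ → Wb ≠ ⊥ := (hfun T hTp).2.1
  set W : Subgroup G := (Wb.comap π).map N.subtype with hW
  have hmemW : ∀ x : G, x ∈ W ↔ ∃ hx : x ∈ N, π ⟨x, hx⟩ ∈ Wb := by
    intro x
    constructor
    · rintro ⟨y, hy, rfl⟩
      exact ⟨y.2, hy⟩
    · rintro ⟨hx, hy⟩
      exact ⟨⟨x, hx⟩, hy, rfl⟩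
  have hRW : R ≤ W := by
    intro r hr
    rw [hmemW]
    refine ⟨hRN hr, ?_⟩
    have : π ⟨r, hRN hr⟩ = 1 := (hπ1 _).mpr hr
    rw [this]
    exact one_mem _
  have hWS : W ≤ S := by
    intro x hx
    obtain ⟨hxN, hxW⟩ := (hmemW x).mp hx
    obtain ⟨s, hs0, hsx⟩ := hWbT hxW
    have hs : (s : G) ∈ S := Subgroup.mem_subgroupOf.mp hs0
    have h1 := (hπeq s ⟨x, hxN⟩).mp hsx
    have e : x = (s : G) * ((s : G)⁻¹ * x) := by group
    rw [e]
    exact S.mul_mem hs (hRP h1)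
  have hTne : T ≠ ⊥ := by
    intro hbot
    apply hne
    apply le_antisymm hRP
    intro s hs
    have h1 : π ⟨s, hSN hs⟩ ∈ T := ⟨⟨s, hSN hs⟩, Subgroup.mem_subgroupOf.mpr hs, rfl⟩
    rw [hbot, Subgroup.mem_bot] at h1
    exact (hπ1 _).mp h1
  have hWR : W ≠ R := by
    intro hWReq
    obtain ⟨w, hw1⟩ := (Subgroup.ne_bot_iff_exists_ne_one.mp (hWbne hTne))
    obtain ⟨y, hy⟩ := hπs (w : ↥N ⧸ R.subgroupOf N)
    have hyW : (y : G) ∈ W := (hmemW _).mpr ⟨y.2, by rw [Subtype.coe_eta, hy]; exact w.2⟩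
    rw [hWReq] at hyW
    have := (hπ1 y).mpr hyW
    apply hw1
    apply Subtype.ext
    rw [← hy, this]
    rfl
  refine ⟨W, hRW, hWS, hWR, ?_⟩
  intro P₁ g hRP₁ hP₁S hg
  have hgN : g ∈ N := mem_normalizer_of_conj_le R g (fun x hx => hsc g x hx (hg x (hRP₁ hx)))
  set gb : ↥N ⧸ R.subgroupOf N := π ⟨g, hgN⟩ with hgb
  set A : Set (↥N ⧸ R.subgroupOf N) := π '' {y : ↥N | (y : G) ∈ P₁} with hA
  have hAT : A ⊆ T := by
    rintro _ ⟨y, hy, rfl⟩
    exact ⟨y, Subgroup.mem_subgroupOf.mpr (hP₁S hy), rfl⟩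
  have hAg : (fun a => gb * a * gb⁻¹) '' A ⊆ T := by
    rintro _ ⟨_, ⟨y, hy, rfl⟩, rfl⟩
    refine ⟨⟨g, hgN⟩ * y * ⟨g, hgN⟩⁻¹, ?_, ?_⟩
    · rw [SetLike.mem_coe, Subgroup.mem_subgroupOf]
      exact hg _ hy
    · rw [map_mul, map_mul, map_inv]
  obtain ⟨nb, hnb, hnbA⟩ := hctl A gb (Subgroup.mem_top _) hAT hAg
  obtain ⟨n, rfl⟩ := hπs nb
  have hnbN : π n ∈ Subgroup.normalizer (Wb : Set (↥N ⧸ R.subgroupOf N)) := hnb.2
  rw [Subgroup.mem_normalizer_iff] at hnbN
  have hnW : (n : G) ∈ Subgroup.normalizer (W : Set G) := by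
    rw [Subgroup.mem_normalizer_iff]
    intro x
    constructor
    · intro hx
      obtain ⟨hxN, hxW⟩ := (hmemW x).mp hx
      rw [hmemW]
      refine ⟨N.mul_mem (N.mul_mem n.2 hxN) (N.inv_mem n.2), ?_⟩
      have e : (⟨(n : G) * x * (n : G)⁻¹, N.mul_mem (N.mul_mem n.2 hxN) (N.inv_mem n.2)⟩ : ↥N) =
          n * ⟨x, hxN⟩ * n⁻¹ := rfl
      rw [e, map_mul, map_mul, map_inv]
      exact (hnbN _).mp hxW
    · intro hx
      obtain ⟨hzN, hzW⟩ := (hmemW _).mp hx
      have hxN : x ∈ N := by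
        have := N.mul_mem (N.mul_mem (N.inv_mem n.2) hzN) n.2
        have e : (n : G)⁻¹ * ((n : G) * x * (n : G)⁻¹) * (n : G) = x := by group
        rwa [e] at this
      rw [hmemW]
      refine ⟨hxN, ?_⟩
      rw [hnbN]
      have e : (⟨(n : G) * x * (n : G)⁻¹, hzN⟩ : ↥N) = n * ⟨x, hxN⟩ * n⁻¹ := rfl
      rw [e, map_mul, map_mul, map_inv] at hzW
      exact hzW
  have hmod : ∀ x ∈ P₁, (g * x * g⁻¹)⁻¹ * ((n : G) * x * (n : G)⁻¹) ∈ R := by
    intro x hx
    have hxN : x ∈ N := hSN (hP₁S hx)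
    have h1 := hnbA (π ⟨x, hxN⟩) ⟨⟨x, hxN⟩, hx, rfl⟩
    have h2 : π (⟨g, hgN⟩ * ⟨x, hxN⟩ * ⟨g, hgN⟩⁻¹) = π (n * ⟨x, hxN⟩ * n⁻¹) := by
      rw [map_mul, map_mul, map_inv, map_mul, map_mul, map_inv]
      exact h1.symm
    exact (hπeq _ _).mp h2
  refine ⟨(n : G), hnW, n.2, hmod, ?_⟩
  have hle : P₁ ⊔ W ≤ S.comap (MulAut.conj (n : G)).toMonoidHom := by
    apply sup_le
    · intro x hx
      rw [Subgroup.mem_comap]
      show (n : G) * x * (n : G)⁻¹ ∈ S
      have e : (n : G) * x * (n : G)⁻¹ = (g * x * g⁻¹) * ((g * x * g⁻¹)⁻¹ * ((n : G) * x * (n : G)⁻¹)) := by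
        group
      rw [e]
      exact S.mul_mem (hg x hx) (hRP (hmod x hx))
    · intro x hx
      rw [Subgroup.mem_comap]
      show (n : G) * x * (n : G)⁻¹ ∈ S
      exact hWS ((Subgroup.mem_normalizer_iff.mp hnW x).mp hx)
  intro x hx
  exact hle hx

end qdfactor

end Cfsg.Agent.Lib.Helper12
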