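import Mathlib
import Cfsg.Agent.Lib.Helper12.CNMinA
import Cfsg.Agent.Lib.Helper12.QdFactor
import Cfsg.Agent.Lib.Helper9.FStar4
import Cfsg.Agent.S1476

/-!
Helper lemmas (helper12): minimal simple CN-groups of odd order, part B.
Basic inheritance lemmas, the trichotomy for solvable CN-groups in a usable form, and
`N_G(Z(J(P))) = N_G(P)`.
-/

set_option autoImplicit false
set_option linter.unusedSectionVars false
set_option linter.style.haveILetI false
open Subgroup
open scoped commutatorElement

namespace Cfsg.Agent.Lib.Helper12.CNMin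

universe u

section basic
variable {G : Type u} [Group G]

/-- subgroups of CN-groups are CN-groups -/
theorem cn_subgroup (hCN : Cfsg.IsCNGroup G) (M : Subgroup G) : Cfsg.IsCNGroup ↥M := by
  intro g hg
  have hg' : (g : G) ≠ 1 := fun h => hg (Subtype.ext h)
  haveI := hCN (g : G) hg'
  let f : ↥(centralizer ({g} : Set ↥M)) →* ↥(centralizer ({(g : G)} : Set G)) :=
    (M.subtype.comp (centralizer ({g} : Set ↥M)).subtype).codRestrict _ (by
      intro x
      rw [mem_centralizer_singleton_iff]
      have := mem_centralizer_singleton_iff.mp x.2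
      exact congrArg Subtype.val this)
  apply Cfsg.Agent.Lib.Helper9.isNilpotent_of_injective f
  intro x y hxy
  have : (f x : G) = (f y : G) := congrArg Subtype.val hxy
  exact Subtype.ext (Subtype.ext this)

theorem perfect (hG : Cfsg.IsMinSimpleOddOrder G) : commutator G = ⊤ := by
  obtain ⟨-, hs, hna, -⟩ := hG
  haveI := hs
  have hcn : (commutator G).Normal := inferInstance
  rcases hcn.eq_bot_or_eq_top with h | h
  · exfalso
    apply hna
    refine ⟨⟨fun a b => ?_⟩⟩
    have h1 : ⁅a, b⁆ ∈ commutator G := Subgroup.commutator_mem_commutator (mem_top a) (mem_top b)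
    rw [h, mem_bot, commutatorElement_eq_one_iff_mul_comm] at h1
    exact h1
  · exact h

theorem solvable_of_ne_top (hG : Cfsg.IsMinSimpleOddOrder G) (M : Subgroup G) (hM : M ≠ ⊤) :
    Group.IsSolvable ↥M := hG.2.2.2 M hM

theorem odd_subgroup [Finite G] (hG : Cfsg.IsMinSimpleOddOrder G) (M : Subgroup G) : Odd (Nat.card ↥M) := by
  have h := hG.1
  obtain ⟨k, hk⟩ := Subgroup.card_subgroup_dvd_card M
  rw [hk] at h
  exact (Nat.odd_mul.mp h).1

theorem not_solvable (hG : Cfsg.IsMinSimpleOddOrder G) : ¬ Group.IsSolvable G := by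
  intro h
  haveI := h
  haveI : Nontrivial G := hG.2.1.toNontrivial
  exact (Group.IsSolvable.commutator_lt_top_of_nontrivial G).ne (perfect hG)

/-- a normal subgroup of the simple group `G` is trivial or everything -/
theorem normal_eq (hG : Cfsg.IsMinSimpleOddOrder G) (K : Subgroup G) (hK : K.Normal) : K = ⊥ ∨ K = ⊤ := by
  haveI := hG.2.1
  exact hK.eq_bot_or_eq_top

/-- the normalizer of a nontrivial solvable subgroup is proper -/
theorem normalizer_ne_top (hG : Cfsg.IsMinSimpleOddOrder G) (K : Subgroup G) (hK1 : K ≠ ⊥)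
    (hKs : Group.IsSolvable ↥K) : Subgroup.normalizer (K : Set G) ≠ ⊤ := by
  intro h
  have hn : K.Normal := Subgroup.normalizer_eq_top_iff.mp h
  rcases normal_eq hG K hn with h1 | h1
  · exact hK1 h1
  · apply not_solvable hG
    have e : ↥K ≃* G := (MulEquiv.subgroupCongr h1).trans Subgroup.topEquiv
    exact Group.isSolvable_of_surjective (f := e.toMonoidHom) e.surjective

end basic

section trich
open Cfsg.Agent.Lib.Helper8.SolvCN

/-- the trichotomy for solvable CN-groups, in the form used here -/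
theorem trichotomy {X : Type*} [Group X] [Finite X] [Group.IsSolvable X] (hCN : Cfsg.IsCNGroup X) :
    Group.IsNilpotent X ∨
    (∃ (q : ℕ) (_ : Fact q.Prime) (Q : Sylow q X), (Q : Subgroup X) ≠ ⊥ ∧ (Q : Subgroup X).Normal) ∨
    (∃ (r : ℕ) (_ : Fact r.Prime), OneCore r X ∧ r ∣ (Cfsg.pCore r X).index ∧
       ∀ q : ℕ, q.Prime → q ≠ r → Cfsg.pCore q X = ⊥) := by
  classical
  by_cases hnil : Group.IsNilpotent X
  · exact Or.inl hnil
  right
  by_cases hS : ∃ (q : ℕ) (_ : Fact q.Prime) (Q : Sylow q X),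
      (Q : Subgroup X) ≠ ⊥ ∧ (Q : Subgroup X).Normal
  · exact Or.inl hS
  right
  push Not at hS
  haveI : Nontrivial X := by
    by_contra hnt
    rw [not_nontrivial_iff_subsingleton] at hnt
    exact hnil inferInstance
  obtain ⟨M, hM⟩ := Cfsg.Agent.Lib.Helper1.exists_isMinNormal (G := X)
  obtain ⟨p, hp, hMp⟩ := hM.exists_prime_isPGroup
  haveI hpf : Fact p.Prime := ⟨hp⟩
  have hcore : Cfsg.pCore p X ≠ ⊥ := by
    intro hbot
    have hle := Cfsg.Agent.Lib.Helper1.le_pCore hM.1 hMp
    rw [hbot] at hle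
    exact hM.2.1 (le_bot_iff.mp hle)
  haveI hFn : (Cfsg.pCore p X).Normal := Cfsg.Agent.Lib.Helper1.pCore_normal p X
  have hother : ∀ q : ℕ, q.Prime → q ≠ p → Cfsg.pCore q X = ⊥ := by
    intro q hq hqp
    by_contra hqc
    haveI : Fact q.Prime := ⟨hq⟩
    obtain ⟨S⟩ : Nonempty (Sylow p X) := inferInstance
    have hSn := sylow_normal_of_two_cores hCN (Ne.symm hqp) hcore hqc S
    have hS1 : (S : Subgroup X) ≠ ⊥ := by
      intro hbot
      have hle := Cfsg.Agent.Lib.Helper1.pCore_le_sylow S
      rw [hbot] at hle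
      exact hcore (le_bot_iff.mp hle)
    exact hS p hpf S hS1 hSn
  have hfit : Cfsg.fittingSubgroup X = Cfsg.pCore p X := by
    rw [Cfsg.Agent.Lib.Helper1.fittingSubgroup_eq_iSup_pCore]
    apply le_antisymm
    · apply iSup_le
      intro q
      by_cases hqp : (q : ℕ) = p
      · rw [hqp]
      · rw [hother q q.2 hqp]; exact bot_le
    · exact le_iSup (fun q : Nat.Primes => Cfsg.pCore (q : ℕ) X) ⟨p, hp⟩
  have hcent : Subgroup.centralizer (Cfsg.pCore p X : Set X) ≤ Cfsg.pCore p X := by
    have := Cfsg.Agent.Lib.Helper8.HallSCN.centralizer_fitting_le (G := X)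
    rwa [hfit] at this
  have hidx : p ∣ (Cfsg.pCore p X).index := by
    by_contra hnd
    have hFp := Cfsg.Agent.Lib.Helper1.pCore_isPGroup p X
    obtain ⟨P, hP⟩ := hFp.exists_le_sylow
    have hrel : (Cfsg.pCore p X).relIndex P = 1 := by
      have h1 : (Cfsg.pCore p X).relIndex P ∣ (Cfsg.pCore p X).index :=
        Subgroup.relIndex_dvd_index_of_normal _ _
      have h2 : (Cfsg.pCore p X).relIndex P ∣ Nat.card P := Subgroup.relIndex_dvd_card _ _
      obtain ⟨k, hk⟩ := IsPGroup.iff_card.mp P.isPGroup'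
      rw [hk] at h2
      obtain ⟨j, -, hj⟩ := (Nat.dvd_prime_pow hp).mp h2
      rcases Nat.eq_zero_or_pos j with h0 | hpos
      · rw [hj, h0, pow_zero]
      · exfalso
        apply hnd
        refine dvd_trans ?_ h1
        rw [hj]
        exact dvd_pow_self p hpos.ne'
    have hPle : (P : Subgroup X) ≤ Cfsg.pCore p X := Subgroup.relIndex_eq_one.mp hrel
    have hPeq : (P : Subgroup X) = Cfsg.pCore p X := le_antisymm hPle hP
    exact hS p hpf P (by rw [hPeq]; exact hcore) (by rw [hPeq]; exact hFn)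
  exact ⟨p, hpf, ⟨hCN, hcore, hcent⟩, hidx, hother⟩

end trich

end Cfsg.Agent.Lib.Helper12.CNMin
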