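import Mathlib
import Cfsg.Agent.Lib.Helper12.CNMinB

/-!
Helper lemmas (helper12): minimal simple CN-groups of odd order, part C: `N_G(Z(J(P))) ≤ N_G(P)`.
-/

set_option autoImplicit false
set_option linter.unusedSectionVars false
set_option linter.style.haveILetI false
open Subgroup
open scoped commutatorElement

namespace Cfsg.Agent.Lib.Helper12.CNMin

universe u

section tools
variable {G : Type u} [Group G] [Finite G] {p : ℕ} [hp : Fact p.Prime]

/-- a Sylow subgroup inside a nilpotent subgroup `F` is normalized by everything normalizing `F` -/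
theorem le_normalizer_sylow_of_nilpotent (P : Sylow p G) (N F : Subgroup G)
    (hF : Group.IsNilpotent ↥F) (hNF : N ≤ Subgroup.normalizer (F : Set G)) (hPF : (P : Subgroup G) ≤ F) :
    N ≤ Subgroup.normalizer ((P : Subgroup G) : Set G) := by
  obtain ⟨P₁, hP₁⟩ := Cfsg.Agent.Lib.Helper10.nilp_exists_sylow F hF p
  have h1 : (P : Subgroup G) ≤ P₁ := hP₁.2.2 P hPF P.2
  have h2 : P₁ = (P : Subgroup G) := P.is_maximal' hP₁.2.1 h1
  intro n hn
  apply mem_normalizer_of_conj_le (P : Subgroup G) n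
  intro x hx
  have hQp : IsPGroup p ((P : Subgroup G).map (MulAut.conj n).toMonoidHom) := P.2.map _
  have hQF : (P : Subgroup G).map (MulAut.conj n).toMonoidHom ≤ F := by
    rintro _ ⟨y, hy, rfl⟩
    exact (Subgroup.mem_normalizer_iff.mp (hNF hn) y).mp (hPF hy)
  have h3 := hP₁.2.2 _ hQF hQp
  rw [h2] at h3
  exact h3 ⟨x, hx, rfl⟩

/-- in a three-step group with respect to `p`, a Sylow `p`-subgroup is not contained in the derived subgroup -/
theorem false_of_threeStep {X : Type*} [Group X] [Finite X] (h3 : Cfsg.IsThreeStepGroup p X)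
    (P' : Subgroup X) (hidx : ¬ p ∣ P'.index) (hP'c : P' ≤ commutator X) : False := by
  obtain ⟨-, A, -, -, -, -, hYn, hYtop, ⟨n, hn⟩, -, -⟩ := h3
  set Y := Cfsg.pCore p X ⊔ A with hY
  haveI := hYn
  -- `P' ⊔ Y = ⊤`
  have hsup : P' ⊔ Y = ⊤ := by
    rw [← Subgroup.index_eq_one]
    have h1 : (P' ⊔ Y).index ∣ P'.index := Subgroup.index_dvd_of_le le_sup_left
    have h2 : (P' ⊔ Y).index ∣ p ^ n := by rw [← hn]; exact Subgroup.index_dvd_of_le le_sup_right
    obtain ⟨j, -, hj⟩ := (Nat.dvd_prime_pow hp.out).mp h2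
    rcases Nat.eq_zero_or_pos j with h0 | hpos
    · rw [hj, h0, pow_zero]
    · exfalso
      apply hidx
      refine dvd_trans ?_ h1
      rw [hj]
      exact dvd_pow_self p hpos.ne'
  -- the quotient is a nontrivial `p`-group
  have hQp : IsPGroup p (X ⧸ Y) := by
    apply IsPGroup.of_card (n := n)
    rw [← Subgroup.index_eq_card, hn]
  haveI : Nontrivial (X ⧸ Y) := by
    rw [QuotientGroup.nontrivial_iff]
    exact hYtop
  haveI : Group.IsNilpotent (X ⧸ Y) := hQp.isNilpotent
  have hlt := Group.IsSolvable.commutator_lt_top_of_nontrivial (X ⧸ Y)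
  apply hlt.ne
  rw [eq_top_iff]
  intro q _
  obtain ⟨x, rfl⟩ := QuotientGroup.mk_surjective q
  have hx : x ∈ P' ⊔ Y := by rw [hsup]; exact mem_top x
  rw [← SetLike.mem_coe, Subgroup.mul_normal] at hx
  obtain ⟨a, ha, b, hb, rfl⟩ := hx
  have e : ((a * b : X) : X ⧸ Y) = (a : X ⧸ Y) := by
    rw [QuotientGroup.mk_mul, (QuotientGroup.eq_one_iff b).mpr hb, mul_one]
  rw [e]
  have h4 : (a : X ⧸ Y) ∈ (commutator X).map (QuotientGroup.mk' Y) := ⟨a, hP'c ha, rfl⟩
  rw [commutator_def, Subgroup.map_commutator] at h4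
  exact Subgroup.commutator_mono le_top le_top h4

/-- if a complement of the normal subgroup `F` is commutative, the derived subgroup lies in `F` -/
theorem commutator_le_of_complement {X : Type*} [Group X] (F E : Subgroup X) [F.Normal]
    (hc : IsComplement' F E) (hE : ∀ a ∈ E, ∀ b ∈ E, a * b = b * a) : commutator X ≤ F := by
  rw [← Subgroup.Normal.quotient_commutative_iff_commutator_le]
  refine ⟨⟨fun x y => ?_⟩⟩
  obtain ⟨x, rfl⟩ := QuotientGroup.mk_surjective x
  obtain ⟨y, rfl⟩ := QuotientGroup.mk_surjective y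
  obtain ⟨f₁, hf₁, e₁, he₁, rfl⟩ := Cfsg.Agent.Lib.Helper1.IsComplement'.exists_mul_eq hc x
  obtain ⟨f₂, hf₂, e₂, he₂, rfl⟩ := Cfsg.Agent.Lib.Helper1.IsComplement'.exists_mul_eq hc y
  have h1 : ((f₁ * e₁ : X) : X ⧸ F) = (e₁ : X ⧸ F) := by
    rw [QuotientGroup.mk_mul, (QuotientGroup.eq_one_iff f₁).mpr hf₁, one_mul]
  have h2 : ((f₂ * e₂ : X) : X ⧸ F) = (e₂ : X ⧸ F) := by
    rw [QuotientGroup.mk_mul, (QuotientGroup.eq_one_iff f₂).mpr hf₂, one_mul]
  rw [h1, h2, ← QuotientGroup.mk_mul, ← QuotientGroup.mk_mul, hE e₁ he₁ e₂ he₂]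

end tools

section main
variable {G : Type u} [Group G] [Finite G] {p : ℕ} [hp : Fact p.Prime]
open Cfsg.Agent.Lib.Helper8.SolvCN

/-- a nilpotent group acting without fixed points, of odd order, is commutative -/
theorem fpf_comm_of_odd {X : Type*} [Group X] [Finite X] (hodd : Odd (Nat.card X)) {F E : Subgroup X}
    [F.Normal] (hF : F ≠ ⊥) (h : Fpf F E) (hnil : Group.IsNilpotent ↥E) :
    ∀ a ∈ E, ∀ b ∈ E, a * b = b * a := by
  rcases h.structure hF hnil with hc | ⟨C, Q, -, -, -, -, n, ⟨e⟩⟩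
  · intro a ha b hb
    haveI := hc
    have := (IsCyclic.commGroup (α := ↥E)).mul_comm ⟨a, ha⟩ ⟨b, hb⟩
    exact congrArg Subtype.val this
  · exfalso
    have h1 : Nat.card ↥Q = 4 * 2 ^ n := by
      rw [Nat.card_congr e.toEquiv, Nat.card_eq_fintype_card, QuaternionGroup.card]
    have h2 : Nat.card ↥Q ∣ Nat.card X := Subgroup.card_subgroup_dvd_card Q
    rw [h1] at h2
    have h3 : 2 ∣ Nat.card X := dvd_trans ⟨2 * 2 ^ n, by ring⟩ h2
    exact (Nat.not_even_iff_odd.mpr hodd) (even_iff_two_dvd.mpr h3)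

theorem normalizer_zj_le (hG : Cfsg.IsMinSimpleOddOrder G) (hCN : Cfsg.IsCNGroup G) (hp2 : p ≠ 2)
    (P : Sylow p G) (hP : (P : Subgroup G) ≠ ⊥) :
    Subgroup.normalizer ((zj (P : Subgroup G) : Subgroup G) : Set G) ≤
      Subgroup.normalizer ((P : Subgroup G) : Set G) := by
  have hW := (isConjugacyFunctor_zj (p := p) G) (P : Subgroup G) P.2
  have hW1 : zj (P : Subgroup G) ≠ ⊥ := hW.2.1 hP
  have hWle : zj (P : Subgroup G) ≤ P := hW.1
  have hWp : IsPGroup p (zj (P : Subgroup G)) := P.2.to_le hWle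
  have hWsolv : Group.IsSolvable ↥(zj (P : Subgroup G)) := by
    haveI := hWp.isNilpotent; infer_instance
  have hNtop : Subgroup.normalizer ((zj (P : Subgroup G) : Subgroup G) : Set G) ≠ ⊤ :=
    normalizer_ne_top hG _ hW1 hWsolv
  have hPN : (P : Subgroup G) ≤ Subgroup.normalizer ((zj (P : Subgroup G) : Subgroup G) : Set G) :=
    le_normalizer_zj (P : Subgroup G) P.2
  have hPc := sylow_le_commutator_normalizer hG.1 hp2 (perfect hG) P
  have hWnorm : ((zj (P : Subgroup G)).subgroupOf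
      (Subgroup.normalizer ((zj (P : Subgroup G) : Subgroup G) : Set G))).Normal :=
    Subgroup.normal_in_normalizer
  generalize hN : Subgroup.normalizer ((zj (P : Subgroup G) : Subgroup G) : Set G) = N at *
  haveI hNs : Group.IsSolvable ↥N := solvable_of_ne_top hG N hNtop
  have hNcn : Cfsg.IsCNGroup ↥N := cn_subgroup hCN N
  have hNodd : Odd (Nat.card ↥N) := odd_subgroup hG N
  have hP'c : (P : Subgroup G).subgroupOf N ≤ commutator ↥N := by
    intro x hx
    have hx' : (x : G) ∈ ⁅N, N⁆ := hPc (Subgroup.mem_subgroupOf.mp hx)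
    rw [← Subgroup.map_subtype_commutator] at hx'
    obtain ⟨y, hy, hyx⟩ := hx'
    have : y = x := Subtype.ext hyx
    rw [← this]; exact hy
  have hP'idx : ¬ p ∣ ((P : Subgroup G).subgroupOf N).index := by
    intro h
    apply P.not_dvd_index
    rw [← Subgroup.relIndex_mul_index hPN]
    exact dvd_mul_of_dvd_left h _
  by_cases hnil : Group.IsNilpotent ↥N
  · rw [← hN]
    rw [← hN] at hPN hnil
    exact le_normalizer_sylow_of_nilpotent P _ _ hnil le_normalizer hPN
  rcases trichotomy hNcn with h | ⟨q, hq, Q, hQ1, hQn⟩ | ⟨r, hr, hOne, hidx, hother⟩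
  · exact absurd h hnil
  · -- Frobenius type
    obtain ⟨hF1, -, ⟨E, hcompl, -, hfpf⟩, -⟩ :=
      Cfsg.Agent.Lib.Helper10.cn_normal_sylow hNcn hnil q Q hQ1 hQn
    have hE : Fpf (Cfsg.fittingHall ↥N) E := hfpf
    have hEnil : Group.IsNilpotent ↥E := hE.isNilpotent hNcn hF1 inferInstance
    have hEcomm := fpf_comm_of_odd hNodd hF1 hE hEnil
    have hcF : commutator ↥N ≤ Cfsg.fittingHall ↥N :=
      commutator_le_of_complement _ E hcompl hEcomm
    have hFnil : Group.IsNilpotent ↥(Cfsg.fittingHall ↥N) :=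
      Cfsg.Agent.Lib.Helper9.fittingHall_isNilpotent ↥N
    have hFGnil : Group.IsNilpotent ↥((Cfsg.fittingHall ↥N).map N.subtype) := by
      haveI := hFnil
      exact Group.nilpotent_of_mulEquiv
        ((Cfsg.fittingHall ↥N).equivMapOfInjective N.subtype N.subtype_injective)
    have hnorm : N ≤ Subgroup.normalizer (((Cfsg.fittingHall ↥N).map N.subtype : Subgroup G) : Set G) := by
      intro n hn
      apply mem_normalizer_of_conj_le _ n
      rintro _ ⟨y, hy, rfl⟩
      refine ⟨⟨n, hn⟩ * y * ⟨n, hn⟩⁻¹, ?_, rfl⟩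
      exact (Cfsg.fittingHall_normal ↥N).conj_mem y hy ⟨n, hn⟩
    have hPF : (P : Subgroup G) ≤ (Cfsg.fittingHall ↥N).map N.subtype := by
      intro x hx
      have hxN : x ∈ N := hPN hx
      refine ⟨⟨x, hxN⟩, ?_, rfl⟩
      apply hcF
      apply hP'c
      exact Subgroup.mem_subgroupOf.mpr hx
    exact le_normalizer_sylow_of_nilpotent P N _ hFGnil hnorm hPF
  · -- the bad case
    exfalso
    have hrp : r = p := by
      by_contra hne
      have hbot := hother p hp.out (fun h => hne h.symm)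
      have hle := Cfsg.Agent.Lib.Helper1.le_pCore hWnorm hWp.comap_subtype
      rw [hbot, le_bot_iff, Subgroup.subgroupOf_eq_bot] at hle
      apply hW1
      rw [eq_bot_iff]
      intro x hx
      exact Subgroup.disjoint_def.mp hle hx (hPN (hWle hx))
    subst hrp
    exact false_of_threeStep (hOne.isThreeStepGroup hidx) _ hP'idx hP'c

end main

end Cfsg.Agent.Lib.Helper12.CNMin
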