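import Mathlib
import Cfsg.Agent.Lib.Helper12.CNMinC

/-!
Helper lemmas (helper12): minimal simple CN-groups of odd order, part D: every non-nilpotent proper subgroup
has a nontrivial normal Sylow subgroup (there are no three-step subgroups).
-/

set_option autoImplicit false
set_option linter.unusedSectionVars false
set_option linter.style.haveILetI false
open Subgroup
open scoped commutatorElement

namespace Cfsg.Agent.Lib.Helper12.CNMin

universe u

section tools
variable {G : Type u} [Group G]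

/-- the image in `G` of a normal subgroup of `M` is normalized by `M` -/
theorem le_normalizer_map_subtype [Finite G] (M : Subgroup G) (K₀ : Subgroup ↥M) (hK₀ : K₀.Normal) :
    M ≤ Subgroup.normalizer ((K₀.map M.subtype : Subgroup G) : Set G) := by
  intro n hn
  apply mem_normalizer_of_conj_le _ n
  rintro _ ⟨y, hy, rfl⟩
  exact ⟨⟨n, hn⟩ * y * ⟨n, hn⟩⁻¹, hK₀.conj_mem y hy ⟨n, hn⟩, rfl⟩

/-- powers of `s * c` with `s` normalizing `C ∋ c` -/
theorem pow_mul_mem (C : Subgroup G) (s c : G) (hs : s ∈ Subgroup.normalizer (C : Set G)) (hc : c ∈ C)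
    (n : ℕ) : ∃ c' ∈ C, (s * c) ^ n = s ^ n * c' := by
  induction n with
  | zero => exact ⟨1, C.one_mem, by simp⟩
  | succ n ih =>
    obtain ⟨c', hc', h⟩ := ih
    refine ⟨s⁻¹ * c' * s * c, ?_, ?_⟩
    · apply C.mul_mem _ hc
      have hs' : s⁻¹ ∈ Subgroup.normalizer (C : Set G) := inv_mem hs
      have := (Subgroup.mem_normalizer_iff.mp hs' c').mp hc'
      simpa using this
    · rw [pow_succ, h, pow_succ]; group

/-- the normalizer of `K` normalizes the centralizer of `K` -/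
theorem normalizer_le_normalizer_centralizer' (K : Subgroup G) :
    Subgroup.normalizer (K : Set G) ≤ Subgroup.normalizer ((Subgroup.centralizer (K : Set G) : Subgroup G) : Set G) := by
  intro g hg
  have key : ∀ g : G, g ∈ Subgroup.normalizer (K : Set G) → ∀ c ∈ Subgroup.centralizer (K : Set G),
      g * c * g⁻¹ ∈ Subgroup.centralizer (K : Set G) := by
    intro g hg c hc
    rw [Subgroup.mem_centralizer_iff]
    intro k hk
    have hk' : g⁻¹ * k * g ∈ K := by
      have := (Subgroup.mem_normalizer_iff.mp (inv_mem hg) k).mp hk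
      simpa using this
    have h1 := (Subgroup.mem_centralizer_iff.mp hc) _ hk'
    calc k * (g * c * g⁻¹) = g * ((g⁻¹ * k * g) * c) * g⁻¹ := by group
      _ = g * (c * (g⁻¹ * k * g)) * g⁻¹ := by rw [h1]
      _ = g * c * g⁻¹ * k := by group
  rw [Subgroup.mem_normalizer_iff]
  intro c
  constructor
  · exact key g hg c
  · intro h
    have := key g⁻¹ (inv_mem hg) _ h
    have e : g⁻¹ * (g * c * g⁻¹) * g⁻¹⁻¹ = c := by group
    rwa [e] at this

end tools

section main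
variable {G : Type u} [Group G] [Finite G] {p : ℕ} [hp : Fact p.Prime]
open Cfsg.Agent.Lib.Helper8.SolvCN

/-- **key step**: a subgroup `M` with `O_p(M) ≠ 1` self-centralizing has a normal Sylow `p`-subgroup -/
theorem exists_normal_sylow_of_oneCore (hG : Cfsg.IsMinSimpleOddOrder G) (hCN : Cfsg.IsCNGroup G)
    (hp2 : p ≠ 2) (M : Subgroup G) (h : OneCore p ↥M) (P₀ : Sylow p ↥M) :
    (P₀ : Subgroup ↥M).Normal := by
  -- K = O_p(M) as a subgroup of G
  have hK₀n : (Cfsg.pCore p ↥M).Normal := Cfsg.Agent.Lib.Helper1.pCore_normal p ↥M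
  have hK₀p : IsPGroup p (Cfsg.pCore p ↥M) := Cfsg.Agent.Lib.Helper1.pCore_isPGroup p ↥M
  set K : Subgroup G := (Cfsg.pCore p ↥M).map M.subtype with hKdef
  have hK1 : K ≠ ⊥ := by
    intro hb
    apply h.ne_bot
    exact (Subgroup.map_eq_bot_iff_of_injective _ M.subtype_injective).mp hb
  have hKp : IsPGroup p K := hK₀p.map _
  have hKM : K ≤ M := Subgroup.map_subtype_le _
  have hMK : M ≤ Subgroup.normalizer (K : Set G) := le_normalizer_map_subtype M _ hK₀n
  have hKsolv : Group.IsSolvable ↥K := by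
    haveI := hKp.isNilpotent; infer_instance
  have hXtop : Subgroup.normalizer (K : Set G) ≠ ⊤ := normalizer_ne_top hG K hK1 hKsolv
  set X := Subgroup.normalizer (K : Set G) with hXdef
  set C := Subgroup.centralizer (K : Set G) with hCdef
  have hCX : C ≤ X := Subgroup.centralizer_le_normalizer _
  have hXC : X ≤ Subgroup.normalizer (C : Set G) := normalizer_le_normalizer_centralizer' K
  -- M ⊓ C ≤ K
  have hMC : M ⊓ C ≤ K := by
    rintro x ⟨hxM, hxC⟩
    refine ⟨⟨x, hxM⟩, ?_, rfl⟩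
    apply h.cent
    rw [Subgroup.mem_centralizer_iff]
    intro k hk
    apply Subtype.ext
    exact (Subgroup.mem_centralizer_iff.mp hxC) (k : G) ⟨k, hk, rfl⟩
  -- the Sylow subgroups
  set P₀G : Subgroup G := (P₀ : Subgroup ↥M).map M.subtype with hP₀G
  have hP₀Gp : IsPGroup p P₀G := P₀.2.map _
  have hP₀GM : P₀G ≤ M := Subgroup.map_subtype_le _
  have hKP₀ : K ≤ P₀G := Subgroup.map_mono (Cfsg.Agent.Lib.Helper1.pCore_le_sylow P₀)
  obtain ⟨S', hS'⟩ := (hP₀Gp.comap_subtype (K := X)).exists_le_sylow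
  set S_X : Subgroup G := (S' : Subgroup ↥X).map X.subtype with hS_X
  have hS_Xp : IsPGroup p S_X := S'.2.map _
  have hS_XX : S_X ≤ X := Subgroup.map_subtype_le _
  have hP₀S : P₀G ≤ S_X := by
    intro x hx
    have hxX : x ∈ X := hMK (hP₀GM hx)
    exact ⟨⟨x, hxX⟩, hS' (Subgroup.mem_subgroupOf.mpr hx), rfl⟩
  obtain ⟨P, hP⟩ := hS_Xp.exists_le_sylow
  have hPX : (P : Subgroup G) ⊓ X ≤ S_X := by
    rintro z ⟨hzP, hzX⟩
    have hle : (S' : Subgroup ↥X) ≤ ((P : Subgroup G) ⊓ X).subgroupOf X := by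
      intro y hy
      rw [Subgroup.mem_subgroupOf]
      exact ⟨hP ⟨y, hy, rfl⟩, y.2⟩
    have hpg : IsPGroup p (((P : Subgroup G) ⊓ X).subgroupOf X) :=
      (P.2.to_le inf_le_left).comap_subtype
    have heq := S'.is_maximal' hpg hle
    have : (⟨z, hzX⟩ : ↥X) ∈ ((P : Subgroup G) ⊓ X).subgroupOf X := by
      rw [Subgroup.mem_subgroupOf]; exact ⟨hzP, hzX⟩
    rw [heq] at this
    exact ⟨⟨z, hzX⟩, this, rfl⟩
  have hKP : K ≤ (P : Subgroup G) := hKP₀.trans (hP₀S.trans hP)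
  have hP1 : (P : Subgroup G) ≠ ⊥ := by
    intro hb
    rw [hb, le_bot_iff] at hKP
    exact hK1 hKP
  -- decomposition of elements of X
  have hdec : ∀ g ∈ X, ∃ c ∈ C, ∃ y ∈ Subgroup.normalizer ((P : Subgroup G) : Set G), g = c * y := by
    intro g hg
    have hg' : g⁻¹ ∈ X := inv_mem hg
    obtain ⟨y, hy, hya⟩ := control hG.1 hp2 P (K : Set G) g⁻¹ (fun a ha => hKP ha) (by
      rintro _ ⟨a, ha, rfl⟩
      exact hKP ((Subgroup.mem_normalizer_iff.mp hg' a).mp ha))
    have hyP := normalizer_zj_le hG hCN hp2 P hP1 hy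
    refine ⟨g * y, ?_, y⁻¹, inv_mem hyP, by group⟩
    -- `g * y` centralizes K
    rw [Subgroup.mem_centralizer_iff]
    intro k hk
    have h1 := hya k hk
    -- y k y⁻¹ = g⁻¹ k g
    have h2 : g * (y * k * y⁻¹) * g⁻¹ = k := by rw [h1]; group
    calc k * (g * y) = (g * (y * k * y⁻¹) * g⁻¹) * (g * y) := by rw [h2]
      _ = g * y * k := by group
  -- the subgroup T
  have hSC : S_X ≤ Subgroup.normalizer (C : Set G) := hS_XX.trans hXC
  set T : Subgroup G := M ⊓ (S_X ⊔ C) with hT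
  have hTp : IsPGroup p T := by
    rintro ⟨w, hw⟩
    have hwM : w ∈ M := hw.1
    have hwY : w ∈ S_X ⊔ C := hw.2
    rw [← SetLike.mem_coe, Subgroup.coe_mul_of_left_le_normalizer_right S_X C hSC] at hwY
    obtain ⟨s, hs, c, hc, rfl⟩ := hwY
    obtain ⟨k, hk⟩ := hS_Xp ⟨s, hs⟩
    have hk' : s ^ p ^ k = 1 := by simpa using congrArg Subtype.val hk
    obtain ⟨c', hc', hpow⟩ := pow_mul_mem C s c (hSC hs) hc (p ^ k)
    rw [hk', one_mul] at hpow
    have hc'K : c' ∈ K := by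
      apply hMC
      refine ⟨?_, hc'⟩
      rw [← hpow]
      exact M.pow_mem hwM _
    obtain ⟨j, hj⟩ := hKp ⟨c', hc'K⟩
    have hj' : c' ^ p ^ j = 1 := by simpa using congrArg Subtype.val hj
    refine ⟨k + j, Subtype.ext ?_⟩
    simp only [SubmonoidClass.mk_pow, OneMemClass.coe_one]
    rw [pow_add, pow_mul, hpow, hj']
  have hP₀T : P₀G ≤ T := le_inf hP₀GM (hP₀S.trans le_sup_left)
  have hTM : T ≤ M := inf_le_left
  have hTeq : T ≤ P₀G := by
    have hle : (P₀ : Subgroup ↥M) ≤ T.subgroupOf M := by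
      intro y hy
      rw [Subgroup.mem_subgroupOf]
      exact hP₀T ⟨y, hy, rfl⟩
    have heq := P₀.is_maximal' hTp.comap_subtype hle
    intro z hz
    have h3 : (⟨z, hTM hz⟩ : ↥M) ∈ T.subgroupOf M := by rw [Subgroup.mem_subgroupOf]; exact hz
    have h4 : (⟨z, hTM hz⟩ : ↥M) ∈ (P₀ : Subgroup ↥M) := heq ▸ h3
    exact ⟨⟨z, hTM hz⟩, h4, rfl⟩
  -- normality
  refine ⟨fun x hx m => ?_⟩
  have hxG : (x : G) ∈ P₀G := ⟨x, hx, rfl⟩
  have hmX : (m : G) ∈ X := hMK m.2
  obtain ⟨c, hc, y, hy, hmcy⟩ := hdec (m : G) hmX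
  have hyX : y ∈ X := by
    have : y = c⁻¹ * (m : G) := by rw [hmcy]; group
    rw [this]
    exact X.mul_mem (inv_mem (hCX hc)) hmX
  have h1 : y * (x : G) * y⁻¹ ∈ S_X := by
    apply hPX
    refine ⟨?_, ?_⟩
    · exact (Subgroup.mem_normalizer_iff.mp hy _).mp (hP (hP₀S hxG))
    · exact X.mul_mem (X.mul_mem hyX (hS_XX (hP₀S hxG))) (inv_mem hyX)
  have h2 : (m : G) * (x : G) * (m : G)⁻¹ ∈ T := by
    refine ⟨M.mul_mem (M.mul_mem m.2 x.2) (inv_mem m.2), ?_⟩
    have e : (m : G) * (x : G) * (m : G)⁻¹ = c * (y * (x : G) * y⁻¹) * c⁻¹ := by rw [hmcy]; group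
    rw [e]
    have hcY : c ∈ S_X ⊔ C := (le_sup_right : C ≤ S_X ⊔ C) hc
    exact (S_X ⊔ C).mul_mem ((S_X ⊔ C).mul_mem hcY ((le_sup_left : S_X ≤ S_X ⊔ C) h1)) (inv_mem hcY)
  obtain ⟨z, hz, hzeq⟩ := hTeq h2
  have hzeq' : (z : G) = (m : G) * (x : G) * (m : G)⁻¹ := hzeq
  have : z = m * x * m⁻¹ := Subtype.ext (by rw [hzeq']; simp)
  rw [← this]; exact hz

end main

end Cfsg.Agent.Lib.Helper12.CNMin
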