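import Mathlib
import Cfsg.Agent.Lib.Helper12.CNMinD

/-!
Helper lemmas (helper12): minimal simple CN-groups of odd order, part E: Theorem A (every non-nilpotent proper
subgroup is of Frobenius type) and the non-existence of three-step subgroups.
-/

set_option autoImplicit false
set_option linter.unusedSectionVars false
set_option linter.style.haveILetI false
open Subgroup
open scoped commutatorElement

namespace Cfsg.Agent.Lib.Helper12.CNMin

universe u

section three
open Cfsg.Agent.Lib.Helper8.SolvCN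

/-- a three-step group (with respect to any number `p`) has no nontrivial normal Sylow subgroup -/
theorem threeStep_no_normal_sylow {X : Type*} [Group X] [Finite X] (p : ℕ)
    (h3 : Cfsg.IsThreeStepGroup p X) (q : ℕ) [hq : Fact q.Prime] (Q : Sylow q X)
    (hQ1 : (Q : Subgroup X) ≠ ⊥) (hQn : (Q : Subgroup X).Normal) : False := by
  obtain ⟨hK1, A, hA1, -, -, hAcop, hYn, hYtop, ⟨n, hn⟩, hfpf, -⟩ := h3
  have hKn : (Cfsg.pCore p X).Normal := Cfsg.Agent.Lib.Helper1.pCore_normal p X
  -- every element of `K` has order dividing a power of `p`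
  have hKp : ∀ x ∈ Cfsg.pCore p X, ∃ k : ℕ, x ^ p ^ k = 1 := by
    intro x hx
    have hfin : {N : Subgroup X | N.Normal ∧ IsPGroup p N}.Finite := Set.toFinite _
    have key : IsPGroup p ↥(sSup {N : Subgroup X | N.Normal ∧ IsPGroup p N}) ∧
        (sSup {N : Subgroup X | N.Normal ∧ IsPGroup p N}).Normal := by
      refine Set.Finite.induction_on_subset (motive := fun (S : Set (Subgroup X)) _ => IsPGroup p ↥(sSup S : Subgroup X) ∧ (sSup S : Subgroup X).Normal)
        _ hfin ?_ ?_
      · rw [sSup_empty]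
        refine ⟨?_, inferInstance⟩
        intro g
        exact ⟨0, Subsingleton.elim _ _⟩
      · intro N S hN _ _ ih
        rw [sSup_insert]
        haveI := hN.1
        haveI := ih.2
        exact ⟨hN.2.to_sup_of_normal_left ih.1, inferInstance⟩
    have hx' : x ∈ sSup {N : Subgroup X | N.Normal ∧ IsPGroup p N} := hx
    obtain ⟨k, hk⟩ := key.1 ⟨x, hx'⟩
    exact ⟨k, by simpa using congrArg Subtype.val hk⟩
  have hn1 : n ≠ 0 := by
    intro h0
    rw [h0, pow_zero, Subgroup.index_eq_one] at hn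
    exact hYtop hn
  by_cases hqp : q ∣ p
  · -- `Q ≤ K`
    have hQp : IsPGroup p (Q : Subgroup X) := by
      intro g
      obtain ⟨j, hj⟩ := Q.2 g
      obtain ⟨t, ht⟩ := hqp
      refine ⟨j, ?_⟩
      rw [ht, mul_pow, pow_mul, hj, one_pow]
    have hQK : (Q : Subgroup X) ≤ Cfsg.pCore p X := Cfsg.Agent.Lib.Helper1.le_pCore hQn hQp
    have hQY : (Q : Subgroup X) ≤ Cfsg.pCore p X ⊔ A := hQK.trans le_sup_left
    have h1 : (Cfsg.pCore p X ⊔ A).index ∣ (Q : Subgroup X).index := Subgroup.index_dvd_of_le hQY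
    apply Q.not_dvd_index
    refine dvd_trans ?_ h1
    rw [hn]
    exact dvd_trans hqp (dvd_pow_self p hn1)
  · -- `q ∣ |A|`
    have hqX : q ∣ Nat.card X := by
      have h1 := Q.card_eq_multiplicity
      have h2 : Nat.card (Q : Subgroup X) ≠ 1 := by
        intro h
        exact hQ1 (Subgroup.card_eq_one.mp h)
      rcases Q.2.card_eq_or_dvd with h | h
      · exact absurd h h2
      · exact dvd_trans h (Subgroup.card_subgroup_dvd_card _)
    have hqpow : ∀ k : ℕ, ¬ q ∣ p ^ k := fun k h => hqp (hq.out.dvd_of_dvd_pow h)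
    have hcard : Nat.card X = Nat.card ↥(Cfsg.pCore p X ⊔ A) * p ^ n := by
      rw [← hn, Subgroup.card_mul_index]
    have hAK : A ≤ Subgroup.normalizer ((Cfsg.pCore p X : Subgroup X) : Set X) := by
      rw [Subgroup.normalizer_eq_top_iff.mpr hKn]; exact le_top
    have hdvd := Cfsg.Agent.Lib.Helper8.SolvCN.card_sup_dvd_of_le_normalizer (Cfsg.pCore p X) A hAK
    have hqKA : q ∣ Nat.card (Cfsg.pCore p X) * Nat.card A := by
      rw [hcard] at hqX
      rcases (hq.out.dvd_mul).mp hqX with h | h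
      · exact dvd_trans h hdvd
      · exact absurd h (hqpow n)
    have hqA : q ∣ Nat.card A := by
      rcases (hq.out.dvd_mul).mp hqKA with h | h
      · exfalso
        obtain ⟨x, hx⟩ := exists_prime_orderOf_dvd_card' (G := ↥(Cfsg.pCore p X)) q h
        obtain ⟨k, hk⟩ := hKp (x : X) x.2
        have h1 : orderOf (x : X) ∣ p ^ k := orderOf_dvd_of_pow_eq_one hk
        rw [Subgroup.orderOf_coe, hx] at h1
        exact hqpow k h1
      · exact h
    obtain ⟨a, ha⟩ := exists_prime_orderOf_dvd_card' (G := ↥A) q hqA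
    have ha' : orderOf (a : X) = q := by rw [Subgroup.orderOf_coe]; exact ha
    have ha1 : (a : X) ≠ 1 := by
      intro h
      rw [h, orderOf_one] at ha'
      exact hq.out.ne_one ha'.symm
    -- `a ∈ Q`
    have haQ : (a : X) ∈ (Q : Subgroup X) := by
      have hz : IsPGroup q (Subgroup.zpowers (a : X)) := by
        apply IsPGroup.of_card (n := 1)
        rw [Nat.card_zpowers, ha', pow_one]
      obtain ⟨Q', hQ'⟩ := hz.exists_le_sylow
      obtain ⟨g, rfl⟩ := MulAction.exists_smul_eq X Q Q'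
      haveI := hQn
      rw [Sylow.smul_eq_of_normal] at hQ'
      exact hQ' (Subgroup.mem_zpowers _)
    -- `K ⊓ Q = ⊥`
    have hKQ : ∀ x ∈ Cfsg.pCore p X, x ∈ (Q : Subgroup X) → x = 1 := by
      intro x hxK hxQ
      obtain ⟨k, hk⟩ := hKp x hxK
      obtain ⟨j, hj⟩ := Q.2 ⟨x, hxQ⟩
      have hj' : x ^ q ^ j = 1 := by simpa using congrArg Subtype.val hj
      have h1 : orderOf x ∣ p ^ k := orderOf_dvd_of_pow_eq_one hk
      have h2 : orderOf x ∣ q ^ j := orderOf_dvd_of_pow_eq_one hj'
      have hcop : (p ^ k).Coprime (q ^ j) := by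
        apply Nat.Coprime.pow
        exact ((Nat.Prime.coprime_iff_not_dvd hq.out).mpr hqp).symm
      have h3 : orderOf x ∣ 1 := by
        rw [← Nat.Coprime.gcd_eq_one hcop]
        exact Nat.dvd_gcd h1 h2
      exact orderOf_eq_one_iff.mp (Nat.dvd_one.mp h3)
    have hcent : Cfsg.pCore p X ≤ Subgroup.centralizer ({(a : X)} : Set X) := by
      intro k hk
      rw [Subgroup.mem_centralizer_singleton_iff]
      have h1 : k * (a : X) * k⁻¹ * (a : X)⁻¹ ∈ Cfsg.pCore p X := by
        have : k * (a : X) * k⁻¹ * (a : X)⁻¹ = k * ((a : X) * k⁻¹ * (a : X)⁻¹) := by group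
        rw [this]
        exact (Cfsg.pCore p X).mul_mem hk (hKn.conj_mem _ (inv_mem hk) _)
      have h2 : k * (a : X) * k⁻¹ * (a : X)⁻¹ ∈ (Q : Subgroup X) :=
        (Q : Subgroup X).mul_mem (hQn.conj_mem _ haQ _) (inv_mem haQ)
      have h3 := hKQ _ h1 h2
      have : k * (a : X) = (k * (a : X) * k⁻¹ * (a : X)⁻¹) * ((a : X) * k) := by group
      rw [this, h3, one_mul]
    have := hfpf (a : X) a.2 ha1
    apply hK1
    rw [eq_bot_iff, ← this]
    exact le_inf le_rfl hcent

/-- a three-step group is not nilpotent -/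
theorem threeStep_not_nilpotent {X : Type*} [Group X] [Finite X] (p : ℕ)
    (h3 : Cfsg.IsThreeStepGroup p X) : ¬ Group.IsNilpotent X := by
  intro hnil
  have hK1 := h3.1
  haveI : Nontrivial X := by
    by_contra hnt
    rw [not_nontrivial_iff_subsingleton] at hnt
    apply hK1
    exact Subsingleton.elim _ _
  have hcard : Nat.card X ≠ 1 := by
    intro h
    have := (Nat.card_eq_one_iff_unique.mp h).1
    exact not_subsingleton X this
  obtain ⟨q, hq, hqX⟩ := Nat.exists_prime_and_dvd hcard
  haveI : Fact q.Prime := ⟨hq⟩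
  obtain ⟨Q⟩ : Nonempty (Sylow q X) := inferInstance
  have hall := (Group.isNilpotent_of_finite_tfae (G := X)).out 0 3 |>.mp hnil
  have hQn : (Q : Subgroup X).Normal := hall q inferInstance Q
  have hQ1 : (Q : Subgroup X) ≠ ⊥ := by
    intro hb
    have h1 := Q.card_eq_multiplicity
    rw [hb, Subgroup.card_bot] at h1
    have h2 : q ^ 1 ∣ Nat.card X := by rwa [pow_one]
    have h3 := (Nat.Prime.pow_dvd_iff_le_factorization hq (Nat.card_pos).ne').mp h2
    have h4 : (Nat.card X).factorization q = 0 := by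
      by_contra h0
      have : 1 < q ^ (Nat.card X).factorization q := Nat.one_lt_pow h0 hq.one_lt
      omega
    omega
  exact threeStep_no_normal_sylow p h3 q Q hQ1 hQn

end three

section main
variable {G : Type u} [Group G] [Finite G]
open Cfsg.Agent.Lib.Helper8.SolvCN

/-- **Theorem A**: every non-nilpotent proper subgroup has a nontrivial normal Sylow subgroup -/
theorem exists_normal_sylow (hG : Cfsg.IsMinSimpleOddOrder G) (hCN : Cfsg.IsCNGroup G)
    (M : Subgroup G) (hM : M ≠ ⊤) (hnil : ¬ Group.IsNilpotent ↥M) :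
    ∃ (q : ℕ) (_ : Fact q.Prime) (Q : Sylow q ↥M), (Q : Subgroup ↥M) ≠ ⊥ ∧ (Q : Subgroup ↥M).Normal := by
  haveI := solvable_of_ne_top hG M hM
  rcases trichotomy (cn_subgroup hCN M) with h | h | ⟨r, hr, hOne, -, -⟩
  · exact absurd h hnil
  · exact h
  · have hr2 : r ≠ 2 := by
      rintro rfl
      have hp := Cfsg.Agent.Lib.Helper1.pCore_isPGroup 2 ↥M
      rcases hp.card_eq_or_dvd with h | h
      · exact hOne.ne_bot (Subgroup.card_eq_one.mp h)
      · have h2 : 2 ∣ Nat.card ↥M := dvd_trans h (Subgroup.card_subgroup_dvd_card _)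
        exact (Nat.not_even_iff_odd.mpr (odd_subgroup hG M)) (even_iff_two_dvd.mpr h2)
    obtain ⟨P₀⟩ : Nonempty (Sylow r ↥M) := inferInstance
    refine ⟨r, hr, P₀, ?_, exists_normal_sylow_of_oneCore hG hCN hr2 M hOne P₀⟩
    intro hb
    have := Cfsg.Agent.Lib.Helper1.pCore_le_sylow P₀
    rw [hb, le_bot_iff] at this
    exact hOne.ne_bot this

/-- **no three-step subgroups** (S1478) -/
theorem no_threeStep (hG : Cfsg.IsMinSimpleOddOrder G) (hCN : Cfsg.IsCNGroup G)
    (H : Subgroup G) (p : ℕ) : ¬ Cfsg.IsThreeStepGroup p ↥H := by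
  intro h3
  have hnil := threeStep_not_nilpotent p h3
  have hHtop : H ≠ ⊤ := by
    intro htop
    subst htop
    obtain ⟨hK1, A, -, -, -, -, hYn, hYtop, -, -, -⟩ := h3
    have h1 := le_normalizer_map_subtype (⊤ : Subgroup G) _ hYn
    have hn : ((Cfsg.pCore p ↥(⊤ : Subgroup G) ⊔ A).map (⊤ : Subgroup G).subtype).Normal :=
      Subgroup.normalizer_eq_top_iff.mp (top_le_iff.mp h1)
    rcases normal_eq hG _ hn with h | h
    · rw [Subgroup.map_eq_bot_iff_of_injective _ (⊤ : Subgroup G).subtype_injective] at h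
      apply hK1
      rw [eq_bot_iff, ← h]
      exact le_sup_left
    · apply hYtop
      rw [eq_top_iff]
      intro x _
      have hx : (x : G) ∈ (Cfsg.pCore p ↥(⊤ : Subgroup G) ⊔ A).map (⊤ : Subgroup G).subtype := by
        rw [h]; exact mem_top _
      obtain ⟨y, hy, hyx⟩ := hx
      have : y = x := Subtype.ext hyx
      rw [← this]; exact hy
  obtain ⟨q, hq, Q, hQ1, hQn⟩ := exists_normal_sylow hG hCN H hHtop hnil
  exact threeStep_no_normal_sylow p h3 q Q hQ1 hQn

end main

end Cfsg.Agent.Lib.Helper12.CNMin
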