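import Mathlib
import Cfsg.Agent.Lib.Helper12.CNMinE
import Cfsg.Agent.Lib.Helper12.Alperin

/-!
Helper lemmas (helper12): minimal simple CN-groups of odd order, part F:
`fittingHallOf M` and the Frobenius structure of the proper non-nilpotent subgroups.
-/

set_option autoImplicit false
open Subgroup
open scoped commutatorElement

namespace Cfsg.Agent.Lib.Helper12.CNMin

open Cfsg.Agent.Lib.Helper8.SolvCN

universe u
variable {G : Type u} [Group G]

section basics

theorem fittingHallOf_le (M : Subgroup G) : Cfsg.fittingHallOf M ≤ M := Subgroup.map_subtype_le _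

theorem fittingHallOf_isNilpotent [Finite G] (M : Subgroup G) :
    Group.IsNilpotent ↥(Cfsg.fittingHallOf M) := by
  haveI := Cfsg.Agent.Lib.Helper9.fittingHall_isNilpotent ↥M
  exact Group.nilpotent_of_mulEquiv
    ((Cfsg.fittingHall ↥M).equivMapOfInjective M.subtype M.subtype_injective)

theorem le_normalizer_fittingHallOf [Finite G] (M : Subgroup G) :
    M ≤ Subgroup.normalizer ((Cfsg.fittingHallOf M : Subgroup G) : Set G) :=
  le_normalizer_map_subtype M _ (Cfsg.fittingHall_normal ↥M)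

theorem relIndex_coprime_of_hall (K M : Subgroup G) (hKM : K ≤ M)
    (hc : (Nat.card K).Coprime K.index) : (Nat.card K).Coprime (K.relIndex M) :=
  Nat.Coprime.coprime_dvd_right (Dvd.intro _ (Subgroup.relIndex_mul_index hKM)) hc

theorem le_fittingHallOf (M K : Subgroup G) (hKM : K ≤ M)
    (hn : M ≤ Subgroup.normalizer (K : Set G)) (hnil : Group.IsNilpotent ↥K)
    (hc : (Nat.card K).Coprime (K.relIndex M)) : K ≤ Cfsg.fittingHallOf M := by
  have h1 : (K.subgroupOf M).Normal := (Subgroup.normal_subgroupOf_iff_le_normalizer hKM).mpr hn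
  have h2 : Group.IsNilpotent ↥(K.subgroupOf M) := by
    haveI := hnil
    exact Group.nilpotent_of_mulEquiv (Subgroup.subgroupOfEquivOfLe hKM).symm
  have h3 : (Nat.card ↥(K.subgroupOf M)).Coprime (K.subgroupOf M).index := by
    rw [Nat.card_congr (Subgroup.subgroupOfEquivOfLe hKM).toEquiv]; exact hc
  have h4 := Cfsg.Agent.Lib.Helper9.le_fittingHall h1 h2 h3
  rw [← Subgroup.map_subgroupOf_eq_of_le hKM]
  exact Subgroup.map_mono h4

end basics

section main
variable [Finite G]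

/-- the Frobenius structure of a proper non-nilpotent subgroup -/
theorem frob_data (hG : Cfsg.IsMinSimpleOddOrder G) (hCN : Cfsg.IsCNGroup G)
    (M : Subgroup G) (hM : M ≠ ⊤) (hnil : ¬ Group.IsNilpotent ↥M) :
    ∃ E : Subgroup G, Cfsg.IsComplIn (Cfsg.fittingHallOf M) E M ∧ Cfsg.fittingHallOf M ≠ ⊥ ∧ E ≠ ⊥ ∧
      (∀ e ∈ E, e ≠ 1 → Cfsg.fittingHallOf M ⊓ centralizer {e} = ⊥) ∧
      (∀ a ∈ M, ∀ b ∈ M, a * b * a⁻¹ * b⁻¹ ∈ Cfsg.fittingHallOf M) := by
  obtain ⟨q, hq, Q, hQ1, hQn⟩ := exists_normal_sylow hG hCN M hM hnil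
  have hMcn := cn_subgroup hCN M
  haveI hMs : Group.IsSolvable ↥M := solvable_of_ne_top hG M hM
  obtain ⟨hF1, -, ⟨E₀, hc, hFrob, hfpf⟩, -⟩ :=
    Cfsg.Agent.Lib.Helper10.cn_normal_sylow hMcn hnil q Q hQ1 hQn
  have hE : Fpf (Cfsg.fittingHall ↥M) E₀ := hfpf
  have hEnil : Group.IsNilpotent ↥E₀ := hE.isNilpotent hMcn hF1 inferInstance
  have hEcomm := fpf_comm_of_odd (odd_subgroup hG M) hF1 hE hEnil
  have hcF : commutator ↥M ≤ Cfsg.fittingHall ↥M := commutator_le_of_complement _ E₀ hc hEcomm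
  refine ⟨E₀.map M.subtype, ⟨Subgroup.map_subtype_le _, Subgroup.map_subtype_le _, ?_, ?_⟩,
    ?_, ?_, ?_, ?_⟩
  · unfold Cfsg.fittingHallOf
    rw [← Subgroup.map_inf _ _ M.subtype M.subtype_injective, disjoint_iff.mp hc.disjoint,
      Subgroup.map_bot]
  · intro m hm
    obtain ⟨f, hf, e, he, hfe⟩ := Cfsg.Agent.Lib.Helper1.IsComplement'.exists_mul_eq hc ⟨m, hm⟩
    refine ⟨f, ⟨f, hf, rfl⟩, e, ⟨e, he, rfl⟩, ?_⟩
    have := congrArg Subtype.val hfe
    simpa using this.symm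
  · unfold Cfsg.fittingHallOf
    intro h
    exact hF1 ((Subgroup.map_eq_bot_iff_of_injective _ M.subtype_injective).mp h)
  · intro h
    exact hFrob.1 ((Subgroup.map_eq_bot_iff_of_injective _ M.subtype_injective).mp h)
  · rintro _ ⟨e, he, rfl⟩ he1
    have he1' : e ≠ 1 := fun h => he1 (by rw [h]; rfl)
    have h0 := hfpf e he he1'
    rw [eq_bot_iff]
    rintro x ⟨⟨x₀, hx₀, rfl⟩, hxc⟩
    rw [Subgroup.mem_bot]
    have hmem : x₀ ∈ Cfsg.fittingHall ↥M ⊓ centralizer {e} := by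
      refine ⟨hx₀, ?_⟩
      have hxc' : (x₀ : G) * (e : G) = (e : G) * (x₀ : G) :=
        mem_centralizer_singleton_iff.mp hxc
      show x₀ ∈ centralizer {e}
      rw [mem_centralizer_singleton_iff]
      exact Subtype.ext hxc'
    rw [h0, Subgroup.mem_bot] at hmem
    rw [hmem]; rfl
  · intro a ha b hb
    have h1 : ⁅(⟨a, ha⟩ : ↥M), (⟨b, hb⟩ : ↥M)⁆ ∈ commutator ↥M := by
      rw [_root_.commutator_def]
      exact Subgroup.commutator_mem_commutator (Subgroup.mem_top _) (Subgroup.mem_top _)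
    refine ⟨_, hcF h1, ?_⟩
    simp [commutatorElement_def]

end main

end Cfsg.Agent.Lib.Helper12.CNMin
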