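import Mathlib
import Cfsg.Prelude.Def_Local
import Cfsg.Agent.Lib.Helper12.Cores
import Cfsg.Agent.Lib.Helper8.DualHH
import Cfsg.Agent.Lib.Helper1.Coprime
import Cfsg.Agent.Lib.Helper9.CoprimeSylow

/-!
Helper lemmas (helper12) for Ito's theorem (S4468): in a finite `p`-solvable group whose Sylow
`p`-subgroup is not normal, some `p`-element normalizes but does not centralize a `q`-subgroup, `q ≠ p`.
-/

namespace Cfsg.Agent.Lib.Helper12.ItoGroup

open Subgroup
open Pointwise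

theorem pCore_quot_pCore_eq_bot {X : Type*} [Group X] [Finite X] (p : ℕ) [hp : Fact p.Prime]
    [hn : (Cfsg.pCore p X).Normal] :
    Cfsg.pCore p (X ⧸ Cfsg.pCore p X) = ⊥ := by
  set O := Cfsg.pCore p X with hO
  set Nb := Cfsg.pCore p (X ⧸ O) with hNb
  haveI : Nb.Normal := Cfsg.Agent.Lib.Helper24.pCore_normal' p
  have hN : Nb.comap (QuotientGroup.mk' O) ≤ O := by
    apply Cfsg.Agent.Lib.Helper12.le_pCore' p _ inferInstance
    obtain ⟨a, ha⟩ := IsPGroup.iff_card.mp (Cfsg.Agent.Lib.Helper12.pCore_isPGroup' (X := X) p)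
    obtain ⟨b, hb⟩ := IsPGroup.iff_card.mp (Cfsg.Agent.Lib.Helper12.pCore_isPGroup' (X := X ⧸ O) p)
    apply IsPGroup.of_card (n := a + b)
    rw [Cfsg.Agent.Lib.Helper12.card_comap_mk', ha, hb, pow_add]
  rw [eq_bot_iff]
  intro x hx
  obtain ⟨y, rfl⟩ := QuotientGroup.mk'_surjective O x
  have : y ∈ O := hN hx
  rw [Subgroup.mem_bot]
  exact (QuotientGroup.eq_one_iff y).mpr this

/-- If an element `x` of `p`-power order normalizes a subgroup `U` of order prime to `p` and does not centralize it,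
then it normalizes and does not centralize some Sylow subgroup of `U`. -/
theorem exists_sylow_not_centralized {G : Type*} [Group G] [Finite G] (p : ℕ) [hp : Fact p.Prime]
    (U : Subgroup G) (hU : (Nat.card U).Coprime p) (x : G) (hx : ∃ k, orderOf x = p ^ k)
    (hxU : x ∈ normalizer (U : Set G)) (u : G) (hu : u ∈ U) (hxu : x * u ≠ u * x) :
    ∃ (q : ℕ) (_ : Fact q.Prime) (Q : Sylow q ↥U),
      x ∈ normalizer ((((Q : Subgroup ↥U).map U.subtype : Subgroup G)) : Set G) ∧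
      ∃ a ∈ ((Q : Subgroup ↥U).map U.subtype : Subgroup G), x * a ≠ a * x := by
  classical
  set A : Subgroup G := zpowers x with hA
  have hAU : A ≤ normalizer (U : Set G) := by
    rw [hA, zpowers_le]; exact hxU
  have hAcard : Nat.card A = orderOf x := Nat.card_zpowers x
  have hcop : (Nat.card A).Coprime (Nat.card U) := by
    obtain ⟨k, hk⟩ := hx
    rw [hAcard, hk]
    exact Nat.Coprime.pow_left k hU.symm
  have hsolvA : Group.IsSolvable A := by
    haveI : IsCyclic A := by rw [hA]; infer_instance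
    haveI : IsMulCommutative A := IsCyclic.isMulCommutative
    infer_instance
  -- the centralizer of x in U
  set C : Subgroup ↥U := (centralizer ({x} : Set G)).subgroupOf U with hC
  by_contra hcon
  push Not at hcon
  have hall : ∀ q : ℕ, q.Prime → ¬ q ∣ C.index := by
    intro q hq
    haveI : Fact q.Prime := ⟨hq⟩
    obtain ⟨Q, hQ⟩ := Cfsg.Agent.Lib.Helper9.exists_invariant_sylow A U hAU hcop (Or.inl hsolvA) q
    have hxQ : x ∈ normalizer ((((Q : Subgroup ↥U).map U.subtype : Subgroup G)) : Set G) :=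
      hQ (mem_zpowers x)
    have hcent := hcon q ⟨hq⟩ Q hxQ
    have hQC : (Q : Subgroup ↥U) ≤ C := by
      intro c hc
      rw [hC, mem_subgroupOf, mem_centralizer_iff]
      intro y hy
      rw [Set.mem_singleton_iff] at hy
      subst hy
      have := hcent (c : G) (mem_map_of_mem U.subtype hc)
      exact this
    intro hdvd
    exact Sylow.not_dvd_index Q (dvd_trans hdvd (index_dvd_of_le hQC))
  have hidx : C.index = 1 := by
    by_contra h1
    obtain ⟨q, hq, hqd⟩ := Nat.exists_prime_and_dvd h1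
    exact hall q hq hqd
  have hCtop : C = ⊤ := index_eq_one.mp hidx
  have : (⟨u, hu⟩ : ↥U) ∈ C := by rw [hCtop]; trivial
  rw [hC, mem_subgroupOf, mem_centralizer_iff] at this
  exact hxu (this x rfl)


/-- Ito-type lemma: in a finite `p`-solvable group whose Sylow `p`-subgroup is not normal, some element of
`p`-power order normalizes but does not centralize a `q`-subgroup for a prime `q ≠ p`. -/
theorem exists_pelt_acting_on_qgroup {G : Type*} [Group G] [Finite G] (p : ℕ) [hp : Fact p.Prime]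
    (hsolv : Cfsg.IsPSolvable p G) (P : Sylow p G) (hP : ¬ (P : Subgroup G).Normal) :
    ∃ (q : ℕ) (Q : Subgroup G) (x : G), q.Prime ∧ q ≠ p ∧ IsPGroup q Q ∧ (∃ k, orderOf x = p ^ k) ∧
      x ∈ Subgroup.normalizer (Q : Set G) ∧ ∃ a ∈ Q, x * a ≠ a * x := by
  classical
  haveI hNn : (Cfsg.pCore p G).Normal := Cfsg.Agent.Lib.Helper24.pCore_normal' p
  set N := Cfsg.pCore p G with hN
  have hNp : IsPGroup p N := Cfsg.Agent.Lib.Helper12.pCore_isPGroup' p
  have hNP : N ≤ (P : Subgroup G) := Cfsg.Agent.Lib.Helper24.normal_pgroup_le_sylow N hNp P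
  -- an element of P outside N
  obtain ⟨x, hxP, hxN⟩ : ∃ x ∈ (P : Subgroup G), x ∉ N := by
    by_contra h
    push Not at h
    have : (P : Subgroup G) = N := le_antisymm h hNP
    exact hP (this ▸ hNn)
  have pelt : ∀ y ∈ (P : Subgroup G), ∃ k, orderOf y = p ^ k := by
    intro y hy
    obtain ⟨k, hk⟩ := P.isPGroup' ⟨y, hy⟩
    have h1 : y ^ p ^ k = 1 := by simpa using congrArg Subtype.val hk
    obtain ⟨m, -, hm⟩ := (Nat.dvd_prime_pow hp.out).mp (orderOf_dvd_of_pow_eq_one h1)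
    exact ⟨m, hm⟩
  set π := QuotientGroup.mk' N with hπdef
  have hπ : Function.Surjective π := QuotientGroup.mk'_surjective N
  have hsolv' : Cfsg.IsPSolvable p (G ⧸ N) :=
    Cfsg.Agent.Lib.Helper24.isPSolvable_of_surjective p π hπ hsolv
  have hO : Cfsg.pCore p (G ⧸ N) = ⊥ := pCore_quot_pCore_eq_bot p
  set U := Cfsg.pPrimeCore p (G ⧸ N) with hU
  have hUn : U.Normal := Cfsg.Agent.Lib.Helper24.pPrimeCore_normal' p
  have hUc : (Nat.card U).Coprime p := Cfsg.Agent.Lib.Helper12.pPrimeCore_coprime p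
  have hx1 : π x ≠ 1 := fun h => hxN ((QuotientGroup.eq_one_iff x).mp h)
  have hxbord : ∃ k, orderOf (π x) = p ^ k := by
    obtain ⟨k, hk⟩ := pelt x hxP
    have : orderOf (π x) ∣ p ^ k := hk ▸ orderOf_map_dvd π x
    obtain ⟨m, -, hm⟩ := (Nat.dvd_prime_pow hp.out).mp this
    exact ⟨m, hm⟩
  have hxU : π x ∉ U := by
    intro hmem
    obtain ⟨k, hk⟩ := hxbord
    have h1 : orderOf (π x) ∣ Nat.card U := Subgroup.orderOf_dvd_natCard U hmem
    have h2 : (orderOf (π x)).Coprime p := Nat.Coprime.coprime_dvd_left h1 hUc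
    rcases Nat.eq_zero_or_pos k with hk0 | hkpos
    · rw [hk0, pow_zero, orderOf_eq_one_iff] at hk; exact hx1 hk
    · rw [hk] at h2
      have : p ∣ p ^ k := dvd_pow_self p hkpos.ne'
      have h3 : p ∣ Nat.gcd (p ^ k) p := Nat.dvd_gcd this dvd_rfl
      rw [h2] at h3
      exact hp.out.one_lt.ne' (Nat.dvd_one.mp h3)
  obtain ⟨u, huU, hxu⟩ : ∃ u ∈ U, π x * u ≠ u * π x := by
    by_contra h
    push Not at h
    apply hxU
    apply Cfsg.Agent.Lib.Helper8.DualHH.centralizer_pPrimeCore_le p hsolv' hO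
    rw [mem_centralizer_iff]
    intro v hv
    exact (h v hv).symm
  have hxnU : π x ∈ normalizer (U : Set (G ⧸ N)) := by
    rw [Subgroup.normalizer_eq_top_iff.mpr hUn]; trivial
  obtain ⟨q, hqF, Qs, hxQ, ab, habQ, hxab⟩ :=
    exists_sylow_not_centralized p U hUc (π x) hxbord hxnU u huU hxu
  set Qb : Subgroup (G ⧸ N) := (Qs : Subgroup ↥U).map U.subtype with hQb
  have hq : q.Prime := hqF.out
  have hQbq : IsPGroup q Qb := by
    rw [hQb]; exact Qs.isPGroup'.map U.subtype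
  have hQbU : Qb ≤ U := Subgroup.map_subtype_le _
  have hab1 : ab ≠ 1 := by
    intro h; apply hxab; rw [h, mul_one, one_mul]
  -- q ≠ p
  have hqp : q ≠ p := by
    intro hqp
    obtain ⟨k, hk⟩ := hQbq ⟨ab, habQ⟩
    have h1 : ab ^ q ^ k = 1 := by simpa using congrArg Subtype.val hk
    have h2 : orderOf ab ∣ q ^ k := orderOf_dvd_of_pow_eq_one h1
    have h3 : orderOf ab ∣ Nat.card U := Subgroup.orderOf_dvd_natCard U (hQbU habQ)
    have h4 : (orderOf ab).Coprime p := Nat.Coprime.coprime_dvd_left h3 hUc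
    have h5 : (orderOf ab).Coprime (q ^ k) := by rw [hqp]; exact Nat.Coprime.pow_right k h4
    have h6 : orderOf ab = 1 := h5.eq_one_of_dvd h2
    exact hab1 (orderOf_eq_one_iff.mp h6)
  -- lifting to G
  set Q₁ : Subgroup G := Qb.comap π with hQ₁
  have hNQ₁ : N ≤ Q₁ := by
    intro n hn
    have e : π n = 1 := (QuotientGroup.eq_one_iff n).mpr hn
    rw [hQ₁, mem_comap, e]; exact Qb.one_mem
  have hQ₁N : Q₁ ≤ normalizer (N : Set G) := by
    rw [Subgroup.normalizer_eq_top_iff.mpr hNn]; exact le_top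
  have hcardQ₁ : Nat.card Q₁ = Nat.card N * Nat.card Qb :=
    Cfsg.Agent.Lib.Helper12.card_comap_mk' N Qb
  obtain ⟨a, ha⟩ := IsPGroup.iff_card.mp hNp
  obtain ⟨b, hb⟩ := IsPGroup.iff_card.mp hQbq
  have hrel : N.relIndex Q₁ = Nat.card Qb := by
    have h := Subgroup.relIndex_mul_relIndex ⊥ N Q₁ bot_le hNQ₁
    rw [Subgroup.relIndex_bot_left, Subgroup.relIndex_bot_left, hcardQ₁] at h
    exact Nat.eq_of_mul_eq_mul_left Nat.card_pos h
  have hpq : Nat.Coprime p q := (Nat.coprime_primes hp.out hq).mpr (Ne.symm hqp)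
  have hcop : Nat.Coprime (Nat.card N) (N.relIndex Q₁) := by
    rw [hrel, ha, hb]; exact Nat.Coprime.pow _ _ hpq
  obtain ⟨Q, hQ⟩ := Cfsg.Agent.Lib.Helper1.internal_sz_exists hNQ₁ hQ₁N hcop
  have hQcard : Nat.card Q = q ^ b := by
    have h := hQ.card_mul_card
    rw [hcardQ₁, hb] at h
    exact Nat.eq_of_mul_eq_mul_left Nat.card_pos h
  have hQq : IsPGroup q Q := IsPGroup.of_card hQcard
  have hxQ₁ : ∀ g ∈ Q₁, x * g * x⁻¹ ∈ Q₁ := by
    intro g hg
    rw [hQ₁, mem_comap] at hg ⊢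
    rw [map_mul, map_mul, map_inv]
    exact (Subgroup.mem_normalizer_iff.mp hxQ (π g)).mp hg
  have hxQ₁' : ∀ g ∈ Q₁, x⁻¹ * g * x ∈ Q₁ := by
    intro g hg
    rw [hQ₁, mem_comap] at hg ⊢
    rw [map_mul, map_mul, map_inv]
    apply (Subgroup.mem_normalizer_iff.mp hxQ ((π x)⁻¹ * π g * π x)).mpr
    have e : π x * ((π x)⁻¹ * π g * π x) * (π x)⁻¹ = π g := by group
    rw [e]; exact hg
  have hQ' : Cfsg.Agent.Lib.Helper1.IsComplIn N (MulAut.conj x • Q) Q₁ := by
    refine ⟨hNQ₁, ?_, ?_, ?_⟩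
    · intro g hg
      rw [Cfsg.Agent.Lib.Helper1.mem_conj_smul_iff] at hg
      have h1 := hxQ₁ _ (hQ.2.1 hg)
      have e : x * (x⁻¹ * g * x) * x⁻¹ = g := by group
      rwa [e] at h1
    · rw [Subgroup.disjoint_def]
      intro g hgN hgQ
      rw [Cfsg.Agent.Lib.Helper1.mem_conj_smul_iff] at hgQ
      have h1 : x⁻¹ * g * x ∈ N := by
        have := hNn.conj_mem g hgN x⁻¹
        simpa using this
      have h2 := Subgroup.disjoint_def.mp hQ.2.2.1 h1 hgQ
      have e : g = x * (x⁻¹ * g * x) * x⁻¹ := by group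
      rw [e, h2]; group
    · intro γ hγ
      obtain ⟨k, hk, c, hc, hkc⟩ := hQ.2.2.2 _ (hxQ₁' γ hγ)
      refine ⟨x * k * x⁻¹, hNn.conj_mem k hk x, x * c * x⁻¹, ?_, ?_⟩
      · rw [Cfsg.Agent.Lib.Helper1.mem_conj_smul_iff]
        have e : x⁻¹ * (x * c * x⁻¹) * x = c := by group
        rw [e]; exact hc
      · have e : x * k * x⁻¹ * (x * c * x⁻¹) = x * (k * c) * x⁻¹ := by group
        rw [e, hkc]; group
  have hsolvN : Group.IsSolvable N := by
    haveI : Group.IsNilpotent N := hNp.isNilpotent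
    infer_instance
  have hcop2 : Nat.Coprime (Nat.card N) (Nat.card Q) := by
    rw [ha, hQcard]; exact Nat.Coprime.pow _ _ hpq
  obtain ⟨k, hkN, hk⟩ :=
    Cfsg.Agent.Lib.Helper1.internal_sz_conj hQ₁N hQ hQ' hcop2 (Or.inl hsolvN)
  have hyQ : ∀ c ∈ Q, (k * x) * c * (k * x)⁻¹ ∈ Q := by
    intro c hc
    rw [← hk, Cfsg.Agent.Lib.Helper1.mem_conj_smul_iff, Cfsg.Agent.Lib.Helper1.mem_conj_smul_iff]
    have e : x⁻¹ * (k⁻¹ * (k * x * c * (k * x)⁻¹) * k) * x = c := by group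
    rw [e]; exact hc
  have hyn : k * x ∈ normalizer (Q : Set G) :=
    Cfsg.Agent.Lib.Helper1.mem_normalizer_of_forall_conj_mem Q (k * x) hyQ
  have hyP : k * x ∈ (P : Subgroup G) := mul_mem (hNP hkN) hxP
  have hπy : π (k * x) = π x := by
    have e : π k = 1 := (QuotientGroup.eq_one_iff k).mpr hkN
    rw [map_mul, e, one_mul]
  obtain ⟨g, hg⟩ := hπ ab
  have hgQ₁ : g ∈ Q₁ := by rw [hQ₁, mem_comap, hg]; exact habQ
  obtain ⟨n, hn, c, hc, hnc⟩ := hQ.2.2.2 g hgQ₁
  have hπc : π c = ab := by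
    have e : π n = 1 := (QuotientGroup.eq_one_iff n).mpr hn
    rw [← hg, ← hnc, map_mul, e, one_mul]
  refine ⟨q, Q, k * x, hq, hqp, hQq, pelt _ hyP, hyn, c, hc, ?_⟩
  intro hcomm
  apply hxab
  rw [← hπc, ← hπy, ← map_mul, ← map_mul, hcomm]

end Cfsg.Agent.Lib.Helper12.ItoGroup
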