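/-
helper12: DEFECT-ONE CLUSTER, PART M, leaf WEDD `exists_wedderburn`
(frozen statement in `notes/S4442_M_leaves.lean`).

`F[G] → F[G]/Jac ≃ ∏ Mat_{d i}(F)` is surjective and every irreducible representation is
isomorphic to a column module.
-/
import Mathlib

set_option autoImplicit false

namespace Cfsg.Agent.Lib.Helper12.DOMWEDD

universe u v w

section columns

variable {F : Type u} [Field F] {V : Type w} [AddCommGroup V] [Module F V]

/-- A "simple" unital multiplicative linear action of `Mat_d(F)` on `V ≠ 0` is the column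
module. -/
theorem column_iso [Nontrivial V] (d : ℕ)
    (σ : Matrix (Fin d) (Fin d) F →ₗ[F] Module.End F V)
    (hmul : ∀ a b, σ (a * b) = σ a * σ b) (hone : σ 1 = 1)
    (hsimple : ∀ W : Submodule F V, (∀ m, ∀ w ∈ W, σ m w ∈ W) → W = ⊥ ∨ W = ⊤) :
    ∃ e : V ≃ₗ[F] (Fin d → F), ∀ m v, e (σ m v) = m.mulVec (e v) := by
  classical
  obtain ⟨v, hv⟩ := exists_ne (0 : V)
  have h1 : ∑ j : Fin d, σ (Matrix.single j j 1) v = v := by
    have h2 : (∑ j : Fin d, Matrix.single j j (1 : F)) = 1 := by
      rw [Matrix.sum_single_eq_diagonal]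
      exact Matrix.diagonal_one
    rw [← LinearMap.sum_apply, ← map_sum, h2, hone]
    rfl
  obtain ⟨j, hj⟩ : ∃ j, σ (Matrix.single j j 1) v ≠ 0 := by
    by_contra hcon
    push Not at hcon
    apply hv
    rw [← h1]
    exact Finset.sum_eq_zero (fun j _ => hcon j)
  set w := σ (Matrix.single j j 1) v with hw
  let φ : (Fin d → F) →ₗ[F] V :=
    { toFun := fun x => σ (Matrix.vecMulVec x (Pi.single j 1)) w
      map_add' := by
        intro x y
        rw [Matrix.add_vecMulVec, map_add, LinearMap.add_apply]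
      map_smul' := by
        intro c x
        rw [Matrix.smul_vecMulVec, map_smul, LinearMap.smul_apply, RingHom.id_apply] }
  have hφ : ∀ x, φ x = σ (Matrix.vecMulVec x (Pi.single j 1)) w := fun _ => rfl
  have hφM : ∀ M x, σ M (φ x) = φ (M.mulVec x) := by
    intro M x
    rw [hφ, hφ, ← Matrix.mul_vecMulVec, hmul]
    rfl
  have hφj : φ (Pi.single j 1) = w := by
    rw [hφ, ← Matrix.single_eq_single_vecMulVec_single, hw, ← Module.End.mul_apply, ← hmul,
      Matrix.single_mul_single_same, mul_one]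
  have hinj : Function.Injective φ := by
    rw [← LinearMap.ker_eq_bot, Submodule.eq_bot_iff]
    intro x hx
    by_contra hx0
    obtain ⟨k, hk⟩ : ∃ k, x k ≠ 0 := by
      by_contra hcon
      push Not at hcon
      exact hx0 (funext hcon)
    have h3 : φ ((Matrix.single j k (1 : F)).mulVec x) = 0 := by
      rw [← hφM, LinearMap.mem_ker.mp hx, map_zero]
    rw [Matrix.single_mulVec_eq, one_mul, map_smul, hφj] at h3
    rcases smul_eq_zero.mp h3 with h4 | h4
    · exact hk h4
    · exact hj h4
  have hsurj : Function.Surjective φ := by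
    rw [← LinearMap.range_eq_top]
    rcases hsimple (LinearMap.range φ) (by
      rintro m _ ⟨x, rfl⟩
      exact ⟨m.mulVec x, (hφM m x).symm⟩) with h | h
    · exfalso
      apply hj
      have : w ∈ LinearMap.range φ := ⟨_, hφj⟩
      rw [h] at this
      exact (Submodule.mem_bot F).mp this
    · exact h
  let e' : (Fin d → F) ≃ₗ[F] V := LinearEquiv.ofBijective φ ⟨hinj, hsurj⟩
  refine ⟨e'.symm, ?_⟩
  intro m v
  obtain ⟨x, rfl⟩ := e'.surjective v
  have : σ m (e' x) = e' (m.mulVec x) := hφM m x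
  rw [this, LinearEquiv.symm_apply_apply, LinearEquiv.symm_apply_apply]

/-- A "simple" action of a product of matrix algebras factors through one factor. -/
theorem pi_factor [Nontrivial V] (l : ℕ) (d : Fin l → ℕ)
    (σ : (Π i : Fin l, Matrix (Fin (d i)) (Fin (d i)) F) →ₐ[F] Module.End F V)
    (hsimple : ∀ W : Submodule F V, (∀ b, ∀ w ∈ W, σ b w ∈ W) → W = ⊥ ∨ W = ⊤) :
    ∃ i, σ (Pi.single i 1) = 1 := by
  classical
  obtain ⟨v, hv⟩ := exists_ne (0 : V)
  have h1 : ∑ i : Fin l, σ (Pi.single i 1) v = v := by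
    have h2 : (∑ i : Fin l, (Pi.single i (1 : Matrix (Fin (d i)) (Fin (d i)) F) :
        Π i : Fin l, Matrix (Fin (d i)) (Fin (d i)) F)) = 1 := by
      exact Finset.univ_sum_single (1 : Π i : Fin l, Matrix (Fin (d i)) (Fin (d i)) F)
    rw [← LinearMap.sum_apply, ← map_sum, h2, map_one]
    rfl
  obtain ⟨i, hi⟩ : ∃ i, σ (Pi.single i 1) v ≠ 0 := by
    by_contra hcon
    push Not at hcon
    apply hv
    rw [← h1]
    exact Finset.sum_eq_zero (fun j _ => hcon j)
  refine ⟨i, ?_⟩
  have hcentral : ∀ b : (Π i : Fin l, Matrix (Fin (d i)) (Fin (d i)) F),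
      b * Pi.single i 1 = Pi.single i 1 * b := by
    intro b
    funext k
    by_cases hk : k = i
    · subst hk
      simp
    · simp [Pi.single_eq_of_ne hk]
  have hidem : (Pi.single i 1 : Π i : Fin l, Matrix (Fin (d i)) (Fin (d i)) F) * Pi.single i 1
      = Pi.single i 1 := by
    rw [← Pi.single_mul, mul_one]
  rcases hsimple (LinearMap.range (σ (Pi.single i 1))) (by
    rintro b _ ⟨x, rfl⟩
    refine ⟨σ b x, ?_⟩
    rw [← Module.End.mul_apply, ← map_mul, ← hcentral, map_mul]
    rfl) with h | h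
  · exfalso
    apply hi
    have : σ (Pi.single i 1) v ∈ LinearMap.range (σ (Pi.single i 1)) := ⟨v, rfl⟩
    rw [h] at this
    exact (Submodule.mem_bot F).mp this
  · ext x
    have hx : x ∈ LinearMap.range (σ (Pi.single i 1)) := by
      rw [h]
      exact Submodule.mem_top
    obtain ⟨y, rfl⟩ := hx
    rw [← Module.End.mul_apply, ← map_mul, hidem]
    rfl

end columns

section main

variable {F : Type u} [Field F] [IsAlgClosed F]

/-- WEDD -/
theorem exists_wedderburn (G : Type v) [Group G] [Finite G] :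
    ∃ (l : ℕ) (d : Fin l → ℕ) (_ : ∀ i, NeZero (d i))
      (π : MonoidAlgebra F G →ₐ[F] (Π i : Fin l, Matrix (Fin (d i)) (Fin (d i)) F)),
      Function.Surjective π ∧
      ∀ (V : Type w) [AddCommGroup V] [Module F V] (ρ : Representation F G V), ρ.IsIrreducible →
        ∃ i, ∃ e : V ≃ₗ[F] (Fin (d i) → F),
          ∀ g v, e (ρ g v) = (π (MonoidAlgebra.of F G g) i).mulVec (e v) := by
  classical
  have hfd : FiniteDimensional F (MonoidAlgebra F G) := by
    have := Fintype.ofFinite G
    infer_instance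
  have hart : IsArtinianRing (MonoidAlgebra F G) := IsArtinianRing.of_finite F (MonoidAlgebra F G)
  have hss : IsSemisimpleRing (MonoidAlgebra F G ⧸ Ring.jacobson (MonoidAlgebra F G)) :=
    inferInstance
  have hfd' : FiniteDimensional F (MonoidAlgebra F G ⧸ Ring.jacobson (MonoidAlgebra F G)) :=
    inferInstance
  obtain ⟨l, d, hd, ⟨e⟩⟩ := IsSemisimpleRing.exists_algEquiv_pi_matrix_of_isAlgClosed F
    (MonoidAlgebra F G ⧸ Ring.jacobson (MonoidAlgebra F G))
  let π : MonoidAlgebra F G →ₐ[F] (Π i : Fin l, Matrix (Fin (d i)) (Fin (d i)) F) :=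
    (e : (MonoidAlgebra F G ⧸ Ring.jacobson (MonoidAlgebra F G)) →ₐ[F] _).comp
      (Ideal.Quotient.mkₐ F (Ring.jacobson (MonoidAlgebra F G)))
  have hπ : Function.Surjective π := by
    intro b
    obtain ⟨a, ha⟩ := Ideal.Quotient.mk_surjective (e.symm b)
    refine ⟨a, ?_⟩
    show e (Ideal.Quotient.mk _ a) = b
    rw [ha, AlgEquiv.apply_symm_apply]
  refine ⟨l, d, hd, π, hπ, ?_⟩
  intro V _ _ ρ hirr
  -- `V` is a simple `F[G]`-module
  have : ρ.IsIrreducible := hirr
  have hsm : IsSimpleModule (MonoidAlgebra F G) ρ.asModule := inferInstance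
  have : Nontrivial V := by
    have : Nontrivial ρ.asModule := IsSimpleModule.nontrivial (MonoidAlgebra F G) ρ.asModule
    exact this
  -- the Jacobson radical acts as zero
  have hJ : ∀ a ∈ Ring.jacobson (MonoidAlgebra F G), ρ.asAlgebraHom a = 0 := by
    intro a ha
    have h1 := IsSemisimpleModule.jacobson_le_annihilator (MonoidAlgebra F G) ρ.asModule ha
    rw [Module.mem_annihilator] at h1
    ext x
    have h2 := h1 (ρ.asModuleEquiv.symm x)
    have h3 := congrArg ρ.asModuleEquiv h2
    rw [Representation.asModuleEquiv_map_smul, LinearEquiv.apply_symm_apply, map_zero] at h3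
    exact h3
  let σ₀ : (MonoidAlgebra F G ⧸ Ring.jacobson (MonoidAlgebra F G)) →ₐ[F] Module.End F V :=
    Ideal.Quotient.liftₐ (Ring.jacobson (MonoidAlgebra F G)) ρ.asAlgebraHom hJ
  let σ : (Π i : Fin l, Matrix (Fin (d i)) (Fin (d i)) F) →ₐ[F] Module.End F V :=
    σ₀.comp (e.symm : _ →ₐ[F] _)
  have hσπ : ∀ a, σ (π a) = ρ.asAlgebraHom a := by
    intro a
    show σ₀ (e.symm (e (Ideal.Quotient.mk _ a))) = _
    rw [AlgEquiv.symm_apply_apply]
    exact Ideal.Quotient.liftₐ_apply _ _ _ _
  have hσg : ∀ g, σ (π (MonoidAlgebra.of F G g)) = ρ g := by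
    intro g
    rw [hσπ, Representation.asAlgebraHom_of]
  -- simplicity in terms of `σ`
  have hsimple : ∀ W : Submodule F V, (∀ b, ∀ w ∈ W, σ b w ∈ W) → W = ⊥ ∨ W = ⊤ := by
    intro W hW
    let S : Subrepresentation ρ := ⟨W, fun g x hx => by
      have := hW (π (MonoidAlgebra.of F G g)) x hx
      rwa [hσg] at this⟩
    rcases eq_bot_or_eq_top S with h | h
    · left
      have := congrArg Subrepresentation.toSubmodule h
      exact this
    · right
      have := congrArg Subrepresentation.toSubmodule h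
      exact this
  obtain ⟨i, hi⟩ := pi_factor l d σ hsimple
  have hσb : ∀ b, σ b = σ (Pi.single i (b i)) := by
    intro b
    have h1 : b * Pi.single i 1 = Pi.single i (b i) := by
      funext k
      by_cases hk : k = i
      · subst hk
        simp
      · simp [Pi.single_eq_of_ne hk]
    rw [← h1, map_mul, hi, mul_one]
  let σi : Matrix (Fin (d i)) (Fin (d i)) F →ₗ[F] Module.End F V :=
    σ.toLinearMap ∘ₗ LinearMap.single F (fun i => Matrix (Fin (d i)) (Fin (d i)) F) i
  have hσi : ∀ m, σi m = σ (Pi.single i m) := fun _ => rfl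
  obtain ⟨e', he'⟩ := column_iso (d i) σi
    (by
      intro a b
      rw [hσi, hσi, hσi, Pi.single_mul, map_mul])
    (by rw [hσi, hi])
    (by
      intro W hW
      apply hsimple W
      intro b w hw
      rw [hσb b]
      exact hW (b i) w hw)
  refine ⟨i, e', ?_⟩
  intro g v
  rw [← he', hσi, ← hσb, hσg]

end main

end Cfsg.Agent.Lib.Helper12.DOMWEDD
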