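import Mathlib
import Cfsg.Prelude.Def_Characters
import Cfsg.Agent.Lib.Helper24.BSWDefs

/-! S3282 (helper12): basic consequences of `Hyp` used by the leaves B5-B9 (local copies of B3, B4). -/

set_option autoImplicit false
open Cfsg Cfsg.Agent.Lib.Helper24.BSW

namespace Cfsg.Agent.Lib.Helper12.BSWBase

variable {G : Type*} [Group G]

theorem s_sq {t s : G} {K : Subgroup G} (h : Hyp t s K) : s * s = 1 := by
  have := pow_orderOf_eq_one s
  rw [h.hs, pow_two] at this
  exact this

theorem s_inv {t s : G} {K : Subgroup G} (h : Hyp t s K) : s⁻¹ = s :=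
  inv_eq_of_mul_eq_one_right (s_sq h)

theorem K_comm {t s : G} {K : Subgroup G} (h : Hyp t s K) {x y : G} (hx : x ∈ K) (hy : y ∈ K) :
    x * y = y * x := by
  have h1 : (⟨x, hx⟩ : K) * ⟨y, hy⟩ = ⟨y, hy⟩ * ⟨x, hx⟩ := h.hKab.is_comm.comm _ _
  exact congrArg Subtype.val h1

/-- `C(t) = K ∪ K s` -/
theorem mem_cent_iff {t s : G} {K : Subgroup G} (h : Hyp t s K) (g : G) :
    g ∈ Subgroup.centralizer ({t} : Set G) ↔ g ∈ K ∨ ∃ x ∈ K, g = x * s := by
  rw [← h.hH]
  constructor
  · intro hg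
    -- the set `K ∪ K s` is a subgroup containing `K` and `s`
    let L : Subgroup G :=
      { carrier := {g | g ∈ K ∨ ∃ x ∈ K, g = x * s}
        one_mem' := Or.inl K.one_mem
        mul_mem' := by
          rintro a b (ha | ⟨x, hx, rfl⟩) (hb | ⟨y, hy, rfl⟩)
          · exact Or.inl (K.mul_mem ha hb)
          · exact Or.inr ⟨a * y, K.mul_mem ha hy, by group⟩
          · refine Or.inr ⟨x * b⁻¹, K.mul_mem hx (K.inv_mem hb), ?_⟩
            have h1 : s * b * s⁻¹ = b⁻¹ := h.hinv b hb
            calc x * s * b = x * (s * b * s⁻¹) * s := by group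
              _ = x * b⁻¹ * s := by rw [h1]
          · refine Or.inl ?_
            have h1 : s * y * s⁻¹ = y⁻¹ := h.hinv y hy
            have h2 : x * s * (y * s) = x * (s * y * s⁻¹) * (s * s) := by group
            rw [h2, h1, s_sq h, mul_one]
            exact K.mul_mem hx (K.inv_mem hy)
        inv_mem' := by
          rintro a (ha | ⟨x, hx, rfl⟩)
          · exact Or.inl (K.inv_mem ha)
          · refine Or.inr ⟨x, hx, ?_⟩
            have h1 : s * x * s⁻¹ = x⁻¹ := h.hinv x hx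
            have h2 : s * x⁻¹ * s⁻¹ = x := by
              have := h.hinv x⁻¹ (K.inv_mem hx)
              rwa [inv_inv] at this
            rw [mul_inv_rev, s_inv h]
            calc s * x⁻¹ = (s * x⁻¹ * s⁻¹) * s := by group
              _ = x * s := by rw [h2] }
    have hle : K ⊔ Subgroup.zpowers s ≤ L := by
      apply sup_le
      · intro x hx
        exact Or.inl hx
      · rw [Subgroup.zpowers_le]
        exact Or.inr ⟨1, K.one_mem, by simp⟩
    exact hle hg
  · rintro (hg | ⟨x, hx, rfl⟩)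
    · exact Subgroup.mem_sup_left hg
    · exact Subgroup.mul_mem _ (Subgroup.mem_sup_left hx)
        (Subgroup.mem_sup_right (Subgroup.mem_zpowers s))

/-- (B3, local copy) an element of `C(t)` lies in `K` or is an involution inverting `K`. -/
theorem mem_cent_cases' {t s : G} {K : Subgroup G} (h : Hyp t s K) :
    ∀ g ∈ Subgroup.centralizer ({t} : Set G),
      g ∈ K ∨ (g ∉ K ∧ orderOf g = 2 ∧ ∀ x ∈ K, g * x * g⁻¹ = x⁻¹) := by
  intro g hg
  rcases (mem_cent_iff h g).mp hg with hgK | ⟨x, hx, rfl⟩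
  · exact Or.inl hgK
  · right
    have hnK : x * s ∉ K := by
      intro hxs
      apply h.hsK
      have : s = x⁻¹ * (x * s) := by group
      rw [this]
      exact K.mul_mem (K.inv_mem hx) hxs
    have hsq : (x * s) * (x * s) = 1 := by
      have h1 : s * x * s⁻¹ = x⁻¹ := h.hinv x hx
      calc (x * s) * (x * s) = x * (s * x * s⁻¹) * (s * s) := by group
        _ = 1 := by rw [h1, s_sq h]; group
    refine ⟨hnK, ?_, ?_⟩
    · apply orderOf_eq_prime
      · rw [pow_two]; exact hsq
      · intro h1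
        exact hnK (h1 ▸ K.one_mem)
    · intro y hy
      have h1 : s * y * s⁻¹ = y⁻¹ := h.hinv y hy
      calc x * s * y * (x * s)⁻¹ = x * (s * y * s⁻¹) * x⁻¹ := by group
        _ = x * y⁻¹ * x⁻¹ := by rw [h1]
        _ = y⁻¹ * x * x⁻¹ := by rw [K_comm h hx (K.inv_mem hy)]
        _ = y⁻¹ := by group

/-- (B4, local copy) (T.I.) if `1 ≠ y ∈ K` and `g y g⁻¹ ∈ K` then `g ∈ C(t)`. -/
theorem conj_mem_cent' {t s : G} {K : Subgroup G} (h : Hyp t s K) :
    ∀ g : G, ∀ y ∈ K, y ≠ 1 → g * y * g⁻¹ ∈ K → g ∈ Subgroup.centralizer ({t} : Set G) := by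
  intro g y hy hy1 hgy
  by_contra hg
  have h1 := h.hTI g hg
  have h2 : g * y * g⁻¹ ∈ K ⊓ K.map (MulAut.conj g).toMonoidHom := by
    refine ⟨hgy, ⟨y, hy, ?_⟩⟩
    simp [MulAut.conj_apply]
  rw [h1, Subgroup.mem_bot] at h2
  apply hy1
  have : y = g⁻¹ * (g * y * g⁻¹) * g := by group
  rw [this, h2]
  group

theorem t_ne_one {t s : G} {K : Subgroup G} (h : Hyp t s K) : t ≠ 1 := by
  intro h1
  have := h.ht
  rw [h1, orderOf_one] at this
  omega

end Cfsg.Agent.Lib.Helper12.BSWBase
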