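import Mathlib
import Cfsg.Prelude.Def_Characters
import Cfsg.Agent.Lib.Helper24.BSWDefs
import Cfsg.Agent.Lib.Helper12.BSWBase

/-! S3282 leaf **B9** (helper12). -/

set_option autoImplicit false
open Cfsg Cfsg.Agent.Lib.Helper24.BSW

namespace Cfsg.Agent.Lib.Helper12.BSWB9

open Cfsg.Agent.Lib.Helper12.BSWBase

variable {G : Type*} [Group G] [Finite G]

/-- **B9** `[G : C(t)]` is odd. -/
theorem odd_index {t s : G} {K : Subgroup G} (h : Hyp t s K) :
    Odd (Subgroup.centralizer ({t} : Set G)).index := by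
  have : Fact (Nat.Prime 2) := ⟨Nat.prime_two⟩
  obtain ⟨T⟩ : Nonempty (Sylow 2 G) := inferInstance
  -- `T ≠ ⊥`
  have h2G : 2 ∣ Nat.card G := by
    rw [← h.ht]
    exact orderOf_dvd_natCard t
  have hTcard : Nat.card (T : Subgroup G) = 2 ^ (Nat.card G).factorization 2 := T.card_eq_multiplicity
  have hfac : (Nat.card G).factorization 2 ≠ 0 := by
    intro h0
    have := (Nat.factorization_eq_zero_iff (Nat.card G) 2).mp h0
    rcases this with h1 | h1 | h1
    · exact h1 Nat.prime_two
    · exact h1 h2G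
    · exact Nat.card_pos.ne' h1
  have hTnt : Nontrivial (T : Subgroup G) := by
    rw [← Finite.one_lt_card_iff_nontrivial, hTcard]
    exact Nat.one_lt_two_pow hfac
  -- an involution in the centre of `T`
  have hcnt : Nontrivial (Subgroup.center (T : Subgroup G)) := T.isPGroup'.center_nontrivial
  have h2c : 2 ∣ Nat.card (Subgroup.center (T : Subgroup G)) := by
    have hp : IsPGroup 2 (Subgroup.center (T : Subgroup G)) := T.isPGroup'.to_subgroup _
    obtain ⟨j, hj⟩ := hp.exists_card_eq
    have hj0 : j ≠ 0 := by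
      rintro rfl
      rw [pow_zero] at hj
      have := Finite.one_lt_card_iff_nontrivial.mpr hcnt
      omega
    rw [hj]
    exact dvd_pow_self 2 hj0
  obtain ⟨z, hz⟩ := exists_prime_orderOf_dvd_card' 2 h2c
  have hz2 : orderOf (((z : (T : Subgroup G)) : G)) = 2 := by
    rw [Subgroup.orderOf_coe, Subgroup.orderOf_coe]
    exact hz
  set z' : G := ((z : (T : Subgroup G)) : G) with hz'
  -- `T ≤ C(z')`
  have hTle : (T : Subgroup G) ≤ Subgroup.centralizer ({z'} : Set G) := by
    intro a ha
    rw [Subgroup.mem_centralizer_iff]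
    intro w hw
    rw [Set.mem_singleton_iff] at hw
    subst hw
    have := (Subgroup.mem_center_iff.mp z.2) ⟨a, ha⟩
    have h1 := congrArg Subtype.val this
    simpa using h1.symm
  obtain ⟨c, hc⟩ := isConj_iff.mp (h.hconj z' t hz2 h.ht)
  -- `c T c⁻¹ ≤ C(t)`
  have hle : (T : Subgroup G).map (MulAut.conj c).toMonoidHom ≤ Subgroup.centralizer ({t} : Set G) := by
    rintro _ ⟨a, ha, rfl⟩
    rw [Subgroup.mem_centralizer_iff]
    intro w hw
    rw [Set.mem_singleton_iff] at hw
    subst hw
    have h1 := Subgroup.mem_centralizer_iff.mp (hTle ha) z' rfl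
    show w * (c * a * c⁻¹) = c * a * c⁻¹ * w
    rw [← hc]
    calc c * z' * c⁻¹ * (c * a * c⁻¹) = c * (z' * a) * c⁻¹ := by group
      _ = c * (a * z') * c⁻¹ := by rw [h1]
      _ = c * a * c⁻¹ * (c * z' * c⁻¹) := by group
  have hdvd : 2 ^ (Nat.card G).factorization 2 ∣ Nat.card (Subgroup.centralizer ({t} : Set G)) := by
    rw [← hTcard]
    have h1 : Nat.card ((T : Subgroup G).map (MulAut.conj c).toMonoidHom) = Nat.card (T : Subgroup G) :=
      Subgroup.card_map_of_injective (MulAut.conj c).injective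
    rw [← h1]
    exact Subgroup.card_dvd_of_le hle
  rw [← Nat.not_even_iff_odd]
  intro hev
  have h2 : 2 ∣ (Subgroup.centralizer ({t} : Set G)).index := even_iff_two_dvd.mp hev
  have h3 : 2 ^ ((Nat.card G).factorization 2 + 1) ∣ Nat.card G := by
    have h4 := Nat.mul_dvd_mul hdvd h2
    rw [(Subgroup.centralizer ({t} : Set G)).card_mul_index] at h4
    rw [pow_succ]
    exact h4
  exact Nat.pow_succ_factorization_not_dvd Nat.card_pos.ne' Nat.prime_two h3

end Cfsg.Agent.Lib.Helper12.BSWB9
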