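import Mathlib
import Cfsg.Prelude.Def_ClassicalGeometry
import Cfsg.Prelude.Def_GeometricClasses
import Cfsg.Agent.Lib.Helper5.NDMax
import Cfsg.Agent.Lib.Helper25.OmegaNonMax
import Cfsg.Agent.Lib.Helper1.C3ODefs
import Cfsg.Agent.Lib.Helper1.C3OCalc

/-!
helper12, S5700 (helper1's market), leaf **C** (`eq_comb_of_line_invariant`, Lemma C), core form:
the hyperbolic-pair lemma G1 (`exists_hyp_perp_list`, landed separately by the lead) is a hypothesis.

If `J₁ a ∈ ⟨a, J a⟩` for every singular `a` then `J₁ ∈ F + F J`.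
-/

set_option autoImplicit false
set_option linter.unusedSectionVars false
set_option linter.unusedVariables false

namespace Cfsg.Agent.Lib.Helper12.C3OLeaf
open Module QuadraticMap Matrix Cfsg.Agent.Lib.Helper25.CD Cfsg.Agent.Lib.Helper25.Spin
  Cfsg.Agent.Lib.Helper25.Fam Cfsg.Agent.Lib.Helper25.Siegel
  Cfsg.Agent.Lib.Helper25.PS Cfsg.Agent.Lib.Helper25.OGeom Cfsg.Agent.Lib.Helper15
  Cfsg.Agent.Lib.Helper5.TSMax Cfsg.Agent.Lib.Helper5.NSMax Cfsg.Agent.Lib.Helper5.PairMax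
  Cfsg.Agent.Lib.Helper5.NDMax Cfsg.Agent.Lib.Helper1.C3O

variable {ι : Type} [Fintype ι] [DecidableEq ι] {F : Type*} [Field F] [Fintype F]
  {Q : QuadraticForm F (ι → F)}

/-- the statement of leaf G1 (hyperbolic pair orthogonal to a short list), as a proposition -/
def HypPerpList (Q : QuadraticForm F (ι → F)) : Prop :=
  ∀ l : List (ι → F), 2 * l.length + 3 ≤ Fintype.card ι →
    ∃ e f : ι → F, Q e = 0 ∧ Q f = 0 ∧ polar Q e f = 1 ∧ (∀ y ∈ l, polar Q y e = 0) ∧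
      (∀ y ∈ l, polar Q y f = 0)

/-- coefficient comparison along a totally singular pair `a, c` in general position -/
theorem coeff_eq_of_perp {t ν : F} {J : Matrix ι ι F} (hJ : CS Q t ν J)
    (J₁ : Matrix ι ι F) (h : ∀ a : ι → F, Q a = 0 → KL J a (J₁ *ᵥ a)) {a c : ι → F}
    (ha0 : a ≠ 0) (ha : Q a = 0) (hc : Q c = 0) (hac : polar Q a c = 0) (hnot : ¬ KL J a c)
    {s r s' r' : F} (e1 : J₁ *ᵥ a = s • a + r • (J *ᵥ a))
    (e2 : J₁ *ᵥ c = s' • c + r' • (J *ᵥ c)) : s = s' ∧ r = r' := by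
  have hs : Q (a + c) = 0 := by
    rw [Cfsg.Agent.Lib.Helper25.MaxTS.Q_add, ha, hc, hac]; simp
  obtain ⟨s'', r'', e3⟩ := h (a + c) hs
  have e4 : (s - s'') • a + (r - r'') • (J *ᵥ a) + (s' - s'') • c + (r' - r'') • (J *ᵥ c) = 0 := by
    have h1 : J₁ *ᵥ (a + c) = J₁ *ᵥ a + J₁ *ᵥ c := Matrix.mulVec_add _ _ _
    rw [e3, e1, e2, Matrix.mulVec_add] at h1
    have h2 : (s - s'') • a + (r - r'') • (J *ᵥ a) + (s' - s'') • c + (r' - r'') • (J *ᵥ c) =
        (s • a + r • (J *ᵥ a) + (s' • c + r' • (J *ᵥ c))) -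
          (s'' • (a + c) + r'' • (J *ᵥ a + J *ᵥ c)) := by module
    rw [h2, h1, sub_self]
  obtain ⟨h1, h2, h3, h4⟩ := hJ.comb4_eq_zero ha0 hnot e4
  exact ⟨by linear_combination h1 - h3, by linear_combination h2 - h4⟩

/-- a vector `e` having a partner `f` with `B(e,f) = 1`, `f ⊥ a, J a`, is not on the `F[J]`-line of `a` -/
theorem not_KL_of_partner {J : Matrix ι ι F} {a e f : ι → F} (hef : polar Q e f = 1)
    (h1 : polar Q a f = 0) (h2 : polar Q (J *ᵥ a) f = 0) : ¬ KL J a e := by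
  rintro ⟨s, r, rfl⟩
  rw [polar_add_left, polar_smul_left, polar_smul_left, h1, h2] at hef
  simp at hef

/-- **Lemma C**, core form (G1 as a hypothesis) -/
theorem eq_comb_of_line_invariant_core (hQ : (polarBilin Q).Nondegenerate)
    (hn : 13 ≤ Fintype.card ι) (G1 : HypPerpList Q) {t ν : F} {J : Matrix ι ι F}
    (hJ : CS Q t ν J) (J₁ : Matrix ι ι F) (h : ∀ a : ι → F, Q a = 0 → KL J a (J₁ *ᵥ a)) :
    ∃ s r : F, J₁ = s • (1 : Matrix ι ι F) + r • J := by
  -- any two nonzero singular vectors have the same coefficients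
  have key : ∀ a b : ι → F, a ≠ 0 → Q a = 0 → b ≠ 0 → Q b = 0 → ∀ s r s' r' : F,
      J₁ *ᵥ a = s • a + r • (J *ᵥ a) → J₁ *ᵥ b = s' • b + r' • (J *ᵥ b) → s = s' ∧ r = r' := by
    intro a b ha0 ha hb0 hb s r s' r' e1 e2
    obtain ⟨e, f, hQe, hQf, hef, hle, hlf⟩ := G1 [a, J *ᵥ a, b, J *ᵥ b] (by simp; omega)
    have he0 : e ≠ 0 := by
      rintro rfl
      simp at hef
    obtain ⟨s'', r'', e3⟩ := h e hQe
    have hae : polar Q a e = 0 := hle a (by simp)
    have hbe : polar Q b e = 0 := hle b (by simp)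
    have hna : ¬ KL J a e :=
      not_KL_of_partner hef (hlf a (by simp)) (hlf (J *ᵥ a) (by simp))
    have hnb : ¬ KL J b e :=
      not_KL_of_partner hef (hlf b (by simp)) (hlf (J *ᵥ b) (by simp))
    obtain ⟨h1, h2⟩ := coeff_eq_of_perp hJ J₁ h ha0 ha hQe hae hna e1 e3
    obtain ⟨h3, h4⟩ := coeff_eq_of_perp hJ J₁ h hb0 hb hQe hbe hnb e2 e3
    exact ⟨h1.trans h3.symm, h2.trans h4.symm⟩
  -- a base vector
  obtain ⟨e, f, hQe, hQf, hef, -, -⟩ := G1 [] (by simp; omega)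
  have he0 : e ≠ 0 := by
    rintro rfl
    simp at hef
  obtain ⟨s, r, e0⟩ := h e hQe
  refine ⟨s, r, ?_⟩
  have hall : ∀ x : ι → F, Q x = 0 → J₁ *ᵥ x = s • x + r • (J *ᵥ x) := by
    intro x hx
    by_cases hx0 : x = 0
    · subst hx0; simp
    obtain ⟨s', r', e1⟩ := h x hx
    obtain ⟨h1, h2⟩ := key e x he0 hQe hx0 hx s r s' r' e0 e1
    rw [e1, h1, h2]
  apply Matrix.toLin'.injective
  have hspan : Submodule.span F {x : ι → F | Q x = 0} = ⊤ :=
    span_singular_eq_top Q hQ (by rw [Module.finrank_fintype_fun_eq_card]; omega)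
  apply LinearMap.ext_on hspan
  intro x hx
  rw [Matrix.toLin'_apply, Matrix.toLin'_apply, hall x hx, Matrix.add_mulVec, Matrix.smul_mulVec,
    Matrix.smul_mulVec, Matrix.one_mulVec]

end Cfsg.Agent.Lib.Helper12.C3OLeaf
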