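import Mathlib
import Cfsg.Prelude.Def_ClassicalGeometry
import Cfsg.Prelude.Def_GeometricClasses
import Cfsg.Agent.Lib.Helper5.NDMax
import Cfsg.Agent.Lib.Helper25.OmegaNonMax
import Cfsg.Agent.Lib.Helper1.C3ODefs
import Cfsg.Agent.Lib.Helper1.C3OCalc
import Cfsg.Agent.Lib.Helper12.C3OC

/-!
helper12, S5700 (helper1's market), leaf **GS** (`good_spread`), core form: the leaves G1
(`exists_hyp_perp_list`), SC (`spread_calc`) and CG (`core_good`), landed by other seats, are hypotheses.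

`u` Good, `v` singular with `B(u,v) ≠ 0`  ⟹  `v` Good.
-/

set_option autoImplicit false
set_option linter.unusedSectionVars false
set_option linter.unusedVariables false

namespace Cfsg.Agent.Lib.Helper12.C3OLeaf
open Module QuadraticMap Matrix Cfsg.Agent.Lib.Helper25.CD Cfsg.Agent.Lib.Helper25.Spin
  Cfsg.Agent.Lib.Helper25.Fam Cfsg.Agent.Lib.Helper25.Siegel
  Cfsg.Agent.Lib.Helper25.PS Cfsg.Agent.Lib.Helper25.OGeom Cfsg.Agent.Lib.Helper15
  Cfsg.Agent.Lib.Helper5.TSMax Cfsg.Agent.Lib.Helper5.NSMax Cfsg.Agent.Lib.Helper5.PairMax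
  Cfsg.Agent.Lib.Helper5.NDMax Cfsg.Agent.Lib.Helper1.C3O

variable {ι : Type} [Fintype ι] [DecidableEq ι] {F : Type*} [Field F] [Fintype F]
  {Q : QuadraticForm F (ι → F)}

/-- **GS**, core form (G1, SC, CG as hypotheses) -/
theorem good_spread_core (hn : 13 ≤ Fintype.card ι) (G1 : HypPerpList Q) {t ν : F}
    {J : Matrix ι ι F} (hJ : CS Q t ν J) {M : Subgroup ↥(Cfsg.isometryGroup F ⇑Q)}
    (SC : ∀ {u v y : ι → F}, Q u = 0 → Q y = 0 → y ≠ 0 → polar Q u v ≠ 0 → polar Q y u = 0 →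
      polar Q y (J *ᵥ u) = 0 → polar Q y v = 0 → polar Q y (J *ᵥ v) = 0 →
      ∀ m : ↥(Cfsg.isometryGroup F ⇑Q), (∀ x, toOG Q m x = siegF Q u y 1 x) →
        ¬ KL J v (cj Q m J *ᵥ v))
    (CG : ∀ {J' : Matrix ι ι F}, CS Q t ν J' → Adm Q M J' → ∀ {u : ι → F} (hu0 : u ≠ 0)
      (hu : Q u = 0), ¬ KL J u (J' *ᵥ u) → Good Q M (mk' Q u hu0 hu))
    (hA : Adm Q M J) {u v : ι → F} (hu0 : u ≠ 0) (hu : Q u = 0) (hv0 : v ≠ 0) (hv : Q v = 0)
    (hG : Good Q M (mk' Q u hu0 hu)) (hb : polar Q u v ≠ 0) : Good Q M (mk' Q v hv0 hv) := by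
  obtain ⟨y, f, hQy, hQf, hyf, hly, -⟩ := G1 [u, J *ᵥ u, v, J *ᵥ v] (by simp; omega)
  have hy0 : y ≠ 0 := by
    rintro rfl
    simp at hyf
  have huy : polar Q u y = 0 := hly u (by simp)
  have hJuy : polar Q (J *ᵥ u) y = 0 := hly (J *ᵥ u) (by simp)
  have hvy : polar Q v y = 0 := hly v (by simp)
  have hJvy : polar Q (J *ᵥ v) y = 0 := hly (J *ᵥ v) (by simp)
  have hm : siegG Q u y 1 hu hQy huy ∈ M := hG (siegG_mem_X Q hu0 hu y 1 hQy huy)
  have hnot := SC hu hQy hy0 hb (by rw [polar_comm]; exact huy) (by rw [polar_comm]; exact hJuy)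
    (by rw [polar_comm]; exact hvy) (by rw [polar_comm]; exact hJvy)
    (siegG Q u y 1 hu hQy huy) (fun x => toOG_siegG Q u y 1 hu hQy huy x)
  exact CG (hJ.cj _) (hA.cj hm) hv0 hv hnot

end Cfsg.Agent.Lib.Helper12.C3OLeaf
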