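import Mathlib
import Cfsg.Prelude.Def_FischerSpaces
import Cfsg.Agent.Lib.Helper12.WidthOne
import Cfsg.Agent.Lib.Helper12.Cores
import Cfsg.Agent.Lib.Helper1.Fitting
import Cfsg.Agent.Lib.Helper2.ZStarOddP

/-!
Helper lemmas (helper12): the `θ`-relation on a normal set `D` of `3`-transpositions
(`x θ y` when `x` and `y` have the same commuting partners in `D`).  Fischer's theorem: the
`θ`-class of `d` is the `O_3(G)`-orbit of `d`, and equals `D ∩ d O_3(G)`.

Route: for `x θ y` the element `x y` fixes every `θ`-class (an `S_4` computation); hence in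
`N ⟨x⟩`, `N = ⟨x y : x θ y⟩`, the class of `x` lies in its `θ`-class, all products of two conjugates
have order `1` or `3`, and the `Z*`-type theorem of helper2 (`ZStarOddP`, built on the width-one
lemma and Glauberman's `Z*`-theorem) puts `x y` in `O_3(N ⟨x⟩)`.  So `N` is a normal `3`-subgroup.
-/

set_option autoImplicit false
set_option linter.unusedSectionVars false
set_option linter.unusedVariables false
set_option linter.dupNamespace false
set_option linter.style.haveILetI false
set_option linter.deprecated false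

open Subgroup

namespace Cfsg.Agent.Lib.Helper12.Theta

universe u

variable {G : Type u} [Group G]

/-- a normal set of `3`-transpositions -/
structure TT (D : Set G) : Prop where
  ord : ∀ d ∈ D, orderOf d = 2
  h23 : ∀ d ∈ D, ∀ e ∈ D, (d * e) ^ 2 = 1 ∨ (d * e) ^ 3 = 1
  conj : ∀ g : G, ∀ d ∈ D, g * d * g⁻¹ ∈ D

/-- the commuting partners of `x` in `D` -/
def partners (D : Set G) (x : G) : Set G := {y | y ∈ D ∧ y ≠ x ∧ Commute x y}

/-- `x θ y`: the same commuting partners -/
def Theta (D : Set G) (x y : G) : Prop := partners D x = partners D y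

variable {D : Set G}

theorem TT.sq (h : TT D) {x : G} (hx : x ∈ D) : x * x = 1 :=
  Cfsg.Agent.Lib.Helper12.mul_self_of_orderOf_two (h.ord x hx)

theorem TT.inv (h : TT D) {x : G} (hx : x ∈ D) : x⁻¹ = x :=
  inv_eq_of_mul_eq_one_left (h.sq hx)

theorem TT.cube (h : TT D) {x y : G} (hx : x ∈ D) (hy : y ∈ D) (hnc : ¬ Commute x y) :
    (x * y) ^ 3 = 1 :=
  (h.h23 x hx y hy).resolve_left
    (fun h2 => hnc (Cfsg.Agent.Lib.Helper12.commute_of_mul_sq (h.sq hx) (h.sq hy) h2))

theorem TT.braid (h : TT D) {x y : G} (hx : x ∈ D) (hy : y ∈ D) (hnc : ¬ Commute x y) :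
    x * y * x = y * x * y := by
  have h3 := h.cube hx hy hnc
  have h1 : x * y * (x * y) * (x * y) = 1 := by
    rw [← h3]; simp [pow_succ]
  calc x * y * x = (x * y * (x * y) * (x * y)) * y⁻¹ * x⁻¹ * y⁻¹ := by group
    _ = y * x * y := by rw [h1, one_mul, h.inv hx, h.inv hy]

theorem mem_partners_conj (h : TT D) (g x y : G) :
    g * y * g⁻¹ ∈ partners D (g * x * g⁻¹) ↔ y ∈ partners D x := by
  unfold partners
  simp only [Set.mem_setOf_eq]
  constructor
  · rintro ⟨h1, h2, h3⟩
    refine ⟨?_, ?_, ?_⟩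
    · have := h.conj g⁻¹ _ h1
      have e : g⁻¹ * (g * y * g⁻¹) * g⁻¹⁻¹ = y := by group
      rwa [e] at this
    · intro hyx; exact h2 (by rw [hyx])
    · exact (Commute.conj_iff g).mp h3
  · rintro ⟨h1, h2, h3⟩
    refine ⟨h.conj g y h1, ?_, (Commute.conj_iff g).mpr h3⟩
    intro hyx
    apply h2
    have : g⁻¹ * (g * y * g⁻¹) * g = g⁻¹ * (g * x * g⁻¹) * g := by rw [hyx]
    calc y = g⁻¹ * (g * y * g⁻¹) * g := by group
      _ = g⁻¹ * (g * x * g⁻¹) * g := this
      _ = x := by group

theorem mem_partners_conj' (h : TT D) (g x z : G) :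
    z ∈ partners D (g * x * g⁻¹) ↔ g⁻¹ * z * g ∈ partners D x := by
  have := mem_partners_conj h g x (g⁻¹ * z * g)
  have e : g * (g⁻¹ * z * g) * g⁻¹ = z := by group
  rwa [e] at this

theorem Theta.refl (x : G) : Theta D x x := rfl

theorem Theta.symm {x y : G} (h : Theta D x y) : Theta D y x := Eq.symm h

theorem Theta.trans {x y z : G} (h1 : Theta D x y) (h2 : Theta D y z) : Theta D x z :=
  Eq.trans h1 h2

theorem Theta.conj (h : TT D) (g : G) {x y : G} (hxy : Theta D x y) :
    Theta D (g * x * g⁻¹) (g * y * g⁻¹) := by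
  unfold Theta
  ext z
  rw [mem_partners_conj' h, mem_partners_conj' h, hxy]

theorem Theta.not_commute {x y : G} (hxy : Theta D x y) (hy : y ∈ D) (hne : x ≠ y) :
    ¬ Commute x y := by
  intro hc
  have h1 : y ∈ partners D x := ⟨hy, Ne.symm hne, hc⟩
  rw [hxy] at h1
  exact h1.2.1 rfl

/-- if `r` commutes with `v` then conjugation by `r` preserves the partners of `v` -/
theorem conj_mem_partners_of_commute (h : TT D) {r v e : G} (hr : Commute r v)
    (he : e ∈ partners D v) : r * e * r⁻¹ ∈ partners D v := by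
  have h1 := (mem_partners_conj h r v e).mpr he
  have h2 : r * v * r⁻¹ = v := by rw [hr.eq, mul_inv_cancel_right]
  rwa [h2] at h1

/-- **Key lemma**: for `x θ y` the element `x y` maps the partners of any `v ∈ D` into
themselves. -/
theorem conj_mem_partners (h : TT D) {x y v e : G} (hx : x ∈ D) (hy : y ∈ D)
    (hxy : Theta D x y) (hne : x ≠ y) (hv : v ∈ D) (he : e ∈ partners D v) :
    (x * y) * e * (x * y)⁻¹ ∈ partners D v := by
  obtain ⟨heD, hev, hcve⟩ := he
  have hxx := h.sq hx
  have hyy := h.sq hy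
  have hee := h.sq heD
  have hvv := h.sq hv
  have hxi := h.inv hx
  have hyi := h.inv hy
  have hei := h.inv heD
  by_cases hxe : Commute x e
  · by_cases hex : e = x
    · -- `e = x`: then `v` is a partner of `x`, hence of `y`
      have hvx : v ∈ partners D x := ⟨hv, fun h' => hev (by rw [hex, h']), by rw [← hex]; exact hcve.symm⟩
      have hvy : v ∈ partners D y := by rw [← hxy]; exact hvx
      exact conj_mem_partners_of_commute h (hvx.2.2.mul_left hvy.2.2) ⟨heD, hev, hcve⟩
    · have hex' : e ∈ partners D x := ⟨heD, hex, hxe⟩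
      have hey : e ∈ partners D y := by rw [← hxy]; exact hex'
      have hr : (x * y) * e * (x * y)⁻¹ = e := by
        rw [(hxe.mul_left hey.2.2).eq, mul_inv_cancel_right]
      rw [hr]; exact ⟨heD, hev, hcve⟩
  · by_cases hxv : Commute x v
    · have hvne : v ≠ x := fun h' => hxe (by rw [← h']; exact hcve)
      have hvx : v ∈ partners D x := ⟨hv, hvne, hxv⟩
      have hvy : v ∈ partners D y := by rw [← hxy]; exact hvx
      exact conj_mem_partners_of_commute h (hxv.mul_left hvy.2.2) ⟨heD, hev, hcve⟩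
    · -- main case: `x`, `y` commute with neither `v` nor `e`
      have hvy : v ≠ y := by
        intro h'
        have h1 : e ∈ partners D y := by rw [← h']; exact ⟨heD, hev, hcve⟩
        rw [← hxy] at h1
        exact hxe h1.2.2
      have hyv : ¬ Commute y v := by
        intro hc
        have h1 : v ∈ partners D y := ⟨hv, hvy, hc⟩
        rw [← hxy] at h1
        exact hxv h1.2.2
      have hey : e ≠ y := by
        intro h'
        apply hyv
        rw [← h']; exact hcve.symm
      have hye : ¬ Commute y e := by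
        intro hc
        have h1 : e ∈ partners D y := ⟨heD, hey, hc⟩
        rw [← hxy] at h1
        exact hxe h1.2.2
      have hbx : x * e * x = e * x * e := h.braid hx heD hxe
      have hby : y * e * y = e * y * e := h.braid hy heD hye
      have heve : e * v * e = v := by
        calc e * v * e = v * e * e := by rw [hcve.eq]
          _ = v := by rw [mul_assoc, hee, mul_one]
      -- the fourth transposition `f`
      set f : G := e * x * v * x * e with hf
      have hfD : f ∈ D := by
        have h1 := h.conj (e * x) v hv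
        have e1 : e * x * v * (e * x)⁻¹ = f := by
          rw [hf, mul_inv_rev, hxi, hei]; group
        rwa [e1] at h1
      have hxfx : x * f * x = f := by
        calc x * f * x = (x * e * x) * v * (x * e * x) := by rw [hf]; group
          _ = (e * x * e) * v * (e * x * e) := by rw [hbx]
          _ = e * x * (e * v * e) * x * e := by group
          _ = f := by rw [heve]
      have hfx : Commute x f := by
        show x * f = f * x
        calc x * f = x * f * (x * x) := by rw [hxx, mul_one]
          _ = (x * f * x) * x := by group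
          _ = f * x := by rw [hxfx]
      have hfne : f ≠ x := by
        intro h'
        apply hev
        -- `v = (x e) f (e x) = x e x e x = e`
        have h1 : v = x * e * f * e * x := by
          rw [hf]
          calc v = x * (e * e) * x * v * x * (e * e) * x := by
                rw [hee, mul_one, mul_one, hxx, one_mul, mul_assoc, hxx, mul_one]
            _ = x * e * (e * x * v * x * e) * e * x := by group
        rw [h'] at h1
        calc e = (e * x * e) * (e * x) := by
              calc e = e * x * (e * e) * x := by rw [hee, mul_one, mul_assoc, hxx, mul_one]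
                _ = (e * x * e) * (e * x) := by group
          _ = (x * e * x) * (e * x) := by rw [hbx]
          _ = x * e * x * e * x := by group
          _ = v := h1.symm
      have hfy : Commute y f := by
        have h1 : f ∈ partners D x := ⟨hfD, hfne, hfx⟩
        rw [hxy] at h1
        exact h1.2.2
      -- conjugate by `e`
      have h2 : Commute (e * y * e⁻¹) (e * f * e⁻¹) := (Commute.conj_iff e).mpr hfy
      have e2 : e * f * e⁻¹ = x * v * x := by
        rw [hf, hei]
        calc e * (e * x * v * x * e) * e = (e * e) * x * v * x * (e * e) := by group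
          _ = x * v * x := by rw [hee, one_mul, mul_one]
      have e3 : e * y * e⁻¹ = y * e * y := by rw [hei, hby]
      rw [e2, e3] at h2
      -- conjugate by `x`
      have h3 : Commute (x * (y * e * y) * x⁻¹) (x * (x * v * x) * x⁻¹) := (Commute.conj_iff x).mpr h2
      have e4 : x * (x * v * x) * x⁻¹ = v := by
        calc x * (x * v * x) * x⁻¹ = (x * x) * v * (x * x⁻¹) := by group
          _ = v := by rw [hxx, one_mul, mul_inv_cancel, mul_one]
      have e5 : x * (y * e * y) * x⁻¹ = (x * y) * e * (x * y)⁻¹ := by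
        rw [mul_inv_rev, hyi]; group
      rw [e4, e5] at h3
      refine ⟨?_, ?_, h3.symm⟩
      · exact h.conj (x * y) e heD
      · intro h'
        -- then `y e y = x v x` and `f = y`
        have h4 : y * e * y = x * v * x := by
          have h5 : x * (y * e * y) * x⁻¹ = v := by rw [e5]; exact h'
          calc y * e * y = x⁻¹ * (x * (y * e * y) * x⁻¹) * x := by group
            _ = x⁻¹ * v * x := by rw [h5]
            _ = x * v * x := by rw [hxi]
        have h6 : f = y := by
          calc f = e * (x * v * x) * e := by rw [hf]; group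
            _ = e * (y * e * y) * e := by rw [h4]
            _ = e * (e * y * e) * e := by rw [hby]
            _ = (e * e) * y * (e * e) := by group
            _ = y := by rw [hee, one_mul, mul_one]
        rw [h6] at hfx
        exact hxy.not_commute hy hne hfx

/-- for `a θ b` the element `a b` fixes the `θ`-class of every `v ∈ D` -/
theorem theta_conj_mul (h : TT D) {a b v : G} (ha : a ∈ D) (hb : b ∈ D) (hab : Theta D a b)
    (hv : v ∈ D) : Theta D ((a * b) * v * (a * b)⁻¹) v := by
  by_cases hne : a = b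
  · rw [← hne, h.sq ha]; simp; exact Theta.refl v
  · unfold Theta
    ext z
    constructor
    · intro hz
      have h1 := (mem_partners_conj' h (a * b) v z).mp hz
      have h2 := conj_mem_partners h ha hb hab hne hv h1
      have e : a * b * ((a * b)⁻¹ * z * (a * b)) * (a * b)⁻¹ = z := by group
      rwa [e] at h2
    · intro hz
      rw [mem_partners_conj' h]
      have h2 := conj_mem_partners h hb ha hab.symm (Ne.symm hne) hv hz
      have e : (b * a) * z * (b * a)⁻¹ = (a * b)⁻¹ * z * (a * b) := by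
        rw [mul_inv_rev, mul_inv_rev, h.inv ha, h.inv hb]
      rwa [e] at h2

/-- the stabilizer of the `θ`-class of `x` -/
def thetaStab (h : TT D) (x : G) : Subgroup G where
  carrier := {g | Theta D (g * x * g⁻¹) x}
  one_mem' := by simp [Theta.refl]
  mul_mem' := by
    intro a b ha hb
    have h1 : Theta D (a * (b * x * b⁻¹) * a⁻¹) (a * x * a⁻¹) := Theta.conj h a hb
    have e : a * b * x * (a * b)⁻¹ = a * (b * x * b⁻¹) * a⁻¹ := by group
    show Theta D (a * b * x * (a * b)⁻¹) x
    rw [e]
    exact h1.trans ha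
  inv_mem' := by
    intro a ha
    have h1 : Theta D (a⁻¹ * (a * x * a⁻¹) * a⁻¹⁻¹) (a⁻¹ * x * a⁻¹⁻¹) := Theta.conj h a⁻¹ ha
    have e : a⁻¹ * (a * x * a⁻¹) * a⁻¹⁻¹ = x := by group
    rw [e] at h1
    exact h1.symm

theorem mem_thetaStab (h : TT D) {x g : G} : g ∈ thetaStab h x ↔ Theta D (g * x * g⁻¹) x := Iff.rfl

/-- the generating set of the `θ`-kernel -/
def thetaSet (D : Set G) : Set G := {t | ∃ x ∈ D, ∃ y ∈ D, Theta D x y ∧ t = x * y}

/-- the subgroup generated by the products `x y`, `x θ y` -/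
def thetaKer (D : Set G) : Subgroup G := closure (thetaSet D)

theorem thetaKer_normal (h : TT D) : (thetaKer D).Normal := by
  refine ⟨fun n hn g => ?_⟩
  have h1 : (MulAut.conj g).toMonoidHom n ∈ (thetaKer D).map (MulAut.conj g).toMonoidHom :=
    Subgroup.mem_map_of_mem _ hn
  unfold thetaKer at h1
  rw [MonoidHom.map_closure] at h1
  have h2 : (MulAut.conj g).toMonoidHom '' thetaSet D ⊆ thetaSet D := by
    rintro _ ⟨t, ⟨x, hx, y, hy, hxy, rfl⟩, rfl⟩
    refine ⟨g * x * g⁻¹, h.conj g x hx, g * y * g⁻¹, h.conj g y hy, hxy.conj h g, ?_⟩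
    simp only [MulEquiv.coe_toMonoidHom, MulAut.conj_apply]
    group
  have h3 := Subgroup.closure_mono h2 h1
  show g * n * g⁻¹ ∈ closure (thetaSet D)
  simpa [MulAut.conj_apply] using h3

theorem thetaKer_le_thetaStab (h : TT D) {x : G} (hx : x ∈ D) : thetaKer D ≤ thetaStab h x := by
  unfold thetaKer
  rw [closure_le]
  rintro t ⟨a, ha, b, hb, hab, rfl⟩
  exact theta_conj_mul h ha hb hab hx

theorem sup_le_thetaStab (h : TT D) {x : G} (hx : x ∈ D) :
    thetaKer D ⊔ zpowers x ≤ thetaStab h x := by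
  refine sup_le (thetaKer_le_thetaStab h hx) ?_
  rw [zpowers_le]
  show Theta D (x * x * x⁻¹) x
  rw [mul_inv_cancel_right]
  exact Theta.refl x

/-- products of `θ`-equivalent members have order `1` or `3` -/
theorem orderOf_mul_of_theta (h : TT D) {a b : G} (ha : a ∈ D) (hb : b ∈ D) (hab : Theta D a b) :
    ∃ k : ℕ, orderOf (a * b) = 3 ^ k := by
  by_cases hne : a = b
  · refine ⟨0, ?_⟩
    rw [← hne, h.sq ha, orderOf_one, pow_zero]
  · refine ⟨1, ?_⟩
    rw [pow_one]
    have h3 := h.cube ha hb (hab.not_commute hb hne)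
    have hab1 : a * b ≠ 1 := by
      intro h1
      apply hne
      calc a = a * b * b⁻¹ := by group
        _ = b := by rw [h1, one_mul, h.inv hb]
    haveI : Fact (Nat.Prime 3) := ⟨Nat.prime_three⟩
    exact orderOf_eq_prime h3 hab1

variable [Finite G]

/-- for `x θ y` the product `x y` lies in `O_3(N ⟨x⟩)`, `N` the `θ`-kernel -/
theorem mul_mem_pCore_sup (h : TT D) {x y : G} (hx : x ∈ D) (hy : y ∈ D) (hxy : Theta D x y) :
    x * y ∈ (Cfsg.pCore 3 ↥(thetaKer D ⊔ zpowers x)).map (thetaKer D ⊔ zpowers x).subtype := by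
  haveI : Fact (Nat.Prime 3) := ⟨Nat.prime_three⟩
  set M : Subgroup G := thetaKer D ⊔ zpowers x with hM
  have hxM : x ∈ M := (le_sup_right : zpowers x ≤ M) (mem_zpowers x)
  have hNM : thetaKer D ≤ M := le_sup_left
  set xm : ↥M := ⟨x, hxM⟩ with hxm
  have hord : orderOf xm = 2 := by
    rw [← h.ord x hx]
    exact (Subgroup.orderOf_mk x hxM)
  -- the class of `xm` lies in the `θ`-class of `x`
  have hcl : ∀ a ∈ conjugatesOf xm, (a : G) ∈ D ∧ Theta D (a : G) x := by
    intro a ha
    obtain ⟨m, hm⟩ := isConj_iff.mp (show IsConj xm a from ha)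
    have e : (a : G) = (m : G) * x * (m : G)⁻¹ := by
      rw [← hm]; simp [hxm]
    rw [e]
    exact ⟨h.conj _ x hx, (mem_thetaStab h).mp (sup_le_thetaStab h hx m.2)⟩
  have hprod : ∀ a ∈ conjugatesOf xm, ∀ b ∈ conjugatesOf xm, ∃ k : ℕ, orderOf (a * b) = 3 ^ k := by
    intro a ha b hb
    obtain ⟨haD, hax⟩ := hcl a ha
    obtain ⟨hbD, hbx⟩ := hcl b hb
    obtain ⟨k, hk⟩ := orderOf_mul_of_theta h haD hbD (hax.trans hbx.symm)
    refine ⟨k, ?_⟩
    rw [← hk, ← Subgroup.orderOf_coe (a * b)]
    rfl
  have hmain := Cfsg.Agent.Lib.Helper2.ZStarOddP.mul_mem_pCore (p := 3) (by norm_num) hord hprod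
  -- `y` is conjugate to `x` in `M`
  have hxyM : x * y ∈ M := by
    apply hNM
    exact subset_closure ⟨x, hx, y, hy, hxy, rfl⟩
  have hyM : y ∈ M := by
    have : y = x⁻¹ * (x * y) := by group
    rw [this]; exact M.mul_mem (M.inv_mem hxM) hxyM
  set ym : ↥M := ⟨y, hyM⟩ with hym
  have hyc : ym ∈ conjugatesOf xm := by
    by_cases hne : x = y
    · have : ym = xm := by apply Subtype.ext; simp [hym, hxm, hne]
      rw [this]; exact mem_conjugatesOf_self
    · have h3 := h.cube hx hy (hxy.not_commute hy hne)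
      have hc := Cfsg.Agent.Lib.Helper12.conj_eq_of_mul_cube (h.sq hx) (h.sq hy) h3
      show IsConj xm ym
      rw [isConj_iff]
      refine ⟨⟨x * y, hxyM⟩, ?_⟩
      apply Subtype.ext
      simp only [hxm, hym, Subgroup.coe_mul, Subgroup.coe_inv]
      exact hc
  have hfin := hmain xm mem_conjugatesOf_self ym hyc
  exact ⟨xm * ym, hfin, by simp [hxm, hym]⟩

/-- the `θ`-kernel is a `3`-group -/
theorem thetaKer_isPGroup (h : TT D) : IsPGroup 3 ↥(thetaKer D) := by
  haveI : Fact (Nat.Prime 3) := ⟨Nat.prime_three⟩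
  set N : Subgroup G := thetaKer D with hN
  set Q : Subgroup G := (Cfsg.pCore 3 ↥N).map N.subtype with hQ
  have hQp : IsPGroup 3 ↥Q := (Cfsg.Agent.Lib.Helper12.pCore_isPGroup' 3).map _
  have hTQ : thetaSet D ⊆ (Q : Set G) := by
    rintro t ⟨x, hx, y, hy, hxy, rfl⟩
    set M : Subgroup G := N ⊔ zpowers x with hM
    have hNM : N ≤ M := le_sup_left
    set R : Subgroup G := (Cfsg.pCore 3 ↥M).map M.subtype with hR
    have hRp : IsPGroup 3 ↥R := (Cfsg.Agent.Lib.Helper12.pCore_isPGroup' 3).map _
    have htR : x * y ∈ R := mul_mem_pCore_sup h hx hy hxy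
    have htN : x * y ∈ N := subset_closure ⟨x, hx, y, hy, hxy, rfl⟩
    -- `R` is normalized by `M`
    have hRn : ∀ m ∈ M, ∀ r ∈ R, m * r * m⁻¹ ∈ R := by
      rintro m hm _ ⟨r, hr, rfl⟩
      have hn : (Cfsg.pCore 3 ↥M).Normal := Cfsg.Agent.Lib.Helper1.pCore_normal 3 ↥M
      refine ⟨⟨m, hm⟩ * r * ⟨m, hm⟩⁻¹, hn.conj_mem r hr ⟨m, hm⟩, ?_⟩
      simp
    set B : Subgroup ↥N := (R ⊓ N).subgroupOf N with hB
    have hBn : B.Normal := by
      refine ⟨fun b hb n => ?_⟩
      rw [hB, mem_subgroupOf] at hb ⊢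
      refine ⟨?_, (n * b * n⁻¹).2⟩
      have := hRn (n : G) (hNM n.2) (b : G) hb.1
      simpa using this
    have hBp : IsPGroup 3 ↥B := by
      have h1 : IsPGroup 3 ↥(R ⊓ N : Subgroup G) := hRp.to_le inf_le_left
      exact h1.comap_of_injective _ (Subgroup.subtype_injective N)
    have hBle : B ≤ Cfsg.pCore 3 ↥N := Cfsg.Agent.Lib.Helper12.le_pCore' 3 B hBn hBp
    refine ⟨⟨x * y, htN⟩, hBle ?_, rfl⟩
    rw [hB, mem_subgroupOf]
    exact ⟨htR, htN⟩
  have hNQ : N ≤ Q := by
    rw [hN]; unfold thetaKer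
    rw [closure_le]; exact hTQ
  exact hQp.to_le hNQ

theorem thetaKer_le_pCore (h : TT D) : thetaKer D ≤ Cfsg.pCore 3 G :=
  Cfsg.Agent.Lib.Helper12.le_pCore' 3 _ (thetaKer_normal h) (thetaKer_isPGroup h)

/-- **Fischer**: `x θ y` implies `x y ∈ O_3(G)`. -/
theorem mul_mem_pCore_of_theta (h : TT D) {x y : G} (hx : x ∈ D) (hy : y ∈ D)
    (hxy : Theta D x y) : x * y ∈ Cfsg.pCore 3 G :=
  thetaKer_le_pCore h (subset_closure ⟨x, hx, y, hy, hxy, rfl⟩)

/-- conversely, members of `D` congruent modulo `O_3(G)` are `θ`-equivalent -/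
theorem partners_subset_of_mul_mem_pCore (h : TT D) {d w : G} (hd : d ∈ D) (hw : w ∈ D)
    (hdw : d * w ∈ Cfsg.pCore 3 G) : partners D d ⊆ partners D w := by
  haveI : Fact (Nat.Prime 3) := ⟨Nat.prime_three⟩
  set R : Subgroup G := Cfsg.pCore 3 G with hR
  haveI hRn : R.Normal := Cfsg.Agent.Lib.Helper1.pCore_normal 3 G
  have hRp : IsPGroup 3 ↥R := Cfsg.Agent.Lib.Helper12.pCore_isPGroup' 3
  -- an element of `R` whose square is trivial is trivial
  have hsq : ∀ z ∈ R, z ^ 2 = 1 → z = 1 := by
    intro z hz h2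
    obtain ⟨k, hk⟩ := hRp ⟨z, hz⟩
    have hk' : z ^ 3 ^ k = 1 := by
      have := congrArg Subtype.val hk
      simpa using this
    have h1 : orderOf z ∣ 2 := orderOf_dvd_of_pow_eq_one h2
    have h3 : orderOf z ∣ 3 ^ k := orderOf_dvd_of_pow_eq_one hk'
    have hcop : Nat.Coprime 2 (3 ^ k) := Nat.Coprime.pow_right k (by norm_num)
    have : orderOf z ∣ 1 := by
      have := Nat.dvd_gcd h1 h3
      rwa [hcop.gcd_eq_one] at this
    exact orderOf_eq_one_iff.mp (Nat.dvd_one.mp this)
  intro y hy
  obtain ⟨hyD, hyd, hcdy⟩ := hy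
  have hdd := h.sq hd
  have hyy := h.sq hyD
  have hww := h.sq hw
  -- `d y ∉ R`
  have hdyR : d * y ∉ R := by
    intro hmem
    have h2 : (d * y) ^ 2 = 1 := by
      rw [pow_two]
      calc d * y * (d * y) = d * (y * d) * y := by group
        _ = d * (d * y) * y := by rw [hcdy.eq]
        _ = (d * d) * (y * y) := by group
        _ = 1 := by rw [hdd, hyy, one_mul]
    have h1 := hsq _ hmem h2
    apply hyd
    calc y = d⁻¹ * (d * y) := by group
      _ = d := by rw [h1, mul_one, h.inv hd]
  refine ⟨hyD, ?_, ?_⟩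
  · intro h'
    apply hdyR
    rw [h']; exact hdw
  · -- `(w y)^3 = 1` is impossible
    rcases h.h23 w hw y hyD with h2 | h3
    · exact Cfsg.Agent.Lib.Helper12.commute_of_mul_sq hww hyy h2
    · exfalso
      apply hdyR
      set π := QuotientGroup.mk' R with hπ
      have hπdw : π w = π d := by
        have h1 : π (d * w) = 1 := (QuotientGroup.eq_one_iff _).mpr hdw
        rw [map_mul] at h1
        have hπd : π d * π d = 1 := by rw [← map_mul, hdd, map_one]
        calc π w = (π d * π d) * π w := by rw [hπd, one_mul]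
          _ = π d * (π d * π w) := by group
          _ = π d := by rw [h1, mul_one]
      have h3' : (π d * π y) ^ 3 = 1 := by
        rw [← hπdw, ← map_mul, ← map_pow, h3, map_one]
      have h2' : (π d * π y) ^ 2 = 1 := by
        rw [← map_mul, ← map_pow]
        have : (d * y) ^ 2 = 1 := by
          rw [pow_two]
          calc d * y * (d * y) = d * (y * d) * y := by group
            _ = d * (d * y) * y := by rw [hcdy.eq]
            _ = (d * d) * (y * y) := by group
            _ = 1 := by rw [hdd, hyy, one_mul]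
        rw [this, map_one]
      have h1' : π d * π y = 1 := by
        calc π d * π y = (π d * π y) ^ 3 * ((π d * π y) ^ 2)⁻¹ := by group
          _ = 1 := by rw [h3', h2']; simp
      rw [← map_mul] at h1'
      exact (QuotientGroup.eq_one_iff _).mp h1'

theorem theta_of_mul_mem_pCore (h : TT D) {d w : G} (hd : d ∈ D) (hw : w ∈ D)
    (hdw : d * w ∈ Cfsg.pCore 3 G) : Theta D d w := by
  apply Set.Subset.antisymm (partners_subset_of_mul_mem_pCore h hd hw hdw)
  apply partners_subset_of_mul_mem_pCore h hw hd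
  have hRn : (Cfsg.pCore 3 G).Normal := Cfsg.Agent.Lib.Helper1.pCore_normal 3 G
  have e : w * d = (d * w)⁻¹ := by rw [mul_inv_rev, h.inv hd, h.inv hw]
  rw [e]; exact (Cfsg.pCore 3 G).inv_mem hdw

/-- **Fischer's theorem on `θ`-classes**. -/
theorem theta_class_eq (h : TT D) {d : G} (hd : d ∈ D) :
    {w : G | w ∈ D ∧ partners D d = partners D w} = {w : G | w ∈ D ∧ d⁻¹ * w ∈ Cfsg.pCore 3 G} ∧
    {w : G | w ∈ D ∧ partners D d = partners D w} =
      {w : G | ∃ g ∈ Cfsg.pCore 3 G, w = g * d * g⁻¹} := by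
  haveI : Fact (Nat.Prime 3) := ⟨Nat.prime_three⟩
  have hRn : (Cfsg.pCore 3 G).Normal := Cfsg.Agent.Lib.Helper1.pCore_normal 3 G
  have hRp : IsPGroup 3 ↥(Cfsg.pCore 3 G) := Cfsg.Agent.Lib.Helper12.pCore_isPGroup' 3
  have hdi := h.inv hd
  have h12 : {w : G | w ∈ D ∧ partners D d = partners D w} =
      {w : G | w ∈ D ∧ d⁻¹ * w ∈ Cfsg.pCore 3 G} := by
    ext w
    constructor
    · rintro ⟨hw, hθ⟩
      refine ⟨hw, ?_⟩
      rw [hdi]
      exact mul_mem_pCore_of_theta h hd hw hθ
    · rintro ⟨hw, hmem⟩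
      rw [hdi] at hmem
      exact ⟨hw, theta_of_mul_mem_pCore h hd hw hmem⟩
  refine ⟨h12, ?_⟩
  rw [h12]
  ext w
  constructor
  · rintro ⟨hw, hmem⟩
    rw [hdi] at hmem
    refine ⟨d * w, hmem, ?_⟩
    -- `(d w)^3 = 1`
    have h3 : (d * w) ^ 3 = 1 := by
      rcases h.h23 d hd w hw with h2 | h3
      · -- order divides 2 and is a power of 3
        obtain ⟨k, hk⟩ := hRp ⟨d * w, hmem⟩
        have hk' : (d * w) ^ 3 ^ k = 1 := by
          have := congrArg Subtype.val hk
          simpa using this
        have h1 : orderOf (d * w) ∣ 2 := orderOf_dvd_of_pow_eq_one h2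
        have h3 : orderOf (d * w) ∣ 3 ^ k := orderOf_dvd_of_pow_eq_one hk'
        have hcop : Nat.Coprime 2 (3 ^ k) := Nat.Coprime.pow_right k (by norm_num)
        have : orderOf (d * w) ∣ 1 := by
          have := Nat.dvd_gcd h1 h3
          rwa [hcop.gcd_eq_one] at this
        have h0 : d * w = 1 := orderOf_eq_one_iff.mp (Nat.dvd_one.mp this)
        rw [h0, one_pow]
      · exact h3
    exact (Cfsg.Agent.Lib.Helper12.conj_eq_of_mul_cube (h.sq hd) (h.sq hw) h3).symm
  · rintro ⟨g, hg, rfl⟩
    refine ⟨h.conj g d hd, ?_⟩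
    have e : d⁻¹ * (g * d * g⁻¹) = (d⁻¹ * g * d⁻¹⁻¹) * g⁻¹ := by group
    rw [e]
    exact (Cfsg.pCore 3 G).mul_mem (hRn.conj_mem g hg d⁻¹) ((Cfsg.pCore 3 G).inv_mem hg)

end Cfsg.Agent.Lib.Helper12.Theta
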