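import Mathlib
import Cfsg.Prelude.Def_Local
import Cfsg.Agent.Lib.Helper12.WidthOne
import Cfsg.Agent.Lib.Helper9.Components
import Cfsg.Agent.Lib.Helper9.FStar
import Cfsg.Agent.Lib.Helper9.FStar2
import Cfsg.Agent.Lib.Helper9.Transport

/-!
Helper lemmas (helper12) for Fischer's theorem on the generalized Fitting subgroup of a
`3`-transposition group: width one relative to a subgroup, and an involution whose conjugates
under the layer generate a solvable group centralizes the layer.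
-/

set_option autoImplicit false
set_option linter.unusedSectionVars false

open Subgroup

namespace Cfsg.Agent.Lib.Helper12.FF

variable {G : Type*} [Group G]

/-- width one relative to a subgroup `H`: if no two distinct `H`-conjugates of `d` commute, then
the `H`-conjugates of `d` lie in `P d` for a `3`-subgroup `P` normalized by `d`. -/
theorem relative_width_one [Finite G] {D : Set G}
    (hord : ∀ e ∈ D, orderOf e = 2)
    (h23 : ∀ a ∈ D, ∀ b ∈ D, (a * b) ^ 2 = 1 ∨ (a * b) ^ 3 = 1)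
    (H : Subgroup G) (hconj : ∀ g ∈ H, ∀ e ∈ D, g * e * g⁻¹ ∈ D)
    {d : G} (hd : d ∈ D) (hdH : d ∈ H)
    (hw : ∀ g ∈ H, Commute d (g * d * g⁻¹) → g * d * g⁻¹ = d) :
    ∃ P : Subgroup G, IsPGroup 3 P ∧ d ∈ normalizer (P : Set G) ∧
      ∀ g ∈ H, ∃ x ∈ P, g * d * g⁻¹ = x * d := by
  classical
  have : Fact (Nat.Prime 3) := ⟨Nat.prime_three⟩
  set d' : H := ⟨d, hdH⟩ with hd'
  let D' : Set H := {h | ∃ g : H, h = g * d' * g⁻¹}
  have hD'D : ∀ e ∈ D', (e : G) ∈ D := by
    rintro e ⟨g, rfl⟩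
    exact hconj g.1 g.2 d hd
  have hord' : ∀ e ∈ D', orderOf e = 2 := by
    intro e he
    rw [← Subgroup.orderOf_coe]
    exact hord _ (hD'D e he)
  have h23' : ∀ a ∈ D', ∀ b ∈ D', (a * b) ^ 2 = 1 ∨ (a * b) ^ 3 = 1 := by
    intro a ha b hb
    rcases h23 _ (hD'D a ha) _ (hD'D b hb) with h | h
    · left; apply Subtype.ext; simpa using h
    · right; apply Subtype.ext; simpa using h
  have hconj' : ∀ g : H, ∀ e ∈ D', g * e * g⁻¹ ∈ D' := by
    rintro g e ⟨g', rfl⟩
    exact ⟨g * g', by group⟩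
  have hw' : ∀ a ∈ D', ∀ b ∈ D', Commute a b → a = b := by
    rintro a ⟨g1, rfl⟩ b ⟨g2, rfl⟩ hab
    have e1 : g2 * d' * g2⁻¹ = g1 * ((g1⁻¹ * g2) * d' * (g1⁻¹ * g2)⁻¹) * g1⁻¹ := by group
    rw [e1, Commute.conj_iff] at hab
    have h1 : Commute d ((g1⁻¹ * g2 : H) * d * ((g1⁻¹ * g2 : H) : G)⁻¹) := by
      have := congrArg Subtype.val hab.eq
      show d * _ = _ * d
      simpa [hd'] using this
    have h2 := hw _ (g1⁻¹ * g2).2 h1
    have h3 : (g1⁻¹ * g2) * d' * (g1⁻¹ * g2)⁻¹ = d' := by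
      apply Subtype.ext
      simpa using h2
    rw [e1, h3]
  obtain ⟨P', hP'd, hDP'⟩ := Cfsg.Agent.Lib.Helper12.exists_sylow_three_of_width_one hord' h23'
    hconj' hw' (⟨1, by group⟩ : d' ∈ D')
  refine ⟨(P' : Subgroup H).map H.subtype, P'.2.map _, ?_, ?_⟩
  · rw [Subgroup.mem_normalizer_iff] at hP'd ⊢
    intro h
    constructor
    · rintro ⟨y, hy, rfl⟩
      exact ⟨d' * y * d'⁻¹, (hP'd y).mp hy, by simp [hd']⟩
    · rintro ⟨z, hz, hzh⟩
      refine ⟨d'⁻¹ * z * d', ?_, ?_⟩
      · refine (hP'd _).mpr ?_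
        have e2 : d' * (d'⁻¹ * z * d') * d'⁻¹ = z := by group
        rw [e2]; exact hz
      · have e3 : H.subtype (d'⁻¹ * z * d') = d⁻¹ * (H.subtype z) * d := by simp [hd']
        rw [e3, hzh]; group
  · intro g hg
    obtain ⟨x, hx, hxe⟩ := hDP' (⟨g, hg⟩ * d' * ⟨g, hg⟩⁻¹) ⟨⟨g, hg⟩, rfl⟩
    refine ⟨x.1, ⟨x, hx, rfl⟩, ?_⟩
    have := congrArg Subtype.val hxe
    simpa using this

/-- `P ⟨d⟩` is solvable for a `p`-group `P` normalized by `d` -/
theorem isSolvable_sup_zpowers [Finite G] {p : ℕ} [Fact p.Prime] {P : Subgroup G}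
    (hP : IsPGroup p P) {d : G} (hd : d ∈ normalizer (P : Set G)) :
    Group.IsSolvable ↥(P ⊔ zpowers d) := by
  set B : Subgroup G := P ⊔ zpowers d with hB
  have hPB : P ≤ B := le_sup_left
  have hZB : zpowers d ≤ B := le_sup_right
  let N : Subgroup B := P.subgroupOf B
  have hNn : N.Normal := by
    apply (Subgroup.normal_subgroupOf_iff_le_normalizer hPB).mpr
    exact sup_le Subgroup.le_normalizer (by rw [Subgroup.zpowers_le]; exact hd)
  have hNs : Group.IsSolvable N := by
    have h1 : Group.IsNilpotent ↥P := hP.isNilpotent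
    have h2 : Group.IsSolvable ↥P := inferInstance
    exact Group.isSolvable_of_isSolvable_injective
      (f := (Subgroup.subgroupOfEquivOfLe hPB).toMonoidHom) (Subgroup.subgroupOfEquivOfLe hPB).injective
  have htop : N ⊔ (zpowers d).subgroupOf B = ⊤ := by
    rw [← Subgroup.subgroupOf_sup hPB hZB, ← hB, Subgroup.subgroupOf_self]
  have hQs : Group.IsSolvable (B ⧸ N) := by
    let f : (zpowers d) →* (B ⧸ N) := (QuotientGroup.mk' N).comp (Subgroup.inclusion hZB)
    have hf : Function.Surjective f := by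
      intro y
      induction y using QuotientGroup.induction_on with
      | H x =>
        have hx : x ∈ N ⊔ (zpowers d).subgroupOf B := by rw [htop]; exact Subgroup.mem_top x
        obtain ⟨n, hn, z, hz, rfl⟩ := Subgroup.mem_sup_of_normal_left.mp hx
        refine ⟨⟨z.1, Subgroup.mem_subgroupOf.mp hz⟩, ?_⟩
        show (QuotientGroup.mk' N) (Subgroup.inclusion hZB ⟨z.1, _⟩) = QuotientGroup.mk (n * z)
        rw [QuotientGroup.mk'_apply, QuotientGroup.eq]
        have e1 : (Subgroup.inclusion hZB ⟨z.1, Subgroup.mem_subgroupOf.mp hz⟩)⁻¹ * (n * z) =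
            z⁻¹ * n * z := by
          apply Subtype.ext
          simp [mul_assoc]
        rw [e1]
        have := hNn.conj_mem n hn z⁻¹
        rwa [inv_inv] at this
    exact Group.isSolvable_of_surjective hf
  exact Group.isSolvable_of_ker_le_range N.subtype (QuotientGroup.mk' N)
    (by rw [QuotientGroup.ker_mk', Subgroup.range_subtype])

/-- an involution `d` whose conjugates under the layer generate a solvable group centralizes every
component -/
theorem centralizes_components_of_solvable [Finite G] {d : G}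
    (hs : Group.IsSolvable ↥(closure {y : G | ∃ g ∈ Cfsg.layer G, y = g * d * g⁻¹})) :
    ∀ K : Subgroup G, Cfsg.IsComponent K → ∀ k ∈ K, Commute d k := by
  classical
  set E : Subgroup G := Cfsg.layer G with hE
  have hEn : E.Normal := Cfsg.Agent.Lib.Helper9.layer_normal
  set S : Set G := {y : G | ∃ g ∈ E, y = g * d * g⁻¹} with hS
  set A : Subgroup G := closure S with hA
  have hEA : E ≤ normalizer (A : Set G) := by
    intro h hh
    apply Subgroup.normalizer_le_normalizer_closure S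
    rw [Subgroup.mem_set_normalizer_iff]
    intro y
    constructor
    · rintro ⟨g, hg, rfl⟩
      exact ⟨h * g, mul_mem hh hg, by group⟩
    · rintro ⟨g, hg, hy⟩
      refine ⟨h⁻¹ * g, mul_mem (inv_mem hh) hg, ?_⟩
      calc y = h⁻¹ * (h * y * h⁻¹) * h := by group
        _ = h⁻¹ * (g * d * g⁻¹) * h := by rw [hy]
        _ = h⁻¹ * g * d * (h⁻¹ * g)⁻¹ := by group
  have hdA : d ∈ A := Subgroup.subset_closure ⟨1, one_mem _, by group⟩
  set M : Subgroup G := A ⊓ E with hM
  have hME : M ≤ E := inf_le_right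
  have hMn : (M.subgroupOf E).Normal := by
    apply (Subgroup.normal_subgroupOf_iff_le_normalizer hME).mpr
    intro x hx
    exact Cfsg.Agent.Lib.Helper9.mem_normalizer_inf (hEA hx) (Subgroup.le_normalizer hx)
  have hMsub : M.IsSubnormal := Subgroup.IsSubnormal.step M E hME hEn.isSubnormal hMn
  have hMs : Group.IsSolvable ↥M :=
    Group.isSolvable_of_isSolvable_injective (Subgroup.inclusion_injective (inf_le_left : M ≤ A))
  intro K hK
  have hKE : K ≤ E := Cfsg.Agent.Lib.Helper9.component_le_layer hK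
  have hKM : ⁅K, M⁆ = ⊥ :=
    Cfsg.Agent.Lib.Helper9.component_commutator_solvable_eq_bot K M hK hMsub hMs
  have hKZ : ⁅K, zpowers d⁆ ≤ M := by
    rw [Subgroup.commutator_le]
    intro k hk z hz
    obtain ⟨i, rfl⟩ := Subgroup.mem_zpowers_iff.mp hz
    refine Subgroup.mem_inf.mpr ⟨?_, ?_⟩
    · rw [commutatorElement_def]
      have h1 : k * d ^ i * k⁻¹ = (k * d * k⁻¹) ^ i := by rw [conj_zpow]
      rw [h1]
      have h0 : k * d * k⁻¹ ∈ A :=
        Subgroup.subset_closure (show k * d * k⁻¹ ∈ S from ⟨k, hKE hk, rfl⟩)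
      exact mul_mem (zpow_mem h0 i) (inv_mem (zpow_mem hdA i))
    · rw [commutatorElement_def]
      have h2 : k * d ^ i * k⁻¹ * (d ^ i)⁻¹ = k * (d ^ i * k⁻¹ * (d ^ i)⁻¹) := by group
      rw [h2]
      exact mul_mem (hKE hk) (hEn.conj_mem _ (inv_mem (hKE hk)) _)
  have hperf : ⁅K, K⁆ = K := Subgroup.isPerfect_iff.mp hK.2.1
  have h1 : ⁅⁅K, zpowers d⁆, K⁆ = ⊥ := by
    rw [eq_bot_iff, ← hKM, Subgroup.commutator_comm K M]
    exact Subgroup.commutator_mono hKZ le_rfl
  have h2 : ⁅⁅zpowers d, K⁆, K⁆ = ⊥ := by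
    rw [Subgroup.commutator_comm (zpowers d) K]; exact h1
  have h3 := Subgroup.commutator_commutator_eq_bot_of_rotate (H₁ := K) (H₂ := K)
    (H₃ := zpowers d) h1 h2
  rw [hperf, Subgroup.commutator_eq_bot_iff_le_centralizer] at h3
  intro k hk
  have h4 := h3 hk
  rw [Subgroup.mem_centralizer_iff] at h4
  exact h4 d (Subgroup.mem_zpowers d)

end Cfsg.Agent.Lib.Helper12.FF
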