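import Mathlib
import Cfsg.Prelude.Def_Local
import Cfsg.Prelude.Def_SporadicB
import Cfsg.Agent.Lib.Helper12.FischerFitting
import Cfsg.Agent.Lib.Lead.CharBurnside

/-!
Helper lemmas (helper12) for Fischer's theorem on the components of a `3`-transposition group:
a `3`-transposition normalizes every component; dichotomy for the conjugates of an element under a
normal subgroup containing a component.
-/

set_option autoImplicit false
set_option linter.unusedSectionVars false

open Subgroup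

namespace Cfsg.Agent.Lib.Helper12.FF

variable {G : Type*} [Group G]

/-- a natural number all of whose prime divisors are `2` or `3` is `2 ^ a * 3 ^ b` -/
theorem eq_two_pow_mul_three_pow {n : ℕ} (hn : n ≠ 0)
    (h : ∀ p : ℕ, p.Prime → p ∣ n → p = 2 ∨ p = 3) : ∃ a b : ℕ, n = 2 ^ a * 3 ^ b := by
  obtain ⟨a, n1, h2n1, hn1⟩ := Nat.exists_eq_pow_mul_and_not_dvd hn 2 (by norm_num)
  have hn1' : n1 ≠ 0 := by
    rintro rfl
    exact hn (by rw [hn1, mul_zero])
  obtain ⟨b, n2, h3n2, hn2⟩ := Nat.exists_eq_pow_mul_and_not_dvd hn1' 3 (by norm_num)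
  refine ⟨a, b, ?_⟩
  have hn2one : n2 = 1 := by
    by_contra hne
    obtain ⟨p, hp, hpn2⟩ := Nat.exists_prime_and_dvd hne
    have hpn1 : p ∣ n1 := by rw [hn2]; exact dvd_mul_of_dvd_right hpn2 _
    have hpn : p ∣ n := by rw [hn1]; exact dvd_mul_of_dvd_right hpn1 _
    rcases h p hp hpn with rfl | rfl
    · exact h2n1 hpn1
    · exact h3n2 hpn2
  rw [hn1, hn2, hn2one, mul_one]

/-- a quasisimple group has an element `k` with neither `k ^ 2` nor `k ^ 3` central
(Burnside's `p^a q^b` theorem) -/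
theorem not_quasisimple_of_pow23 {K : Type*} [Group K] [Finite K] (hK : Cfsg.IsQuasisimple K)
    (h : ∀ k : K, k ^ 2 ∈ center K ∨ k ^ 3 ∈ center K) : False := by
  classical
  have h23 : ∀ x : K ⧸ center K, x ^ 2 = 1 ∨ x ^ 3 = 1 := by
    intro x
    induction x using QuotientGroup.induction_on with
    | H k =>
      rcases h k with h' | h'
      · left; rw [← QuotientGroup.mk_pow]; exact (QuotientGroup.eq_one_iff _).mpr h'
      · right; rw [← QuotientGroup.mk_pow]; exact (QuotientGroup.eq_one_iff _).mpr h'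
  have hcard : ∃ a b : ℕ, Nat.card (K ⧸ center K) = 2 ^ a * 3 ^ b := by
    apply eq_two_pow_mul_three_pow Nat.card_pos.ne'
    intro p hp hpd
    have : Fact p.Prime := ⟨hp⟩
    obtain ⟨x, hx⟩ := exists_prime_orderOf_dvd_card' p hpd
    rcases h23 x with h' | h'
    · left
      have h1 : p ∣ 2 := by rw [← hx]; exact orderOf_dvd_of_pow_eq_one h'
      exact (Nat.prime_dvd_prime_iff_eq hp Nat.prime_two).mp h1
    · right
      have h1 : p ∣ 3 := by rw [← hx]; exact orderOf_dvd_of_pow_eq_one h'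
      exact (Nat.prime_dvd_prime_iff_eq hp Nat.prime_three).mp h1
  obtain ⟨a, b, hab⟩ := hcard
  have hsq : Group.IsSolvable (K ⧸ center K) :=
    Cfsg.Agent.CharLib.isSolvable_of_card_pq 2 3 a b Nat.prime_two Nat.prime_three hab
  have hsc : Group.IsSolvable ↥(center K) := by
    apply Group.isSolvable_of_comm
    rintro ⟨x, hx⟩ ⟨y, hy⟩
    apply Subtype.ext
    rw [Subgroup.mem_center_iff] at hy
    show x * y = y * x
    exact hy x
  have hs : Group.IsSolvable K :=
    Group.isSolvable_of_ker_le_range (center K).subtype (QuotientGroup.mk' (center K))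
      (by rw [QuotientGroup.ker_mk', Subgroup.range_subtype])
  exact Cfsg.Agent.Lib.Helper9.IsQuasisimple_not_isSolvable hK hs

/-- dichotomy: for a component `K` inside a normal subgroup `N`, either `K` lies in the subgroup
generated by the `N`-conjugates of `d`, or `d` centralizes `K`. -/
theorem component_le_closure_or_centralizes [Finite G] (d : G) (N : Subgroup G) [hNn : N.Normal]
    {K : Subgroup G} (hK : Cfsg.IsComponent K) (hKN : K ≤ N) :
    K ≤ closure {y : G | ∃ g ∈ N, y = g * d * g⁻¹} ∨ ∀ k ∈ K, Commute d k := by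
  classical
  set S : Set G := {y : G | ∃ g ∈ N, y = g * d * g⁻¹} with hS
  set A : Subgroup G := closure S with hA
  have hNA : N ≤ normalizer (A : Set G) := by
    intro h hh
    apply Subgroup.normalizer_le_normalizer_closure S
    rw [Subgroup.mem_set_normalizer_iff]
    intro y
    constructor
    · rintro ⟨g, hg, rfl⟩
      exact ⟨h * g, mul_mem hh hg, by group⟩
    · rintro ⟨g, hg, hy⟩
      refine ⟨h⁻¹ * g, mul_mem (inv_mem hh) hg, ?_⟩
      calc y = h⁻¹ * (h * y * h⁻¹) * h := by group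
        _ = h⁻¹ * (g * d * g⁻¹) * h := by rw [hy]
        _ = h⁻¹ * g * d * (h⁻¹ * g)⁻¹ := by group
  have hdA : d ∈ A := Subgroup.subset_closure ⟨1, one_mem _, by group⟩
  set M : Subgroup G := A ⊓ N with hM
  have hMN : M ≤ N := inf_le_right
  have hMn : (M.subgroupOf N).Normal := by
    apply (Subgroup.normal_subgroupOf_iff_le_normalizer hMN).mpr
    intro x hx
    exact Cfsg.Agent.Lib.Helper9.mem_normalizer_inf (hNA hx) (Subgroup.le_normalizer hx)
  have hMsub : M.IsSubnormal := Subgroup.IsSubnormal.step M N hMN hNn.isSubnormal hMn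
  rcases Cfsg.Agent.Lib.Helper9.component_le_or_commutator_eq_bot K M hK hMsub with hle | hKM
  · exact Or.inl (hle.trans inf_le_left)
  right
  have hKZ : ⁅K, zpowers d⁆ ≤ M := by
    rw [Subgroup.commutator_le]
    intro k hk z hz
    obtain ⟨i, rfl⟩ := Subgroup.mem_zpowers_iff.mp hz
    refine Subgroup.mem_inf.mpr ⟨?_, ?_⟩
    · rw [commutatorElement_def]
      have h1 : k * d ^ i * k⁻¹ = (k * d * k⁻¹) ^ i := by rw [conj_zpow]
      rw [h1]
      have h0 : k * d * k⁻¹ ∈ A :=
        Subgroup.subset_closure (show k * d * k⁻¹ ∈ S from ⟨k, hKN hk, rfl⟩)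
      exact mul_mem (zpow_mem h0 i) (inv_mem (zpow_mem hdA i))
    · rw [commutatorElement_def]
      have h2 : k * d ^ i * k⁻¹ * (d ^ i)⁻¹ = k * (d ^ i * k⁻¹ * (d ^ i)⁻¹) := by group
      rw [h2]
      exact mul_mem (hKN hk) (hNn.conj_mem _ (inv_mem (hKN hk)) _)
  have hperf : ⁅K, K⁆ = K := Subgroup.isPerfect_iff.mp hK.2.1
  have h1 : ⁅⁅K, zpowers d⁆, K⁆ = ⊥ := by
    rw [eq_bot_iff, ← hKM, Subgroup.commutator_comm K M]
    exact Subgroup.commutator_mono hKZ le_rfl
  have h2 : ⁅⁅zpowers d, K⁆, K⁆ = ⊥ := by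
    rw [Subgroup.commutator_comm (zpowers d) K]; exact h1
  have h3 := Subgroup.commutator_commutator_eq_bot_of_rotate (H₁ := K) (H₂ := K)
    (H₃ := zpowers d) h1 h2
  rw [hperf, Subgroup.commutator_eq_bot_iff_le_centralizer] at h3
  intro k hk
  have h4 := h3 hk
  rw [Subgroup.mem_centralizer_iff] at h4
  exact h4 d (Subgroup.mem_zpowers d)

/-- if the `N`-conjugates of `d` generate a solvable group, `d` centralizes the components in `N` -/
theorem centralizes_component_of_solvable [Finite G] (d : G) (N : Subgroup G) [hNn : N.Normal]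
    (hs : Group.IsSolvable ↥(closure {y : G | ∃ g ∈ N, y = g * d * g⁻¹}))
    {K : Subgroup G} (hK : Cfsg.IsComponent K) (hKN : K ≤ N) : ∀ k ∈ K, Commute d k := by
  rcases component_le_closure_or_centralizes d N hK hKN with h | h
  · exact absurd h (Cfsg.Agent.Lib.Helper9.component_not_le_of_isSolvable hK hs)
  · exact h

/-- pairwise commuting generators give a solvable closure -/
theorem isSolvable_closure_of_commute {S : Set G} (hSc : ∀ y1 ∈ S, ∀ y2 ∈ S, y1 * y2 = y2 * y1) :
    Group.IsSolvable ↥(closure S) := by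
  have h1 : ∀ s ∈ S, ∀ a ∈ closure S, a * s = s * a := by
    intro s hs
    have hle : closure S ≤ centralizer ({s} : Set G) := by
      rw [Subgroup.closure_le]
      intro t ht
      rw [SetLike.mem_coe, Subgroup.mem_centralizer_singleton_iff]
      exact hSc t ht s hs
    intro a ha
    have := hle ha
    rwa [Subgroup.mem_centralizer_singleton_iff] at this
  have h2 : ∀ a ∈ closure S, ∀ b ∈ closure S, b * a = a * b := by
    intro a ha
    have hle : closure S ≤ centralizer ({a} : Set G) := by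
      rw [Subgroup.closure_le]
      intro t ht
      rw [SetLike.mem_coe, Subgroup.mem_centralizer_singleton_iff]
      exact (h1 t ht a ha).symm
    intro b hb
    have := hle hb
    rwa [Subgroup.mem_centralizer_singleton_iff] at this
  apply Group.isSolvable_of_comm
  rintro ⟨a, ha⟩ ⟨b, hb⟩
  apply Subtype.ext
  exact h2 b hb a ha

section threetrans

variable [Finite G] {D : Set G}

/-- if `d` commutes with all its `N`-conjugates, these generate a solvable group -/
theorem isSolvable_conj_closure_of_commute (d : G) (N : Subgroup G)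
    (hc : ∀ g ∈ N, Commute d (g * d * g⁻¹)) :
    Group.IsSolvable ↥(closure {y : G | ∃ g ∈ N, y = g * d * g⁻¹}) := by
  apply isSolvable_closure_of_commute
  rintro y1 ⟨g1, hg1, rfl⟩ y2 ⟨g2, hg2, rfl⟩
  have e1 : g2 * d * g2⁻¹ = g1 * ((g1⁻¹ * g2) * d * (g1⁻¹ * g2)⁻¹) * g1⁻¹ := by group
  have h1 : Commute (g1 * d * g1⁻¹) (g2 * d * g2⁻¹) := by
    rw [e1, Commute.conj_iff]
    exact hc _ (mul_mem (inv_mem hg1) hg2)
  exact h1.eq

/-- if all products `d^g d` (`g ∈ N`) have order dividing `3`, the `N`-conjugates of `d`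
generate a solvable group -/
theorem isSolvable_conj_closure_of_cube (hTS : Cfsg.IsThreeTranspositionSet D)
    (hconj : ∀ g : G, ∀ e ∈ D, g * e * g⁻¹ ∈ D) {d : G} (hd : d ∈ D)
    (N : Subgroup G) [hNn : N.Normal]
    (hc : ∀ g ∈ N, (g * d * g⁻¹ * d) ^ 3 = 1) :
    Group.IsSolvable ↥(closure {y : G | ∃ g ∈ N, y = g * d * g⁻¹}) := by
  classical
  have : Fact (Nat.Prime 3) := ⟨Nat.prime_three⟩
  have hdd : d * d = 1 := Cfsg.Agent.Lib.Helper12.mul_self_of_orderOf_two (hTS.1 d hd)
  have hdi : d⁻¹ = d := inv_eq_of_mul_eq_one_right hdd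
  set H : Subgroup G := N ⊔ zpowers d with hH
  have hdH : d ∈ H := (le_sup_right : zpowers d ≤ H) (Subgroup.mem_zpowers d)
  have hw : ∀ h ∈ H, Commute d (h * d * h⁻¹) → h * d * h⁻¹ = d := by
    intro h hh hcm
    obtain ⟨g, hg, z, hz, rfl⟩ := Subgroup.mem_sup_of_normal_left.mp hh
    obtain ⟨i, rfl⟩ := Subgroup.mem_zpowers_iff.mp hz
    have e1 : g * d ^ i * d * (g * d ^ i)⁻¹ = g * d * g⁻¹ := by
      have h1 : d ^ i * d = d * d ^ i := (Commute.zpow_self d i).eq
      calc g * d ^ i * d * (g * d ^ i)⁻¹ = g * (d ^ i * d) * (d ^ i)⁻¹ * g⁻¹ := by group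
        _ = g * (d * d ^ i) * (d ^ i)⁻¹ * g⁻¹ := by rw [h1]
        _ = g * d * g⁻¹ := by group
    rw [e1] at hcm ⊢
    have ha : g * d * g⁻¹ ∈ D := hconj g d hd
    have haa : (g * d * g⁻¹) * (g * d * g⁻¹) = 1 :=
      Cfsg.Agent.Lib.Helper12.mul_self_of_orderOf_two (hTS.1 _ ha)
    have h3' := hc g hg
    have h2' : (g * d * g⁻¹ * d) ^ 2 = 1 := by
      rw [hcm.symm.mul_pow, pow_two, pow_two, haa, hdd, one_mul]
    have h1' : g * d * g⁻¹ * d = 1 := by
      have h4 : orderOf (g * d * g⁻¹ * d) ∣ Nat.gcd 2 3 :=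
        Nat.dvd_gcd (orderOf_dvd_of_pow_eq_one h2') (orderOf_dvd_of_pow_eq_one h3')
      exact orderOf_eq_one_iff.mp (Nat.dvd_one.mp h4)
    have := eq_inv_of_mul_eq_one_left h1'
    rwa [hdi] at this
  obtain ⟨P, hP3, hPd, hPH⟩ := relative_width_one hTS.1 hTS.2 H
    (fun g _ e he => hconj g e he) hd hdH hw
  have hB : Group.IsSolvable ↥(P ⊔ zpowers d) := isSolvable_sup_zpowers hP3 hPd
  have hAB : closure {y : G | ∃ g ∈ N, y = g * d * g⁻¹} ≤ P ⊔ zpowers d := by
    rw [Subgroup.closure_le]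
    rintro y ⟨g, hg, rfl⟩
    obtain ⟨x', hx', hxe⟩ := hPH g ((le_sup_left : N ≤ H) hg)
    rw [SetLike.mem_coe, hxe]
    exact Subgroup.mul_mem_sup hx' (Subgroup.mem_zpowers d)
  exact Group.isSolvable_of_isSolvable_injective (Subgroup.inclusion_injective hAB)

/-- **Fischer.** A `3`-transposition normalizes every component. -/
theorem mem_normalizer_component (hTS : Cfsg.IsThreeTranspositionSet D)
    (hconj : ∀ g : G, ∀ e ∈ D, g * e * g⁻¹ ∈ D) {e : G} (he : e ∈ D)
    {K : Subgroup G} (hK : Cfsg.IsComponent K) : e ∈ normalizer (K : Set G) := by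
  classical
  rw [Subgroup.mem_normalizer_iff_map_conj_eq]
  by_contra hne
  have hK' : Cfsg.IsComponent (K.map (MulAut.conj e).toMonoidHom) :=
    Cfsg.Agent.Lib.Helper9.isComponent_map_equiv (MulAut.conj e) hK
  have hcomm : ⁅K, K.map (MulAut.conj e).toMonoidHom⁆ = ⊥ :=
    Cfsg.Agent.Lib.Helper9.components_commute K _ hK hK' (fun h => hne h.symm)
  have hee : e * e = 1 := Cfsg.Agent.Lib.Helper12.mul_self_of_orderOf_two (hTS.1 e he)
  have hei : e⁻¹ = e := inv_eq_of_mul_eq_one_right hee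
  have hcen : ∀ k ∈ K, ∀ k' ∈ K, (e * k' * e⁻¹) * k = k * (e * k' * e⁻¹) := by
    intro k hk k' hk'
    have h1 : e * k' * e⁻¹ ∈ K.map (MulAut.conj e).toMonoidHom := ⟨k', hk', by simp⟩
    have h2 := Subgroup.commutator_eq_bot_iff_le_centralizer.mp hcomm hk
    rw [Subgroup.mem_centralizer_iff] at h2
    exact h2 _ h1
  apply not_quasisimple_of_pow23 hK.2
  rintro ⟨k, hk⟩
  -- `u = (k e k⁻¹) e = k (e k⁻¹ e⁻¹)`
  have hu := hTS.2 _ (hconj k e he) e he
  have key : ∀ n : ℕ, (k * e * k⁻¹ * e) ^ n = 1 → (⟨k, hk⟩ : K) ^ n ∈ center ↥K := by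
    intro n hn
    have hcm : Commute k (e * k⁻¹ * e⁻¹) := (hcen k hk k⁻¹ (inv_mem hk)).symm
    have e1 : k * e * k⁻¹ * e = k * (e * k⁻¹ * e⁻¹) := by rw [hei]; group
    rw [e1, hcm.mul_pow] at hn
    -- `k ^ n = ((e k⁻¹ e⁻¹) ^ n)⁻¹` commutes with `K`
    have h3 : k ^ n = ((e * k⁻¹ * e⁻¹) ^ n)⁻¹ := eq_inv_of_mul_eq_one_left hn
    rw [Subgroup.mem_center_iff]
    rintro ⟨x, hx⟩
    apply Subtype.ext
    show x * k ^ n = k ^ n * x
    have h4 : (e * k⁻¹ * e⁻¹) ^ n = e * (k⁻¹) ^ n * e⁻¹ := by rw [conj_pow]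
    have h5 := hcen x hx ((k⁻¹) ^ n) (pow_mem (inv_mem hk) n)
    rw [h3, h4]
    have h6 : Commute (e * k⁻¹ ^ n * e⁻¹) x := h5
    exact (h6.inv_left).eq.symm
  rcases hu with h | h
  · exact Or.inl (key 2 h)
  · exact Or.inr (key 3 h)

end threetrans

end Cfsg.Agent.Lib.Helper12.FF
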