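import Cfsg.Agent.Lib.Helper29.ND44Defs

/-!
helper12, S5825 conjunct (5) (project ND44 of helper29): leaves **G1 `perp_perp`** and **G2 `sing_span`**
(pure geometry of a nondegenerate subspace `W` of a quadratic space).
-/

set_option autoImplicit false
set_option linter.unusedSectionVars false
set_option linter.unusedVariables false
set_option linter.unusedSimpArgs false

namespace Cfsg.Agent.Lib.Helper12.ND44Leaf

open Module QuadraticMap Matrix Cfsg.Agent.Lib.Helper25.CD Cfsg.Agent.Lib.Helper25.Spin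
  Cfsg.Agent.Lib.Helper25.Fam Cfsg.Agent.Lib.Helper25.Siegel
  Cfsg.Agent.Lib.Helper25.PS Cfsg.Agent.Lib.Helper25.OGeom Cfsg.Agent.Lib.Helper15
  Cfsg.Agent.Lib.Helper5.TSMax Cfsg.Agent.Lib.Helper5.NSMax Cfsg.Agent.Lib.Helper5.PairMax
  Cfsg.Agent.Lib.Helper5.NDMax Cfsg.Agent.Lib.Helper10.NDMax4 Cfsg.Agent.Lib.Helper29.ND44

variable {ι : Type} [Fintype ι] [DecidableEq ι] {F : Type*} [Field F] [Fintype F]
  {Q : QuadraticForm F (ι → F)}

/-- G1 [S]. Double perp inside a nondegenerate subspace. -/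
theorem perp_perp {W : Submodule F (ι → F)} (hW : NdOn Q W) {a v : ι → F} (ha : a ∈ W)
    (hv : v ∈ W) (h : ∀ x ∈ W, polar Q a x = 0 → polar Q v x = 0) : ∃ s : F, v = s • a := by
  by_cases ha0 : a = 0
  · refine ⟨0, ?_⟩
    rw [zero_smul]
    apply hW v hv
    intro x hx
    apply h x hx
    rw [ha0, polar_zero_left]
  · obtain ⟨d₀, hd₀W, hd₀⟩ : ∃ d ∈ W, polar Q a d ≠ 0 := by
      by_contra hcon
      push Not at hcon
      exact ha0 (hW a ha hcon)
    obtain ⟨d, hdW, hd⟩ : ∃ d ∈ W, polar Q a d = 1 := by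
      refine ⟨(polar Q a d₀)⁻¹ • d₀, W.smul_mem _ hd₀W, ?_⟩
      rw [polar_smul_right, smul_eq_mul, inv_mul_cancel₀ hd₀]
    refine ⟨polar Q v d, ?_⟩
    have h0 : v - polar Q v d • a = 0 := by
      apply hW _ (W.sub_mem hv (W.smul_mem _ ha))
      intro x hx
      have h1 : polar Q v (x - polar Q a x • d) = 0 := by
        apply h _ (W.sub_mem hx (W.smul_mem _ hdW))
        rw [polar_sub_right, polar_smul_right, hd, smul_eq_mul, mul_one, sub_self]
      rw [polar_sub_right, polar_smul_right, smul_eq_mul, sub_eq_zero] at h1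
      rw [polar_sub_left, polar_smul_left, smul_eq_mul, h1]
      ring
    exact sub_eq_zero.mp h0

/-- G2 [S-M]. A nondegenerate subspace of dimension `≥ 3` is spanned by its singular vectors. -/
theorem sing_span {W : Submodule F (ι → F)} (hW : NdOn Q W) (h3 : 3 ≤ finrank F W)
    (X : Submodule F (ι → F)) (hX : ∀ p ∈ W, Q p = 0 → p ∈ X) : W ≤ X := by
  obtain ⟨e, heW, he0, hQe⟩ := exists_singular_in Q W h3
  obtain ⟨f, hfW, hQf, hef⟩ := exists_hyp_partner Q W hW heW he0 hQe
  have heX : e ∈ X := hX e heW hQe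
  have hfX : f ∈ X := hX f hfW hQf
  intro w hw
  obtain ⟨n, hn⟩ : ∃ n, n = w - polar Q f w • e - polar Q e w • f := ⟨_, rfl⟩
  have hnW : n ∈ W := by
    rw [hn]
    exact W.sub_mem (W.sub_mem hw (W.smul_mem _ heW)) (W.smul_mem _ hfW)
  have hne : polar Q n e = 0 := by
    rw [hn, polar_sub_left, polar_sub_left, polar_smul_left, polar_smul_left,
      polar_self_of_singular Q hQe, polar_comm Q f e, hef, polar_comm Q w e]
    simp
  have hnf : polar Q n f = 0 := by
    rw [hn, polar_sub_left, polar_sub_left, polar_smul_left, polar_smul_left,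
      polar_self_of_singular Q hQf, hef, polar_comm Q w f]
    simp
  have hsing : Q (n + e - Q n • f) = 0 := by
    have h2 : Q (n + e - Q n • f) =
        Q n + Q e + polar Q n e + Q (-(Q n • f)) + polar Q (n + e) (-(Q n • f)) := by
      rw [sub_eq_add_neg, polar, polar]
      ring
    rw [h2, QuadraticMap.map_neg, QuadraticMap.map_smul, hQe, hQf, hne, polar_neg_right,
      polar_smul_right, polar_add_left, hnf, hef]
    simp
  have h1 : n + e - Q n • f ∈ X :=
    hX _ (W.sub_mem (W.add_mem hnW heW) (W.smul_mem _ hfW)) hsing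
  have hnX : n ∈ X := by
    have h2 : n = (n + e - Q n • f) - e + Q n • f := by abel
    rw [h2]
    exact X.add_mem (X.sub_mem h1 heX) (X.smul_mem _ hfX)
  have hw' : w = n + polar Q f w • e + polar Q e w • f := by
    rw [hn]; abel
  rw [hw']
  exact X.add_mem (X.add_mem hnX (X.smul_mem _ heX)) (X.smul_mem _ hfX)

end Cfsg.Agent.Lib.Helper12.ND44Leaf
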