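import Cfsg.Agent.Lib.Helper29.ND44Defs
import Cfsg.Agent.Lib.Helper12.ND44G12

/-!
helper12, S5825 conjunct (5) (project ND44 of helper29): leaves **G3 `span_sing`** and **G4 `exists_ns_perp`**
(pure geometry of `T = W ∩ a^⊥` for a nonsingular `a` in a nondegenerate subspace `W` of dimension `≥ 4`).
-/

set_option autoImplicit false
set_option linter.unusedSectionVars false
set_option linter.unusedVariables false
set_option linter.unusedSimpArgs false

namespace Cfsg.Agent.Lib.Helper12.ND44Leaf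

open Module QuadraticMap Matrix Cfsg.Agent.Lib.Helper25.CD Cfsg.Agent.Lib.Helper25.Spin
  Cfsg.Agent.Lib.Helper25.Fam Cfsg.Agent.Lib.Helper25.Siegel
  Cfsg.Agent.Lib.Helper25.PS Cfsg.Agent.Lib.Helper25.OGeom Cfsg.Agent.Lib.Helper15
  Cfsg.Agent.Lib.Helper5.TSMax Cfsg.Agent.Lib.Helper5.NSMax Cfsg.Agent.Lib.Helper5.PairMax
  Cfsg.Agent.Lib.Helper5.NDMax Cfsg.Agent.Lib.Helper10.NDMax4 Cfsg.Agent.Lib.Helper29.ND44

variable {ι : Type} [Fintype ι] [DecidableEq ι] {F : Type*} [Field F] [Fintype F]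
  {Q : QuadraticForm F (ι → F)}

/-- the part of `W` orthogonal to `a` (no nondegeneracy needed): the dimension drops by at most one -/
theorem finrank_inf_ker_ge (W : Submodule F (ι → F)) (φ : (ι → F) →ₗ[F] F) :
    finrank F W ≤ finrank F (W ⊓ LinearMap.ker φ : Submodule F (ι → F)) + 1 := by
  have h1 := LinearMap.finrank_range_add_finrank_ker (φ ∘ₗ W.subtype)
  have h2 : finrank F (LinearMap.range (φ ∘ₗ W.subtype)) ≤ 1 := by
    have := Submodule.finrank_le (LinearMap.range (φ ∘ₗ W.subtype))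
    rwa [Module.finrank_self] at this
  have h3 : finrank F (LinearMap.ker (φ ∘ₗ W.subtype)) =
      finrank F (W ⊓ LinearMap.ker φ : Submodule F (ι → F)) := by
    rw [LinearMap.ker_comp, ← Submodule.map_comap_subtype, Submodule.finrank_map_subtype_eq]
  omega

/-- the subspace `T = W ∩ a^⊥` -/
def perpIn (Q : QuadraticForm F (ι → F)) (W : Submodule F (ι → F)) (a : ι → F) :
    Submodule F (ι → F) := W ⊓ LinearMap.ker (polarBilin Q a)

theorem mem_perpIn {W : Submodule F (ι → F)} {a x : ι → F} :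
    x ∈ perpIn Q W a ↔ x ∈ W ∧ polar Q a x = 0 := by
  unfold perpIn
  rw [Submodule.mem_inf, LinearMap.mem_ker, polarBilin_apply_apply]

theorem finrank_perpIn_ge (W : Submodule F (ι → F)) (a : ι → F) :
    finrank F W ≤ finrank F (perpIn Q W a) + 1 := finrank_inf_ker_ge W _

/-- G3 [M]. `W` nondegenerate of dimension `≥ 4`, `a ∈ W` nonsingular, `T = W ∩ a^⊥`: a vector of `W`
orthogonal to all singular vectors of `T` is a multiple of `a`. -/
theorem span_sing {W : Submodule F (ι → F)} (hW : NdOn Q W) (h4 : 4 ≤ finrank F W)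
    {a v : ι → F} (ha : a ∈ W) (hQa : Q a ≠ 0) (hv : v ∈ W)
    (h : ∀ u ∈ W, Q u = 0 → polar Q a u = 0 → polar Q v u = 0) : ∃ s : F, v = s • a := by
  have hT3 : 3 ≤ finrank F (perpIn Q W a) := by
    have := finrank_perpIn_ge (Q := Q) W a
    omega
  obtain ⟨u0, hu0T, hu00, hQu0⟩ := exists_singular_in Q (perpIn Q W a) hT3
  obtain ⟨hu0W, hau0⟩ := mem_perpIn.1 hu0T
  have hu0a : u0 ∉ Submodule.span F {a} := by
    intro hmem
    obtain ⟨c, rfl⟩ := Submodule.mem_span_singleton.1 hmem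
    rw [QuadraticMap.map_smul, smul_eq_mul, mul_eq_zero, mul_self_eq_zero] at hQu0
    rcases hQu0 with hc | hc
    · exact hu00 (by rw [hc, zero_smul])
    · exact hQa hc
  obtain ⟨d, hdW, hdP, hdu0⟩ := exists_dual_nd Q hW hu0W hu0a
  have hda : polar Q d a = 0 := hdP a (Submodule.mem_span_singleton_self a) ha
  obtain ⟨f0, hf0⟩ : ∃ f0, f0 = d - Q d • u0 := ⟨_, rfl⟩
  have hf0W : f0 ∈ W := by
    rw [hf0]; exact W.sub_mem hdW (W.smul_mem _ hu0W)
  have haf0 : polar Q a f0 = 0 := by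
    rw [hf0, polar_sub_right, polar_smul_right, hau0, polar_comm Q a d, hda]
    simp
  have hQf0 : Q f0 = 0 := by
    have h2 : Q (d - Q d • u0) = Q d + Q (-(Q d • u0)) + polar Q d (-(Q d • u0)) := by
      rw [sub_eq_add_neg, polar]
      ring
    rw [hf0, h2, QuadraticMap.map_neg, QuadraticMap.map_smul, hQu0, polar_neg_right,
      polar_smul_right, hdu0]
    simp
  have hu0f0 : polar Q u0 f0 = 1 := by
    rw [hf0, polar_sub_right, polar_smul_right, polar_self_of_singular Q hQu0, polar_comm Q u0 d,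
      hdu0]
    simp
  have hvu0 : polar Q v u0 = 0 := h u0 hu0W hQu0 hau0
  have hvf0 : polar Q v f0 = 0 := h f0 hf0W hQf0 haf0
  apply perp_perp hW ha hv
  intro t htW hat
  obtain ⟨n, hn⟩ : ∃ n, n = t - polar Q f0 t • u0 - polar Q u0 t • f0 := ⟨_, rfl⟩
  have hnW : n ∈ W := by
    rw [hn]
    exact W.sub_mem (W.sub_mem htW (W.smul_mem _ hu0W)) (W.smul_mem _ hf0W)
  have han : polar Q a n = 0 := by
    rw [hn, polar_sub_right, polar_sub_right, polar_smul_right, polar_smul_right, hat, hau0, haf0]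
    simp
  have hne : polar Q n u0 = 0 := by
    rw [hn, polar_sub_left, polar_sub_left, polar_smul_left, polar_smul_left,
      polar_self_of_singular Q hQu0, polar_comm Q f0 u0, hu0f0, polar_comm Q t u0]
    simp
  have hnf : polar Q n f0 = 0 := by
    rw [hn, polar_sub_left, polar_sub_left, polar_smul_left, polar_smul_left,
      polar_self_of_singular Q hQf0, hu0f0, polar_comm Q t f0]
    simp
  have hsing : Q (n + u0 - Q n • f0) = 0 := by
    have h2 : Q (n + u0 - Q n • f0) =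
        Q n + Q u0 + polar Q n u0 + Q (-(Q n • f0)) + polar Q (n + u0) (-(Q n • f0)) := by
      rw [sub_eq_add_neg, polar, polar]
      ring
    rw [h2, QuadraticMap.map_neg, QuadraticMap.map_smul, hQu0, hQf0, hne, polar_neg_right,
      polar_smul_right, polar_add_left, hnf, hu0f0]
    simp
  have h1 : polar Q v (n + u0 - Q n • f0) = 0 := by
    apply h _ (W.sub_mem (W.add_mem hnW hu0W) (W.smul_mem _ hf0W)) hsing
    rw [polar_sub_right, polar_add_right, polar_smul_right, han, hau0, haf0]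
    simp
  have hvn : polar Q v n = 0 := by
    rw [polar_sub_right, polar_add_right, polar_smul_right, hvu0, hvf0] at h1
    simpa using h1
  have ht' : t = n + polar Q f0 t • u0 + polar Q u0 t • f0 := by
    rw [hn]; abel
  rw [ht', polar_add_right, polar_add_right, polar_smul_right, polar_smul_right, hvn, hvu0, hvf0]
  simp

/-- G4 [M]. Odd characteristic: for `u` singular in `T = W ∩ a^⊥` (`a` nonsingular) there is a
NONSINGULAR `w ∈ T ∩ u^⊥`. -/
theorem exists_ns_perp {W : Submodule F (ι → F)} (hW : NdOn Q W) (h4 : 4 ≤ finrank F W)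
    (h2 : (2 : F) ≠ 0) {a u : ι → F} (ha : a ∈ W) (hQa : Q a ≠ 0) (hu : u ∈ W) (hu0 : u ≠ 0)
    (hQu : Q u = 0) (hua : polar Q u a = 0) :
    ∃ w ∈ W, polar Q u w = 0 ∧ polar Q w a = 0 ∧ Q w ≠ 0 := by
  have hT3 : 3 ≤ finrank F (perpIn Q W a) := by
    have := finrank_perpIn_ge (Q := Q) W a
    omega
  have haa : polar Q a a ≠ 0 := by
    rw [Cfsg.Agent.Lib.Helper25.MaxTS.polar_self]
    exact mul_ne_zero h2 hQa
  -- `T` is nondegenerate
  have hT : NdOn Q (perpIn Q W a) := by
    intro t ht hall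
    obtain ⟨htW, hat⟩ := mem_perpIn.1 ht
    apply hW t htW
    intro x hx
    have hx' : x - (polar Q a x / polar Q a a) • a ∈ perpIn Q W a := by
      rw [mem_perpIn]
      refine ⟨W.sub_mem hx (W.smul_mem _ ha), ?_⟩
      rw [polar_sub_right, polar_smul_right, smul_eq_mul, div_mul_cancel₀ _ haa, sub_self]
    have h1 := hall _ hx'
    rw [polar_sub_right, polar_smul_right, polar_comm Q t a, hat, smul_zero, sub_zero] at h1
    exact h1
  have huT : u ∈ perpIn Q W a := mem_perpIn.2 ⟨hu, by rw [polar_comm]; exact hua⟩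
  obtain ⟨f0, hf0T, hQf0, huf0⟩ := exists_hyp_partner Q (perpIn Q W a) hT huT hu0 hQu
  have hNnd := perpPair_nd Q (perpIn Q W a) hT huT hf0T hQu hQf0 huf0
  have hNfr := perpPair_finrank Q (perpIn Q W a) huT hf0T hQu hQf0 huf0
  have hNpos : 0 < finrank F (perpPair Q (perpIn Q W a) u f0) := by omega
  obtain ⟨⟨n, hnN⟩, hn0'⟩ := Module.finrank_pos_iff_exists_ne_zero.1 hNpos
  have hn0 : n ≠ 0 := fun h0 => hn0' (Subtype.ext h0)
  obtain ⟨n', hn'N, hnn'⟩ : ∃ n' ∈ perpPair Q (perpIn Q W a) u f0, polar Q n n' ≠ 0 := by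
    by_contra hcon
    push Not at hcon
    exact hn0 (hNnd n hnN hcon)
  have key : ∀ w ∈ perpPair Q (perpIn Q W a) u f0, Q w ≠ 0 →
      ∃ w ∈ W, polar Q u w = 0 ∧ polar Q w a = 0 ∧ Q w ≠ 0 := by
    intro w hw hQw
    obtain ⟨hwT, huw, -⟩ := (mem_perpPair Q _ u f0 w).1 hw
    obtain ⟨hwW, haw⟩ := mem_perpIn.1 hwT
    exact ⟨w, hwW, huw, by rw [polar_comm]; exact haw, hQw⟩
  by_cases hQn : Q n = 0
  · by_cases hQn' : Q n' = 0
    · apply key (n + n') (Submodule.add_mem _ hnN hn'N)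
      have h3 : Q (n + n') = Q n + Q n' + polar Q n n' := by
        rw [polar]; ring
      rw [h3, hQn, hQn', zero_add, zero_add]
      exact hnn'
    · exact key n' hn'N hQn'
  · exact key n hnN hQn

end Cfsg.Agent.Lib.Helper12.ND44Leaf
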