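import Mathlib
import Cfsg.Prelude.Def_GeometricClasses
import Cfsg.Agent.Lib.Helper18.ReidxDefs

/-!
REINDEX / TRANSPORT block (helper18's market, shared by S5662 and S5673): packet P7 = global form predicates
(`isBilinearForm_rf`, `isNondegenerateForm_rf`, `isSymplecticForm_rf`, `isUnitaryForm_rf`, `isNondegenerateQuadraticForm_rq`,
`isSelfAdjointFor_ra`, `isAdjointClosedFor_ra`, `gramMatrix_rf`), EXACT signatures of `notes/Reidx_leaves.lean`.  Taker: helper12.
By-products: `rv_symm_rm_mulVec`, `rv_symm_single`, `polar_rq'`.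
-/

set_option autoImplicit false
set_option linter.unusedSectionVars false
set_option linter.unusedVariables false

namespace Cfsg.Agent.Lib.Helper12.ReidxLeaf
open Matrix Cfsg Cfsg.Geo Cfsg.Agent.Lib.Helper18.Reidx
open scoped Kronecker

variable {F : Type*} [Field F] {ι κ : Type} [Fintype ι] [DecidableEq ι] [Fintype κ] [DecidableEq κ]

/-- pulling back `rm e M *ᵥ u` -/
lemma rv_symm_rm_mulVec (e : ι ≃ κ) (M : Matrix ι ι F) (u : κ → F) :
    (rv e).symm (rm e M *ᵥ u) = M *ᵥ (rv e).symm u := by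
  apply (rv (F := F) e).injective
  rw [LinearEquiv.apply_symm_apply, ← rm_mulVec, LinearEquiv.apply_symm_apply]

/-- pulling back a basis vector -/
lemma rv_symm_single (e : ι ≃ κ) (a : κ) (c : F) :
    (rv (F := F) e).symm (Pi.single a c) = Pi.single (e.symm a) c := by
  ext i
  rw [rv_symm_apply, Pi.single_apply, Pi.single_apply]
  by_cases h : e i = a
  · rw [if_pos h, if_pos ((Equiv.eq_symm_apply e).2 h)]
  · rw [if_neg h, if_neg (fun h' => h ((Equiv.eq_symm_apply e).1 h'))]

/-- the polar form of a pushed one-argument form -/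
lemma polar_rq' (e : ι ≃ κ) (Q : (ι → F) → F) :
    QuadraticMap.polar (rq e Q) = rf e (QuadraticMap.polar Q) := by
  funext u v
  unfold QuadraticMap.polar rq rf
  rw [map_add]

theorem isBilinearForm_rf (e : ι ≃ κ) {f : (ι → F) → (ι → F) → F} (h : IsBilinearForm f) :
    IsBilinearForm (rf e f) := by
  refine ⟨?_, ?_, ?_, ?_⟩
  · intro x y v
    unfold rf
    rw [map_add]
    exact h.add_left _ _ _
  · intro c x v
    unfold rf
    rw [map_smul]
    exact h.smul_left _ _ _
  · intro v x y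
    unfold rf
    rw [map_add]
    exact h.add_right _ _ _
  · intro c v x
    unfold rf
    rw [map_smul]
    exact h.smul_right _ _ _

theorem isNondegenerateForm_rf (e : ι ≃ κ) {f : (ι → F) → (ι → F) → F} (h : IsNondegenerateForm f) :
    IsNondegenerateForm (rf e f) := by
  intro v hv
  have hv' : (rv (F := F) e).symm v ≠ 0 := by
    intro h0
    exact hv ((LinearEquiv.map_eq_zero_iff _).1 h0)
  obtain ⟨⟨x, hx⟩, ⟨y, hy⟩⟩ := h _ hv'
  refine ⟨⟨rv e x, ?_⟩, ⟨rv e y, ?_⟩⟩
  · unfold rf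
    rw [LinearEquiv.symm_apply_apply]
    exact hx
  · unfold rf
    rw [LinearEquiv.symm_apply_apply]
    exact hy

theorem isSymplecticForm_rf (e : ι ≃ κ) {f : (ι → F) → (ι → F) → F} (h : IsSymplecticForm f) :
    IsSymplecticForm (rf e f) :=
  ⟨isBilinearForm_rf e h.bilinear, fun v w => h.skew _ _, fun v => h.alternating _,
    isNondegenerateForm_rf e h.nondegenerate⟩

theorem isUnitaryForm_rf (e : ι ≃ κ) {σ : F ≃+* F} {f : (ι → F) → (ι → F) → F} (h : IsUnitaryForm σ f) :
    IsUnitaryForm σ (rf e f) := by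
  refine ⟨h.ne_refl, h.involutive, ?_, ?_, fun v w => h.herm _ _, isNondegenerateForm_rf e h.nondegenerate⟩
  · intro x y v
    unfold rf
    rw [map_add]
    exact h.add_left _ _ _
  · intro c x v
    unfold rf
    rw [map_smul]
    exact h.smul_left _ _ _

theorem isNondegenerateQuadraticForm_rq (e : ι ≃ κ) {Q : (ι → F) → F} (h : IsNondegenerateQuadraticForm Q) :
    IsNondegenerateQuadraticForm (rq e Q) := by
  refine ⟨?_, ?_, ?_⟩
  · intro c v
    unfold rq
    rw [map_smul]
    exact h.smul _ _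
  · rw [polar_rq']
    exact isBilinearForm_rf e h.polar_bilinear
  · rw [polar_rq']
    exact isNondegenerateForm_rf e h.nondegenerate

theorem isSelfAdjointFor_ra (e : ι ≃ κ) {f : (ι → F) → (ι → F) → F} {K : Subalgebra F (Matrix ι ι F)}
    (h : IsSelfAdjointFor f K) : IsSelfAdjointFor (rf e f) (ra e K) := by
  intro k hk u v
  obtain ⟨k0, hk0, rfl⟩ := mem_ra.1 hk
  unfold rf
  rw [rv_symm_rm_mulVec, rv_symm_rm_mulVec]
  exact h k0 hk0 _ _

theorem isAdjointClosedFor_ra (e : ι ≃ κ) {f : (ι → F) → (ι → F) → F} {K : Subalgebra F (Matrix ι ι F)}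
    (h : IsAdjointClosedFor f K) : IsAdjointClosedFor (rf e f) (ra e K) := by
  intro k hk
  obtain ⟨k0, hk0, rfl⟩ := mem_ra.1 hk
  obtain ⟨k1, hk1, h1⟩ := h k0 hk0
  refine ⟨rm e k1, mem_ra.2 ⟨k1, hk1, rfl⟩, fun u v => ?_⟩
  unfold rf
  rw [rv_symm_rm_mulVec, rv_symm_rm_mulVec]
  exact h1 _ _

theorem gramMatrix_rf (e : ι ≃ κ) (f : (ι → F) → (ι → F) → F) : gramMatrix (rf e f) = rm e (gramMatrix f) := by
  ext a b
  rw [rm_apply]
  unfold gramMatrix rf
  rw [rv_symm_single, rv_symm_single]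

end Cfsg.Agent.Lib.Helper12.ReidxLeaf
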