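import Mathlib
import Cfsg.Prelude.Def_GeometricClasses
import Cfsg.Agent.Lib.Helper18.ReidxDefs
import Cfsg.Agent.Lib.Helper12.ReidxP7

/-!
REINDEX / TRANSPORT block (helper18's market, shared by S5662 and S5673): packet P5 = groups of isometries and similarities
(`rg_preserving`, `rg_isometryGroup`, `rg_similarityGroup`, `rg_quadSimilarityGroup`, `fixesForm_rm`, `fixesQuadForm_rm`),
EXACT signatures of `notes/Reidx_leaves.lean`.  Taker: helper12.
By-products: `rg_eq_of_iff` (a subgroup of `GL κ` whose members are characterised through `glReindex e`), `glReindex_mulVec_rv`.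
-/

set_option autoImplicit false
set_option linter.unusedSectionVars false
set_option linter.unusedVariables false

namespace Cfsg.Agent.Lib.Helper12.ReidxLeaf
open Matrix Cfsg Cfsg.Geo Cfsg.Agent.Lib.Helper18.Reidx
open scoped Kronecker

variable {F : Type*} [Field F] {ι κ : Type} [Fintype ι] [DecidableEq ι] [Fintype κ] [DecidableEq κ]

/-- to identify `rg e H` it is enough to test membership on the elements `glReindex e h` -/
lemma rg_eq_of_iff (e : ι ≃ κ) {H : Subgroup (GL ι F)} {H' : Subgroup (GL κ F)}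
    (hiff : ∀ h : GL ι F, glReindex e h ∈ H' ↔ h ∈ H) : rg e H = H' := by
  ext g
  rw [mem_rg]
  constructor
  · rintro ⟨h, hh, rfl⟩
    exact (hiff h).2 hh
  · intro hg
    refine ⟨(glReindex e).symm g, (hiff _).1 ?_, MulEquiv.apply_symm_apply _ _⟩
    rw [MulEquiv.apply_symm_apply]
    exact hg

/-- the action of `glReindex e h` on a pushed vector -/
lemma glReindex_mulVec_rv (e : ι ≃ κ) (h : GL ι F) (v : ι → F) :
    ((glReindex e h : GL κ F) : Matrix κ κ F) *ᵥ rv e v = rv e ((h : Matrix ι ι F) *ᵥ v) := by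
  rw [glReindex_val, rm_mulVec]

/-- the action of `glReindex e h`, pulled back -/
lemma rv_symm_glReindex_mulVec (e : ι ≃ κ) (h : GL ι F) (u : κ → F) :
    (rv e).symm (((glReindex e h : GL κ F) : Matrix κ κ F) *ᵥ u) = (h : Matrix ι ι F) *ᵥ (rv e).symm u := by
  rw [glReindex_val, rv_symm_rm_mulVec]

theorem rg_preserving (e : ι ≃ κ) (f : (ι → F) → (ι → F) → F) :
    rg e (preserving (Units.coeHom (Matrix ι ι F)) f) = preserving (Units.coeHom (Matrix κ κ F)) (rf e f) := by
  apply rg_eq_of_iff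
  intro h
  constructor
  · intro H u v
    have := H (rv e u) (rv e v)
    rw [Units.coeHom_apply, glReindex_mulVec_rv, glReindex_mulVec_rv, rf_rv, rf_rv] at this
    exact this
  · intro H u v
    rw [Units.coeHom_apply]
    unfold rf
    rw [rv_symm_glReindex_mulVec, rv_symm_glReindex_mulVec]
    exact H _ _

theorem rg_isometryGroup (e : ι ≃ κ) (Q : (ι → F) → F) :
    rg e (isometryGroup F Q) = isometryGroup F (rq e Q) :=
  rg_preserving e (fun u _ => Q u)

theorem rg_similarityGroup (e : ι ≃ κ) (f : (ι → F) → (ι → F) → F) :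
    rg e (similarityGroup f) = similarityGroup (rf e f) := by
  apply rg_eq_of_iff
  intro h
  constructor
  · rintro ⟨c, H⟩
    refine ⟨c, fun u v => ?_⟩
    have := H (rv e u) (rv e v)
    rw [glReindex_mulVec_rv, glReindex_mulVec_rv, rf_rv, rf_rv] at this
    exact this
  · rintro ⟨c, H⟩
    refine ⟨c, fun u v => ?_⟩
    unfold rf
    rw [rv_symm_glReindex_mulVec, rv_symm_glReindex_mulVec]
    exact H _ _

theorem rg_quadSimilarityGroup (e : ι ≃ κ) (Q : (ι → F) → F) :
    rg e (quadSimilarityGroup Q) = quadSimilarityGroup (rq e Q) := by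
  apply rg_eq_of_iff
  intro h
  constructor
  · rintro ⟨c, H⟩
    refine ⟨c, fun v => ?_⟩
    have := H (rv e v)
    rw [glReindex_mulVec_rv, rq_rv, rq_rv] at this
    exact this
  · rintro ⟨c, H⟩
    refine ⟨c, fun v => ?_⟩
    unfold rq
    rw [rv_symm_glReindex_mulVec]
    exact H _

theorem fixesForm_rm (e : ι ≃ κ) {S : Set (Matrix ι ι F)} {f : (ι → F) → (ι → F) → F} (h : FixesForm S f) :
    FixesForm (rm e '' S) (rf e f) := by
  rintro _ ⟨s, hs, rfl⟩ u v
  unfold rf
  rw [rv_symm_rm_mulVec, rv_symm_rm_mulVec]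
  exact h s hs _ _

theorem fixesQuadForm_rm (e : ι ≃ κ) {S : Set (Matrix ι ι F)} {Q : (ι → F) → F} (h : FixesQuadForm S Q) :
    FixesQuadForm (rm e '' S) (rq e Q) := by
  rintro _ ⟨s, hs, rfl⟩ v
  unfold rq
  rw [rv_symm_rm_mulVec]
  exact h s hs _

end Cfsg.Agent.Lib.Helper12.ReidxLeaf
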