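import Mathlib
import Cfsg.Prelude.Def_GeometricClasses
import Cfsg.Agent.Lib.Lead.OEQF
import Cfsg.Agent.Lib.Helper9.PlusPlane
import Cfsg.Agent.Lib.Helper25.OmegaNonMax
import Cfsg.Agent.Lib.Helper18.OAschTR
import Cfsg.Agent.Lib.Helper1.OmMN13

/-!
OMEGA-EVEN project (planner lead), market OE-ROWS, Block T (part): T1 `exists_typeOn`, T2 `typeOn_unique`, T5 `typeOn_of_isometric`
(exact signatures of `notes/OmEven_rows_leaves.lean`).  Taker: helper12.
By-products: `restrictQF Q W` (`= Q.comp W.subtype`), `restrictQF_nondeg` (non-degenerate polar form on a non-degenerate subspace),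
`typeOn_iff_restrict`.
-/

set_option autoImplicit false
set_option linter.unusedSectionVars false
set_option linter.unusedVariables false

namespace Cfsg.Agent.Lib.Helper12.OELeaf

open Cfsg Cfsg.Geo Matrix Module QuadraticMap Cfsg.Agent.Lib.Lead.OE

section generic
variable {ι : Type} [Fintype ι] [DecidableEq ι] {F : Type*} [Field F] [Fintype F]
  (Q : QuadraticForm F (ι → F))

/-- the restriction of `Q` to `W` as a quadratic form on `W` -/
noncomputable def restrictQF (W : Submodule F (ι → F)) : QuadraticForm F W := Q.comp W.subtype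

lemma restrictQF_apply (W : Submodule F (ι → F)) (w : W) : restrictQF Q W w = Q (w : ι → F) := rfl

lemma polar_restrictQF (W : Submodule F (ι → F)) (x y : W) :
    polar ⇑(restrictQF Q W) x y = polar ⇑Q (x : ι → F) (y : ι → F) := rfl

/-- the restricted form of a non-degenerate subspace has non-degenerate polar form -/
lemma restrictQF_nondeg {W : Submodule F (ι → F)} (hW : IsNondegenerateOn (polar ⇑Q) W) :
    (polarBilin (restrictQF Q W)).Nondegenerate := by
  constructor
  · intro x hx
    by_contra hne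
    have hne' : (x : ι → F) ≠ 0 := fun h => hne (Subtype.ext h)
    obtain ⟨-, ⟨y, hy, hxy⟩⟩ := hW x x.2 hne'
    apply hxy
    have := hx ⟨y, hy⟩
    rwa [polarBilin_apply_apply, polar_restrictQF] at this
  · intro x hx
    by_contra hne
    have hne' : (x : ι → F) ≠ 0 := fun h => hne (Subtype.ext h)
    obtain ⟨⟨y, hy, hyx⟩, -⟩ := hW x x.2 hne'
    apply hyx
    have := hx ⟨y, hy⟩
    rwa [polarBilin_apply_apply, polar_restrictQF] at this

/-- T1. -/
theorem exists_typeOn {W : Submodule F (ι → F)} (hW : IsNondegenerateOn (polar ⇑Q) W)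
    (hev : Even (finrank F W)) : ∃ ε : ℤ, (ε = 1 ∨ ε = -1) ∧ TypeOn Q W ε := by
  obtain ⟨m, hm⟩ := hev
  have hdim : finrank F W = 2 * m := by rw [hm]; ring
  obtain ⟨ε, hε, hty⟩ := Cfsg.Agent.Lib.Helper15.QuadType.hasType_of_nondeg (restrictQF Q W)
    (restrictQF_nondeg Q hW) m hdim
  exact ⟨ε, hε, m, hdim, hty⟩

/-- T2. -/
theorem typeOn_unique {W : Submodule F (ι → F)} {ε ε' : ℤ} (h : TypeOn Q W ε) (h' : TypeOn Q W ε') :
    ε = ε' := by
  obtain ⟨m, hm, hty⟩ := h
  obtain ⟨m', hm', hty'⟩ := h'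
  have : m = m' := by omega
  subst this
  exact Cfsg.Agent.Lib.Helper15.QuadType.HasType.unique hty hty'

/-- T5. -/
theorem typeOn_of_isometric {A B : Submodule F (ι → F)} (hiso : AreIsometricFor ⇑Q A B) {ε : ℤ}
    (h : TypeOn Q A ε) : TypeOn Q B ε := by
  obtain ⟨e, he⟩ := hiso
  obtain ⟨m, hm, hty⟩ := h
  refine ⟨m, by rw [← hm]; exact e.finrank_eq.symm, ?_⟩
  exact Cfsg.Agent.Lib.Helper15.QuadType.HasType.congr hty e.toEquiv (fun w => he w)

end generic

end Cfsg.Agent.Lib.Helper12.OELeaf
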