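import Mathlib
import Cfsg.Agent.Lib.Helper21.Frobenius

/-!
Same-order counts of a finite group (helper12): for `m k = #{g | orderOf g = k}` the arithmetic
constraints used in `nse`-recognition arguments, packaged as `NseSys (Nat.card G) m`:
`φ(k) ∣ m k`, Frobenius' `d ∣ ∑_{k ∣ d} m k`, `∑ m = |G|`, divisor-closedness, Cauchy, and the
count of generators of cyclic Sylow subgroups.
-/

set_option autoImplicit false

namespace Cfsg.Agent.Lib.Helper12.Nse

universe u

/-- if all fibers of `F` have size divisible by `c`, so has the source -/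
theorem dvd_natCard_of_fibers {Ω T : Type*} [Finite Ω] [Finite T] (F : Ω → T) (c : ℕ)
    (h : ∀ t, c ∣ Nat.card {w : Ω // F w = t}) : c ∣ Nat.card Ω := by
  classical
  have := Fintype.ofFinite T
  rw [Nat.card_congr (Equiv.sigmaFiberEquiv F).symm, Nat.card_sigma]
  exact Finset.dvd_sum (fun t _ => h t)

/-- if all fibers of `F` have size `c`, the source has `c * |T|` elements -/
theorem natCard_eq_mul_of_fibers {Ω T : Type*} [Finite Ω] [Finite T] (F : Ω → T) (c : ℕ)
    (h : ∀ t, Nat.card {w : Ω // F w = t} = c) : Nat.card Ω = c * Nat.card T := by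
  classical
  have := Fintype.ofFinite T
  rw [Nat.card_congr (Equiv.sigmaFiberEquiv F).symm, Nat.card_sigma]
  simp [h, Nat.card_eq_fintype_card, mul_comm]

theorem natCard_subtype_eq_filter {α : Type*} [Fintype α] (p : α → Prop) [DecidablePred p] :
    Nat.card {a : α // p a} = (Finset.univ.filter p).card := by
  rw [Nat.card_eq_fintype_card, Fintype.card_subtype]

theorem exists_of_card_subtype_ne_zero {α : Type*} {P : α → Prop}
    (h : Nat.card {a : α // P a} ≠ 0) : ∃ a, P a := by
  by_contra hne
  push Not at hne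
  have : IsEmpty {a : α // P a} := ⟨fun a => hne a.1 a.2⟩
  exact h Nat.card_of_isEmpty

theorem card_subtype_ne_zero_of_exists {α : Type*} [Finite α] {P : α → Prop}
    (h : ∃ a, P a) : Nat.card {a : α // P a} ≠ 0 := by
  obtain ⟨a, ha⟩ := h
  have : Nonempty {a : α // P a} := ⟨⟨a, ha⟩⟩
  exact Nat.card_pos.ne'

/-- generators of a cyclic group of order `k`, counted inside a subgroup -/
theorem card_orderOf_subgroup_of_isCyclic {G : Type*} [Group G] [Finite G] (H : Subgroup G)
    [IsCyclic H] (k : ℕ) (hk : Nat.card H = k) :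
    Nat.card {x : H // orderOf x = k} = Nat.totient k := by
  classical
  have := Fintype.ofFinite H
  rw [natCard_subtype_eq_filter]
  apply IsCyclic.card_orderOf_eq_totient
  rw [← Nat.card_eq_fintype_card, hk]

/-- an element of order `|H|` inside `H` generates `H` -/
theorem zpowers_eq_of_mem_of_orderOf {G : Type*} [Group G] [Finite G] (H : Subgroup G) (x : G)
    (hx : x ∈ H) (ho : orderOf x = Nat.card H) : Subgroup.zpowers x = H := by
  apply Subgroup.eq_of_le_of_card_ge
  · rw [Subgroup.zpowers_le]; exact hx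
  · rw [Nat.card_zpowers, ho]

/-- `φ(k)` divides the number of elements of order `k` -/
theorem totient_dvd_card_orderOf {G : Type*} [Group G] [Finite G] (k : ℕ) :
    Nat.totient k ∣ Nat.card {g : G // orderOf g = k} := by
  classical
  apply dvd_natCard_of_fibers (T := Subgroup G) (fun g => Subgroup.zpowers g.1)
  intro C
  by_cases hC : ∃ g0 : G, orderOf g0 = k ∧ Subgroup.zpowers g0 = C
  · obtain ⟨g0, hg0, rfl⟩ := hC
    have hcard : Nat.card (Subgroup.zpowers g0) = k := by rw [Nat.card_zpowers, hg0]
    have e : {w : {g : G // orderOf g = k} // Subgroup.zpowers w.1 = Subgroup.zpowers g0} ≃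
        {x : Subgroup.zpowers g0 // orderOf x = k} :=
      { toFun := fun w => ⟨⟨w.1.1, by
          have h1 : w.1.1 ∈ Subgroup.zpowers w.1.1 := Subgroup.mem_zpowers _
          rw [w.2] at h1
          exact h1⟩, by
          rw [Subgroup.orderOf_mk]; exact w.1.2⟩
        invFun := fun x => ⟨⟨x.1.1, by rw [Subgroup.orderOf_coe]; exact x.2⟩, by
          apply zpowers_eq_of_mem_of_orderOf _ _ x.1.2
          rw [Subgroup.orderOf_coe, x.2, hcard]⟩
        left_inv := fun w => rfl
        right_inv := fun x => rfl }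
    rw [Nat.card_congr e, card_orderOf_subgroup_of_isCyclic _ k hcard]
  · have : IsEmpty {w : {g : G // orderOf g = k} // Subgroup.zpowers w.1 = C} :=
      ⟨fun w => hC ⟨w.1.1, w.1.2, w.2⟩⟩
    rw [Nat.card_of_isEmpty]
    exact dvd_zero _

/-- if some element has order `p ^ a`, the full `p`-part of `|G|`, then the number of such elements is
`φ(p ^ a)` times the number of Sylow `p`-subgroups -/
theorem card_orderOf_prime_pow_sylow {G : Type*} [Group G] [Finite G] (p a : ℕ) [Fact p.Prime]
    (ha : (Nat.card G).factorization p = a) (g0 : G) (hg0 : orderOf g0 = p ^ a) :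
    Nat.card {g : G // orderOf g = p ^ a} = Nat.totient (p ^ a) * Nat.card (Sylow p G) := by
  classical
  have hcard : ∀ g : G, orderOf g = p ^ a →
      Nat.card (Subgroup.zpowers g) = p ^ (Nat.card G).factorization p := by
    intro g hg
    rw [Nat.card_zpowers, hg, ha]
  let F : {g : G // orderOf g = p ^ a} → Sylow p G :=
    fun g => Sylow.ofCard (Subgroup.zpowers g.1) (hcard g.1 g.2)
  apply natCard_eq_mul_of_fibers F
  intro P
  have hPcard : Nat.card P = p ^ a := by rw [Sylow.card_eq_multiplicity, ha]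
  let P0 : Sylow p G := F ⟨g0, hg0⟩
  have : IsCyclic (P0 : Subgroup G) := by
    change IsCyclic (Subgroup.zpowers g0)
    infer_instance
  have : IsCyclic (P : Subgroup G) := (MulEquiv.isCyclic (Sylow.equiv P0 P)).mp inferInstance
  have e : {w : {g : G // orderOf g = p ^ a} // F w = P} ≃
      {x : (P : Subgroup G) // orderOf x = p ^ a} :=
    { toFun := fun w => ⟨⟨w.1.1, by
          have h1 : w.1.1 ∈ (F w.1 : Subgroup G) := Subgroup.mem_zpowers _
          rw [w.2] at h1
          exact h1⟩, by
          rw [Subgroup.orderOf_mk]; exact w.1.2⟩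
      invFun := fun x => ⟨⟨x.1.1, by rw [Subgroup.orderOf_coe]; exact x.2⟩, by
          apply Sylow.ext
          change Subgroup.zpowers x.1.1 = (P : Subgroup G)
          apply zpowers_eq_of_mem_of_orderOf _ _ x.1.2
          rw [Subgroup.orderOf_coe, x.2, hPcard]⟩
      left_inv := fun w => rfl
      right_inv := fun x => rfl }
  rw [Nat.card_congr e, card_orderOf_subgroup_of_isCyclic _ _ hPcard]

/-- the arithmetic constraints satisfied by the same-order counts `m` of a group of order `N` -/
structure NseSys (N : ℕ) (m : ℕ → ℕ) : Prop where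
  Npos : 0 < N
  m_one : m 1 = 1
  tot : ∀ k, Nat.totient k ∣ m k
  frob : ∀ d, d ∣ N → d ∣ ∑ k ∈ d.divisors, m k
  sum : ∀ L : Finset ℕ, (∀ k, m k ≠ 0 → k ∈ L) → ∑ k ∈ L, m k = N
  dvd : ∀ k, m k ≠ 0 → k ∣ N
  closed : ∀ k d, m k ≠ 0 → d ∣ k → m d ≠ 0
  cauchy : ∀ p, p.Prime → p ∣ N → m p ≠ 0
  syl : ∀ p a, p.Prime → 0 < a → p ^ a ∣ N → ¬ p ^ (a + 1) ∣ N → m (p ^ a) ≠ 0 →
    ∃ n, m (p ^ a) = Nat.totient (p ^ a) * n ∧ n % p = 1 ∧ n ∣ N / p ^ a

theorem card_orderOf_eq_one' {G : Type*} [Group G] :
    Nat.card {g : G // orderOf g = 1} = 1 := by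
  rw [Nat.card_eq_one_iff_unique]
  refine ⟨⟨?_⟩, ⟨⟨1, orderOf_one⟩⟩⟩
  rintro ⟨a, ha⟩ ⟨b, hb⟩
  rw [orderOf_eq_one_iff] at ha hb
  subst ha; subst hb; rfl

/-- the same-order counts of a finite group form an `NseSys` -/
theorem nseSys_of_group (G : Type u) [Group G] [Finite G] :
    NseSys (Nat.card G) (fun k => Nat.card {g : G // orderOf g = k}) := by
  classical
  have := Fintype.ofFinite G
  have hne : ∀ k, Nat.card {g : G // orderOf g = k} ≠ 0 → ∃ g : G, orderOf g = k :=
    fun k h => exists_of_card_subtype_ne_zero h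
  refine ⟨Nat.card_pos, card_orderOf_eq_one', fun k => totient_dvd_card_orderOf k, ?_, ?_, ?_, ?_,
    ?_, ?_⟩
  · -- Frobenius
    intro d hd
    have hd0 : d ≠ 0 := by
      rintro rfl
      rw [zero_dvd_iff] at hd
      exact Nat.card_pos.ne' hd
    have h1 := Cfsg.Agent.Lib.Helper21.frobenius_dvd_card_pow_eq_one (G := G) d hd
    rw [natCard_subtype_eq_filter] at h1
    have h2 := sum_card_orderOf_eq_card_pow_eq_one (G := G) hd0
    have h3 : ∑ k ∈ d.divisors, Nat.card {g : G // orderOf g = k} =
        (Finset.univ.filter (fun g : G => g ^ d = 1)).card := by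
      rw [← h2]
      apply Finset.sum_congr rfl
      intro k _
      rw [natCard_subtype_eq_filter]
    rw [h3]
    convert h1
  · -- sum
    intro L hL
    have h1 : (Finset.univ : Finset G).card = ∑ k ∈ L, (Finset.univ.filter (fun g : G => orderOf g = k)).card := by
      apply Finset.card_eq_sum_card_fiberwise
      intro g _
      apply hL
      exact card_subtype_ne_zero_of_exists ⟨g, rfl⟩
    rw [Nat.card_eq_fintype_card, ← Finset.card_univ, h1]
    apply Finset.sum_congr rfl
    intro k _
    rw [natCard_subtype_eq_filter]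
  · -- dvd
    intro k hk
    obtain ⟨g, rfl⟩ := hne k hk
    exact orderOf_dvd_natCard g
  · -- closed
    intro k d hk hdk
    obtain ⟨g, rfl⟩ := hne k hk
    apply card_subtype_ne_zero_of_exists
    have hpos : 0 < orderOf g := orderOf_pos g
    obtain ⟨e, he⟩ := hdk
    have he0 : e ≠ 0 := by
      rintro rfl
      rw [mul_zero] at he
      omega
    have hd0 : d ≠ 0 := by
      rintro rfl
      rw [zero_mul] at he
      omega
    refine ⟨g ^ e, ?_⟩
    rw [orderOf_pow_of_dvd he0 ⟨d, by rw [he, mul_comm]⟩, he]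
    exact Nat.mul_div_cancel _ (Nat.pos_of_ne_zero he0)
  · -- Cauchy
    intro p hp hpN
    have : Fact p.Prime := ⟨hp⟩
    apply card_subtype_ne_zero_of_exists
    exact exists_prime_orderOf_dvd_card' p hpN
  · -- Sylow
    intro p a hp ha hpa hpa1 hm
    have : Fact p.Prime := ⟨hp⟩
    obtain ⟨g0, hg0⟩ := hne _ hm
    have hN0 : Nat.card G ≠ 0 := Nat.card_pos.ne'
    have hfac : (Nat.card G).factorization p = a := by
      have h1 := (hp.pow_dvd_iff_le_factorization hN0).mp hpa
      have h2 : ¬ a + 1 ≤ (Nat.card G).factorization p :=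
        fun h => hpa1 ((hp.pow_dvd_iff_le_factorization hN0).mpr h)
      omega
    refine ⟨Nat.card (Sylow p G), card_orderOf_prime_pow_sylow p a hfac g0 hg0, ?_, ?_⟩
    · have h1 := card_sylow_modEq_one p G
      have h2 : 1 % p = 1 := Nat.mod_eq_of_lt hp.one_lt
      rw [← h2]
      exact h1
    · obtain ⟨P⟩ : Nonempty (Sylow p G) := inferInstance
      have h1 := Sylow.card_dvd_index P
      have h2 : Nat.card (P : Subgroup G) = p ^ a := by rw [Sylow.card_eq_multiplicity, hfac]
      have h3 := Subgroup.card_mul_index (P : Subgroup G)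
      rw [h2] at h3
      have h4 : (P : Subgroup G).index = Nat.card G / p ^ a := by
        rw [← h3]
        exact (Nat.mul_div_cancel_left _ (pow_pos hp.pos a)).symm
      rw [← h4]
      exact h1

end Cfsg.Agent.Lib.Helper12.Nse
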