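import Mathlib
import Cfsg.Prelude.Def_Solvable
import Cfsg.Prelude.Def_SolvableStructure
import Cfsg.Agent.Lib.Helper1.SqfDefs
import Cfsg.Agent.Lib.Helper9.Stability
import Cfsg.Agent.Lib.Helper10.CyclicSup

/-!
# S4130 leaf E2 (helper12): `Y = P⟨t⟩`, `P` a normal `p`-subgroup, `t` a `p'`-element, all class sizes
squarefree ⟹ `|Y'| ≤ p`.

This file proves the statement with Knoche's lemma (leaf E1) as an explicit hypothesis.
-/

set_option autoImplicit false

namespace Cfsg.Agent.Lib.Helper12.SqfLeaf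

open Subgroup Cfsg.Agent.Lib.Helper1.Sqf
open scoped commutatorElement

section gens

variable {Y : Type*} [Group Y]

/-- If `Y = P⟨t⟩` and the generators commute modulo the normal subgroup `N`, then `Y' ≤ N`. -/
theorem commutator_le_of_gens (N : Subgroup Y) [N.Normal] (P : Subgroup Y) (t : Y)
    (hgen : P ⊔ zpowers t = ⊤)
    (h1 : ∀ x ∈ P, ∀ y ∈ P, ⁅x, y⁆ ∈ N) (h2 : ∀ x ∈ P, ⁅x, t⁆ ∈ N) : commutator Y ≤ N := by
  let π := QuotientGroup.mk' N
  have key : ∀ a b : Y, ⁅a, b⁆ ∈ N ↔ π a * π b = π b * π a := by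
    intro a b
    rw [← commutatorElement_eq_one_iff_mul_comm, ← map_commutatorElement]
    exact (QuotientGroup.eq_one_iff _).symm
  have hPt : ∀ x ∈ P, π x * π t = π t * π x := fun x hx => (key x t).mp (h2 x hx)
  have hPP : ∀ x ∈ P, ∀ y ∈ P, π x * π y = π y * π x :=
    fun x hx y hy => (key x y).mp (h1 x hx y hy)
  have hcent : ∀ a : Y, (∀ x ∈ P, π x * π a = π a * π x) → π t * π a = π a * π t →
      ∀ b : Y, π b * π a = π a * π b := by
    intro a haP hat b
    have hb : b ∈ P ⊔ zpowers t := by rw [hgen]; trivial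
    have hle : P ⊔ zpowers t ≤ (centralizer {π a}).comap π := by
      rw [sup_le_iff]
      constructor
      · intro x hx
        rw [mem_comap, mem_centralizer_singleton_iff]
        exact haP x hx
      · rw [zpowers_le, mem_comap, mem_centralizer_singleton_iff]
        exact hat
    have := hle hb
    rwa [mem_comap, mem_centralizer_singleton_iff] at this
  have hall : ∀ a b : Y, π b * π a = π a * π b := by
    intro a
    have ha : a ∈ P ⊔ zpowers t := by rw [hgen]; trivial
    have hle : P ⊔ zpowers t ≤ (center (Y ⧸ N)).comap π := by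
      rw [sup_le_iff]
      constructor
      · intro x hx
        rw [mem_comap, mem_center_iff]
        intro q
        obtain ⟨b, rfl⟩ := QuotientGroup.mk'_surjective N q
        exact hcent x (fun y hy => hPP y hy x hx) (hPt x hx).symm b
      · rw [zpowers_le, mem_comap, mem_center_iff]
        intro q
        obtain ⟨b, rfl⟩ := QuotientGroup.mk'_surjective N q
        exact hcent t hPt rfl b
    have := hle ha
    rw [mem_comap, mem_center_iff] at this
    intro b
    exact this (π b)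
  rw [commutator_def, Subgroup.commutator_le]
  intro a _ b _
  rw [key]
  exact hall b a

end gens

section main

variable {Y : Type*} [Group Y] [Finite Y] (p : ℕ) [hp : Fact p.Prime]

theorem dvd_prime_of_squarefree_of_dvd_pow {m n : ℕ} (h1 : Squarefree m) (h2 : m ∣ p ^ n) :
    m ∣ p := by
  obtain ⟨k, _, rfl⟩ := (Nat.dvd_prime_pow hp.out).mp h2
  rcases k with _ | _ | k
  · simp
  · simp
  · exfalso
    have hpp : p * p ∣ p ^ (k + 2) := ⟨p ^ k, by ring⟩
    have := h1 p hpp
    rw [Nat.isUnit_iff] at this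
    exact hp.out.one_lt.ne' this

/-- For a normal `p`-subgroup `P` of an SF-group, `|P : C_P(g)|` divides `p`. -/
theorem relIndex_centralizer_dvd_prime (h : SF Y) (P : Subgroup Y) [P.Normal]
    (hP : IsPGroup p P) (g : Y) : (centralizer ({g} : Set Y)).relIndex P ∣ p := by
  have h1 := relIndex_centralizer_dvd P g
  have h2 : Squarefree ((centralizer ({g} : Set Y)).relIndex P) :=
    Squarefree.squarefree_of_dvd h1 (h g)
  obtain ⟨n, hn⟩ := IsPGroup.iff_card.mp hP
  have h3 : (centralizer ({g} : Set Y)).relIndex P ∣ p ^ n := hn ▸ relIndex_dvd_card _ _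
  exact dvd_prime_of_squarefree_of_dvd_pow p h2 h3


/-- Case A: `t` centralizes `P`; then `Y' = P'` and Knoche's lemma applies. -/
theorem card_commutator_le_caseA.{u} {Y : Type u} [Group Y] [Finite Y] (p : ℕ) [hp : Fact p.Prime]
    (E1 : ∀ {Q : Type u} [Group Q] [Finite Q], IsPGroup p Q →
      (∀ x : Q, (centralizer ({x} : Set Q)).index ≤ p) → Nat.card (commutator Q) ≤ p)
    (h : SF Y) (P : Subgroup Y) [P.Normal] (hP : IsPGroup p P) (t : Y)
    (hgen : P ⊔ zpowers t = ⊤) (hPt : P ≤ centralizer ({t} : Set Y)) :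
    Nat.card (commutator Y) ≤ p := by
  have hle : commutator Y ≤ ⁅P, P⁆ := by
    apply commutator_le_of_gens ⁅P, P⁆ P t hgen
    · intro x hx y hy
      exact commutator_mem_commutator hx hy
    · intro x hx
      have : ⁅x, t⁆ = 1 := by
        rw [commutatorElement_eq_one_iff_mul_comm]
        exact mem_centralizer_singleton_iff.mp (hPt hx)
      rw [this]
      exact one_mem _
  have hc1 : Nat.card (commutator Y) ≤ Nat.card (⁅P, P⁆ : Subgroup Y) :=
    Subgroup.card_le_of_le hle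
  have hc2 : Nat.card (⁅P, P⁆ : Subgroup Y) = Nat.card (commutator P) := by
    rw [← map_subtype_commutator]
    exact card_map_of_injective P.subtype_injective
  have hSFP : SF P := h.subgroup P
  obtain ⟨n, hn⟩ := IsPGroup.iff_card.mp hP
  have hE : Nat.card (commutator P) ≤ p := by
    apply E1 hP
    intro x
    have h1 : (centralizer ({x} : Set P)).index ∣ p ^ n := hn ▸ Subgroup.index_dvd_card _
    exact Nat.le_of_dvd hp.out.pos (dvd_prime_of_squarefree_of_dvd_pow p (hSFP x) h1)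
  omega

/-- Case B: `|P : C_P(t)| = p`; then `P` is abelian and `Y' = [P, t]` has order `p`. -/
theorem card_commutator_le_caseB (h : SF Y) (P : Subgroup Y) [hPn : P.Normal] (hP : IsPGroup p P)
    (t : Y) (ht : (orderOf t).Coprime p) (hgen : P ⊔ zpowers t = ⊤)
    (hidx : (centralizer ({t} : Set Y)).relIndex P = p) :
    Nat.card (commutator Y) ≤ p := by
  have hp1 : p.Prime := hp.out
  set C : Subgroup Y := centralizer ({t} : Set Y) ⊓ P with hC
  have hCP : C ≤ P := inf_le_right
  have hCidx : C.relIndex P = p := by rw [hC, inf_relIndex_right]; exact hidx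
  have memC : ∀ x, x ∈ C ↔ x * t = t * x ∧ x ∈ P := by
    intro x
    rw [hC, mem_inf, mem_centralizer_singleton_iff]
  obtain ⟨n, hn⟩ := IsPGroup.iff_card.mp hP
  have hcopP : (Nat.card P).Coprime (orderOf t) := by
    rw [hn]
    exact Nat.Coprime.pow_left n ht.symm
  obtain ⟨m, hm⟩ := Cfsg.Agent.Lib.Helper10.exists_pow_mul_eq_left (G := Y)
    (Nat.card P) (orderOf t) hcopP
  -- B1: `C` is abelian
  have B1 : ∀ x ∈ C, ∀ y ∈ C, x * y = y * x := by
    intro x hx y hy
    obtain ⟨hxt, hxP⟩ := (memC x).mp hx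
    have hxpow : x ^ Nat.card P = 1 := by
      have h1 : (⟨x, hxP⟩ : P) ^ Nat.card P = 1 := pow_card_eq_one'
      have h2 : (P.subtype ⟨x, hxP⟩) ^ Nat.card P = 1 := by rw [← map_pow, h1, map_one]
      exact h2
    have hg : (x * t) ^ m = x := hm x t hxt hxpow (pow_orderOf_eq_one t)
    have hKC : centralizer ({x * t} : Set Y) ⊓ P ≤ C := by
      intro z hz
      obtain ⟨hz1, hzP⟩ := mem_inf.mp hz
      have hzg : Commute z (x * t) := mem_centralizer_singleton_iff.mp hz1
      have hzx : Commute z x := by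
        have := hzg.pow_right m
        rwa [hg] at this
      have hzt : Commute z (x⁻¹ * (x * t)) := hzx.inv_right.mul_right hzg
      rw [inv_mul_cancel_left] at hzt
      exact (memC z).mpr ⟨hzt.eq, hzP⟩
    have hdvd := relIndex_centralizer_dvd_prime p h P hP (x * t)
    rw [← inf_relIndex_right] at hdvd
    have hmul := relIndex_mul_relIndex (centralizer ({x * t} : Set Y) ⊓ P) C P hKC hCP
    rw [hCidx] at hmul
    have h1 : (centralizer ({x * t} : Set Y) ⊓ P).relIndex C = 1 := by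
      rw [← hmul] at hdvd
      have h2 : (centralizer ({x * t} : Set Y) ⊓ P).relIndex C * p ∣ 1 * p := by simpa using hdvd
      exact Nat.dvd_one.mp (Nat.dvd_of_mul_dvd_mul_right hp1.pos h2)
    have hCK : C ≤ centralizer ({x * t} : Set Y) ⊓ P := relIndex_eq_one.mp h1
    have hyg : Commute y (x * t) := mem_centralizer_singleton_iff.mp (mem_inf.mp (hCK hy)).1
    have hyx : Commute y x := by
      have := hyg.pow_right m
      rwa [hg] at this
    exact hyx.eq.symm
  -- B2: `C` is normal in `P`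
  have hn0 : n ≠ 0 := by
    rintro rfl
    have h1 : C.relIndex P ∣ Nat.card P := relIndex_dvd_card _ _
    rw [hn, pow_zero, hCidx] at h1
    exact hp1.one_lt.ne' (Nat.dvd_one.mp h1)
  have hnorm : (C.subgroupOf P).Normal := by
    apply normal_of_index_eq_minFac_card
    show C.relIndex P = _
    rw [hCidx, hn, hp1.pow_minFac hn0]
  have B2 : ∀ x ∈ P, ∀ c ∈ C, x * c * x⁻¹ ∈ C := by
    intro x hx c hc
    have := hnorm.conj_mem ⟨c, hCP hc⟩ (mem_subgroupOf.mpr hc) ⟨x, hx⟩
    exact mem_subgroupOf.mp this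
  -- B3: `C` centralizes the commutators `[x, t]`
  have B3 : ∀ x ∈ P, ∀ c ∈ C, c * ⁅x, t⁆ = ⁅x, t⁆ * c := by
    intro x hx c hc
    have he : x⁻¹ * c * x ∈ C := by
      have := B2 x⁻¹ (inv_mem hx) c hc
      rwa [inv_inv] at this
    have het : x⁻¹ * c * x * t = t * (x⁻¹ * c * x) := ((memC _).mp he).1
    have hct : Commute c t := ((memC c).mp hc).1
    have hct' : c * t⁻¹ = t⁻¹ * c := hct.inv_right.eq
    rw [commutatorElement_def]
    calc c * (x * t * x⁻¹ * t⁻¹) = x * (x⁻¹ * c * x * t) * x⁻¹ * t⁻¹ := by group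
      _ = x * (t * (x⁻¹ * c * x)) * x⁻¹ * t⁻¹ := by rw [het]
      _ = x * t * x⁻¹ * (c * t⁻¹) := by group
      _ = x * t * x⁻¹ * (t⁻¹ * c) := by rw [hct']
      _ = x * t * x⁻¹ * t⁻¹ * c := by group
  -- B4: `t` acts fixed-point-freely modulo `C`
  have B4 : ∀ x ∈ P, ⁅x, t⁆ ∈ C → x ∈ C := by
    intro x hx hxt
    obtain ⟨h1, h2⟩ := (memC _).mp hxt
    have hcop : (orderOf t).Coprime (orderOf ⁅x, t⁆) := by
      have hd : orderOf ⁅x, t⁆ ∣ Nat.card P := Subgroup.orderOf_dvd_natCard P h2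
      exact Nat.Coprime.coprime_dvd_right hd hcopP.symm
    have := Cfsg.Agent.Lib.Helper9.commute_of_commutator_centralized t x h1.symm hcop
    exact (memC x).mpr ⟨this.symm, hx⟩
  -- B5: maximality of `C` in `P`
  have B5 : ∀ H : Subgroup Y, C ≤ H → H ≤ P → ∀ r ∈ H, r ∉ C → P ≤ H := by
    intro H hCH hHP r hrH hrC
    have hmul := relIndex_mul_relIndex C H P hCH hHP
    rw [hCidx] at hmul
    have hd : H.relIndex P ∣ p := Dvd.intro_left _ hmul
    rcases (Nat.dvd_prime hp1).mp hd with h1 | h1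
    · exact relIndex_eq_one.mp h1
    · exfalso
      rw [h1] at hmul
      have h2 : C.relIndex H = 1 :=
        Nat.eq_of_mul_eq_mul_right hp1.pos (by rw [hmul, one_mul])
      exact hrC (relIndex_eq_one.mp h2 hrH)
  -- an element of `P` outside `C`
  have hex : ∃ x₀ ∈ P, x₀ ∉ C := by
    by_contra hne
    have h1 : P ≤ C := fun x hx => by
      by_contra hxC
      exact hne ⟨x, hx, hxC⟩
    have h2 := relIndex_eq_one.mpr h1
    rw [hCidx] at h2
    exact hp1.one_lt.ne' h2
  obtain ⟨x₀, hx₀P, hx₀C⟩ := hex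
  have hcommP : ∀ x ∈ P, ⁅x, t⁆ ∈ P := by
    intro x hx
    rw [commutatorElement_def]
    have h1 : t * x⁻¹ * t⁻¹ ∈ P := hPn.conj_mem x⁻¹ (inv_mem hx) t
    have h2 : x * t * x⁻¹ * t⁻¹ = x * (t * x⁻¹ * t⁻¹) := by group
    rw [h2]
    exact P.mul_mem hx h1
  have hrP : ⁅x₀, t⁆ ∈ P := hcommP x₀ hx₀P
  have hrC : ⁅x₀, t⁆ ∉ C := fun hr => hx₀C (B4 x₀ hx₀P hr)
  -- B6: `C` is central in `P`
  have B6 : ∀ c ∈ C, ∀ y ∈ P, c * y = y * c := by
    intro c hc y hy
    have h1 : C ≤ centralizer ({c} : Set Y) ⊓ P := fun z hz =>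
      mem_inf.mpr ⟨mem_centralizer_singleton_iff.mpr (B1 z hz c hc), hCP hz⟩
    have h2 : ⁅x₀, t⁆ ∈ centralizer ({c} : Set Y) ⊓ P :=
      mem_inf.mpr ⟨mem_centralizer_singleton_iff.mpr (B3 x₀ hx₀P c hc).symm, hrP⟩
    have h3 := B5 _ h1 inf_le_right _ h2 hrC hy
    exact (mem_centralizer_singleton_iff.mp (mem_inf.mp h3).1).symm
  -- B7: `P` is abelian
  have B7 : ∀ x ∈ P, ∀ y ∈ P, x * y = y * x := by
    intro x hx y hy
    by_cases hxC : x ∈ C
    · exact B6 x hxC y hy
    · have h1 : C ≤ centralizer ({x} : Set Y) ⊓ P := fun z hz =>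
        mem_inf.mpr ⟨mem_centralizer_singleton_iff.mpr (B6 z hz x hx), hCP hz⟩
      have h2 : x ∈ centralizer ({x} : Set Y) ⊓ P :=
        mem_inf.mpr ⟨mem_centralizer_singleton_iff.mpr rfl, hx⟩
      have h3 := B5 _ h1 inf_le_right _ h2 hxC hy
      exact (mem_centralizer_singleton_iff.mp (mem_inf.mp h3).1).symm
  -- B8: the homomorphism `x ↦ [x, t]`
  have hmulc : ∀ x ∈ P, ∀ y ∈ P, ⁅x * y, t⁆ = ⁅x, t⁆ * ⁅y, t⁆ := by
    intro x hx y hy
    have ha : t * x⁻¹ * t⁻¹ ∈ P := hPn.conj_mem x⁻¹ (inv_mem hx) t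
    have hb : t * y⁻¹ * t⁻¹ ∈ P := hPn.conj_mem y⁻¹ (inv_mem hy) t
    have hcomm := B7 (t * x⁻¹ * t⁻¹) ha (y * (t * y⁻¹ * t⁻¹)) (P.mul_mem hy hb)
    simp only [commutatorElement_def]
    calc x * y * t * (x * y)⁻¹ * t⁻¹ = x * (y * (t * y⁻¹ * t⁻¹) * (t * x⁻¹ * t⁻¹)) := by group
      _ = x * ((t * x⁻¹ * t⁻¹) * (y * (t * y⁻¹ * t⁻¹))) := by rw [hcomm]
      _ = x * t * x⁻¹ * t⁻¹ * (y * t * y⁻¹ * t⁻¹) := by group
  let φ : P →* Y := MonoidHom.mk' (fun x : P => ⁅(x : Y), t⁆)
    (fun x y => by simpa using hmulc x x.2 y y.2)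
  have hφ : ∀ x : P, φ x = ⁅(x : Y), t⁆ := fun x => rfl
  have hker : φ.ker = C.subgroupOf P := by
    ext x
    rw [MonoidHom.mem_ker, mem_subgroupOf, hφ, commutatorElement_eq_one_iff_mul_comm, memC]
    exact ⟨fun hx => ⟨hx, x.2⟩, fun hx => hx.1⟩
  have hcardR : Nat.card φ.range = p := by
    rw [← index_ker, hker]
    exact hCidx
  have hmemR : ∀ x ∈ P, ⁅x, t⁆ ∈ φ.range := fun x hx => ⟨⟨x, hx⟩, rfl⟩
  have hRP : φ.range ≤ P := by
    rintro _ ⟨x, rfl⟩
    exact hcommP x x.2
  have hRn : φ.range.Normal := by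
    rw [← normalizer_eq_top_iff, eq_top_iff, ← hgen, sup_le_iff]
    constructor
    · intro y hy
      apply mem_normalizer_fintype
      rintro u hu
      have huP : u ∈ P := hRP hu
      have : y * u * y⁻¹ = u := by rw [B7 y hy u huP, mul_inv_cancel_right]
      rw [this]
      exact hu
    · rw [zpowers_le]
      apply mem_normalizer_fintype
      rintro _ ⟨x, rfl⟩
      have h1 : t * ⁅(x : Y), t⁆ * t⁻¹ = ⁅t * x * t⁻¹, t⁆ := by
        simp only [commutatorElement_def]; group
      rw [hφ, h1]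
      exact hmemR _ (hPn.conj_mem x x.2 t)
  have hle : commutator Y ≤ φ.range := by
    apply commutator_le_of_gens φ.range P t hgen
    · intro x hx y hy
      have : ⁅x, y⁆ = 1 := by
        rw [commutatorElement_eq_one_iff_mul_comm]
        exact B7 x hx y hy
      rw [this]
      exact one_mem _
    · exact hmemR
  have hc1 : Nat.card (commutator Y) ≤ Nat.card φ.range := Subgroup.card_le_of_le hle
  omega

/-- Leaf E2 with Knoche's lemma (leaf E1) as a hypothesis. -/
theorem card_commutator_le_of_E1.{u} {Y : Type u} [Group Y] [Finite Y] (p : ℕ) [hp : Fact p.Prime]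
    (E1 : ∀ {Q : Type u} [Group Q] [Finite Q], IsPGroup p Q →
      (∀ x : Q, (centralizer ({x} : Set Q)).index ≤ p) → Nat.card (commutator Q) ≤ p)
    (h : SF Y) (P : Subgroup Y) [P.Normal] (hP : IsPGroup p P) (t : Y)
    (ht : (orderOf t).Coprime p) (hgen : P ⊔ zpowers t = ⊤) :
    Nat.card (commutator Y) ≤ p := by
  have hd := relIndex_centralizer_dvd_prime p h P hP t
  rcases (Nat.dvd_prime hp.out).mp hd with h1 | h1
  · exact card_commutator_le_caseA p E1 h P hP t hgen (relIndex_eq_one.mp h1)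
  · exact card_commutator_le_caseB p h P hP t ht hgen h1

end main

end Cfsg.Agent.Lib.Helper12.SqfLeaf
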