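import Mathlib
import Cfsg.Prelude.Def_Solvable
import Cfsg.Prelude.Def_SolvableStructure
import Cfsg.Agent.Lib.Helper1.SqfDefs
import Cfsg.Agent.Lib.Helper24.SqfE1
import Cfsg.Agent.Lib.Helper12.SqfE2a

/-!
# S4130 leaf E2 (helper12): `Y = P⟨t⟩`, `P` a normal `p`-subgroup, `t` a `p'`-element, all class sizes
squarefree ⟹ `|Y'| ≤ p`.
-/

set_option autoImplicit false

namespace Cfsg.Agent.Lib.Helper12.SqfLeaf

open Subgroup Cfsg.Agent.Lib.Helper1.Sqf

theorem card_commutator_le {Y : Type*} [Group Y] [Finite Y] (p : ℕ) [Fact p.Prime]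
    (h : SF Y) (P : Subgroup Y) [P.Normal] (hP : IsPGroup p P) (t : Y)
    (ht : (orderOf t).Coprime p) (hgen : P ⊔ zpowers t = ⊤) :
    Nat.card (commutator Y) ≤ p :=
  card_commutator_le_of_E1 p
    (fun {_} _ _ hQ hc => Cfsg.Agent.Lib.Helper24.SqfLeaf.card_commutator_le_of_class_le p hQ hc)
    h P hP t ht hgen

end Cfsg.Agent.Lib.Helper12.SqfLeaf
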