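import Mathlib
import Cfsg.Agent.Lib.Helper8.TW.Defs
import Cfsg.Agent.Lib.Helper20.AschA89WR
import Cfsg.Agent.Lib.Helper20.AschA89F2J
import Cfsg.Agent.Lib.Helper6.TWQ1
import Cfsg.Agent.Lib.Helper6.TWSlot

/-!
S5641 (C7 maximal in SL_n; owner helper8), block (T) TOOLKIT, leaves TS1 `slot_comm`, TS4 `slot_mulVec_slice_ne`, TS5 `det_slot`,
TS8 `fperm_mulVec`, TS11 `fperm_conj_ptens`, TS12 `det_fperm`, TS13a `ptens_mul_slot`, TS13b `slot_mul_ptens`
(exact signatures of `notes/S5641_T_leaves.lean`).  Taker: helper12.  On helper6's `slot_eq_ptens`, `slot_reindex`.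
By-products: `slot_mulVec_apply` (`(slot j B *ᵥ v) x = ∑ b, B (x j) b * v (update x j b)`), `fperm_transpose`.
-/

set_option autoImplicit false
set_option linter.unusedSectionVars false
set_option linter.unusedVariables false

namespace Cfsg.Agent.Lib.Helper12.TWLeaf
open Matrix Cfsg.Geo Cfsg.Agent.Lib.Helper18.AschA89 Cfsg.Agent.Lib.Helper20.AschLeaf Cfsg.Agent.Lib.Helper8.TW
open Cfsg.Agent.Lib.Helper6.TWQ (slot_eq_ptens slot_reindex)
open scoped Kronecker

variable {F : Type*} [Field F] {t m : ℕ}

/-- TS1 (S) -/
theorem slot_comm (i j : Fin t) (hij : i ≠ j) (A B : Matrix (Fin m) (Fin m) F) :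
    slot m t i A * slot m t j B = slot m t j B * slot m t i A := by
  rw [slot_eq_ptens, slot_eq_ptens, ptens_mul, ptens_mul]
  congr 1
  funext k
  by_cases hki : k = i
  · subst hki
    rw [Function.update_self, Function.update_of_ne hij, Matrix.mul_one, Matrix.one_mul]
  · rw [Function.update_of_ne hki, Matrix.mul_one, Matrix.one_mul]

/-- the action of `slot j B` on a vector, entrywise -/
theorem slot_mulVec_apply (j : Fin t) (B : Matrix (Fin m) (Fin m) F) (v : Idx t m → F) (x : Idx t m) :
    (slot m t j B *ᵥ v) x = ∑ b, B (x j) b * v (Function.update x j b) := by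
  classical
  have hterm : ∀ y : Idx t m, slot m t j B x y * v y =
      ∑ b, (if y = Function.update x j b then B (x j) b * v (Function.update x j b) else 0) := by
    intro y
    rw [slot_apply]
    by_cases h : ∀ k, k ≠ j → x k = y k
    · have hy : y = Function.update x j (y j) := by
        funext k
        by_cases hk : k = j
        · subst hk; simp
        · rw [Function.update_of_ne hk]; exact (h k hk).symm
      rw [if_pos h, Finset.sum_eq_single (y j)]
      · rw [if_pos hy, ← hy]
      · intro b _ hb
        rw [if_neg]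
        intro hyb
        apply hb
        have := congrFun hyb j
        rw [Function.update_self] at this
        exact this.symm
      · intro hn; exact absurd (Finset.mem_univ _) hn
    · rw [if_neg h, zero_mul]
      symm
      apply Finset.sum_eq_zero
      intro b _
      rw [if_neg]
      intro hyb
      apply h
      intro k hk
      rw [hyb, Function.update_of_ne hk]
  change ∑ y, slot m t j B x y * v y = _
  simp_rw [hterm]
  rw [Finset.sum_comm]
  apply Finset.sum_congr rfl
  intro b _
  rw [Finset.sum_ite_eq']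
  simp

/-- TS4 (S) for `j ≠ i` the `i`-slices of `slot j B *ᵥ v` are linear combinations of `i`-slices of `v` -/
theorem slot_mulVec_slice_ne (i j : Fin t) (hij : j ≠ i) (B : Matrix (Fin m) (Fin m) F) (v : Idx t m → F)
    (x : Idx t m) :
    slice i x (slot m t j B *ᵥ v) = ∑ b, B (x j) b • slice i (Function.update x j b) v := by
  funext a
  rw [Finset.sum_apply]
  unfold slice
  rw [slot_mulVec_apply, Function.update_of_ne hij]
  apply Finset.sum_congr rfl
  intro b _
  rw [Pi.smul_apply, smul_eq_mul, Function.update_comm hij]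

/-- TS5 (M) -/
theorem det_slot (i : Fin t) (A : Matrix (Fin m) (Fin m) F) :
    (slot m t i A).det = A.det ^ (m ^ (t - 1)) := by
  rw [← Matrix.det_reindex_self (Equiv.funSplitAt i (Fin m)) (slot m t i A), slot_reindex,
    Matrix.det_kronecker, Matrix.det_one, one_pow, mul_one]
  congr 1
  rw [Fintype.card_fun, Fintype.card_fin, Fintype.card_subtype_compl, Fintype.card_fin,
    Fintype.card_subtype_eq]

/-- TS8 (S) -/
theorem fperm_mulVec (σ : Equiv.Perm (Fin t)) (v : Idx t m → F) (x : Idx t m) :
    (fperm (F := F) m t σ *ᵥ v) x = v (x ∘ σ) := by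
  classical
  change ∑ y, fperm (F := F) m t σ x y * v y = _
  simp only [fperm_apply, ite_mul, one_mul, zero_mul]
  rw [Finset.sum_ite_eq']
  simp

/-- TS11 (S) -/
theorem fperm_conj_ptens (σ : Equiv.Perm (Fin t)) (gs : Fin t → Matrix (Fin m) (Fin m) F) :
    fperm (F := F) m t σ * ptens m t gs * fperm m t σ⁻¹ = ptens m t (fun j => gs (σ⁻¹ j)) := by
  ext x z
  rw [wr_mul_fperm_apply, wr_fperm_mul_apply, ptens_apply, ptens_apply]
  rw [← Equiv.prod_comp σ (fun j => gs (σ⁻¹ j) (x j) (z j))]
  apply Finset.prod_congr rfl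
  intro j _
  simp

/-- the transpose of a factor permutation matrix -/
theorem fperm_transpose (σ : Equiv.Perm (Fin t)) :
    (fperm (F := F) m t σ)ᵀ = fperm m t σ⁻¹ := by
  ext x y
  rw [Matrix.transpose_apply, fperm_apply, fperm_apply]
  have : (x = y ∘ σ) ↔ (y = x ∘ ((σ⁻¹ : Equiv.Perm (Fin t)) : Fin t → Fin t)) := by
    constructor
    · intro h
      rw [h]
      funext k
      simp
    · intro h
      rw [h]
      funext k
      simp
  by_cases h : x = y ∘ σ
  · rw [if_pos h, if_pos (this.1 h)]
  · rw [if_neg h, if_neg (fun h' => h (this.2 h'))]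

/-- TS12 (M) -/
theorem det_fperm (σ : Equiv.Perm (Fin t)) :
    (fperm (F := F) m t σ).det = 1 ∨ (fperm (F := F) m t σ).det = -1 := by
  have h := congrArg Matrix.det (wr_fperm_mul_inv (F := F) m t σ)
  rw [Matrix.det_mul, Matrix.det_one, ← fperm_transpose, Matrix.det_transpose] at h
  exact mul_self_eq_one_iff.1 h

/-- TS13a (S) -/
theorem ptens_mul_slot (gs : Fin t → Matrix (Fin m) (Fin m) F) (i : Fin t) (A : Matrix (Fin m) (Fin m) F) :
    ptens m t gs * slot m t i A = ptens m t (Function.update gs i (gs i * A)) := by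
  rw [slot_eq_ptens, ptens_mul]
  congr 1
  funext k
  by_cases hki : k = i
  · subst hki
    rw [Function.update_self, Function.update_self]
  · rw [Function.update_of_ne hki, Function.update_of_ne hki, Matrix.mul_one]

/-- TS13b (S) -/
theorem slot_mul_ptens (gs : Fin t → Matrix (Fin m) (Fin m) F) (i : Fin t) (A : Matrix (Fin m) (Fin m) F) :
    slot m t i A * ptens m t gs = ptens m t (Function.update gs i (A * gs i)) := by
  rw [slot_eq_ptens, ptens_mul]
  congr 1
  funext k
  by_cases hki : k = i
  · subst hki
    rw [Function.update_self, Function.update_self]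
  · rw [Function.update_of_ne hki, Function.update_of_ne hki, Matrix.one_mul]

end Cfsg.Agent.Lib.Helper12.TWLeaf
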