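import Mathlib
import Cfsg.Agent.Lib.Helper8.TW.Defs
import Cfsg.Agent.Lib.Helper20.AschA89WR
import Cfsg.Agent.Lib.Helper20.AschA89F2J
import Cfsg.Agent.Lib.Helper22.TWExtBasic
import Cfsg.Agent.Lib.Helper22.TWExtMore
import Cfsg.Agent.Lib.Helper23.TWG1
import Cfsg.Agent.Lib.Helper19.TWGrow
import Cfsg.Agent.Lib.Helper14.TWIIDefs
import Cfsg.Agent.Lib.Helper26.TWFibA
import Cfsg.Agent.Lib.Helper1.SLMTools
import Cfsg.Agent.Lib.Helper12.TWTS
import Cfsg.Agent.Lib.Helper12.TWIIBZ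

/-!
S5641 (C7 maximal in SL_n), part (II) Stage II, Case B (sub-planner helper14): packet IIB-S = `exists_sl_mulVec_eq`, `slotGL_mem_H`,
`img_slot_Wf`, `img_ext_Wf`, `exists_s_G`, `exists_s_H`, `H_conj_mem`, `rootU_mem_H` (exact signatures of
`notes/S5641_IIB_leaves.lean`).  Taker: helper12.
By-products: `mem_Hstd_iff`, `Wf_zero`, `img_bot'`, `map_span_singleton'`, `img_fperm_Wf`, `rootU_eq_slotGL`.
-/

set_option autoImplicit false
set_option linter.unusedSectionVars false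
set_option linter.unusedVariables false

namespace Cfsg.Agent.Lib.Helper12.TWIIBLeaf
open Matrix Cfsg.Geo Cfsg.Agent.Lib.Helper18.AschA89 Cfsg.Agent.Lib.Helper20.AschLeaf Cfsg.Agent.Lib.Helper8.TW
  Cfsg.Agent.Lib.Helper14.TWII

variable {F : Type*} [Field F] {t m : ℕ}

/-- membership in `H = G ∩ SL` -/
lemma mem_Hstd_iff (g : GL (Idx t m) F) :
    g ∈ Hstd t m F ↔ g ∈ Gstd t m F ∧ (g : Matrix (Idx t m) (Idx t m) F).det = 1 := by
  show g ∈ Gstd t m F ⊓ specialLinear (Idx t m) F ↔ _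
  rw [Subgroup.mem_inf]
  unfold specialLinear
  rw [MonoidHom.mem_ker]
  constructor
  · rintro ⟨h1, h2⟩
    refine ⟨h1, ?_⟩
    have := congrArg Units.val h2
    rwa [Matrix.GeneralLinearGroup.val_det_apply] at this
  · rintro ⟨h1, h2⟩
    refine ⟨h1, ?_⟩
    apply Units.ext
    rw [Matrix.GeneralLinearGroup.val_det_apply]
    exact h2

/-- S1 (M) -/
theorem exists_sl_mulVec_eq (hm : 2 ≤ m) (y y' : Fin m → F) (hy : y ≠ 0) (hy' : y' ≠ 0) :
    ∃ α : GL (Fin m) F, (α : Matrix (Fin m) (Fin m) F).det = 1 ∧ (α : Matrix (Fin m) (Fin m) F) *ᵥ y = y' := by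
  obtain ⟨g, hg, hgy⟩ := Cfsg.Agent.Lib.Helper1.SLMLeaf.exists_sl_map_vec' hm hy hy'
  exact ⟨g, (Cfsg.Agent.Lib.Helper1.SLMLeaf.mem_specialLinear_iff g).1 hg, hgy⟩

/-- S2 (S) -/
theorem slotGL_mem_H (i : Fin t) (α : GL (Fin m) F) (hdet : (α : Matrix (Fin m) (Fin m) F).det = 1) :
    slotGL i α ∈ Hstd t m F := by
  rw [mem_Hstd_iff]
  refine ⟨Cfsg.Agent.Lib.Helper23.TWLeaf.slotGL_mem_G i α, ?_⟩
  rw [slotGL_val, Cfsg.Agent.Lib.Helper12.TWLeaf.det_slot, hdet, one_pow]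

lemma map_span_singleton' (A : Matrix (Fin m) (Fin m) F) (y : Fin m → F) :
    (F ∙ y).map (Matrix.toLin' A) = F ∙ (A *ᵥ y) := by
  rw [Submodule.map_span, Set.image_singleton, Matrix.toLin'_apply]

/-- S3 (S) -/
theorem img_slot_Wf (i : Fin t) (α : GL (Fin m) F) (y : Fin m → F) :
    img (slotGL i α) (Wf i y) = Wf i ((α : Matrix (Fin m) (Fin m) F) *ᵥ y) := by
  unfold Wf
  rw [Cfsg.Agent.Lib.Helper26.TWLeaf.img_slot_fib, map_span_singleton']

lemma Wf_zero (i : Fin t) : Wf i (0 : Fin m → F) = ⊥ := by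
  unfold Wf
  rw [Submodule.span_zero_singleton, Cfsg.Agent.Lib.Helper26.TWLeaf.fib_bot]

lemma img_bot' {ι : Type} [Fintype ι] [DecidableEq ι] (g : GL ι F) : img g (⊥ : Submodule F (ι → F)) = ⊥ := by
  unfold img
  rw [Submodule.map_bot]

/-- S4 (S) -/
theorem img_ext_Wf (i : Fin (t + 1)) (γ : GL (Idx t m) F) (y : Fin m → F) :
    img (extGL i γ) (Wf i y) = Wf i y := by
  by_cases hy : y = 0
  · subst hy
    rw [Wf_zero, img_bot']
  · apply le_antisymm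
    · intro w hw
      rw [Cfsg.Agent.Lib.Helper26.TWLeaf.mem_img26] at hw
      obtain ⟨v, hv, rfl⟩ := hw
      rw [Cfsg.Agent.Lib.Helper22.TWLeaf.mem_Wf_iff_tens i y hy] at hv ⊢
      obtain ⟨b, rfl⟩ := hv
      exact ⟨(γ : Matrix (Idx t m) (Idx t m) F) *ᵥ b, by
        rw [extGL_val, Cfsg.Agent.Lib.Helper22.TWLeaf.ext_mulVec_tens]⟩
    · intro w hw
      rw [Cfsg.Agent.Lib.Helper22.TWLeaf.mem_Wf_iff_tens i y hy] at hw
      obtain ⟨b, rfl⟩ := hw
      rw [Cfsg.Agent.Lib.Helper26.TWLeaf.mem_img26]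
      refine ⟨tens i (((γ⁻¹ : GL (Idx t m) F) : Matrix (Idx t m) (Idx t m) F) *ᵥ b) y, ?_, ?_⟩
      · rw [Cfsg.Agent.Lib.Helper22.TWLeaf.mem_Wf_iff_tens i y hy]
        exact ⟨_, rfl⟩
      · rw [extGL_val, Cfsg.Agent.Lib.Helper22.TWLeaf.ext_mulVec_tens, Matrix.mulVec_mulVec, ← Units.val_mul,
          mul_inv_cancel, Units.val_one, Matrix.one_mulVec]

lemma img_fperm_Wf (σ : Equiv.Perm (Fin t)) (i : Fin t) (y : Fin m → F) :
    img (wrFpermGL (F := F) m t σ) (Wf i y) = Wf (σ i) y := by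
  unfold Wf
  exact Cfsg.Agent.Lib.Helper26.TWLeaf.img_fperm_fib σ i _

/-- S5 (M) -/
theorem exists_s_G (hm : 2 ≤ m) (i i' : Fin t) (y y' : Fin m → F) (hy : y ≠ 0) (hy' : y' ≠ 0) :
    ∃ s ∈ Gstd t m F, img s (Wf i y) = Wf i' y' := by
  obtain ⟨α, hα, hαy⟩ := exists_sl_mulVec_eq hm y y' hy hy'
  refine ⟨slotGL i' α * wrFpermGL (F := F) m t (Equiv.swap i i'),
    Subgroup.mul_mem _ (Cfsg.Agent.Lib.Helper23.TWLeaf.slotGL_mem_G i' α)
      (Cfsg.Agent.Lib.Helper23.TWLeaf.fpermGL_mem_G _), ?_⟩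
  rw [img_mul', img_fperm_Wf, Equiv.swap_apply_left, img_slot_Wf, hαy]

/-- S6 (M) -/
theorem exists_s_H (hm : 2 ≤ m) (ht : 3 ≤ t) (i i' : Fin t) (y y' : Fin m → F) (hy : y ≠ 0) (hy' : y' ≠ 0) :
    ∃ s ∈ Hstd t m F, img s (Wf i y) = Wf i' y' := by
  obtain ⟨α, hα, hαy⟩ := exists_sl_mulVec_eq hm y y' hy hy'
  by_cases hii : i = i'
  · subst hii
    exact ⟨slotGL i α, slotGL_mem_H i α hα, by rw [img_slot_Wf, hαy]⟩
  · -- a third position
    obtain ⟨i'', h1, h2⟩ : ∃ i'' : Fin t, i'' ≠ i ∧ i'' ≠ i' := by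
      by_contra hcon
      simp only [not_exists, not_and, not_not] at hcon
      have hsub : (Finset.univ : Finset (Fin t)) ⊆ {i, i'} := by
        intro j _
        by_cases hj : j = i
        · simp [hj]
        · simp [hcon j hj]
      have hc := Finset.card_le_card hsub
      rw [Finset.card_univ, Fintype.card_fin] at hc
      have := Finset.card_le_two (a := i) (b := i')
      omega
    set σ : Equiv.Perm (Fin t) := Equiv.swap i i'' * Equiv.swap i i' with hσ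
    have h3c : σ.IsThreeCycle :=
      Equiv.Perm.isThreeCycle_swap_mul_swap_same (Ne.symm h1) hii (fun h => h2 h)
    have hσ3 : σ ^ 3 = 1 := by
      rw [← h3c.orderOf]
      exact pow_orderOf_eq_one σ
    have hσi : σ i = i' := by
      rw [hσ, Equiv.Perm.mul_apply, Equiv.swap_apply_left,
        Equiv.swap_apply_of_ne_of_ne (Ne.symm hii) (Ne.symm h2)]
    refine ⟨slotGL i' α * wrFpermGL (F := F) m t σ,
      Subgroup.mul_mem _ (slotGL_mem_H i' α hα) (Cfsg.Agent.Lib.Helper19.TWGrow.wrFpermGL_mem_H σ hσ3), ?_⟩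
    rw [img_mul', img_fperm_Wf, hσi, img_slot_Wf, hαy]

/-- S7 (S) -/
theorem H_conj_mem (s h : GL (Idx t m) F) (hs : s ∈ Gstd t m F) (hh : h ∈ Hstd t m F) :
    s * h * s⁻¹ ∈ Hstd t m F := by
  rw [mem_Hstd_iff] at hh ⊢
  refine ⟨Subgroup.mul_mem _ (Subgroup.mul_mem _ hs hh.1) (Subgroup.inv_mem _ hs), ?_⟩
  rw [Units.val_mul, Units.val_mul, Matrix.det_mul, Matrix.det_mul, hh.2, mul_one, ← Matrix.det_mul,
    ← Units.val_mul, mul_inv_cancel, Units.val_one, Matrix.det_one]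

/-- the root element is a slot element -/
lemma rootU_eq_slotGL (i : Fin t) (y η : Fin m → F) (hη : η ⬝ᵥ y = 0) :
    rootU i y η hη = slotGL i (unip (Matrix.vecMulVec y η)
      (by rw [Matrix.vecMulVec_mul_vecMulVec, hη, zero_smul]; ext a b; simp [Matrix.vecMulVec_apply])) := by
  apply Units.ext
  rw [rootU_val, slotGL_val, unip_val, slot_add, slot_one]
  rfl

/-- S8 (S) -/
theorem rootU_mem_H (i : Fin t) (y η : Fin m → F) (hη : η ⬝ᵥ y = 0) : rootU i y η hη ∈ Hstd t m F := by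
  rw [rootU_eq_slotGL]
  apply slotGL_mem_H
  rw [unip_val, Matrix.vecMulVec_eq (ι := Unit), Matrix.det_one_add_replicateCol_mul_replicateRow, hη, add_zero]

end Cfsg.Agent.Lib.Helper12.TWIIBLeaf
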