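import Mathlib
import Cfsg.Prelude.Def_Local
import Cfsg.Prelude.Def_TwoFusion
import Cfsg.Agent.Lib.Helper12.Basic
import Cfsg.Agent.Lib.Helper12.WellPlaced
import Cfsg.Agent.Lib.Helper12.Alperin
import Cfsg.Agent.Lib.Helper12.Cores
import Cfsg.Agent.Lib.Helper12.PComplement
import Cfsg.Agent.Lib.Helper12.PPrimeP
import Cfsg.Agent.Lib.Helper12.FamilyTransfer
import Cfsg.Agent.Lib.Helper12.PairFusion

/-!
Helper lemmas (helper12): Goldschmidt's refinement of Alperin's fusion theorem. Conjugation of subsets of a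
Sylow `p`-subgroup `P` is, up to an element of the centralizer, carried by a chain through the normalizers
of the tame subgroups `D ≤ P` with `C_G(D) ≤ O_{p',p}(N_G(D)) = O_{p'}(N_G(D)) × D`.
-/

set_option autoImplicit false
set_option linter.style.haveILetI false
open Subgroup
open scoped Pointwise
namespace Cfsg.Agent.Lib.Helper12

section creach
variable {G : Type*} [Group G]

theorem cjs_eq_of_mem_centralizer {c : G} {A : Set G} (hc : c ∈ Subgroup.centralizer A) :
    cjs c A = A := by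
  unfold cjs
  ext a
  constructor
  · rintro ⟨b, hb, rfl⟩
    have h1 : b * c = c * b := Subgroup.mem_centralizer_iff.mp hc b hb
    have e : c⁻¹ * b * c = b := by rw [mul_assoc, h1, ← mul_assoc, inv_mul_cancel, one_mul]
    show c⁻¹ * b * c ∈ A
    rw [e]; exact hb
  · intro ha
    refine ⟨a, ha, ?_⟩
    have h1 : a * c = c * a := Subgroup.mem_centralizer_iff.mp hc a ha
    show c⁻¹ * a * c = a
    rw [mul_assoc, h1, ← mul_assoc, inv_mul_cancel, one_mul]

theorem conj_mem_centralizer_of_cjs {r c : G} {A : Set G}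
    (hc : c ∈ Subgroup.centralizer (cjs r A)) : r * c * r⁻¹ ∈ Subgroup.centralizer A := by
  rw [Subgroup.mem_centralizer_iff]
  intro a ha
  have h1 : (r⁻¹ * a * r) * c = c * (r⁻¹ * a * r) :=
    Subgroup.mem_centralizer_iff.mp hc _ ⟨a, ha, rfl⟩
  calc a * (r * c * r⁻¹) = r * ((r⁻¹ * a * r) * c) * r⁻¹ := by group
    _ = r * (c * (r⁻¹ * a * r)) * r⁻¹ := by rw [h1]
    _ = r * c * r⁻¹ * a := by group

variable (𝓕 : Set (Subgroup G))

/-- `g` is, up to a left factor centralizing `A`, the product of a chain through normalizers of members of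
`𝓕` carrying `A` along -/
def CReach (A : Set G) (g : G) : Prop :=
  ∃ c ∈ Subgroup.centralizer A, Reach 𝓕 A (c⁻¹ * g)

theorem CReach.mono {A B : Set G} (hBA : B ⊆ A) {g : G} (h : CReach 𝓕 A g) : CReach 𝓕 B g := by
  obtain ⟨c, hc, hr⟩ := h
  exact ⟨c, Subgroup.centralizer_le hBA hc, hr.mono 𝓕 hBA⟩

theorem CReach.of_reach {A : Set G} {g : G} (h : Reach 𝓕 A g) : CReach 𝓕 A g :=
  ⟨1, one_mem _, by rwa [inv_one, one_mul]⟩

theorem CReach.one (A : Set G) : CReach 𝓕 A 1 :=
  CReach.of_reach 𝓕 ⟨[], trivial, rfl⟩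

theorem CReach.mul_left {A : Set G} {c g : G} (hc : c ∈ Subgroup.centralizer A)
    (h : CReach 𝓕 A g) : CReach 𝓕 A (c * g) := by
  obtain ⟨c', hc', hr⟩ := h
  refine ⟨c * c', mul_mem hc hc', ?_⟩
  have e : (c * c')⁻¹ * (c * g) = c'⁻¹ * g := by group
  rwa [e]

theorem CReach.trans {A : Set G} {g h : G} (h₁ : CReach 𝓕 A g) (h₂ : CReach 𝓕 (cjs g A) h) :
    CReach 𝓕 A (g * h) := by
  obtain ⟨c₁, hc₁, hr₁⟩ := h₁
  obtain ⟨c₂, hc₂, hr₂⟩ := h₂
  have hg : g = c₁ * (c₁⁻¹ * g) := by group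
  generalize c₁⁻¹ * g = r₁ at hr₁ hg
  subst hg
  have hcjs : cjs (c₁ * r₁) A = cjs r₁ A := by
    rw [cjs_mul, cjs_eq_of_mem_centralizer hc₁]
  rw [hcjs] at hc₂ hr₂
  refine ⟨c₁ * (r₁ * c₂ * r₁⁻¹), mul_mem hc₁ (conj_mem_centralizer_of_cjs hc₂), ?_⟩
  have e : (c₁ * (r₁ * c₂ * r₁⁻¹))⁻¹ * (c₁ * r₁ * h) = r₁ * (c₂⁻¹ * h) := by group
  rw [e]
  exact hr₁.trans 𝓕 hr₂

/-- along a chain, `CReach` holds, provided each link does -/
theorem creach_of_chain (𝓣 : Set (Subgroup G)) (l : List (Subgroup G × G))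
    (hmem : ∀ q ∈ l, ∀ x ∈ Subgroup.normalizer ((q.1 : Subgroup G) : Set G),
      CReach 𝓕 (q.1 : Set G) x) :
    ∀ A : Set G, Chain 𝓣 A l → CReach 𝓕 A (prodOf l) := by
  induction l with
  | nil =>
    intro A _
    rw [prodOf_nil]
    exact CReach.one 𝓕 A
  | cons q l ih =>
    obtain ⟨T, x⟩ := q
    rintro A ⟨hT, hx, hA, hl⟩
    rw [prodOf_cons]
    have h1 : CReach 𝓕 A x := (hmem (T, x) List.mem_cons_self x hx).mono 𝓕 hA
    exact h1.trans 𝓕 (ih (fun q hq => hmem q (List.mem_cons_of_mem _ hq)) _ hl)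

/-- a chain as a family indexed by `Fin l.length` -/
theorem Chain.toFamily' {A : Set G} {l : List (Subgroup G × G)} (h : Chain 𝓕 A l) :
    ∃ (T : Fin l.length → Subgroup G) (x : Fin l.length → G), (List.ofFn x).prod = prodOf l ∧
      (∀ i, T i ∈ 𝓕) ∧ (∀ i, x i ∈ Subgroup.normalizer ((T i : Subgroup G) : Set G)) ∧
      (∀ h : 0 < l.length, A ⊆ T ⟨0, h⟩) ∧
      ∀ (i : Fin l.length) (h : i.val + 1 < l.length),
        (fun a => (((List.ofFn x).take (i.val + 1)).prod)⁻¹ * a *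
          ((List.ofFn x).take (i.val + 1)).prod) '' A ⊆ T ⟨i.val + 1, h⟩ := by
  have hofFn : List.ofFn (fun i : Fin l.length => (l.get i).2) = l.map Prod.snd := by
    apply List.ext_getElem
    · simp
    · intro i h1 h2
      simp
  refine ⟨fun i => (l.get i).1, fun i => (l.get i).2, ?_, ?_, ?_, ?_, ?_⟩
  · rw [hofFn]; rfl
  · intro i
    exact (h.mem 𝓕 _ (List.get_mem l i)).1
  · intro i
    exact (h.mem 𝓕 _ (List.get_mem l i)).2
  · intro hn
    cases l with
    | nil => simp at hn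
    | cons a l' =>
      obtain ⟨T, x⟩ := a
      exact h.2.2.1
  · intro i hi
    rw [hofFn]
    exact h.step 𝓕 i.val hi

end creach

section burnside
variable {X : Type*} [Group X] [Finite X] {p : ℕ} [Fact p.Prime]

/-- Burnside: a normal subgroup `C` whose Sylow subgroup `S ∩ C` is central in `C` lies in
`O_{p'}(X) (S ∩ C)` -/
theorem le_pPrimeCore_sup_of_central (S : Sylow p X) (C : Subgroup X) [hCn : C.Normal]
    (hcent : ∀ s ∈ (S : Subgroup X) ⊓ C, ∀ c ∈ C, c * s = s * c) :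
    C ≤ Cfsg.pPrimeCore p X ⊔ ((S : Subgroup X) ⊓ C) := by
  have hZidx : ¬ p ∣ ((S : Subgroup X) ⊓ C).relIndex C :=
    sylow_inf_relIndex S ⊤ C le_top le_top (fun h _ k hk => hCn.conj_mem k hk h)
  have hZp : IsPGroup p (((S : Subgroup X) ⊓ C).subgroupOf C) :=
    (S.2.to_le inf_le_left).comap_subtype
  let PC : Sylow p C := hZp.toSylow hZidx
  have hcentral : ∀ x ∈ (PC : Subgroup C), ∀ c : C, c * x = x * c := by
    intro x hx c
    have hx' : (x : X) ∈ (S : Subgroup X) ⊓ C := by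
      have : x ∈ ((S : Subgroup X) ⊓ C).subgroupOf C := hx
      rwa [mem_subgroupOf] at this
    exact Subtype.ext (hcent _ hx' c c.2)
  have hcard := card_pPrimeCore_mul_of_central_sylow PC hcentral
  have hchar : (Cfsg.pPrimeCore p C).Characteristic := pPrimeCore_characteristic p
  have hnorm : ((Cfsg.pPrimeCore p C).map C.subtype).Normal :=
    ConjAct.normal_of_characteristic_of_normal
  have hO'card : Nat.card ↥((Cfsg.pPrimeCore p C).map C.subtype) = Nat.card ↥(Cfsg.pPrimeCore p C) :=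
    Subgroup.card_map_of_injective (Subgroup.subtype_injective _)
  have hcop : (Nat.card ↥((Cfsg.pPrimeCore p C).map C.subtype)).Coprime p := by
    rw [hO'card]; exact pPrimeCore_coprime p
  have hle : (Cfsg.pPrimeCore p C).map C.subtype ≤ Cfsg.pPrimeCore p X :=
    le_pPrimeCore p _ hnorm hcop
  have htop : Cfsg.pPrimeCore p C ⊔ (PC : Subgroup C) = ⊤ := by
    apply (Subgroup.card_eq_iff_eq_top _).mp
    apply Nat.dvd_antisymm (Subgroup.card_subgroup_dvd_card _)
    rw [← hcard]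
    apply Nat.Coprime.mul_dvd_of_dvd_of_dvd
    · obtain ⟨n, hn⟩ := (IsPGroup.iff_card (p := p)).mp PC.2
      rw [hn]
      exact Nat.Coprime.pow_right n (pPrimeCore_coprime p)
    · exact Subgroup.card_dvd_of_le le_sup_left
    · exact Subgroup.card_dvd_of_le le_sup_right
  intro c hc
  have h1 : (⟨c, hc⟩ : C) ∈ Cfsg.pPrimeCore p C ⊔ (PC : Subgroup C) := by rw [htop]; trivial
  have h2 : c ∈ (Cfsg.pPrimeCore p C ⊔ (PC : Subgroup C)).map C.subtype := ⟨⟨c, hc⟩, h1, rfl⟩
  rw [Subgroup.map_sup] at h2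
  refine (sup_le_sup hle ?_) h2
  rintro _ ⟨x, hx, rfl⟩
  have : x ∈ ((S : Subgroup X) ⊓ C).subgroupOf C := hx
  rwa [mem_subgroupOf] at this

end burnside

section gold
variable {G : Type*} [Group G] [Finite G] {p : ℕ} [Fact p.Prime]

/-- Goldschmidt's conjugation family -/
def goldFamily (P : Sylow p G) : Set (Subgroup G) :=
  {D | D ≤ (P : Subgroup G) ∧
    ¬ p ∣ ((P : Subgroup G) ⊓ Subgroup.normalizer ((D : Subgroup G) : Set G)).relIndex
      (Subgroup.normalizer ((D : Subgroup G) : Set G)) ∧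
    Subgroup.centralizer ((D : Subgroup G) : Set G) ≤
        (Cfsg.pPrimePCore p ↥(Subgroup.normalizer ((D : Subgroup G) : Set G))).map
          (Subgroup.normalizer ((D : Subgroup G) : Set G)).subtype ∧
    Cfsg.IsInternalDirectProduct
        ((Cfsg.pPrimeCore p ↥(Subgroup.normalizer ((D : Subgroup G) : Set G))).map
          (Subgroup.normalizer ((D : Subgroup G) : Set G)).subtype)
        D
        ((Cfsg.pPrimePCore p ↥(Subgroup.normalizer ((D : Subgroup G) : Set G))).map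
          (Subgroup.normalizer ((D : Subgroup G) : Set G)).subtype)}

/-- the local step: inside `L = N_G(T)` (`T` tame, `C_P(T) ≤ T`), pass to `T₂ = P ∩ O_{p',p}(L)` -/
theorem gold_step_aux (P : Sylow p G) (L T : Subgroup G) (hTL : T ≤ L)
    (hLN : L ≤ Subgroup.normalizer (T : Set G)) (hCL : Subgroup.centralizer (T : Set G) ≤ L)
    (hTP : T ≤ (P : Subgroup G)) (htame : ¬ p ∣ ((P : Subgroup G) ⊓ L).relIndex L)
    (hC : (P : Subgroup G) ⊓ Subgroup.centralizer (T : Set G) ≤ T) :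
    ∃ T₂ : Subgroup G, T ≤ T₂ ∧ T₂ ≤ (P : Subgroup G) ∧
      (T₂ = T → Subgroup.centralizer (T : Set G) ≤ (Cfsg.pPrimePCore p ↥L).map L.subtype ∧
        Cfsg.IsInternalDirectProduct ((Cfsg.pPrimeCore p ↥L).map L.subtype) T
          ((Cfsg.pPrimePCore p ↥L).map L.subtype)) ∧
      ∀ x ∈ L, ∃ u ∈ Subgroup.centralizer (T : Set G),
        ∃ y ∈ L ⊓ Subgroup.normalizer ((T₂ : Subgroup G) : Set G), x = u * y := by
  have hSp : IsPGroup p (((P : Subgroup G) ⊓ L).subgroupOf L) :=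
    (P.2.to_le inf_le_left).comap_subtype
  let S : Sylow p ↥L := hSp.toSylow htame
  have hSmem : ∀ s : ↥L, s ∈ (S : Subgroup ↥L) ↔ (s : G) ∈ (P : Subgroup G) := by
    intro s
    have : s ∈ (S : Subgroup ↥L) ↔ s ∈ ((P : Subgroup G) ⊓ L).subgroupOf L := Iff.rfl
    rw [this, mem_subgroupOf, Subgroup.mem_inf]
    exact ⟨fun h => h.1, fun h => ⟨h, s.2⟩⟩
  set O : Subgroup ↥L := Cfsg.pPrimeCore p ↥L with hO
  set K : Subgroup ↥L := Cfsg.pPrimePCore p ↥L with hK
  haveI hOn : O.Normal := pPrimeCore_normal' p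
  haveI hKn : K.Normal := pPrimePCore_normal' p
  have hOK : O ≤ K := pPrimeCore_le_pPrimePCore p
  set TX : Subgroup ↥L := T.subgroupOf L with hTX
  haveI hTXn : TX.Normal := Subgroup.normal_subgroupOf_of_le_normalizer hLN
  have hTXp : IsPGroup p TX := (P.2.to_le hTP).comap_subtype
  have hTXmap : TX.map L.subtype = T := Subgroup.map_subgroupOf_eq_of_le hTL
  -- `T_X ≤ K`
  have hTXK : TX ≤ K := by
    have h1 : (TX.map (QuotientGroup.mk' O)).Normal :=
      Subgroup.Normal.map hTXn _ (QuotientGroup.mk'_surjective O)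
    have h2 : IsPGroup p (TX.map (QuotientGroup.mk' O)) := hTXp.map _
    have h3 : TX.map (QuotientGroup.mk' O) ≤ Cfsg.pCore p (↥L ⧸ O) := le_sSup ⟨h1, h2⟩
    intro t ht
    show t ∈ (Cfsg.pCore p (↥L ⧸ O)).comap (QuotientGroup.mk' O)
    rw [Subgroup.mem_comap]
    exact h3 ⟨t, ht, rfl⟩
  have hTXS : TX ≤ (S : Subgroup ↥L) := by
    intro t ht
    rw [hSmem]
    exact hTP (by rwa [hTX, mem_subgroupOf] at ht)
  -- `O` and `T_X` commute
  have hOT : O ⊓ TX = ⊥ := inf_eq_bot_of_coprime_of_isPGroup (pPrimeCore_coprime p) hTXp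
  have hcomm : ∀ o ∈ O, ∀ t ∈ TX, o * t = t * o := fun o ho t ht =>
    Subgroup.commute_of_normal_of_disjoint O TX hOn hTXn (disjoint_iff.mpr hOT) o t ho ht
  set D : Subgroup ↥L := (S : Subgroup ↥L) ⊓ K with hD
  have hDp : IsPGroup p D := S.2.to_le inf_le_left
  have hsup : O ⊔ D = K := pPrimeCore_sup_sylow_inf S
  have hTXD : TX ≤ D := le_inf hTXS hTXK
  have hOG : ∀ o ∈ O, (o : G) ∈ Subgroup.centralizer (T : Set G) := by
    intro o ho
    rw [Subgroup.mem_centralizer_iff]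
    intro t ht
    have h1 : (⟨t, hTL ht⟩ : ↥L) ∈ TX := by rw [hTX, mem_subgroupOf]; exact ht
    have h2 := hcomm o ho _ h1
    have h3 := congrArg Subtype.val h2
    exact h3.symm
  -- the Frattini argument
  have hfrat : ∀ x' : ↥L, ∃ o ∈ O, ∃ y' ∈ Subgroup.normalizer (D : Set ↥L), x' = o * y' := by
    intro x'
    have hle : cj x' D ≤ K := by
      rintro _ ⟨d, hd, rfl⟩
      exact hKn.conj_mem d hd.2 x'
    obtain ⟨k, hkK, hk⟩ := exists_conj_mem_of_relIndex D K (cj x' D) hDp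
      (sylow_inf_pPrimePCore_relIndex S) hle (hDp.map _)
    have hkx : k * x' ∈ Subgroup.normalizer (D : Set ↥L) := by
      apply mem_normalizer_of_cj_eq
      apply cj_eq_of_le
      rw [← cj_mul]
      rintro _ ⟨v, hv, rfl⟩
      exact hk _ hv
    have hk' : k ∈ O ⊔ D := by rw [hsup]; exact hkK
    rw [← SetLike.mem_coe, Subgroup.normal_mul, Set.mem_mul] at hk'
    obtain ⟨o, ho, d, hd, rfl⟩ := hk'
    refine ⟨d⁻¹ * o⁻¹ * d, ?_, d⁻¹ * (o * d * x'), ?_, by group⟩
    · have := hOn.conj_mem o⁻¹ (inv_mem ho) d⁻¹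
      simpa using this
    · exact mul_mem (inv_mem (Subgroup.le_normalizer hd)) hkx
  refine ⟨D.map L.subtype, ?_, ?_, ?_, ?_⟩
  · rw [← hTXmap]
    exact Subgroup.map_mono hTXD
  · rintro _ ⟨d, hd, rfl⟩
    exact (hSmem d).mp hd.1
  · intro hT₂
    have hDT : D = TX := by
      apply Subgroup.map_injective L.subtype_injective
      rw [hT₂, hTXmap]
    -- `C_X`
    set CX : Subgroup ↥L := (Subgroup.centralizer (T : Set G)).subgroupOf L with hCX
    haveI hCXn : CX.Normal := by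
      refine ⟨fun c hc l => ?_⟩
      rw [hCX, mem_subgroupOf] at hc ⊢
      rw [Subgroup.mem_centralizer_iff] at hc ⊢
      intro t ht
      have hl : (l : G) ∈ Subgroup.normalizer (T : Set G) := hLN l.2
      have ht' : (l : G)⁻¹ * t * (l : G) ∈ T := by
        have := (Subgroup.mem_normalizer_iff.mp (inv_mem hl) t).mp ht
        simpa using this
      have h1 := hc _ ht'
      show t * ((l : G) * (c : G) * (l : G)⁻¹) = (l : G) * (c : G) * (l : G)⁻¹ * t
      calc t * ((l : G) * (c : G) * (l : G)⁻¹)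
          = (l : G) * (((l : G)⁻¹ * t * (l : G)) * (c : G)) * (l : G)⁻¹ := by group
        _ = (l : G) * ((c : G) * ((l : G)⁻¹ * t * (l : G))) * (l : G)⁻¹ := by rw [h1]
        _ = (l : G) * (c : G) * (l : G)⁻¹ * t := by group
    have hSC : (S : Subgroup ↥L) ⊓ CX ≤ TX := by
      intro s hs
      rw [hTX, mem_subgroupOf]
      apply hC
      refine ⟨(hSmem s).mp hs.1, ?_⟩
      have h2 : s ∈ CX := hs.2
      rwa [hCX, mem_subgroupOf] at h2
    have hcent : ∀ s ∈ (S : Subgroup ↥L) ⊓ CX, ∀ c ∈ CX, c * s = s * c := by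
      intro s hs c hc
      have hsT : (s : G) ∈ T := by
        have := hSC hs
        rwa [hTX, mem_subgroupOf] at this
      rw [hCX, mem_subgroupOf] at hc
      have := (Subgroup.mem_centralizer_iff.mp hc) _ hsT
      exact Subtype.ext this.symm
    have hCXK : CX ≤ K := by
      refine (le_pPrimeCore_sup_of_central S CX hcent).trans ?_
      exact sup_le hOK (hSC.trans hTXK)
    refine ⟨?_, ?_, ?_, ?_, ?_, ?_⟩
    · intro c hc
      have h1 : (⟨c, hCL hc⟩ : ↥L) ∈ CX := by rw [hCX, mem_subgroupOf]; exact hc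
      exact ⟨⟨c, hCL hc⟩, hCXK h1, rfl⟩
    · exact Subgroup.map_mono hOK
    · rw [← hTXmap]
      exact Subgroup.map_mono hTXK
    · rintro _ ⟨o, ho, rfl⟩ b hb
      have := (Subgroup.mem_centralizer_iff.mp (hOG o ho)) b hb
      exact this.symm
    · apply inf_eq_bot_of_coprime_of_isPGroup _ (P.2.to_le hTP)
      rw [Subgroup.card_map_of_injective L.subtype_injective]
      exact pPrimeCore_coprime p
    · rw [← hTXmap, ← Subgroup.map_sup, ← hDT, hsup]
  · intro x hx
    obtain ⟨o, ho, y', hy', hxy⟩ := hfrat ⟨x, hx⟩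
    refine ⟨(o : G), hOG o ho, (y' : G), ⟨y'.2, ?_⟩, ?_⟩
    · apply Subgroup.le_normalizer_map L.subtype
      exact ⟨y', hy', rfl⟩
    · have := congrArg Subtype.val hxy
      exact this

/-- a tame subgroup with `C_P(T) ≤ T`: Goldschmidt's step at `L = N_G(T)` -/
theorem gold_step (P : Sylow p G) {T : Subgroup G} (hT : T ∈ tameFamily P)
    (hC : (P : Subgroup G) ⊓ Subgroup.centralizer (T : Set G) ≤ T) :
    ∃ T₂ : Subgroup G, T ≤ T₂ ∧ T₂ ≤ (P : Subgroup G) ∧ (T₂ = T → T ∈ goldFamily P) ∧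
      ∀ x ∈ Subgroup.normalizer (T : Set G), ∃ u ∈ Subgroup.centralizer (T : Set G),
        ∃ y ∈ Subgroup.normalizer (T : Set G) ⊓ Subgroup.normalizer ((T₂ : Subgroup G) : Set G),
          x = u * y := by
  obtain ⟨T₂, h1, h2, h3, h4⟩ := gold_step_aux P (Subgroup.normalizer (T : Set G)) T
    Subgroup.le_normalizer le_rfl (Subgroup.centralizer_le_normalizer _) hT.1 hT.2 hC
  exact ⟨T₂, h1, h2, fun h => ⟨hT.1, hT.2, (h3 h).1, (h3 h).2⟩, h4⟩

theorem sylow_mem_tameFamily (P : Sylow p G) : (P : Subgroup G) ∈ tameFamily P := by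
  refine ⟨le_rfl, ?_⟩
  exact sylow_inf_relIndex P (Subgroup.normalizer ((P : Subgroup G) : Set G))
    (Subgroup.normalizer ((P : Subgroup G) : Set G)) Subgroup.le_normalizer le_rfl
    (fun h hh k hk => mul_mem (mul_mem hh hk) (inv_mem hh))

theorem sylow_mem_goldFamily (P : Sylow p G) : (P : Subgroup G) ∈ goldFamily P := by
  obtain ⟨T₂, h1, h2, h3, -⟩ := gold_step P (sylow_mem_tameFamily P) inf_le_left
  exact h3 (le_antisymm h2 h1)

/-- one link of a tame chain -/
theorem gold_link (P : Sylow p G) (U : Subgroup G) (hU : U ∈ tameFamily P)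
    (IH : ∀ T' : Subgroup G, T' ≤ (P : Subgroup G) → Nat.card U < Nat.card T' →
      ∀ g' : G, cj g'⁻¹ T' ≤ (P : Subgroup G) → CReach (goldFamily P) (T' : Set G) g')
    (x : G) (hx : x ∈ Subgroup.normalizer (U : Set G)) : CReach (goldFamily P) (U : Set G) x := by
  by_cases hC : (P : Subgroup G) ⊓ Subgroup.centralizer (U : Set G) ≤ U
  · obtain ⟨T₂, hUT₂, hT₂P, hgold, hfr⟩ := gold_step P hU hC
    obtain ⟨u, hu, y, hy, rfl⟩ := hfr x hx
    apply CReach.mul_left _ hu
    by_cases hT₂ : T₂ = U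
    · exact CReach.of_reach _ (Reach.single _ (hgold hT₂) hy.1)
    · have hlt : Nat.card U < Nat.card T₂ :=
        lt_of_not_ge (fun h => hT₂ (Subgroup.eq_of_le_of_card_ge hUT₂ h).symm)
      have := IH T₂ hT₂P hlt y (by rw [cj_eq_of_mem_normalizer (inv_mem hy.2)]; exact hT₂P)
      exact this.mono _ hUT₂
  · obtain ⟨c, hc, y, hy, rfl⟩ := exists_mul_of_tame P hU hx
    apply CReach.mul_left _ hc
    have hUU₁ : U ≤ U ⊔ ((P : Subgroup G) ⊓ Subgroup.centralizer (U : Set G)) := le_sup_left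
    have hU₁P : U ⊔ ((P : Subgroup G) ⊓ Subgroup.centralizer (U : Set G)) ≤ (P : Subgroup G) :=
      sup_le hU.1 inf_le_left
    have hlt : Nat.card U <
        Nat.card ↥(U ⊔ ((P : Subgroup G) ⊓ Subgroup.centralizer (U : Set G))) := by
      apply lt_of_not_ge
      intro h
      have e := Subgroup.eq_of_le_of_card_ge hUU₁ h
      exact hC (le_sup_right.trans e.ge)
    have := IH _ hU₁P hlt y (by rw [cj_eq_of_mem_normalizer (inv_mem hy.2)]; exact hU₁P)
    exact this.mono _ hUU₁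

/-- Goldschmidt's refinement of Alperin's theorem -/
theorem gold_main (P : Sylow p G) :
    ∀ (d : ℕ) (T : Subgroup G), T ≤ (P : Subgroup G) →
      Nat.card (P : Subgroup G) - Nat.card T = d →
      ∀ g : G, cj g⁻¹ T ≤ (P : Subgroup G) → CReach (goldFamily P) (T : Set G) g := by
  intro d
  induction d using Nat.strong_induction_on with
  | _ d IHd =>
  intro T hTP hd g hTg
  obtain ⟨l, hl, rfl⟩ := reach_tame P T hTP g hTg
  apply creach_of_chain (goldFamily P) (tameFamily P) l _ _ hl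
  intro q hq x hx
  have hqtame : q.1 ∈ tameFamily P := (hl.mem _ q hq).1
  have hcard : Nat.card T ≤ Nat.card q.1 := Chain.card_le _ hl q hq
  apply gold_link P q.1 hqtame _ x hx
  intro T' hT' hlt g' hg'
  apply IHd (Nat.card (P : Subgroup G) - Nat.card T') _ T' hT' rfl g' hg'
  have h1 : Nat.card T' ≤ Nat.card (P : Subgroup G) := Subgroup.card_le_of_le hT'
  have h2 : Nat.card T ≤ Nat.card (P : Subgroup G) := Subgroup.card_le_of_le hTP
  omega

/-- Goldschmidt's theorem, for subsets -/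
theorem gold_set (P : Sylow p G) (A : Set G) (hA : A ⊆ (P : Set G)) (g : G)
    (hAg : (fun a => g⁻¹ * a * g) '' A ⊆ (P : Set G)) : CReach (goldFamily P) A g := by
  have h1 : Subgroup.closure A ≤ (P : Subgroup G) := (Subgroup.closure_le _).mpr hA
  have h2 : cj g⁻¹ (Subgroup.closure A) ≤ (P : Subgroup G) := by
    rw [cj_def, MonoidHom.map_closure, Subgroup.closure_le]
    rintro _ ⟨a, ha, rfl⟩
    apply hAg
    exact ⟨a, ha, by simp⟩
  exact (gold_main P _ _ h1 rfl g h2).mono _ Subgroup.subset_closure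

/-- Goldschmidt's theorem, as a family indexed by `Fin n`, `0 < n` -/
theorem gold_fin (P : Sylow p G) (A : Set G) (hA : A ⊆ (P : Set G)) (g : G)
    (hAg : (fun a => g⁻¹ * a * g) '' A ⊆ (P : Set G)) :
    ∃ (n : ℕ) (D : Fin n → Subgroup G) (x : Fin n → G) (c : G), 0 < n ∧
      (∀ i, D i ∈ goldFamily P) ∧
      (∀ i, x i ∈ Subgroup.normalizer ((D i : Subgroup G) : Set G)) ∧
      (∀ h : 0 < n, A ⊆ ((D ⟨0, h⟩ : Subgroup G) : Set G)) ∧
      (∀ (j : Fin n) (h : j.val + 1 < n),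
        (fun a => (((List.ofFn x).take (j.val + 1)).prod)⁻¹ * a *
          ((List.ofFn x).take (j.val + 1)).prod) '' A ⊆ ((D ⟨j.val + 1, h⟩ : Subgroup G) : Set G)) ∧
      c ∈ Subgroup.centralizer A ∧ g = c * (List.ofFn x).prod := by
  obtain ⟨c, hc, l, hl, hg⟩ := gold_set P A hA g hAg
  obtain ⟨l', hl', hprod, hpos⟩ : ∃ l' : List (Subgroup G × G),
      Chain (goldFamily P) A l' ∧ prodOf l' = prodOf l ∧ 0 < l'.length := by
    cases l with
    | nil =>
      exact ⟨[((P : Subgroup G), 1)], ⟨sylow_mem_goldFamily P, one_mem _, hA, trivial⟩,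
        by simp [prodOf], by simp⟩
    | cons a t => exact ⟨a :: t, hl, rfl, by simp⟩
  obtain ⟨T, x, hx1, hx2, hx3, hx4, hx5⟩ := hl'.toFamily' _
  refine ⟨l'.length, T, x, c, hpos, hx2, hx3, hx4, hx5, hc, ?_⟩
  rw [hx1, hprod, hg]
  group

end gold

end Cfsg.Agent.Lib.Helper12
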