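import Mathlib
import Cfsg.Prelude.Def_Local
import Cfsg.Prelude.Def_TwoFusion
import Cfsg.Agent.Lib.Helper12.Basic
import Cfsg.Agent.Lib.Helper12.WellPlaced
import Cfsg.Agent.Lib.Helper12.Alperin
import Cfsg.Agent.Lib.Helper12.Cores
import Cfsg.Agent.Lib.Helper12.PPrimeP
import Cfsg.Agent.Lib.Helper12.FamilyTransfer
import Cfsg.Agent.Lib.Helper12.Goldschmidt

/-!
Helper lemmas (helper12): subgroups `W` of a Sylow `p`-subgroup `P` whose normalizer controls strong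
fusion in `P` ("normal subgroups of the fusion system"): the criterion by a series of strongly closed
subgroups, and the product of such subgroups.
-/

set_option autoImplicit false
set_option linter.style.haveILetI false
open Subgroup
open scoped Pointwise commutatorElement
namespace Cfsg.Agent.Lib.Helper12

section stab
variable {G : Type*} [Group G] [Finite G] {p : ℕ} [Fact p.Prime]

omit [Finite G] [Fact p.Prime] in
/-- coprime action: if `b⁻¹ t b = t c` with `c` commuting with `b`, `c` a `p`-element and `b` a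
`p'`-element, then `c = 1` -/
theorem eq_one_of_conj_eq_mul {b t c : G} (hc : t⁻¹ * b⁻¹ * t * b = c) (hcb : c * b = b * c)
    (hcp : ∃ a : ℕ, c ^ p ^ a = 1) (hb : (orderOf b).Coprime p) : c = 1 := by
  have hstep : ∀ k : ℕ, (b ^ k)⁻¹ * t * b ^ k = t * c ^ k := by
    intro k
    induction k with
    | zero => simp
    | succ k ih =>
      have hck : c ^ k * b = b * c ^ k := by
        have : Commute (c ^ k) b := (show Commute c b from hcb).pow_left k
        exact this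
      calc (b ^ (k + 1))⁻¹ * t * b ^ (k + 1) = b⁻¹ * ((b ^ k)⁻¹ * t * b ^ k) * b := by
            rw [pow_succ]; group
        _ = b⁻¹ * (t * c ^ k) * b := by rw [ih]
        _ = t * (t⁻¹ * b⁻¹ * t * b) * (b⁻¹ * (c ^ k * b)) := by group
        _ = t * c * (b⁻¹ * (b * c ^ k)) := by rw [hc, hck]
        _ = t * c ^ (k + 1) := by rw [pow_succ']; group
  have h1 := hstep (orderOf b)
  rw [pow_orderOf_eq_one, inv_one, one_mul, mul_one] at h1
  have h2 : c ^ orderOf b = 1 := by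
    have : t * 1 = t * c ^ orderOf b := by rw [mul_one]; exact h1
    exact (mul_left_cancel this).symm
  obtain ⟨a, ha⟩ := hcp
  have h3 : orderOf c ∣ orderOf b := orderOf_dvd_of_pow_eq_one h2
  have h4 : orderOf c ∣ p ^ a := orderOf_dvd_of_pow_eq_one ha
  have h5 : orderOf c = 1 :=
    Nat.eq_one_of_dvd_coprimes (Nat.Coprime.pow_right a hb) h3 h4
  exact orderOf_eq_one_iff.mp h5

omit [Finite G] [Fact p.Prime] in
/-- the stability group of a chain of `L`-invariant subgroups of the `p`-group `T` -/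
theorem exists_chain_stabilizer (L T : Subgroup G) (hT : IsPGroup p T) (E : ℕ → Subgroup G)
    (hE0 : E 0 = ⊥) (n : ℕ) (hEn : E n = T) (hEle : ∀ i, E i ≤ T)
    (hinv : ∀ y ∈ L, ∀ i, ∀ t ∈ E i, y * t * y⁻¹ ∈ E i) :
    ∃ B : Subgroup G, B ≤ L ∧ (∀ l ∈ L, ∀ b ∈ B, l * b * l⁻¹ ∈ B) ∧
      (∀ y ∈ L, (∀ i, ∀ t ∈ E (i + 1), t⁻¹ * y⁻¹ * t * y ∈ E i) → y ∈ B) ∧
      ∀ b ∈ B, (orderOf b).Coprime p → b ∈ Subgroup.centralizer (T : Set G) := by
  let B : Subgroup G :=
    { carrier := {y | y ∈ L ∧ ∀ i, ∀ t ∈ E (i + 1), t⁻¹ * y⁻¹ * t * y ∈ E i}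
      one_mem' := by
        refine ⟨one_mem L, fun i t _ => ?_⟩
        have : t⁻¹ * (1 : G)⁻¹ * t * 1 = 1 := by group
        rw [this]; exact one_mem _
      mul_mem' := by
        rintro y z ⟨hyL, hy⟩ ⟨hzL, hz⟩
        refine ⟨mul_mem hyL hzL, fun i t ht => ?_⟩
        have e : t⁻¹ * (y * z)⁻¹ * t * (y * z) =
            (t⁻¹ * z⁻¹ * t * z) * (z⁻¹ * (t⁻¹ * y⁻¹ * t * y) * z⁻¹⁻¹) := by group
        rw [e]
        exact mul_mem (hz i t ht) (hinv z⁻¹ (inv_mem hzL) i _ (hy i t ht))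
      inv_mem' := by
        rintro y ⟨hyL, hy⟩
        refine ⟨inv_mem hyL, fun i t ht => ?_⟩
        have e : t⁻¹ * y⁻¹⁻¹ * t * y⁻¹ = y * (t⁻¹ * y⁻¹ * t * y)⁻¹ * y⁻¹ := by group
        rw [e]
        exact hinv y hyL i _ (inv_mem (hy i t ht)) }
  refine ⟨B, fun y hy => hy.1, ?_, fun y hyL hy => ⟨hyL, hy⟩, ?_⟩
  · rintro l hl b ⟨hbL, hb⟩
    refine ⟨mul_mem (mul_mem hl hbL) (inv_mem hl), fun i t ht => ?_⟩
    have ht' : l⁻¹ * t * l⁻¹⁻¹ ∈ E (i + 1) := hinv l⁻¹ (inv_mem hl) (i + 1) t ht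
    have e : t⁻¹ * (l * b * l⁻¹)⁻¹ * t * (l * b * l⁻¹) =
        l * ((l⁻¹ * t * l⁻¹⁻¹)⁻¹ * b⁻¹ * (l⁻¹ * t * l⁻¹⁻¹) * b) * l⁻¹ := by group
    rw [e]
    exact hinv l hl i _ (hb i _ ht')
  · rintro b ⟨hbL, hb⟩ hcop
    have key : ∀ i, ∀ t ∈ E i, t * b = b * t := by
      intro i
      induction i with
      | zero =>
        intro t ht
        rw [hE0, Subgroup.mem_bot] at ht
        rw [ht, one_mul, mul_one]
      | succ i ih =>
        intro t ht
        have hc := hb i t ht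
        have hcT : t⁻¹ * b⁻¹ * t * b ∈ T := hEle i hc
        have hcp : ∃ a : ℕ, (t⁻¹ * b⁻¹ * t * b) ^ p ^ a = 1 := by
          obtain ⟨a, ha⟩ := hT ⟨_, hcT⟩
          exact ⟨a, by simpa using congrArg Subtype.val ha⟩
        have h1 := eq_one_of_conj_eq_mul (p := p) rfl (ih _ hc) hcp hcop
        calc t * b = b * t * (t⁻¹ * b⁻¹ * t * b) := by group
          _ = b * t := by rw [h1, mul_one]
    rw [Subgroup.mem_centralizer_iff]
    intro t ht
    exact key n t (by rw [hEn]; exact ht)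

end stab

section core
variable {G : Type*} [Group G] [Finite G] {p : ℕ} [Fact p.Prime]

/-- a normal subgroup `B` of `L = N_G(T)`, `T` in Goldschmidt's family, all of whose `p'`-elements
centralize `T`, lies in `O_{p',p}(L)` -/
theorem le_pPrimePCore_of_coprime_centralize (P : Sylow p G) {T : Subgroup G} (hT : T ∈ goldFamily P)
    (B : Subgroup G) (hBL : B ≤ Subgroup.normalizer (T : Set G))
    (hBn : ∀ l ∈ Subgroup.normalizer (T : Set G), ∀ b ∈ B, l * b * l⁻¹ ∈ B)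
    (hBc : ∀ b ∈ B, (orderOf b).Coprime p → b ∈ Subgroup.centralizer (T : Set G)) :
    B ≤ (Cfsg.pPrimePCore p ↥(Subgroup.normalizer (T : Set G))).map
      (Subgroup.normalizer (T : Set G)).subtype := by
  obtain ⟨hTP, -, hCK, -⟩ := hT
  generalize hL : Subgroup.normalizer (T : Set G) = L at *
  set O : Subgroup ↥L := Cfsg.pPrimeCore p ↥L with hO
  set K : Subgroup ↥L := Cfsg.pPrimePCore p ↥L with hK
  haveI hOn : O.Normal := pPrimeCore_normal' p
  haveI hKn : K.Normal := pPrimePCore_normal' p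
  set BX : Subgroup ↥L := B.subgroupOf L with hBX
  haveI hBXn : BX.Normal := by
    refine ⟨fun b hb l => ?_⟩
    rw [hBX, mem_subgroupOf] at hb ⊢
    exact hBn l l.2 b hb
  -- every element of `BX ⊔ K` has `p`-power order modulo `K`
  have hpow : ∀ y ∈ BX ⊔ K, ∃ a : ℕ, y ^ p ^ a ∈ K := by
    intro y hy
    rw [← SetLike.mem_coe, Subgroup.mul_normal, Set.mem_mul] at hy
    obtain ⟨b, hb, k, hk, rfl⟩ := hy
    obtain ⟨a, m, hndvd, hn⟩ := Nat.exists_eq_pow_mul_and_not_dvd (orderOf_pos (b : G)).ne' p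
      (Fact.out : p.Prime).ne_one
    have hbB : (b : G) ∈ B := by
      have hb2 : b ∈ B.subgroupOf L := hb
      rwa [mem_subgroupOf] at hb2
    have hbpow : (b : G) ^ p ^ a ∈ B := pow_mem hbB _
    have hcop : (orderOf ((b : G) ^ p ^ a)).Coprime p := by
      have h1 : orderOf ((b : G) ^ p ^ a) ∣ m := by
        apply orderOf_dvd_of_pow_eq_one
        rw [← pow_mul, ← hn, pow_orderOf_eq_one]
      exact Nat.Coprime.coprime_dvd_left h1
        (((Nat.Prime.coprime_iff_not_dvd (Fact.out : p.Prime)).mpr hndvd).symm)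
    have h2 : (b : G) ^ p ^ a ∈ Subgroup.centralizer (T : Set G) := hBc _ hbpow hcop
    have h3 := hCK h2
    obtain ⟨k', hk', hk'e⟩ := h3
    have h4 : b ^ p ^ a ∈ K := by
      have : k' = b ^ p ^ a := Subtype.ext (by rw [Subgroup.coe_pow]; exact hk'e)
      rw [← this]; exact hk'
    refine ⟨a, ?_⟩
    rw [← QuotientGroup.eq_one_iff, QuotientGroup.mk_pow, QuotientGroup.mk_mul,
      (QuotientGroup.eq_one_iff k).mpr hk, mul_one, ← QuotientGroup.mk_pow]
    exact (QuotientGroup.eq_one_iff _).mpr h4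
  -- the image of `BX ⊔ K` modulo `O` is a normal `p`-subgroup
  have hMn : ((BX ⊔ K).map (QuotientGroup.mk' O)).Normal :=
    Subgroup.Normal.map inferInstance _ (QuotientGroup.mk'_surjective O)
  have hMp : IsPGroup p ((BX ⊔ K).map (QuotientGroup.mk' O)) := by
    rintro ⟨_, y, hy, rfl⟩
    obtain ⟨a, ha⟩ := hpow y hy
    have h1 : QuotientGroup.mk' O (y ^ p ^ a) ∈ Cfsg.pCore p (↥L ⧸ O) := ha
    obtain ⟨c, hc⟩ := (pCore_isPGroup' (X := ↥L ⧸ O) p) ⟨_, h1⟩
    have hc' : (QuotientGroup.mk' O (y ^ p ^ a)) ^ p ^ c = 1 := by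
      simpa using congrArg Subtype.val hc
    refine ⟨a + c, Subtype.ext ?_⟩
    rw [Subgroup.coe_pow, Subgroup.coe_one]
    show (QuotientGroup.mk' O y) ^ p ^ (a + c) = 1
    rw [pow_add, pow_mul, ← map_pow]
    exact hc'
  have hM : (BX ⊔ K).map (QuotientGroup.mk' O) ≤ Cfsg.pCore p (↥L ⧸ O) := le_sSup ⟨hMn, hMp⟩
  intro b hb
  have hb' : (⟨b, hBL hb⟩ : ↥L) ∈ BX := by rw [hBX, mem_subgroupOf]; exact hb
  have h1 : (⟨b, hBL hb⟩ : ↥L) ∈ K := by
    show (⟨b, hBL hb⟩ : ↥L) ∈ (Cfsg.pCore p (↥L ⧸ O)).comap (QuotientGroup.mk' O)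
    rw [Subgroup.mem_comap]
    exact hM ⟨_, (le_sup_left : BX ≤ BX ⊔ K) hb', rfl⟩
  exact ⟨_, h1, rfl⟩

omit [Fact p.Prime] in
/-- a `p`-element of `O_{p',p}(N_G(T))`, `T` in Goldschmidt's family, lies in `T` -/
theorem mem_of_mem_pPrimePCore_of_pow (P : Sylow p G) {T : Subgroup G} (hT : T ∈ goldFamily P)
    {d : G} (hd : d ∈ (Cfsg.pPrimePCore p ↥(Subgroup.normalizer (T : Set G))).map
      (Subgroup.normalizer (T : Set G)).subtype) (hdp : ∃ a : ℕ, d ^ p ^ a = 1) : d ∈ T := by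
  obtain ⟨hTP, -, -, -, -, hcomm, -, hsup⟩ := hT
  have hOL : (Cfsg.pPrimeCore p ↥(Subgroup.normalizer (T : Set G))).map
      (Subgroup.normalizer (T : Set G)).subtype ≤ Subgroup.normalizer (T : Set G) :=
    Subgroup.map_subtype_le _
  have hcop : (Nat.card ↥((Cfsg.pPrimeCore p ↥(Subgroup.normalizer (T : Set G))).map
      (Subgroup.normalizer (T : Set G)).subtype)).Coprime p := by
    rw [Subgroup.card_map_of_injective (Subgroup.subtype_injective _)]
    exact pPrimeCore_coprime p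
  rw [← hsup, ← SetLike.mem_coe, Subgroup.coe_mul_of_left_le_normalizer_right _ _ hOL,
    Set.mem_mul] at hd
  obtain ⟨o, ho, t, ht, rfl⟩ := hd
  have hot : Commute o t := hcomm o ho t ht
  obtain ⟨a, ha⟩ := hdp
  obtain ⟨b, hb⟩ := (P.2.to_le hTP) ⟨t, ht⟩
  have hb' : t ^ p ^ b = 1 := by simpa using congrArg Subtype.val hb
  have h1 : (o * t) ^ p ^ (a + b) = 1 := by rw [pow_add, pow_mul, ha, one_pow]
  have h2 : t ^ p ^ (a + b) = 1 := by rw [add_comm, pow_add, pow_mul, hb', one_pow]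
  rw [hot.mul_pow, h2, mul_one] at h1
  have h3 : orderOf o ∣ p ^ (a + b) := orderOf_dvd_of_pow_eq_one h1
  have h4 : orderOf o ∣ Nat.card ↥((Cfsg.pPrimeCore p ↥(Subgroup.normalizer (T : Set G))).map
      (Subgroup.normalizer (T : Set G)).subtype) := by
    have := orderOf_dvd_natCard (⟨o, ho⟩ : ↥((Cfsg.pPrimeCore p ↥(Subgroup.normalizer (T : Set G))).map
      (Subgroup.normalizer (T : Set G)).subtype))
    rwa [Subgroup.orderOf_mk] at this
  have h5 : orderOf o = 1 :=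
    Nat.eq_one_of_dvd_coprimes (Nat.Coprime.pow_right (a + b) hcop) h4 h3
  rw [orderOf_eq_one_iff.mp h5, one_mul]
  exact ht

/-- a series `1 = R 0 ≤ ⋯ ≤ R m = W` of strongly closed subgroups of `P` with `[W, R (i+1)] ≤ R i` -/
structure NormalSeries (P : Sylow p G) (W : Subgroup G) (R : ℕ → Subgroup G) (m : ℕ) : Prop where
  zero : R 0 = ⊥
  top : R m = W
  closed : ∀ i, Cfsg.IsStronglyClosed (R i) (P : Subgroup G)
  comm : ∀ i, ∀ t ∈ R (i + 1), ∀ d ∈ W, t⁻¹ * d⁻¹ * t * d ∈ R i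

/-- the members of Goldschmidt's family contain `W`, and their normalizers normalize `W` -/
theorem gold_le_normalizer_of_series (P : Sylow p G) {W : Subgroup G} {R : ℕ → Subgroup G} {m : ℕ}
    (hS : NormalSeries P W R m) {T : Subgroup G} (hT : T ∈ goldFamily P) :
    W ≤ T ∧ Subgroup.normalizer (T : Set G) ≤ Subgroup.normalizer (W : Set G) := by
  have hWsc : Cfsg.IsStronglyClosed W (P : Subgroup G) := by
    have := hS.closed m
    rwa [hS.top] at this
  have hWP : W ≤ (P : Subgroup G) := hWsc.1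
  have hTP : T ≤ (P : Subgroup G) := hT.1
  have hTp : IsPGroup p T := P.2.to_le hTP
  -- conjugation by elements of `N(T)` keeps `T ⊓ R i`
  have hconjT : ∀ y ∈ Subgroup.normalizer (T : Set G), ∀ t ∈ T, y * t * y⁻¹ ∈ T :=
    fun y hy t ht => (Subgroup.mem_normalizer_iff.mp hy t).mp ht
  have hconjT' : ∀ y ∈ Subgroup.normalizer (T : Set G), ∀ t ∈ T, y⁻¹ * t * y ∈ T := by
    intro y hy t ht
    have := hconjT y⁻¹ (inv_mem hy) t ht
    simpa using this
  let E : ℕ → Subgroup G := fun i => if i ≤ m then T ⊓ R i else T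
  have hEle : ∀ i, E i ≤ T := by
    intro i
    show (if i ≤ m then T ⊓ R i else T) ≤ T
    split_ifs
    · exact inf_le_left
    · exact le_rfl
  have hE0 : E 0 = ⊥ := by
    show (if 0 ≤ m then T ⊓ R 0 else T) = ⊥
    rw [if_pos (Nat.zero_le m), hS.zero, inf_bot_eq]
  have hEn : E (m + 1) = T := by
    show (if m + 1 ≤ m then T ⊓ R (m + 1) else T) = T
    rw [if_neg (by omega)]
  have hinv : ∀ y ∈ Subgroup.normalizer (T : Set G), ∀ i, ∀ t ∈ E i, y * t * y⁻¹ ∈ E i := by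
    intro y hy i t ht
    have ht' : t ∈ (if i ≤ m then T ⊓ R i else T) := ht
    show y * t * y⁻¹ ∈ (if i ≤ m then T ⊓ R i else T)
    split_ifs at ht' ⊢ with him
    · have h1 : y * t * y⁻¹ ∈ T := hconjT y hy t ht'.1
      exact ⟨h1, (hS.closed i).2 t ht'.2 y (hTP h1)⟩
    · exact hconjT y hy t ht'
  obtain ⟨B, hBL, hBn, hBmem, hBc⟩ := exists_chain_stabilizer (p := p)
    (Subgroup.normalizer (T : Set G)) T hTp E hE0 (m + 1) hEn hEle hinv
  have hBK := le_pPrimePCore_of_coprime_centralize P hT B hBL hBn hBc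
  -- `N_W(T) ≤ B`
  have hDB : W ⊓ Subgroup.normalizer (T : Set G) ≤ B := by
    rintro d ⟨hdW, hdL⟩
    apply hBmem d hdL
    intro i t ht
    have ht' : t ∈ (if i + 1 ≤ m then T ⊓ R (i + 1) else T) := ht
    show t⁻¹ * d⁻¹ * t * d ∈ (if i ≤ m then T ⊓ R i else T)
    have hT1 : ∀ t ∈ T, t⁻¹ * d⁻¹ * t * d ∈ T := by
      intro t ht
      have h1 : d⁻¹ * t * d ∈ T := hconjT' d hdL t ht
      have : t⁻¹ * d⁻¹ * t * d = t⁻¹ * (d⁻¹ * t * d) := by group
      rw [this]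
      exact mul_mem (inv_mem ht) h1
    have hW3 : ∀ t ∈ T, t⁻¹ * d⁻¹ * t * d ∈ W := by
      intro t ht
      have h3 : t⁻¹ * d⁻¹ * t⁻¹⁻¹ ∈ W := by
        apply hWsc.2 _ (inv_mem hdW)
        exact mul_mem (mul_mem (inv_mem (hTP ht)) (inv_mem (hWP hdW))) (inv_mem (inv_mem (hTP ht)))
      have : t⁻¹ * d⁻¹ * t * d = (t⁻¹ * d⁻¹ * t⁻¹⁻¹) * d := by group
      rw [this]
      exact mul_mem h3 hdW
    by_cases h1 : i + 1 ≤ m
    · rw [if_pos h1] at ht'
      rw [if_pos (by omega : i ≤ m)]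
      exact ⟨hT1 t ht'.1, hS.comm i t ht'.2 d hdW⟩
    · rw [if_neg h1] at ht'
      by_cases h2 : i ≤ m
      · rw [if_pos h2]
        have him : i = m := by omega
        subst him
        refine ⟨hT1 t ht', ?_⟩
        rw [hS.top]
        exact hW3 t ht'
      · rw [if_neg h2]
        exact hT1 t ht'
  -- `N_W(T) ≤ T`
  have hDT : W ⊓ Subgroup.normalizer (T : Set G) ≤ T := by
    intro d hd
    apply mem_of_mem_pPrimePCore_of_pow P hT (hBK (hDB hd))
    obtain ⟨a, ha⟩ := P.2 ⟨d, hWP hd.1⟩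
    exact ⟨a, by simpa using congrArg Subtype.val ha⟩
  -- `T` normalizes `W`
  have hTW : T ≤ Subgroup.normalizer (W : Set G) := by
    intro t ht
    rw [Subgroup.mem_normalizer_iff]
    intro w
    constructor
    · intro hw
      exact hWsc.2 w hw t (mul_mem (mul_mem (hTP ht) (hWP hw)) (inv_mem (hTP ht)))
    · intro hw
      have h1 := hWsc.2 _ hw t⁻¹ (by
        have : t⁻¹ * (t * w * t⁻¹) * t⁻¹⁻¹ = w := by group
        rw [this]
        have h2 : t * w * t⁻¹ ∈ (P : Subgroup G) := hWP hw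
        have h3 : w = t⁻¹ * (t * w * t⁻¹) * t := by group
        rw [h3]
        exact mul_mem (mul_mem (inv_mem (hTP ht)) h2) (hTP ht))
      have : t⁻¹ * (t * w * t⁻¹) * t⁻¹⁻¹ = w := by group
      rwa [this] at h1
  have hWT : W ≤ T := by
    by_contra hcon
    have hS'P : T ⊔ W ≤ (P : Subgroup G) := sup_le hTP hWP
    have hne : T ≠ T ⊔ W := by
      intro h
      apply hcon
      rw [h]
      exact le_sup_right
    have hlt := card_lt_card_inf_normalizer (P.2.to_le hS'P) (le_sup_left : T ≤ T ⊔ W) hne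
    have hle : (T ⊔ W) ⊓ Subgroup.normalizer (T : Set G) ≤ T := by
      rintro s ⟨hs0, hsL⟩
      have hs : s ∈ T ⊔ W := hs0
      rw [← SetLike.mem_coe, Subgroup.coe_mul_of_left_le_normalizer_right T W hTW, Set.mem_mul] at hs
      obtain ⟨t, ht, w, hw, rfl⟩ := hs
      have hwL : w ∈ Subgroup.normalizer (T : Set G) := by
        have : w = t⁻¹ * (t * w) := by group
        rw [this]
        exact mul_mem (inv_mem (Subgroup.le_normalizer ht)) hsL
      exact mul_mem ht (hDT ⟨hw, hwL⟩)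
    exact absurd (Subgroup.card_le_of_le hle) (not_le.mpr hlt)
  refine ⟨hWT, ?_⟩
  intro y hy
  apply mem_normalizer_of_cj_eq
  apply cj_eq_of_le
  rintro _ ⟨w, hw, rfl⟩
  show y * w * y⁻¹ ∈ W
  exact hWsc.2 w hw y (hTP (hconjT y hy w (hWT hw)))

end core

section zs
variable {G : Type*} [Group G]

/-- the upper central series of a subgroup `V`, inside the ambient group -/
def zs (V : Subgroup G) (i : ℕ) : Subgroup G := (Subgroup.upperCentralSeries ↥V i).map V.subtype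

theorem zs_zero (V : Subgroup G) : zs V 0 = ⊥ := by
  unfold zs
  rw [Subgroup.upperCentralSeries_zero, Subgroup.map_bot]

theorem zs_le (V : Subgroup G) (i : ℕ) : zs V i ≤ V := Subgroup.map_subtype_le _

theorem mem_zs_succ (V : Subgroup G) (i : ℕ) (t : G) :
    t ∈ zs V (i + 1) ↔ t ∈ V ∧ ∀ d ∈ V, t * d * t⁻¹ * d⁻¹ ∈ zs V i := by
  constructor
  · rintro ⟨t', ht', rfl⟩
    refine ⟨t'.2, fun d hd => ?_⟩
    have h1 := Subgroup.mem_upperCentralSeries_succ_iff.mp ht' ⟨d, hd⟩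
    exact ⟨_, h1, by simp [commutatorElement_def]⟩
  · rintro ⟨ht, h⟩
    refine ⟨⟨t, ht⟩, ?_, rfl⟩
    show (⟨t, ht⟩ : ↥V) ∈ Subgroup.upperCentralSeries (↥V) (i + 1)
    rw [Subgroup.mem_upperCentralSeries_succ_iff]
    intro y
    obtain ⟨z', hz', hze⟩ := h y y.2
    have : z' = ⁅(⟨t, ht⟩ : ↥V), y⁆ := by
      apply Subtype.ext
      have hze' : (z' : G) = t * ↑y * t⁻¹ * (↑y)⁻¹ := hze
      rw [hze']
      simp [commutatorElement_def]
    rw [← this]
    exact hz'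

theorem zs_comm (V : Subgroup G) (i : ℕ) {t d : G} (ht : t ∈ zs V (i + 1)) (hd : d ∈ V) :
    t⁻¹ * d⁻¹ * t * d ∈ zs V i := by
  have h1 := ((mem_zs_succ V i t⁻¹).mp (inv_mem ht)).2 d⁻¹ (inv_mem hd)
  simpa using h1

theorem zs_conj (V : Subgroup G) {y : G} (hy : y ∈ Subgroup.normalizer (V : Set G)) :
    ∀ (i : ℕ) (t : G), t ∈ zs V i → y * t * y⁻¹ ∈ zs V i := by
  intro i
  induction i with
  | zero =>
    intro t ht
    rw [zs_zero, Subgroup.mem_bot] at ht
    rw [ht, mul_one, mul_inv_cancel]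
    exact one_mem _
  | succ i ih =>
    intro t ht
    obtain ⟨htV, h⟩ := (mem_zs_succ V i t).mp ht
    rw [mem_zs_succ]
    refine ⟨(Subgroup.mem_normalizer_iff.mp hy t).mp htV, fun d hd => ?_⟩
    have hd' : y⁻¹ * d * y ∈ V := by
      have := (Subgroup.mem_normalizer_iff.mp (inv_mem hy) d).mp hd
      simpa using this
    have h1 := ih _ (h _ hd')
    have e : y * t * y⁻¹ * d * (y * t * y⁻¹)⁻¹ * d⁻¹ =
        y * (t * (y⁻¹ * d * y) * t⁻¹ * (y⁻¹ * d * y)⁻¹) * y⁻¹ := by group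
    rw [e]
    exact h1

theorem exists_zs_eq [Finite G] {p : ℕ} [Fact p.Prime] {V : Subgroup G} (hV : IsPGroup p V) :
    ∃ m : ℕ, zs V m = V := by
  haveI : Group.IsNilpotent ↥V := hV.isNilpotent
  obtain ⟨m, hm⟩ := Group.IsNilpotent.nilpotent' (G := ↥V)
  refine ⟨m, ?_⟩
  unfold zs
  rw [hm, ← MonoidHom.range_eq_map, Subgroup.range_subtype]

end zs

section nctl
variable {G : Type*} [Group G] [Finite G] {p : ℕ} [Fact p.Prime]

/-- `N_G(W)` controls strong fusion in `P` -/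
def NCtl (P : Sylow p G) (W : Subgroup G) : Prop :=
  ∀ (A : Set G) (g : G), A ⊆ (P : Set G) → (fun a => g⁻¹ * a * g) '' A ⊆ (P : Set G) →
    ∃ c ∈ Subgroup.centralizer A, ∃ h ∈ Subgroup.normalizer (W : Set G), g = c * h

omit [Finite G] [Fact p.Prime] in
theorem prodOf_mem (H : Subgroup G) (l : List (Subgroup G × G)) (h : ∀ q ∈ l, q.2 ∈ H) :
    prodOf l ∈ H := by
  induction l with
  | nil => rw [prodOf_nil]; exact one_mem H
  | cons q l ih =>
    obtain ⟨T, x⟩ := q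
    rw [prodOf_cons]
    exact mul_mem (h (T, x) List.mem_cons_self) (ih (fun q hq => h q (List.mem_cons_of_mem _ hq)))

theorem nctl_of_gold (P : Sylow p G) (W : Subgroup G)
    (h : ∀ T ∈ goldFamily P, Subgroup.normalizer (T : Set G) ≤ Subgroup.normalizer (W : Set G)) :
    NCtl P W := by
  intro A g hA hAg
  obtain ⟨c, hc, l, hl, hg⟩ := gold_set P A hA g hAg
  refine ⟨c, hc, prodOf l, ?_, ?_⟩
  · apply prodOf_mem
    intro q hq
    obtain ⟨h1, h2⟩ := hl.mem _ q hq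
    exact h _ h1 h2
  · rw [hg]
    group

/-- the series criterion -/
theorem nctl_of_series (P : Sylow p G) {W : Subgroup G} {R : ℕ → Subgroup G} {m : ℕ}
    (hS : NormalSeries P W R m) : NCtl P W :=
  nctl_of_gold P W (fun _ hT => (gold_le_normalizer_of_series P hS hT).2)

/-- if `N_G(V)` controls strong fusion in `P`, then the upper central series of `V` is a series of
strongly closed subgroups -/
theorem normalSeries_of_nctl (P : Sylow p G) {V : Subgroup G} (hVP : V ≤ (P : Subgroup G))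
    (h : NCtl P V) : ∃ m : ℕ, NormalSeries P V (zs V) m := by
  obtain ⟨m, hm⟩ := exists_zs_eq (P.2.to_le hVP)
  refine ⟨m, zs_zero V, hm, ?_, fun i t ht d hd => zs_comm V i ht hd⟩
  intro i
  refine ⟨(zs_le V i).trans hVP, ?_⟩
  intro r hr g hg
  have hrP : r ∈ (P : Subgroup G) := hVP (zs_le V i hr)
  obtain ⟨c, hc, y, hy, hgy⟩ := h {r} g⁻¹ (Set.singleton_subset_iff.mpr hrP)
    (by rw [Set.image_singleton, Set.singleton_subset_iff, inv_inv]; exact hg)
  have hcr : r * c = c * r := Subgroup.mem_centralizer_iff.mp hc r rfl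
  have hgeq : g = y⁻¹ * c⁻¹ := by
    have : g⁻¹⁻¹ = (c * y)⁻¹ := by rw [hgy]
    rw [inv_inv] at this
    rw [this]; group
  have e : g * r * g⁻¹ = y⁻¹ * r * y⁻¹⁻¹ := by
    rw [hgeq]
    calc y⁻¹ * c⁻¹ * r * (y⁻¹ * c⁻¹)⁻¹ = y⁻¹ * (c⁻¹ * (r * c)) * y := by group
      _ = y⁻¹ * (c⁻¹ * (c * r)) * y := by rw [hcr]
      _ = y⁻¹ * r * y⁻¹⁻¹ := by group
  rw [e]
  exact zs_conj V (inv_mem hy) i r hr

omit [Fact p.Prime] in
theorem mem_normalizer_sSup {𝒱 : Set (Subgroup G)} {y : G}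
    (h : ∀ V ∈ 𝒱, y ∈ Subgroup.normalizer (V : Set G)) :
    y ∈ Subgroup.normalizer ((sSup 𝒱 : Subgroup G) : Set G) := by
  apply mem_normalizer_of_cj_eq
  apply cj_eq_of_le
  rw [cj_def, Subgroup.map_le_iff_le_comap]
  apply sSup_le
  intro V hV
  rw [← Subgroup.map_le_iff_le_comap, ← cj_def, cj_eq_of_mem_normalizer (h V hV)]
  exact le_sSup hV

/-- the join of subgroups whose normalizers control strong fusion has the same property -/
theorem nctl_sSup (P : Sylow p G) (𝒱 : Set (Subgroup G)) (hle : ∀ V ∈ 𝒱, V ≤ (P : Subgroup G))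
    (h : ∀ V ∈ 𝒱, NCtl P V) : NCtl P (sSup 𝒱) := by
  apply nctl_of_gold
  intro T hT y hy
  apply mem_normalizer_sSup
  intro V hV
  obtain ⟨m, hm⟩ := normalSeries_of_nctl P (hle V hV) (h V hV)
  exact (gold_le_normalizer_of_series P hm hT).2 hy

end nctl

section abelian
variable {G : Type*} [Group G] [Finite G] {p : ℕ} [Fact p.Prime]

/-- an abelian strongly closed subgroup: its normalizer controls strong fusion -/
theorem nctl_of_abelian_stronglyClosed (P : Sylow p G) {A : Subgroup G}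
    (hA : Cfsg.IsStronglyClosed A (P : Subgroup G)) (hab : ∀ a ∈ A, ∀ b ∈ A, a * b = b * a) :
    NCtl P A := by
  apply nctl_of_series P (R := fun i => if i = 0 then ⊥ else A) (m := 1)
  refine ⟨by simp, by simp, ?_, ?_⟩
  · intro i
    by_cases hi : i = 0
    · simp only [hi, if_true]
      exact ⟨bot_le, fun x hx g _ => by rw [Subgroup.mem_bot] at hx; rw [hx]; simp⟩
    · simp only [hi, if_false]
      exact hA
  · intro i t ht d hd
    have ht' : t ∈ A := by simpa using ht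
    by_cases hi : i = 0
    · simp only [hi, if_true, Subgroup.mem_bot]
      have h1 : d⁻¹ * t = t * d⁻¹ := hab _ (inv_mem hd) _ ht'
      calc t⁻¹ * d⁻¹ * t * d = t⁻¹ * (d⁻¹ * t) * d := by group
        _ = t⁻¹ * (t * d⁻¹) * d := by rw [h1]
        _ = 1 := by group
    · simp only [hi, if_false]
      exact mul_mem (mul_mem (mul_mem (inv_mem ht') (inv_mem hd)) ht') hd

end abelian

section lift
variable {G : Type*} [Group G] [Finite G] {p : ℕ} [Fact p.Prime]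

/-- control of strong fusion lifts from a normal subgroup `N`: if `V ≤ P ∩ N` and `N_N(V)` controls strong
`N`-fusion in `P ∩ N`, then the normalizer of `W = ⟨V^x : x ∈ N_G(P ∩ N)⟩` controls strong fusion in `P` -/
theorem nctl_lift_normal (N : Subgroup G) [hN : N.Normal] (P : Sylow p G) (V : Subgroup G)
    (hV : V ≤ (P : Subgroup G) ⊓ N)
    (hctrl : ∀ A : Subgroup G, A ≤ (P : Subgroup G) ⊓ N → ∀ n ∈ N,
      A.map (MulAut.conj n).toMonoidHom ≤ (P : Subgroup G) ⊓ N →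
      ∃ h ∈ N ⊓ Subgroup.normalizer (V : Set G), ∃ c ∈ N ⊓ Subgroup.centralizer (A : Set G), n = h * c)
    (W : Subgroup G)
    (hW : W = Subgroup.closure (⋃ x ∈ Subgroup.normalizer (((P : Subgroup G) ⊓ N : Subgroup G) : Set G),
      ((V.map (MulAut.conj x).toMonoidHom : Subgroup G) : Set G))) :
    NCtl P W := by
  set Q : Subgroup G := (P : Subgroup G) ⊓ N with hQ
  have hQN : Q ≤ N := inf_le_right
  have hQP : Q ≤ (P : Subgroup G) := inf_le_left
  -- the Sylow subgroup of `N`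
  have hQidx : ¬ p ∣ Q.relIndex N :=
    sylow_inf_relIndex P ⊤ N le_top le_top (fun h _ k hk => hN.conj_mem k hk h)
  have hQp : IsPGroup p (Q.subgroupOf N) := (P.2.to_le hQP).comap_subtype
  let Q' : Sylow p ↥N := hQp.toSylow hQidx
  have hQ'mem : ∀ s : ↥N, s ∈ (Q' : Subgroup ↥N) ↔ (s : G) ∈ (P : Subgroup G) := by
    intro s
    have : s ∈ (Q' : Subgroup ↥N) ↔ s ∈ Q.subgroupOf N := Iff.rfl
    rw [this, mem_subgroupOf, hQ, Subgroup.mem_inf]
    exact ⟨fun h => h.1, fun h => ⟨h, s.2⟩⟩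
  have hQ'map : (Q' : Subgroup ↥N).map N.subtype = Q := by
    have : (Q' : Subgroup ↥N) = Q.subgroupOf N := rfl
    rw [this, Subgroup.map_subgroupOf_eq_of_le hQN]
  -- conjugates of `V` under `N_G(Q)`
  have hVx : ∀ x ∈ Subgroup.normalizer (Q : Set G), cj x V ≤ Q := by
    intro x hx
    have := cj_mono x hV
    rwa [cj_eq_of_mem_normalizer hx] at this
  have hVxW : ∀ x ∈ Subgroup.normalizer (Q : Set G), cj x V ≤ W := by
    intro x hx g hg
    rw [hW]
    apply Subgroup.subset_closure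
    exact Set.mem_iUnion₂.mpr ⟨x, hx, hg⟩
  -- `N_G(Q) ≤ N_G(W)`
  have hNQW : Subgroup.normalizer (Q : Set G) ≤ Subgroup.normalizer (W : Set G) := by
    intro x hx
    apply mem_normalizer_of_cj_eq
    apply cj_eq_of_le
    rw [cj_def, Subgroup.map_le_iff_le_comap]
    conv_lhs => rw [hW]
    rw [Subgroup.closure_le]
    intro g hg
    obtain ⟨x', hx', hg'⟩ := Set.mem_iUnion₂.mp hg
    have h1 : (MulAut.conj x).toMonoidHom g ∈ cj x (cj x' V) := ⟨g, hg', rfl⟩
    rw [cj_mul] at h1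
    exact hVxW (x * x') (mul_mem hx hx') h1
  -- the family in `↥N`
  set 𝒱' : Set (Subgroup ↥N) :=
    {V' | ∃ x ∈ Subgroup.normalizer (Q : Set G), V' = (cj x V).subgroupOf N} with h𝒱'
  have hle' : ∀ V' ∈ 𝒱', V' ≤ (Q' : Subgroup ↥N) := by
    rintro V' ⟨x, hx, rfl⟩ v hv
    rw [hQ'mem]
    rw [mem_subgroupOf] at hv
    exact hQP (hVx x hx hv)
  have hn' : ∀ V' ∈ 𝒱', NCtl Q' V' := by
    rintro V' ⟨x, hx, rfl⟩ A' n' hA' hAn'
    -- the subgroup generated by `A'` in `G`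
    set A : Subgroup G := Subgroup.closure ((fun a : ↥N => (a : G)) '' A') with hA
    have hAQ : A ≤ Q := by
      rw [hA, Subgroup.closure_le]
      rintro _ ⟨a, ha, rfl⟩
      exact ⟨(hQ'mem a).mp (hA' ha), a.2⟩
    have hAnQ : cj (n' : G)⁻¹ A ≤ Q := by
      rw [cj_def, hA, MonoidHom.map_closure, Subgroup.closure_le]
      rintro _ ⟨_, ⟨a, ha, rfl⟩, rfl⟩
      have h1 : n'⁻¹ * a * n' ∈ (Q' : Subgroup ↥N) := hAn' ⟨a, ha, rfl⟩
      have h2 := (hQ'mem _).mp h1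
      have e : (MulAut.conj (n' : G)⁻¹).toMonoidHom (a : G) = ((n'⁻¹ * a * n' : ↥N) : G) := by
        simp
      rw [SetLike.mem_coe, e]
      exact ⟨h2, (n'⁻¹ * a * n').2⟩
    have hxinv : x⁻¹ ∈ Subgroup.normalizer (Q : Set G) := inv_mem hx
    have hA₀ : cj x⁻¹ A ≤ Q := by
      have := cj_mono x⁻¹ hAQ
      rwa [cj_eq_of_mem_normalizer hxinv] at this
    have hn₀N : x⁻¹ * (n' : G)⁻¹ * x ∈ N := by
      have := hN.conj_mem _ (inv_mem n'.2) x⁻¹
      simpa using this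
    have hn₀ : (cj x⁻¹ A).map (MulAut.conj (x⁻¹ * (n' : G)⁻¹ * x)).toMonoidHom ≤ Q := by
      rw [← cj_def, cj_mul]
      have e : x⁻¹ * (n' : G)⁻¹ * x * x⁻¹ = x⁻¹ * (n' : G)⁻¹ := by group
      rw [e, ← cj_mul]
      have := cj_mono x⁻¹ hAnQ
      rwa [cj_eq_of_mem_normalizer hxinv] at this
    obtain ⟨h₀, hh₀, c₀, hc₀, hnhc⟩ := hctrl (cj x⁻¹ A) hA₀ _ hn₀N hn₀
    -- `n' = c * h`
    have hcN : x * c₀⁻¹ * x⁻¹ ∈ N := hN.conj_mem _ (inv_mem hc₀.1) x
    have hhN : x * h₀⁻¹ * x⁻¹ ∈ N := hN.conj_mem _ (inv_mem hh₀.1) x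
    have hcC : x * c₀⁻¹ * x⁻¹ ∈ Subgroup.centralizer (A : Set G) := by
      rw [Subgroup.mem_centralizer_iff]
      intro a ha
      have ha' : x⁻¹ * a * x ∈ cj x⁻¹ A := ⟨a, ha, by simp⟩
      have h1 : (x⁻¹ * a * x) * c₀⁻¹ = c₀⁻¹ * (x⁻¹ * a * x) :=
        Subgroup.mem_centralizer_iff.mp (inv_mem hc₀.2) _ ha'
      calc a * (x * c₀⁻¹ * x⁻¹) = x * ((x⁻¹ * a * x) * c₀⁻¹) * x⁻¹ := by group
        _ = x * (c₀⁻¹ * (x⁻¹ * a * x)) * x⁻¹ := by rw [h1]
        _ = x * c₀⁻¹ * x⁻¹ * a := by group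
    have hhV : x * h₀⁻¹ * x⁻¹ ∈ Subgroup.normalizer ((cj x V : Subgroup G) : Set G) := by
      rw [← cj_normalizer]
      exact ⟨h₀⁻¹, inv_mem hh₀.2, by simp [MulAut.conj_apply]⟩
    have hneq : (n' : G) = (x * c₀⁻¹ * x⁻¹) * (x * h₀⁻¹ * x⁻¹) := by
      have h1 : (n' : G)⁻¹ = x * (h₀ * c₀) * x⁻¹ := by rw [← hnhc]; group
      have h2 : (n' : G) = (x * (h₀ * c₀) * x⁻¹)⁻¹ := by rw [← h1, inv_inv]
      rw [h2]; group
    refine ⟨⟨_, hcN⟩, ?_, ⟨_, hhN⟩, ?_, Subtype.ext hneq⟩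
    · rw [Subgroup.mem_centralizer_iff]
      intro a ha
      apply Subtype.ext
      have haA : (a : G) ∈ A := by
        rw [hA]
        exact Subgroup.subset_closure ⟨a, ha, rfl⟩
      exact Subgroup.mem_centralizer_iff.mp hcC _ haA
    · rw [Subgroup.mem_normalizer_iff]
      intro v
      rw [mem_subgroupOf, mem_subgroupOf]
      exact Subgroup.mem_normalizer_iff.mp hhV (v : G)
  have hctl' : NCtl Q' (sSup 𝒱') := nctl_sSup Q' 𝒱' hle' hn'
  -- `W` as the image of `sSup 𝒱'`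
  have hWmap : (sSup 𝒱').map N.subtype = W := by
    apply le_antisymm
    · rw [Subgroup.map_le_iff_le_comap]
      apply sSup_le
      rintro V' ⟨x, hx, rfl⟩ v hv
      rw [mem_subgroupOf] at hv
      exact hVxW x hx hv
    · conv_lhs => rw [hW]
      rw [Subgroup.closure_le]
      intro g hg
      obtain ⟨x, hx, hg'⟩ := Set.mem_iUnion₂.mp hg
      have hg'' : g ∈ cj x V := hg'
      have hgN : g ∈ N := hQN (hVx x hx hg'')
      have h1 : (⟨g, hgN⟩ : ↥N) ∈ sSup 𝒱' := by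
        have h2 : (cj x V).subgroupOf N ≤ sSup 𝒱' := le_sSup ⟨x, hx, rfl⟩
        exact h2 (by rw [mem_subgroupOf]; exact hg'')
      exact ⟨_, h1, rfl⟩
  have hWQ : W ≤ Q := by
    rw [← hWmap, ← hQ'map]
    exact Subgroup.map_mono (sSup_le hle')
  -- `N`-control of single elements
  have hNW : ∀ r ∈ Q, ∀ n ∈ N, n * r * n⁻¹ ∈ Q →
      ∃ h ∈ Subgroup.normalizer (W : Set G), n * r * n⁻¹ = h * r * h⁻¹ := by
    intro r hr n hn hnr
    obtain ⟨c', hc', h', hh', hnch⟩ := hctl' {(⟨r, hQN hr⟩ : ↥N)} (⟨n, hn⟩ : ↥N)⁻¹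
      (Set.singleton_subset_iff.mpr ((hQ'mem _).mpr (hQP hr)))
      (by
        rw [Set.image_singleton, Set.singleton_subset_iff, inv_inv]
        exact (hQ'mem _).mpr (hQP hnr))
    have hcr : (⟨r, hQN hr⟩ : ↥N) * c' = c' * ⟨r, hQN hr⟩ :=
      Subgroup.mem_centralizer_iff.mp hc' _ rfl
    have hcr' : r * (c' : G) = (c' : G) * r := congrArg Subtype.val hcr
    have hh'G : (h' : G) ∈ Subgroup.normalizer (W : Set G) := by
      rw [← hWmap]
      apply Subgroup.le_normalizer_map N.subtype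
      exact ⟨h', hh', rfl⟩
    have hnG : n⁻¹ = (c' : G) * (h' : G) := by
      have := congrArg Subtype.val hnch
      simpa using this
    have hneq : n = (h' : G)⁻¹ * (c' : G)⁻¹ := by
      have : n⁻¹⁻¹ = ((c' : G) * (h' : G))⁻¹ := by rw [hnG]
      rw [inv_inv] at this
      rw [this]; group
    refine ⟨(h' : G)⁻¹, inv_mem hh'G, ?_⟩
    rw [hneq]
    calc (h' : G)⁻¹ * (c' : G)⁻¹ * r * ((h' : G)⁻¹ * (c' : G)⁻¹)⁻¹
        = (h' : G)⁻¹ * ((c' : G)⁻¹ * (r * (c' : G))) * (h' : G) := by group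
      _ = (h' : G)⁻¹ * ((c' : G)⁻¹ * ((c' : G) * r)) * (h' : G) := by rw [hcr']
      _ = (h' : G)⁻¹ * r * (h' : G)⁻¹⁻¹ := by group
  -- Frattini
  have hfrat : ∀ g : G, ∃ x ∈ Subgroup.normalizer (Q : Set G), ∃ n ∈ N, g = x * n := by
    intro g
    have h1 := Sylow.normalizer_sup_eq_top Q'
    rw [hQ'map] at h1
    have h2 : g ∈ Subgroup.normalizer (Q : Set G) ⊔ N := by rw [h1]; trivial
    rw [← SetLike.mem_coe, Subgroup.mul_normal, Set.mem_mul] at h2
    obtain ⟨x, hx, n, hn, rfl⟩ := h2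
    exact ⟨x, hx, n, hn, rfl⟩
  -- the series
  obtain ⟨m, hm⟩ := exists_zs_eq (P.2.to_le (hWQ.trans hQP))
  apply nctl_of_series P (R := zs W) (m := m)
  refine ⟨zs_zero W, hm, ?_, fun i t ht d hd => zs_comm W i ht hd⟩
  intro i
  refine ⟨(zs_le W i).trans (hWQ.trans hQP), ?_⟩
  intro r hr g hg
  have hrQ : r ∈ Q := hWQ (zs_le W i hr)
  have hgQ : g * r * g⁻¹ ∈ Q := ⟨hg, hN.conj_mem r (hQN hrQ) g⟩
  obtain ⟨x, hx, n, hn, rfl⟩ := hfrat g
  have hnr : n * r * n⁻¹ ∈ Q := by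
    have h1 := (Subgroup.mem_normalizer_iff.mp (inv_mem hx) _).mp hgQ
    have e : x⁻¹ * (x * n * r * (x * n)⁻¹) * x⁻¹⁻¹ = n * r * n⁻¹ := by group
    rwa [e] at h1
  obtain ⟨h, hh, hnh⟩ := hNW r hrQ n hn hnr
  have e : x * n * r * (x * n)⁻¹ = (x * h) * r * (x * h)⁻¹ := by
    calc x * n * r * (x * n)⁻¹ = x * (n * r * n⁻¹) * x⁻¹ := by group
      _ = x * (h * r * h⁻¹) * x⁻¹ := by rw [hnh]
      _ = (x * h) * r * (x * h)⁻¹ := by group
  rw [e]
  exact zs_conj W (mul_mem (hNQW hx) hh) i r hr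

end lift

end Cfsg.Agent.Lib.Helper12
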