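import Mathlib
import Cfsg.Agent.Lib.Helper20.AschDefs

/-!
# S5630 (Aschbacher's theorem, linear case), leaf (B0) `burnside` (helper12)

Burnside's theorem in the density form: a subalgebra `A` of `M_ι(F)` that acts irreducibly on `F^ι` and whose
centraliser consists of the scalar matrices is the full matrix algebra.  No finiteness of `F`, no algebraic
closedness: the hypothesis `Cen = F` replaces Schur's lemma.
-/

set_option autoImplicit false
set_option linter.unusedSectionVars false
set_option linter.unusedVariables false

namespace Cfsg.Agent.Lib.Helper12.AschLeaf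
open Matrix Cfsg.Geo Cfsg.Agent.Lib.Helper20.Asch
open scoped Kronecker

section core
variable {F : Type*} [Field F] {ι : Type*} [Fintype ι] [DecidableEq ι]

/-- Jacobson density, one step: a vector outside the span of a finite set `s` can be separated from `s` by an
element of `A`. -/
theorem density_finset (A : Subalgebra F (Matrix ι ι F))
    (hirr : ∀ W : Submodule F (ι → F), (∀ a ∈ A, W.map (Matrix.toLin' a) ≤ W) → W = ⊥ ∨ W = ⊤)
    (hcen : ∀ M : Matrix ι ι F, (∀ a ∈ A, M * a = a * M) → ∃ c : F, M = c • (1 : Matrix ι ι F))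
    (s : Finset (ι → F)) :
    ∀ v : ι → F, v ∉ Submodule.span F (s : Set (ι → F)) →
      ∃ a ∈ A, (∀ u ∈ s, a *ᵥ u = 0) ∧ a *ᵥ v ≠ 0 := by
  classical
  induction s using Finset.induction_on with
  | empty =>
    intro v hv
    refine ⟨1, A.one_mem, by simp, ?_⟩
    rw [Matrix.one_mulVec]
    intro h0
    apply hv
    rw [h0]
    exact Submodule.zero_mem _
  | insert u s hus ih =>
    intro v hv
    -- `a` kills the span of `s` as soon as it kills `s`
    have hkill : ∀ a : Matrix ι ι F, (∀ w ∈ s, a *ᵥ w = 0) →
        ∀ x ∈ Submodule.span F (s : Set (ι → F)), a *ᵥ x = 0 := by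
      intro a ha x hx
      induction hx using Submodule.span_induction with
      | mem x hx => exact ha x hx
      | zero => exact Matrix.mulVec_zero a
      | add x y _ _ hx hy => rw [Matrix.mulVec_add, hx, hy, add_zero]
      | smul c x _ hx => rw [Matrix.mulVec_smul, hx, smul_zero]
    have hsub : Submodule.span F (s : Set (ι → F)) ≤
        Submodule.span F ((insert u s : Finset (ι → F)) : Set (ι → F)) := by
      apply Submodule.span_mono
      intro x hx
      exact Finset.mem_insert_of_mem hx
    have hv' : v ∉ Submodule.span F (s : Set (ι → F)) := fun h => hv (hsub h)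
    by_cases hu : u ∈ Submodule.span F (s : Set (ι → F))
    · obtain ⟨a, haA, hak, hav⟩ := ih v hv'
      refine ⟨a, haA, ?_, hav⟩
      intro w hw
      rcases Finset.mem_insert.mp hw with rfl | hw
      · exact hkill a hak _ hu
      · exact hak w hw
    · -- main case
      by_contra hcon
      push Not at hcon
      -- the left ideal `J` of elements of `A` killing `s`
      let J : Submodule F (Matrix ι ι F) :=
        { carrier := {a | a ∈ A ∧ ∀ w ∈ s, a *ᵥ w = 0}
          add_mem' := by
            rintro a b ⟨ha, ha'⟩ ⟨hb, hb'⟩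
            refine ⟨A.add_mem ha hb, fun w hw => ?_⟩
            rw [Matrix.add_mulVec, ha' w hw, hb' w hw, add_zero]
          zero_mem' := ⟨A.zero_mem, fun w _ => Matrix.zero_mulVec w⟩
          smul_mem' := by
            rintro c a ⟨ha, ha'⟩
            refine ⟨A.smul_mem ha c, fun w hw => ?_⟩
            rw [Matrix.smul_mulVec, ha' w hw, smul_zero] }
      have hJmem : ∀ a : Matrix ι ι F, a ∈ J ↔ (a ∈ A ∧ ∀ w ∈ s, a *ᵥ w = 0) := fun a => Iff.rfl
      have hJmul : ∀ b ∈ A, ∀ a ∈ J, b * a ∈ J := by
        intro b hb a ha
        refine ⟨A.mul_mem hb ha.1, fun w hw => ?_⟩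
        rw [← Matrix.mulVec_mulVec, ha.2 w hw, Matrix.mulVec_zero]
      let f : J →ₗ[F] (ι → F) :=
        { toFun := fun a => (a : Matrix ι ι F) *ᵥ u
          map_add' := fun a b => by simp [Matrix.add_mulVec]
          map_smul' := fun c a => by simp [Matrix.smul_mulVec] }
      let g : J →ₗ[F] (ι → F) :=
        { toFun := fun a => (a : Matrix ι ι F) *ᵥ v
          map_add' := fun a b => by simp [Matrix.add_mulVec]
          map_smul' := fun c a => by simp [Matrix.smul_mulVec] }
      have hf : ∀ a : J, f a = (a : Matrix ι ι F) *ᵥ u := fun a => rfl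
      have hg : ∀ a : J, g a = (a : Matrix ι ι F) *ᵥ v := fun a => rfl
      -- the range of `f` is `A`-invariant and non-zero, hence everything
      have hrange : LinearMap.range f = ⊤ := by
        have hinv : ∀ b ∈ A, (LinearMap.range f).map (Matrix.toLin' b) ≤ LinearMap.range f := by
          rintro b hb _ ⟨_, ⟨a, rfl⟩, rfl⟩
          refine ⟨⟨b * (a : Matrix ι ι F), hJmul b hb a a.2⟩, ?_⟩
          rw [hf, hf, Matrix.toLin'_apply, Matrix.mulVec_mulVec]
        rcases hirr _ hinv with h0 | h1
        · exfalso
          obtain ⟨a, haA, hak, hau⟩ := ih u hu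
          apply hau
          have : f ⟨a, haA, hak⟩ ∈ LinearMap.range f := ⟨_, rfl⟩
          rw [h0, Submodule.mem_bot] at this
          exact this
        · exact h1
      -- `ker f ≤ ker g`
      have hker : ∀ a : J, f a = 0 → g a = 0 := by
        intro a ha
        rw [hg]
        apply hcon a a.2.1
        intro w hw
        rcases Finset.mem_insert.mp hw with rfl | hw
        · exact ha
        · exact a.2.2 w hw
      obtain ⟨σ, hσ⟩ := f.exists_rightInverse_of_surjective hrange
      have hσ' : ∀ x, f (σ x) = x := fun x => by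
        have := congrArg (fun k => k x) hσ
        simpa using this
      let φ : (ι → F) →ₗ[F] (ι → F) := g.comp σ
      have hφ : ∀ a : J, φ (f a) = g a := by
        intro a
        have h1 : f (σ (f a) - a) = 0 := by rw [map_sub, hσ', sub_self]
        have h2 := hker _ h1
        rw [map_sub, sub_eq_zero] at h2
        exact h2
      -- `φ` commutes with `A`
      have hcomm : ∀ b ∈ A, LinearMap.toMatrix' φ * b = b * LinearMap.toMatrix' φ := by
        intro b hb
        apply Matrix.toLin'.injective
        apply LinearMap.ext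
        intro x
        obtain ⟨a, rfl⟩ : ∃ a, f a = x := ⟨σ x, hσ' x⟩
        rw [Matrix.toLin'_mul, Matrix.toLin'_mul, Matrix.toLin'_toMatrix']
        simp only [LinearMap.comp_apply, Matrix.toLin'_apply]
        have e1 : b *ᵥ f a = f ⟨b * (a : Matrix ι ι F), hJmul b hb a a.2⟩ := by
          rw [hf, hf, Matrix.mulVec_mulVec]
        rw [e1, hφ, hφ, hg, hg, Matrix.mulVec_mulVec]
      obtain ⟨c, hc⟩ := hcen _ hcomm
      have hφc : ∀ x, φ x = c • x := by
        intro x
        have := LinearMap.toMatrix'_mulVec φ x
        rw [hc, Matrix.smul_mulVec, Matrix.one_mulVec] at this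
        exact this.symm
      -- now `a (v - c u) = 0` for all `a ∈ J`
      have hvu : v - c • u ∉ Submodule.span F (s : Set (ι → F)) := by
        intro h
        apply hv
        have h1 : v = (v - c • u) + c • u := by abel
        rw [h1]
        apply Submodule.add_mem _ (hsub h)
        apply Submodule.smul_mem
        apply Submodule.subset_span
        exact Finset.mem_insert_self u s
      obtain ⟨a, haA, hak, hav⟩ := ih _ hvu
      apply hav
      have h2 := hφ ⟨a, haA, hak⟩
      rw [hφc, hf, hg] at h2
      rw [Matrix.mulVec_sub, Matrix.mulVec_smul]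
      exact sub_eq_zero.mpr h2.symm

/-- Burnside's theorem, abstract form. -/
theorem eq_top_of_irr_of_cen (A : Subalgebra F (Matrix ι ι F))
    (hirr : ∀ W : Submodule F (ι → F), (∀ a ∈ A, W.map (Matrix.toLin' a) ≤ W) → W = ⊥ ∨ W = ⊤)
    (hcen : ∀ M : Matrix ι ι F, (∀ a ∈ A, M * a = a * M) → ∃ c : F, M = c • (1 : Matrix ι ι F)) :
    A = ⊤ := by
  classical
  -- all matrix units lie in `A`
  have hunit : ∀ k i : ι, Matrix.single k i (1 : F) ∈ A := by
    intro k i
    let s : Finset (ι → F) := (Finset.univ.erase i).image (fun j => Pi.single j (1 : F))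
    have hs : (Pi.single i (1 : F) : ι → F) ∉ Submodule.span F (s : Set (ι → F)) := by
      intro h
      have h0 : ∀ x ∈ Submodule.span F (s : Set (ι → F)), x i = 0 := by
        intro x hx
        induction hx using Submodule.span_induction with
        | mem x hx =>
          obtain ⟨j, hj, rfl⟩ := Finset.mem_image.mp (Finset.mem_coe.mp hx)
          have hji : j ≠ i := (Finset.mem_erase.mp hj).1
          simp [hji.symm]
        | zero => rfl
        | add x y _ _ hx hy => simp [hx, hy]
        | smul c x _ hx => simp [hx]
      have := h0 _ h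
      simp at this
    obtain ⟨a0, ha0, hk0, hv0⟩ := density_finset A hirr hcen s _ hs
    -- the orbit of `w = a0 e_i` under `A` is everything
    obtain ⟨w, hwdef⟩ : ∃ w : ι → F, w = a0 *ᵥ Pi.single i 1 := ⟨_, rfl⟩
    rw [← hwdef] at hv0
    let W : Submodule F (ι → F) :=
      A.toSubmodule.map ((LinearMap.applyₗ w).comp (Matrix.toLin' : Matrix ι ι F ≃ₗ[F] _).toLinearMap)
    have hWmem : ∀ x, x ∈ W ↔ ∃ b ∈ A, b *ᵥ w = x := by
      intro x
      constructor
      · rintro ⟨b, hb, rfl⟩
        exact ⟨b, hb, by simp [Matrix.toLin'_apply]⟩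
      · rintro ⟨b, hb, rfl⟩
        exact ⟨b, hb, by simp [Matrix.toLin'_apply]⟩
    have hWinv : ∀ a ∈ A, W.map (Matrix.toLin' a) ≤ W := by
      rintro a ha _ ⟨x, hx, rfl⟩
      obtain ⟨b, hb, rfl⟩ := (hWmem x).mp hx
      rw [hWmem]
      exact ⟨a * b, A.mul_mem ha hb, by rw [Matrix.toLin'_apply, Matrix.mulVec_mulVec]⟩
    have hWtop : W = ⊤ := by
      rcases hirr W hWinv with h0 | h1
      · exfalso
        apply hv0
        have : w ∈ W := (hWmem w).mpr ⟨1, A.one_mem, Matrix.one_mulVec w⟩
        rw [h0, Submodule.mem_bot] at this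
        exact this
      · exact h1
    obtain ⟨b, hb, hbw⟩ := (hWmem (Pi.single k 1)).mp (by rw [hWtop]; trivial)
    have hba : b * a0 = Matrix.single k i (1 : F) := by
      apply Matrix.toLin'.injective
      apply LinearMap.pi_ext'
      intro j
      apply LinearMap.ext_ring
      simp only [LinearMap.comp_apply, LinearMap.coe_single, Matrix.toLin'_apply]
      by_cases hji : j = i
      · subst hji
        rw [← Matrix.mulVec_mulVec, ← hwdef, hbw]
        ext l
        simp [Matrix.single_apply, Pi.single_apply, eq_comm]
      · rw [← Matrix.mulVec_mulVec, hk0 _ (Finset.mem_image.mpr ⟨j, Finset.mem_erase.mpr ⟨hji, Finset.mem_univ j⟩, rfl⟩),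
          Matrix.mulVec_zero]
        ext l
        simp [Matrix.single_apply]
        intro _ h
        exact absurd h.symm hji
    rw [← hba]
    exact A.mul_mem hb ha0
  rw [eq_top_iff]
  intro M _
  rw [Matrix.matrix_eq_sum_single M]
  apply Subalgebra.sum_mem
  intro k _
  apply Subalgebra.sum_mem
  intro i _
  have : Matrix.single k i (M k i) = (M k i) • Matrix.single k i (1 : F) := by
    rw [Matrix.smul_single, smul_eq_mul, mul_one]
  rw [this]
  exact A.smul_mem (hunit k i) _

end core

variable {F : Type*} [Field F] [Fintype F] {n : ℕ} {H N : Subgroup (GL (Fin n) F)}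

/-- (B0) BURNSIDE: the enveloping algebra of an absolutely irreducible group is the full matrix algebra. -/
theorem burnside {X : Subgroup (GL (Fin n) F)} (h : AbsIrr X) : Env X = ⊤ := by
  apply eq_top_of_irr_of_cen
  · intro W hW
    apply h.1 W
    intro s hs
    exact hW s (Algebra.subset_adjoin hs)
  · intro M hM
    apply h.2 M
    intro s hs
    exact hM s (Algebra.subset_adjoin hs)

end Cfsg.Agent.Lib.Helper12.AschLeaf
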