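import Mathlib

set_option autoImplicit false

namespace Cfsg.Agent.Lib.Helper12.Elus

open Module

theorem pow_sub_pow_eq (q k i : ℕ) (hik : i ≤ k) : q ^ k - q ^ i = q ^ i * (q ^ (k - i) - 1) := by
  rw [Nat.mul_sub, mul_one, ← pow_add, Nat.add_sub_cancel' hik]

theorem prod_pow_sub_pow (q k m : ℕ) (hmk : m ≤ k) :
    ∏ i : Fin m, (q ^ k - q ^ (i : ℕ)) =
      (∏ i : Fin m, q ^ (i : ℕ)) * ∏ i : Fin m, (q ^ (k - (i : ℕ)) - 1) := by
  rw [← Finset.prod_mul_distrib]
  apply Finset.prod_congr rfl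
  intro i _
  exact pow_sub_pow_eq q k i (by have := i.2; omega)

/-- arithmetic core: the Gaussian binomial is `≡ 1` modulo a prime dividing `q` -/
theorem gauss_not_dvd (p q n m N : ℕ) (hp : p.Prime) (hpq : p ∣ q) (hq : 0 < q) (hmn : m ≤ n)
    (h : N * ∏ i : Fin m, (q ^ m - q ^ (i : ℕ)) = ∏ i : Fin m, (q ^ n - q ^ (i : ℕ))) :
    ¬ p ∣ N := by
  rw [prod_pow_sub_pow q m m le_rfl, prod_pow_sub_pow q n m hmn] at h
  have hpos : 0 < ∏ i : Fin m, q ^ (i : ℕ) := Finset.prod_pos (fun i _ => pow_pos hq _)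
  have h2 : N * ∏ i : Fin m, (q ^ (m - (i : ℕ)) - 1) = ∏ i : Fin m, (q ^ (n - (i : ℕ)) - 1) := by
    apply Nat.eq_of_mul_eq_mul_left hpos
    rw [← h]
    ring
  haveI : Fact p.Prime := ⟨hp⟩
  have hcast : ∀ k : ℕ, 1 ≤ k → ((q ^ k - 1 : ℕ) : ZMod p) = -1 := by
    intro k hk
    rw [Nat.cast_sub (Nat.one_le_pow _ _ hq), Nat.cast_pow, Nat.cast_one]
    have : (q : ZMod p) = 0 := (ZMod.natCast_eq_zero_iff q p).2 hpq
    rw [this, zero_pow (by omega), zero_sub]
  have h3 := congrArg (fun x : ℕ => (x : ZMod p)) h2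
  simp only [Nat.cast_mul, Nat.cast_prod] at h3
  have e1 : ∏ i : Fin m, ((q ^ (m - (i : ℕ)) - 1 : ℕ) : ZMod p) = ∏ _i : Fin m, (-1 : ZMod p) :=
    Finset.prod_congr rfl (fun i _ => hcast (m - (i : ℕ)) (by have := i.2; omega))
  have e2 : ∏ i : Fin m, ((q ^ (n - (i : ℕ)) - 1 : ℕ) : ZMod p) = ∏ _i : Fin m, (-1 : ZMod p) :=
    Finset.prod_congr rfl (fun i _ => hcast (n - (i : ℕ)) (by have := i.2; omega))
  rw [e1, e2] at h3
  intro hd
  have h4 : (N : ZMod p) = 0 := (ZMod.natCast_eq_zero_iff N p).2 hd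
  rw [h4, zero_mul] at h3
  simp only [Finset.prod_const, Finset.card_univ, Fintype.card_fin] at h3
  have h5 : ((-1 : ZMod p) ^ m) ≠ 0 := pow_ne_zero _ (neg_ne_zero.2 one_ne_zero)
  exact h5 h3.symm

theorem gauss_exists_dvd (r q n m N : ℕ) (hr : r.Prime) (hrq : ¬ r ∣ q) (hmn : m ≤ n)
    (h : N * ∏ i : Fin m, (q ^ m - q ^ (i : ℕ)) = ∏ i : Fin m, (q ^ n - q ^ (i : ℕ)))
    (hN : r ∣ N) : ∃ j, n - m < j ∧ j ≤ n ∧ r ∣ q ^ j - 1 := by
  have h1 : r ∣ ∏ i : Fin m, (q ^ n - q ^ (i : ℕ)) := by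
    rw [← h]
    exact Dvd.dvd.mul_right hN _
  obtain ⟨i, -, hi⟩ := (Prime.dvd_finsetProd_iff hr.prime _).1 h1
  have him : (i : ℕ) < m := i.2
  rw [pow_sub_pow_eq q n i (by omega)] at hi
  refine ⟨n - i, by omega, by omega, ?_⟩
  rcases (Nat.Prime.dvd_mul hr).1 hi with h2 | h2
  · exact absurd (hr.dvd_of_dvd_pow h2) hrq
  · exact h2


section count

variable {F V : Type*} [Field F] [Fintype F] [AddCommGroup V] [Module F V] [Finite V]

/-- the span of an independent `m`-tuple, as an `m`-dimensional subspace -/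
noncomputable def spanSub (m : ℕ) (s : {s : Fin m → V // LinearIndependent F s}) :
    {W : Submodule F V // finrank F W = m} :=
  ⟨Submodule.span F (Set.range s.1), by
    rw [finrank_span_eq_card s.2, Fintype.card_fin]⟩

/-- the fibre of `spanSub` over `W` is the set of bases of `W` -/
noncomputable def fibreEquiv (m : ℕ) (W : {W : Submodule F V // finrank F W = m}) :
    {s : {s : Fin m → V // LinearIndependent F s} // spanSub m s = W} ≃
      {t : Fin m → W.1 // LinearIndependent F t} where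
  toFun s := ⟨fun i => ⟨s.1.1 i, by
      have h := s.2
      have h1 : s.1.1 i ∈ Submodule.span F (Set.range s.1.1) := Submodule.subset_span ⟨i, rfl⟩
      have h2 : Submodule.span F (Set.range s.1.1) = W.1 := congrArg Subtype.val h
      rw [h2] at h1
      exact h1⟩, by
    apply LinearIndependent.of_comp W.1.subtype
    exact s.1.2⟩
  invFun t := ⟨⟨fun i => (t.1 i : V), t.2.map' W.1.subtype (Submodule.ker_subtype _)⟩, by
    apply Subtype.ext
    show Submodule.span F (Set.range fun i => (t.1 i : V)) = W.1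
    have hli : LinearIndependent F (fun i => (t.1 i : V)) :=
      t.2.map' W.1.subtype (Submodule.ker_subtype _)
    haveI : Module.Finite F V := Module.Finite.of_finite
    apply Submodule.eq_of_le_of_finrank_eq
    · rw [Submodule.span_le]
      rintro _ ⟨i, rfl⟩
      exact (t.1 i).2
    · rw [finrank_span_eq_card hli, Fintype.card_fin, W.2]⟩
  left_inv _ := rfl
  right_inv _ := rfl

theorem card_subspaces_mul (m : ℕ) (hm : m ≤ finrank F V) :
    Nat.card {W : Submodule F V // finrank F W = m} *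
      ∏ i : Fin m, (Fintype.card F ^ m - Fintype.card F ^ (i : ℕ)) =
    ∏ i : Fin m, (Fintype.card F ^ finrank F V - Fintype.card F ^ (i : ℕ)) := by
  classical
  haveI : Module.Finite F V := Module.Finite.of_finite
  rw [← card_linearIndependent (K := F) (V := V) hm]
  have e := Equiv.sigmaFiberEquiv (spanSub (F := F) (V := V) m)
  rw [← Nat.card_congr e]
  haveI : Finite {W : Submodule F V // finrank F W = m} := inferInstance
  haveI : Fintype {W : Submodule F V // finrank F W = m} := Fintype.ofFinite _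
  rw [Nat.card_sigma]
  have h : ∀ W : {W : Submodule F V // finrank F W = m},
      Nat.card {s : {s : Fin m → V // LinearIndependent F s} // spanSub m s = W} =
        ∏ i : Fin m, (Fintype.card F ^ m - Fintype.card F ^ (i : ℕ)) := by
    intro W
    rw [Nat.card_congr (fibreEquiv m W)]
    have h1 := card_linearIndependent (K := F) (V := W.1) (k := m) (le_of_eq W.2.symm)
    rw [W.2] at h1
    exact h1
  rw [Finset.sum_congr rfl (fun W _ => h W), Finset.sum_const, smul_eq_mul, Finset.card_univ,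
    Nat.card_eq_fintype_card]

theorem not_dvd_card_subspaces {p : ℕ} [Fact p.Prime] [CharP F p] (m : ℕ)
    (hm : m ≤ finrank F V) : ¬ p ∣ Nat.card {W : Submodule F V // finrank F W = m} := by
  have hpq : p ∣ Fintype.card F := by
    obtain ⟨k, -, hk⟩ := FiniteField.card F p
    rw [hk]
    exact dvd_pow_self p k.ne_zero
  exact gauss_not_dvd p (Fintype.card F) (finrank F V) m _ (Fact.out) hpq Fintype.card_pos hm
    (card_subspaces_mul m hm)

theorem exists_dvd_of_dvd_card_subspaces {p : ℕ} [Fact p.Prime] [CharP F p] (r : ℕ)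
    (hr : r.Prime) (hrp : r ≠ p) (m : ℕ) (hm : m ≤ finrank F V)
    (h : r ∣ Nat.card {W : Submodule F V // finrank F W = m}) :
    ∃ j, finrank F V - m < j ∧ j ≤ finrank F V ∧ r ∣ Fintype.card F ^ j - 1 := by
  have hrq : ¬ r ∣ Fintype.card F := by
    obtain ⟨k, -, hk⟩ := FiniteField.card F p
    rw [hk]
    intro hd
    exact hrp ((Nat.prime_dvd_prime_iff_eq hr Fact.out).1 (hr.dvd_of_dvd_pow hd))
  exact gauss_exists_dvd r (Fintype.card F) (finrank F V) m _ hr hrq hm
    (card_subspaces_mul m hm) h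

end count

end Cfsg.Agent.Lib.Helper12.Elus
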