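import Mathlib

set_option autoImplicit false

namespace Cfsg.Agent.Lib.Helper12.Elus

open Module Polynomial

section split

variable {F V : Type*} [Field F] [Fintype F] [AddCommGroup V] [Module F V]

theorem splits_X_pow_card_sub_X' : Splits (X ^ Fintype.card F - X : F[X]) := by
  rw [splits_iff_card_roots, FiniteField.roots_X_pow_card_sub_X, ← Finset.card_def,
    Finset.card_univ, FiniteField.X_pow_card_sub_X_natDegree_eq F Fintype.one_lt_card]

omit [Fintype F] in
theorem dualMap_pow' (f : V →ₗ[F] V) (k : ℕ) :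
    (f ^ k).dualMap = (f.dualMap : Module.End F (Dual F V)) ^ k := by
  induction k with
  | zero =>
    apply LinearMap.ext
    intro φ
    rfl
  | succ k ih =>
    rw [pow_succ, pow_succ', ← ih]
    apply LinearMap.ext
    intro φ
    rfl

variable [FiniteDimensional F V]

theorem split_step (f : V →ₗ[F] V) (hf : f ^ Fintype.card F = f) (hV : 0 < finrank F V) :
    ∃ H : Submodule F V, (∀ v ∈ H, f v ∈ H) ∧ finrank F H + 1 = finrank F V := by
  set g : Module.End F (Dual F V) := f.dualMap with hgdef
  have hg : g ^ Fintype.card F = g := by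
    rw [hgdef, ← dualMap_pow', hf]
  have haeval : aeval g (X ^ Fintype.card F - X : F[X]) = 0 := by
    rw [map_sub, map_pow, aeval_X, hg, sub_self]
  have hdvd : minpoly F g ∣ X ^ Fintype.card F - X := minpoly.dvd F g haeval
  have hsplit : Splits (minpoly F g) :=
    Splits.of_dvd splits_X_pow_card_sub_X'
      (FiniteField.X_pow_card_sub_X_ne_zero F Fintype.one_lt_card) hdvd
  haveI : Nontrivial (Dual F V) :=
    Module.nontrivial_of_finrank_pos (R := F) (by rw [Subspace.dual_finrank_eq]; exact hV)
  have hdeg : degree (minpoly F g) ≠ 0 :=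
    (minpoly.degree_pos (Algebra.IsIntegral.isIntegral g)).ne'
  obtain ⟨μ, hμ⟩ := hsplit.exists_eval_eq_zero hdeg
  have hev : g.HasEigenvalue μ := Module.End.hasEigenvalue_of_isRoot hμ
  obtain ⟨φ, hφ⟩ := hev.exists_hasEigenvector
  have h1 : g φ = μ • φ := hφ.apply_eq_smul
  refine ⟨LinearMap.ker φ, ?_, Module.Dual.finrank_ker_add_one_of_ne_zero hφ.2⟩
  intro v hv
  rw [LinearMap.mem_ker] at hv ⊢
  have h2 : φ (f v) = (g φ) v := rfl
  rw [h2, h1, LinearMap.smul_apply, hv, smul_zero]

theorem split_down (f : V →ₗ[F] V) (hf : f ^ Fintype.card F = f) (j : ℕ)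
    (hj : j ≤ finrank F V) :
    ∃ W : Submodule F V, (∀ v ∈ W, f v ∈ W) ∧ finrank F W + j = finrank F V := by
  induction j with
  | zero => exact ⟨⊤, fun _ _ => Submodule.mem_top, by simp⟩
  | succ j ih =>
    obtain ⟨W, hW, hWj⟩ := ih (by omega)
    have hpos : 0 < finrank F W := by omega
    have hres : (f.restrict hW) ^ Fintype.card F = f.restrict hW := by
      rw [Module.End.pow_restrict]
      apply LinearMap.ext
      intro v
      apply Subtype.ext
      simp [hf]
    obtain ⟨H, hH, hHdim⟩ := split_step (f.restrict hW) hres hpos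
    refine ⟨H.map W.subtype, ?_, ?_⟩
    · rintro _ ⟨u, hu, rfl⟩
      exact ⟨f.restrict hW u, hH u hu, rfl⟩
    · have : finrank F ↥(H.map W.subtype) = finrank F H :=
        (Submodule.equivSubtypeMap W H).symm.finrank_eq
      omega

theorem split_all (f : V →ₗ[F] V) (hf : f ^ Fintype.card F = f) (k : ℕ)
    (hk : k ≤ finrank F V) :
    ∃ W : Submodule F V, (∀ v ∈ W, f v ∈ W) ∧ finrank F W = k := by
  obtain ⟨W, hW, h⟩ := split_down f hf (finrank F V - k) (by omega)
  exact ⟨W, hW, by omega⟩

end split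

end Cfsg.Agent.Lib.Helper12.Elus
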