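import Mathlib

set_option autoImplicit false

namespace Cfsg.Agent.Lib.Helper12.Elus

open Module Polynomial

theorem exists_pow_eq_of_coprime {F : Type*} [Field F] (r w : ℕ)
    (hcop : Nat.Coprime r w) (c D : F) (hc0 : c ≠ 0) (h : D ^ r = c ^ w) : ∃ d : F, d ^ r = c := by
  refine ⟨c ^ (Nat.gcdA r w) * D ^ (Nat.gcdB r w), ?_⟩
  have hb : (Nat.gcd r w : ℤ) = r * Nat.gcdA r w + w * Nat.gcdB r w := Nat.gcd_eq_gcd_ab r w
  rw [hcop.gcd_eq_one, Nat.cast_one] at hb
  have h1 : (D ^ (Nat.gcdB r w)) ^ r = c ^ ((w : ℤ) * Nat.gcdB r w) := by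
    rw [← zpow_natCast (D ^ _), ← zpow_mul, mul_comm, zpow_mul, zpow_natCast, h, zpow_mul,
      zpow_natCast]
  have h2 : (c ^ (Nat.gcdA r w)) ^ r = c ^ ((r : ℤ) * Nat.gcdA r w) := by
    rw [← zpow_natCast (c ^ _), ← zpow_mul, mul_comm]
  rw [mul_pow, h1, h2, ← zpow_add₀ hc0, ← hb, zpow_one]

section t2

variable {F V : Type*} [Field F] [AddCommGroup V] [Module F V]

/-- the span of `v, f v, …, f^(k-1) v` -/
def cyc (f : V →ₗ[F] V) (v : V) (k : ℕ) : Submodule F V :=
  Submodule.span F (Set.range fun i : Fin k => (f ^ (i : ℕ)) v)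

theorem pow_mem_cyc (f : V →ₗ[F] V) (v : V) (k i : ℕ) (hi : i < k) : (f ^ i) v ∈ cyc f v k :=
  Submodule.subset_span ⟨⟨i, hi⟩, rfl⟩

theorem self_mem_cyc (f : V →ₗ[F] V) (v : V) (k : ℕ) (hk : 0 < k) : v ∈ cyc f v k := by
  have := pow_mem_cyc f v k 0 hk
  simpa using this

theorem finrank_cyc_le (f : V →ₗ[F] V) (v : V) (k : ℕ) : finrank F (cyc f v k) ≤ k := by
  have h := finrank_range_le_card (R := F) (fun i : Fin k => (f ^ (i : ℕ)) v)
  rw [Fintype.card_fin] at h
  exact h

theorem cyc_sup_invariant (f : V →ₗ[F] V) (v : V) (k : ℕ) (W : Submodule F V)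
    (hW : ∀ u ∈ W, f u ∈ W) (h : (f ^ k) v ∈ W ⊔ cyc f v k) :
    ∀ u ∈ W ⊔ cyc f v k, f u ∈ W ⊔ cyc f v k := by
  have h1 : (cyc f v k).map f ≤ W ⊔ cyc f v k := by
    rw [cyc, Submodule.map_span, Submodule.span_le]
    rintro _ ⟨_, ⟨i, rfl⟩, rfl⟩
    have hi := i.2
    show f ((f ^ (i : ℕ)) v) ∈ W ⊔ cyc f v k
    rw [← Module.End.mul_apply, ← pow_succ']
    by_cases hik : (i : ℕ) + 1 < k
    · exact (le_sup_right : cyc f v k ≤ W ⊔ cyc f v k) (pow_mem_cyc f v k _ hik)
    · have : (i : ℕ) + 1 = k := by omega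
      rw [this]
      exact h
  intro u hu
  obtain ⟨w, hw, z, hz, rfl⟩ := Submodule.mem_sup.1 hu
  rw [map_add]
  exact Submodule.add_mem _ ((le_sup_left : W ≤ W ⊔ cyc f v k) (hW w hw))
    (h1 (Submodule.mem_map_of_mem hz))

variable [FiniteDimensional F V]

omit [FiniteDimensional F V] in
theorem restrict_pow_eq (f : V →ₗ[F] V) (W : Submodule F V) (hW : ∀ v ∈ W, f v ∈ W) (r : ℕ)
    (c : F) (hfc : f ^ r = c • 1) : (f.restrict hW) ^ r = c • 1 := by
  rw [Module.End.pow_restrict]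
  ext v
  simp [hfc]

theorem t2_dvd_finrank (f : V →ₗ[F] V) (r : ℕ) (hr : r.Prime) (c : F) (hfc : f ^ r = c • 1)
    (hc : ∀ d : F, d ^ r ≠ c) (W : Submodule F V) (hW : ∀ v ∈ W, f v ∈ W) :
    r ∣ finrank F W := by
  by_contra hnd
  have hcop : Nat.Coprime r (finrank F W) := (Nat.Prime.coprime_iff_not_dvd hr).2 hnd
  have hc0 : c ≠ 0 := by
    rintro rfl
    exact hc 0 (zero_pow hr.ne_zero)
  have hg := restrict_pow_eq f W hW r c hfc
  have hdet : (LinearMap.det (f.restrict hW)) ^ r = c ^ finrank F W := by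
    rw [← map_pow, hg, LinearMap.det_smul, map_one, mul_one]
  obtain ⟨d, hd⟩ := exists_pow_eq_of_coprime r _ hcop c _ hc0 hdet
  exact hc d hd

theorem t2_extend (f : V →ₗ[F] V) (r : ℕ) (hr : r.Prime) (c : F) (hfc : f ^ r = c • 1)
    (hc : ∀ d : F, d ^ r ≠ c) (W : Submodule F V) (hW : ∀ v ∈ W, f v ∈ W) (hne : W ≠ ⊤) :
    ∃ W' : Submodule F V, (∀ v ∈ W', f v ∈ W') ∧ W ≤ W' ∧ finrank F W' = finrank F W + r := by
  obtain ⟨v, hv⟩ : ∃ v : V, v ∉ W := by
    by_contra hall
    push Not at hall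
    exact hne (eq_top_iff.2 fun v _ => hall v)
  have hinv : ∀ u ∈ W ⊔ cyc f v r, f u ∈ W ⊔ cyc f v r := by
    apply cyc_sup_invariant f v r W hW
    rw [hfc]
    apply (le_sup_right : cyc f v r ≤ W ⊔ cyc f v r)
    exact Submodule.smul_mem _ _ (self_mem_cyc f v r hr.pos)
  refine ⟨W ⊔ cyc f v r, hinv, le_sup_left, ?_⟩
  have h1 : r ∣ finrank F W := t2_dvd_finrank f r hr c hfc hc W hW
  have h2 : r ∣ finrank F ↥(W ⊔ cyc f v r) := t2_dvd_finrank f r hr c hfc hc _ hinv
  have h3 : finrank F ↥(W ⊔ cyc f v r) ≤ finrank F W + r := by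
    have := Submodule.finrank_add_le_finrank_add_finrank W (cyc f v r)
    have := finrank_cyc_le f v r
    omega
  have h4 : finrank F W < finrank F ↥(W ⊔ cyc f v r) := by
    apply Submodule.finrank_lt_finrank_of_lt
    refine lt_of_le_of_ne le_sup_left ?_
    intro heq
    apply hv
    rw [heq]
    exact (le_sup_right : cyc f v r ≤ W ⊔ cyc f v r) (self_mem_cyc f v r hr.pos)
  obtain ⟨a, ha⟩ := h1
  obtain ⟨b, hb⟩ := h2
  rw [ha, hb] at h3 h4 ⊢
  have hrpos := hr.pos
  have hab : a < b := lt_of_mul_lt_mul_left h4 (Nat.zero_le r)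
  have hba : b ≤ a + 1 := by
    have : r * b ≤ r * (a + 1) := by rw [mul_add, mul_one]; exact h3
    exact le_of_mul_le_mul_left this hrpos
  have : b = a + 1 := by omega
  rw [this, mul_add, mul_one]

theorem t2_exists_invariant (f : V →ₗ[F] V) (r : ℕ) (hr : r.Prime) (c : F) (hfc : f ^ r = c • 1)
    (hc : ∀ d : F, d ^ r ≠ c) (k : ℕ) (hk : r * k ≤ finrank F V) :
    ∃ W : Submodule F V, (∀ v ∈ W, f v ∈ W) ∧ finrank F W = r * k := by
  induction k with
  | zero => exact ⟨⊥, fun v hv => by rw [(Submodule.mem_bot F).1 hv, map_zero]; exact zero_mem _,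
      by simp⟩
  | succ k ih =>
    obtain ⟨W, hW, hWk⟩ := ih (by rw [mul_add] at hk; omega)
    have hne : W ≠ ⊤ := by
      rintro rfl
      rw [finrank_top] at hWk
      rw [hWk, mul_add, mul_one] at hk
      have := hr.pos
      omega
    obtain ⟨W', hW', -, hdim⟩ := t2_extend f r hr c hfc hc W hW hne
    exact ⟨W', hW', by rw [hdim, hWk, mul_add, mul_one]⟩

end t2

universe u v

theorem t2_det_block {F : Type v} {V : Type u} [Field F] [AddCommGroup V] [Module F V]
    [FiniteDimensional F V] (f : V →ₗ[F] V) (r : ℕ) (hr : r.Prime) (c : F)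
    (hfc : f ^ r = c • 1) (hc : ∀ d : F, d ^ r ≠ c) (hdim : finrank F V = r) :
    LinearMap.det f = (-1) ^ (r + 1) * c := by
  have hirr : Irreducible (X ^ r - C c : F[X]) := (X_pow_sub_C_irreducible_iff_of_prime hr).2 hc
  have hmon : (X ^ r - C c : F[X]).Monic := monic_X_pow_sub_C c hr.ne_zero
  have haeval : aeval f (X ^ r - C c : F[X]) = 0 := by
    rw [map_sub, map_pow, aeval_X, aeval_C, hfc, Algebra.algebraMap_eq_smul_one, sub_self]
  have hdvd : minpoly F f ∣ X ^ r - C c := minpoly.dvd F f haeval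
  haveI : Nontrivial V := Module.nontrivial_of_finrank_pos (R := F) (by rw [hdim]; exact hr.pos)
  have hnu : ¬ IsUnit (minpoly F f) := minpoly.not_isUnit F f
  have hmin : minpoly F f = X ^ r - C c := by
    obtain ⟨s, hs⟩ := hdvd
    have hsu : IsUnit s := (hirr.isUnit_or_isUnit hs).resolve_left hnu
    apply eq_of_monic_of_associated (minpoly.monic (Algebra.IsIntegral.isIntegral f)) hmon
    exact ⟨hsu.unit, by rw [hs]; rfl⟩
  have hchar : f.charpoly = X ^ r - C c := by
    rw [← hmin]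
    apply eq_of_monic_of_dvd_of_natDegree_le (minpoly.monic (Algebra.IsIntegral.isIntegral f))
      (LinearMap.charpoly_monic f) (LinearMap.minpoly_dvd_charpoly f)
    rw [LinearMap.charpoly_natDegree, hmin, natDegree_X_pow_sub_C, hdim]
  rw [LinearMap.det_eq_sign_charpoly_coeff, hchar, hdim, coeff_sub, coeff_X_pow, coeff_C_zero,
    if_neg (Ne.symm hr.ne_zero), zero_sub, pow_succ]
  ring


theorem t2_det_aux {F : Type v} [Field F] (r : ℕ) (hr : r.Prime) (c : F)
    (hc : ∀ d : F, d ^ r ≠ c) :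
    ∀ (n : ℕ) (V : Type u) [AddCommGroup V] [Module F V] [FiniteDimensional F V]
      (f : V →ₗ[F] V), finrank F V = n → f ^ r = c • 1 →
      LinearMap.det f = ((-1) ^ (r + 1) * c) ^ (n / r) := by
  intro n
  induction n using Nat.strong_induction_on with
  | _ n ih =>
    intro V _ _ _ f hn hfc
    by_cases h0 : n = 0
    · subst h0
      rw [LinearMap.det_eq_one_of_finrank_eq_zero hn, Nat.zero_div, pow_zero]
    · obtain ⟨W, hW, -, hWr⟩ := t2_extend f r hr c hfc hc ⊥
        (fun v hv => by rw [(Submodule.mem_bot F).1 hv, map_zero]; exact zero_mem _)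
        (by
          intro h
          have h1 : finrank F (⊥ : Submodule F V) = finrank F (⊤ : Submodule F V) := by rw [h]
          rw [finrank_bot, finrank_top, hn] at h1
          exact h0 h1.symm)
      rw [finrank_bot, zero_add] at hWr
      have he : W ≤ W.comap f := fun v hv => hW v hv
      rw [LinearMap.det_eq_det_mul_det W f he]
      have h1 : LinearMap.det (f.restrict he) = (-1) ^ (r + 1) * c :=
        t2_det_block (f.restrict he) r hr c (restrict_pow_eq f W hW r c hfc) hc hWr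
      have hq : finrank F (V ⧸ W) + r = n := by
        have := Submodule.finrank_quotient_add_finrank W
        rw [hWr, hn] at this
        exact this
      have hbar : (W.mapQ W f he) ^ r = c • 1 := by
        rw [← Submodule.mapQ_pow]
        apply LinearMap.ext
        intro x
        obtain ⟨x, rfl⟩ := Submodule.Quotient.mk_surjective W x
        simp [hfc]
      have hrpos := hr.pos
      have h2 := ih (n - r) (by omega) (V ⧸ W) (W.mapQ W f he) (by omega) hbar
      rw [h1, h2, ← pow_succ']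
      congr 1
      have : n = (n - r) + r := by omega
      conv_rhs => rw [this]
      rw [Nat.add_div_right _ hrpos]

theorem t2_det {F : Type v} {V : Type u} [Field F] [AddCommGroup V] [Module F V]
    [FiniteDimensional F V] (f : V →ₗ[F] V) (r : ℕ) (hr : r.Prime) (c : F)
    (hfc : f ^ r = c • 1) (hc : ∀ d : F, d ^ r ≠ c) :
    LinearMap.det f = ((-1) ^ (r + 1) * c) ^ (finrank F V / r) :=
  t2_det_aux r hr c hc (finrank F V) V f rfl hfc

end Cfsg.Agent.Lib.Helper12.Elus
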