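import Mathlib
import Cfsg.Agent.Lib.Helper12.ElusB

set_option autoImplicit false

namespace Cfsg.Agent.Lib.Helper12.Elus

open Module Polynomial

theorem orderOf_dvd_of_dvd_pow_sub_one (r q d : ℕ) (hq : 0 < q) (h : r ∣ q ^ d - 1) :
    orderOf (q : ZMod r) ∣ d := by
  apply orderOf_dvd_of_pow_eq_one
  have h1 : ((q ^ d - 1 : ℕ) : ZMod r) = 0 := (ZMod.natCast_eq_zero_iff _ _).2 h
  rw [Nat.cast_sub (Nat.one_le_pow _ _ hq), Nat.cast_pow, Nat.cast_one, sub_eq_zero] at h1
  exact h1

theorem dvd_pow_orderOf_sub_one (r q : ℕ) (hq : 0 < q) : r ∣ q ^ orderOf (q : ZMod r) - 1 := by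
  apply (ZMod.natCast_eq_zero_iff _ _).1
  rw [Nat.cast_sub (Nat.one_le_pow _ _ hq), Nat.cast_pow, Nat.cast_one, sub_eq_zero]
  exact pow_orderOf_eq_one _

theorem eq_add_of_dvd_of_lt_of_le (a x y : ℕ) (hx : a ∣ x) (hy : a ∣ y) (hlt : x < y)
    (hle : y ≤ x + a) : y = x + a := by
  obtain ⟨s, rfl⟩ := hx
  obtain ⟨t, rfl⟩ := hy
  have ha : 0 < a := by
    rcases Nat.eq_zero_or_pos a with h | h
    · subst h; simp at hlt
    · exact h
  have hst : s < t := lt_of_mul_lt_mul_left hlt (Nat.zero_le a)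
  have hts : t ≤ s + 1 := by
    have : a * t ≤ a * (s + 1) := by rw [mul_add, mul_one]; exact hle
    exact le_of_mul_le_mul_left this ha
  have : t = s + 1 := by omega
  rw [this, mul_add, mul_one]

section general

variable {F V : Type*} [Field F] [AddCommGroup V] [Module F V]

theorem aeval_mem_of_invariant (f : V →ₗ[F] V) (W : Submodule F V) (hW : ∀ v ∈ W, f v ∈ W)
    (P : F[X]) (v : V) (hv : v ∈ W) : aeval f P v ∈ W := by
  induction P using Polynomial.induction_on' with
  | add p q hp hq =>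
    rw [map_add, LinearMap.add_apply]
    exact Submodule.add_mem _ hp hq
  | monomial n a =>
    rw [← C_mul_X_pow_eq_monomial, map_mul, aeval_C, map_pow, aeval_X, Module.End.mul_apply,
      Module.algebraMap_end_apply]
    exact Submodule.smul_mem _ _ (Module.End.pow_apply_mem_of_forall_mem n hW v hv)

theorem exists_subspace_finrank [FiniteDimensional F V] (k : ℕ) (hk : k ≤ finrank F V) :
    ∃ W : Submodule F V, finrank F W = k := by
  let b := Module.finBasis F V
  have hli : LinearIndependent F (fun i : Fin k => b (Fin.castLE hk i)) :=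
    b.linearIndependent.comp _ (Fin.castLE_injective hk)
  exact ⟨Submodule.span F (Set.range fun i : Fin k => b (Fin.castLE hk i)), by
    rw [finrank_span_eq_card hli, Fintype.card_fin]⟩

/-- factor step: a polynomial all of whose irreducible factors have degree `c` and which maps
`R` into the proper invariant subspace `U` yields a vector of `R ∖ U` pushed into `U` by a monic
polynomial of degree `c`. -/
theorem exists_factor_step (f : V →ₗ[F] V) (R U : Submodule F V) (hR : ∀ v ∈ R, f v ∈ R)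
    (hne : ¬ R ≤ U) (c : ℕ) :
    ∀ (d : ℕ) (P : F[X]), P.natDegree = d → P ≠ 0 →
      (∀ h : F[X], Irreducible h → h ∣ P → h.natDegree = c) →
      (∀ w ∈ R, aeval f P w ∈ U) →
      ∃ v ∈ R, v ∉ U ∧ ∃ h : F[X], h.Monic ∧ h.natDegree = c ∧ aeval f h v ∈ U := by
  intro d
  induction d using Nat.strong_induction_on with
  | _ d ih =>
    intro P hPd hP0 hPirr hPU
    by_cases hunit : IsUnit P
    · exfalso
      apply hne
      intro w hw
      obtain ⟨a, ha, rfl⟩ := Polynomial.isUnit_iff.1 hunit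
      have h1 := hPU w hw
      rw [aeval_C, Module.algebraMap_end_apply] at h1
      have h2 := Submodule.smul_mem U (a⁻¹) h1
      rwa [smul_smul, inv_mul_cancel₀ ha.ne_zero, one_smul] at h2
    · obtain ⟨h, hirr, hdvd⟩ := WfDvdMonoid.exists_irreducible_factor hunit hP0
      obtain ⟨P', rfl⟩ := hdvd
      have hh0 : h ≠ 0 := left_ne_zero_of_mul hP0
      have hP'0 : P' ≠ 0 := right_ne_zero_of_mul hP0
      have hhdeg : h.natDegree = c := hPirr h hirr (dvd_mul_right _ _)
      by_cases hall : ∀ w ∈ R, aeval f P' w ∈ U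
      · have hlt : P'.natDegree < d := by
          rw [← hPd, natDegree_mul hh0 hP'0]
          have := hirr.natDegree_pos
          omega
        exact ih P'.natDegree hlt P' rfl hP'0
          (fun h' h'irr h'dvd => hPirr h' h'irr (Dvd.dvd.mul_left h'dvd _)) hall
      · push Not at hall
        obtain ⟨w, hw, hwU⟩ := hall
        refine ⟨aeval f P' w, aeval_mem_of_invariant f R hR P' w hw, hwU,
          h * C h.leadingCoeff⁻¹, monic_mul_leadingCoeff_inv hh0, ?_, ?_⟩
        · rw [natDegree_mul_leadingCoeff_inv h hh0, hhdeg]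
        · have h1 := hPU w hw
          rw [map_mul, Module.End.mul_apply] at h1
          rw [map_mul, aeval_C, Module.End.mul_apply, Module.algebraMap_end_apply, map_smul]
          exact Submodule.smul_mem _ _ h1

theorem pow_mem_sup_cyc_of_monic (f : V →ₗ[F] V) (U : Submodule F V) (v : V) (h : F[X])
    (hm : h.Monic) (hU : aeval f h v ∈ U) :
    (f ^ h.natDegree) v ∈ U ⊔ cyc f v h.natDegree := by
  have h1 := hm.as_sum
  have h2 : aeval f h v = (f ^ h.natDegree) v +
      ∑ i ∈ Finset.range h.natDegree, h.coeff i • (f ^ i) v := by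
    conv_lhs => rw [h1]
    rw [map_add, map_pow, aeval_X, LinearMap.add_apply, map_sum, LinearMap.sum_apply]
    congr 1
    apply Finset.sum_congr rfl
    intro i _
    rw [map_mul, aeval_C, map_pow, aeval_X, Module.End.mul_apply, Module.algebraMap_end_apply]
  have h3 : (f ^ h.natDegree) v = aeval f h v -
      ∑ i ∈ Finset.range h.natDegree, h.coeff i • (f ^ i) v := by
    rw [h2]; abel
  rw [h3]
  apply Submodule.sub_mem
  · exact (le_sup_left : U ≤ U ⊔ cyc f v h.natDegree) hU
  · apply (le_sup_right : cyc f v h.natDegree ≤ U ⊔ cyc f v h.natDegree)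
    apply Submodule.sum_mem
    intro i hi
    exact Submodule.smul_mem _ _ (pow_mem_cyc f v _ i (Finset.mem_range.1 hi))

end general


section fixmov

variable {F V : Type*} [Field F] [AddCommGroup V] [Module F V]

/-- fixed space -/
def fixE (f : V →ₗ[F] V) : Submodule F V := LinearMap.ker (f - 1)

/-- the commutator space `(f - 1) V` -/
def movR (f : V →ₗ[F] V) : Submodule F V := LinearMap.range (f - 1)

theorem mem_fixE (f : V →ₗ[F] V) (v : V) : v ∈ fixE f ↔ f v = v := by
  rw [fixE, LinearMap.mem_ker, LinearMap.sub_apply, Module.End.one_apply, sub_eq_zero]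

theorem fixE_invariant (f : V →ₗ[F] V) (W : Submodule F V) (hW : W ≤ fixE f) :
    ∀ v ∈ W, f v ∈ W := by
  intro v hv
  rw [(mem_fixE f v).1 (hW hv)]
  exact hv

theorem movR_invariant (f : V →ₗ[F] V) : ∀ v ∈ movR f, f v ∈ movR f := by
  rintro _ ⟨w, rfl⟩
  refine ⟨f w, ?_⟩
  simp only [LinearMap.sub_apply, Module.End.one_apply, map_sub]

theorem pow_apply_of_fixed (f : V →ₗ[F] V) (v : V) (hv : f v = v) (n : ℕ) : (f ^ n) v = v := by
  induction n with
  | zero => rfl
  | succ n ih => rw [pow_succ, Module.End.mul_apply, hv, ih]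

theorem aeval_apply_of_fixed (f : V →ₗ[F] V) (v : V) (hv : f v = v) (P : F[X]) :
    aeval f P v = P.eval 1 • v := by
  induction P using Polynomial.induction_on' with
  | add p q hp hq => rw [map_add, LinearMap.add_apply, hp, hq, eval_add, add_smul]
  | monomial n a =>
    rw [← C_mul_X_pow_eq_monomial, map_mul, aeval_C, map_pow, aeval_X, Module.End.mul_apply,
      Module.algebraMap_end_apply, pow_apply_of_fixed f v hv, eval_mul, eval_C, eval_pow, eval_X,
      one_pow, mul_one]

theorem cyclo_mul_sub (f : V →ₗ[F] V) (r : ℕ) [Fact r.Prime] (hf : f ^ r = 1) :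
    aeval f (cyclotomic r F) * (f - 1) = 0 := by
  have h := cyclotomic_prime_mul_X_sub_one F r
  have h2 := congrArg (aeval f) h
  rw [map_mul, map_sub, map_sub, map_pow, aeval_X, map_one, hf, sub_self] at h2
  exact h2

theorem cyclo_apply_movR (f : V →ₗ[F] V) (r : ℕ) [Fact r.Prime] (hf : f ^ r = 1) (u : V)
    (hu : u ∈ movR f) : aeval f (cyclotomic r F) u = 0 := by
  obtain ⟨w, rfl⟩ := hu
  rw [← Module.End.mul_apply, cyclo_mul_sub f r hf, LinearMap.zero_apply]

theorem fix_inf_mov (f : V →ₗ[F] V) (r : ℕ) [Fact r.Prime] (hf : f ^ r = 1) (hr0 : (r : F) ≠ 0) :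
    fixE f ⊓ movR f = ⊥ := by
  rw [eq_bot_iff]
  rintro u ⟨hu1, hu2⟩
  have h1 := aeval_apply_of_fixed f u ((mem_fixE f u).1 hu1) (cyclotomic r F)
  rw [cyclo_apply_movR f r hf u hu2, eval_one_cyclotomic_prime] at h1
  rcases smul_eq_zero.1 h1.symm with h | h
  · exact absurd h hr0
  · exact (Submodule.mem_bot F).2 h

theorem finrank_fix_add_mov [FiniteDimensional F V] (f : V →ₗ[F] V) :
    finrank F (fixE f) + finrank F (movR f) = finrank F V := by
  rw [add_comm]
  exact LinearMap.finrank_range_add_finrank_ker (f - 1)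

theorem map_sub_one_le (f : V →ₗ[F] V) (W : Submodule F V) (hW : ∀ v ∈ W, f v ∈ W) :
    W.map (f - 1) ≤ W := by
  rintro _ ⟨w, hw, rfl⟩
  rw [LinearMap.sub_apply, Module.End.one_apply]
  exact Submodule.sub_mem _ (hW w hw) hw

theorem map_sub_one_le_movR (f : V →ₗ[F] V) (W : Submodule F V) : W.map (f - 1) ≤ movR f := by
  rintro _ ⟨w, -, rfl⟩
  exact ⟨w, rfl⟩

theorem map_sub_one_invariant (f : V →ₗ[F] V) (W : Submodule F V) (hW : ∀ v ∈ W, f v ∈ W) :
    ∀ v ∈ W.map (f - 1), f v ∈ W.map (f - 1) := by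
  rintro _ ⟨w, hw, rfl⟩
  refine ⟨f w, hW w hw, ?_⟩
  simp only [LinearMap.sub_apply, Module.End.one_apply, map_sub]

theorem finrank_eq_fix_add_map [FiniteDimensional F V] (f : V →ₗ[F] V) (W : Submodule F V) :
    finrank F W = finrank F ↥(W ⊓ fixE f) + finrank F ↥(W.map (f - 1)) := by
  have h := LinearMap.finrank_range_add_finrank_ker ((f - 1).domRestrict W)
  rw [LinearMap.range_domRestrict, LinearMap.ker_domRestrict] at h
  have h2 : finrank F ↥(Submodule.comap W.subtype (LinearMap.ker (f - 1))) =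
      finrank F ↥(W ⊓ fixE f) := by
    have e := Submodule.comapSubtypeEquivOfLe (inf_le_left : W ⊓ fixE f ≤ W)
    rw [← e.finrank_eq]
    have h3 : Submodule.comap W.subtype (LinearMap.ker (f - 1)) =
        Submodule.comap W.subtype (W ⊓ fixE f) := by
      ext x
      simp [fixE]
    rw [h3]
  rw [h2] at h
  omega

theorem sup_invariant (f : V →ₗ[F] V) (A B : Submodule F V) (hA : ∀ v ∈ A, f v ∈ A)
    (hB : ∀ v ∈ B, f v ∈ B) : ∀ v ∈ A ⊔ B, f v ∈ A ⊔ B := by
  intro v hv
  obtain ⟨a, ha, b, hb, rfl⟩ := Submodule.mem_sup.1 hv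
  rw [map_add]
  exact Submodule.add_mem _ ((le_sup_left : A ≤ A ⊔ B) (hA a ha))
    ((le_sup_right : B ≤ A ⊔ B) (hB b hb))

end fixmov

end Cfsg.Agent.Lib.Helper12.Elus
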