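import Mathlib
import Cfsg.Agent.Lib.Helper12.ElusD

set_option autoImplicit false

namespace Cfsg.Agent.Lib.Helper12.Elus

open Module Polynomial

section finite

variable {F V : Type*} [Field F] [Fintype F] [AddCommGroup V] [Module F V]
  [FiniteDimensional F V]

theorem dvd_card_pow_sub_one (f : V →ₗ[F] V) (r : ℕ) [Fact r.Prime] (hf : f ^ r = 1)
    (U : Submodule F V) (hU : ∀ u ∈ U, f u ∈ U) (hfix : ∀ u ∈ U, f u = u → u = 0) :
    r ∣ Fintype.card F ^ finrank F U - 1 := by
  classical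
  haveI : Finite V := Module.finite_of_finite F
  haveI : Fintype U := Fintype.ofFinite U
  let g : Function.End U := fun u => ⟨f u, hU u u.2⟩
  have hgk : ∀ (k : ℕ) (u : U), (((g ^ k) u : U) : V) = (f ^ k) u := by
    intro k
    induction k with
    | zero => intro u; rfl
    | succ k ih =>
      intro u
      rw [pow_succ, pow_succ]
      show (((g ^ k) (g u) : U) : V) = (f ^ k) (f u)
      rw [ih]
  have hg1 : g ^ r ^ 1 = 1 := by
    funext u
    apply Subtype.ext
    rw [pow_one, hgk, hf]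
    rfl
  have h := Equiv.Perm.card_fixedPoints_modEq (p := r) (n := 1) hg1
  have hfp : Fintype.card (Function.fixedPoints g) = 1 := by
    rw [Fintype.card_eq_one_iff]
    refine ⟨⟨0, ?_⟩, ?_⟩
    · show g 0 = 0
      apply Subtype.ext
      show f ((0 : U) : V) = ((0 : U) : V)
      simp
    · rintro ⟨y, hy⟩
      apply Subtype.ext
      apply Subtype.ext
      have h1 : g y = y := hy
      have h2 : f (y : V) = (y : V) := congrArg Subtype.val h1
      exact hfix y y.2 h2
  rw [hfp] at h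
  have hcard : Fintype.card U = Fintype.card F ^ finrank F U := by
    rw [← Nat.card_eq_fintype_card, Module.natCard_eq_pow_finrank (K := F),
      Nat.card_eq_fintype_card]
  rw [hcard] at h
  exact (Nat.modEq_iff_dvd' (Nat.one_le_pow _ _ Fintype.card_pos)).1 h.symm

theorem orderOf_dvd_finrank (f : V →ₗ[F] V) (r : ℕ) [Fact r.Prime] (hf : f ^ r = 1)
    (U : Submodule F V) (hU : ∀ u ∈ U, f u ∈ U) (hfix : ∀ u ∈ U, f u = u → u = 0) :
    orderOf (Fintype.card F : ZMod r) ∣ finrank F U :=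
  orderOf_dvd_of_dvd_pow_sub_one r _ _ Fintype.card_pos (dvd_card_pow_sub_one f r hf U hU hfix)

theorem orderOf_dvd_finrank_of_le_movR (f : V →ₗ[F] V) (r : ℕ) [Fact r.Prime] (hf : f ^ r = 1)
    (hr0 : (r : F) ≠ 0) (U : Submodule F V) (hU : ∀ u ∈ U, f u ∈ U) (hUR : U ≤ movR f) :
    orderOf (Fintype.card F : ZMod r) ∣ finrank F U := by
  apply orderOf_dvd_finrank f r hf U hU
  intro u hu hfu
  have h1 : u ∈ fixE f ⊓ movR f := ⟨(mem_fixE f u).2 hfu, hUR hu⟩
  rw [fix_inf_mov f r hf hr0] at h1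
  exact (Submodule.mem_bot F).1 h1

theorem natDegree_factor_cyclotomic {p : ℕ} [Fact p.Prime] [CharP F p] (r : ℕ) (hr : r.Prime)
    (hrp : r ≠ p) (h : F[X]) (hirr : Irreducible h) (hdvd : h ∣ cyclotomic r F) :
    h.natDegree = orderOf (Fintype.card F : ZMod r) := by
  obtain ⟨k, -, hk⟩ := FiniteField.card F p
  have hcop : p.Coprime r := (Nat.coprime_primes Fact.out hr).2 (Ne.symm hrp)
  rw [natDegree_of_dvd_cyclotomic_of_irreducible hk hcop hdvd hirr, hk, ← orderOf_units,
    ZMod.coe_unitOfCoprime]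

theorem mov_extend {p : ℕ} [Fact p.Prime] [CharP F p] (f : V →ₗ[F] V) (r : ℕ) [Fact r.Prime]
    (hrp : r ≠ p) (hf : f ^ r = 1) (U : Submodule F V) (hU : ∀ u ∈ U, f u ∈ U)
    (hUR : U ≤ movR f) (hne : U ≠ movR f) :
    ∃ U' : Submodule F V, (∀ u ∈ U', f u ∈ U') ∧ U ≤ U' ∧ U' ≤ movR f ∧
      finrank F U' = finrank F U + orderOf (Fintype.card F : ZMod r) := by
  have hr0 : (r : F) ≠ 0 := by
    rw [Ne, CharP.cast_eq_zero_iff F p]
    intro hd
    exact hrp ((Nat.prime_dvd_prime_iff_eq Fact.out Fact.out).1 hd).symm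
  have hnle : ¬ movR f ≤ U := fun h => hne (le_antisymm hUR h)
  obtain ⟨v, hvR, hvU, h, hm, hdeg, hhU⟩ := exists_factor_step f (movR f) U (movR_invariant f)
    hnle (orderOf (Fintype.card F : ZMod r)) _ (cyclotomic r F) rfl (cyclotomic_ne_zero r F)
    (fun h hirr hdvd => natDegree_factor_cyclotomic r Fact.out hrp h hirr hdvd)
    (fun w hw => by rw [cyclo_apply_movR f r hf w hw]; exact zero_mem _)
  set c := orderOf (Fintype.card F : ZMod r) with hc
  have hpow : (f ^ c) v ∈ U ⊔ cyc f v c := by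
    have := pow_mem_sup_cyc_of_monic f U v h hm hhU
    rwa [hdeg] at this
  have hinv := cyc_sup_invariant f v c U hU hpow
  have hcpos : 0 < c := by
    rw [← hdeg]
    by_contra h0
    have h0' : h.natDegree = 0 := by omega
    have h1 : h = 1 := by
      rw [eq_C_of_natDegree_eq_zero h0']
      have := hm.leadingCoeff
      rw [leadingCoeff, h0'] at this
      rw [this, C_1]
    rw [h1, map_one, Module.End.one_apply] at hhU
    exact hvU hhU
  have hcycR : cyc f v c ≤ movR f := by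
    rw [cyc, Submodule.span_le]
    rintro _ ⟨i, rfl⟩
    exact Module.End.pow_apply_mem_of_forall_mem _ (movR_invariant f) v hvR
  have hle : U ⊔ cyc f v c ≤ movR f := sup_le hUR hcycR
  refine ⟨U ⊔ cyc f v c, hinv, le_sup_left, hle, ?_⟩
  apply eq_add_of_dvd_of_lt_of_le c
  · exact orderOf_dvd_finrank_of_le_movR f r hf hr0 U hU hUR
  · exact orderOf_dvd_finrank_of_le_movR f r hf hr0 _ hinv hle
  · apply Submodule.finrank_lt_finrank_of_lt
    refine lt_of_le_of_ne le_sup_left ?_
    intro heq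
    apply hvU
    rw [heq]
    exact (le_sup_right : cyc f v c ≤ U ⊔ cyc f v c) (self_mem_cyc f v c hcpos)
  · have := Submodule.finrank_add_le_finrank_add_finrank U (cyc f v c)
    have := finrank_cyc_le f v c
    omega

theorem mov_chain {p : ℕ} [Fact p.Prime] [CharP F p] (f : V →ₗ[F] V) (r : ℕ) [Fact r.Prime]
    (hrp : r ≠ p) (hf : f ^ r = 1) (k : ℕ)
    (hk : orderOf (Fintype.card F : ZMod r) * k ≤ finrank F (movR f)) :
    ∃ U : Submodule F V, (∀ u ∈ U, f u ∈ U) ∧ U ≤ movR f ∧
      finrank F U = orderOf (Fintype.card F : ZMod r) * k := by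
  induction k with
  | zero => exact ⟨⊥, fun v hv => by rw [(Submodule.mem_bot F).1 hv, map_zero]; exact zero_mem _,
      bot_le, by simp⟩
  | succ k ih =>
    obtain ⟨U, hU, hUR, hUk⟩ := ih (by rw [mul_add] at hk; omega)
    by_cases hne : U = movR f
    · rw [hne] at hUk
      rw [hUk, mul_add, mul_one] at hk
      have h0 : orderOf (Fintype.card F : ZMod r) = 0 := by omega
      refine ⟨⊥, fun v hv => by rw [(Submodule.mem_bot F).1 hv, map_zero]; exact zero_mem _,
        bot_le, by simp [h0]⟩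
    · obtain ⟨U', hU', -, hU'R, hdim⟩ := mov_extend f r hrp hf U hU hUR hne
      exact ⟨U', hU', hU'R, by rw [hdim, hUk, mul_add, mul_one]⟩

theorem exists_invariant_add {p : ℕ} [Fact p.Prime] [CharP F p] (f : V →ₗ[F] V) (r : ℕ)
    [Fact r.Prime] (hrp : r ≠ p) (hf : f ^ r = 1) (j k : ℕ) (hj : j ≤ finrank F (fixE f))
    (hk : orderOf (Fintype.card F : ZMod r) * k ≤ finrank F (movR f)) :
    ∃ W : Submodule F V, (∀ u ∈ W, f u ∈ W) ∧
      finrank F W = j + orderOf (Fintype.card F : ZMod r) * k := by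
  have hr0 : (r : F) ≠ 0 := by
    rw [Ne, CharP.cast_eq_zero_iff F p]
    intro hd
    exact hrp ((Nat.prime_dvd_prime_iff_eq Fact.out Fact.out).1 hd).symm
  obtain ⟨U, hU, hUR, hUk⟩ := mov_chain f r hrp hf k hk
  obtain ⟨E', hE'⟩ := exists_subspace_finrank (F := F) (V := fixE f) j hj
  set E := E'.map (fixE f).subtype with hE
  have hEle : E ≤ fixE f := by
    rintro _ ⟨x, -, rfl⟩
    exact x.2
  have hEdim : finrank F E = j := by
    rw [← hE']
    exact (Submodule.equivSubtypeMap (fixE f) E').symm.finrank_eq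
  refine ⟨E ⊔ U, sup_invariant f E U (fixE_invariant f E hEle) hU, ?_⟩
  have h1 := Submodule.finrank_sup_add_finrank_inf_eq E U
  have h2 : E ⊓ U = ⊥ := by
    rw [eq_bot_iff, ← fix_inf_mov f r hf hr0]
    exact inf_le_inf hEle hUR
  rw [h2, finrank_bot, add_zero] at h1
  rw [h1, hEdim, hUk]

end finite

end Cfsg.Agent.Lib.Helper12.Elus
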