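import Mathlib
import Cfsg.Agent.Lib.Helper12.ElusE

set_option autoImplicit false

namespace Cfsg.Agent.Lib.Helper12.Elus

open Module Polynomial

section transfer

variable {F : Type*} [Field F]

theorem exists_transfer {V' : Type*} [AddCommGroup V'] [Module F V'] [FiniteDimensional F V']
    (n : ℕ) (hdim : finrank F V' = n) (f' : V' →ₗ[F] V') :
    ∃ f : (Fin n → F) →ₗ[F] (Fin n → F),
      (∀ (k : ℕ) (c : F), f' ^ k = c • 1 → f ^ k = c • 1) ∧
      LinearMap.det f = LinearMap.det f' ∧
      finrank F (fixE f) ≤ finrank F (fixE f') := by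
  have e : V' ≃ₗ[F] (Fin n → F) :=
    LinearEquiv.ofFinrankEq _ _ (by rw [hdim, Module.finrank_fin_fun])
  refine ⟨e.conjAlgEquiv F f', ?_, ?_, ?_⟩
  · intro k c h
    rw [← map_pow, h, map_smul, map_one]
  · rw [LinearEquiv.conjAlgEquiv_apply]
    exact LinearMap.det_conj f' e
  · have hle : fixE (e.conjAlgEquiv F f') ≤ (fixE f').map (e : V' →ₗ[F] (Fin n → F)) := by
      intro v hv
      rw [mem_fixE, LinearEquiv.conjAlgEquiv_apply] at hv
      refine ⟨e.symm v, ?_, by simp⟩
      show e.symm v ∈ fixE f'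
      rw [mem_fixE]
      apply e.injective
      simpa using hv
    calc finrank F (fixE (e.conjAlgEquiv F f'))
        ≤ finrank F ((fixE f').map (e : V' →ₗ[F] (Fin n → F))) := Submodule.finrank_mono hle
      _ = finrank F (fixE f') := LinearEquiv.finrank_map_eq e _

/-- a linear map on `F^n`, `n = r a`, with `f^r = c` -/
theorem exists_pow_eq_smul (c : F) (r a n : ℕ) (hr : 0 < r) (hn : n = r * a) :
    ∃ f : (Fin n → F) →ₗ[F] (Fin n → F), f ^ r = c • 1 := by
  have hmon : (X ^ r - C c : F[X]).Monic := monic_X_pow_sub_C c hr.ne'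
  haveI := hmon.finite_adjoinRoot
  haveI := hmon.free_adjoinRoot
  let L := AdjoinRoot (X ^ r - C c : F[X])
  have hL : finrank F L = r := by
    rw [(AdjoinRoot.powerBasis' hmon).finrank, AdjoinRoot.powerBasis'_dim, natDegree_X_pow_sub_C]
  have hα : (AdjoinRoot.root (X ^ r - C c : F[X])) ^ r = algebraMap F L c := by
    have h := AdjoinRoot.eval₂_root (X ^ r - C c : F[X])
    rw [eval₂_sub, eval₂_pow, eval₂_X, eval₂_C, sub_eq_zero] at h
    exact h
  let f' : (Fin a → L) →ₗ[F] (Fin a → L) :=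
    Algebra.lsmul F F (Fin a → L) (AdjoinRoot.root (X ^ r - C c : F[X]))
  have hf' : f' ^ r = c • 1 := by
    show (Algebra.lsmul F F (Fin a → L) (AdjoinRoot.root (X ^ r - C c : F[X]))) ^ r = c • 1
    rw [← map_pow, hα, AlgHom.commutes, Algebra.algebraMap_eq_smul_one]
  have hdim : finrank F (Fin a → L) = n := by
    rw [Module.finrank_pi_fintype, Finset.sum_const, Finset.card_univ, Fintype.card_fin, hL, hn,
      smul_eq_mul, mul_comm]
  obtain ⟨f, hf, -, -⟩ := exists_transfer n hdim f'
  exact ⟨f, hf r c hf'⟩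

end transfer

section order

variable {F : Type*} [Field F] [Fintype F]

theorem card_not_dvd {p : ℕ} [Fact p.Prime] [CharP F p] (r : ℕ) (hr : r.Prime) (hrp : r ≠ p) :
    ¬ r ∣ Fintype.card F := by
  obtain ⟨k, -, hk⟩ := FiniteField.card F p
  rw [hk]
  intro hd
  exact hrp ((Nat.prime_dvd_prime_iff_eq hr Fact.out).1 (hr.dvd_of_dvd_pow hd))

theorem orderOf_card_pos {p : ℕ} [Fact p.Prime] [CharP F p] (r : ℕ) [Fact r.Prime]
    (hrp : r ≠ p) : 0 < orderOf (Fintype.card F : ZMod r) := by
  have h0 : (Fintype.card F : ZMod r) ≠ 0 := by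
    rw [Ne, ZMod.natCast_eq_zero_iff]
    exact card_not_dvd r Fact.out hrp
  have h1 := ZMod.pow_card_sub_one_eq_one h0
  have h2 := orderOf_dvd_of_pow_eq_one h1
  have hr2 : 2 ≤ r := (Fact.out : r.Prime).two_le
  rcases Nat.eq_zero_or_pos (orderOf (Fintype.card F : ZMod r)) with h | h
  · rw [h, zero_dvd_iff] at h2
    omega
  · exact h

theorem orderOf_card_eq_one_iff (r : ℕ) [Fact r.Prime] :
    orderOf (Fintype.card F : ZMod r) = 1 ↔ r ∣ Fintype.card F - 1 := by
  rw [orderOf_eq_one_iff, ← ZMod.natCast_eq_zero_iff, Nat.cast_sub Fintype.card_pos,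
    Nat.cast_one, sub_eq_zero]

end order


section model

variable {F : Type*} [Field F] [Fintype F]

theorem exists_order_r {p : ℕ} [Fact p.Prime] [CharP F p] (r : ℕ) [Fact r.Prime] (hrp : r ≠ p)
    (n ν b : ℕ) (hn : n = ν + orderOf (Fintype.card F : ZMod r) * b) :
    ∃ f : (Fin n → F) →ₗ[F] (Fin n → F), f ^ r = 1 ∧ finrank F (fixE f) ≤ ν := by
  set c₀ := orderOf (Fintype.card F : ZMod r) with hc₀
  haveI : NeZero c₀ := ⟨(orderOf_card_pos r hrp).ne'⟩
  let K := FiniteField.Extension F p c₀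
  have hKcard : Nat.card K = Fintype.card F ^ c₀ := by
    rw [FiniteField.natCard_extension, Nat.card_eq_fintype_card]
  have hKrank : finrank F K = c₀ := FiniteField.finrank_extension F p c₀
  have hdvd : r ∣ Nat.card Kˣ := by
    rw [Nat.card_units, hKcard]
    exact dvd_pow_orderOf_sub_one r _ Fintype.card_pos
  obtain ⟨ζ, hζ⟩ := exists_prime_orderOf_dvd_card' r hdvd
  have hζr : (ζ : K) ^ r = 1 := by
    rw [← Units.val_pow_eq_pow_val, ← hζ, pow_orderOf_eq_one, Units.val_one]
  have hζ1 : (ζ : K) ≠ 1 := by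
    intro h
    have h1 : ζ = 1 := Units.ext h
    rw [h1, orderOf_one] at hζ
    exact (Fact.out : r.Prime).one_lt.ne hζ
  let g : (Fin b → K) →ₗ[F] (Fin b → K) := Algebra.lsmul F F (Fin b → K) (ζ : K)
  have hg : g ^ r = 1 := by
    show (Algebra.lsmul F F (Fin b → K) (ζ : K)) ^ r = 1
    rw [← map_pow, hζr, map_one]
  let f' : ((Fin ν → F) × (Fin b → K)) →ₗ[F] ((Fin ν → F) × (Fin b → K)) :=
    LinearMap.prodMapRingHom F (Fin ν → F) (Fin b → K) (1, g)
  have hf' : f' ^ r = 1 := by
    show (LinearMap.prodMapRingHom F (Fin ν → F) (Fin b → K) (1, g)) ^ r = 1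
    rw [← map_pow, Prod.pow_mk, one_pow, hg]
    exact map_one _
  have hfix : finrank F (fixE f') ≤ ν := by
    have hinj : Function.Injective
        ((LinearMap.fst F (Fin ν → F) (Fin b → K)).domRestrict (fixE f')) := by
      rw [← LinearMap.ker_eq_bot, eq_bot_iff]
      rintro ⟨⟨a, z⟩, hx⟩ hker
      rw [LinearMap.mem_ker, LinearMap.domRestrict_apply] at hker
      have ha : a = 0 := hker
      have h1 : f' (a, z) = (a, z) := (mem_fixE f' _).1 hx
      have h2 : ((ζ : K) • z) = z := congrArg Prod.snd h1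
      have h3 : ((ζ : K) - 1) • z = 0 := by rw [sub_smul, one_smul, h2, sub_self]
      have hz : z = 0 := by
        rcases smul_eq_zero.1 h3 with h | h
        · exact absurd (sub_eq_zero.1 h) hζ1
        · exact h
      rw [Submodule.mem_bot]
      apply Subtype.ext
      show (a, z) = 0
      rw [ha, hz]
      rfl
    have := LinearMap.finrank_le_finrank_of_injective hinj
    rwa [Module.finrank_fin_fun] at this
  have hdim : finrank F ((Fin ν → F) × (Fin b → K)) = n := by
    rw [Module.finrank_prod, Module.finrank_fin_fun, Module.finrank_pi_fintype, Finset.sum_const,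
      Finset.card_univ, Fintype.card_fin, hKrank, hn, smul_eq_mul, mul_comm]
  obtain ⟨f, hf, -, hfE⟩ := exists_transfer n hdim f'
  refine ⟨f, ?_, hfE.trans hfix⟩
  have := hf r 1 (by rw [hf', one_smul])
  rwa [one_smul] at this

end model

end Cfsg.Agent.Lib.Helper12.Elus
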