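import Mathlib

set_option autoImplicit false

namespace Cfsg.Agent.Lib.Helper12.Elus

section arith

variable {F : Type*} [Field F] [Fintype F]

theorem pow_pow_div_eq_one (r : ℕ) (hr : r ∣ Fintype.card F - 1) (d : F) (hd : d ≠ 0) :
    (d ^ r) ^ ((Fintype.card F - 1) / r) = 1 := by
  rw [← pow_mul, Nat.mul_div_cancel' hr]
  exact FiniteField.pow_card_sub_one_eq_one d hd

theorem not_pow_of_pow_div_ne_one (r : ℕ) (hr : r ∣ Fintype.card F - 1) (c : F) (hc0 : c ≠ 0)
    (hc : c ^ ((Fintype.card F - 1) / r) ≠ 1) : ∀ d : F, d ^ r ≠ c := by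
  intro d hd
  have hd0 : d ≠ 0 := by
    rintro rfl
    rcases Nat.eq_zero_or_pos r with h | h
    · subst h
      apply hc
      rw [← hd, pow_zero, one_pow]
    · rw [zero_pow h.ne'] at hd
      exact hc0 hd.symm
  apply hc
  rw [← hd]
  exact pow_pow_div_eq_one r hr d hd0

theorem card_sub_one_pos : 0 < Fintype.card F - 1 := by
  have := Fintype.one_lt_card (α := F)
  omega

/-- the sign `(-1)^(r+1)` is killed by the exponent `(q-1)/r` under the side conditions -/
theorem sign_pow_eq_one (r n : ℕ) (hr : r.Prime) (hrn : r ∣ n)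
    (h2 : r = 2 → Even n → Fintype.card F % 4 = 1) :
    (((-1 : F) ^ (r + 1)) ^ ((Fintype.card F - 1) / r)) = 1 := by
  rcases hr.eq_two_or_odd' with h | h
  · subst h
    have hq := h2 rfl ((even_iff_two_dvd).2 hrn)
    have hev : Even ((Fintype.card F - 1) / 2) := by
      rw [even_iff_two_dvd]
      omega
    rw [← pow_mul]
    have : Even ((2 + 1) * ((Fintype.card F - 1) / 2)) := hev.mul_left _
    exact this.neg_one_pow
  · have : Even (r + 1) := h.add_one
    rw [this.neg_one_pow, one_pow]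

theorem t2_bad (r n : ℕ) (hr : r.Prime) (hn : 0 < n) (hrn : r ∣ n)
    (hv : padicValNat r n ≤ padicValNat r (Fintype.card F - 1))
    (h2 : r = 2 → Even n → Fintype.card F % 4 = 1) (c : F) (hc0 : c ≠ 0)
    (hdet : ((-1 : F) ^ (r + 1) * c) ^ (n / r) = 1) :
    c ^ ((Fintype.card F - 1) / r) = 1 := by
  haveI : Fact r.Prime := ⟨hr⟩
  set N := Fintype.card F - 1 with hN
  have hNpos : 0 < N := card_sub_one_pos
  set s : F := (-1) ^ (r + 1) with hs
  have hs0 : s ≠ 0 := pow_ne_zero _ (neg_ne_zero.2 one_ne_zero)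
  have hsN : s ^ (N / r) = 1 := sign_pow_eq_one r n hr hrn h2
  have h1 : (s * c) ^ N = 1 := FiniteField.pow_card_sub_one_eq_one _ (mul_ne_zero hs0 hc0)
  have h3 : (s * c) ^ (Nat.gcd (n / r) N) = 1 := pow_gcd_eq_one.2 ⟨hdet, h1⟩
  -- gcd (n / r) N divides N / r
  have hg : Nat.gcd (n / r) N ∣ N / r := by
    set g := Nat.gcd (n / r) N with hgdef
    obtain ⟨k, hk⟩ : g ∣ N := Nat.gcd_dvd_right _ _
    have hga : g ∣ n / r := Nat.gcd_dvd_left _ _
    have hrk : r ∣ k := by
      by_contra hnk
      have hcop : Nat.Coprime (r ^ padicValNat r N) k :=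
        Nat.Coprime.pow_left _ ((Nat.Prime.coprime_iff_not_dvd hr).2 hnk)
      have h4 : r ^ padicValNat r N ∣ g * k := by
        rw [← hk]
        exact pow_padicValNat_dvd
      have h5 : r ^ padicValNat r N ∣ g := hcop.dvd_of_dvd_mul_right h4
      have h6 : r ^ padicValNat r N ∣ n / r := h5.trans hga
      have h7 : r ^ (padicValNat r N + 1) ∣ n := by
        obtain ⟨a, ha⟩ := hrn
        rw [ha, Nat.mul_div_cancel_left _ hr.pos] at h6
        rw [ha, pow_succ, mul_comm]
        exact Nat.mul_dvd_mul_left r h6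
      have h8 := (padicValNat_dvd_iff_le hn.ne').1 h7
      omega
    obtain ⟨k', rfl⟩ := hrk
    refine ⟨k', ?_⟩
    rw [hk, show g * (r * k') = r * (g * k') by ring, Nat.mul_div_cancel_left _ hr.pos]
  have h9 : (s * c) ^ (N / r) = 1 := by
    obtain ⟨t, ht⟩ := hg
    rw [ht, pow_mul, h3, one_pow]
  rw [mul_pow, hsN, one_mul] at h9
  exact h9

/-- existence of a `T2` scalar: `c` not an `r`-th power with `((-1)^(r+1) c)^(n/r) = 1` -/
theorem t2_good (r n : ℕ) (hr : r.Prime) (hrq : r ∣ Fintype.card F - 1) (hn : 0 < n)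
    (hcond : ¬ (padicValNat r n ≤ padicValNat r (Fintype.card F - 1) ∧
      (r = 2 → Even n → Fintype.card F % 4 = 1))) :
    r ∣ n ∧ ∃ c : F, c ≠ 0 ∧ c ^ ((Fintype.card F - 1) / r) ≠ 1 ∧
      ((-1 : F) ^ (r + 1) * c) ^ (n / r) = 1 := by
  haveI : Fact r.Prime := ⟨hr⟩
  set N := Fintype.card F - 1 with hN
  have hNpos : 0 < N := card_sub_one_pos
  by_cases hv : padicValNat r n ≤ padicValNat r N
  · -- then `r = 2`, `n` even, `q % 4 ≠ 1`
    have h2 : ¬ (r = 2 → Even n → Fintype.card F % 4 = 1) := fun h => hcond ⟨hv, h⟩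
    push Not at h2
    obtain ⟨hr2, hne, hq4⟩ := h2
    subst hr2
    have hrn : 2 ∣ n := even_iff_two_dvd.1 hne
    refine ⟨hrn, -1, neg_ne_zero.2 one_ne_zero, ?_, ?_⟩
    · have hodd : Odd (N / 2) := by
        rw [Nat.odd_iff]
        omega
      rw [hodd.neg_one_pow]
      intro h
      have h2 : (2 : F) = 0 := by
        have : (1 : F) + 1 = 0 := by
          nth_rewrite 1 [← h]
          exact neg_add_cancel 1
        rw [← this]; norm_num
      -- char 2 contradicts q odd
      have hchar : ringChar F = 2 := by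
        have : ((2 : ℕ) : F) = 0 := by exact_mod_cast h2
        have hdvd := (ringChar.spec F 2).1 this
        have hp := CharP.char_is_prime F (ringChar F)
        exact (Nat.prime_dvd_prime_iff_eq hp Nat.prime_two).1 hdvd
      obtain ⟨k, hk⟩ := FiniteField.card F (ringChar F)
      rw [hchar] at hk
      have : 2 ∣ Fintype.card F := by rw [hk.2]; exact dvd_pow_self 2 k.ne_zero
      omega
    · have : ((-1 : F) ^ (2 + 1) * -1) = 1 := by norm_num
      rw [this, one_pow]
  · push Not at hv
    have he : 1 ≤ padicValNat r N := one_le_padicValNat_of_dvd hNpos.ne' hrq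
    have hrn : r ∣ n := dvd_of_one_le_padicValNat (by omega)
    have hrn' : r ^ (padicValNat r N + 1) ∣ n := (padicValNat_dvd_iff_le hn.ne').2 hv
    have hra : r ^ padicValNat r N ∣ n / r := by
      obtain ⟨a, ha⟩ := hrn'
      rw [ha, pow_succ, mul_assoc, mul_comm r a, ← mul_assoc, Nat.mul_div_cancel _ hr.pos]
      exact dvd_mul_right _ _
    -- generator
    haveI : IsCyclic Fˣ := inferInstance
    obtain ⟨t, ht⟩ := IsCyclic.exists_ofOrder_eq_natCard (α := Fˣ)
    have htN : orderOf t = N := by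
      rw [ht, Nat.card_units, Nat.card_eq_fintype_card]
    set e := padicValNat r N with hedef
    obtain ⟨u, hu⟩ : r ^ e ∣ N := pow_padicValNat_dvd
    have hru : ¬ r ∣ u := by
      intro hd
      obtain ⟨u', rfl⟩ := hd
      have h1 : r ^ (e + 1) ∣ N := ⟨u', by rw [hu, pow_succ]; ring⟩
      have h2 := (padicValNat_dvd_iff_le hNpos.ne').1 h1
      omega
    have hupos : 0 < u := by
      rcases Nat.eq_zero_or_pos u with h | h
      · rw [h, mul_zero] at hu; omega
      · exact h
    refine ⟨hrn, ((t ^ u : Fˣ) : F), Units.ne_zero _, ?_, ?_⟩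
    · rw [← Units.val_pow_eq_pow_val, ← pow_mul, Ne, Units.val_eq_one,
        ← orderOf_dvd_iff_pow_eq_one, htN]
      intro hd
      -- N ∣ u * (N / r), N = r^e u, N / r = r^(e-1) u
      have hNr : N / r = r ^ (e - 1) * u := by
        have : N = r * (r ^ (e - 1) * u) := by
          rw [hu, ← mul_assoc, ← pow_succ', Nat.sub_add_cancel he]
        rw [this, Nat.mul_div_cancel_left _ hr.pos]
      rw [hNr, hu] at hd
      have h1 : r ^ e * u = (r ^ (e - 1) * u) * r := by
        have : r ^ e = r ^ (e - 1) * r := by rw [← pow_succ, Nat.sub_add_cancel he]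
        rw [this]; ring
      have h2 : u * (r ^ (e - 1) * u) = (r ^ (e - 1) * u) * u := by ring
      rw [h1, h2] at hd
      have hpos : 0 < r ^ (e - 1) * u := Nat.mul_pos (pow_pos hr.pos _) hupos
      exact hru ((Nat.mul_dvd_mul_iff_left hpos).1 hd)
    · rw [mul_pow]
      have h1 : ((-1 : F) ^ (r + 1)) ^ (n / r) = 1 := by
        rcases hr.eq_two_or_odd' with h | h
        · subst h
          have : Even (n / 2) := by
            rw [even_iff_two_dvd]
            exact (dvd_pow_self 2 (by omega : e ≠ 0)).trans hra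
          rw [← pow_mul]
          exact (this.mul_left _).neg_one_pow
        · rw [h.add_one.neg_one_pow, one_pow]
      rw [h1, one_mul, ← Units.val_pow_eq_pow_val, ← pow_mul, Units.val_eq_one,
        ← orderOf_dvd_iff_pow_eq_one, htN, hu]
      obtain ⟨a', ha'⟩ := hra
      rw [ha']
      exact ⟨a', by ring⟩

end arith

end Cfsg.Agent.Lib.Helper12.Elus
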