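import Mathlib
import Cfsg.Agent.Lib.Helper12.ElusA
import Cfsg.Agent.Lib.Helper12.ElusC
import Cfsg.Agent.Lib.Helper12.ElusF
import Cfsg.Agent.Lib.Helper12.ElusG

set_option autoImplicit false

namespace Cfsg.Agent.Lib.Helper12.Elus

open Module Polynomial

section main

variable {F V : Type*} [Field F] [Fintype F] [AddCommGroup V] [Module F V]
  [FiniteDimensional F V]

omit [Fintype F] in
/-- `det f = 1` and `f^r = c` force `c ≠ 0` (in positive dimension) -/
theorem scalar_ne_zero (f : V →ₗ[F] V) (r : ℕ) (c : F) (hV : 0 < finrank F V)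
    (hdet : LinearMap.det f = 1) (hfc : f ^ r = c • 1) : c ≠ 0 := by
  rintro rfl
  have h := congrArg LinearMap.det hfc
  rw [map_pow, hdet, one_pow, zero_smul, LinearMap.det_zero, zero_pow hV.ne'] at h
  exact one_ne_zero h

/-- split and `T2` cases when `r ∣ q - 1` -/
theorem fwd_split (f : V →ₗ[F] V) (r : ℕ) [Fact r.Prime] (hrq : r ∣ Fintype.card F - 1)
    (m : ℕ) (hm : m ≤ finrank F V) (hV : 0 < finrank F V)
    (hcond : r ∣ m ∨ (padicValNat r (finrank F V) ≤ padicValNat r (Fintype.card F - 1) ∧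
      (r = 2 → Even (finrank F V) → Fintype.card F % 4 = 1)))
    (c : F) (hdet : LinearMap.det f = 1) (hfc : f ^ r = c • 1) :
    ∃ W : Submodule F V, finrank F W = m ∧ ∀ v ∈ W, f v ∈ W := by
  have hr : r.Prime := Fact.out
  have hc0 : c ≠ 0 := scalar_ne_zero f r c hV hdet hfc
  by_cases hc1 : c ^ ((Fintype.card F - 1) / r) = 1
  · -- split case
    have h1 : f ^ (Fintype.card F - 1) = 1 := by
      rw [← Nat.mul_div_cancel' hrq, pow_mul, hfc, _root_.smul_pow, one_pow, hc1, one_smul]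
    have h2 : f ^ Fintype.card F = f := by
      have : Fintype.card F = (Fintype.card F - 1) + 1 := by
        have := Fintype.card_pos (α := F)
        omega
      conv_lhs => rw [this, pow_succ, h1, one_mul]
    obtain ⟨W, hW, hWm⟩ := split_all f h2 m hm
    exact ⟨W, hWm, hW⟩
  · have hc : ∀ d : F, d ^ r ≠ c := not_pow_of_pow_div_ne_one r hrq c hc0 hc1
    rcases hcond with hrm | ⟨hv, h2⟩
    · obtain ⟨k, rfl⟩ := hrm
      obtain ⟨W, hW, hWm⟩ := t2_exists_invariant f r hr c hfc hc k hm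
      exact ⟨W, hWm, hW⟩
    · exfalso
      have hrn : r ∣ finrank F V := by
        have := t2_dvd_finrank f r hr c hfc hc ⊤ (fun _ _ => Submodule.mem_top)
        rwa [finrank_top] at this
      have hd := t2_det f r hr c hfc hc
      rw [hdet] at hd
      exact hc1 (t2_bad r (finrank F V) hr hV hrn hv h2 c hc0 hd.symm)

theorem exists_root_of_coprime (r : ℕ) (hr : r.Prime) (hrq : ¬ r ∣ Fintype.card F - 1) (c : F)
    (hc0 : c ≠ 0) : ∃ d : F, d ≠ 0 ∧ d ^ r = c := by
  have hcop : (Nat.card Fˣ).Coprime r := by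
    rw [Nat.card_units, Nat.card_eq_fintype_card]
    exact ((Nat.Prime.coprime_iff_not_dvd hr).2 hrq).symm
  let u : Fˣ := Units.mk0 c hc0
  refine ⟨(((powCoprime hcop).symm u : Fˣ) : F), Units.ne_zero _, ?_⟩
  have h1 : (powCoprime hcop) ((powCoprime hcop).symm u) = u := Equiv.apply_symm_apply _ _
  have h2 : ((powCoprime hcop).symm u) ^ r = u := h1
  have h3 := congrArg Units.val h2
  rw [Units.val_pow_eq_pow_val] at h3
  exact h3

theorem eq_one_of_pow_eq_one_of_coprime (r : ℕ) (hr : r.Prime) (hrq : ¬ r ∣ Fintype.card F - 1)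
    (d : F) (hd : d ^ r = 1) : d = 1 := by
  have hd0 : d ≠ 0 := by
    rintro rfl
    rw [zero_pow hr.ne_zero] at hd
    exact zero_ne_one hd
  have h1 : d ^ (Fintype.card F - 1) = 1 := FiniteField.pow_card_sub_one_eq_one d hd0
  have h2 : d ^ Nat.gcd r (Fintype.card F - 1) = 1 := pow_gcd_eq_one.2 ⟨hd, h1⟩
  have h3 : Nat.gcd r (Fintype.card F - 1) = 1 := (Nat.Prime.coprime_iff_not_dvd hr).2 hrq
  rwa [h3, pow_one] at h2

theorem fwd_nonsplit {p : ℕ} [Fact p.Prime] [CharP F p] (f : V →ₗ[F] V) (r : ℕ) [Fact r.Prime]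
    (hrp : r ≠ p) (hrq : ¬ r ∣ Fintype.card F - 1) (m : ℕ) (hm : m ≤ finrank F V)
    (hmod : m % orderOf (Fintype.card F : ZMod r) ≤
      finrank F V % orderOf (Fintype.card F : ZMod r))
    (c : F) (hc0 : c ≠ 0) (hfc : f ^ r = c • 1) :
    ∃ W : Submodule F V, finrank F W = m ∧ ∀ v ∈ W, f v ∈ W := by
  have hr : r.Prime := Fact.out
  have hr0 : (r : F) ≠ 0 := by
    rw [Ne, CharP.cast_eq_zero_iff F p]
    intro hd
    exact hrp ((Nat.prime_dvd_prime_iff_eq Fact.out Fact.out).1 hd).symm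
  obtain ⟨d, hd0, hd⟩ := exists_root_of_coprime r hr hrq c hc0
  set y : V →ₗ[F] V := d⁻¹ • f with hy
  have hyr : y ^ r = 1 := by
    rw [hy, _root_.smul_pow, hfc, smul_smul, inv_pow, hd, inv_mul_cancel₀ hc0, one_smul]
  set c₀ := orderOf (Fintype.card F : ZMod r) with hc₀
  have hc₀pos : 0 < c₀ := orderOf_card_pos r hrp
  have hsum := finrank_fix_add_mov y
  obtain ⟨b, hb⟩ : c₀ ∣ finrank F (movR y) :=
    orderOf_dvd_finrank_of_le_movR y r hyr hr0 (movR y) (movR_invariant y) le_rfl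
  -- choose k, j
  have key : ∃ j k, j ≤ finrank F (fixE y) ∧ c₀ * k ≤ finrank F (movR y) ∧ j + c₀ * k = m := by
    by_cases hk : m / c₀ ≤ b
    · refine ⟨m % c₀, m / c₀, ?_, ?_, Nat.mod_add_div m c₀⟩
      · have h1 : finrank F V % c₀ = finrank F (fixE y) % c₀ := by
          rw [← hsum, hb, Nat.add_mul_mod_self_left]
        have h2 : finrank F (fixE y) % c₀ ≤ finrank F (fixE y) := Nat.mod_le _ _
        omega
      · rw [hb]
        exact Nat.mul_le_mul_left _ hk
    · push Not at hk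
      have h1 : c₀ * b < m := by
        have h2 : c₀ * (b + 1) ≤ c₀ * (m / c₀) := Nat.mul_le_mul_left _ hk
        have h3 : c₀ * (m / c₀) ≤ m := Nat.mul_div_le m c₀
        rw [mul_add, mul_one] at h2
        omega
      refine ⟨m - c₀ * b, b, ?_, ?_, ?_⟩
      · omega
      · rw [hb]
      · omega
  obtain ⟨j, k, hj, hk, hjk⟩ := key
  obtain ⟨W, hW, hWdim⟩ := exists_invariant_add y r hrp hyr j k hj hk
  refine ⟨W, by rw [hWdim, hjk], ?_⟩
  intro v hv
  have h1 : f v = d • y v := by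
    rw [hy, LinearMap.smul_apply, smul_smul, mul_inv_cancel₀ hd0, one_smul]
  rw [h1]
  exact Submodule.smul_mem _ _ (hW v hv)

end main


section main2

variable {F : Type*} [Field F] [Fintype F]

omit [Fintype F] in
theorem smul_one_inj {V : Type*} [AddCommGroup V] [Module F V] [FiniteDimensional F V]
    (hV : 0 < finrank F V) (a b : F) (h : a • (1 : V →ₗ[F] V) = b • 1) : a = b := by
  obtain ⟨v, hv⟩ := (Module.finrank_pos_iff_exists_ne_zero (R := F) (M := V)).1 hV
  have h1 := congrArg (fun g : V →ₗ[F] V => g v) h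
  simp only [LinearMap.smul_apply, Module.End.one_apply] at h1
  have h2 : (a - b) • v = 0 := by rw [sub_smul, h1, sub_self]
  rcases smul_eq_zero.1 h2 with h3 | h3
  · exact sub_eq_zero.1 h3
  · exact absurd h3 hv

theorem bwd_split (n m r : ℕ) [Fact r.Prime] (hn : 0 < n) (hrq : r ∣ Fintype.card F - 1)
    (H : ∀ f : (Fin n → F) →ₗ[F] (Fin n → F), LinearMap.det f = 1 →
      (∃ c : F, f ^ r = c • 1) → (∀ c : F, f ≠ c • 1) →
      ∃ W : Submodule F (Fin n → F), finrank F W = m ∧ ∀ v ∈ W, f v ∈ W) :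
    r ∣ m ∨ (padicValNat r n ≤ padicValNat r (Fintype.card F - 1) ∧
      (r = 2 → Even n → Fintype.card F % 4 = 1)) := by
  have hr : r.Prime := Fact.out
  by_contra hcon
  rw [not_or] at hcon
  obtain ⟨hrm, hcond⟩ := hcon
  obtain ⟨hrn, c, hc0, hc1, hdet⟩ := t2_good (F := F) r n hr hrq hn hcond
  have hc := not_pow_of_pow_div_ne_one r hrq c hc0 hc1
  obtain ⟨a, ha⟩ := hrn
  obtain ⟨f, hf⟩ := exists_pow_eq_smul c r a n hr.pos ha
  have hfin : finrank F (Fin n → F) = n := Module.finrank_fin_fun F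
  have hdf : LinearMap.det f = 1 := by
    rw [t2_det f r hr c hf hc, hfin, hdet]
  have hns : ∀ d : F, f ≠ d • 1 := by
    intro d hd
    rw [hd, _root_.smul_pow, one_pow] at hf
    exact hc d (smul_one_inj (by rw [hfin]; exact hn) _ _ hf)
  obtain ⟨W, hWm, hW⟩ := H f hdf ⟨c, hf⟩ hns
  apply hrm
  rw [← hWm]
  exact t2_dvd_finrank f r hr c hf hc W hW

theorem bwd_nonsplit {p : ℕ} [Fact p.Prime] [CharP F p] (n m r : ℕ) [Fact r.Prime] (hrp : r ≠ p)
    (hrq : ¬ r ∣ Fintype.card F - 1) (hmn : m ≤ n)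
    (hj : ∃ j, n - m < j ∧ j ≤ n ∧ r ∣ Fintype.card F ^ j - 1)
    (H : ∀ f : (Fin n → F) →ₗ[F] (Fin n → F), LinearMap.det f = 1 →
      (∃ c : F, f ^ r = c • 1) → (∀ c : F, f ≠ c • 1) →
      ∃ W : Submodule F (Fin n → F), finrank F W = m ∧ ∀ v ∈ W, f v ∈ W) :
    orderOf (Fintype.card F : ZMod r) ≤ m ∧
      m % orderOf (Fintype.card F : ZMod r) ≤ n % orderOf (Fintype.card F : ZMod r) := by
  have hr : r.Prime := Fact.out
  have hr0 : (r : F) ≠ 0 := by
    rw [Ne, CharP.cast_eq_zero_iff F p]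
    intro hd
    exact hrp ((Nat.prime_dvd_prime_iff_eq Fact.out Fact.out).1 hd).symm
  set c₀ := orderOf (Fintype.card F : ZMod r) with hc₀
  have hc₀pos : 0 < c₀ := orderOf_card_pos r hrp
  obtain ⟨j, hj1, hj2, hj3⟩ := hj
  obtain ⟨j', rfl⟩ : c₀ ∣ j := orderOf_dvd_of_dvd_pow_sub_one r _ j Fintype.card_pos hj3
  have hdecomp : n = n % c₀ + c₀ * (n / c₀) := (Nat.mod_add_div n c₀).symm
  have hj'b : j' ≤ n / c₀ := (Nat.le_div_iff_mul_le hc₀pos).2 (by rw [mul_comm]; exact hj2)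
  have hνm : n % c₀ < m := by
    have := Nat.mul_le_mul_left c₀ hj'b
    omega
  have hνc : n % c₀ < c₀ := Nat.mod_lt _ hc₀pos
  obtain ⟨f, hf, hfix⟩ := exists_order_r (F := F) r hrp n (n % c₀) (n / c₀) hdecomp
  have hfin : finrank F (Fin n → F) = n := Module.finrank_fin_fun F
  have hnpos : 0 < n := by omega
  have hdf : LinearMap.det f = 1 :=
    eq_one_of_pow_eq_one_of_coprime r hr hrq _ (by rw [← map_pow, hf, map_one])
  have hns : ∀ d : F, f ≠ d • 1 := by
    intro d hd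
    have h1 : d ^ r • (1 : (Fin n → F) →ₗ[F] (Fin n → F)) = (1 : F) • 1 := by
      rw [one_smul]
      calc d ^ r • (1 : (Fin n → F) →ₗ[F] (Fin n → F)) = (d • 1) ^ r := by
            rw [_root_.smul_pow, one_pow]
        _ = f ^ r := by rw [hd]
        _ = 1 := hf
    have h2 : d ^ r = 1 := smul_one_inj (by rw [hfin]; exact hnpos) _ _ h1
    have h3 : d = 1 := eq_one_of_pow_eq_one_of_coprime r hr hrq d h2
    rw [h3, one_smul] at hd
    have h4 : fixE f = ⊤ := by
      rw [eq_top_iff]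
      intro v _
      rw [mem_fixE, hd, Module.End.one_apply]
    rw [h4, finrank_top, hfin] at hfix
    omega
  obtain ⟨W, hWm, hW⟩ := H f hdf ⟨1, by rw [hf, one_smul]⟩ hns
  have h1 := finrank_eq_fix_add_map f W
  have h2 : finrank F ↥(W ⊓ fixE f) ≤ n % c₀ :=
    (Submodule.finrank_mono inf_le_right).trans hfix
  obtain ⟨k, hk⟩ : c₀ ∣ finrank F ↥(W.map (f - 1)) :=
    orderOf_dvd_finrank_of_le_movR f r hf hr0 _ (map_sub_one_invariant f W hW)
      (map_sub_one_le_movR f W)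
  rw [hWm, hk] at h1
  have hk1 : 1 ≤ k := by
    rcases Nat.eq_zero_or_pos k with h | h
    · rw [h, mul_zero] at h1
      omega
    · exact h
  constructor
  · have : c₀ * 1 ≤ c₀ * k := Nat.mul_le_mul_left _ hk1
    omega
  · have h3 : m % c₀ = finrank F ↥(W ⊓ fixE f) := by
      rw [h1, Nat.add_mul_mod_self_left, Nat.mod_eq_of_lt (by omega)]
    omega

theorem elusive_iff {p : ℕ} [Fact p.Prime] [CharP F p] (n m : ℕ) (hm : 1 ≤ m) (hmn : 2 * m ≤ n)
    (r : ℕ) [Fact r.Prime]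
    (hrΩ : r ∣ Nat.card {W : Submodule F (Fin n → F) // finrank F W = m}) :
    (∀ f : (Fin n → F) →ₗ[F] (Fin n → F), LinearMap.det f = 1 →
      (∃ c : F, f ^ r = c • 1) → (∀ c : F, f ≠ c • 1) →
      ∃ W : Submodule F (Fin n → F), finrank F W = m ∧ ∀ v ∈ W, f v ∈ W) ↔
    (r ≠ p ∧
      ((orderOf (Fintype.card F : ZMod r) = 1 ∧
          (r ∣ m ∨ (padicValNat r n ≤ padicValNat r (Fintype.card F - 1) ∧
            (r = 2 → Even n → Fintype.card F % 4 = 1)))) ∨
       (2 ≤ orderOf (Fintype.card F : ZMod r) ∧ orderOf (Fintype.card F : ZMod r) ≤ m ∧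
          m % orderOf (Fintype.card F : ZMod r) ≤ n % orderOf (Fintype.card F : ZMod r)))) := by
  have hr : r.Prime := Fact.out
  have hfin : finrank F (Fin n → F) = n := Module.finrank_fin_fun F
  have hmn' : m ≤ finrank F (Fin n → F) := by rw [hfin]; omega
  have hnpos : 0 < n := by omega
  have hrp : r ≠ p := by
    rintro rfl
    exact not_dvd_card_subspaces (F := F) (V := Fin n → F) (p := r) m hmn' hrΩ
  have hc₀pos : 0 < orderOf (Fintype.card F : ZMod r) := orderOf_card_pos r hrp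
  constructor
  · intro H
    refine ⟨hrp, ?_⟩
    by_cases hc1 : orderOf (Fintype.card F : ZMod r) = 1
    · left
      exact ⟨hc1, bwd_split n m r hnpos ((orderOf_card_eq_one_iff r).1 hc1) H⟩
    · right
      have hrq : ¬ r ∣ Fintype.card F - 1 := fun h => hc1 ((orderOf_card_eq_one_iff r).2 h)
      have hj := exists_dvd_of_dvd_card_subspaces (F := F) (V := Fin n → F) r hr hrp m hmn' hrΩ
      rw [hfin] at hj
      obtain ⟨h1, h2⟩ := bwd_nonsplit n m r hrp hrq (by omega) hj H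
      exact ⟨by omega, h1, h2⟩
  · rintro ⟨-, hcases⟩ f hdet ⟨c, hfc⟩ -
    rcases hcases with ⟨hc1, hcond⟩ | ⟨hc2, -, hmod⟩
    · have hrq := (orderOf_card_eq_one_iff (F := F) r).1 hc1
      exact fwd_split f r hrq m hmn' (by rw [hfin]; exact hnpos) (by rw [hfin]; exact hcond) c
        hdet hfc
    · have hrq : ¬ r ∣ Fintype.card F - 1 := by
        intro h
        have := (orderOf_card_eq_one_iff (F := F) r).2 h
        omega
      have hc0 : c ≠ 0 := scalar_ne_zero f r c (by rw [hfin]; exact hnpos) hdet hfc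
      exact fwd_nonsplit f r hrp hrq m hmn' (by rw [hfin]; exact hmod) c hc0 hfc

end main2


open scoped MatrixGroups

theorem sl_iff_end {F : Type*} [Field F] (n r : ℕ)
    (P : ((Fin n → F) →ₗ[F] (Fin n → F)) → Prop) :
    (∀ x : Matrix.SpecialLinearGroup (Fin n) F,
      (∃ c : F, ((x ^ r : Matrix.SpecialLinearGroup (Fin n) F) : Matrix (Fin n) (Fin n) F) =
        c • (1 : Matrix (Fin n) (Fin n) F)) →
      (∀ c : F, (x : Matrix (Fin n) (Fin n) F) ≠ c • (1 : Matrix (Fin n) (Fin n) F)) →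
      P (Matrix.toLin' (x : Matrix (Fin n) (Fin n) F))) ↔
    (∀ f : (Fin n → F) →ₗ[F] (Fin n → F), LinearMap.det f = 1 →
      (∃ c : F, f ^ r = c • 1) → (∀ c : F, f ≠ c • 1) → P f) := by
  have hsm : ∀ c : F, Matrix.toLin' (c • (1 : Matrix (Fin n) (Fin n) F)) =
      c • (1 : (Fin n → F) →ₗ[F] (Fin n → F)) := by
    intro c
    rw [map_smul, Matrix.toLin'_one]
    rfl
  constructor
  · intro H f hdet hfc hns
    let x : Matrix.SpecialLinearGroup (Fin n) F :=
      ⟨LinearMap.toMatrix' f, by rw [LinearMap.det_toMatrix', hdet]⟩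
    have hx : Matrix.toLin' (x : Matrix (Fin n) (Fin n) F) = f := Matrix.toLin'_toMatrix' f
    have := H x ?_ ?_
    · rwa [hx] at this
    · obtain ⟨c, hc⟩ := hfc
      refine ⟨c, ?_⟩
      apply Matrix.toLin'.injective
      rw [Matrix.SpecialLinearGroup.coe_pow, Matrix.toLin'_pow, hx, hsm, hc]
    · intro c hc
      apply hns c
      rw [← hx, hc, hsm]
  · intro H x hxc hns
    apply H
    · rw [LinearMap.det_toLin', x.2]
    · obtain ⟨c, hc⟩ := hxc
      refine ⟨c, ?_⟩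
      rw [← Matrix.toLin'_pow, ← Matrix.SpecialLinearGroup.coe_pow, hc, hsm]
    · intro c hc
      apply hns c
      apply Matrix.toLin'.injective
      rw [hc, hsm]

end Cfsg.Agent.Lib.Helper12.Elus
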