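import Mathlib
import Cfsg.Agent.Lib.Helper12.ElusA

set_option autoImplicit false

namespace Cfsg.Agent.Lib.Helper12.Elus

open Module

section paircount

variable {F V : Type*} [Field F] [Fintype F] [AddCommGroup V] [Module F V]
  [FiniteDimensional F V]

omit [Fintype F] [FiniteDimensional F V] in
/-- projections onto `U` correspond to linear maps from a fixed complement into `U` -/
noncomputable def projEquiv (U W₀ : Submodule F V) (h : IsCompl U W₀) :
    {f : V →ₗ[F] U // ∀ x : U, f x = x} ≃ (W₀ →ₗ[F] U) where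
  toFun f := f.1.comp W₀.subtype
  invFun φ := ⟨LinearMap.ofIsCompl h LinearMap.id φ, fun x => by
    rw [LinearMap.ofIsCompl_apply_left]; rfl⟩
  left_inv f := by
    apply Subtype.ext
    apply LinearMap.ofIsCompl_eq
    · intro u
      exact (f.2 u).symm
    · intro u
      rfl
  right_inv φ := by
    apply LinearMap.ext
    intro w
    show LinearMap.ofIsCompl h LinearMap.id φ (w : V) = φ w
    rw [LinearMap.ofIsCompl_apply_right]

theorem card_compl (U : Submodule F V) :
    Nat.card {W : Submodule F V // IsCompl U W} =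
      Fintype.card F ^ ((finrank F V - finrank F U) * finrank F U) := by
  obtain ⟨W₀, hW₀⟩ := Submodule.exists_isCompl U
  rw [Nat.card_congr (Submodule.isComplEquivProj U), Nat.card_congr (projEquiv U W₀ hW₀)]
  haveI : Finite (W₀ →ₗ[F] U) := Module.finite_of_finite F
  rw [Module.natCard_eq_pow_finrank (K := F), Nat.card_eq_fintype_card,
    Module.finrank_linearMap]
  have := Submodule.finrank_add_eq_of_isCompl hW₀
  congr 2
  omega

/-- complementary pairs `(U, W)` with `dim U = m` -/
abbrev CPair (F V : Type*) [Field F] [AddCommGroup V] [Module F V] (m : ℕ) : Type _ :=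
  {P : Submodule F V × Submodule F V // IsCompl P.1 P.2 ∧ finrank F ↥P.1 = m}

omit [Fintype F] [FiniteDimensional F V] in
/-- pairs as a sigma type -/
def cpairEquiv (m : ℕ) :
    CPair F V m ≃ Σ U : {U : Submodule F V // finrank F U = m},
      {W : Submodule F V // IsCompl U.1 W} where
  toFun P := ⟨⟨P.1.1, P.2.2⟩, ⟨P.1.2, P.2.1⟩⟩
  invFun x := ⟨(x.1.1, x.2.1), ⟨x.2.2, x.1.2⟩⟩
  left_inv _ := rfl
  right_inv _ := rfl

theorem card_cpair (m : ℕ) :
    Nat.card (CPair F V m) = Nat.card {U : Submodule F V // finrank F U = m} *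
      Fintype.card F ^ ((finrank F V - m) * m) := by
  classical
  haveI : Finite V := Module.finite_of_finite F
  rw [Nat.card_congr (cpairEquiv (F := F) (V := V) m)]
  haveI : Fintype {U : Submodule F V // finrank F U = m} := Fintype.ofFinite _
  rw [Nat.card_sigma]
  have h : ∀ U : {U : Submodule F V // finrank F U = m},
      Nat.card {W : Submodule F V // IsCompl U.1 W} =
        Fintype.card F ^ ((finrank F V - m) * m) := by
    intro U
    rw [card_compl, U.2]
  rw [Finset.sum_congr rfl (fun U _ => h U), Finset.sum_const, smul_eq_mul, Finset.card_univ,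
    Nat.card_eq_fintype_card]

theorem exists_dvd_of_dvd_card_cpair {p : ℕ} [Fact p.Prime] [CharP F p] (r : ℕ) (hr : r.Prime)
    (hrp : r ≠ p) (m : ℕ) (hm : m ≤ finrank F V) (h : r ∣ Nat.card (CPair F V m)) :
    ∃ j, finrank F V - m < j ∧ j ≤ finrank F V ∧ r ∣ Fintype.card F ^ j - 1 := by
  haveI : Finite V := Module.finite_of_finite F
  rw [card_cpair m] at h
  have hrq : ¬ r ∣ Fintype.card F := by
    obtain ⟨k, -, hk⟩ := FiniteField.card F p
    rw [hk]
    intro hd
    exact hrp ((Nat.prime_dvd_prime_iff_eq hr Fact.out).1 (hr.dvd_of_dvd_pow hd))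
  rcases (Nat.Prime.dvd_mul hr).1 h with h1 | h1
  · exact exists_dvd_of_dvd_card_subspaces r hr hrp m hm h1
  · exact absurd (hr.dvd_of_dvd_pow h1) hrq

end paircount

end Cfsg.Agent.Lib.Helper12.Elus
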