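import Mathlib
import Cfsg.Agent.Lib.Helper12.ElusH
import Cfsg.Agent.Lib.Helper12.ElusK
import Cfsg.Agent.Lib.Helper15.UniDecomp

set_option autoImplicit false

namespace Cfsg.Agent.Lib.Helper12.Elus

open Module Polynomial
open Cfsg.Agent.Lib.Helper15.SemisimpleConj Cfsg.Agent.Lib.Helper15.NilpotentConj
  Cfsg.Agent.Lib.Helper15.UniDecomp

universe u

section semisimple

variable {F : Type*} [Field F] {V : Type*} [AddCommGroup V] [Module F V]

theorem exists_invariant_compl (f : V →ₗ[F] V) (r : ℕ) (hr0 : (r : F) ≠ 0) (c : F)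
    (hc0 : c ≠ 0) (hfc : f ^ r = c • 1) (U : Submodule F V) (hU : ∀ v ∈ U, f v ∈ U) :
    ∃ W : Submodule F V, IsCompl U W ∧ ∀ v ∈ W, f v ∈ W := by
  have hss : Module.End.IsSemisimple f := by
    apply Module.End.isSemisimple_of_squarefree_aeval_eq_zero
      (separable_X_pow_sub_C c hr0 hc0).squarefree
    rw [map_sub, map_pow, aeval_X, aeval_C, hfc, Algebra.algebraMap_eq_smul_one, sub_self]
  obtain ⟨W, hW, hc⟩ := Module.End.isSemisimple_iff.1 hss U
    (by rw [Module.End.mem_invtSubmodule]; exact fun v hv => hU v hv)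
  exact ⟨W, hc, fun v hv => ((Module.End.mem_invtSubmodule f).1 hW) hv⟩

end semisimple

section parttwo

theorem part_two_of (n m : ℕ) (hmn : m ≤ n) (h : Odd n ∨ Even m) (μ : Multiset ℕ)
    (hμ : ∀ a ∈ μ, 0 < a ∧ a ≤ 2) (hsum : μ.sum = n) :
    ∃ ν : Multiset ℕ, ν ≤ μ ∧ ν.sum = m := by
  classical
  have hdecomp : μ = Multiset.replicate (μ.count 2) 2 + Multiset.replicate (μ.count 1) 1 := by
    ext x
    rw [Multiset.count_add, Multiset.count_replicate, Multiset.count_replicate]
    by_cases h2 : x = 2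
    · subst h2; simp
    · by_cases h1 : x = 1
      · subst h1; simp
      · rw [if_neg (Ne.symm h2), if_neg (Ne.symm h1)]
        apply Multiset.count_eq_zero_of_notMem
        intro hx
        have := hμ x hx
        omega
  set a := μ.count 2 with ha
  set b := μ.count 1 with hb
  have hn : n = 2 * a + b := by
    rw [← hsum, hdecomp, Multiset.sum_add, Multiset.sum_replicate, Multiset.sum_replicate]
    simp [mul_comm]
  have key : ∃ i j, i ≤ a ∧ j ≤ b ∧ 2 * i + j = m := by
    by_cases hk : m / 2 ≤ a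
    · refine ⟨m / 2, m % 2, hk, ?_, by omega⟩
      rcases h with h | h
      · have : n % 2 = 1 := Nat.odd_iff.1 h
        omega
      · have : m % 2 = 0 := Nat.even_iff.1 h
        omega
    · exact ⟨a, m - 2 * a, le_rfl, by omega, by omega⟩
  obtain ⟨i, j, hi, hj, hij⟩ := key
  refine ⟨Multiset.replicate i 2 + Multiset.replicate j 1, ?_, ?_⟩
  · rw [hdecomp]
    exact add_le_add ((Multiset.replicate_le_replicate 2).2 hi)
      ((Multiset.replicate_le_replicate 1).2 hj)
  · rw [Multiset.sum_add, Multiset.sum_replicate, Multiset.sum_replicate]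
    simp only [smul_eq_mul]
    omega

theorem part_two_only (n m : ℕ)
    (H : ∀ μ : Multiset ℕ, (∀ a ∈ μ, 0 < a ∧ a ≤ 2) → μ.sum = n →
      ∃ ν : Multiset ℕ, ν ≤ μ ∧ ν.sum = m) : Odd n ∨ Even m := by
  by_contra hcon
  rw [not_or, Nat.not_odd_iff_even, Nat.not_even_iff_odd] at hcon
  obtain ⟨hn, hm⟩ := hcon
  obtain ⟨k, hk⟩ := hn
  obtain ⟨ν, hν, hνm⟩ := H (Multiset.replicate k 2)
    (fun a ha => by rw [Multiset.eq_of_mem_replicate ha]; omega)
    (by rw [Multiset.sum_replicate]; simp; omega)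
  have h2 : ∀ a ∈ ν, a = 2 := fun a ha => Multiset.eq_of_mem_replicate (Multiset.mem_of_le hν ha)
  have h3 : ν = Multiset.replicate (Multiset.card ν) 2 := Multiset.eq_replicate_card.2 h2
  rw [h3, Multiset.sum_replicate] at hνm
  have : m % 2 = 1 := Nat.odd_iff.1 hm
  simp only [smul_eq_mul] at hνm
  omega

end parttwo

end Cfsg.Agent.Lib.Helper12.Elus
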