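import Mathlib
import Cfsg.Agent.Lib.Helper12.ElusL

set_option autoImplicit false

namespace Cfsg.Agent.Lib.Helper12.Elus

open Module Polynomial
open Cfsg.Agent.Lib.Helper15.SemisimpleConj Cfsg.Agent.Lib.Helper15.NilpotentConj
  Cfsg.Agent.Lib.Helper15.UniDecomp

universe u

section unip

variable {F : Type u} [Field F]

theorem sub_one_pow_char_end {V : Type*} [AddCommGroup V] [Module F V] (p : ℕ) [Fact p.Prime]
    [CharP F p] (y : End F V) : (y - 1) ^ p = y ^ p - 1 := by
  have := congrArg (aeval y) (sub_pow_char (X : F[X]) 1 (p := p))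
  rw [map_pow, map_sub, aeval_X, map_one, map_sub, map_pow, aeval_X, one_pow, map_one] at this
  exact this

theorem one_add_pow_char_end {V : Type*} [AddCommGroup V] [Module F V] (p : ℕ) [Fact p.Prime]
    [CharP F p] (N : End F V) : (1 + N) ^ p = 1 + N ^ p := by
  have := congrArg (aeval N) (add_pow_char (1 : F[X]) X (p := p))
  simp only [map_pow, map_add, aeval_X, map_one, one_pow] at this
  exact this

variable {V : Type u} [AddCommGroup V] [Module F V] [FiniteDimensional F V]

theorem unip_fwd {p : ℕ} [Fact p.Prime] [CharP F p] (f : End F V) (d : F) (hd0 : d ≠ 0)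
    (hfd : f ^ p = d ^ p • 1) (m : ℕ) (hm : m ≤ finrank F V)
    (hpart : ∀ μ : Multiset ℕ, (∀ a ∈ μ, 0 < a ∧ a ≤ p) → μ.sum = finrank F V →
      ∃ ν : Multiset ℕ, ν ≤ μ ∧ ν.sum = m) :
    ∃ U W : Submodule F V, IsCompl U W ∧ finrank F U = m ∧ (∀ v ∈ U, f v ∈ U) ∧
      (∀ v ∈ W, f v ∈ W) := by
  set y : End F V := d⁻¹ • f with hy
  have hyp : y ^ p = 1 := by
    rw [hy, _root_.smul_pow, hfd, smul_smul, inv_pow, inv_mul_cancel₀ (pow_ne_zero _ hd0),
      one_smul]
  set N : End F V := y - 1 with hN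
  have hNp : N ^ p = 0 := by rw [hN, sub_one_pow_char_end, hyp, sub_self]
  have hNil : IsNilpotent N := ⟨p, hNp⟩
  obtain ⟨μ, hμ1, hμ2, hμ3⟩ := exists_type (finrank F V) V N rfl hNil
  have hμk : ∀ k, kap N k = kapm μ k := hμ3
  have hμp : ∀ a ∈ μ, a ≤ p := by
    rw [← kapm_eq_sum_iff, ← hμk, hμ2, ← pow_eq_zero_iff_kap]
    exact hNp
  obtain ⟨ν, hν, hνm⟩ := hpart μ (fun a ha => ⟨hμ1 a ha, hμp a ha⟩) hμ2
  set ν' := μ - ν with hν'
  have hsplit : μ = ν + ν' := (add_tsub_cancel_of_le hν).symm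
  have hν'sum : ν'.sum = finrank F V - m := by
    have : μ.sum = ν.sum + ν'.sum := by rw [hsplit, Multiset.sum_add]
    omega
  obtain ⟨A₁, -, hA₁⟩ := exists_matrix_of_type (F := F) ν hνm
  obtain ⟨A₂, -, hA₂⟩ := exists_matrix_of_type (F := F) ν' hν'sum
  set T : End F ((Fin m → F) × (Fin (finrank F V - m) → F)) :=
    (Matrix.toLin' A₁).prodMap (Matrix.toLin' A₂) with hT
  have hTk : ∀ k, kap T k = kapm μ k := by
    intro k
    rw [hT, kap_prodMap]
    have h1 : kap (Matrix.toLin' A₁) k = kapm ν k := hA₁ k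
    have h2 : kap (Matrix.toLin' A₂) k = kapm ν' k := hA₂ k
    rw [h1, h2, hsplit]
    unfold kapm
    rw [Multiset.map_add, Multiset.sum_add]
  have hdimT : finrank F ((Fin m → F) × (Fin (finrank F V - m) → F)) = finrank F V := by
    rw [Module.finrank_prod, Module.finrank_fin_fun, Module.finrank_fin_fun]
    omega
  have hTnil : IsNilpotent T := by
    refine ⟨p, ?_⟩
    rw [pow_eq_zero_iff_kap, hTk, hdimT, ← hμ2, kapm_eq_sum_iff]
    exact hμp
  obtain ⟨e, he⟩ := conj_of_kap_eq (finrank F V) V _ N T rfl hdimT hNil hTnil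
    (fun k => by rw [hμk, hTk])
  -- the two summands
  set U : Submodule F V :=
    (LinearMap.range (LinearMap.inl F (Fin m → F) (Fin (finrank F V - m) → F))).map
      (e.symm : _ →ₗ[F] V) with hU
  set W : Submodule F V :=
    (LinearMap.range (LinearMap.inr F (Fin m → F) (Fin (finrank F V - m) → F))).map
      (e.symm : _ →ₗ[F] V) with hW
  have hcompl : IsCompl U W :=
    (Submodule.orderIsoMapComap e.symm).isCompl LinearMap.isCompl_range_inl_inr
  have hUdim : finrank F U = m := by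
    rw [hU, LinearEquiv.finrank_map_eq, LinearMap.finrank_range_of_inj LinearMap.inl_injective,
      Module.finrank_fin_fun]
  have hNe : ∀ x, N (e.symm x) = e.symm (T x) := by
    intro x
    apply e.injective
    rw [he, e.apply_symm_apply, e.apply_symm_apply]
  have hUN : ∀ v ∈ U, N v ∈ U := by
    rintro _ ⟨_, ⟨a, rfl⟩, rfl⟩
    refine ⟨T (LinearMap.inl F _ _ a), ⟨Matrix.toLin' A₁ a, ?_⟩, (hNe _).symm⟩
    rw [hT]
    simp
  have hWN : ∀ v ∈ W, N v ∈ W := by
    rintro _ ⟨_, ⟨a, rfl⟩, rfl⟩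
    refine ⟨T (LinearMap.inr F _ _ a), ⟨Matrix.toLin' A₂ a, ?_⟩, (hNe _).symm⟩
    rw [hT]
    simp
  have hfN : ∀ v, f v = d • (v + N v) := by
    intro v
    rw [hN, hy, LinearMap.sub_apply, Module.End.one_apply, LinearMap.smul_apply]
    rw [add_sub_cancel, smul_smul, mul_inv_cancel₀ hd0, one_smul]
  refine ⟨U, W, hcompl, hUdim, ?_, ?_⟩
  · intro v hv
    rw [hfN]
    exact Submodule.smul_mem _ _ (Submodule.add_mem _ hv (hUN v hv))
  · intro v hv
    rw [hfN]
    exact Submodule.smul_mem _ _ (Submodule.add_mem _ hv (hWN v hv))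

end unip


section unip2

variable {F : Type u} [Field F]

theorem eq_one_of_pow_char_eq_one (p : ℕ) [Fact p.Prime] [CharP F p] (δ : F) (h : δ ^ p = 1) :
    δ = 1 := by
  have h1 : (δ - 1) ^ p = 0 := by rw [sub_pow_char, h, one_pow, sub_self]
  exact sub_eq_zero.1 (eq_zero_of_pow_eq_zero h1)

theorem unip_bwd {p : ℕ} [Fact p.Prime] [CharP F p] (n m : ℕ) (hm : m ≤ n)
    (H : ∀ f : (Fin n → F) →ₗ[F] (Fin n → F), LinearMap.det f = 1 →
      (∃ c : F, f ^ p = c • 1) → (∀ c : F, f ≠ c • 1) →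
      ∃ U W : Submodule F (Fin n → F), IsCompl U W ∧ finrank F U = m ∧ (∀ v ∈ U, f v ∈ U) ∧
        (∀ v ∈ W, f v ∈ W))
    (μ : Multiset ℕ) (hμ : ∀ a ∈ μ, 0 < a ∧ a ≤ p) (hsum : μ.sum = n) :
    ∃ ν : Multiset ℕ, ν ≤ μ ∧ ν.sum = m := by
  have hfin : finrank F (Fin n → F) = n := Module.finrank_fin_fun F
  have hμ1 : ∀ a ∈ μ, 1 ≤ a := fun a ha => (hμ a ha).1
  obtain ⟨A, hAnil, hA⟩ := exists_matrix_of_type (F := F) μ hsum
  set N : End F (Fin n → F) := Matrix.toLin' A with hN
  have hk : ∀ s, kap N s = kapm μ s := hA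
  have hNil : IsNilpotent N := isNilpotent_toLin' A hAnil
  have hNp : N ^ p = 0 := by
    rw [pow_eq_zero_iff_kap, hk, hfin, ← hsum, kapm_eq_sum_iff]
    exact fun a ha => (hμ a ha).2
  by_cases hN0 : N = 0
  · -- all parts are one
    have h1 : kap N 1 = n := by
      have := (pow_eq_zero_iff_kap N 1).1 (by rw [pow_one, hN0])
      rw [this, hfin]
    rw [hk, kapm_one μ hμ1] at h1
    have h2 := eq_replicate_of_card_eq_sum μ hμ1 (by rw [h1, hsum])
    rw [h1] at h2
    refine ⟨Multiset.replicate m 1, ?_, by simp⟩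
    rw [h2]
    exact (Multiset.replicate_le_replicate 1).2 hm
  · have hnpos : 0 < n := by
      by_contra h0
      have hn0 : n = 0 := by omega
      apply hN0
      apply LinearMap.ext
      intro v
      subst hn0
      exact Subsingleton.elim _ _
    set y : End F (Fin n → F) := 1 + N with hy
    have hyp : y ^ p = 1 := by rw [hy, one_add_pow_char_end, hNp, add_zero]
    have hdet : LinearMap.det y = 1 :=
      eq_one_of_pow_char_eq_one p _ (by rw [← map_pow, hyp, map_one])
    have hns : ∀ c : F, y ≠ c • 1 := by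
      intro c hc
      have h1 : N = (c - 1) • 1 := by
        have h0 : N = y - 1 := by rw [hy]; abel
        rw [h0, hc]
        module
      have h2 : (c - 1) ^ p • (1 : End F (Fin n → F)) = (0 : F) • 1 := by
        rw [zero_smul, ← hNp, h1, _root_.smul_pow, one_pow]
      have h3 : (c - 1) ^ p = 0 := smul_one_inj (by rw [hfin]; exact hnpos) _ _ h2
      have h4 : c - 1 = 0 := eq_zero_of_pow_eq_zero h3
      apply hN0
      rw [h1, h4, zero_smul]
    obtain ⟨U, W, hc, hUm, hU, hW⟩ := H y hdet ⟨1, by rw [hyp, one_smul]⟩ hns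
    have hUN : U ∈ N.invtSubmodule := by
      rw [Module.End.mem_invtSubmodule]
      intro v hv
      have h1 : N v = y v - v := by
        rw [hy, LinearMap.add_apply, Module.End.one_apply]
        abel
      show N v ∈ U
      rw [h1]
      exact Submodule.sub_mem _ (hU v hv) hv
    have hWN : W ∈ N.invtSubmodule := by
      rw [Module.End.mem_invtSubmodule]
      intro v hv
      have h1 : N v = y v - v := by
        rw [hy, LinearMap.add_apply, Module.End.one_apply]
        abel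
      show N v ∈ W
      rw [h1]
      exact Submodule.sub_mem _ (hW v hv) hv
    obtain ⟨ν, hν, hνsum, -, -⟩ := type_le_of_isCompl N hNil μ hμ1 hk U W hUN hWN hc
    exact ⟨ν, hν, by rw [hνsum, hUm]⟩

end unip2

end Cfsg.Agent.Lib.Helper12.Elus
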