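import Mathlib
import Cfsg.Agent.Lib.Helper12.ElusH

set_option autoImplicit false

namespace Cfsg.Agent.Lib.Helper12.Elus

open Module

section dec

variable {F V : Type*} [Field F] [AddCommGroup V] [Module F V]

theorem iSupIndep_sum_elim {ι₁ ι₂ : Type*} (D₁ : ι₁ → Submodule F V) (D₂ : ι₂ → Submodule F V)
    (h₁ : iSupIndep D₁) (h₂ : iSupIndep D₂) (hd : Disjoint (iSup D₁) (iSup D₂)) :
    iSupIndep (Sum.elim D₁ D₂) := by
  intro x
  rcases x with i | i
  · have hle : (⨆ (j) (_ : j ≠ (Sum.inl i : ι₁ ⊕ ι₂)), Sum.elim D₁ D₂ j) ≤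
        (⨆ (j) (_ : j ≠ i), D₁ j) ⊔ iSup D₂ := by
      refine iSup_le fun j => iSup_le fun hj => ?_
      rcases j with j | j
      · have hji : j ≠ i := fun h => hj (by rw [h])
        exact le_sup_of_le_left (le_iSup₂ (f := fun j (_ : j ≠ i) => D₁ j) j hji)
      · exact le_sup_of_le_right (le_iSup D₂ j)
    refine Disjoint.mono_right hle ?_
    apply Disjoint.disjoint_sup_right_of_disjoint_sup_left (h₁ i)
    refine Disjoint.mono_left ?_ hd
    exact sup_le (le_iSup D₁ i) (iSup₂_le fun j _ => le_iSup D₁ j)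
  · have hle : (⨆ (j) (_ : j ≠ (Sum.inr i : ι₁ ⊕ ι₂)), Sum.elim D₁ D₂ j) ≤
        (⨆ (j) (_ : j ≠ i), D₂ j) ⊔ iSup D₁ := by
      refine iSup_le fun j => iSup_le fun hj => ?_
      rcases j with j | j
      · exact le_sup_of_le_right (le_iSup D₁ j)
      · have hji : j ≠ i := fun h => hj (by rw [h])
        exact le_sup_of_le_left (le_iSup₂ (f := fun j (_ : j ≠ i) => D₂ j) j hji)
    refine Disjoint.mono_right hle ?_
    apply Disjoint.disjoint_sup_right_of_disjoint_sup_left (h₂ i)
    refine Disjoint.mono_left ?_ hd.symm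
    exact sup_le (le_iSup D₂ i) (iSup₂_le fun j _ => le_iSup D₂ j)

/-- `V'` is an independent sum of `k` subspaces of dimension `a`, permuted by `f` -/
def HasDec (f : V →ₗ[F] V) (a : ℕ) (V' : Submodule F V) (k : ℕ) : Prop :=
  ∃ (ι : Type) (_ : Fintype ι) (D : ι → Submodule F V) (σ : Equiv.Perm ι),
    Fintype.card ι = k ∧ (∀ i, finrank F (D i) = a) ∧ iSupIndep D ∧ iSup D = V' ∧
    (∀ i, (D i).map f = D (σ i)) ∧ k * a = finrank F V'

theorem hasDec_bot (f : V →ₗ[F] V) (a : ℕ) : HasDec f a ⊥ 0 := by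
  refine ⟨Empty, inferInstance, fun i => i.elim, 1, rfl, fun i => i.elim, ?_, ?_,
    fun i => i.elim, by simp⟩
  · intro i; exact i.elim
  · simp

theorem HasDec.sup [FiniteDimensional F V] {f : V →ₗ[F] V} {a : ℕ} {V₁ V₂ : Submodule F V}
    {k₁ k₂ : ℕ} (h₁ : HasDec f a V₁ k₁) (h₂ : HasDec f a V₂ k₂) (hd : Disjoint V₁ V₂) :
    HasDec f a (V₁ ⊔ V₂) (k₁ + k₂) := by
  obtain ⟨ι₁, _, D₁, σ₁, hc₁, hf₁, hi₁, hs₁, hm₁, hk₁⟩ := h₁
  obtain ⟨ι₂, _, D₂, σ₂, hc₂, hf₂, hi₂, hs₂, hm₂, hk₂⟩ := h₂
  refine ⟨ι₁ ⊕ ι₂, inferInstance, Sum.elim D₁ D₂, Equiv.sumCongr σ₁ σ₂, ?_, ?_, ?_, ?_, ?_, ?_⟩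
  · rw [Fintype.card_sum, hc₁, hc₂]
  · rintro (i | i)
    · exact hf₁ i
    · exact hf₂ i
  · exact iSupIndep_sum_elim D₁ D₂ hi₁ hi₂ (by rw [hs₁, hs₂]; exact hd)
  · rw [iSup_sum]
    simp only [Sum.elim_inl, Sum.elim_inr]
    rw [hs₁, hs₂]
  · rintro (i | i)
    · exact hm₁ i
    · exact hm₂ i
  · have := Submodule.finrank_sup_add_finrank_inf_eq V₁ V₂
    rw [hd.eq_bot, finrank_bot, add_zero] at this
    rw [this, add_mul, hk₁, hk₂]

theorem hasDec_single (f : V →ₗ[F] V) (a : ℕ) (U : Submodule F V) (hU : U.map f = U)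
    (hdim : finrank F U = a) : HasDec f a U 1 := by
  refine ⟨Unit, inferInstance, fun _ => U, 1, rfl, fun _ => hdim, ?_, ?_, fun _ => hU,
    by rw [one_mul, hdim]⟩
  · intro i
    have : (⨆ (j : Unit) (_ : j ≠ i), U) = ⊥ := by
      rw [eq_bot_iff]
      refine iSup₂_le fun j hj => ?_
      exact absurd (Subsingleton.elim j i) hj
    rw [this]
    exact disjoint_bot_right
  · exact ciSup_const

theorem map_eq_of_invariant [FiniteDimensional F V] (f : V →ₗ[F] V) (hinj : Function.Injective f)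
    (U : Submodule F V) (hU : ∀ v ∈ U, f v ∈ U) : U.map f = U := by
  apply Submodule.eq_of_le_of_finrank_eq
  · rintro _ ⟨v, hv, rfl⟩
    exact hU v hv
  · exact (Submodule.equivMapOfInjective f hinj U).symm.finrank_eq

/-- conversion to a family indexed by `Fin k` -/
theorem HasDec.exists_fin {f : V →ₗ[F] V} {a : ℕ} {V' : Submodule F V} {k : ℕ}
    (h : HasDec f a V' k) :
    ∃ (D : Fin k → Submodule F V) (σ : Equiv.Perm (Fin k)), (∀ i, finrank F (D i) = a) ∧
      iSupIndep D ∧ iSup D = V' ∧ ∀ i, (D i).map f = D (σ i) := by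
  obtain ⟨ι, _, D, σ, hc, hf, hi, hs, hm, -⟩ := h
  let e : Fin k ≃ ι := (Fintype.equivFinOfCardEq hc).symm
  refine ⟨D ∘ e, (e.trans σ).trans e.symm, fun i => hf _, hi.comp e.injective, ?_, ?_⟩
  · rw [← hs]
    exact e.iSup_comp (g := D)
  · intro i
    simp only [Function.comp_apply, Equiv.trans_apply, Equiv.apply_symm_apply]
    exact hm _

end dec

section dec2

variable {F V : Type*} [Field F] [AddCommGroup V] [Module F V]

theorem finrank_biSup_of_iSupIndep [FiniteDimensional F V] {ι : Type*} [DecidableEq ι]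
    (D : ι → Submodule F V) (h : iSupIndep D) (s : Finset ι) :
    finrank F ↥(⨆ i ∈ s, D i) = ∑ i ∈ s, finrank F (D i) := by
  induction s using Finset.induction_on with
  | empty => simp
  | insert a s ha ih =>
    rw [Finset.iSup_insert, Finset.sum_insert ha, ← ih]
    have hd : Disjoint (D a) (⨆ i ∈ s, D i) := h.disjoint_biSup ha
    have := Submodule.finrank_sup_add_finrank_inf_eq (D a) (⨆ i ∈ s, D i)
    rw [hd.eq_bot, finrank_bot, add_zero] at this
    exact this

theorem finrank_iSup_of_iSupIndep [FiniteDimensional F V] {ι : Type*} [Fintype ι]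
    (D : ι → Submodule F V) (h : iSupIndep D) :
    finrank F ↥(⨆ i, D i) = ∑ i, finrank F (D i) := by
  classical
  have := finrank_biSup_of_iSupIndep D h Finset.univ
  have h2 : (⨆ i ∈ (Finset.univ : Finset ι), D i) = ⨆ i, D i := by
    simp
  rw [h2] at this
  exact this

theorem HasDec.smul {f : V →ₗ[F] V} {a : ℕ} {V' : Submodule F V} {k : ℕ}
    (h : HasDec f a V' k) (d : F) (hd : d ≠ 0) : HasDec (d • f) a V' k := by
  obtain ⟨ι, _, D, σ, hc, hf, hi, hs, hm, hk⟩ := h
  refine ⟨ι, inferInstance, D, σ, hc, hf, hi, hs, ?_, hk⟩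
  intro i
  rw [← hm i]
  ext v
  constructor
  · rintro ⟨w, hw, rfl⟩
    exact ⟨d • w, Submodule.smul_mem _ _ hw, by simp⟩
  · rintro ⟨w, hw, rfl⟩
    refine ⟨d⁻¹ • w, Submodule.smul_mem _ _ hw, ?_⟩
    rw [LinearMap.smul_apply, map_smul, smul_smul, mul_inv_cancel₀ hd, one_smul]

theorem HasDec.map_subtype {f : V →ₗ[F] V} {a : ℕ} (W : Submodule F V)
    (hW : ∀ v ∈ W, f v ∈ W) {k : ℕ} (h : HasDec (f.restrict hW) a ⊤ k) : HasDec f a W k := by
  obtain ⟨ι, _, D, σ, hc, hf, hi, hs, hm, hk⟩ := h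
  refine ⟨ι, inferInstance, fun i => (D i).map W.subtype, σ, hc, ?_, ?_, ?_, ?_, ?_⟩
  · intro i
    rw [← hf i]
    exact (Submodule.equivSubtypeMap W (D i)).symm.finrank_eq
  · exact LinearMap.iSupIndep_map W.subtype W.injective_subtype hi
  · rw [← Submodule.map_iSup, hs, Submodule.map_top, Submodule.range_subtype]
  · intro i
    show Submodule.map f (Submodule.map W.subtype (D i)) = Submodule.map W.subtype (D (σ i))
    rw [← hm i, ← Submodule.map_comp, ← Submodule.map_comp]
    congr 1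
  · rw [hk, finrank_top]

end dec2

universe u v

theorem hasDec_induct {F : Type u} [Field F] (a : ℕ)
    (C : ∀ (V : Type v) [AddCommGroup V] [Module F V], (V →ₗ[F] V) → Prop)
    (hstep : ∀ (V : Type v) [AddCommGroup V] [Module F V] [FiniteDimensional F V]
      (f : V →ₗ[F] V), C V f → 0 < finrank F V →
      ∃ (U W : Submodule F V) (hW : ∀ v ∈ W, f v ∈ W) (j : ℕ), IsCompl U W ∧
        0 < finrank F U ∧ HasDec f a U j ∧ C W (f.restrict hW)) :
    ∀ (m : ℕ) (V : Type v) [AddCommGroup V] [Module F V] [FiniteDimensional F V]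
      (f : V →ₗ[F] V), finrank F V = m → C V f → ∃ k, HasDec f a ⊤ k := by
  intro m
  induction m using Nat.strong_induction_on with
  | _ m ih =>
    intro V _ _ _ f hm hC
    rcases Nat.eq_zero_or_pos m with h0 | hpos
    · refine ⟨0, ?_⟩
      rw [h0] at hm
      haveI : Subsingleton V := Module.finrank_zero_iff.1 hm
      have : (⊤ : Submodule F V) = ⊥ := Subsingleton.elim _ _
      rw [this]
      exact hasDec_bot f a
    · obtain ⟨U, W, hW, j, hUW, hUpos, hU, hCW⟩ := hstep V f hC (by rw [hm]; exact hpos)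
      have hsum := Submodule.finrank_add_eq_of_isCompl hUW
      obtain ⟨k, hk⟩ := ih (finrank F W) (by omega) W (f.restrict hW) rfl hCW
      have hk' := HasDec.map_subtype W hW hk
      have := HasDec.sup hU hk' hUW.disjoint
      rw [hUW.sup_eq_top] at this
      exact ⟨j + k, this⟩

section basis

variable {F V : Type*} [Field F] [AddCommGroup V] [Module F V]

theorem iSupIndep_span_prod {ι κ : Type*} (b : ι × κ → V) (hb : LinearIndependent F b) :
    iSupIndep (fun i : ι => Submodule.span F (Set.range fun j : κ => b (i, j))) := by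
  rw [iSupIndep_def]
  intro c
  have h0 : ∀ i : ι, Submodule.span F (Set.range fun j : κ => b (i, j)) =
      Submodule.span F (b '' {p | p.1 = i}) := by
    intro i
    congr 1
    ext x
    constructor
    · rintro ⟨j, rfl⟩
      exact ⟨(i, j), rfl, rfl⟩
    · rintro ⟨⟨i', j⟩, hp, rfl⟩
      have : i' = i := hp
      subst this
      exact ⟨j, rfl⟩
  have h1 : (⨆ j, ⨆ (_ : j ≠ c), Submodule.span F (Set.range fun k : κ => b (j, k)))
      ≤ Submodule.span F (b '' {p | p.1 ≠ c}) := by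
    refine iSup_le fun j => iSup_le fun hj => ?_
    rw [h0 j]
    refine Submodule.span_mono (Set.image_mono ?_)
    intro p hp
    have : p.1 = j := hp
    show p.1 ≠ c
    rw [this]
    exact hj
  rw [h0 c]
  refine (hb.disjoint_span_image ?_).mono_right h1
  rw [Set.disjoint_left]
  intro p hp hp'
  exact hp' hp

/-- a linearly independent family indexed by `ι × κ` whose rows are permuted by `f` -/
theorem hasDec_of_basis [FiniteDimensional F V] (f : V →ₗ[F] V) {ι κ : Type} [Fintype ι]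
    [Fintype κ] (b : ι × κ → V) (hb : LinearIndependent F b) (σ : Equiv.Perm ι)
    (hf : ∀ i, (Submodule.span F (Set.range fun j : κ => b (i, j))).map f =
      Submodule.span F (Set.range fun j : κ => b (σ i, j))) :
    HasDec f (Fintype.card κ) (Submodule.span F (Set.range b)) (Fintype.card ι) := by
  have hfin : ∀ i : ι, finrank F (Submodule.span F (Set.range fun j : κ => b (i, j))) =
      Fintype.card κ := by
    intro i
    apply finrank_span_eq_card
    exact hb.comp (fun j : κ => (i, j)) (fun j j' h => (Prod.mk.inj h).2)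
  have hind := iSupIndep_span_prod b hb
  have hsup : (⨆ i : ι, Submodule.span F (Set.range fun j : κ => b (i, j))) =
      Submodule.span F (Set.range b) := by
    apply le_antisymm
    · refine iSup_le fun i => Submodule.span_mono ?_
      rintro _ ⟨j, rfl⟩
      exact ⟨(i, j), rfl⟩
    · rw [Submodule.span_le]
      rintro _ ⟨⟨i, j⟩, rfl⟩
      exact (le_iSup (fun i : ι => Submodule.span F (Set.range fun j : κ => b (i, j))) i)
        (Submodule.subset_span ⟨j, rfl⟩)
  refine ⟨ι, inferInstance, fun i => Submodule.span F (Set.range fun j : κ => b (i, j)), σ, rfl,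
    hfin, hind, hsup, hf, ?_⟩
  rw [← hsup, finrank_iSup_of_iSupIndep _ hind]
  simp only [hfin, Finset.sum_const, Finset.card_univ, smul_eq_mul]

end basis


end Cfsg.Agent.Lib.Helper12.Elus
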