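import Mathlib
import Cfsg.Agent.Lib.Helper12.DecA
import Cfsg.Agent.Lib.Helper12.ElusL

set_option autoImplicit false

namespace Cfsg.Agent.Lib.Helper12.Elus

open Module

section cycle

variable {F V : Type*} [Field F] [AddCommGroup V] [Module F V]

theorem hasDec_cycle [FiniteDimensional F V] (f : V →ₗ[F] V) (r : ℕ) (hr : 0 < r) (z : F)
    (hz : z ≠ 0) (hf : f ^ r = z • 1) {κ : Type} [Fintype κ] (v : κ → V)
    (hli : LinearIndependent F (fun p : Fin r × κ => (f ^ (p.1 : ℕ)) (v p.2))) :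
    HasDec f (Fintype.card κ)
      (Submodule.span F (Set.range fun p : Fin r × κ => (f ^ (p.1 : ℕ)) (v p.2))) r := by
  obtain ⟨r₀, rfl⟩ := Nat.exists_eq_succ_of_ne_zero hr.ne'
  have := hasDec_of_basis f (fun p : Fin (r₀ + 1) × κ => (f ^ (p.1 : ℕ)) (v p.2)) hli
    (finRotate (r₀ + 1)) ?_
  · rwa [Fintype.card_fin] at this
  · intro i
    rw [Submodule.map_span, ← Set.range_comp]
    by_cases hi : i = Fin.last r₀
    · have h0 : ((finRotate (r₀ + 1) i : Fin (r₀ + 1)) : ℕ) = 0 := by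
        rw [coe_finRotate, if_pos hi]
      have h1 : (f ∘ fun j : κ => (f ^ ((i, j) : Fin (r₀ + 1) × κ).1.val) (v (i, j).2)) =
          fun j : κ => z • v j := by
        funext j
        show f ((f ^ (i : ℕ)) (v j)) = z • v j
        rw [← Module.End.mul_apply, ← pow_succ', hi, Fin.val_last, hf, LinearMap.smul_apply,
          Module.End.one_apply]
      have h2 : (fun j : κ => (f ^ ((finRotate (r₀ + 1) i, j) : Fin (r₀ + 1) × κ).1.val)
          (v (finRotate (r₀ + 1) i, j).2)) = fun j : κ => v j := by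
        funext j
        show (f ^ ((finRotate (r₀ + 1) i : Fin (r₀ + 1)) : ℕ)) (v j) = v j
        rw [h0, pow_zero, Module.End.one_apply]
      rw [h1, h2, ← Set.smul_set_range]
      exact Submodule.span_smul_eq_of_isUnit _ z (isUnit_iff_ne_zero.2 hz)
    · have h0 : ((finRotate (r₀ + 1) i : Fin (r₀ + 1)) : ℕ) = i + 1 :=
        coe_finRotate_of_ne_last hi
      congr 2
      funext j
      show f ((f ^ (i : ℕ)) (v j)) = (f ^ ((finRotate (r₀ + 1) i : Fin (r₀ + 1)) : ℕ)) (v j)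
      rw [h0, ← Module.End.mul_apply, ← pow_succ']

end cycle

section fixedblocks

universe u v

theorem injective_of_pow_eq_smul {F : Type*} {V : Type*} [Field F] [AddCommGroup V] [Module F V]
    (f : V →ₗ[F] V) (r : ℕ) (hr : 0 < r) (z : F) (hz : z ≠ 0) (hf : f ^ r = z • 1) :
    Function.Injective f := by
  rw [← LinearMap.ker_eq_bot, eq_bot_iff]
  intro v hv
  rw [LinearMap.mem_ker] at hv
  rw [Submodule.mem_bot]
  have h1 : (f ^ r) v = 0 := by
    obtain ⟨r₀, rfl⟩ := Nat.exists_eq_succ_of_ne_zero hr.ne'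
    rw [pow_succ, Module.End.mul_apply, hv, map_zero]
  rw [hf, LinearMap.smul_apply, Module.End.one_apply] at h1
  exact (smul_eq_zero.1 h1).resolve_left hz

theorem hasDec_fixed {F : Type u} [Field F] (a : ℕ) (ha : 0 < a) (r' : ℕ)
    (hr0 : (r' : F) ≠ 0) (z : F) (hz : z ≠ 0) (Q : ℕ → Prop) (hQ : ∀ k, Q (k + 1) → Q k)
    (hex : ∀ (V : Type v) [AddCommGroup V] [Module F V] [FiniteDimensional F V]
      (f : V →ₗ[F] V), f ^ r' = z • 1 → ∀ k, Q (k + 1) → finrank F V = a * (k + 1) →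
      ∃ U : Submodule F V, (∀ v ∈ U, f v ∈ U) ∧ finrank F U = a)
    (V : Type v) [AddCommGroup V] [Module F V] [FiniteDimensional F V] (f : V →ₗ[F] V)
    (hf : f ^ r' = z • 1) (k : ℕ) (hk : Q k) (hdim : finrank F V = a * k) : HasDec f a ⊤ k := by
  have hr'pos : 0 < r' := by
    rcases Nat.eq_zero_or_pos r' with h | h
    · rw [h, Nat.cast_zero] at hr0
      exact absurd rfl hr0
    · exact h
  have key : ∃ k₁, HasDec f a ⊤ k₁ := by
    refine hasDec_induct (F := F) a
      (fun V _ _ f => f ^ r' = z • 1 ∧ ∃ k, Q k ∧ finrank F V = a * k) ?_ (finrank F V) V f rfl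
      ⟨hf, k, hk, hdim⟩
    intro V _ _ _ f hC hpos
    obtain ⟨hf, k, hk, hdim⟩ := hC
    obtain ⟨k', rfl⟩ : ∃ k', k = k' + 1 := by
      rcases Nat.eq_zero_or_pos k with h | h
      · rw [h, mul_zero] at hdim
        omega
      · exact ⟨k - 1, by omega⟩
    obtain ⟨U, hU, hUa⟩ := hex V f hf k' hk hdim
    obtain ⟨W, hUW, hW⟩ := exists_invariant_compl f r' hr0 z hz hf U hU
    have hinj := injective_of_pow_eq_smul f r' hr'pos z hz hf
    refine ⟨U, W, hW, 1, hUW, by omega, hasDec_single f a U (map_eq_of_invariant f hinj U hU) hUa,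
      restrict_pow_eq f W hW r' z hf, k', hQ k' hk, ?_⟩
    have hsum := Submodule.finrank_add_eq_of_isCompl hUW
    rw [hdim, hUa, mul_add, mul_one] at hsum
    omega
  obtain ⟨k₁, hk₁⟩ := key
  have h1 : k₁ = k := by
    obtain ⟨_, _, _, _, _, _, _, _, _, h⟩ := hk₁
    rw [finrank_top, hdim, mul_comm] at h
    exact Nat.eq_of_mul_eq_mul_left ha h
  rw [← h1]
  exact hk₁

end fixedblocks

end Cfsg.Agent.Lib.Helper12.Elus
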