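import Mathlib
import Cfsg.Agent.Lib.Helper12.DecB

set_option autoImplicit false

namespace Cfsg.Agent.Lib.Helper12.Elus

open Module

section cases

universe u v

theorem HasDec.map_eq {F V : Type*} [Field F] [AddCommGroup V] [Module F V]
    {f : V →ₗ[F] V} {a : ℕ} {V' : Submodule F V} {k : ℕ}
    (h : HasDec f a V' k) : V'.map f = V' := by
  obtain ⟨ι, _, D, σ, -, -, -, hs, hm, -⟩ := h
  rw [← hs, Submodule.map_iSup]
  simp_rw [hm]
  exact σ.iSup_comp (g := D)

theorem hasDec_split {F : Type u} [Field F] [Fintype F] (a : ℕ) (ha : 0 < a)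
    (V : Type v) [AddCommGroup V] [Module F V] [FiniteDimensional F V] (f : V →ₗ[F] V)
    (hf : f ^ (Fintype.card F - 1) = 1) (k : ℕ) (hdim : finrank F V = a * k) :
    HasDec f a ⊤ k := by
  have hq : 1 ≤ Fintype.card F := Fintype.card_pos
  have hr0 : ((Fintype.card F - 1 : ℕ) : F) ≠ 0 := by
    rw [Nat.cast_sub hq, FiniteField.cast_card_eq_zero, Nat.cast_one, zero_sub]
    exact neg_ne_zero.2 one_ne_zero
  refine hasDec_fixed (F := F) a ha (Fintype.card F - 1) hr0 1 one_ne_zero (fun _ => True)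
    (fun _ _ => trivial) ?_ V f (by rw [hf, one_smul]) k trivial hdim
  intro V _ _ _ f hf k _ hdim
  have h2 : f ^ Fintype.card F = f := by
    have : Fintype.card F = (Fintype.card F - 1) + 1 := by omega
    conv_lhs => rw [this, pow_succ, hf, one_smul, one_mul]
  obtain ⟨U, hU, hUa⟩ := split_all f h2 a (by rw [hdim]; nlinarith)
  exact ⟨U, hU, hUa⟩

theorem hasDec_t2a {F : Type u} [Field F] (a : ℕ) (ha : 0 < a) (r : ℕ) (hr : r.Prime)
    (hr0 : (r : F) ≠ 0) (z : F) (hc : ∀ d : F, d ^ r ≠ z) (hra : r ∣ a)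
    (V : Type v) [AddCommGroup V] [Module F V] [FiniteDimensional F V] (f : V →ₗ[F] V)
    (hf : f ^ r = z • 1) (k : ℕ) (hdim : finrank F V = a * k) :
    HasDec f a ⊤ k := by
  have hz : z ≠ 0 := by
    rintro rfl
    exact hc 0 (zero_pow hr.ne_zero)
  refine hasDec_fixed (F := F) a ha r hr0 z hz (fun _ => True)
    (fun _ _ => trivial) ?_ V f hf k trivial hdim
  intro V _ _ _ f hf k _ hdim
  obtain ⟨a', rfl⟩ := hra
  obtain ⟨U, hU, hUa⟩ := t2_exists_invariant f r hr z hf hc a' (by rw [hdim]; nlinarith)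
  exact ⟨U, hU, hUa⟩

theorem hasDec_nonsplit {F : Type u} [Field F] [Fintype F] {p : ℕ} [Fact p.Prime] [CharP F p]
    (a : ℕ) (ha : 0 < a) (r : ℕ) [Fact r.Prime] (hrp : r ≠ p)
    (hrq : ¬ r ∣ Fintype.card F - 1)
    (V : Type v) [AddCommGroup V] [Module F V] [FiniteDimensional F V] (f : V →ₗ[F] V)
    (hf : f ^ r = 1) (k : ℕ)
    (hk : k * (a % orderOf (Fintype.card F : ZMod r)) < orderOf (Fintype.card F : ZMod r))
    (hdim : finrank F V = a * k) :
    HasDec f a ⊤ k := by
  have hr0 : (r : F) ≠ 0 := by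
    rw [Ne, CharP.cast_eq_zero_iff F p]
    intro hd
    exact hrp ((Nat.prime_dvd_prime_iff_eq Fact.out Fact.out).1 hd).symm
  set c := orderOf (Fintype.card F : ZMod r) with hc
  refine hasDec_fixed (F := F) a ha r hr0 1 one_ne_zero (fun k => k * (a % c) < c)
    ?_ ?_ V f (by rw [hf, one_smul]) k hk hdim
  · intro k hk
    have : k * (a % c) ≤ (k + 1) * (a % c) := Nat.mul_le_mul_right _ (by omega)
    omega
  · intro V _ _ _ f hf k hk hdim
    have hmod : a % c ≤ finrank F V % c := by
      have h1 : a * (k + 1) ≡ (a % c) * (k + 1) [MOD c] :=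
        (Nat.mod_modEq a c).symm.mul_right (k + 1)
      have h2 : (a % c) * (k + 1) % c = (a % c) * (k + 1) :=
        Nat.mod_eq_of_lt (by rw [mul_comm]; exact hk)
      rw [hdim, h1, h2]
      exact Nat.le_mul_of_pos_right _ (by omega)
    obtain ⟨U, hUa, hU⟩ := fwd_nonsplit f r hrp hrq a (by rw [hdim]; nlinarith) hmod 1
      one_ne_zero hf
    exact ⟨U, hU, hUa⟩

theorem cyc_invariant_of_pow {F V : Type*} [Field F] [AddCommGroup V] [Module F V]
    (f : V →ₗ[F] V) (r : ℕ) (hr : 0 < r) (z : F) (hf : f ^ r = z • 1) (w : V) :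
    ∀ u ∈ cyc f w r, f u ∈ cyc f w r := by
  have h := cyc_sup_invariant f w r ⊥
    (fun u hu => by rw [(Submodule.mem_bot F).1 hu, map_zero]; exact zero_mem _)
    (by
      rw [bot_sup_eq, hf, LinearMap.smul_apply, Module.End.one_apply]
      exact Submodule.smul_mem _ _ (self_mem_cyc f w r hr))
  rwa [bot_sup_eq] at h

theorem exists_cyclic_li {F : Type u} {V : Type v} [Field F] [AddCommGroup V] [Module F V]
    [FiniteDimensional F V] (f : V →ₗ[F] V) (r : ℕ) (hr : r.Prime) (z : F)
    (hf : f ^ r = z • 1) (hc : ∀ d : F, d ^ r ≠ z) (j : ℕ) (hj : r * j ≤ finrank F V) :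
    ∃ v : Fin j → V,
      LinearIndependent F (fun p : Fin r × Fin j => (f ^ (p.1 : ℕ)) (v p.2)) := by
  induction j with
  | zero => exact ⟨fun i => i.elim0, linearIndependent_empty_type⟩
  | succ j ih =>
    obtain ⟨v, hv⟩ := ih (by rw [mul_add] at hj; omega)
    set fam : Fin r × Fin j → V := fun p => (f ^ (p.1 : ℕ)) (v p.2) with hfam
    set S := Submodule.span F (Set.range fam) with hS
    have hSdim : finrank F S = r * j := by
      rw [hS, finrank_span_eq_card hv, Fintype.card_prod, Fintype.card_fin, Fintype.card_fin]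
    have hSinv : ∀ u ∈ S, f u ∈ S := by
      have hle : S.map f ≤ S := by
        rw [hS, Submodule.map_span, Submodule.span_le]
        rintro _ ⟨_, ⟨⟨i, l⟩, rfl⟩, rfl⟩
        show f ((f ^ (i : ℕ)) (v l)) ∈ Submodule.span F (Set.range fam)
        rw [← Module.End.mul_apply, ← pow_succ']
        by_cases hi : (i : ℕ) + 1 < r
        · exact Submodule.subset_span ⟨(⟨(i : ℕ) + 1, hi⟩, l), rfl⟩
        · have hi' : (i : ℕ) + 1 = r := by have := i.2; omega
          rw [hi', hf, LinearMap.smul_apply, Module.End.one_apply]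
          refine Submodule.smul_mem _ _ (Submodule.subset_span ⟨(⟨0, hr.pos⟩, l), ?_⟩)
          show (f ^ 0) (v l) = v l
          rw [pow_zero, Module.End.one_apply]
      intro u hu
      exact hle ⟨u, hu, rfl⟩
    obtain ⟨w, hw⟩ : ∃ w : V, w ∉ S := by
      by_contra hall
      push Not at hall
      have : S = ⊤ := eq_top_iff.2 fun v _ => hall v
      rw [this, finrank_top] at hSdim
      rw [mul_add] at hj
      have := hr.pos
      omega
    set Z := cyc f w r with hZ
    have hZinv := cyc_invariant_of_pow f r hr.pos z hf w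
    have hwZ : w ∈ Z := self_mem_cyc f w r hr.pos
    have hZle : finrank F Z ≤ r := finrank_cyc_le f w r
    have hinf : Z ⊓ S = ⊥ := by
      have hd : r ∣ finrank F ↥(Z ⊓ S) := t2_dvd_finrank f r hr z hf hc (Z ⊓ S)
        (fun u hu => ⟨hZinv u hu.1, hSinv u hu.2⟩)
      have hle : finrank F ↥(Z ⊓ S) ≤ finrank F Z := Submodule.finrank_mono inf_le_left
      have hne : finrank F ↥(Z ⊓ S) ≠ finrank F Z := by
        intro heq
        have : Z ⊓ S = Z := Submodule.eq_of_le_of_finrank_eq inf_le_left heq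
        exact hw ((inf_eq_left.1 this) hwZ)
      obtain ⟨m, hm⟩ := hd
      have : m = 0 := by
        by_contra hm0
        have : r * 1 ≤ r * m := Nat.mul_le_mul_left _ (by omega)
        omega
      rw [this, mul_zero] at hm
      exact Submodule.finrank_eq_zero.1 hm
    have hZdim : finrank F Z = r := by
      have hd : r ∣ finrank F Z := t2_dvd_finrank f r hr z hf hc Z hZinv
      have hpos : 0 < finrank F Z := by
        rw [Module.finrank_pos_iff_exists_ne_zero]
        refine ⟨⟨w, hwZ⟩, fun h => hw ?_⟩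
        have : w = 0 := congrArg Subtype.val h
        rw [this]
        exact zero_mem _
      exact Nat.le_antisymm hZle (Nat.le_of_dvd hpos hd)
    have hsup : finrank F ↥(S ⊔ Z) = r * j + r := by
      have := Submodule.finrank_sup_add_finrank_inf_eq S Z
      rw [inf_comm, hinf, finrank_bot, add_zero, hSdim, hZdim] at this
      exact this
    refine ⟨Fin.snoc v w, ?_⟩
    set fam' : Fin r × Fin (j + 1) → V :=
      fun p => (f ^ (p.1 : ℕ)) ((Fin.snoc v w : Fin (j + 1) → V) p.2) with hfam'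
    have hle : S ⊔ Z ≤ Submodule.span F (Set.range fam') := by
      refine sup_le ?_ ?_
      · rw [hS, Submodule.span_le]
        rintro _ ⟨⟨i, l⟩, rfl⟩
        refine Submodule.subset_span ⟨(i, Fin.castSucc l), ?_⟩
        show (f ^ (i : ℕ)) ((Fin.snoc v w : Fin (j + 1) → V) (Fin.castSucc l)) = _
        rw [Fin.snoc_castSucc]
      · rw [hZ, cyc, Submodule.span_le]
        rintro _ ⟨i, rfl⟩
        refine Submodule.subset_span ⟨(i, Fin.last j), ?_⟩
        show (f ^ (i : ℕ)) ((Fin.snoc v w : Fin (j + 1) → V) (Fin.last j)) = _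
        rw [Fin.snoc_last]
    rw [linearIndependent_iff_card_eq_finrank_span]
    have h1 : finrank F ↥(S ⊔ Z) ≤ finrank F (Submodule.span F (Set.range fam')) :=
      Submodule.finrank_mono hle
    have h2 := finrank_range_le_card (R := F) fam'
    rw [Fintype.card_prod, Fintype.card_fin, Fintype.card_fin] at h2 ⊢
    rw [Set.finrank]
    rw [hsup] at h1
    rw [mul_add, mul_one] at h2 ⊢
    exact le_antisymm h1 h2

theorem HasDec.finrank_eq {F V : Type*} [Field F] [AddCommGroup V] [Module F V]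
    {f : V →ₗ[F] V} {a : ℕ} {V' : Submodule F V} {k : ℕ}
    (h : HasDec f a V' k) : k * a = finrank F V' := by
  obtain ⟨_, _, _, _, _, _, _, _, _, h⟩ := h
  exact h

theorem HasDec.invariant {F V : Type*} [Field F] [AddCommGroup V] [Module F V]
    {f : V →ₗ[F] V} {a : ℕ} {V' : Submodule F V} {k : ℕ}
    (h : HasDec f a V' k) : ∀ v ∈ V', f v ∈ V' := by
  intro v hv
  have := h.map_eq
  rw [← this]
  exact ⟨v, hv, rfl⟩

theorem hasDec_t2b {F : Type u} [Field F] (a : ℕ) (ha : 0 < a) (r : ℕ) (hr : r.Prime)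
    (hr0 : (r : F) ≠ 0) (z : F) (hc : ∀ d : F, d ^ r ≠ z)
    (V : Type v) [AddCommGroup V] [Module F V] [FiniteDimensional F V] (f : V →ₗ[F] V)
    (hf : f ^ r = z • 1) (k : ℕ) (hdim : finrank F V = a * (r * k)) :
    HasDec f a ⊤ (r * k) := by
  have hz : z ≠ 0 := by
    rintro rfl
    exact hc 0 (zero_pow hr.ne_zero)
  have key : ∃ k₁, HasDec f a ⊤ k₁ := by
    refine hasDec_induct (F := F) a
      (fun V _ _ f => f ^ r = z • 1 ∧ (r * a) ∣ finrank F V) ?_ (finrank F V) V f rfl
      ⟨hf, ⟨k, by rw [hdim]; ring⟩⟩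
    intro V _ _ _ f hC hpos
    obtain ⟨hf, hd⟩ := hC
    have hle : r * a ≤ finrank F V := Nat.le_of_dvd hpos hd
    obtain ⟨v, hv⟩ := exists_cyclic_li f r hr z hf hc a hle
    have hU := hasDec_cycle f r hr.pos z hz hf v hv
    rw [Fintype.card_fin] at hU
    set U := Submodule.span F (Set.range fun p : Fin r × Fin a => (f ^ (p.1 : ℕ)) (v p.2)) with hUdef
    have hUdim := hU.finrank_eq
    obtain ⟨W, hUW, hW⟩ := exists_invariant_compl f r hr0 z hz hf U hU.invariant
    refine ⟨U, W, hW, r, hUW, ?_, hU, restrict_pow_eq f W hW r z hf, ?_⟩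
    · rw [← hUdim]
      exact Nat.mul_pos hr.pos ha
    · have hsum := Submodule.finrank_add_eq_of_isCompl hUW
      rw [← hUdim] at hsum
      have : finrank F W = finrank F V - r * a := by omega
      rw [this]
      exact Nat.dvd_sub hd (dvd_refl _)
  obtain ⟨k₁, hk₁⟩ := key
  have h1 : k₁ = r * k := by
    have h := hk₁.finrank_eq
    rw [finrank_top, hdim, mul_comm] at h
    exact Nat.eq_of_mul_eq_mul_left ha h
  rw [← h1]
  exact hk₁

end cases

end Cfsg.Agent.Lib.Helper12.Elus
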