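import Mathlib
import Cfsg.Agent.Lib.Helper12.DecC

set_option autoImplicit false

namespace Cfsg.Agent.Lib.Helper12.Elus

open Module Polynomial

section lines

universe u v

theorem finrank_fixE_restrict {F V : Type*} [Field F] [AddCommGroup V] [Module F V]
    (y : V →ₗ[F] V) (W : Submodule F V) (hW : ∀ v ∈ W, y v ∈ W) :
    finrank F (fixE (y.restrict hW)) = finrank F ↥(W ⊓ fixE y) := by
  have h : (fixE (y.restrict hW)).map W.subtype = W ⊓ fixE y := by
    ext v
    constructor
    · rintro ⟨w, hw, rfl⟩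
      refine ⟨w.2, ?_⟩
      have h1 := (mem_fixE _ _).1 hw
      show W.subtype w ∈ fixE y
      rw [mem_fixE]
      have h2 := congrArg Subtype.val h1
      exact h2
    · rintro ⟨hvW, hvE⟩
      refine ⟨⟨v, hvW⟩, ?_, rfl⟩
      show (⟨v, hvW⟩ : W) ∈ fixE (y.restrict hW)
      rw [mem_fixE]
      apply Subtype.ext
      exact (mem_fixE _ _).1 hvE
  rw [← h]
  exact (Submodule.equivSubtypeMap W (fixE (y.restrict hW))).finrank_eq

theorem finrank_fix_compl {F V : Type*} [Field F] [AddCommGroup V] [Module F V]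
    [FiniteDimensional F V] (y : V →ₗ[F] V) (U W : Submodule F V)
    (hU : ∀ v ∈ U, y v ∈ U) (hW : ∀ v ∈ W, y v ∈ W) (hUW : IsCompl U W) :
    finrank F (fixE y) = finrank F ↥(U ⊓ fixE y) + finrank F ↥(W ⊓ fixE y) := by
  have h1 := finrank_eq_fix_add_map y U
  have h2 := finrank_eq_fix_add_map y W
  have h3 := finrank_fix_add_mov y
  have h4 := Submodule.finrank_add_eq_of_isCompl hUW
  have h5 : movR y = U.map (y - 1) ⊔ W.map (y - 1) := by
    rw [← Submodule.map_sup, hUW.sup_eq_top, Submodule.map_top]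
    rfl
  have h6 : U.map (y - 1) ⊓ W.map (y - 1) = ⊥ := by
    rw [eq_bot_iff, ← hUW.inf_eq_bot]
    exact inf_le_inf (map_sub_one_le y U hU) (map_sub_one_le y W hW)
  have h7 := Submodule.finrank_sup_add_finrank_inf_eq (U.map (y - 1)) (W.map (y - 1))
  rw [h6, finrank_bot, add_zero, ← h5] at h7
  omega

theorem lines_step {F : Type u} [Field F] [Fintype F] {p : ℕ} [Fact p.Prime] [CharP F p]
    (r : ℕ) [Fact r.Prime] (hrp : r ≠ p)
    (hcr : orderOf (Fintype.card F : ZMod r) = r - 1)
    (hc2 : 2 ≤ orderOf (Fintype.card F : ZMod r))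
    (V : Type v) [AddCommGroup V] [Module F V] [FiniteDimensional F V] (y : V →ₗ[F] V)
    (hy : y ^ r = 1) (hP : finrank F V ≤ r * finrank F (fixE y)) (hpos : 0 < finrank F V) :
    ∃ (U W : Submodule F V) (hW : ∀ v ∈ W, y v ∈ W) (j : ℕ), IsCompl U W ∧
      0 < finrank F U ∧ HasDec y 1 U j ∧
      finrank F W ≤ r * finrank F (fixE (y.restrict hW)) := by
  have hr : r.Prime := Fact.out
  have hr0 : (r : F) ≠ 0 := by
    rw [Ne, CharP.cast_eq_zero_iff F p]
    intro hd
    exact hrp ((Nat.prime_dvd_prime_iff_eq Fact.out Fact.out).1 hd).symm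
  have hy' : y ^ r = (1 : F) • 1 := by rw [hy, one_smul]
  have hinj := injective_of_pow_eq_smul y r hr.pos 1 one_ne_zero hy'
  set c := orderOf (Fintype.card F : ZMod r) with hc
  have hfixpos : 0 < finrank F (fixE y) := by
    rcases Nat.eq_zero_or_pos (finrank F (fixE y)) with h | h
    · rw [h, mul_zero] at hP
      omega
    · exact h
  obtain ⟨⟨e, heE⟩, he0'⟩ := (Module.finrank_pos_iff_exists_ne_zero (R := F)).1 hfixpos
  have he0 : e ≠ 0 := fun h => he0' (Subtype.ext h)
  by_cases hR : movR y = ⊥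
  · -- trivial action
    have hE : fixE y = ⊤ := by
      apply Submodule.eq_top_of_finrank_eq
      have := finrank_fix_add_mov y
      rw [hR, finrank_bot, add_zero] at this
      exact this
    set U := Submodule.span F {e} with hU
    have hUinv : ∀ v ∈ U, y v ∈ U := fixE_invariant y U (by rw [hE]; exact le_top)
    have hUdim : finrank F U = 1 := finrank_span_singleton he0
    obtain ⟨W, hUW, hW⟩ := exists_invariant_compl y r hr0 1 one_ne_zero hy' U hUinv
    refine ⟨U, W, hW, 1, hUW, by omega,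
      hasDec_single y 1 U (map_eq_of_invariant y hinj U hUinv) hUdim, ?_⟩
    rw [finrank_fixE_restrict, hE, inf_top_eq]
    exact Nat.le_mul_of_pos_left _ hr.pos
  · have hRpos : 0 < finrank F (movR y) := by
      rcases Nat.eq_zero_or_pos (finrank F (movR y)) with h | h
      · exact absurd (Submodule.finrank_eq_zero.1 h) hR
      · exact h
    have hcR : c ∣ finrank F (movR y) :=
      orderOf_dvd_finrank_of_le_movR y r hy hr0 (movR y) (movR_invariant y) le_rfl
    obtain ⟨B, hBinv, hBR, hBdim⟩ := mov_chain y r hrp hy 1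
      (by rw [mul_one]; exact Nat.le_of_dvd hRpos hcR)
    rw [mul_one, ← hc] at hBdim
    have hBpos : 0 < finrank F B := by omega
    obtain ⟨⟨b₀, hb₀B⟩, hb₀'⟩ := (Module.finrank_pos_iff_exists_ne_zero (R := F)).1 hBpos
    have hb₀ : b₀ ≠ 0 := fun h => hb₀' (Subtype.ext h)
    set w := b₀ + e with hw
    set Z := cyc y w r with hZ
    have hZinv := cyc_invariant_of_pow y r hr.pos 1 hy' w
    have hwZ : w ∈ Z := self_mem_cyc y w r hr.pos
    have heZ : e ∈ Z := by
      have h1 : aeval y (cyclotomic r F) w ∈ Z :=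
        aeval_mem_of_invariant y Z hZinv (cyclotomic r F) w hwZ
      have h2 : aeval y (cyclotomic r F) w = (r : F) • e := by
        rw [hw, map_add, cyclo_apply_movR y r hy b₀ (hBR hb₀B), zero_add,
          aeval_apply_of_fixed y e ((mem_fixE y e).1 heE), eval_one_cyclotomic_prime]
      rw [h2] at h1
      have h3 := Submodule.smul_mem Z ((r : F)⁻¹) h1
      rwa [smul_smul, inv_mul_cancel₀ hr0, one_smul] at h3
    have hbZ : b₀ ∈ Z := by
      have : b₀ = w - e := by rw [hw]; abel
      rw [this]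
      exact Submodule.sub_mem _ hwZ heZ
    have hBZ : B ≤ Z := by
      have hd : c ∣ finrank F ↥(Z ⊓ B) :=
        orderOf_dvd_finrank_of_le_movR y r hy hr0 (Z ⊓ B)
          (fun u hu => ⟨hZinv u hu.1, hBinv u hu.2⟩) (inf_le_right.trans hBR)
      have hpos' : 0 < finrank F ↥(Z ⊓ B) := by
        rw [Module.finrank_pos_iff_exists_ne_zero]
        exact ⟨⟨b₀, hbZ, hb₀B⟩, fun h => hb₀ (congrArg Subtype.val h)⟩
      have hle : finrank F ↥(Z ⊓ B) ≤ finrank F B := Submodule.finrank_mono inf_le_right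
      have hge : c ≤ finrank F ↥(Z ⊓ B) := Nat.le_of_dvd hpos' hd
      have : Z ⊓ B = B := Submodule.eq_of_le_of_finrank_eq inf_le_right (by omega)
      exact inf_eq_right.1 this
    have heE' : Submodule.span F {e} ≤ fixE y := by
      rw [Submodule.span_le]
      rintro _ rfl
      exact heE
    have hBe : B ⊓ Submodule.span F {e} = ⊥ := by
      rw [eq_bot_iff, ← fix_inf_mov y r hy hr0, inf_comm]
      exact inf_le_inf heE' hBR
    have hBedim : finrank F ↥(B ⊔ Submodule.span F {e}) = c + 1 := by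
      have := Submodule.finrank_sup_add_finrank_inf_eq B (Submodule.span F {e})
      rw [hBe, finrank_bot, add_zero, hBdim, finrank_span_singleton he0] at this
      exact this
    have hZdim : finrank F Z = r := by
      have h1 : finrank F ↥(B ⊔ Submodule.span F {e}) ≤ finrank F Z :=
        Submodule.finrank_mono (sup_le hBZ (by
          rw [Submodule.span_le]
          rintro _ rfl
          exact heZ))
      have h2 : finrank F Z ≤ r := finrank_cyc_le y w r
      have := hr.two_le
      omega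
    have hli0 : LinearIndependent F (fun i : Fin r => (y ^ (i : ℕ)) w) := by
      rw [linearIndependent_iff_card_eq_finrank_span, Fintype.card_fin, Set.finrank]
      exact hZdim.symm
    have hli : LinearIndependent F
        (fun p : Fin r × Fin 1 => (y ^ (p.1 : ℕ)) ((fun _ : Fin 1 => w) p.2)) := by
      have := hli0.comp (fun p : Fin r × Fin 1 => p.1) (by
        rintro ⟨i, j⟩ ⟨i', j'⟩ h
        have h1 : i = i' := h
        rw [h1, Subsingleton.elim j j'])
      exact this
    have hU := hasDec_cycle y r hr.pos 1 one_ne_zero hy' (fun _ : Fin 1 => w) hli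
    rw [Fintype.card_fin] at hU
    have hUZ : Submodule.span F (Set.range fun p : Fin r × Fin 1 =>
        (y ^ (p.1 : ℕ)) ((fun _ : Fin 1 => w) p.2)) = Z := by
      rw [hZ, cyc]
      congr 1
      ext x
      constructor
      · rintro ⟨⟨i, _⟩, rfl⟩
        exact ⟨i, rfl⟩
      · rintro ⟨i, rfl⟩
        exact ⟨(i, 0), rfl⟩
    rw [hUZ] at hU
    obtain ⟨W, hUW, hW⟩ := exists_invariant_compl y r hr0 1 one_ne_zero hy' Z hZinv
    refine ⟨Z, W, hW, r, hUW, by rw [hZdim]; exact hr.pos, hU, ?_⟩
    rw [finrank_fixE_restrict]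
    have h1 := finrank_fix_compl y Z W hZinv hW hUW
    have h2 := finrank_eq_fix_add_map y Z
    have h3 := finrank_eq_fix_add_map y B
    have h4 : B ⊓ fixE y = ⊥ := by
      rw [eq_bot_iff, ← fix_inf_mov y r hy hr0, inf_comm]
      exact inf_le_inf le_rfl hBR
    rw [h4, finrank_bot, zero_add, hBdim] at h3
    have h5 : finrank F ↥(B.map (y - 1)) ≤ finrank F ↥(Z.map (y - 1)) :=
      Submodule.finrank_mono (Submodule.map_mono hBZ)
    have h6 := Submodule.finrank_add_eq_of_isCompl hUW
    have h7 : finrank F ↥(Z ⊓ fixE y) ≤ 1 := by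
      have := hr.two_le
      omega
    have h8 : finrank F (fixE y) ≤ 1 + finrank F ↥(W ⊓ fixE y) := by omega
    have h9 : r * finrank F (fixE y) ≤ r * (1 + finrank F ↥(W ⊓ fixE y)) :=
      Nat.mul_le_mul_left _ h8
    rw [mul_add, mul_one] at h9
    omega

theorem hasDec_lines {F : Type u} [Field F] [Fintype F] {p : ℕ} [Fact p.Prime] [CharP F p]
    (r : ℕ) [Fact r.Prime] (hrp : r ≠ p)
    (hcr : orderOf (Fintype.card F : ZMod r) = r - 1)
    (hc2 : 2 ≤ orderOf (Fintype.card F : ZMod r))
    (V : Type v) [AddCommGroup V] [Module F V] [FiniteDimensional F V] (y : V →ₗ[F] V)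
    (hy : y ^ r = 1) (hP : finrank F V ≤ r * finrank F (fixE y)) :
    HasDec y 1 ⊤ (finrank F V) := by
  have key : ∃ k₁, HasDec y 1 ⊤ k₁ := by
    refine hasDec_induct (F := F) 1
      (fun V _ _ y => y ^ r = 1 ∧ ∃ _ : FiniteDimensional F V,
        finrank F V ≤ r * finrank F (fixE y)) ?_ (finrank F V) V y rfl
      ⟨hy, inferInstance, hP⟩
    intro V _ _ _ y hC hpos
    obtain ⟨hy, _, hP⟩ := hC
    obtain ⟨U, W, hW, j, hUW, hUpos, hU, hPW⟩ := lines_step r hrp hcr hc2 V y hy hP hpos
    refine ⟨U, W, hW, j, hUW, hUpos, hU, ?_, inferInstance, hPW⟩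
    have := restrict_pow_eq y W hW r 1 (by rw [hy, one_smul])
    rwa [one_smul] at this
  obtain ⟨k₁, hk₁⟩ := key
  have h1 : k₁ = finrank F V := by
    have h := hk₁.finrank_eq
    rw [finrank_top, mul_one] at h
    exact h
  rw [← h1]
  exact hk₁

end lines

end Cfsg.Agent.Lib.Helper12.Elus
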