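import Mathlib
import Cfsg.Prelude.Def_GeometricClasses
import Cfsg.Agent.Lib.Helper12.DecD

set_option autoImplicit false

namespace Cfsg.Agent.Lib.Helper12.Elus

open Module Polynomial

section bwd

universe u

/-- the predicate of the statement -/
def DecP {F : Type u} [Field F] (n a t : ℕ) (f : (Fin n → F) →ₗ[F] (Fin n → F)) : Prop :=
  ∃ D : Fin t → Submodule F (Fin n → F), Cfsg.Geo.IsMDecomposition a D ∧
    ∃ σ : Equiv.Perm (Fin t), ∀ j, (D j).map f = D (σ j)

theorem decP_of_hasDec {F : Type u} [Field F] (n a t : ℕ) (ha : 1 ≤ a) (ht : 2 ≤ t)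
    (f : (Fin n → F) →ₗ[F] (Fin n → F)) (h : HasDec f a ⊤ t) : DecP n a t f := by
  obtain ⟨D, σ, hf, hi, hs, hm⟩ := h.exists_fin
  exact ⟨D, ⟨ht, ha, hf, hi, hs⟩, σ, hm⟩

theorem dec_bwd {F : Type u} [Field F] [Fintype F] {p : ℕ} [Fact p.Prime] [CharP F p]
    (n a t : ℕ) (hat : n = a * t) (ha : 1 ≤ a) (ht : 2 ≤ t) (r : ℕ) [Fact r.Prime] (hrp : r ≠ p)
    (hRHS : (a = 1 ∧ 1 < orderOf (Fintype.card F : ZMod r) ∧
        orderOf (Fintype.card F : ZMod r) = r - 1 ∧
        n ≤ (n % orderOf (Fintype.card F : ZMod r)) * r) ∨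
      (orderOf (Fintype.card F : ZMod r) ≤ a ∧
        n % orderOf (Fintype.card F : ZMod r) = t * (a % orderOf (Fintype.card F : ZMod r))))
    (f : (Fin n → F) →ₗ[F] (Fin n → F)) (hdet : LinearMap.det f = 1) (z : F)
    (hfz : f ^ r = z • 1) : DecP n a t f := by
  have hr : r.Prime := Fact.out
  have hr0 : (r : F) ≠ 0 := by
    rw [Ne, CharP.cast_eq_zero_iff F p]
    intro hd
    exact hrp ((Nat.prime_dvd_prime_iff_eq Fact.out Fact.out).1 hd).symm
  have hfin : finrank F (Fin n → F) = n := Module.finrank_fin_fun F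
  have hn0 : 0 < n := by rw [hat]; exact Nat.mul_pos ha (by omega)
  have hz0 : z ≠ 0 := scalar_ne_zero f r z (by rw [hfin]; exact hn0) hdet hfz
  have hdim : finrank F (Fin n → F) = a * t := by rw [hfin, hat]
  apply decP_of_hasDec n a t ha ht
  set c := orderOf (Fintype.card F : ZMod r) with hc
  have hcpos : 0 < c := orderOf_card_pos r hrp
  by_cases hc1 : c = 1
  · have hrq : r ∣ Fintype.card F - 1 := (orderOf_card_eq_one_iff r).1 hc1
    by_cases hz1 : z ^ ((Fintype.card F - 1) / r) = 1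
    · have h1 : f ^ (Fintype.card F - 1) = 1 := by
        rw [← Nat.mul_div_cancel' hrq, pow_mul, hfz, _root_.smul_pow, one_pow, hz1, one_smul]
      exact hasDec_split a ha _ f h1 t hdim
    · have hcz : ∀ d : F, d ^ r ≠ z := not_pow_of_pow_div_ne_one r hrq z hz0 hz1
      have hrn : r ∣ a * t := by
        have := t2_dvd_finrank f r hr z hfz hcz ⊤ (fun _ _ => Submodule.mem_top)
        rwa [finrank_top, hdim] at this
      rcases (Nat.Prime.dvd_mul hr).1 hrn with hra | hrt
      · exact hasDec_t2a a ha r hr hr0 z hcz hra _ f hfz t hdim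
      · obtain ⟨k, rfl⟩ := hrt
        exact hasDec_t2b a ha r hr hr0 z hcz _ f hfz k hdim
  · have hc2 : 2 ≤ c := by omega
    have hrq : ¬ r ∣ Fintype.card F - 1 := fun h => hc1 ((orderOf_card_eq_one_iff r).2 h)
    obtain ⟨d, hd0, hd⟩ := exists_root_of_coprime r hr hrq z hz0
    set y : (Fin n → F) →ₗ[F] (Fin n → F) := d⁻¹ • f with hy
    have hyr : y ^ r = 1 := by
      rw [hy, _root_.smul_pow, hfz, smul_smul, inv_pow, hd, inv_mul_cancel₀ hz0, one_smul]
    have hfy : f = d • y := by
      rw [hy, smul_smul, mul_inv_cancel₀ hd0, one_smul]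
    rw [hfy]
    refine HasDec.smul ?_ d hd0
    rcases hRHS with ⟨ha1, -, hcr, hle⟩ | ⟨hca, hmod⟩
    · have hsum := finrank_fix_add_mov y
      obtain ⟨b, hb⟩ : c ∣ finrank F (movR y) :=
        orderOf_dvd_finrank_of_le_movR y r hyr hr0 (movR y) (movR_invariant y) le_rfl
      have h1 : n % c ≤ finrank F (fixE y) := by
        have h3 : n = finrank F (fixE y) + c * b := by omega
        have h2 : n % c = finrank F (fixE y) % c := by
          conv_lhs => rw [h3]
          exact Nat.add_mul_mod_self_left _ _ _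
        rw [h2]
        exact Nat.mod_le _ _
      have hP : finrank F (Fin n → F) ≤ r * finrank F (fixE y) := by
        rw [hfin]
        calc n ≤ n % c * r := hle
          _ ≤ finrank F (fixE y) * r := Nat.mul_le_mul_right _ h1
          _ = r * finrank F (fixE y) := mul_comm _ _
      have := hasDec_lines r hrp hcr hc2 _ y hyr hP
      rw [hfin] at this
      have ht' : t = n := by rw [hat, ha1, one_mul]
      rw [ha1, ht']
      exact this
    · refine hasDec_nonsplit a ha r hrp hrq _ y hyr t ?_ hdim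
      rw [← hc, ← hmod]
      exact Nat.mod_lt _ hcpos

end bwd

end Cfsg.Agent.Lib.Helper12.Elus
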