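import Mathlib
import Cfsg.Agent.Lib.Helper12.DecE

set_option autoImplicit false

namespace Cfsg.Agent.Lib.Helper12.Elus

open Module Polynomial

section analysis

variable {F V : Type*} [Field F] [AddCommGroup V] [Module F V]
  {ι : Type*} (y : V →ₗ[F] V) (r : ℕ) (a : ℕ) (D : ι → Submodule F V) (σ : Equiv.Perm ι)

theorem dec_injective (ha : 0 < a) (hfin : ∀ i, finrank F (D i) = a) (hind : iSupIndep D) :
    Function.Injective D := by
  apply hind.injective
  intro i h
  have := hfin i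
  rw [h, finrank_bot] at this
  omega

theorem dec_map_pow (hmap : ∀ j, (D j).map y = D (σ j)) (i : ℕ) (j : ι) :
    (D j).map (y ^ i) = D ((σ ^ i) j) := by
  induction i with
  | zero =>
    rw [pow_zero, pow_zero, Module.End.one_eq_id, Submodule.map_id, Equiv.Perm.one_apply]
  | succ i ih =>
    rw [pow_succ', Module.End.mul_eq_comp, Submodule.map_comp, ih, hmap, pow_succ',
      Equiv.Perm.mul_apply]

theorem dec_pow_mem (hmap : ∀ j, (D j).map y = D (σ j)) (i : ℕ) (j : ι) (v : V) (hv : v ∈ D j) :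
    (y ^ i) v ∈ D ((σ ^ i) j) := by
  rw [← dec_map_pow y D σ hmap i j]
  exact ⟨v, hv, rfl⟩

theorem dec_sigma_pow (hy : y ^ r = 1) (ha : 0 < a) (hfin : ∀ i, finrank F (D i) = a)
    (hind : iSupIndep D) (hmap : ∀ j, (D j).map y = D (σ j)) (j : ι) : (σ ^ r) j = j := by
  have h := dec_map_pow y D σ hmap r j
  rw [hy, Module.End.one_eq_id, Submodule.map_id] at h
  exact (dec_injective a D ha hfin hind h).symm

theorem dec_orbit_inj [Fact r.Prime] (hy : y ^ r = 1) (ha : 0 < a)
    (hfin : ∀ i, finrank F (D i) = a)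
    (hind : iSupIndep D) (hmap : ∀ j, (D j).map y = D (σ j)) (τ : ι) (hτ : σ τ ≠ τ) :
    Function.Injective (fun i : Fin r => (σ ^ (i : ℕ)) τ) := by
  have hper : Function.IsPeriodicPt σ r τ := by
    show σ^[r] τ = τ
    rw [Equiv.Perm.iterate_eq_pow]
    exact dec_sigma_pow y r a D σ hy ha hfin hind hmap τ
  have hmin : Function.minimalPeriod σ τ = r := Function.minimalPeriod_eq_prime hper hτ
  intro i i' h
  have h' : σ^[(i : ℕ)] τ = σ^[(i' : ℕ)] τ := by
    rw [Equiv.Perm.iterate_eq_pow, Equiv.Perm.iterate_eq_pow]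
    exact h
  apply Fin.ext
  exact (Function.iterate_eq_iterate_iff_of_lt_minimalPeriod (by rw [hmin]; exact i.2)
    (by rw [hmin]; exact i'.2)).1 h'

theorem dec_li [Fact r.Prime] (hy : y ^ r = 1) (ha : 0 < a)
    (hfin : ∀ i, finrank F (D i) = a)
    (hind : iSupIndep D) (hmap : ∀ j, (D j).map y = D (σ j)) (τ : ι) (hτ : σ τ ≠ τ)
    (v : V) (hv : v ∈ D τ) (hv0 : v ≠ 0) :
    LinearIndependent F (fun i : Fin r => (y ^ (i : ℕ)) v) := by
  have hr : r.Prime := Fact.out
  have hinj := dec_orbit_inj y r a D σ hy ha hfin hind hmap τ hτ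
  have hind' : iSupIndep (D ∘ fun i : Fin r => (σ ^ (i : ℕ)) τ) := hind.comp hinj
  apply hind'.linearIndependent
  · intro i
    exact dec_pow_mem y D σ hmap i τ v hv
  · intro i h
    apply hv0
    have hyinj : Function.Injective (y ^ (i : ℕ)) := by
      have h1 : (y ^ (i : ℕ)) ^ r = (1 : F) • 1 := by
        rw [← pow_mul, mul_comm, pow_mul, hy, one_pow, one_smul]
      exact injective_of_pow_eq_smul _ r hr.pos 1 one_ne_zero h1
    apply hyinj
    rw [h, map_zero]

theorem dec_exists_ne_zero (ha : 0 < a) (hfin : ∀ i, finrank F (D i) = a) (τ : ι) :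
    ∃ v ∈ D τ, v ≠ 0 := by
  by_contra h
  push Not at h
  have h1 : D τ = ⊥ := (Submodule.eq_bot_iff _).2 h
  have h2 := hfin τ
  rw [h1, finrank_bot] at h2
  omega

theorem no_moved_of_poly [Fact r.Prime] (hy : y ^ r = 1) (ha : 0 < a)
    (hfin : ∀ i, finrank F (D i) = a)
    (hind : iSupIndep D) (hmap : ∀ j, (D j).map y = D (σ j)) (P : F[X]) (hP0 : P ≠ 0)
    (hdeg : P.natDegree < r) (hP : aeval y P = 0) (τ : ι) : σ τ = τ := by
  by_contra hτ
  obtain ⟨v, hv, hv0⟩ := dec_exists_ne_zero a D ha hfin τ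
  have hli := dec_li y r a D σ hy ha hfin hind hmap τ hτ v hv hv0
  rw [Fintype.linearIndependent_iff] at hli
  have h1 : ∑ i : Fin r, P.coeff (i : ℕ) • (y ^ (i : ℕ)) v = 0 := by
    rw [Fin.sum_univ_eq_sum_range (fun i => P.coeff i • (y ^ i) v) r]
    have h2 := congrArg (fun g : V →ₗ[F] V => g v) hP
    simp only [LinearMap.zero_apply] at h2
    rw [aeval_eq_sum_range' hdeg, LinearMap.sum_apply] at h2
    simpa using h2
  have h3 := hli (fun i => P.coeff (i : ℕ)) h1
  apply hP0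
  ext k
  rw [coeff_zero]
  by_cases hk : k < r
  · exact h3 ⟨k, hk⟩
  · exact coeff_eq_zero_of_natDegree_lt (by omega)

/-- the norm map -/
def normN (y : V →ₗ[F] V) (r : ℕ) : V →ₗ[F] V := ∑ i ∈ Finset.range r, y ^ i

theorem normN_mem_fixE (hy : y ^ r = 1) (v : V) : normN y r v ∈ fixE y := by
  rw [fixE, LinearMap.mem_ker, ← Module.End.mul_apply, normN, mul_geom_sum, hy, sub_self,
    LinearMap.zero_apply]

theorem normN_apply (v : V) : normN y r v = ∑ i : Fin r, (y ^ (i : ℕ)) v := by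
  rw [normN, LinearMap.sum_apply, Fin.sum_univ_eq_sum_range (fun i => (y ^ i) v) r]

theorem normN_ne_zero [Fact r.Prime] (hy : y ^ r = 1) (ha : 0 < a)
    (hfin : ∀ i, finrank F (D i) = a)
    (hind : iSupIndep D) (hmap : ∀ j, (D j).map y = D (σ j)) (τ : ι) (hτ : σ τ ≠ τ)
    (v : V) (hv : v ∈ D τ) (hv0 : v ≠ 0) : normN y r v ≠ 0 := by
  have hr : r.Prime := Fact.out
  have hli := dec_li y r a D σ hy ha hfin hind hmap τ hτ v hv hv0
  rw [Fintype.linearIndependent_iff] at hli
  intro h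
  rw [normN_apply] at h
  have h1 : ∑ i : Fin r, (1 : F) • (y ^ (i : ℕ)) v = 0 := by simpa using h
  have := hli (fun _ => 1) h1 ⟨0, hr.pos⟩
  exact one_ne_zero this

theorem le_finrank_fixE_of_moved [FiniteDimensional F V] [Fact r.Prime] (hy : y ^ r = 1)
    (ha : 0 < a) (hfin : ∀ i, finrank F (D i) = a)
    (hind : iSupIndep D) (hmap : ∀ j, (D j).map y = D (σ j)) (τ : ι) (hτ : σ τ ≠ τ) :
    a ≤ finrank F (fixE y) := by
  let g : D τ →ₗ[F] fixE y :=
    LinearMap.codRestrict (fixE y) ((normN y r).comp (D τ).subtype)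
      (fun v => normN_mem_fixE y r hy _)
  have hg : Function.Injective g := by
    rw [← LinearMap.ker_eq_bot, eq_bot_iff]
    rintro ⟨v, hv⟩ hker
    rw [LinearMap.mem_ker] at hker
    have h1 : normN y r v = 0 := congrArg Subtype.val hker
    rw [Submodule.mem_bot]
    apply Subtype.ext
    show v = 0
    by_contra hv0
    exact normN_ne_zero y r a D σ hy ha hfin hind hmap τ hτ v hv hv0 h1
  have := LinearMap.finrank_le_finrank_of_injective hg
  rwa [hfin τ] at this

theorem dec_fixed_invariant (hmap : ∀ j, (D j).map y = D (σ j)) (l : ι) (hl : σ l = l) :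
    ∀ v ∈ D l, y v ∈ D l := by
  intro v hv
  have h := hmap l
  rw [hl] at h
  rw [← h]
  exact ⟨v, hv, rfl⟩

end analysis

section analysis2

variable {F V : Type*} [Field F] [Fintype F] [AddCommGroup V] [Module F V] [FiniteDimensional F V]
  {ι : Type*} (y : V →ₗ[F] V) (r : ℕ) [Fact r.Prime] (a : ℕ) (D : ι → Submodule F V)
  (σ : Equiv.Perm ι)

theorem dec_fixed_mod (hy : y ^ r = 1) (hr0 : (r : F) ≠ 0) (hfin : ∀ i, finrank F (D i) = a)
    (hmap : ∀ j, (D j).map y = D (σ j)) (l : ι) (hl : σ l = l) :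
    ∃ m, a = finrank F ↥(D l ⊓ fixE y) + orderOf (Fintype.card F : ZMod r) * m := by
  have hinv := dec_fixed_invariant y D σ hmap l hl
  have h1 := finrank_eq_fix_add_map y (D l)
  obtain ⟨m, hm⟩ : orderOf (Fintype.card F : ZMod r) ∣ finrank F ↥((D l).map (y - 1)) :=
    orderOf_dvd_finrank_of_le_movR y r hy hr0 _ (map_sub_one_invariant y (D l) hinv)
      (map_sub_one_le_movR y (D l))
  exact ⟨m, by rw [← hm, ← h1, hfin l]⟩

theorem dec_fixed_le_fixE (hy : y ^ r = 1) (hr0 : (r : F) ≠ 0)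
    (hfin : ∀ i, finrank F (D i) = a)
    (hmap : ∀ j, (D j).map y = D (σ j)) (hac : a < orderOf (Fintype.card F : ZMod r))
    (l : ι) (hl : σ l = l) : D l ≤ fixE y := by
  obtain ⟨m, hm⟩ := dec_fixed_mod y r a D σ hy hr0 hfin hmap l hl
  have hm0 : m = 0 := by
    by_contra h
    have : orderOf (Fintype.card F : ZMod r) * 1 ≤ orderOf (Fintype.card F : ZMod r) * m :=
      Nat.mul_le_mul_left _ (by omega)
    omega
  rw [hm0, mul_zero, add_zero] at hm
  have : D l ⊓ fixE y = D l :=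
    Submodule.eq_of_le_of_finrank_eq inf_le_left (by rw [← hm, hfin l])
  exact inf_eq_left.1 this

theorem all_fixed_bound [Fintype ι] (hy : y ^ r = 1) (hr0 : (r : F) ≠ 0)
    (hfin : ∀ i, finrank F (D i) = a) (hind : iSupIndep D)
    (hmap : ∀ j, (D j).map y = D (σ j)) (hall : ∀ l, σ l = l) :
    Fintype.card ι * (a % orderOf (Fintype.card F : ZMod r)) ≤ finrank F (fixE y) := by
  set c := orderOf (Fintype.card F : ZMod r) with hc
  have h1 : ∀ l, a % c ≤ finrank F ↥(D l ⊓ fixE y) := by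
    intro l
    obtain ⟨m, hm⟩ := dec_fixed_mod y r a D σ hy hr0 hfin hmap l (hall l)
    have : a % c = finrank F ↥(D l ⊓ fixE y) % c := by
      conv_lhs => rw [hm]
      exact Nat.add_mul_mod_self_left _ _ _
    rw [this]
    exact Nat.mod_le _ _
  have hind' : iSupIndep (fun l => D l ⊓ fixE y) := hind.mono (fun l => inf_le_left)
  have h2 := finrank_iSup_of_iSupIndep _ hind'
  have h3 : finrank F ↥(⨆ l, D l ⊓ fixE y) ≤ finrank F (fixE y) :=
    Submodule.finrank_mono (iSup_le fun l => inf_le_right)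
  calc Fintype.card ι * (a % c) = ∑ _l : ι, a % c := by
        rw [Finset.sum_const, Finset.card_univ, smul_eq_mul]
    _ ≤ ∑ l, finrank F ↥(D l ⊓ fixE y) := Finset.sum_le_sum fun l _ => h1 l
    _ = finrank F ↥(⨆ l, D l ⊓ fixE y) := h2.symm
    _ ≤ finrank F (fixE y) := h3

end analysis2

end Cfsg.Agent.Lib.Helper12.Elus
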