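import Mathlib
import Cfsg.Agent.Lib.Helper12.DecF

set_option autoImplicit false

namespace Cfsg.Agent.Lib.Helper12.Elus

open Module Polynomial

section linesbound

variable {F V : Type*} [Field F] [AddCommGroup V] [Module F V] [FiniteDimensional F V]
  {ι : Type*} [DecidableEq ι] (y : V →ₗ[F] V) (r : ℕ) [Fact r.Prime] (a : ℕ)
  (D : ι → Submodule F V) (σ : Equiv.Perm ι)

omit [FiniteDimensional F V] [DecidableEq ι] in
theorem biSup_disjoint_of_disjoint (hind : iSupIndep D) (S T : Finset ι) (h : Disjoint S T) :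
    Disjoint (⨆ i ∈ S, D i) (⨆ i ∈ T, D i) := by
  have := hind.disjoint_biSup_biSup (s := (S : Set ι)) (t := (T : Set ι))
    (by rwa [Finset.disjoint_coe])
  simpa using this

/-- the orbit of `j` -/
def orb (j : ι) : Finset ι := Finset.image (fun i : Fin r => (σ ^ (i : ℕ)) j) Finset.univ

omit [Fact r.Prime] in
theorem card_orb_le (j : ι) : (orb r σ j).card ≤ r := by
  have := Finset.card_image_le (s := (Finset.univ : Finset (Fin r)))
    (f := fun i : Fin r => (σ ^ (i : ℕ)) j)
  rwa [Finset.card_univ, Fintype.card_fin] at this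

theorem self_mem_orb (j : ι) : j ∈ orb r σ j := by
  have hr : r.Prime := Fact.out
  rw [orb, Finset.mem_image]
  exact ⟨⟨0, hr.pos⟩, Finset.mem_univ _, by simp⟩

omit [Fact r.Prime] [DecidableEq ι] in
theorem pow_mem_of_closed (S : Finset ι) (hS : ∀ j ∈ S, σ j ∈ S) (j : ι) (hj : j ∈ S) (i : ℕ) :
    (σ ^ i) j ∈ S := by
  induction i with
  | zero => simpa using hj
  | succ i ih =>
    rw [pow_succ', Equiv.Perm.mul_apply]
    exact hS _ ih

omit [Fact r.Prime] in
theorem orb_subset (S : Finset ι) (hS : ∀ j ∈ S, σ j ∈ S) (j : ι) (hj : j ∈ S) :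
    orb r σ j ⊆ S := by
  intro x hx
  rw [orb, Finset.mem_image] at hx
  obtain ⟨i, -, rfl⟩ := hx
  exact pow_mem_of_closed σ S hS j hj i

theorem mem_orb_of_apply_mem (j : ι) (hj : (σ ^ r) j = j) (x : ι) (hx : σ x ∈ orb r σ j) :
    x ∈ orb r σ j := by
  have hr : r.Prime := Fact.out
  rw [orb, Finset.mem_image] at hx ⊢
  obtain ⟨⟨i, hi⟩, -, hix⟩ := hx
  rcases Nat.eq_zero_or_pos i with h0 | hpos
  · subst h0
    refine ⟨⟨r - 1, by have := hr.pos; omega⟩, Finset.mem_univ _, ?_⟩
    apply σ.injective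
    show σ ((σ ^ (r - 1)) j) = σ x
    rw [← Equiv.Perm.mul_apply, ← pow_succ']
    have : r - 1 + 1 = r := by have := hr.pos; omega
    rw [this, hj]
    simpa using hix
  · refine ⟨⟨i - 1, by omega⟩, Finset.mem_univ _, ?_⟩
    apply σ.injective
    show σ ((σ ^ (i - 1)) j) = σ x
    rw [← Equiv.Perm.mul_apply, ← pow_succ']
    have : i - 1 + 1 = i := by omega
    rw [this]
    exact hix

omit [DecidableEq ι] in
theorem le_finrank_of_moved (hy : y ^ r = 1)
    (ha : 0 < a) (hfin : ∀ i, finrank F (D i) = a)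
    (hind : iSupIndep D) (hmap : ∀ j, (D j).map y = D (σ j)) (τ : ι) (hτ : σ τ ≠ τ)
    (T : Submodule F V) (hT : ∀ v ∈ D τ, normN y r v ∈ T) :
    a ≤ finrank F T := by
  let g : D τ →ₗ[F] T :=
    LinearMap.codRestrict T ((normN y r).comp (D τ).subtype) (fun v => hT v.1 v.2)
  have hg : Function.Injective g := by
    rw [← LinearMap.ker_eq_bot, eq_bot_iff]
    rintro ⟨v, hv⟩ hker
    rw [LinearMap.mem_ker] at hker
    have h1 : normN y r v = 0 := congrArg Subtype.val hker
    rw [Submodule.mem_bot]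
    apply Subtype.ext
    show v = 0
    by_contra hv0
    exact normN_ne_zero y r a D σ hy ha hfin hind hmap τ hτ v hv hv0 h1
  have := LinearMap.finrank_le_finrank_of_injective hg
  rwa [hfin τ] at this

theorem le_finrank_orb (hy : y ^ r = 1)
    (ha : 0 < a) (hfin : ∀ i, finrank F (D i) = a)
    (hind : iSupIndep D) (hmap : ∀ j, (D j).map y = D (σ j))
    (hfixE : ∀ l, σ l = l → D l ≤ fixE y) (j : ι) :
    a ≤ finrank F ↥(fixE y ⊓ ⨆ i ∈ orb r σ j, D i) := by
  by_cases hj : σ j = j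
  · have hle : D j ≤ fixE y ⊓ ⨆ i ∈ orb r σ j, D i :=
      le_inf (hfixE j hj) (le_biSup D (self_mem_orb r σ j))
    have := Submodule.finrank_mono hle
    rwa [hfin j] at this
  · apply le_finrank_of_moved y r a D σ hy ha hfin hind hmap j hj
    intro v hv
    refine ⟨normN_mem_fixE y r hy v, ?_⟩
    rw [normN_apply]
    refine Submodule.sum_mem _ fun i _ => ?_
    have h1 : (y ^ (i : ℕ)) v ∈ D ((σ ^ (i : ℕ)) j) := dec_pow_mem y D σ hmap i j v hv
    have h2 : (σ ^ (i : ℕ)) j ∈ orb r σ j := by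
      rw [orb, Finset.mem_image]
      exact ⟨i, Finset.mem_univ _, rfl⟩
    exact (le_biSup D h2) h1

theorem lines_bound_aux (hy : y ^ r = 1)
    (ha : 0 < a) (hfin : ∀ i, finrank F (D i) = a)
    (hind : iSupIndep D) (hmap : ∀ j, (D j).map y = D (σ j))
    (hfixE : ∀ l, σ l = l → D l ≤ fixE y) (S : Finset ι) (hS : ∀ j ∈ S, σ j ∈ S) :
    a * S.card ≤ r * finrank F ↥(fixE y ⊓ ⨆ i ∈ S, D i) := by
  induction S using Finset.strongInduction with
  | H S ih =>
    rcases S.eq_empty_or_nonempty with hemp | ⟨j, hj⟩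
    · rw [hemp]
      simp
    · set O := orb r σ j with hO
      have hOS : O ⊆ S := orb_subset r σ S hS j hj
      have hjO : j ∈ O := self_mem_orb r σ j
      have hσr : (σ ^ r) j = j := dec_sigma_pow y r a D σ hy ha hfin hind hmap j
      have hS' : ∀ x ∈ S \ O, σ x ∈ S \ O := by
        intro x hx
        rw [Finset.mem_sdiff] at hx ⊢
        exact ⟨hS x hx.1, fun h => hx.2 (mem_orb_of_apply_mem r σ j hσr x h)⟩
      have hlt : S \ O ⊂ S := by
        refine Finset.ssubset_iff_subset_ne.2 ⟨Finset.sdiff_subset, fun h => ?_⟩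
        have : j ∈ S \ O := by rw [h]; exact hj
        exact (Finset.mem_sdiff.1 this).2 hjO
      have hIH := ih (S \ O) hlt hS'
      have hcard : (S \ O).card + O.card = S.card := Finset.card_sdiff_add_card_eq_card hOS
      have hO1 : a ≤ finrank F ↥(fixE y ⊓ ⨆ i ∈ O, D i) :=
        le_finrank_orb y r a D σ hy ha hfin hind hmap hfixE j
      have hO2 : O.card ≤ r := card_orb_le r σ j
      have hdisj : Disjoint (⨆ i ∈ O, D i) (⨆ i ∈ S \ O, D i) :=
        biSup_disjoint_of_disjoint D hind O (S \ O) Finset.disjoint_sdiff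
      have hdisj' : Disjoint (fixE y ⊓ ⨆ i ∈ O, D i) (fixE y ⊓ ⨆ i ∈ S \ O, D i) :=
        hdisj.mono inf_le_right inf_le_right
      have hle : (fixE y ⊓ ⨆ i ∈ O, D i) ⊔ (fixE y ⊓ ⨆ i ∈ S \ O, D i) ≤
          fixE y ⊓ ⨆ i ∈ S, D i := by
        refine sup_le (inf_le_inf le_rfl ?_) (inf_le_inf le_rfl ?_)
        · exact biSup_mono fun i hi => hOS hi
        · exact biSup_mono fun i hi => (Finset.mem_sdiff.1 hi).1
      have h1 := Submodule.finrank_mono hle
      have h2 := Submodule.finrank_sup_add_finrank_inf_eq (fixE y ⊓ ⨆ i ∈ O, D i)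
        (fixE y ⊓ ⨆ i ∈ S \ O, D i)
      rw [hdisj'.eq_bot, finrank_bot, add_zero] at h2
      rw [← hcard]
      calc a * ((S \ O).card + O.card) = a * (S \ O).card + a * O.card := by ring
        _ ≤ r * finrank F ↥(fixE y ⊓ ⨆ i ∈ S \ O, D i) + r * a := by
            have : a * O.card ≤ a * r := Nat.mul_le_mul_left _ hO2
            nlinarith
        _ ≤ r * finrank F ↥(fixE y ⊓ ⨆ i ∈ S \ O, D i) +
              r * finrank F ↥(fixE y ⊓ ⨆ i ∈ O, D i) := by
            have := Nat.mul_le_mul_left r hO1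
            omega
        _ = r * (finrank F ↥(fixE y ⊓ ⨆ i ∈ O, D i) +
              finrank F ↥(fixE y ⊓ ⨆ i ∈ S \ O, D i)) := by ring
        _ ≤ r * finrank F ↥(fixE y ⊓ ⨆ i ∈ S, D i) := by
            apply Nat.mul_le_mul_left
            omega

theorem lines_bound [Fintype ι] (hy : y ^ r = 1)
    (ha : 0 < a) (hfin : ∀ i, finrank F (D i) = a)
    (hind : iSupIndep D) (hsup : iSup D = ⊤) (hmap : ∀ j, (D j).map y = D (σ j))
    (hfixE : ∀ l, σ l = l → D l ≤ fixE y) :
    a * Fintype.card ι ≤ r * finrank F (fixE y) := by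
  have h := lines_bound_aux y r a D σ hy ha hfin hind hmap hfixE Finset.univ
    (fun _ _ => Finset.mem_univ _)
  have h2 : (⨆ i ∈ (Finset.univ : Finset ι), D i) = ⊤ := by
    rw [← hsup]
    simp
  rw [h2, inf_top_eq, Finset.card_univ] at h
  exact h

end linesbound

end Cfsg.Agent.Lib.Helper12.Elus
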