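import Mathlib
import Cfsg.Agent.Lib.Helper12.DecG

set_option autoImplicit false

namespace Cfsg.Agent.Lib.Helper12.Elus

open Module Polynomial

section small

variable {F V : Type*} [Field F] [Fintype F] [AddCommGroup V] [Module F V] [FiniteDimensional F V]
  {ι : Type*} (y : V →ₗ[F] V) (r : ℕ) [Fact r.Prime] (a : ℕ) (D : ι → Submodule F V)
  (σ : Equiv.Perm ι)

theorem movR_le_cyc (hy : y ^ r = 1) (hr0 : (r : F) ≠ 0)
    (hind : iSupIndep D) (hmap : ∀ j, (D j).map y = D (σ j))
    (hR : finrank F (movR y) = orderOf (Fintype.card F : ZMod r))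
    (τ : ι) (hτ : σ τ ≠ τ) (v : V) (hv : v ∈ D τ) (hv0 : v ≠ 0) : movR y ≤ cyc y v r := by
  have hr : r.Prime := Fact.out
  set Z := cyc y v r with hZ
  have hZinv : ∀ u ∈ Z, y u ∈ Z :=
    cyc_invariant_of_pow y r hr.pos 1 (by rw [hy, one_smul]) v
  have hvZ : v ∈ Z := self_mem_cyc y v r hr.pos
  have h1 := finrank_eq_fix_add_map y Z
  obtain ⟨m, hm⟩ : orderOf (Fintype.card F : ZMod r) ∣ finrank F ↥(Z.map (y - 1)) :=
    orderOf_dvd_finrank_of_le_movR y r hy hr0 _ (map_sub_one_invariant y Z hZinv)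
      (map_sub_one_le_movR y Z)
  have hm0 : m ≠ 0 := by
    intro h0
    rw [h0, mul_zero] at hm
    rw [hm, add_zero] at h1
    have h2 : Z ⊓ fixE y = Z := Submodule.eq_of_le_of_finrank_eq inf_le_left h1.symm
    have h3 : v ∈ fixE y := (inf_eq_left.1 h2) hvZ
    have h4 : y v = v := (mem_fixE y v).1 h3
    have h5 : y v ∈ D (σ τ) := by
      rw [← hmap τ]
      exact ⟨v, hv, rfl⟩
    rw [h4] at h5
    have h6 : Disjoint (D τ) (D (σ τ)) := hind.pairwiseDisjoint (Ne.symm hτ)
    have h7 : v ∈ D τ ⊓ D (σ τ) := ⟨hv, h5⟩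
    rw [h6.eq_bot] at h7
    exact hv0 ((Submodule.mem_bot F).1 h7)
  have hge : finrank F (movR y) ≤ finrank F ↥(Z.map (y - 1)) := by
    rw [hR, hm]
    exact Nat.le_mul_of_pos_right _ (Nat.pos_of_ne_zero hm0)
  have heq : Z.map (y - 1) = movR y :=
    Submodule.eq_of_le_of_finrank_le (map_sub_one_le_movR y Z) hge
  rw [← heq]
  exact map_sub_one_le y Z hZinv

theorem contra_small [Fintype ι] (hy : y ^ r = 1) (hr0 : (r : F) ≠ 0) (ha2 : 2 ≤ a)
    (hac : a < orderOf (Fintype.card F : ZMod r))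
    (hfin : ∀ i, finrank F (D i) = a) (hind : iSupIndep D) (hsup : iSup D = ⊤)
    (hmap : ∀ j, (D j).map y = D (σ j))
    (hR : finrank F (movR y) = orderOf (Fintype.card F : ZMod r)) : False := by
  have hr : r.Prime := Fact.out
  have ha : 0 < a := by omega
  by_cases hall : ∀ l, σ l = l
  · have hle : ∀ l, D l ≤ fixE y := fun l =>
      dec_fixed_le_fixE y r a D σ hy hr0 hfin hmap hac l (hall l)
    have htop : fixE y = ⊤ := by
      rw [eq_top_iff, ← hsup]
      exact iSup_le hle
    have := finrank_fix_add_mov y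
    rw [htop, finrank_top] at this
    omega
  · push Not at hall
    obtain ⟨τ, hτ⟩ := hall
    obtain ⟨v, hv, hv0⟩ := dec_exists_ne_zero a D ha hfin τ
    have hx0 : (⟨v, hv⟩ : D τ) ≠ 0 := fun h => hv0 (congrArg Subtype.val h)
    obtain ⟨⟨v', hv'⟩, hli⟩ := exists_linearIndependent_pair_of_one_lt_finrank
      (R := F) (M := D τ) (by rw [hfin τ]; omega) hx0
    rw [LinearIndependent.pair_iff] at hli
    have hv'0 : v' ≠ 0 := by
      rintro rfl
      have := hli 0 1 (by
        rw [zero_smul, zero_add, one_smul]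
        rfl)
      exact one_ne_zero this.2
    have h1 := movR_le_cyc y r D σ hy hr0 hind hmap hR τ hτ v hv hv0
    have h2 := movR_le_cyc y r D σ hy hr0 hind hmap hR τ hτ v' hv' hv'0
    have hRpos : 0 < finrank F (movR y) := by rw [hR]; omega
    obtain ⟨⟨w, hwR⟩, hw0'⟩ := (Module.finrank_pos_iff_exists_ne_zero (R := F)).1 hRpos
    have hw0 : w ≠ 0 := fun h => hw0' (Subtype.ext h)
    have hw1 := h1 hwR
    have hw2 := h2 hwR
    rw [cyc, Submodule.mem_span_range_iff_exists_fun] at hw1 hw2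
    obtain ⟨p, hp⟩ := hw1
    obtain ⟨p', hp'⟩ := hw2
    have hinj := dec_orbit_inj y r a D σ hy ha hfin hind hmap τ hτ
    have hind' : iSupIndep (D ∘ fun i : Fin r => (σ ^ (i : ℕ)) τ) := hind.comp hinj
    rw [iSupIndep_iff_finsetSum_eq_zero_imp_eq_zero] at hind'
    have hzero := hind' Finset.univ
      (fun i => (y ^ (i : ℕ)) (p i • v - p' i • v')) (fun i _ => by
        apply dec_pow_mem y D σ hmap i τ
        exact Submodule.sub_mem _ (Submodule.smul_mem _ _ hv) (Submodule.smul_mem _ _ hv'))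
      (by
        simp only [map_sub, map_smul, Finset.sum_sub_distrib]
        rw [hp, hp', sub_self])
    have hyinj : ∀ i : ℕ, Function.Injective (y ^ i) := by
      intro i
      have h1 : (y ^ i) ^ r = (1 : F) • 1 := by
        rw [← pow_mul, mul_comm, pow_mul, hy, one_pow, one_smul]
      exact injective_of_pow_eq_smul _ r hr.pos 1 one_ne_zero h1
    have hp0 : ∀ i, p i = 0 := by
      intro i
      have h3 := hzero i (Finset.mem_univ _)
      have h4 : p i • v - p' i • v' = 0 := by
        apply hyinj i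
        rw [h3, map_zero]
      have h5 := hli (p i) (-(p' i)) (by
        apply Subtype.ext
        show p i • v + (-(p' i)) • v' = 0
        rw [neg_smul, ← sub_eq_add_neg]
        exact h4)
      exact h5.1
    apply hw0
    rw [← hp]
    simp [hp0]

end small

end Cfsg.Agent.Lib.Helper12.Elus
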