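import Mathlib
import Cfsg.Agent.Lib.Helper12.DecH

set_option autoImplicit false

namespace Cfsg.Agent.Lib.Helper12.Elus

open Module Polynomial

section model2

variable {F : Type*} [Field F]

theorem exists_transfer' {V' : Type*} [AddCommGroup V'] [Module F V'] [FiniteDimensional F V']
    (n : ℕ) (hdim : finrank F V' = n) (f' : V' →ₗ[F] V') :
    ∃ f : (Fin n → F) →ₗ[F] (Fin n → F),
      (∀ P : F[X], aeval f' P = 0 → aeval f P = 0) ∧
      finrank F (fixE f) = finrank F (fixE f') := by
  have e : V' ≃ₗ[F] (Fin n → F) :=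
    LinearEquiv.ofFinrankEq _ _ (by rw [hdim, Module.finrank_fin_fun])
  refine ⟨e.conjAlgEquiv F f', ?_, ?_⟩
  · intro P h
    rw [aeval_algHom_apply, h, map_zero]
  · have heq : fixE (e.conjAlgEquiv F f') = (fixE f').map (e : V' →ₗ[F] (Fin n → F)) := by
      apply le_antisymm
      · intro v hv
        rw [mem_fixE, LinearEquiv.conjAlgEquiv_apply] at hv
        refine ⟨e.symm v, ?_, by simp⟩
        show e.symm v ∈ fixE f'
        rw [mem_fixE]
        apply e.injective
        simpa using hv
      · rintro _ ⟨v, hv, rfl⟩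
        have hv' : f' v = v := (mem_fixE f' v).1 hv
        rw [mem_fixE, LinearEquiv.conjAlgEquiv_apply]
        simp [hv']
    rw [heq]
    exact LinearEquiv.finrank_map_eq e _

end model2

section model3

variable {F : Type*} [Field F] [Fintype F]

theorem exists_model {p : ℕ} [Fact p.Prime] [CharP F p] (r : ℕ) [Fact r.Prime] (hrp : r ≠ p)
    (n ν b : ℕ) (hn : n = ν + orderOf (Fintype.card F : ZMod r) * b) :
    ∃ f : (Fin n → F) →ₗ[F] (Fin n → F), f ^ r = 1 ∧ finrank F (fixE f) = ν ∧
      ∃ P : F[X], P ≠ 0 ∧ P.natDegree ≤ orderOf (Fintype.card F : ZMod r) + 1 ∧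
        aeval f P = 0 := by
  set c₀ := orderOf (Fintype.card F : ZMod r) with hc₀
  haveI : NeZero c₀ := ⟨(orderOf_card_pos r hrp).ne'⟩
  let K := FiniteField.Extension F p c₀
  have hKcard : Nat.card K = Fintype.card F ^ c₀ := by
    rw [FiniteField.natCard_extension, Nat.card_eq_fintype_card]
  have hKrank : finrank F K = c₀ := FiniteField.finrank_extension F p c₀
  have hdvd : r ∣ Nat.card Kˣ := by
    rw [Nat.card_units, hKcard]
    exact dvd_pow_orderOf_sub_one r _ Fintype.card_pos
  obtain ⟨ζ, hζ⟩ := exists_prime_orderOf_dvd_card' r hdvd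
  have hζr : (ζ : K) ^ r = 1 := by
    rw [← Units.val_pow_eq_pow_val, ← hζ, pow_orderOf_eq_one, Units.val_one]
  have hζ1 : (ζ : K) ≠ 1 := by
    intro h
    have h1 : ζ = 1 := Units.ext h
    rw [h1, orderOf_one] at hζ
    exact (Fact.out : r.Prime).one_lt.ne hζ
  let g : (Fin b → K) →ₗ[F] (Fin b → K) := Algebra.lsmul F F (Fin b → K) (ζ : K)
  let f' : ((Fin ν → F) × (Fin b → K)) →ₗ[F] ((Fin ν → F) × (Fin b → K)) :=
    LinearMap.prodMapAlgHom F (Fin ν → F) (Fin b → K) (1, g)
  have haeval : ∀ P : F[X], P.eval 1 = 0 → aeval (ζ : K) P = 0 → aeval f' P = 0 := by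
    intro P h1 h2
    show aeval (LinearMap.prodMapAlgHom F (Fin ν → F) (Fin b → K) (1, g)) P = 0
    rw [aeval_algHom_apply, aeval_prod_apply]
    have e1 : aeval (1 : Module.End F (Fin ν → F)) P = 0 := by
      have h0 : (1 : Module.End F (Fin ν → F)) = algebraMap F _ 1 := (map_one _).symm
      rw [h0, aeval_algebraMap_apply_eq_algebraMap_eval, h1, map_zero]
    have e2 : aeval g P = 0 := by
      show aeval (Algebra.lsmul F F (Fin b → K) (ζ : K)) P = 0
      rw [aeval_algHom_apply, h2, map_zero]
    rw [e1, e2]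
    exact map_zero _
  have hf' : f' ^ r = 1 := by
    have := haeval (X ^ r - 1) (by simp) (by simp [hζr])
    rwa [map_sub, map_pow, aeval_X, map_one, sub_eq_zero] at this
  have hfix : finrank F (fixE f') = ν := by
    have hE : fixE f' = LinearMap.ker (LinearMap.snd F (Fin ν → F) (Fin b → K)) := by
      ext ⟨a, z⟩
      rw [mem_fixE, LinearMap.mem_ker]
      show (a, (ζ : K) • z) = (a, z) ↔ z = 0
      constructor
      · intro h
        have h2 : ((ζ : K) • z) = z := congrArg Prod.snd h
        have h3 : ((ζ : K) - 1) • z = 0 := by rw [sub_smul, one_smul, h2, sub_self]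
        rcases smul_eq_zero.1 h3 with h | h
        · exact absurd (sub_eq_zero.1 h) hζ1
        · exact h
      · rintro rfl
        rw [smul_zero]
    rw [hE]
    have h1 := LinearMap.finrank_range_add_finrank_ker (LinearMap.snd F (Fin ν → F) (Fin b → K))
    rw [LinearMap.range_eq_top.2 LinearMap.snd_surjective, finrank_top, Module.finrank_prod] at h1
    have h2 : finrank F (Fin ν → F) = ν := Module.finrank_fin_fun F
    omega
  have hdim : finrank F ((Fin ν → F) × (Fin b → K)) = n := by
    rw [Module.finrank_prod, Module.finrank_fin_fun, Module.finrank_pi_fintype, Finset.sum_const,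
      Finset.card_univ, Fintype.card_fin, hKrank, hn, smul_eq_mul, mul_comm]
  obtain ⟨f, hf, hfE⟩ := exists_transfer' n hdim f'
  refine ⟨f, ?_, by rw [hfE, hfix], (X - 1) * minpoly F (ζ : K), ?_, ?_, ?_⟩
  · have := hf (X ^ r - 1) (by
      rw [map_sub, map_pow, aeval_X, map_one, hf', sub_self])
    rwa [map_sub, map_pow, aeval_X, map_one, sub_eq_zero] at this
  · have hint : IsIntegral F (ζ : K) := Algebra.IsIntegral.isIntegral _
    exact mul_ne_zero (X_sub_C_ne_zero 1) (minpoly.ne_zero hint)
  · have hint : IsIntegral F (ζ : K) := Algebra.IsIntegral.isIntegral _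
    have h1 : ((X - 1 : F[X]) * minpoly F (ζ : K)).natDegree ≤
        (X - 1 : F[X]).natDegree + (minpoly F (ζ : K)).natDegree := natDegree_mul_le
    have h2 : (X - 1 : F[X]).natDegree = 1 := by
      have := natDegree_X_sub_C (1 : F)
      rwa [map_one] at this
    have h3 : (minpoly F (ζ : K)).natDegree ≤ c₀ :=
      le_trans (minpoly.natDegree_le _) (le_of_eq hKrank)
    omega
  · apply hf
    apply haeval
    · simp
    · rw [map_mul, minpoly.aeval, mul_zero]

end model3

end Cfsg.Agent.Lib.Helper12.Elus
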