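import Mathlib
import Cfsg.Agent.Lib.Helper12.DecI

set_option autoImplicit false

namespace Cfsg.Agent.Lib.Helper12.Elus

open Module Polynomial

section fwd

universe u

variable {F : Type u} [Field F] [Fintype F]

theorem finish_fixed (n a t c k : ℕ) (hat : n = a * t) (hcn : c ≤ n) (hc : 0 < c)
    (hk : k = n % c) (hle : t * (a % c) ≤ k) : c ≤ a ∧ n % c = t * (a % c) := by
  have hklt : k < c := by rw [hk]; exact Nat.mod_lt _ hc
  have h1 : a * t ≡ (a % c) * t [MOD c] := (Nat.mod_modEq a c).symm.mul_right t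
  have h2 : (a % c) * t % c = (a % c) * t := Nat.mod_eq_of_lt (by rw [mul_comm]; omega)
  have h3 : n % c = t * (a % c) := by
    rw [hat, h1, h2, mul_comm]
  refine ⟨?_, h3⟩
  by_contra hac
  push Not at hac
  rw [Nat.mod_eq_of_lt hac] at h3
  have h4 : n % c = n := by rw [h3, hat, mul_comm]
  have h5 : n % c < c := Nat.mod_lt _ hc
  omega

theorem model_dec {p : ℕ} [Fact p.Prime] [CharP F p] (n a t : ℕ) (r : ℕ) [Fact r.Prime]
    (hrp : r ≠ p) (hrq : ¬ r ∣ Fintype.card F - 1)
    (H : ∀ f : (Fin n → F) →ₗ[F] (Fin n → F), LinearMap.det f = 1 →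
      (∃ z : F, f ^ r = z • 1) → (∀ z : F, f ≠ z • 1) → DecP n a t f)
    (ν b : ℕ) (hn : n = ν + orderOf (Fintype.card F : ZMod r) * b) (hν : ν < n) :
    ∃ f : (Fin n → F) →ₗ[F] (Fin n → F), f ^ r = 1 ∧ finrank F (fixE f) = ν ∧
      (∃ P : F[X], P ≠ 0 ∧ P.natDegree ≤ orderOf (Fintype.card F : ZMod r) + 1 ∧
        aeval f P = 0) ∧ DecP n a t f := by
  have hr : r.Prime := Fact.out
  obtain ⟨f, hf, hfix, hP⟩ := exists_model (F := F) r hrp n ν b hn
  have hfin : finrank F (Fin n → F) = n := Module.finrank_fin_fun F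
  have hnpos : 0 < n := by omega
  have hdf : LinearMap.det f = 1 :=
    eq_one_of_pow_eq_one_of_coprime r hr hrq _ (by rw [← map_pow, hf, map_one])
  have hns : ∀ d : F, f ≠ d • 1 := by
    intro d hd
    have h1 : d ^ r • (1 : (Fin n → F) →ₗ[F] (Fin n → F)) = (1 : F) • 1 := by
      rw [one_smul]
      calc d ^ r • (1 : (Fin n → F) →ₗ[F] (Fin n → F)) = (d • 1) ^ r := by
            rw [_root_.smul_pow, one_pow]
        _ = f ^ r := by rw [hd]
        _ = 1 := hf
    have h2 : d ^ r = 1 := smul_one_inj (by rw [hfin]; exact hnpos) _ _ h1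
    have h3 : d = 1 := eq_one_of_pow_eq_one_of_coprime r hr hrq d h2
    rw [h3, one_smul] at hd
    have h4 : fixE f = ⊤ := by
      rw [eq_top_iff]
      intro v _
      rw [mem_fixE, hd, Module.End.one_apply]
    rw [h4, finrank_top, hfin] at hfix
    omega
  exact ⟨f, hf, hfix, hP, H f hdf ⟨1, by rw [hf, one_smul]⟩ hns⟩

theorem dec_fwd {p : ℕ} [Fact p.Prime] [CharP F p] (n a t : ℕ) (hat : n = a * t) (ha : 1 ≤ a)
    (ht : 2 ≤ t) (r : ℕ) [Fact r.Prime] (hrp : r ≠ p)
    (hc2 : 2 ≤ orderOf (Fintype.card F : ZMod r)) (hcn : orderOf (Fintype.card F : ZMod r) ≤ n)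
    (H : ∀ f : (Fin n → F) →ₗ[F] (Fin n → F), LinearMap.det f = 1 →
      (∃ z : F, f ^ r = z • 1) → (∀ z : F, f ≠ z • 1) → DecP n a t f) :
    (a = 1 ∧ 1 < orderOf (Fintype.card F : ZMod r) ∧
        orderOf (Fintype.card F : ZMod r) = r - 1 ∧
        n ≤ (n % orderOf (Fintype.card F : ZMod r)) * r) ∨
      (orderOf (Fintype.card F : ZMod r) ≤ a ∧
        n % orderOf (Fintype.card F : ZMod r) = t * (a % orderOf (Fintype.card F : ZMod r))) := by
  have hr : r.Prime := Fact.out
  have hr0 : (r : F) ≠ 0 := by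
    rw [Ne, CharP.cast_eq_zero_iff F p]
    intro hd
    exact hrp ((Nat.prime_dvd_prime_iff_eq Fact.out Fact.out).1 hd).symm
  set c := orderOf (Fintype.card F : ZMod r) with hc
  have hcpos : 0 < c := by omega
  have hrq : ¬ r ∣ Fintype.card F - 1 := by
    intro h
    have := (orderOf_card_eq_one_iff (F := F) r).2 h
    omega
  have hcr : c ≤ r - 1 := by
    have h0 : (Fintype.card F : ZMod r) ≠ 0 := by
      rw [Ne, ZMod.natCast_eq_zero_iff]
      exact card_not_dvd r hr hrp
    have hd := ZMod.orderOf_dvd_card_sub_one h0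
    exact Nat.le_of_dvd (by have := hr.two_le; omega) hd
  have hdecomp : n = n % c + c * (n / c) := (Nat.mod_add_div n c).symm
  have hb1 : 1 ≤ n / c := (Nat.le_div_iff_mul_le hcpos).2 (by rw [one_mul]; exact hcn)
  have hklt : n % c < c := Nat.mod_lt _ hcpos
  have hkn : n % c < n := by
    have : c * 1 ≤ c * (n / c) := Nat.mul_le_mul_left _ hb1
    omega
  have hcardt : Fintype.card (Fin t) = t := Fintype.card_fin t
  -- the generic conclusion when all blocks are fixed
  have fixed_case : ∀ (f : (Fin n → F) →ₗ[F] (Fin n → F)) (D : Fin t → Submodule F (Fin n → F))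
      (σ : Equiv.Perm (Fin t)), f ^ r = 1 → finrank F (fixE f) = n % c →
      (∀ i, finrank F (D i) = a) → iSupIndep D → (∀ j, (D j).map f = D (σ j)) →
      (∀ l, σ l = l) → c ≤ a ∧ n % c = t * (a % c) := by
    intro f D σ hf hfix hfin hind hmap hall
    have hb := all_fixed_bound f r a D σ hf hr0 hfin hind hmap hall
    rw [hcardt, hfix] at hb
    exact finish_fixed n a t c (n % c) hat hcn hcpos rfl hb
  rcases Nat.lt_or_ge c (r - 1) with hlt | hge
  · -- c < r - 1
    right
    obtain ⟨f, hf, hfix, ⟨P, hP0, hPdeg, hPf⟩, D, hD, σ, hmap⟩ :=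
      model_dec n a t r hrp hrq H (n % c) (n / c) hdecomp hkn
    have hall : ∀ l, σ l = l := fun l =>
      no_moved_of_poly f r a D σ hf ha hD.finrank_eq hD.indep hmap P hP0 (by omega) hPf l
    exact fixed_case f D σ hf hfix hD.finrank_eq hD.indep hmap hall
  · have hceq : c = r - 1 := le_antisymm hcr hge
    rcases Nat.lt_or_ge a c with hac | hca
    · rcases Nat.lt_or_ge a 2 with ha2 | ha2
      · -- a = 1
        left
        have ha1 : a = 1 := by omega
        obtain ⟨f, hf, hfix, -, D, hD, σ, hmap⟩ :=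
          model_dec n a t r hrp hrq H (n % c) (n / c) hdecomp hkn
        have hfixE : ∀ l, σ l = l → D l ≤ fixE f := fun l hl =>
          dec_fixed_le_fixE f r a D σ hf hr0 hD.finrank_eq hmap hac l hl
        have hb := lines_bound f r a D σ hf ha hD.finrank_eq hD.indep hD.iSup_eq_top hmap hfixE
        rw [hcardt, hfix, ← hat] at hb
        refine ⟨ha1, by omega, hceq, ?_⟩
        rw [mul_comm]
        exact hb
      · -- 2 ≤ a < c
        exfalso
        have hn' : n = (n - c) + c * 1 := by omega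
        obtain ⟨f, hf, hfix, -, D, hD, σ, hmap⟩ :=
          model_dec n a t r hrp hrq H (n - c) 1 hn' (by omega)
        have hR : finrank F (movR f) = c := by
          have := finrank_fix_add_mov f
          rw [hfix, Module.finrank_fin_fun] at this
          omega
        exact contra_small f r a D σ hf hr0 ha2 hac hD.finrank_eq hD.indep hD.iSup_eq_top hmap hR
    · -- c ≤ a
      right
      obtain ⟨f, hf, hfix, -, D, hD, σ, hmap⟩ :=
        model_dec n a t r hrp hrq H (n % c) (n / c) hdecomp hkn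
      have hall : ∀ l, σ l = l := by
        intro l
        by_contra hl
        have := le_finrank_fixE_of_moved f r a D σ hf ha hD.finrank_eq hD.indep hmap l hl
        omega
      exact fixed_case f D σ hf hfix hD.finrank_eq hD.indep hmap hall

end fwd

end Cfsg.Agent.Lib.Helper12.Elus
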