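import Mathlib
import Cfsg.Agent.Lib.Helper12.DecJ

set_option autoImplicit false

namespace Cfsg.Agent.Lib.Helper12.Elus

open Module Polynomial

section counting

universe u

variable {F : Type u} [Field F] {n a t : ℕ}

/-- the set of decompositions -/
abbrev DecSet (F : Type u) [Field F] (n a t : ℕ) : Type u :=
  {D : Fin t → Submodule F (Fin n → F) // Cfsg.Geo.IsMDecomposition a D}

theorem isMDec_comp (D : Fin t → Submodule F (Fin n → F)) (hD : Cfsg.Geo.IsMDecomposition a D)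
    (σ : Equiv.Perm (Fin t)) : Cfsg.Geo.IsMDecomposition a (D ∘ σ) :=
  ⟨hD.two_le, hD.pos, fun i => hD.finrank_eq _, hD.indep.comp σ.injective, by
    rw [← hD.iSup_eq_top]
    exact σ.iSup_comp (g := D)⟩

/-- permutation action on decompositions -/
@[reducible]
def permAct (F : Type u) [Field F] (n a t : ℕ) :
    MulAction (Equiv.Perm (Fin t)) (DecSet F n a t) where
  smul σ D := ⟨D.1 ∘ σ.symm, isMDec_comp D.1 D.2 σ.symm⟩
  one_smul D := by
    apply Subtype.ext
    rfl
  mul_smul σ τ D := by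
    apply Subtype.ext
    rfl

theorem factorial_dvd_card_decSet [Finite F] :
    t.factorial ∣ Nat.card (DecSet F n a t) := by
  letI := permAct F n a t
  have hfree : ∀ D : DecSet F n a t, MulAction.stabilizer (Equiv.Perm (Fin t)) D = ⊥ := by
    intro D
    rw [eq_bot_iff]
    intro σ hσ
    rw [MulAction.mem_stabilizer_iff] at hσ
    rw [Subgroup.mem_bot]
    have hinj : Function.Injective D.1 :=
      dec_injective a D.1 D.2.pos D.2.finrank_eq D.2.indep
    have h1 : D.1 ∘ σ.symm = D.1 := congrArg Subtype.val hσ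
    apply Equiv.ext
    intro j
    have h2 := congrFun h1 (σ j)
    simp only [Function.comp_apply, Equiv.symm_apply_apply] at h2
    rw [Equiv.Perm.one_apply]
    exact (hinj h2).symm
  have e := MulAction.selfEquivOrbitsQuotientProd hfree
  rw [Nat.card_congr e, Nat.card_prod, Nat.card_perm, Nat.card_eq_fintype_card (α := Fin t),
    Fintype.card_fin]
  exact dvd_mul_left _ _

theorem isMDec_map (D : Fin t → Submodule F (Fin n → F)) (hD : Cfsg.Geo.IsMDecomposition a D)
    (g : (Fin n → F) ≃ₗ[F] (Fin n → F)) :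
    Cfsg.Geo.IsMDecomposition a (fun j => (D j).map (g : (Fin n → F) →ₗ[F] (Fin n → F))) :=
  ⟨hD.two_le, hD.pos, fun i => by rw [LinearEquiv.finrank_map_eq g, hD.finrank_eq],
    LinearMap.iSupIndep_map _ g.injective hD.indep, by
      rw [← Submodule.map_iSup, hD.iSup_eq_top, Submodule.map_top, LinearMap.range_eq_top]
      exact g.surjective⟩

/-- linear action on decompositions -/
@[reducible]
def glAct (F : Type u) [Field F] (n a t : ℕ) :
    MulAction ((Fin n → F) ≃ₗ[F] (Fin n → F)) (DecSet F n a t) where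
  smul g D := ⟨fun j => (D.1 j).map (g : (Fin n → F) →ₗ[F] (Fin n → F)), isMDec_map D.1 D.2 g⟩
  one_smul D := by
    apply Subtype.ext
    funext j
    show (D.1 j).map ((1 : (Fin n → F) ≃ₗ[F] (Fin n → F)) : (Fin n → F) →ₗ[F] (Fin n → F)) = D.1 j
    ext v
    simp
  mul_smul g h D := by
    apply Subtype.ext
    funext j
    show (D.1 j).map ((g * h : (Fin n → F) ≃ₗ[F] (Fin n → F)) : (Fin n → F) →ₗ[F] (Fin n → F)) =
      ((D.1 j).map (h : (Fin n → F) →ₗ[F] (Fin n → F))).map (g : (Fin n → F) →ₗ[F] (Fin n → F))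
    rw [← Submodule.map_comp]
    rfl

theorem exists_equiv_of_dec (D D' : Fin t → Submodule F (Fin n → F))
    (hD : Cfsg.Geo.IsMDecomposition a D) (hD' : Cfsg.Geo.IsMDecomposition a D') :
    ∃ g : (Fin n → F) ≃ₗ[F] (Fin n → F),
      ∀ j, (D j).map (g : (Fin n → F) →ₗ[F] (Fin n → F)) = D' j := by
  classical
  have e : ∀ j, D j ≃ₗ[F] D' j := fun j =>
    LinearEquiv.ofFinrankEq _ _ (by rw [hD.finrank_eq, hD'.finrank_eq])
  let E := hD.indep.linearEquiv hD.iSup_eq_top
  let E' := hD'.indep.linearEquiv hD'.iSup_eq_top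
  let M : (Π₀ j, D j) ≃ₗ[F] (Π₀ j, D' j) := DFinsupp.mapRange.linearEquiv e
  let g : (Fin n → F) ≃ₗ[F] (Fin n → F) := (E.symm.trans M).trans E'
  refine ⟨g, fun j => ?_⟩
  have hle : (D j).map (g : (Fin n → F) →ₗ[F] (Fin n → F)) ≤ D' j := by
    rintro _ ⟨v, hv, rfl⟩
    show E' (M (E.symm v)) ∈ D' j
    have h1 : E.symm v = DFinsupp.single j ⟨v, hv⟩ :=
      iSupIndep.linearEquiv_symm_apply hD.indep hD.iSup_eq_top hv
    rw [h1]
    have h2 : M (DFinsupp.single j ⟨v, hv⟩) = DFinsupp.single j (e j ⟨v, hv⟩) := by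
      show DFinsupp.mapRange.linearEquiv e (DFinsupp.single j ⟨v, hv⟩) = _
      simp
    rw [h2]
    have h3 : E' (DFinsupp.single j (e j ⟨v, hv⟩)) = ((e j ⟨v, hv⟩ : D' j) : Fin n → F) := by
      show hD'.indep.linearEquiv hD'.iSup_eq_top (DFinsupp.single j (e j ⟨v, hv⟩)) = _
      simp
    rw [h3]
    exact (e j ⟨v, hv⟩).2
  apply Submodule.eq_of_le_of_finrank_eq hle
  rw [LinearEquiv.finrank_map_eq g, hD.finrank_eq, hD'.finrank_eq]

theorem card_decSet_dvd (hne : Nonempty (DecSet F n a t)) :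
    Nat.card (DecSet F n a t) ∣ Nat.card (GL (Fin n) F) := by
  letI := glAct F n a t
  obtain ⟨D₀⟩ := hne
  have h1 : Nat.card (MulAction.orbit ((Fin n → F) ≃ₗ[F] (Fin n → F)) D₀) *
      Nat.card (MulAction.stabilizer ((Fin n → F) ≃ₗ[F] (Fin n → F)) D₀) =
      Nat.card ((Fin n → F) ≃ₗ[F] (Fin n → F)) := by
    rw [← Nat.card_prod]
    exact Nat.card_congr (MulAction.orbitProdStabilizerEquivGroup _ D₀)
  have h2 : MulAction.orbit ((Fin n → F) ≃ₗ[F] (Fin n → F)) D₀ = Set.univ := by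
    rw [Set.eq_univ_iff_forall]
    intro D
    obtain ⟨g, hg⟩ := exists_equiv_of_dec D₀.1 D.1 D₀.2 D.2
    refine ⟨g, ?_⟩
    apply Subtype.ext
    funext j
    exact hg j
  have h3 : Nat.card (MulAction.orbit ((Fin n → F) ≃ₗ[F] (Fin n → F)) D₀) =
      Nat.card (DecSet F n a t) := by
    rw [h2]
    exact Nat.card_congr (Equiv.Set.univ _)
  have h4 : Nat.card ((Fin n → F) ≃ₗ[F] (Fin n → F)) = Nat.card (GL (Fin n) F) := by
    refine Nat.card_congr ?_
    exact ((Matrix.GeneralLinearGroup.toLin (n := Fin n) (R := F)).trans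
      (LinearMap.GeneralLinearGroup.generalLinearEquiv F (Fin n → F))).toEquiv.symm
  rw [← h4, ← h1, h3]
  exact dvd_mul_right _ _

theorem orderOf_le_of_dvd_decSet [Fintype F] {p : ℕ} [Fact p.Prime] [CharP F p]
    (hat : n = a * t) (ha : 1 ≤ a) (ht : 2 ≤ t) (r : ℕ) [Fact r.Prime] (hrp : r ≠ p)
    (hΩ : r ∣ Nat.card (DecSet F n a t) / t.factorial) :
    orderOf (Fintype.card F : ZMod r) ≤ n := by
  have hr : r.Prime := Fact.out
  have hfin : finrank F (Fin n → F) = n := Module.finrank_fin_fun F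
  have hne : Nonempty (DecSet F n a t) := by
    have h1 := hasDec_split (F := F) a ha (Fin n → F) 1 (one_pow _) t (by rw [hfin, hat])
    obtain ⟨D, hD, -⟩ := decP_of_hasDec n a t ha ht 1 h1
    exact ⟨⟨D, hD⟩⟩
  have hX : r ∣ Nat.card (DecSet F n a t) := by
    have h1 := Nat.mul_div_cancel' (factorial_dvd_card_decSet (F := F) (n := n) (a := a) (t := t))
    rw [← h1]
    exact Dvd.dvd.mul_left hΩ _
  have hGL : r ∣ Nat.card (GL (Fin n) F) := hX.trans (card_decSet_dvd hne)
  rw [Matrix.card_GL_field] at hGL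
  obtain ⟨i, -, hi⟩ := (Prime.dvd_finsetProd_iff (Nat.Prime.prime hr) _).1 hGL
  have hq : 0 < Fintype.card F := Fintype.card_pos
  have hsplit : Fintype.card F ^ n - Fintype.card F ^ (i : ℕ) =
      Fintype.card F ^ (i : ℕ) * (Fintype.card F ^ (n - (i : ℕ)) - 1) := by
    have hin : (i : ℕ) ≤ n := i.2.le
    rw [Nat.mul_sub, mul_one, ← pow_add, Nat.add_sub_cancel' hin]
  rw [hsplit] at hi
  have hndvd : ¬ r ∣ Fintype.card F ^ (i : ℕ) := fun h =>
    card_not_dvd (F := F) r hr hrp (hr.dvd_of_dvd_pow h)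
  have hd := (hr.dvd_mul.1 hi).resolve_left hndvd
  have hd2 := orderOf_dvd_of_dvd_pow_sub_one r _ _ hq hd
  have hpos : 0 < n - (i : ℕ) := by have := i.2; omega
  have := Nat.le_of_dvd hpos hd2
  omega

end counting

end Cfsg.Agent.Lib.Helper12.Elus
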