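import Mathlib
import Cfsg.Agent.Lib.Helper12.DecK
import Cfsg.Agent.Lib.Helper15.SymIso

set_option autoImplicit false

namespace Cfsg.Agent.Lib.Helper12.Sp

open Module Cfsg.Agent.Lib.Helper12.Elus

section basic

variable {F V : Type*} [Field F] [AddCommGroup V] [Module F V] (B : LinearMap.BilinForm F V)

/-- `B` is nondegenerate on `U` -/
def NdOn (U : Submodule F V) : Prop := ∀ u ∈ U, u ≠ 0 → ∃ v ∈ U, B u v ≠ 0

theorem alt_swap (halt : ∀ v, B v v = 0) (u v : V) : B u v = - B v u := by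
  have h := halt (u + v)
  simp only [map_add, LinearMap.add_apply, halt] at h
  linear_combination h

theorem alt_isRefl (halt : ∀ v, B v v = 0) : B.IsRefl :=
  LinearMap.BilinForm.IsAlt.isRefl halt

theorem mem_orth (U : Submodule F V) (m : V) : m ∈ B.orthogonal U ↔ ∀ n ∈ U, B n m = 0 :=
  LinearMap.BilinForm.mem_orthogonal_iff

theorem ndOn_bot : NdOn B ⊥ := by
  intro u hu hu0
  exact absurd ((Submodule.mem_bot F).1 hu) hu0

theorem ndOn_iff_disjoint (halt : ∀ v, B v v = 0) (U : Submodule F V) :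
    NdOn B U ↔ Disjoint U (B.orthogonal U) := by
  rw [Submodule.disjoint_def]
  constructor
  · intro h u hu hu'
    by_contra hu0
    obtain ⟨v, hv, hne⟩ := h u hu hu0
    apply hne
    rw [alt_swap B halt]
    rw [(mem_orth B U u).1 hu' v hv, neg_zero]
  · intro h u hu hu0
    by_contra hcon
    push Not at hcon
    apply hu0
    apply h u hu
    rw [mem_orth]
    intro n hn
    rw [alt_swap B halt, hcon n hn, neg_zero]

theorem isCompl_of_ndOn [FiniteDimensional F V] (halt : ∀ v, B v v = 0) (U : Submodule F V)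
    (hU : NdOn B U) : IsCompl U (B.orthogonal U) :=
  (LinearMap.BilinForm.isCompl_orthogonal_iff_disjoint (alt_isRefl B halt)).2
    ((ndOn_iff_disjoint B halt U).1 hU)

theorem ndOn_inf_orth [FiniteDimensional F V] (halt : ∀ v, B v v = 0) (V' U : Submodule F V)
    (hV' : NdOn B V') (hUV : U ≤ V') (hU : NdOn B U) : NdOn B (V' ⊓ B.orthogonal U) := by
  intro u hu hu0
  obtain ⟨v, hv, hne⟩ := hV' u hu.1 hu0
  have hc := isCompl_of_ndOn B halt U hU
  have hv' : v ∈ U ⊔ B.orthogonal U := by rw [hc.sup_eq_top]; exact Submodule.mem_top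
  obtain ⟨v₁, hv₁, v₂, hv₂, rfl⟩ := Submodule.mem_sup.1 hv'
  refine ⟨v₂, ⟨?_, hv₂⟩, ?_⟩
  · have : v₂ = (v₁ + v₂) - v₁ := by abel
    rw [this]
    exact Submodule.sub_mem _ hv (hUV hv₁)
  · rw [map_add] at hne
    have h0 : B u v₁ = 0 := by
      rw [alt_swap B halt]
      rw [(mem_orth B U u).1 hu.2 v₁ hv₁, neg_zero]
    rwa [h0, zero_add] at hne

theorem sup_inf_orth [FiniteDimensional F V] (halt : ∀ v, B v v = 0) (V' U : Submodule F V)
    (hUV : U ≤ V') (hU : NdOn B U) :
    U ⊔ (V' ⊓ B.orthogonal U) = V' ∧ Disjoint U (V' ⊓ B.orthogonal U) := by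
  have hc := isCompl_of_ndOn B halt U hU
  constructor
  · rw [inf_comm, ← sup_inf_assoc_of_le _ hUV, hc.sup_eq_top, top_inf_eq]
  · exact hc.disjoint.mono_right inf_le_right

theorem finrank_inf_orth [FiniteDimensional F V] (halt : ∀ v, B v v = 0) (V' U : Submodule F V)
    (hUV : U ≤ V') (hU : NdOn B U) :
    finrank F U + finrank F ↥(V' ⊓ B.orthogonal U) = finrank F V' := by
  obtain ⟨h1, h2⟩ := sup_inf_orth B halt V' U hUV hU
  have := Submodule.finrank_sup_add_finrank_inf_eq U (V' ⊓ B.orthogonal U)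
  rw [h1, h2.eq_bot, finrank_bot, add_zero] at this
  exact this.symm

theorem ndOn_sup (halt : ∀ v, B v v = 0) (U₁ U₂ : Submodule F V) (h₁ : NdOn B U₁)
    (h₂ : NdOn B U₂) (horth : ∀ a ∈ U₁, ∀ c ∈ U₂, B a c = 0) : NdOn B (U₁ ⊔ U₂) := by
  intro w hw hw0
  obtain ⟨a, ha, c, hc, rfl⟩ := Submodule.mem_sup.1 hw
  by_cases ha0 : a = 0
  · have hc0 : c ≠ 0 := by
      intro h
      apply hw0
      rw [ha0, h, add_zero]
    obtain ⟨v, hv, hne⟩ := h₂ c hc hc0
    refine ⟨v, (le_sup_right : U₂ ≤ U₁ ⊔ U₂) hv, ?_⟩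
    rw [map_add, LinearMap.add_apply, horth a ha v hv, zero_add]
    exact hne
  · obtain ⟨v, hv, hne⟩ := h₁ a ha ha0
    refine ⟨v, (le_sup_left : U₁ ≤ U₁ ⊔ U₂) hv, ?_⟩
    have h0 : B c v = 0 := by
      rw [alt_swap B halt, horth v hv c hc, neg_zero]
    rw [map_add, LinearMap.add_apply, h0, add_zero]
    exact hne

theorem ndOn_of_orth_sum (A C V' : Submodule F V) (hAC : A ⊔ C = V')
    (horth : ∀ a ∈ A, ∀ c ∈ C, B a c = 0) (hV' : NdOn B V') : NdOn B A := by
  intro u hu hu0
  have huV : u ∈ V' := by rw [← hAC]; exact (le_sup_left : A ≤ A ⊔ C) hu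
  obtain ⟨v, hv, hne⟩ := hV' u huV hu0
  rw [← hAC] at hv
  obtain ⟨a, ha, c, hc, rfl⟩ := Submodule.mem_sup.1 hv
  refine ⟨a, ha, ?_⟩
  rw [map_add, horth u hu c hc, add_zero] at hne
  exact hne

theorem even_finrank_of_ndOn [FiniteDimensional F V] (halt : ∀ v, B v v = 0) (U : Submodule F V)
    (hU : NdOn B U) : Even (finrank F U) := by
  obtain ⟨k, φ, hk, -⟩ := Cfsg.Agent.Lib.Helper15.SymIso.exists_symp_equiv (F := F) U
    (B.restrict U) (fun x => halt x) (by
      intro x hx
      by_contra hx0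
      obtain ⟨v, hv, hne⟩ := hU x x.2 (fun h => hx0 (Subtype.ext h))
      exact hne (hx ⟨v, hv⟩))
  exact ⟨k, by omega⟩

theorem ndOn_span_pair (halt : ∀ v, B v v = 0) (u v : V) (huv : B u v ≠ 0) :
    NdOn B (Submodule.span F {u, v}) ∧ finrank F (Submodule.span F {u, v}) = 2 := by
  constructor
  · intro w hw hw0
    obtain ⟨α, β, rfl⟩ := Submodule.mem_span_pair.1 hw
    by_cases hα : α = 0
    · have hβ : β ≠ 0 := by
        intro h
        apply hw0
        rw [hα, h, zero_smul, zero_smul, add_zero]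
      refine ⟨u, Submodule.subset_span (by simp), ?_⟩
      rw [map_add, LinearMap.add_apply, map_smul, map_smul, LinearMap.smul_apply,
        LinearMap.smul_apply, halt, smul_zero, zero_add, alt_swap B halt v u, smul_neg, neg_ne_zero,
        smul_eq_mul]
      exact mul_ne_zero hβ huv
    · refine ⟨v, Submodule.subset_span (by simp), ?_⟩
      rw [map_add, LinearMap.add_apply, map_smul, map_smul, LinearMap.smul_apply,
        LinearMap.smul_apply, halt, smul_zero, add_zero, smul_eq_mul]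
      exact mul_ne_zero hα huv
  · have hli : LinearIndependent F ![u, v] := by
      rw [LinearIndependent.pair_iff]
      intro s t hst
      have h1 : B (s • u + t • v) v = 0 := by rw [hst, map_zero, LinearMap.zero_apply]
      have h2 : B (s • u + t • v) u = 0 := by rw [hst, map_zero, LinearMap.zero_apply]
      rw [map_add, LinearMap.add_apply, map_smul, map_smul, LinearMap.smul_apply,
        LinearMap.smul_apply, halt, smul_zero, add_zero, smul_eq_mul] at h1
      rw [map_add, LinearMap.add_apply, map_smul, map_smul, LinearMap.smul_apply,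
        LinearMap.smul_apply, halt, smul_zero, zero_add, alt_swap B halt v u, smul_neg, neg_eq_zero,
        smul_eq_mul] at h2
      exact ⟨(mul_eq_zero.1 h1).resolve_right huv, (mul_eq_zero.1 h2).resolve_right huv⟩
    have h3 := finrank_span_eq_card hli
    rw [Fintype.card_fin] at h3
    have hset : Set.range ![u, v] = {u, v} := by
      ext x
      simp only [Set.mem_range, Set.mem_insert_iff, Set.mem_singleton_iff]
      constructor
      · rintro ⟨i, rfl⟩
        fin_cases i
        · left; rfl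
        · right; rfl
      · rintro (rfl | rfl)
        · exact ⟨0, rfl⟩
        · exact ⟨1, rfl⟩
    rw [hset] at h3
    exact h3

theorem exists_ndOn_sub [FiniteDimensional F V] (halt : ∀ v, B v v = 0) (U : Submodule F V)
    (hU : NdOn B U) (j : ℕ) (hj : 2 * j ≤ finrank F U) :
    ∃ U' : Submodule F V, U' ≤ U ∧ NdOn B U' ∧ finrank F U' = 2 * j := by
  induction j with
  | zero => exact ⟨⊥, bot_le, ndOn_bot B, by simp⟩
  | succ j ih =>
    obtain ⟨U', hU'U, hU'nd, hU'dim⟩ := ih (by omega)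
    set N := U ⊓ B.orthogonal U' with hN
    have hNnd : NdOn B N := ndOn_inf_orth B halt U U' hU hU'U hU'nd
    have hNdim : finrank F U' + finrank F N = finrank F U :=
      finrank_inf_orth B halt U U' hU'U hU'nd
    have hNpos : 0 < finrank F N := by omega
    obtain ⟨⟨u, huN⟩, hu0'⟩ := (Module.finrank_pos_iff_exists_ne_zero (R := F)).1 hNpos
    have hu0 : u ≠ 0 := fun h => hu0' (Subtype.ext h)
    obtain ⟨v, hvN, huv⟩ := hNnd u huN hu0
    obtain ⟨hHnd, hHdim⟩ := ndOn_span_pair B halt u v huv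
    set H := Submodule.span F {u, v} with hH
    have hHN : H ≤ N := by
      rw [hH, Submodule.span_le]
      intro x hx
      rcases hx with rfl | rfl
      · exact huN
      · exact hvN
    have horth : ∀ a ∈ U', ∀ c ∈ H, B a c = 0 := by
      intro a ha c hc
      exact (mem_orth B U' c).1 (hHN hc).2 a ha
    refine ⟨U' ⊔ H, sup_le hU'U (hHN.trans inf_le_left), ndOn_sup B halt U' H hU'nd hHnd horth, ?_⟩
    have hdisj : U' ⊓ H = ⊥ := by
      rw [eq_bot_iff]
      have h1 := (ndOn_iff_disjoint B halt U').1 hU'nd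
      rw [← h1.eq_bot]
      exact inf_le_inf le_rfl (hHN.trans inf_le_right)
    have := Submodule.finrank_sup_add_finrank_inf_eq U' H
    rw [hdisj, finrank_bot, add_zero, hU'dim, hHdim] at this
    rw [this]
    ring

end basic

section iso

variable {F V : Type*} [Field F] [AddCommGroup V] [Module F V] (B : LinearMap.BilinForm F V)
  (y : V →ₗ[F] V)

theorem iso_pow (hiso : ∀ u v, B (y u) (y v) = B u v) (k : ℕ) (u v : V) :
    B ((y ^ k) u) ((y ^ k) v) = B u v := by
  induction k with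
  | zero => simp
  | succ k ih => rw [pow_succ', Module.End.mul_apply, Module.End.mul_apply, hiso, ih]

theorem orth_invariant (hiso : ∀ u v, B (y u) (y v) = B u v) (r : ℕ) (hr : 0 < r)
    (hy : y ^ r = 1) (U : Submodule F V) (hU : ∀ v ∈ U, y v ∈ U) :
    ∀ v ∈ B.orthogonal U, y v ∈ B.orthogonal U := by
  intro v hv
  rw [mem_orth] at hv ⊢
  intro n hn
  obtain ⟨r₀, rfl⟩ := Nat.exists_eq_succ_of_ne_zero hr.ne'
  have h1 : n = y ((y ^ r₀) n) := by
    rw [← Module.End.mul_apply, ← pow_succ', hy, Module.End.one_apply]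
  rw [h1, hiso]
  exact hv _ (Module.End.pow_apply_mem_of_forall_mem r₀ hU n hn)

theorem fix_orth_mov (hiso : ∀ u v, B (y u) (y v) = B u v) (e w : V) (he : e ∈ fixE y)
    (hw : w ∈ movR y) : B e w = 0 := by
  obtain ⟨x, rfl⟩ := hw
  have he' : y e = e := (mem_fixE y e).1 he
  rw [LinearMap.sub_apply, Module.End.one_apply, map_sub]
  nth_rewrite 1 [← he']
  rw [hiso, sub_self]

theorem inv_split [FiniteDimensional F V] (r : ℕ) [Fact r.Prime] (hy : y ^ r = 1)
    (hr0 : (r : F) ≠ 0) (V' : Submodule F V) (hV' : ∀ v ∈ V', y v ∈ V') :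
    (V' ⊓ fixE y) ⊔ (V' ⊓ movR y) = V' := by
  apply Submodule.eq_of_le_of_finrank_le (sup_le inf_le_left inf_le_left)
  have h1 := finrank_eq_fix_add_map y V'
  have h2 : finrank F ↥(V'.map (y - 1)) ≤ finrank F ↥(V' ⊓ movR y) :=
    Submodule.finrank_mono (le_inf (map_sub_one_le y V' hV') (map_sub_one_le_movR y V'))
  have h3 : (V' ⊓ fixE y) ⊓ (V' ⊓ movR y) = ⊥ := by
    rw [eq_bot_iff, ← fix_inf_mov y r hy hr0]
    exact inf_le_inf inf_le_right inf_le_right
  have h4 := Submodule.finrank_sup_add_finrank_inf_eq (V' ⊓ fixE y) (V' ⊓ movR y)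
  rw [h3, finrank_bot, add_zero] at h4
  omega

theorem ndOn_inf_fix [FiniteDimensional F V]
    (hiso : ∀ u v, B (y u) (y v) = B u v) (r : ℕ) [Fact r.Prime] (hy : y ^ r = 1)
    (hr0 : (r : F) ≠ 0) (V' : Submodule F V) (hV' : ∀ v ∈ V', y v ∈ V') (hnd : NdOn B V') :
    NdOn B (V' ⊓ fixE y) :=
  ndOn_of_orth_sum B _ _ V' (inv_split y r hy hr0 V' hV')
    (fun a ha c hc => fix_orth_mov B y hiso a c ha.2 hc.2) hnd

theorem ndOn_inf_mov [FiniteDimensional F V] (halt : ∀ v, B v v = 0)
    (hiso : ∀ u v, B (y u) (y v) = B u v) (r : ℕ) [Fact r.Prime] (hy : y ^ r = 1)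
    (hr0 : (r : F) ≠ 0) (V' : Submodule F V) (hV' : ∀ v ∈ V', y v ∈ V') (hnd : NdOn B V') :
    NdOn B (V' ⊓ movR y) :=
  ndOn_of_orth_sum B _ _ V' (by rw [sup_comm]; exact inv_split y r hy hr0 V' hV')
    (fun a ha c hc => by
      rw [alt_swap B halt]
      rw [fix_orth_mov B y hiso c a hc.2 ha.2, neg_zero]) hnd

end iso

end Cfsg.Agent.Lib.Helper12.Sp
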