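import Mathlib
import Cfsg.Agent.Lib.Helper12.SpA

set_option autoImplicit false

namespace Cfsg.Agent.Lib.Helper12.Sp

open Module Polynomial Cfsg.Agent.Lib.Helper12.Elus

section helpers

variable {F V : Type*} [Field F] [AddCommGroup V] [Module F V]

theorem aeval_restrict_apply (f : V →ₗ[F] V) (W : Submodule F V) (hW : ∀ v ∈ W, f v ∈ W)
    (P : F[X]) (w : W) : ((aeval (f.restrict hW) P) w : V) = aeval f P (w : V) := by
  induction P using Polynomial.induction_on' with
  | add p q hp hq =>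
    rw [map_add, map_add, LinearMap.add_apply, LinearMap.add_apply, Submodule.coe_add, hp, hq]
  | monomial n a =>
    rw [← C_mul_X_pow_eq_monomial, map_mul, map_mul, aeval_C, aeval_C, map_pow, map_pow, aeval_X,
      aeval_X, Module.End.mul_apply, Module.End.mul_apply, Module.algebraMap_end_apply,
      Module.algebraMap_end_apply, Submodule.coe_smul, Module.End.pow_restrict]
    rfl

theorem expand_card_pow [Fintype F] (h : ℕ) (P : F[X]) :
    expand F (Fintype.card F ^ h) P = P ^ (Fintype.card F ^ h) := by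
  induction h with
  | zero => simp
  | succ h ih =>
    rw [pow_succ, mul_comm, expand_mul, ih, FiniteField.expand_card, ← pow_mul, mul_comm]

theorem aeval_pow_card_pow [Fintype F] (f : V →ₗ[F] V) (h : ℕ) (P : F[X]) :
    aeval (f ^ (Fintype.card F ^ h)) P = (aeval f P) ^ (Fintype.card F ^ h) := by
  rw [← expand_aeval, expand_card_pow, map_pow]

variable (B : LinearMap.BilinForm F V)

theorem finrank_inf_orth' [FiniteDimensional F V] (halt : ∀ v, B v v = 0) (N W : Submodule F V)
    (hN : NdOn B N) (hWN : W ≤ N) :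
    finrank F ↥(N ⊓ B.orthogonal W) + finrank F W = finrank F N := by
  have hnd : (B.restrict N).Nondegenerate :=
    LinearMap.BilinForm.nondegenerate_restrict_of_disjoint_orthogonal B (alt_isRefl B halt)
      ((ndOn_iff_disjoint B halt N).1 hN)
  have h1 := LinearMap.BilinForm.finrank_orthogonal hnd (W.comap N.subtype)
  have h2 : finrank F ↥(W.comap N.subtype) = finrank F W :=
    (Submodule.comapSubtypeEquivOfLe hWN).finrank_eq
  have h3 : (B.restrict N).orthogonal (W.comap N.subtype) =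
      (N ⊓ B.orthogonal W).comap N.subtype := by
    ext ⟨x, hx⟩
    rw [LinearMap.BilinForm.mem_orthogonal_iff, Submodule.mem_comap]
    constructor
    · intro h
      refine ⟨hx, ?_⟩
      show x ∈ B.orthogonal W
      rw [mem_orth]
      intro n hn
      exact h ⟨n, hWN hn⟩ hn
    · rintro ⟨-, h⟩ ⟨n, hnN⟩ hn
      have h' : x ∈ B.orthogonal W := h
      exact (mem_orth B W x).1 h' n hn
  have h4 : finrank F ↥((N ⊓ B.orthogonal W).comap N.subtype) = finrank F ↥(N ⊓ B.orthogonal W) :=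
    (Submodule.comapSubtypeEquivOfLe (inf_le_left : N ⊓ B.orthogonal W ≤ N)).finrank_eq
  rw [h3, h4, h2] at h1
  have h5 : finrank F W ≤ finrank F N := Submodule.finrank_mono hWN
  omega

theorem cyc_of_aeval (f : V →ₗ[F] V) (v : V) (h : F[X]) (hm : h.Monic) (k : ℕ)
    (hk : h.natDegree = k) (hv : aeval f h v = 0) :
    (∀ u ∈ cyc f v k, f u ∈ cyc f v k) ∧ (∀ u ∈ cyc f v k, aeval f h u = 0) := by
  constructor
  · have h1 := pow_mem_sup_cyc_of_monic f ⊥ v h hm (by rw [hv]; exact zero_mem _)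
    rw [hk] at h1
    have h2 := cyc_sup_invariant f v k ⊥
      (fun u hu => by rw [(Submodule.mem_bot F).1 hu, map_zero]; exact zero_mem _) h1
    rwa [bot_sup_eq] at h2
  · intro u hu
    rw [cyc] at hu
    refine Submodule.span_induction ?_ ?_ ?_ ?_ hu
    · rintro _ ⟨j, rfl⟩
      have h1 : aeval f h * f ^ (j : ℕ) = f ^ (j : ℕ) * aeval f h := by
        have : f ^ (j : ℕ) = aeval f (X ^ (j : ℕ) : F[X]) := by rw [map_pow, aeval_X]
        rw [this, ← map_mul, ← map_mul, mul_comm]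
      rw [← Module.End.mul_apply, h1, Module.End.mul_apply, hv, map_zero]
    · exact map_zero _
    · intro a b _ _ ha hb
      rw [map_add, ha, hb, add_zero]
    · intro c a _ ha
      rw [map_smul, ha, smul_zero]

theorem cyc_le (f : V →ₗ[F] V) (v : V) (k : ℕ) (N : Submodule F V) (hN : ∀ u ∈ N, f u ∈ N)
    (hv : v ∈ N) : cyc f v k ≤ N := by
  rw [cyc, Submodule.span_le]
  rintro _ ⟨j, rfl⟩
  exact Module.End.pow_apply_mem_of_forall_mem _ hN v hv

end helpers

/-- the dimension of a minimal nondegenerate block -/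
noncomputable def blockDim (q r : ℕ) : ℕ :=
  if Even (orderOf (q : ZMod r)) then orderOf (q : ZMod r) else 2 * orderOf (q : ZMod r)

section blockA

variable {F V : Type*} [Field F] [Fintype F] [AddCommGroup V] [Module F V] [FiniteDimensional F V]
  {p : ℕ} [Fact p.Prime] [CharP F p]
  (B : LinearMap.BilinForm F V) (y : V →ₗ[F] V) (r : ℕ) [Fact r.Prime]

omit [FiniteDimensional F V] in
theorem exists_irred_vec (hrp : r ≠ p) (hy : y ^ r = 1) (N : Submodule F V)
    (hN : ∀ u ∈ N, y u ∈ N) (hNR : N ≤ movR y) (hN0 : N ≠ ⊥) :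
    ∃ v ∈ N, v ≠ 0 ∧ ∃ h : F[X], h.Monic ∧
      h.natDegree = orderOf (Fintype.card F : ZMod r) ∧ aeval y h v = 0 := by
  have hnle : ¬ N ≤ ⊥ := fun h => hN0 (le_bot_iff.1 h)
  obtain ⟨v, hvN, hv0, h, hm, hdeg, hh⟩ := exists_factor_step y N ⊥ hN
    hnle (orderOf (Fintype.card F : ZMod r)) _ (cyclotomic r F) rfl (cyclotomic_ne_zero r F)
    (fun h hirr hdvd => natDegree_factor_cyclotomic r Fact.out hrp h hirr hdvd)
    (fun w hw => by rw [cyclo_apply_movR y r hy w (hNR hw)]; exact zero_mem _)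
  exact ⟨v, hvN, fun h0 => hv0 (by rw [h0]; exact zero_mem _), h, hm, hdeg,
    (Submodule.mem_bot F).1 hh⟩

theorem finrank_eq_of_le (hy : y ^ r = 1) (hr0 : (r : F) ≠ 0) (W : Submodule F V)
    (hW : ∀ u ∈ W, y u ∈ W) (hWR : W ≤ movR y) (hW0 : W ≠ ⊥)
    (hle : finrank F W ≤ orderOf (Fintype.card F : ZMod r)) :
    finrank F W = orderOf (Fintype.card F : ZMod r) := by
  have h1 := orderOf_dvd_finrank_of_le_movR y r hy hr0 W hW hWR
  have h2 : 0 < finrank F W := by
    rw [Nat.pos_iff_ne_zero]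
    intro h0
    exact hW0 (Submodule.finrank_eq_zero.1 h0)
  exact le_antisymm hle (Nat.le_of_dvd h2 h1)

theorem irred_sub (hy : y ^ r = 1) (hr0 : (r : F) ≠ 0) (W : Submodule F V)
    (hWR : W ≤ movR y)
    (hdim : finrank F W = orderOf (Fintype.card F : ZMod r)) (W' : Submodule F V)
    (hW' : ∀ u ∈ W', y u ∈ W') (hle : W' ≤ W) : W' = ⊥ ∨ W' = W := by
  by_cases h0 : W' = ⊥
  · exact Or.inl h0
  · right
    have h1 := finrank_eq_of_le y r hy hr0 W' hW' (hle.trans hWR) h0
      (by rw [← hdim]; exact Submodule.finrank_mono hle)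
    exact Submodule.eq_of_le_of_finrank_eq hle (by rw [h1, hdim])

omit [Fintype F] [FiniteDimensional F V] in
theorem adjoint_aeval (hiso : ∀ u v, B (y u) (y v) = B u v) (hy : y ^ r = 1) (P : F[X])
    (a b : V) : B (aeval y P a) b = B a (aeval (y ^ (r - 1)) P b) := by
  induction P using Polynomial.induction_on' with
  | add p q hp hq =>
    rw [map_add, map_add, LinearMap.add_apply, LinearMap.add_apply, map_add,
      LinearMap.add_apply, map_add, hp, hq]
  | monomial n c =>
    rw [← C_mul_X_pow_eq_monomial, map_mul, map_mul, aeval_C, aeval_C, map_pow, map_pow, aeval_X,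
      aeval_X, Module.End.mul_apply, Module.End.mul_apply, Module.algebraMap_end_apply,
      Module.algebraMap_end_apply, map_smul, map_smul, LinearMap.smul_apply]
    congr 1
    have h1 : b = (y ^ n) (((y ^ (r - 1)) ^ n) b) := by
      have hr : 0 < r := (Fact.out : r.Prime).pos
      have h2 : n + (r - 1) * n = r * n := by
        obtain ⟨r₀, rfl⟩ := Nat.exists_eq_succ_of_ne_zero hr.ne'
        rw [Nat.succ_sub_one, Nat.succ_mul]; ring
      rw [← Module.End.mul_apply, ← pow_mul, ← pow_add, h2, pow_mul, hy, one_pow,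
        Module.End.one_apply]
    conv_lhs => rw [h1]
    exact iso_pow B y hiso n _ _

omit [FiniteDimensional F V] in
theorem adjoint_pow (hiso : ∀ u v, B (y u) (y v) = B u v) (hy : y ^ r = 1) (m : ℕ)
    (hm : r ∣ Fintype.card F ^ m + 1) (P : F[X]) (a b : V) :
    B (aeval y P a) b = B a (((aeval y P) ^ (Fintype.card F ^ m)) b) := by
  have hr : 0 < r := (Fact.out : r.Prime).pos
  obtain ⟨k, hk⟩ := hm
  have h1 : y ^ (r - 1) = y ^ (Fintype.card F ^ m) := by
    have h2 : y ^ (Fintype.card F ^ m + 1) = 1 := by rw [hk, pow_mul, hy, one_pow]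
    have h3 : r - 1 + (Fintype.card F ^ m + 1) = r + Fintype.card F ^ m := by omega
    calc y ^ (r - 1) = y ^ (r - 1) * y ^ (Fintype.card F ^ m + 1) := by rw [h2, mul_one]
      _ = y ^ r * y ^ (Fintype.card F ^ m) := by rw [← pow_add, h3, pow_add]
      _ = y ^ (Fintype.card F ^ m) := by rw [hy, one_mul]
  rw [adjoint_aeval B y r hiso hy, h1, aeval_pow_card_pow]

theorem dvd_pow_half_add_one (q m : ℕ) (hm : 0 < m)
    (hi : orderOf (q : ZMod r) = 2 * m) : r ∣ q ^ m + 1 := by
  have h1 : ((q : ZMod r) ^ m) ^ 2 = 1 := by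
    rw [← pow_mul, mul_comm, ← hi, pow_orderOf_eq_one]
  have h2 : (q : ZMod r) ^ m ≠ 1 := by
    intro h
    have := orderOf_dvd_of_pow_eq_one h
    rw [hi] at this
    have := Nat.le_of_dvd hm this
    omega
  have h3 : (q : ZMod r) ^ m = -1 := by
    have h4 : ((q : ZMod r) ^ m - 1) * ((q : ZMod r) ^ m + 1) = 0 := by
      linear_combination h1
    rcases mul_eq_zero.1 h4 with h | h
    · exact absurd (sub_eq_zero.1 h) h2
    · exact eq_neg_of_add_eq_zero_left h
  rw [← ZMod.natCast_eq_zero_iff]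
  push_cast
  rw [h3]
  ring

/-- an irreducible piece of `N`, either nondegenerate or totally isotropic -/
theorem exists_iso_or_nd (halt : ∀ v, B v v = 0) (hiso : ∀ u v, B (y u) (y v) = B u v)
    (hrp : r ≠ p) (hy : y ^ r = 1) (hr0 : (r : F) ≠ 0)
    (N : Submodule F V) (hN : ∀ u ∈ N, y u ∈ N) (hNR : N ≤ movR y) (hN0 : N ≠ ⊥) :
    ∃ W : Submodule F V, W ≤ N ∧ (∀ u ∈ W, y u ∈ W) ∧
      finrank F W = orderOf (Fintype.card F : ZMod r) ∧
      (∃ h : F[X], h.Monic ∧ h.natDegree = orderOf (Fintype.card F : ZMod r) ∧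
        ∀ w ∈ W, aeval y h w = 0) ∧ (NdOn B W ∨ W ≤ B.orthogonal W) := by
  obtain ⟨v, hvN, hv0, h, hm, hdeg, hh⟩ := exists_irred_vec y r hrp hy N hN hNR hN0
  set i₀ := orderOf (Fintype.card F : ZMod r) with hi₀
  have hipos : 0 < i₀ := orderOf_card_pos r hrp
  obtain ⟨hWinv, hWh⟩ := cyc_of_aeval y v h hm i₀ hdeg hh
  have hWN : cyc y v i₀ ≤ N := cyc_le y v i₀ N hN hvN
  have hvW : v ∈ cyc y v i₀ := self_mem_cyc y v i₀ hipos
  have hW0 : cyc y v i₀ ≠ ⊥ := by
    intro h0
    rw [h0] at hvW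
    exact hv0 ((Submodule.mem_bot F).1 hvW)
  have hWdim : finrank F (cyc y v i₀) = i₀ :=
    finrank_eq_of_le y r hy hr0 _ hWinv (hWN.trans hNR) hW0 (finrank_cyc_le y v i₀)
  refine ⟨cyc y v i₀, hWN, hWinv, hWdim, ⟨h, hm, hdeg, hWh⟩, ?_⟩
  have hr : 0 < r := (Fact.out : r.Prime).pos
  have hOinv := orth_invariant B y hiso r hr hy _ hWinv
  have hRinv : ∀ u ∈ cyc y v i₀ ⊓ B.orthogonal (cyc y v i₀),
      y u ∈ cyc y v i₀ ⊓ B.orthogonal (cyc y v i₀) :=
    fun u hu => ⟨hWinv u hu.1, hOinv u hu.2⟩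
  rcases irred_sub y r hy hr0 _ (hWN.trans hNR) hWdim _ hRinv inf_le_left with h1 | h1
  · left
    rw [ndOn_iff_disjoint B halt, disjoint_iff]
    exact h1
  · right
    exact inf_eq_left.1 h1

omit [Fintype F] in
/-- a totally isotropic irreducible `W` in a nondegenerate `N` has an invariant partner `T` -/
theorem hyperbolic_pair (halt : ∀ v, B v v = 0) (hiso : ∀ u v, B (y u) (y v) = B u v)
    (hy : y ^ r = 1) (hr0 : (r : F) ≠ 0)
    (N : Submodule F V) (hN : ∀ u ∈ N, y u ∈ N) (hNnd : NdOn B N)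
    (W : Submodule F V) (hWN : W ≤ N) (hW : ∀ u ∈ W, y u ∈ W) (hWiso : W ≤ B.orthogonal W) :
    ∃ T : Submodule F V, T ≤ N ∧ (∀ u ∈ T, y u ∈ T) ∧ finrank F T = finrank F W ∧
      W ⊓ T = ⊥ ∧ T ⊓ B.orthogonal W = ⊥ ∧ NdOn B (W ⊔ T) := by
  have hr : 0 < r := (Fact.out : r.Prime).pos
  set N' := N ⊓ B.orthogonal W with hN'
  have hN'dim : finrank F N' + finrank F W = finrank F N := finrank_inf_orth' B halt N W hNnd hWN
  have hOinv := orth_invariant B y hiso r hr hy W hW
  have hN'inv : ∀ u ∈ N', y u ∈ N' := fun u hu => ⟨hN u hu.1, hOinv u hu.2⟩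
  have hWN' : W ≤ N' := le_inf hWN hWiso
  obtain ⟨C, hC, hCinv⟩ := exists_invariant_compl y r hr0 1 one_ne_zero
    (by rw [hy, one_smul]) N' hN'inv
  set T := C ⊓ N with hT
  have hTinv : ∀ u ∈ T, y u ∈ T := fun u hu => ⟨hCinv u hu.1, hN u hu.2⟩
  have hsup : N' ⊔ T = N := by
    rw [hT, ← sup_inf_assoc_of_le C (inf_le_left : N' ≤ N), hC.sup_eq_top, top_inf_eq]
  have hinf : N' ⊓ T = ⊥ := by
    rw [eq_bot_iff, ← hC.inf_eq_bot]
    exact inf_le_inf le_rfl inf_le_left
  have hTdim : finrank F T = finrank F W := by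
    have := Submodule.finrank_sup_add_finrank_inf_eq N' T
    rw [hsup, hinf, finrank_bot, add_zero] at this
    omega
  have hTO : T ⊓ B.orthogonal W = ⊥ := by
    rw [eq_bot_iff, ← hinf]
    intro x hx
    exact ⟨⟨hx.1.2, hx.2⟩, hx.1⟩
  have hWT : W ⊓ T = ⊥ := by
    rw [eq_bot_iff, ← hinf]
    exact inf_le_inf hWN' le_rfl
  have hWO : ∀ x ∈ W, (∀ t ∈ T, B t x = 0) → x = 0 := by
    intro x hxW hxT
    by_contra hx0
    obtain ⟨n, hn, hne⟩ := hNnd x (hWN hxW) hx0
    apply hne
    rw [← hsup] at hn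
    obtain ⟨n', hn', t, ht, rfl⟩ := Submodule.mem_sup.1 hn
    rw [map_add]
    have h1 : B x n' = 0 := (mem_orth B W n').1 hn'.2 x hxW
    have h2 : B x t = 0 := by rw [alt_swap B halt, hxT t ht, neg_zero]
    rw [h1, h2, add_zero]
  refine ⟨T, inf_le_right, hTinv, hTdim, hWT, hTO, ?_⟩
  intro m hm hm0
  by_contra hcon
  push Not at hcon
  obtain ⟨w, hw, t, ht, rfl⟩ := Submodule.mem_sup.1 hm
  have ht0 : t = 0 := by
    have h1 : t ∈ T ⊓ B.orthogonal W := by
      refine ⟨ht, ?_⟩
      show t ∈ B.orthogonal W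
      rw [mem_orth]
      intro w' hw'
      have h2 := hcon w' ((le_sup_left : W ≤ W ⊔ T) hw')
      rw [map_add, LinearMap.add_apply] at h2
      have h3 : B w w' = 0 := (mem_orth B W w').1 (hWiso hw') w hw
      rw [h3, zero_add] at h2
      rw [alt_swap B halt, h2, neg_zero]
    rw [hTO] at h1
    exact (Submodule.mem_bot F).1 h1
  have hw0 : w = 0 := by
    apply hWO w hw
    intro t' ht'
    have h2 := hcon t' ((le_sup_right : T ≤ W ⊔ T) ht')
    rw [ht0, add_zero] at h2
    rw [alt_swap B halt, h2, neg_zero]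
  apply hm0
  rw [hw0, ht0, add_zero]

omit [FiniteDimensional F V] in
theorem homog (halt : ∀ v, B v v = 0) (hiso : ∀ u v, B (y u) (y v) = B u v)
    (hy : y ^ r = 1) (m : ℕ) (hm : r ∣ Fintype.card F ^ m + 1) (h : F[X])
    (W T : Submodule F V) (hWh : ∀ w ∈ W, aeval y h w = 0) (hT : ∀ u ∈ T, y u ∈ T)
    (hTO : T ⊓ B.orthogonal W = ⊥) : ∀ t ∈ T, aeval y h t = 0 := by
  intro t ht
  have h1 : aeval y h t ∈ T ⊓ B.orthogonal W := by
    refine ⟨aeval_mem_of_invariant y T hT h t ht, ?_⟩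
    show aeval y h t ∈ B.orthogonal W
    rw [mem_orth]
    intro w' hw'
    rw [alt_swap B halt, adjoint_pow B y r hiso hy m hm]
    have hs : 0 < Fintype.card F ^ m := pow_pos Fintype.card_pos m
    obtain ⟨s, hs'⟩ := Nat.exists_eq_succ_of_ne_zero hs.ne'
    rw [hs', pow_succ, Module.End.mul_apply, hWh w' hw', map_zero, map_zero, neg_zero]
  rw [hTO] at h1
  exact (Submodule.mem_bot F).1 h1

theorem polar (halt : ∀ v, B v v = 0) (hiso : ∀ u v, B (y u) (y v) = B u v) (hr2 : r ≠ 2)
    (hy : y ^ r = 1) (hr0 : (r : F) ≠ 0) (M : Submodule F V) (hM : ∀ u ∈ M, y u ∈ M)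
    (hMR : M ≤ movR y) (hMnd : NdOn B M) (hM0 : M ≠ ⊥) (h : F[X]) (hm : h.Monic)
    (hdeg : h.natDegree = orderOf (Fintype.card F : ZMod r))
    (hi2 : 2 ≤ orderOf (Fintype.card F : ZMod r)) (hMh : ∀ u ∈ M, aeval y h u = 0) :
    ∃ U : Submodule F V, U ≤ M ∧ (∀ u ∈ U, y u ∈ U) ∧ NdOn B U ∧
      finrank F U = orderOf (Fintype.card F : ZMod r) := by
  have hr : 0 < r := (Fact.out : r.Prime).pos
  set i₀ := orderOf (Fintype.card F : ZMod r) with hi₀
  by_contra hcon
  push Not at hcon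
  have key : ∀ u ∈ M, B u (y u) = 0 := by
    intro u hu
    by_cases hu0 : u = 0
    · rw [hu0, map_zero, LinearMap.zero_apply]
    obtain ⟨hZinv, -⟩ := cyc_of_aeval y u h hm i₀ hdeg (hMh u hu)
    have hZM : cyc y u i₀ ≤ M := cyc_le y u i₀ M hM hu
    have huZ : u ∈ cyc y u i₀ := self_mem_cyc y u i₀ (by omega)
    have hyuZ : y u ∈ cyc y u i₀ := hZinv u huZ
    have hZ0 : cyc y u i₀ ≠ ⊥ := by
      intro h0
      rw [h0] at huZ
      exact hu0 ((Submodule.mem_bot F).1 huZ)
    have hZdim : finrank F (cyc y u i₀) = i₀ :=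
      finrank_eq_of_le y r hy hr0 _ hZinv (hZM.trans hMR) hZ0 (finrank_cyc_le y u i₀)
    have hOinv := orth_invariant B y hiso r hr hy _ hZinv
    have hRinv : ∀ x ∈ cyc y u i₀ ⊓ B.orthogonal (cyc y u i₀),
        y x ∈ cyc y u i₀ ⊓ B.orthogonal (cyc y u i₀) :=
      fun x hx => ⟨hZinv x hx.1, hOinv x hx.2⟩
    rcases irred_sub y r hy hr0 _ (hZM.trans hMR) hZdim _ hRinv inf_le_left with h1 | h1
    · exfalso
      apply hcon (cyc y u i₀) hZM hZinv _ hZdim
      rw [ndOn_iff_disjoint B halt, disjoint_iff]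
      exact h1
    · have h2 : cyc y u i₀ ≤ B.orthogonal (cyc y u i₀) := inf_eq_left.1 h1
      exact (mem_orth B _ (y u)).1 (h2 hyuZ) u huZ
  have hall : ∀ v ∈ M, v = 0 := by
    intro v hv
    have hpv : (y ^ (r - 1)) v ∈ M := Module.End.pow_apply_mem_of_forall_mem _ hM v hv
    have hx : y v - (y ^ (r - 1)) v = 0 := by
      by_contra hx0
      obtain ⟨u, hu, hne⟩ := hMnd _ (Submodule.sub_mem _ (hM v hv) hpv) hx0
      apply hne
      rw [alt_swap B halt, map_sub, neg_eq_zero]
      have h1 := key (u + v) (Submodule.add_mem _ hu hv)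
      rw [map_add, map_add, LinearMap.add_apply, map_add, map_add, key u hu, key v hv,
        zero_add, add_zero] at h1
      have h2 : B u ((y ^ (r - 1)) v) = B (y u) v := by
        have h3 : v = y ((y ^ (r - 1)) v) := by
          rw [← Module.End.mul_apply, ← pow_succ', Nat.sub_add_cancel hr, hy,
            Module.End.one_apply]
        conv_rhs => rw [h3]
        rw [hiso]
      rw [h2, alt_swap B halt (y u) v]
      linear_combination h1
    have hy2 : (y ^ 2) v = v := by
      have h1 : y v = (y ^ (r - 1)) v := sub_eq_zero.1 hx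
      rw [pow_succ, pow_one, Module.End.mul_apply, h1, ← Module.End.mul_apply, ← pow_succ',
        Nat.sub_add_cancel hr, hy, Module.End.one_apply]
    obtain ⟨k, hk⟩ := (Fact.out : r.Prime).odd_of_ne_two hr2
    have hyk : ∀ j : ℕ, ((y ^ 2) ^ j) v = v := by
      intro j
      induction j with
      | zero => simp
      | succ j ih => rw [pow_succ, Module.End.mul_apply, hy2, ih]
    have hyv : y v = v := by
      have h1 : (y ^ r) v = v := by rw [hy, Module.End.one_apply]
      rw [hk, pow_succ, pow_mul, Module.End.mul_apply] at h1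
      have h2 : ((y ^ 2) ^ k) (y v) = y (((y ^ 2) ^ k) v) := by
        rw [← Module.End.mul_apply, ← Module.End.mul_apply, ← pow_mul, ← pow_succ, ← pow_succ']
      rw [h2, hyk k] at h1
      exact h1
    have h1 : v ∈ fixE y ⊓ movR y := ⟨(mem_fixE y v).2 hyv, hMR hv⟩
    rw [fix_inf_mov y r hy hr0] at h1
    exact (Submodule.mem_bot F).1 h1
  apply hM0
  rw [eq_bot_iff]
  intro v hv
  rw [Submodule.mem_bot]
  exact hall v hv

theorem exists_block (halt : ∀ v, B v v = 0) (hiso : ∀ u v, B (y u) (y v) = B u v)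
    (hrp : r ≠ p) (hr2 : r ≠ 2) (hy : y ^ r = 1)
    (N : Submodule F V) (hN : ∀ u ∈ N, y u ∈ N) (hNR : N ≤ movR y) (hNnd : NdOn B N)
    (hN0 : N ≠ ⊥) :
    ∃ U : Submodule F V, U ≤ N ∧ (∀ u ∈ U, y u ∈ U) ∧ NdOn B U ∧
      finrank F U = blockDim (Fintype.card F) r := by
  have hr0 : (r : F) ≠ 0 := by
    rw [Ne, CharP.cast_eq_zero_iff F p]
    intro hd
    exact hrp ((Nat.prime_dvd_prime_iff_eq Fact.out Fact.out).1 hd).symm
  obtain ⟨W, hWN, hWinv, hWdim, ⟨h, hm, hdeg, hWh⟩, hcase⟩ :=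
    exists_iso_or_nd B y r halt hiso hrp hy hr0 N hN hNR hN0
  have hipos : 0 < orderOf (Fintype.card F : ZMod r) := orderOf_card_pos r hrp
  rcases hcase with hnd | hiso'
  · refine ⟨W, hWN, hWinv, hnd, ?_⟩
    have hev := even_finrank_of_ndOn B halt W hnd
    rw [hWdim] at hev
    rw [blockDim, if_pos hev, hWdim]
  · obtain ⟨T, hTN, hTinv, hTdim, hWT, hTO, hMnd⟩ :=
      hyperbolic_pair B y r halt hiso hy hr0 N hN hNnd W hWN hWinv hiso'
    have hMinv := sup_invariant y W T hWinv hTinv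
    have hMN : W ⊔ T ≤ N := sup_le hWN hTN
    have hMdim : finrank F ↥(W ⊔ T) = 2 * orderOf (Fintype.card F : ZMod r) := by
      have := Submodule.finrank_sup_add_finrank_inf_eq W T
      rw [hWT, finrank_bot, add_zero, hTdim, hWdim] at this
      omega
    by_cases hev : Even (orderOf (Fintype.card F : ZMod r))
    · obtain ⟨m, hm'⟩ := hev
      have hm0 : 0 < m := by omega
      have hdvd : r ∣ Fintype.card F ^ m + 1 :=
        dvd_pow_half_add_one r (Fintype.card F) m hm0 (by rw [hm']; ring)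
      have hTh := homog B y r halt hiso hy m hdvd h W T hWh hTinv hTO
      have hMh : ∀ u ∈ W ⊔ T, aeval y h u = 0 := by
        intro u hu
        obtain ⟨w, hw, t, ht, rfl⟩ := Submodule.mem_sup.1 hu
        rw [map_add, hWh w hw, hTh t ht, add_zero]
      have hM0 : W ⊔ T ≠ ⊥ := by
        intro h0
        rw [h0, finrank_bot] at hMdim
        omega
      obtain ⟨U, hUM, hUinv, hUnd, hUdim⟩ := polar B y r halt hiso hr2 hy hr0 (W ⊔ T) hMinv
        (hMN.trans hNR) hMnd hM0 h hm hdeg (by omega) hMh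
      refine ⟨U, hUM.trans hMN, hUinv, hUnd, ?_⟩
      rw [blockDim, if_pos ⟨m, hm'⟩, hUdim]
    · refine ⟨W ⊔ T, hMN, hMinv, hMnd, ?_⟩
      rw [blockDim, if_neg hev, hMdim]

theorem blockDim_pos (hrp : r ≠ p) : 0 < blockDim (Fintype.card F) r := by
  have hipos : 0 < orderOf (Fintype.card F : ZMod r) := orderOf_card_pos r hrp
  rw [blockDim]
  split_ifs <;> omega

/-- nondegenerate invariant subspaces of `[V, y]` have dimension divisible by the block dimension,
and contain nondegenerate invariant subspaces of every smaller such dimension -/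
theorem exists_nd_chain (halt : ∀ v, B v v = 0) (hiso : ∀ u v, B (y u) (y v) = B u v)
    (hrp : r ≠ p) (hr2 : r ≠ 2) (hy : y ^ r = 1) :
    ∀ (n : ℕ) (N : Submodule F V), finrank F N = n → (∀ u ∈ N, y u ∈ N) → N ≤ movR y →
      NdOn B N → blockDim (Fintype.card F) r ∣ n ∧
      ∀ k, blockDim (Fintype.card F) r * k ≤ n →
        ∃ U : Submodule F V, U ≤ N ∧ (∀ u ∈ U, y u ∈ U) ∧ NdOn B U ∧
          finrank F U = blockDim (Fintype.card F) r * k := by
  have hr : 0 < r := (Fact.out : r.Prime).pos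
  have hcpos := blockDim_pos (F := F) r hrp
  intro n
  induction n using Nat.strong_induction_on with
  | _ n ih =>
    intro N hNdim hN hNR hNnd
    by_cases hN0 : N = ⊥
    · rw [hN0, finrank_bot] at hNdim
      subst hNdim
      refine ⟨dvd_zero _, ?_⟩
      intro k hk
      have hk0 : k = 0 := by
        rcases Nat.eq_zero_or_pos k with h | h
        · exact h
        · have := Nat.le_mul_of_pos_right (blockDim (Fintype.card F) r) h
          omega
      refine ⟨⊥, bot_le, fun u hu => ?_, ndOn_bot B, by rw [hk0, mul_zero, finrank_bot]⟩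
      rw [(Submodule.mem_bot F).1 hu, map_zero]
      exact zero_mem _
    · obtain ⟨U, hUN, hUinv, hUnd, hUdim⟩ :=
        exists_block B y r halt hiso hrp hr2 hy N hN hNR hNnd hN0
      set N' := N ⊓ B.orthogonal U with hN'
      have hN'nd : NdOn B N' := ndOn_inf_orth B halt N U hNnd hUN hUnd
      have hN'dim : finrank F U + finrank F N' = finrank F N :=
        finrank_inf_orth B halt N U hUN hUnd
      have hN'inv : ∀ u ∈ N', y u ∈ N' := fun u hu =>
        ⟨hN u hu.1, orth_invariant B y hiso r hr hy U hUinv u hu.2⟩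
      have hlt : finrank F N' < n := by omega
      obtain ⟨hdvd, hch⟩ := ih _ hlt N' rfl hN'inv (inf_le_left.trans hNR) hN'nd
      constructor
      · rw [← hNdim, ← hN'dim, hUdim]
        exact Dvd.dvd.add (dvd_refl _) hdvd
      · intro k hk
        rcases Nat.eq_zero_or_pos k with hk0 | hk0
        · refine ⟨⊥, bot_le, fun u hu => ?_, ndOn_bot B, by rw [hk0, mul_zero, finrank_bot]⟩
          rw [(Submodule.mem_bot F).1 hu, map_zero]
          exact zero_mem _
        · obtain ⟨k', rfl⟩ := Nat.exists_eq_succ_of_ne_zero hk0.ne'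
          obtain ⟨U', hU'N, hU'inv, hU'nd, hU'dim⟩ := hch k' (by
            rw [Nat.succ_eq_add_one, mul_add, mul_one] at hk
            omega)
          have horth : ∀ a ∈ U, ∀ c ∈ U', B a c = 0 := fun a ha c hc =>
            (mem_orth B U c).1 (hU'N hc).2 a ha
          refine ⟨U ⊔ U', sup_le hUN (hU'N.trans inf_le_left), sup_invariant y U U' hUinv hU'inv,
            ndOn_sup B halt U U' hUnd hU'nd horth, ?_⟩
          have hdisj : U ⊓ U' = ⊥ := by
            rw [eq_bot_iff]
            have h1 := (ndOn_iff_disjoint B halt U).1 hUnd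
            rw [← h1.eq_bot]
            exact inf_le_inf le_rfl (hU'N.trans inf_le_right)
          have := Submodule.finrank_sup_add_finrank_inf_eq U U'
          rw [hdisj, finrank_bot, add_zero, hUdim, hU'dim] at this
          rw [this, Nat.succ_eq_add_one]
          ring

end blockA

end Cfsg.Agent.Lib.Helper12.Sp
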