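import Mathlib
import Cfsg.Agent.Lib.Helper12.SpB

set_option autoImplicit false

namespace Cfsg.Agent.Lib.Helper12.Sp

open Module Polynomial Cfsg.Agent.Lib.Helper12.Elus

section odec

variable {F V : Type*} [Field F] [AddCommGroup V] [Module F V] (B : LinearMap.BilinForm F V)

/-- `V'` is an orthogonal sum of `k` nondegenerate `f`-invariant subspaces of dimension `a` -/
def HasODec (f : V →ₗ[F] V) (a : ℕ) (V' : Submodule F V) (k : ℕ) : Prop :=
  ∃ (ι : Type) (_ : Fintype ι) (D : ι → Submodule F V),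
    Fintype.card ι = k ∧ (∀ i, finrank F (D i) = a) ∧ iSupIndep D ∧ iSup D = V' ∧
    (∀ i, ∀ v ∈ D i, f v ∈ D i) ∧ (∀ i, NdOn B (D i)) ∧
    (∀ i j, i ≠ j → ∀ u ∈ D i, ∀ v ∈ D j, B u v = 0)

theorem hasODec_bot (f : V →ₗ[F] V) (a : ℕ) : HasODec B f a ⊥ 0 := by
  refine ⟨Empty, inferInstance, fun i => i.elim, rfl, fun i => i.elim, ?_, ?_,
    fun i => i.elim, fun i => i.elim, fun i => i.elim⟩
  · intro i; exact i.elim
  · simp

theorem HasODec.sup (halt : ∀ v, B v v = 0) {f : V →ₗ[F] V} {a : ℕ} {V₁ V₂ : Submodule F V}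
    {k₁ k₂ : ℕ} (h₁ : HasODec B f a V₁ k₁) (h₂ : HasODec B f a V₂ k₂) (hd : Disjoint V₁ V₂)
    (horth : ∀ u ∈ V₁, ∀ v ∈ V₂, B u v = 0) :
    HasODec B f a (V₁ ⊔ V₂) (k₁ + k₂) := by
  obtain ⟨ι₁, _, D₁, hc₁, hf₁, hi₁, hs₁, hm₁, hn₁, ho₁⟩ := h₁
  obtain ⟨ι₂, _, D₂, hc₂, hf₂, hi₂, hs₂, hm₂, hn₂, ho₂⟩ := h₂
  refine ⟨ι₁ ⊕ ι₂, inferInstance, Sum.elim D₁ D₂, ?_, ?_, ?_, ?_, ?_, ?_, ?_⟩
  · rw [Fintype.card_sum, hc₁, hc₂]
  · rintro (i | i)
    · exact hf₁ i
    · exact hf₂ i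
  · exact iSupIndep_sum_elim D₁ D₂ hi₁ hi₂ (by rw [hs₁, hs₂]; exact hd)
  · rw [iSup_sum]
    simp only [Sum.elim_inl, Sum.elim_inr]
    rw [hs₁, hs₂]
  · rintro (i | i)
    · exact hm₁ i
    · exact hm₂ i
  · rintro (i | i)
    · exact hn₁ i
    · exact hn₂ i
  · rintro (i | i) (j | j) hij u hu v hv
    · exact ho₁ i j (fun h => hij (by rw [h])) u hu v hv
    · exact horth u (hs₁ ▸ le_iSup D₁ i hu) v (hs₂ ▸ le_iSup D₂ j hv)
    · rw [alt_swap B halt]
      rw [horth v (hs₁ ▸ le_iSup D₁ j hv) u (hs₂ ▸ le_iSup D₂ i hu), neg_zero]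
    · exact ho₂ i j (fun h => hij (by rw [h])) u hu v hv

theorem hasODec_single (f : V →ₗ[F] V) (a : ℕ) (U : Submodule F V) (hU : ∀ v ∈ U, f v ∈ U)
    (hnd : NdOn B U) (hdim : finrank F U = a) : HasODec B f a U 1 := by
  refine ⟨Unit, inferInstance, fun _ => U, rfl, fun _ => hdim, ?_, ?_, fun _ => hU,
    fun _ => hnd, ?_⟩
  · intro i
    have : (⨆ (j : Unit) (_ : j ≠ i), U) = ⊥ := by
      rw [eq_bot_iff]
      refine iSup₂_le fun j hj => ?_
      exact absurd (Subsingleton.elim j i) hj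
    rw [this]
    exact disjoint_bot_right
  · exact ciSup_const
  · intro i j hij
    exact absurd (Subsingleton.elim i j) hij

/-- conversion to a family indexed by `Fin k` -/
theorem HasODec.exists_fin {f : V →ₗ[F] V} {a : ℕ} {V' : Submodule F V} {k : ℕ}
    (h : HasODec B f a V' k) :
    ∃ D : Fin k → Submodule F V, (∀ i, finrank F (D i) = a) ∧
      iSupIndep D ∧ iSup D = V' ∧ (∀ i, ∀ v ∈ D i, f v ∈ D i) ∧ (∀ i, NdOn B (D i)) ∧
      (∀ i j, i ≠ j → ∀ u ∈ D i, ∀ v ∈ D j, B u v = 0) := by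
  obtain ⟨ι, _, D, hc, hf, hi, hs, hm, hn, ho⟩ := h
  let e : Fin k ≃ ι := (Fintype.equivFinOfCardEq hc).symm
  refine ⟨D ∘ e, fun i => hf _, hi.comp e.injective, ?_, fun i => hm _, fun i => hn _, ?_⟩
  · rw [← hs]
    exact e.iSup_comp (g := D)
  · intro i j hij
    exact ho _ _ (fun h => hij (e.injective h))

end odec

section peel

variable {F V : Type*} [Field F] [Fintype F] [AddCommGroup V] [Module F V] [FiniteDimensional F V]
  {p : ℕ} [Fact p.Prime] [CharP F p]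
  (B : LinearMap.BilinForm F V) (y : V →ₗ[F] V) (r : ℕ) [Fact r.Prime]

omit [Fact r.Prime] in
theorem even_blockDim (q : ℕ) : Even (blockDim q r) := by
  rw [blockDim]
  split_ifs with h
  · exact h
  · exact even_two_mul _

theorem hasODec_main (halt : ∀ v, B v v = 0) (hiso : ∀ u v, B (y u) (y v) = B u v)
    (hrp : r ≠ p) (hr2 : r ≠ 2) (hy : y ^ r = 1) (a : ℕ) (hae : Even a) :
    ∀ (k : ℕ) (V' : Submodule F V), (∀ u ∈ V', y u ∈ V') → NdOn B V' → finrank F V' = a * k →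
      k * (a % blockDim (Fintype.card F) r) < blockDim (Fintype.card F) r →
      HasODec B y a V' k := by
  have hr : 0 < r := (Fact.out : r.Prime).pos
  have hr0 : (r : F) ≠ 0 := by
    rw [Ne, CharP.cast_eq_zero_iff F p]
    intro hd
    exact hrp ((Nat.prime_dvd_prime_iff_eq Fact.out Fact.out).1 hd).symm
  set c := blockDim (Fintype.card F) r with hc
  have hcpos : 0 < c := blockDim_pos (F := F) r hrp
  have hce : Even c := even_blockDim r _
  intro k
  induction k with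
  | zero =>
    intro V' _ _ hdim _
    rw [mul_zero] at hdim
    rw [Submodule.finrank_eq_zero.1 hdim]
    exact hasODec_bot B y a
  | succ k ih =>
    intro V' hV' hV'nd hdim hk
    -- split
    have hEnd : NdOn B (V' ⊓ fixE y) := ndOn_inf_fix B y hiso r hy hr0 V' hV' hV'nd
    have hRnd : NdOn B (V' ⊓ movR y) := ndOn_inf_mov B y halt hiso r hy hr0 V' hV' hV'nd
    have hRinv : ∀ u ∈ V' ⊓ movR y, y u ∈ V' ⊓ movR y :=
      fun u hu => ⟨hV' u hu.1, movR_invariant y u hu.2⟩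
    have hsplit := inv_split y r hy hr0 V' hV'
    have hdisj : (V' ⊓ fixE y) ⊓ (V' ⊓ movR y) = ⊥ := by
      rw [eq_bot_iff, ← fix_inf_mov y r hy hr0]
      exact inf_le_inf inf_le_right inf_le_right
    have hsum : finrank F ↥(V' ⊓ fixE y) + finrank F ↥(V' ⊓ movR y) = a * (k + 1) := by
      have := Submodule.finrank_sup_add_finrank_inf_eq (V' ⊓ fixE y) (V' ⊓ movR y)
      rw [hsplit, hdisj, finrank_bot, add_zero] at this
      rw [← hdim, this]
    obtain ⟨⟨b', hb'0⟩, hchain0⟩ := exists_nd_chain B y r halt hiso hrp hr2 hy _ (V' ⊓ movR y) rfl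
      hRinv inf_le_right hRnd
    have hb' : finrank F ↥(V' ⊓ movR y) = c * b' := hb'0
    have hchain : ∀ k, c * k ≤ finrank F ↥(V' ⊓ movR y) →
        ∃ U : Submodule F V, U ≤ V' ⊓ movR y ∧ (∀ u ∈ U, y u ∈ U) ∧ NdOn B U ∧
          finrank F U = c * k := hchain0
    -- e' % c = (k+1) * (a % c)
    have hmod : finrank F ↥(V' ⊓ fixE y) % c = (k + 1) * (a % c) := by
      have h1 : (finrank F ↥(V' ⊓ fixE y) + c * b') % c = (a * (k + 1)) % c := by
        rw [← hb', hsum]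
      rw [Nat.add_mul_mod_self_left] at h1
      have h2 : a * (k + 1) % c = a % c * (k + 1) % c := (Nat.mod_modEq a c).symm.mul_right (k + 1)
      rw [h1, h2, mul_comm, Nat.mod_eq_of_lt hk]
    have hge : a % c ≤ finrank F ↥(V' ⊓ fixE y) := by
      have h1 : finrank F ↥(V' ⊓ fixE y) % c ≤ finrank F ↥(V' ⊓ fixE y) := Nat.mod_le _ _
      rw [hmod] at h1
      have h2 : a % c ≤ (k + 1) * (a % c) := Nat.le_mul_of_pos_left _ (by omega)
      omega
    have hadiv : a = c * (a / c) + a % c := (Nat.div_add_mod a c).symm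
    -- choose the block
    obtain ⟨b₁, hb₁⟩ : ∃ b₁, b₁ = min b' (a / c) := ⟨_, rfl⟩
    have hb₁le : c * b₁ ≤ finrank F ↥(V' ⊓ movR y) := by
      rw [hb', hb₁]
      exact Nat.mul_le_mul_left _ (min_le_left _ _)
    have hb₁a : c * b₁ ≤ a := by
      have : c * b₁ ≤ c * (a / c) := by
        rw [hb₁]
        exact Nat.mul_le_mul_left _ (min_le_right _ _)
      omega
    have hu₁le : a - c * b₁ ≤ finrank F ↥(V' ⊓ fixE y) := by
      rcases le_total b' (a / c) with h | h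
      · rw [hb₁, min_eq_left h]
        have h1 : a ≤ a * (k + 1) := Nat.le_mul_of_pos_right _ (by omega)
        omega
      · rw [hb₁, min_eq_right h]
        omega
    have hu₁e : Even (a - c * b₁) := by
      rw [Nat.even_sub hb₁a]
      exact ⟨fun _ => hce.mul_right _, fun _ => hae⟩
    obtain ⟨j, hj⟩ := hu₁e
    obtain ⟨U₁, hU₁le, hU₁nd, hU₁dim⟩ := exists_ndOn_sub B halt (V' ⊓ fixE y) hEnd j (by omega)
    obtain ⟨U₂, hU₂le, hU₂inv, hU₂nd, hU₂dim⟩ := hchain b₁ hb₁le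
    have hU₁inv : ∀ u ∈ U₁, y u ∈ U₁ := fixE_invariant y U₁ (hU₁le.trans inf_le_right)
    have horth12 : ∀ a ∈ U₁, ∀ c ∈ U₂, B a c = 0 := fun a ha c hc =>
      fix_orth_mov B y hiso a c (hU₁le ha).2 (hU₂le hc).2
    have hUnd : NdOn B (U₁ ⊔ U₂) := ndOn_sup B halt U₁ U₂ hU₁nd hU₂nd horth12
    have hUinv := sup_invariant y U₁ U₂ hU₁inv hU₂inv
    have hUV : U₁ ⊔ U₂ ≤ V' := sup_le (hU₁le.trans inf_le_left) (hU₂le.trans inf_le_left)
    have hUdim : finrank F ↥(U₁ ⊔ U₂) = a := by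
      have h1 : U₁ ⊓ U₂ = ⊥ := by
        rw [eq_bot_iff, ← hdisj]
        exact inf_le_inf hU₁le hU₂le
      have := Submodule.finrank_sup_add_finrank_inf_eq U₁ U₂
      rw [h1, finrank_bot, add_zero, hU₁dim, hU₂dim] at this
      omega
    -- the complement
    have hV''nd : NdOn B (V' ⊓ B.orthogonal (U₁ ⊔ U₂)) :=
      ndOn_inf_orth B halt V' _ hV'nd hUV hUnd
    have hV''dim := finrank_inf_orth B halt V' _ hUV hUnd
    have hV''inv : ∀ u ∈ V' ⊓ B.orthogonal (U₁ ⊔ U₂), y u ∈ V' ⊓ B.orthogonal (U₁ ⊔ U₂) :=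
      fun u hu => ⟨hV' u hu.1, orth_invariant B y hiso r hr hy _ hUinv u hu.2⟩
    have hV''k : finrank F ↥(V' ⊓ B.orthogonal (U₁ ⊔ U₂)) = a * k := by
      rw [hUdim, hdim, mul_add, mul_one] at hV''dim
      omega
    have hk' : k * (a % c) < c := by
      have : k * (a % c) ≤ (k + 1) * (a % c) := Nat.mul_le_mul_right _ (by omega)
      omega
    have hrec := ih _ hV''inv hV''nd hV''k hk'
    obtain ⟨hs1, hs2⟩ := sup_inf_orth B halt V' _ hUV hUnd
    have hfin := (hasODec_single B y a _ hUinv hUnd hUdim).sup B halt hrec hs2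
      (fun u hu v hv => (mem_orth B _ v).1 hv.2 u hu)
    rw [hs1, add_comm] at hfin
    exact hfin

end peel

end Cfsg.Agent.Lib.Helper12.Sp
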