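import Mathlib
import Cfsg.Agent.Lib.Helper12.SpC

set_option autoImplicit false

namespace Cfsg.Agent.Lib.Helper12.Sp

open Module Polynomial Cfsg.Agent.Lib.Helper12.Elus

section li

variable {F V : Type*} [Field F] [AddCommGroup V] [Module F V]

theorem li_poly (y : V →ₗ[F] V) (r : ℕ) (v : V)
    (hli : LinearIndependent F (fun i : Fin r => (y ^ (i : ℕ)) v)) (P : F[X]) (hP0 : P ≠ 0)
    (hdeg : P.natDegree < r) : aeval y P v ≠ 0 := by
  intro hP
  rw [Fintype.linearIndependent_iff] at hli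
  have h1 : ∑ i : Fin r, P.coeff (i : ℕ) • (y ^ (i : ℕ)) v = 0 := by
    rw [Fin.sum_univ_eq_sum_range (fun i => P.coeff i • (y ^ i) v) r]
    rw [aeval_eq_sum_range' hdeg, LinearMap.sum_apply] at hP
    simpa using hP
  have h3 := hli (fun i => P.coeff (i : ℕ)) h1
  apply hP0
  ext k
  rw [coeff_zero]
  by_cases hk : k < r
  · exact h3 ⟨k, hk⟩
  · exact coeff_eq_zero_of_natDegree_lt (by omega)

theorem movR_le_cyc' [FiniteDimensional F V] (y : V →ₗ[F] V) (r : ℕ) (hr : 0 < r)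
    (hy : y ^ r = 1) (v : V)
    (hli : LinearIndependent F (fun i : Fin r => (y ^ (i : ℕ)) v))
    (hR : finrank F (movR y) ≤ r - 1) : movR y ≤ cyc y v r := by
  set Z := cyc y v r with hZ
  have hZinv : ∀ u ∈ Z, y u ∈ Z :=
    cyc_invariant_of_pow y r hr 1 (by rw [hy, one_smul]) v
  have hvZ : v ∈ Z := self_mem_cyc y v r hr
  have hWinv := map_sub_one_invariant y Z hZinv
  have hWR := map_sub_one_le_movR y Z
  set Q := (y.restrict hWinv).charpoly with hQ
  have hQm : Q.Monic := LinearMap.charpoly_monic _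
  have hQdeg : Q.natDegree = finrank F ↥(Z.map (y - 1)) := LinearMap.charpoly_natDegree _
  have hQW : ∀ w ∈ Z.map (y - 1), aeval y Q w = 0 := by
    intro w hw
    have h1 := aeval_restrict_apply y _ hWinv Q ⟨w, hw⟩
    rw [hQ, LinearMap.aeval_self_charpoly, LinearMap.zero_apply] at h1
    exact h1.symm
  have hX1 : (X - 1 : F[X]).Monic := by
    rw [← C_1]
    exact monic_X_sub_C 1
  have hPv : aeval y (Q * (X - 1)) v = 0 := by
    rw [map_mul, Module.End.mul_apply, map_sub, aeval_X, map_one]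
    exact hQW _ ⟨v, hvZ, rfl⟩
  have hPdeg : (Q * (X - 1)).natDegree = finrank F ↥(Z.map (y - 1)) + 1 := by
    rw [hQm.natDegree_mul hX1, hQdeg, ← C_1, natDegree_X_sub_C]
  have hge : r ≤ finrank F ↥(Z.map (y - 1)) + 1 := by
    by_contra hlt
    exact li_poly y r v hli _ (hQm.mul hX1).ne_zero (by rw [hPdeg]; omega) hPv
  have heq : Z.map (y - 1) = movR y :=
    Submodule.eq_of_le_of_finrank_le hWR (by omega)
  rw [← heq]
  exact map_sub_one_le y Z hZinv

end li

section moved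

variable {F V : Type*} [Field F] [AddCommGroup V] [Module F V] [FiniteDimensional F V]
  {ι : Type*} (y : V →ₗ[F] V) (r : ℕ) [Fact r.Prime] (a : ℕ) (D : ι → Submodule F V)
  (σ : Equiv.Perm ι)

theorem contra_moved (hy : y ^ r = 1) (ha2 : 2 ≤ a)
    (hfin : ∀ i, finrank F (D i) = a) (hind : iSupIndep D)
    (hmap : ∀ j, (D j).map y = D (σ j)) (τ : ι) (hτ : σ τ ≠ τ)
    (hR : finrank F (movR y) ≤ r - 1) (hR0 : movR y ≠ ⊥) : False := by
  have hr : r.Prime := Fact.out
  have ha : 0 < a := by omega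
  obtain ⟨v, hv, hv0⟩ := dec_exists_ne_zero a D ha hfin τ
  have hx0 : (⟨v, hv⟩ : D τ) ≠ 0 := fun h => hv0 (congrArg Subtype.val h)
  obtain ⟨⟨v', hv'⟩, hli⟩ := exists_linearIndependent_pair_of_one_lt_finrank
    (R := F) (M := D τ) (by rw [hfin τ]; omega) hx0
  rw [LinearIndependent.pair_iff] at hli
  have hv'0 : v' ≠ 0 := by
    rintro rfl
    have := hli 0 1 (by
      rw [zero_smul, zero_add, one_smul]
      rfl)
    exact one_ne_zero this.2
  have h1 := movR_le_cyc' y r hr.pos hy v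
    (dec_li y r a D σ hy ha hfin hind hmap τ hτ v hv hv0) hR
  have h2 := movR_le_cyc' y r hr.pos hy v'
    (dec_li y r a D σ hy ha hfin hind hmap τ hτ v' hv' hv'0) hR
  obtain ⟨w, hwR, hw0⟩ := Submodule.exists_mem_ne_zero_of_ne_bot hR0
  have hw1 := h1 hwR
  have hw2 := h2 hwR
  rw [cyc, Submodule.mem_span_range_iff_exists_fun] at hw1 hw2
  obtain ⟨p, hp⟩ := hw1
  obtain ⟨p', hp'⟩ := hw2
  have hinj := dec_orbit_inj y r a D σ hy ha hfin hind hmap τ hτ
  have hind' : iSupIndep (D ∘ fun i : Fin r => (σ ^ (i : ℕ)) τ) := hind.comp hinj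
  rw [iSupIndep_iff_finsetSum_eq_zero_imp_eq_zero] at hind'
  have hzero := hind' Finset.univ
    (fun i => (y ^ (i : ℕ)) (p i • v - p' i • v')) (fun i _ => by
      apply dec_pow_mem y D σ hmap i τ
      exact Submodule.sub_mem _ (Submodule.smul_mem _ _ hv) (Submodule.smul_mem _ _ hv'))
    (by
      simp only [map_sub, map_smul, Finset.sum_sub_distrib]
      rw [hp, hp', sub_self])
  have hyinj : ∀ i : ℕ, Function.Injective (y ^ i) := by
    intro i
    have h1 : (y ^ i) ^ r = (1 : F) • 1 := by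
      rw [← pow_mul, mul_comm, pow_mul, hy, one_pow, one_smul]
    exact injective_of_pow_eq_smul _ r hr.pos 1 one_ne_zero h1
  have hp0 : ∀ i, p i = 0 := by
    intro i
    have h3 := hzero i (Finset.mem_univ _)
    have h4 : p i • v - p' i • v' = 0 := by
      apply hyinj i
      rw [h3, map_zero]
    have h5 := hli (p i) (-(p' i)) (by
      apply Subtype.ext
      show p i • v + (-(p' i)) • v' = 0
      rw [neg_smul, ← sub_eq_add_neg]
      exact h4)
    exact h5.1
  apply hw0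
  rw [← hp]
  simp [hp0]

end moved

section fixedpart

variable {F V : Type*} [Field F] [Fintype F] [AddCommGroup V] [Module F V] [FiniteDimensional F V]
  {p : ℕ} [Fact p.Prime] [CharP F p]
  {ι : Type*} (B : LinearMap.BilinForm F V) (y : V →ₗ[F] V) (r : ℕ) [Fact r.Prime] (a : ℕ)
  (D : ι → Submodule F V) (σ : Equiv.Perm ι)

theorem sp_dec_fixed_mod (halt : ∀ v, B v v = 0) (hiso : ∀ u v, B (y u) (y v) = B u v)
    (hrp : r ≠ p) (hr2 : r ≠ 2) (hy : y ^ r = 1) (hfin : ∀ i, finrank F (D i) = a)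
    (hmap : ∀ j, (D j).map y = D (σ j)) (hnd : ∀ l, NdOn B (D l)) (l : ι) (hl : σ l = l) :
    ∃ m, a = finrank F ↥(D l ⊓ fixE y) + blockDim (Fintype.card F) r * m := by
  have hr0 : (r : F) ≠ 0 := by
    rw [Ne, CharP.cast_eq_zero_iff F p]
    intro hd
    exact hrp ((Nat.prime_dvd_prime_iff_eq Fact.out Fact.out).1 hd).symm
  have hinv := dec_fixed_invariant y D σ hmap l hl
  have hRnd : NdOn B (D l ⊓ movR y) := ndOn_inf_mov B y halt hiso r hy hr0 (D l) hinv (hnd l)
  have hRinv : ∀ u ∈ D l ⊓ movR y, y u ∈ D l ⊓ movR y :=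
    fun u hu => ⟨hinv u hu.1, movR_invariant y u hu.2⟩
  obtain ⟨⟨m, hm⟩, -⟩ := exists_nd_chain B y r halt hiso hrp hr2 hy _ (D l ⊓ movR y) rfl
    hRinv inf_le_right hRnd
  have hsplit := inv_split y r hy hr0 (D l) hinv
  have hdisj : (D l ⊓ fixE y) ⊓ (D l ⊓ movR y) = ⊥ := by
    rw [eq_bot_iff, ← fix_inf_mov y r hy hr0]
    exact inf_le_inf inf_le_right inf_le_right
  have := Submodule.finrank_sup_add_finrank_inf_eq (D l ⊓ fixE y) (D l ⊓ movR y)
  rw [hsplit, hdisj, finrank_bot, add_zero, hfin l, hm] at this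
  exact ⟨m, this⟩

theorem sp_all_fixed_bound [Fintype ι] (halt : ∀ v, B v v = 0)
    (hiso : ∀ u v, B (y u) (y v) = B u v)
    (hrp : r ≠ p) (hr2 : r ≠ 2) (hy : y ^ r = 1) (hfin : ∀ i, finrank F (D i) = a)
    (hind : iSupIndep D)
    (hmap : ∀ j, (D j).map y = D (σ j)) (hnd : ∀ l, NdOn B (D l)) (hall : ∀ l, σ l = l) :
    Fintype.card ι * (a % blockDim (Fintype.card F) r) ≤ finrank F (fixE y) := by
  set c := blockDim (Fintype.card F) r with hc
  have h1 : ∀ l, a % c ≤ finrank F ↥(D l ⊓ fixE y) := by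
    intro l
    obtain ⟨m, hm⟩ := sp_dec_fixed_mod B y r a D σ halt hiso hrp hr2 hy hfin hmap hnd l (hall l)
    have : a % c = finrank F ↥(D l ⊓ fixE y) % c := by
      conv_lhs => rw [hm]
      exact Nat.add_mul_mod_self_left _ _ _
    rw [this]
    exact Nat.mod_le _ _
  have hind' : iSupIndep (fun l => D l ⊓ fixE y) := hind.mono (fun l => inf_le_left)
  have h2 := finrank_iSup_of_iSupIndep _ hind'
  have h3 : finrank F ↥(⨆ l, D l ⊓ fixE y) ≤ finrank F (fixE y) :=
    Submodule.finrank_mono (iSup_le fun l => inf_le_right)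
  calc Fintype.card ι * (a % c) = ∑ _l : ι, a % c := by
        rw [Finset.sum_const, Finset.card_univ, smul_eq_mul]
    _ ≤ ∑ l, finrank F ↥(D l ⊓ fixE y) := Finset.sum_le_sum fun l _ => h1 l
    _ = finrank F ↥(⨆ l, D l ⊓ fixE y) := h2.symm
    _ ≤ finrank F (fixE y) := h3

omit [AddCommGroup V] [Module F V] [FiniteDimensional F V] in
theorem blockDim_dvd_pred (hrp : r ≠ p) (hr2 : r ≠ 2) :
    blockDim (Fintype.card F) r ∣ r - 1 := by
  have hr : r.Prime := Fact.out
  have hq0 : ((Fintype.card F : ℕ) : ZMod r) ≠ 0 := by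
    rw [Ne, ZMod.natCast_eq_zero_iff]
    exact card_not_dvd (F := F) r hr hrp
  have hidvd : orderOf (Fintype.card F : ZMod r) ∣ r - 1 :=
    orderOf_dvd_of_pow_eq_one (ZMod.pow_card_sub_one_eq_one hq0)
  rw [blockDim]
  split_ifs with hev
  · exact hidvd
  · have hodd : Odd (orderOf (Fintype.card F : ZMod r)) := Nat.not_even_iff_odd.1 hev
    have h2 : 2 ∣ r - 1 := by
      obtain ⟨k, hk⟩ := hr.odd_of_ne_two hr2
      exact ⟨k, by omega⟩
    exact Nat.Coprime.mul_dvd_of_dvd_of_dvd (Nat.coprime_two_left.2 hodd) h2 hidvd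

theorem sp_fwd (halt : ∀ v, B v v = 0) (hrp : r ≠ p) (hr2 : r ≠ 2) (n t : ℕ)
    (hn : finrank F V = n) (hat : n = a * t) (ha2 : 2 ≤ a)
    (hcn : blockDim (Fintype.card F) r ≤ n)
    (H : ∀ ν b, n = ν + blockDim (Fintype.card F) r * b → ν < n →
      ∃ y : V →ₗ[F] V, (∀ u v, B (y u) (y v) = B u v) ∧ y ^ r = 1 ∧ finrank F (fixE y) = ν ∧
        (∃ P : F[X], P ≠ 0 ∧ P.natDegree ≤ blockDim (Fintype.card F) r + 1 ∧ aeval y P = 0) ∧
        ∃ (D : Fin t → Submodule F V) (σ : Equiv.Perm (Fin t)), (∀ i, finrank F (D i) = a) ∧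
          iSupIndep D ∧ (∀ l, NdOn B (D l)) ∧ (∀ j, (D j).map y = D (σ j))) :
    blockDim (Fintype.card F) r ≤ a ∧
      n % blockDim (Fintype.card F) r = t * (a % blockDim (Fintype.card F) r) := by
  have hr : r.Prime := Fact.out
  have ha : 0 < a := by omega
  set c := blockDim (Fintype.card F) r with hc
  have hcpos : 0 < c := blockDim_pos (F := F) r hrp
  have hνlt : n % c < c := Nat.mod_lt _ hcpos
  obtain ⟨y, hiso, hy, hfix, ⟨P, hP0, hPdeg, hP⟩, D, σ, hfin, hind, hnd, hmap⟩ :=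
    H (n % c) (n / c) (Nat.mod_add_div n c).symm (by omega)
  by_cases hall : ∀ l, σ l = l
  · have h1 := sp_all_fixed_bound B y r a D σ halt hiso hrp hr2 hy hfin hind hmap hnd hall
    rw [Fintype.card_fin, hfix] at h1
    exact finish_fixed n a t c (n % c) hat hcn hcpos rfl h1
  · exfalso
    push Not at hall
    obtain ⟨τ, hτ⟩ := hall
    have hrc : r ≤ c + 1 := by
      by_contra hlt
      exact hτ (no_moved_of_poly y r a D σ hy ha hfin hind hmap P hP0 (by omega) hP τ)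
    have hcr : c ≤ r - 1 :=
      Nat.le_of_dvd (by have := hr.two_le; omega) (blockDim_dvd_pred (F := F) r hrp hr2)
    have hale := le_finrank_fixE_of_moved y r a D σ hy ha hfin hind hmap τ hτ
    rw [hfix] at hale
    have hac : a < c := by omega
    obtain ⟨y₂, hiso₂, hy₂, hfix₂, -, D₂, σ₂, hfin₂, hind₂, hnd₂, hmap₂⟩ :=
      H (n - c) 1 (by omega) (by omega)
    by_cases hall₂ : ∀ l, σ₂ l = l
    · have h1 := sp_all_fixed_bound B y₂ r a D₂ σ₂ halt hiso₂ hrp hr2 hy₂ hfin₂ hind₂ hmap₂ hnd₂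
        hall₂
      rw [Fintype.card_fin, hfix₂, Nat.mod_eq_of_lt hac, mul_comm, ← hat] at h1
      omega
    · push Not at hall₂
      obtain ⟨τ₂, hτ₂⟩ := hall₂
      have hsum := finrank_fix_add_mov y₂
      rw [hfix₂, hn] at hsum
      have hR : finrank F (movR y₂) = c := by omega
      apply contra_moved y₂ r a D₂ σ₂ hy₂ ha2 hfin₂ hind₂ hmap₂ τ₂ hτ₂ (by omega)
      intro h0
      rw [h0, finrank_bot] at hR
      omega

end fixedpart

end Cfsg.Agent.Lib.Helper12.Sp
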