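import Mathlib
import Cfsg.Agent.Lib.Helper12.SpD
import Cfsg.Agent.Lib.Helper15.SpReal
import Cfsg.Agent.Lib.Helper15.PolarPairs

set_option autoImplicit false

namespace Cfsg.Agent.Lib.Helper12.Sp

open Module Polynomial Cfsg.Agent.Lib.Helper12.Elus Cfsg.Agent.Lib.Helper15
open Cfsg.Agent.Lib.Helper15.SpReal

section models

universe u

variable {F : Type u} [Field F] [Fintype F] {p : ℕ} [Fact p.Prime] [CharP F p]

omit [Fintype F] in
theorem star_eval_one_ne_zero (P : F[X]) (h0 : P.coeff 0 ≠ 0) (h1 : P.eval 1 ≠ 0) :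
    (StarPoly.star (RingHom.id F) P).eval 1 ≠ 0 := by
  unfold StarPoly.star
  rw [Polynomial.map_id, eval_mul, eval_C]
  apply mul_ne_zero (inv_ne_zero h0)
  intro h
  haveI : Invertible (1 : F) := invertibleOne
  have h2 := (eval₂_reverse_eq_zero_iff (RingHom.id F) (1 : F) P).1 (by
    rw [invOf_one]
    exact h)
  exact h1 h2

/-- the block polynomial -/
theorem exists_block_poly (r : ℕ) [Fact r.Prime] (hr2 : r ≠ 2) (hrp : r ≠ p) :
    ∃ g : F[X], g.Monic ∧ g.natDegree = blockDim (Fintype.card F) r ∧ g.eval 1 ≠ 0 ∧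
      SympReal r g := by
  have hr : r.Prime := Fact.out
  by_cases hev : Even (orderOf (Fintype.card F : ZMod r))
  · obtain ⟨h₀, hmon₀, hirr₀, hdeg₀, hdvd₀, hcop₀, hndvd, hstar⟩ :=
      PolarPairs.exists_selfdual_factor (F := F) (p := p) rfl r _ hr hr2 hrp rfl hev
    refine ⟨h₀, hmon₀, by rw [blockDim, if_pos hev, hdeg₀], ?_,
      sympReal_selfdual p r h₀ hmon₀ hirr₀ hstar hdvd₀ hndvd⟩
    intro h1
    have h2 : (X - C (1 : F)) ∣ h₀ := dvd_iff_isRoot.2 h1
    have h3 : IsUnit (X - C (1 : F)) := by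
      rw [C_1] at h2 ⊢
      exact hcop₀.isUnit_of_dvd' (dvd_refl _) h2
    exact Polynomial.not_isUnit_X_sub_C 1 h3
  · set i := orderOf (Fintype.card F : ZMod r) with hi
    obtain ⟨f, hf, hfix, -⟩ := exists_model (F := F) r hrp i 0 1 (by rw [zero_add, mul_one])
    obtain ⟨C₀, hC₀⟩ : ∃ C₀, C₀ = LinearMap.toMatrix' f := ⟨_, rfl⟩
    have hfC : Matrix.toLin' C₀ = f := by rw [hC₀, Matrix.toLin'_toMatrix']
    have hCr : C₀ ^ r = 1 := by
      apply Matrix.toLin'.injective
      rw [Matrix.toLin'_pow, hfC, hf, Matrix.toLin'_one]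
      rfl
    have hCC : C₀ * C₀ ^ (r - 1) = 1 := by
      rw [← pow_succ', Nat.sub_add_cancel hr.pos, hCr]
    have hcp : C₀.charpoly = f.charpoly := by rw [← hfC, Matrix.charpoly_toLin']
    have hdet : C₀.det ≠ 0 := by
      intro h0
      have := congrArg Matrix.det hCC
      rw [Matrix.det_mul, h0, zero_mul, Matrix.det_one] at this
      exact zero_ne_one this
    have hc0 : C₀.charpoly.coeff 0 ≠ 0 := by
      intro h0
      apply hdet
      rw [Matrix.det_eq_sign_charpoly_coeff, h0, mul_zero]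
    have hc1 : C₀.charpoly.eval 1 ≠ 0 := by
      intro h1
      rw [hcp] at h1
      have h2 : Module.End.HasEigenvalue f 1 :=
        (Module.End.hasEigenvalue_iff_isRoot_charpoly f 1).2 h1
      obtain ⟨v, hv⟩ := h2.exists_hasEigenvector
      have h3 : v ∈ fixE f := by
        rw [mem_fixE]
        have := hv.apply_eq_smul
        rwa [one_smul] at this
      have h4 : fixE f = ⊥ := Submodule.finrank_eq_zero.1 hfix
      rw [h4] at h3
      exact hv.2 ((Submodule.mem_bot F).1 h3)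
    have hmon : C₀.charpoly.Monic := Matrix.charpoly_monic C₀
    have hdeg : C₀.charpoly.natDegree = i := by
      rw [Matrix.charpoly_natDegree_eq_dim, Fintype.card_fin]
    refine ⟨C₀.charpoly * StarPoly.star (RingHom.id F) C₀.charpoly,
      hmon.mul (StarPoly.monic_star _ _ hc0), ?_, ?_,
      sympReal_hyperbolic r i C₀ (C₀ ^ (r - 1)) hCC hCr⟩
    · rw [hmon.natDegree_mul (StarPoly.monic_star _ _ hc0), StarPoly.natDegree_star _ _ hc0, hdeg,
        blockDim, if_neg hev]
      ring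
    · rw [eval_mul]
      exact mul_ne_zero hc1 (star_eval_one_ne_zero _ hc0 hc1)

omit [Fintype F] in
theorem fix_and_poly_of_charpoly {V : Type*} [AddCommGroup V] [Module F V] [FiniteDimensional F V]
    (y : V →ₗ[F] V) (r : ℕ) (hr0 : (r : F) ≠ 0) (hy : y ^ r = 1) (g : F[X]) (hg1 : g.eval 1 ≠ 0)
    (ν b : ℕ) (hcp : y.charpoly = g ^ b * (X - 1) ^ ν) :
    finrank F (fixE y) = ν ∧ aeval y ((X - 1) * g) = 0 := by
  have hss : Module.End.IsSemisimple y := by
    apply Module.End.isSemisimple_of_squarefree_aeval_eq_zero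
      (separable_X_pow_sub_C (1 : F) hr0 one_ne_zero).squarefree
    rw [map_sub, map_pow, aeval_X, aeval_C, hy, map_one, sub_self]
  have hg0 : g ≠ 0 := by
    rintro rfl
    exact hg1 (by simp)
  have hX1 : (X - 1 : F[X]) ≠ 0 := by
    rw [← C_1]
    exact X_sub_C_ne_zero 1
  constructor
  · have h1 : fixE y = Module.End.eigenspace y 1 := by
      ext v
      rw [mem_fixE, Module.End.mem_eigenspace_iff, one_smul]
    rw [h1, ← hss.isFinitelySemisimple.maxGenEigenspace_eq_eigenspace,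
      LinearMap.finrank_maxGenEigenspace_eq, hcp,
      rootMultiplicity_mul (mul_ne_zero (pow_ne_zero _ hg0) (pow_ne_zero _ hX1))]
    have h2 : rootMultiplicity 1 (g ^ b) = 0 := by
      apply rootMultiplicity_eq_zero
      rw [IsRoot.def, eval_pow]
      exact pow_ne_zero _ hg1
    have h3 : rootMultiplicity (1 : F) ((X - 1 : F[X]) ^ ν) = ν := by
      have := rootMultiplicity_X_sub_C_pow (1 : F) ν
      rwa [C_1] at this
    rw [h2, h3, zero_add]
  · apply Module.End.eq_zero_of_isNilpotent_isSemisimple _ (hss.aeval _)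
    refine ⟨b + ν, ?_⟩
    rw [← map_pow]
    have h1 : ((X - 1) * g : F[X]) ^ (b + ν) = (g ^ b * (X - 1) ^ ν) * ((X - 1) ^ b * g ^ ν) := by
      rw [mul_pow, pow_add, pow_add]
      ring
    rw [h1, map_mul, ← hcp, LinearMap.aeval_self_charpoly, zero_mul]

theorem exists_sp_model (r : ℕ) [Fact r.Prime] (hr2 : r ≠ 2) (hrp : r ≠ p) (d ν b : ℕ)
    (hn : 2 * d = ν + blockDim (Fintype.card F) r * b) :
    ∃ A : Matrix (Fin d ⊕ Fin d) (Fin d ⊕ Fin d) F, A ∈ Matrix.symplecticGroup (Fin d) F ∧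
      A ^ r = 1 ∧ finrank F (fixE (Matrix.toLin' A)) = ν ∧
      ∃ P : F[X], P ≠ 0 ∧ P.natDegree ≤ blockDim (Fintype.card F) r + 1 ∧
        aeval (Matrix.toLin' A) P = 0 := by
  have hr0 : (r : F) ≠ 0 := by
    rw [Ne, CharP.cast_eq_zero_iff F p]
    intro hd
    exact hrp ((Nat.prime_dvd_prime_iff_eq Fact.out Fact.out).1 hd).symm
  obtain ⟨g, hgm, hgdeg, hg1, hgS⟩ := exists_block_poly (F := F) r hr2 hrp
  have hce : Even (blockDim (Fintype.card F) r) := even_blockDim r _
  have hνe : Even ν := by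
    have h1 : Even (ν + blockDim (Fintype.card F) r * b) := by
      rw [← hn]
      exact even_two_mul d
    rw [Nat.even_add] at h1
    exact h1.2 (hce.mul_right b)
  obtain ⟨k, hk⟩ := hνe
  have hQ2 := sympReal_hyperbolic (F := F) r k 1 1 (one_mul 1) (one_pow r)
  rw [Matrix.charpoly_one, Fintype.card_fin, StarPoly.star_pow, StarPoly.star_X_sub_one,
    ← pow_add, ← hk] at hQ2
  have hQ := (hgS.pow b).mul hQ2
  have hX1 : (X - 1 : F[X]).Monic := by
    rw [← C_1]
    exact monic_X_sub_C 1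
  have hdegf : (g ^ b * (X - 1) ^ ν).natDegree = d + d := by
    rw [(hgm.pow b).natDegree_mul (hX1.pow _), hgm.natDegree_pow, hgdeg, hX1.natDegree_pow, ← C_1,
      natDegree_X_sub_C]
    have hcomm : blockDim (Fintype.card F) r * b = b * blockDim (Fintype.card F) r :=
      mul_comm _ _
    omega
  obtain ⟨A, hA, hAcp, hAr⟩ := exists_symplectic hQ d hdegf
  have hy : (Matrix.toLin' A) ^ r = 1 := by
    rw [← Matrix.toLin'_pow, hAr, Matrix.toLin'_one]
    rfl
  obtain ⟨hfix, hP⟩ := fix_and_poly_of_charpoly (Matrix.toLin' A) r hr0 hy g hg1 ν b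
    (by rw [Matrix.charpoly_toLin', hAcp])
  refine ⟨A, hA, hAr, hfix, (X - 1) * g, (hX1.mul hgm).ne_zero, ?_, hP⟩
  rw [hX1.natDegree_mul hgm, hgdeg, ← C_1, natDegree_X_sub_C]
  omega

end models

end Cfsg.Agent.Lib.Helper12.Sp
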