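import Mathlib
import Cfsg.Agent.Lib.Helper12.SpE

set_option autoImplicit false

namespace Cfsg.Agent.Lib.Helper12.Sp

open Module Polynomial Cfsg.Agent.Lib.Helper12.Elus Cfsg.Agent.Lib.Helper15

section counting

universe u v

variable {F : Type u} [Field F] {V : Type v} [AddCommGroup V] [Module F V]
  (B : LinearMap.BilinForm F V)

/-- the conditions on an orthogonal decomposition -/
def IsODec (a : ℕ) {t : ℕ} (D : Fin t → Submodule F V) : Prop :=
  (∀ i, finrank F (D i) = a) ∧ iSupIndep D ∧ iSup D = ⊤ ∧ (∀ j, NdOn B (D j)) ∧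
    (∀ j j', j ≠ j' → ∀ u ∈ D j, ∀ v ∈ D j', B u v = 0)

/-- the set of orthogonal decompositions -/
abbrev ODecSet (a t : ℕ) : Type v :=
  {D : Fin t → Submodule F V // IsODec B a D}

variable {a t : ℕ}

theorem isODec_comp (D : Fin t → Submodule F V) (hD : IsODec B a D)
    (σ : Equiv.Perm (Fin t)) : IsODec B a (D ∘ σ) :=
  ⟨fun i => hD.1 _, hD.2.1.comp σ.injective, by
    rw [← hD.2.2.1]
    exact σ.iSup_comp (g := D), fun j => hD.2.2.2.1 _,
    fun j j' hjj' => hD.2.2.2.2 _ _ (fun h => hjj' (σ.injective h))⟩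

/-- permutation action on decompositions -/
@[reducible]
def permActO (a t : ℕ) :
    MulAction (Equiv.Perm (Fin t)) (ODecSet B a t) where
  smul σ D := ⟨D.1 ∘ σ.symm, isODec_comp B D.1 D.2 σ.symm⟩
  one_smul D := by
    apply Subtype.ext
    rfl
  mul_smul σ τ D := by
    apply Subtype.ext
    rfl

theorem factorial_dvd_card_odecSet [Finite F] [FiniteDimensional F V] (ha : 0 < a) :
    t.factorial ∣ Nat.card (ODecSet B a t) := by
  letI := permActO B a t
  have hfree : ∀ D : ODecSet B a t, MulAction.stabilizer (Equiv.Perm (Fin t)) D = ⊥ := by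
    intro D
    rw [eq_bot_iff]
    intro σ hσ
    rw [MulAction.mem_stabilizer_iff] at hσ
    rw [Subgroup.mem_bot]
    have hinj : Function.Injective D.1 :=
      dec_injective a D.1 ha D.2.1 D.2.2.1
    have h1 : D.1 ∘ σ.symm = D.1 := congrArg Subtype.val hσ
    apply Equiv.ext
    intro j
    have h2 := congrFun h1 (σ j)
    simp only [Function.comp_apply, Equiv.symm_apply_apply] at h2
    rw [Equiv.Perm.one_apply]
    exact (hinj h2).symm
  have e := MulAction.selfEquivOrbitsQuotientProd hfree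
  rw [Nat.card_congr e, Nat.card_prod, Nat.card_perm, Nat.card_eq_fintype_card (α := Fin t),
    Fintype.card_fin]
  exact dvd_mul_left _ _

theorem isODec_map (D : Fin t → Submodule F V) (hD : IsODec B a D)
    (g : V ≃ₗ[F] V) (hg : ∀ x y, B (g x) (g y) = B x y) :
    IsODec B a (fun j => (D j).map (g : V →ₗ[F] V)) := by
  refine ⟨fun i => by rw [LinearEquiv.finrank_map_eq g, hD.1],
    LinearMap.iSupIndep_map _ g.injective hD.2.1, ?_, ?_, ?_⟩
  · rw [← Submodule.map_iSup, hD.2.2.1, Submodule.map_top, LinearMap.range_eq_top]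
    exact g.surjective
  · rintro j _ ⟨u, hu, rfl⟩ hu0
    have hu0' : u ≠ 0 := by
      rintro rfl
      exact hu0 (map_zero _)
    obtain ⟨v, hv, hne⟩ := hD.2.2.2.1 j u hu hu0'
    refine ⟨g v, ⟨v, hv, rfl⟩, ?_⟩
    show B (g u) (g v) ≠ 0
    rwa [hg]
  · rintro j j' hjj' _ ⟨u, hu, rfl⟩ _ ⟨v, hv, rfl⟩
    show B (g u) (g v) = 0
    rw [hg]
    exact hD.2.2.2.2 j j' hjj' u hu v hv

/-- isometry action on decompositions -/
@[reducible]
def ogAct (a t : ℕ) :
    MulAction (SymIso.Og B) (ODecSet B a t) where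
  smul g D := ⟨fun j => (D.1 j).map ((g : V ≃ₗ[F] V) : V →ₗ[F] V), isODec_map B D.1 D.2 g.1 g.2⟩
  one_smul D := by
    apply Subtype.ext
    funext j
    show (D.1 j).map ((1 : V ≃ₗ[F] V) : V →ₗ[F] V) = D.1 j
    ext v
    simp
  mul_smul g h D := by
    apply Subtype.ext
    funext j
    show (D.1 j).map (((g : V ≃ₗ[F] V) * (h : V ≃ₗ[F] V) : V ≃ₗ[F] V) : V →ₗ[F] V) =
      ((D.1 j).map ((h : V ≃ₗ[F] V) : V →ₗ[F] V)).map ((g : V ≃ₗ[F] V) : V →ₗ[F] V)
    rw [← Submodule.map_comp]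
    rfl

theorem exists_block_iso [FiniteDimensional F V] (halt : ∀ v, B v v = 0) (U U' : Submodule F V)
    (hU : NdOn B U) (hU' : NdOn B U') (hdim : finrank F U = finrank F U') :
    ∃ e : U ≃ₗ[F] U', ∀ x y : U, B (e x : V) (e y : V) = B (x : V) (y : V) := by
  have key : ∀ W : Submodule F V, NdOn B W →
      ∃ (k : ℕ) (φ : W ≃ₗ[F] (Fin k ⊕ Fin k → F)), 2 * k = finrank F W ∧
        ∀ x y : W, Cfsg.sympForm k F (φ x) (φ y) = B (x : V) (y : V) := by
    intro W hW
    obtain ⟨k, φ, hk, hφ⟩ := SymIso.exists_symp_equiv (F := F) W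
      (B.restrict W) (fun x => halt x) (by
        intro x hx
        by_contra hx0
        obtain ⟨v, hv, hne⟩ := hW x x.2 (fun h => hx0 (Subtype.ext h))
        exact hne (hx ⟨v, hv⟩))
    exact ⟨k, φ, hk, fun x y => hφ x y⟩
  obtain ⟨k, φ, hk, hφ⟩ := key U hU
  obtain ⟨k', φ', hk', hφ'⟩ := key U' hU'
  have hkk : k = k' := by omega
  subst hkk
  refine ⟨φ.trans φ'.symm, fun x y => ?_⟩
  rw [← hφ', ← hφ]
  simp

theorem exists_iso_of_odec [FiniteDimensional F V] (halt : ∀ v, B v v = 0)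
    (D D' : Fin t → Submodule F V) (hD : IsODec B a D) (hD' : IsODec B a D') :
    ∃ g : V ≃ₗ[F] V, (∀ x y, B (g x) (g y) = B x y) ∧
      ∀ j, (D j).map (g : V →ₗ[F] V) = D' j := by
  classical
  have hex : ∀ j, ∃ e : D j ≃ₗ[F] D' j,
      ∀ x y : D j, B (e x : V) (e y : V) = B (x : V) (y : V) := fun j =>
    exists_block_iso B halt (D j) (D' j) (hD.2.2.2.1 j) (hD'.2.2.2.1 j) (by rw [hD.1, hD'.1])
  choose e he using hex
  let E := hD.2.1.linearEquiv hD.2.2.1
  let E' := hD'.2.1.linearEquiv hD'.2.2.1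
  let M : (Π₀ j, D j) ≃ₗ[F] (Π₀ j, D' j) := DFinsupp.mapRange.linearEquiv e
  let g : V ≃ₗ[F] V := (E.symm.trans M).trans E'
  have hg : ∀ j (v : V) (hv : v ∈ D j), g v = (e j ⟨v, hv⟩ : V) := by
    intro j v hv
    show E' (M (E.symm v)) = _
    have h1 : E.symm v = DFinsupp.single j ⟨v, hv⟩ :=
      iSupIndep.linearEquiv_symm_apply hD.2.1 hD.2.2.1 hv
    rw [h1]
    have h2 : M (DFinsupp.single j ⟨v, hv⟩) = DFinsupp.single j (e j ⟨v, hv⟩) := by
      show DFinsupp.mapRange.linearEquiv e (DFinsupp.single j ⟨v, hv⟩) = _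
      simp
    rw [h2]
    show hD'.2.1.linearEquiv hD'.2.2.1 (DFinsupp.single j (e j ⟨v, hv⟩)) = _
    simp
  have hiso : ∀ x y, B (g x) (g y) = B x y := by
    intro x
    have hx : x ∈ iSup D := by rw [hD.2.2.1]; exact Submodule.mem_top
    refine Submodule.iSup_induction D (motive := fun x => ∀ y, B (g x) (g y) = B x y) hx
      ?_ ?_ ?_
    · intro i x hxi y
      have hy : y ∈ iSup D := by rw [hD.2.2.1]; exact Submodule.mem_top
      refine Submodule.iSup_induction D (motive := fun y => B (g x) (g y) = B x y) hy ?_ ?_ ?_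
      · intro l y hyl
        by_cases hil : i = l
        · subst hil
          rw [hg i x hxi, hg i y hyl]
          exact he i ⟨x, hxi⟩ ⟨y, hyl⟩
        · rw [hg i x hxi, hg l y hyl, hD.2.2.2.2 i l hil x hxi y hyl]
          exact hD'.2.2.2.2 i l hil _ (e i ⟨x, hxi⟩).2 _ (e l ⟨y, hyl⟩).2
      · simp
      · intro y₁ y₂ h₁ h₂
        rw [map_add, map_add, map_add, h₁, h₂]
    · intro y
      simp
    · intro x₁ x₂ h₁ h₂ y
      rw [map_add, map_add, LinearMap.add_apply, map_add, LinearMap.add_apply, h₁, h₂]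
  refine ⟨g, hiso, fun j => ?_⟩
  have hle : (D j).map (g : V →ₗ[F] V) ≤ D' j := by
    rintro _ ⟨v, hv, rfl⟩
    show g v ∈ D' j
    rw [hg j v hv]
    exact (e j ⟨v, hv⟩).2
  apply Submodule.eq_of_le_of_finrank_eq hle
  rw [LinearEquiv.finrank_map_eq g, hD.1, hD'.1]

theorem card_odecSet_dvd [FiniteDimensional F V] (halt : ∀ v, B v v = 0)
    (hne : Nonempty (ODecSet B a t)) :
    Nat.card (ODecSet B a t) ∣ Nat.card (SymIso.Og B) := by
  letI := ogAct B a t
  obtain ⟨D₀⟩ := hne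
  have h1 : Nat.card (MulAction.orbit (SymIso.Og B) D₀) *
      Nat.card (MulAction.stabilizer (SymIso.Og B) D₀) =
      Nat.card (SymIso.Og B) := by
    rw [← Nat.card_prod]
    exact Nat.card_congr (MulAction.orbitProdStabilizerEquivGroup _ D₀)
  have h2 : MulAction.orbit (SymIso.Og B) D₀ = Set.univ := by
    rw [Set.eq_univ_iff_forall]
    intro D
    obtain ⟨g, hgiso, hg⟩ := exists_iso_of_odec B halt D₀.1 D.1 D₀.2 D.2
    refine ⟨⟨g, hgiso⟩, ?_⟩
    apply Subtype.ext
    funext j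
    exact hg j
  have h3 : Nat.card (MulAction.orbit (SymIso.Og B) D₀) =
      Nat.card (ODecSet B a t) := by
    rw [h2]
    exact Nat.card_congr (Equiv.Set.univ _)
  rw [← h1, h3]
  exact dvd_mul_right _ _

end counting

section bound

universe u v

variable {F : Type u} [Field F] [Fintype F] {p : ℕ} [Fact p.Prime] [CharP F p]
  {V : Type v} [AddCommGroup V] [Module F V] [FiniteDimensional F V]
  (B : LinearMap.BilinForm F V)

omit [Fintype F] [Fact p.Prime] [CharP F p] [FiniteDimensional F V] in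
theorem blockDim_le_of_dvd_two_mul (q r j : ℕ) (hj : 0 < j)
    (h : orderOf (q : ZMod r) ∣ 2 * j) : blockDim q r ≤ 2 * j := by
  rw [blockDim]
  split_ifs with hev
  · exact Nat.le_of_dvd (by omega) h
  · have hodd : Odd (orderOf (q : ZMod r)) := Nat.not_even_iff_odd.1 hev
    have h1 : orderOf (q : ZMod r) ∣ j :=
      (Nat.Coprime.dvd_of_dvd_mul_left (Nat.coprime_two_right.2 hodd) h)
    have := Nat.le_of_dvd hj h1
    omega

theorem blockDim_le_of_dvd (halt : ∀ v, B v v = 0) (hnd : ∀ x, (∀ y, B x y = 0) → x = 0)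
    (d : ℕ) (hd : 2 * d = finrank F V) (a t : ℕ) (ha : 0 < a) (r : ℕ) [Fact r.Prime]
    (hrp : r ≠ p) (hne : Nonempty (ODecSet B a t))
    (hΩ : r ∣ Nat.card (ODecSet B a t) / t.factorial) :
    blockDim (Fintype.card F) r ≤ 2 * d := by
  have hr : r.Prime := Fact.out
  have hX : r ∣ Nat.card (ODecSet B a t) := by
    have h1 := Nat.mul_div_cancel' (factorial_dvd_card_odecSet B (a := a) (t := t) ha)
    rw [← h1]
    exact Dvd.dvd.mul_left hΩ _
  have hG : r ∣ Nat.card (SymIso.Og B) := hX.trans (card_odecSet_dvd B halt hne)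
  rw [SymIso.card_Og_alt V B halt hnd d hd, Cfsg.Agent.Lib.Helper14.card_symplectic] at hG
  have hndvd : ¬ r ∣ Fintype.card F ^ (d ^ 2) := fun h =>
    card_not_dvd (F := F) r hr hrp (hr.dvd_of_dvd_pow h)
  have hd2 := (hr.dvd_mul.1 hG).resolve_left hndvd
  obtain ⟨i, hi, hdvd⟩ := (Prime.dvd_finsetProd_iff (Nat.Prime.prime hr) _).1 hd2
  have hq : 0 < Fintype.card F := Fintype.card_pos
  have h3 := orderOf_dvd_of_dvd_pow_sub_one r _ _ hq hdvd
  have h4 := blockDim_le_of_dvd_two_mul (Fintype.card F) r (i + 1) (by omega) h3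
  have := Finset.mem_range.1 hi
  omega

omit [Fintype F] [Fact p.Prime] [CharP F p] in
theorem hasODec_one (halt : ∀ v, B v v = 0) (a : ℕ) (hae : Even a) :
    ∀ (k : ℕ) (V' : Submodule F V), NdOn B V' → finrank F V' = a * k →
      HasODec B (1 : V →ₗ[F] V) a V' k := by
  intro k
  induction k with
  | zero =>
    intro V' _ hdim
    rw [mul_zero] at hdim
    rw [Submodule.finrank_eq_zero.1 hdim]
    exact hasODec_bot B 1 a
  | succ k ih =>
    intro V' hV'nd hdim
    obtain ⟨j, hj⟩ := hae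
    obtain ⟨U, hUV, hUnd, hUdim⟩ := exists_ndOn_sub B halt V' hV'nd j (by
      rw [hdim, mul_add, mul_one]
      omega)
    have hUdim' : finrank F U = a := by omega
    have hV''nd : NdOn B (V' ⊓ B.orthogonal U) := ndOn_inf_orth B halt V' _ hV'nd hUV hUnd
    have hV''dim := finrank_inf_orth B halt V' _ hUV hUnd
    have hV''k : finrank F ↥(V' ⊓ B.orthogonal U) = a * k := by
      rw [hUdim', hdim, mul_add, mul_one] at hV''dim
      omega
    have hrec := ih _ hV''nd hV''k
    obtain ⟨hs1, hs2⟩ := sup_inf_orth B halt V' _ hUV hUnd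
    have hfin := (hasODec_single B 1 a U (fun v hv => hv) hUnd hUdim').sup B halt hrec hs2
      (fun u hu v hv => (mem_orth B _ v).1 hv.2 u hu)
    rw [hs1, add_comm] at hfin
    exact hfin

omit [Fintype F] [Fact p.Prime] [CharP F p] in
theorem nonempty_odecSet (halt : ∀ v, B v v = 0) (hnd : ∀ x, (∀ y, B x y = 0) → x = 0)
    (a t : ℕ) (hae : Even a) (hdim : finrank F V = a * t) : Nonempty (ODecSet B a t) := by
  have htop : NdOn B (⊤ : Submodule F V) := by
    intro u _ hu0
    by_contra hcon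
    push Not at hcon
    exact hu0 (hnd u (fun y => hcon y Submodule.mem_top))
  obtain ⟨D, hf, hi, hs, -, hn, ho⟩ :=
    (hasODec_one B halt a hae t ⊤ htop (by rw [finrank_top, hdim])).exists_fin
  exact ⟨⟨D, hf, hi, hs, hn, ho⟩⟩

end bound

end Cfsg.Agent.Lib.Helper12.Sp
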