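import Mathlib
import Cfsg.Prelude.Def_GeometricClasses
import Cfsg.Agent.Lib.Helper12.SpF

set_option autoImplicit false

namespace Cfsg.Agent.Lib.Helper12.Sp

open Module Polynomial Cfsg.Agent.Lib.Helper12.Elus Cfsg.Agent.Lib.Helper15

section std

universe u

variable {F : Type u} [Field F] (d : ℕ)

theorem stdB_alt (v : Fin d ⊕ Fin d → F) : sympBilin d (F := F) v v = 0 := by
  rw [sympBilin_apply, sympForm_eq]
  apply Finset.sum_eq_zero
  intro i _
  ring

theorem stdB_nd (x : Fin d ⊕ Fin d → F) (h : ∀ y, sympBilin d (F := F) x y = 0) : x = 0 :=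
  (sympBilin_nondegenerate d).1 x h

theorem std_finrank : finrank F (Fin d ⊕ Fin d → F) = 2 * d := by
  rw [Module.finrank_fintype_fun_eq_card, Fintype.card_sum, Fintype.card_fin]
  ring

theorem std_iso (A : Matrix (Fin d ⊕ Fin d) (Fin d ⊕ Fin d) F)
    (hA : A ∈ Matrix.symplecticGroup (Fin d) F) (u v : Fin d ⊕ Fin d → F) :
    sympBilin d (F := F) (Matrix.toLin' A u) (Matrix.toLin' A v) = sympBilin d u v := by
  rw [sympBilin_apply, sympBilin_apply, Matrix.toLin'_apply, Matrix.toLin'_apply]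
  exact sympForm_invariant d ⟨A, hA⟩ u v

theorem scalar_sq_eq_one {V : Type*} [AddCommGroup V] [Module F V] [Nontrivial V]
    (B : LinearMap.BilinForm F V) (hnd : ∀ x, (∀ y, B x y = 0) → x = 0) (z : F)
    (h : ∀ u v, B (z • u) (z • v) = B u v) : z * z = 1 := by
  obtain ⟨u, hu0⟩ := exists_ne (0 : V)
  have h1 : ¬ ∀ y, B u y = 0 := fun hall => hu0 (hnd u hall)
  push Not at h1
  obtain ⟨v, hv⟩ := h1
  have h2 := h u v
  rw [map_smul, map_smul, LinearMap.smul_apply, smul_eq_mul, smul_eq_mul, ← mul_assoc] at h2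
  have h3 : (z * z - 1) * B u v = 0 := by linear_combination h2
  rcases mul_eq_zero.1 h3 with h4 | h4
  · exact sub_eq_zero.1 h4
  · exact absurd h4 hv

theorem stmt_iff (a t : ℕ) (ha : 0 < a) (ht : 2 ≤ t)
    (D : Fin t → Submodule F (Fin d ⊕ Fin d → F)) :
    (Cfsg.Geo.IsMDecomposition a D ∧
      (∀ j, ∀ u ∈ D j, u ≠ 0 → ∃ v ∈ D j, Cfsg.sympForm d F u v ≠ 0) ∧
      (∀ j j', j ≠ j' → ∀ u ∈ D j, ∀ v ∈ D j', Cfsg.sympForm d F u v = 0)) ↔
    IsODec (sympBilin d (F := F)) a D := by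
  constructor
  · rintro ⟨h1, h2, h3⟩
    refine ⟨h1.finrank_eq, h1.indep, h1.iSup_eq_top, ?_, ?_⟩
    · intro j u hu hu0
      obtain ⟨v, hv, hne⟩ := h2 j u hu hu0
      exact ⟨v, hv, by rw [sympBilin_apply]; exact hne⟩
    · intro j j' hjj' u hu v hv
      rw [sympBilin_apply]
      exact h3 j j' hjj' u hu v hv
  · rintro ⟨h1, h2, h3, h4, h5⟩
    refine ⟨⟨ht, ha, h1, h2, h3⟩, ?_, ?_⟩
    · intro j u hu hu0
      obtain ⟨v, hv, hne⟩ := h4 j u hu hu0
      exact ⟨v, hv, by rw [← sympBilin_apply]; exact hne⟩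
    · intro j j' hjj' u hu v hv
      rw [← sympBilin_apply]
      exact h5 j j' hjj' u hu v hv

end std

section main

universe u

variable {F : Type u} [Field F] [Fintype F] {p : ℕ} [Fact p.Prime] [CharP F p] (d : ℕ)

theorem sp_bwd_std (hd : 1 ≤ d) (a t : ℕ) (hat : 2 * d = a * t) (hae : Even a)
    (r : ℕ) [Fact r.Prime] (hr2 : r ≠ 2) (hrp : r ≠ p)
    (hRHS : (2 * d) % blockDim (Fintype.card F) r = t * (a % blockDim (Fintype.card F) r))
    (A : Matrix (Fin d ⊕ Fin d) (Fin d ⊕ Fin d) F) (hA : A ∈ Matrix.symplecticGroup (Fin d) F)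
    (z : F) (hz : A ^ r = z • (1 : Matrix (Fin d ⊕ Fin d) (Fin d ⊕ Fin d) F)) :
    ∃ D : Fin t → Submodule F (Fin d ⊕ Fin d → F), IsODec (sympBilin d (F := F)) a D ∧
      ∀ j, (D j).map (Matrix.toLin' A) = D j := by
  have hr : r.Prime := Fact.out
  set B := sympBilin d (F := F) with hB
  set y₀ := Matrix.toLin' A with hy₀
  have halt : ∀ v, B v v = 0 := stdB_alt d
  have hnd : ∀ x, (∀ y, B x y = 0) → x = 0 := stdB_nd d
  have hiso₀ : ∀ u v, B (y₀ u) (y₀ v) = B u v := std_iso d A hA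
  have hy₀r : y₀ ^ r = z • 1 := by
    rw [hy₀, ← Matrix.toLin'_pow, hz, map_smul, Matrix.toLin'_one]
    rfl
  haveI : Nontrivial (Fin d ⊕ Fin d → F) := by
    haveI : Nonempty (Fin d ⊕ Fin d) := ⟨Sum.inl ⟨0, by omega⟩⟩
    infer_instance
  have hzz : z * z = 1 := by
    apply scalar_sq_eq_one B hnd z
    intro u v
    have := iso_pow B y₀ hiso₀ r u v
    rw [hy₀r] at this
    exact this
  have hz0 : z ≠ 0 := by
    rintro rfl
    rw [zero_mul] at hzz
    exact zero_ne_one hzz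
  obtain ⟨k, hk⟩ := hr.odd_of_ne_two hr2
  have hzr : z ^ r = z := by
    rw [hk, pow_succ, pow_mul, pow_two, hzz, one_pow, one_mul]
  set y := z • y₀ with hy
  have hyr : y ^ r = 1 := by
    rw [hy, _root_.smul_pow, hy₀r, hzr, smul_smul, hzz, one_smul]
  have hiso : ∀ u v, B (y u) (y v) = B u v := by
    intro u v
    rw [hy, LinearMap.smul_apply, LinearMap.smul_apply, map_smul, map_smul, LinearMap.smul_apply,
      smul_eq_mul, smul_eq_mul, ← mul_assoc, hzz, one_mul, hiso₀]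
  have hcpos : 0 < blockDim (Fintype.card F) r := blockDim_pos (F := F) r hrp
  have htop : NdOn B (⊤ : Submodule F (Fin d ⊕ Fin d → F)) := by
    intro u _ hu0
    by_contra hcon
    push Not at hcon
    exact hu0 (hnd u (fun y => hcon y Submodule.mem_top))
  have hdec := hasODec_main B y r halt hiso hrp hr2 hyr a hae t ⊤
    (fun _ _ => Submodule.mem_top) htop (by rw [finrank_top, std_finrank, hat]) (by
      rw [← hRHS]
      exact Nat.mod_lt _ hcpos)
  obtain ⟨D, hf, hi, hs, hm, hn, ho⟩ := hdec.exists_fin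
  refine ⟨D, ⟨hf, hi, hs, hn, ho⟩, fun j => ?_⟩
  apply map_eq_of_invariant y₀ (injective_of_pow_eq_smul y₀ r hr.pos z hz0 hy₀r)
  intro v hv
  have h1 := hm j v hv
  rw [hy, LinearMap.smul_apply] at h1
  have h2 := Submodule.smul_mem (D j) z h1
  rwa [smul_smul, hzz, one_smul] at h2

theorem sp_fwd_std (hd : 1 ≤ d) (a t : ℕ) (hat : 2 * d = a * t) (ha2 : 2 ≤ a) (hae : Even a)
    (r : ℕ) [Fact r.Prime] (hr2 : r ≠ 2) (hrp : r ≠ p)
    (hΩ : r ∣ Nat.card (ODecSet (sympBilin d (F := F)) a t) / t.factorial)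
    (H : ∀ A : Matrix (Fin d ⊕ Fin d) (Fin d ⊕ Fin d) F, A ∈ Matrix.symplecticGroup (Fin d) F →
      A ^ r = 1 → (∀ z : F, A ≠ z • (1 : Matrix (Fin d ⊕ Fin d) (Fin d ⊕ Fin d) F)) →
      ∃ D : Fin t → Submodule F (Fin d ⊕ Fin d → F), IsODec (sympBilin d (F := F)) a D ∧
        ∃ σ : Equiv.Perm (Fin t), ∀ j, (D j).map (Matrix.toLin' A) = D (σ j)) :
    blockDim (Fintype.card F) r ≤ a ∧
      (2 * d) % blockDim (Fintype.card F) r = t * (a % blockDim (Fintype.card F) r) := by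
  have hr : r.Prime := Fact.out
  set B := sympBilin d (F := F) with hB
  have halt : ∀ v, B v v = 0 := stdB_alt d
  have hnd : ∀ x, (∀ y, B x y = 0) → x = 0 := stdB_nd d
  have hfin : finrank F (Fin d ⊕ Fin d → F) = 2 * d := std_finrank d
  haveI : Nontrivial (Fin d ⊕ Fin d → F) := by
    haveI : Nonempty (Fin d ⊕ Fin d) := ⟨Sum.inl ⟨0, by omega⟩⟩
    infer_instance
  have hne : Nonempty (ODecSet B a t) :=
    nonempty_odecSet B halt hnd a t hae (by rw [hfin, hat])
  have hcn : blockDim (Fintype.card F) r ≤ 2 * d :=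
    blockDim_le_of_dvd B halt hnd d hfin.symm a t (by omega) r hrp hne hΩ
  apply sp_fwd B r a halt hrp hr2 (2 * d) t hfin hat ha2 hcn
  intro ν b hn hν
  obtain ⟨A, hA, hAr, hfix, P, hP0, hPdeg, hP⟩ := exists_sp_model (F := F) r hr2 hrp d ν b hn
  have hiso : ∀ u v, B (Matrix.toLin' A u) (Matrix.toLin' A v) = B u v := std_iso d A hA
  have hyr : (Matrix.toLin' A) ^ r = 1 := by
    rw [← Matrix.toLin'_pow, hAr, Matrix.toLin'_one]
    rfl
  have hns : ∀ z : F, A ≠ z • (1 : Matrix (Fin d ⊕ Fin d) (Fin d ⊕ Fin d) F) := by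
    intro z hAz
    have hy : Matrix.toLin' A = z • (1 : (Fin d ⊕ Fin d → F) →ₗ[F] (Fin d ⊕ Fin d → F)) := by
      rw [hAz, map_smul, Matrix.toLin'_one]
      rfl
    have hzz : z * z = 1 := by
      apply scalar_sq_eq_one B hnd z
      intro u v
      have := hiso u v
      rw [hy] at this
      exact this
    have hzr : z ^ r = 1 := by
      have h1 := hyr
      rw [hy, _root_.smul_pow, one_pow] at h1
      exact smul_one_inj (V := Fin d ⊕ Fin d → F) (by rw [hfin]; omega) _ _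
        (by rw [h1, one_smul])
    obtain ⟨k, hk⟩ := hr.odd_of_ne_two hr2
    have hz1 : z = 1 := by
      rw [hk, pow_succ, pow_mul, pow_two, hzz, one_pow, one_mul] at hzr
      exact hzr
    have hfixtop : fixE (Matrix.toLin' A) = ⊤ := by
      rw [eq_top_iff]
      intro v _
      rw [mem_fixE, hy, hz1, one_smul, Module.End.one_apply]
    rw [hfixtop, finrank_top, hfin] at hfix
    omega
  obtain ⟨D, hD, σ, hmap⟩ := H A hA hAr hns
  exact ⟨Matrix.toLin' A, hiso, hyr, hfix, ⟨P, hP0, hPdeg, hP⟩, D, σ, hD.1, hD.2.1, hD.2.2.2.1,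
    hmap⟩

end main

end Cfsg.Agent.Lib.Helper12.Sp
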