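import Mathlib
import Cfsg.Agent.Lib.Helper12.SpG

set_option autoImplicit false

namespace Cfsg.Agent.Lib.Helper12.Sp

open Module Polynomial Cfsg.Agent.Lib.Helper12.Elus

section cw

variable {F V : Type*} [Field F] [Fintype F] [AddCommGroup V] [Module F V]
  [FiniteDimensional F V]

/-- Chevalley–Warning: `n` bilinear forms on a space of dimension `> 2n` have a common nonzero
isotropic vector. -/
theorem exists_common_isotropic {p : ℕ} [Fact p.Prime] [CharP F p] (n : ℕ)
    (β : Fin n → LinearMap.BilinForm F V) (hdim : 2 * n < finrank F V) :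
    ∃ u : V, u ≠ 0 ∧ ∀ k, β k u u = 0 := by
  classical
  set D := finrank F V with hD
  let b : Basis (Fin D) F V := Module.finBasis F V
  let f : Fin n → MvPolynomial (Fin D) F := fun k =>
    ∑ a : Fin D, ∑ c : Fin D, MvPolynomial.C (β k (b a) (b c)) * MvPolynomial.X a * MvPolynomial.X c
  have hdeg : ∀ k, (f k).totalDegree ≤ 2 := by
    intro k
    refine (MvPolynomial.totalDegree_finsetSum_le (d := 2) ?_)
    intro a _
    refine (MvPolynomial.totalDegree_finsetSum_le (d := 2) ?_)
    intro c _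
    refine le_trans (MvPolynomial.totalDegree_mul _ _) ?_
    refine le_trans (add_le_add (MvPolynomial.totalDegree_mul _ _) le_rfl) ?_
    rw [MvPolynomial.totalDegree_C, MvPolynomial.totalDegree_X, MvPolynomial.totalDegree_X]
  have heval : ∀ (x : Fin D → F) k, MvPolynomial.eval x (f k) =
      β k (∑ a, x a • b a) (∑ c, x c • b c) := by
    intro x k
    simp only [f, map_sum, map_mul, MvPolynomial.eval_C, MvPolynomial.eval_X, LinearMap.sum_apply,
      map_smul, LinearMap.smul_apply, smul_eq_mul, Finset.mul_sum]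
    rw [Finset.sum_comm]
    apply Finset.sum_congr rfl
    intro a _
    apply Finset.sum_congr rfl
    intro c _
    ring
  have hsum : ∑ k, (f k).totalDegree < Fintype.card (Fin D) := by
    rw [Fintype.card_fin]
    calc ∑ k, (f k).totalDegree ≤ ∑ _k : Fin n, 2 := Finset.sum_le_sum fun k _ => hdeg k
      _ = 2 * n := by rw [Finset.sum_const, Finset.card_univ, Fintype.card_fin, smul_eq_mul, mul_comm]
      _ < D := hdim
  have hcw := char_dvd_card_solutions_of_fintype_sum_lt p hsum
  have hp : 2 ≤ p := (Fact.out : p.Prime).two_le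
  have hcw' : p ∣ Nat.card {x : Fin D → F // ∀ k, MvPolynomial.eval x (f k) = 0} := by
    rw [Nat.card_eq_fintype_card]
    convert hcw
  replace hcw := hcw'
  have hpos : 0 < Nat.card {x : Fin D → F // ∀ k, MvPolynomial.eval x (f k) = 0} := by
    haveI : Nonempty {x : Fin D → F // ∀ k, MvPolynomial.eval x (f k) = 0} := by
      refine ⟨⟨0, fun k => ?_⟩⟩
      rw [heval]
      simp
    exact Nat.card_pos
  have hge : 1 < Nat.card {x : Fin D → F // ∀ k, MvPolynomial.eval x (f k) = 0} := by
    have := Nat.le_of_dvd hpos hcw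
    omega
  haveI := Finite.one_lt_card_iff_nontrivial.1 hge
  obtain ⟨⟨x, hx⟩, ⟨x', hx'⟩, hne⟩ :=
    exists_pair_ne {x : Fin D → F // ∀ k, MvPolynomial.eval x (f k) = 0}
  have hex : ∃ x : Fin D → F, x ≠ 0 ∧ ∀ k, MvPolynomial.eval x (f k) = 0 := by
    by_cases h0 : x = 0
    · refine ⟨x', ?_, hx'⟩
      intro h0'
      apply hne
      apply Subtype.ext
      show x = x'
      rw [h0, h0']
    · exact ⟨x, h0, hx⟩
  obtain ⟨x, hx0, hx⟩ := hex
  refine ⟨∑ a, x a • b a, ?_, fun k => ?_⟩
  · intro h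
    apply hx0
    have := Fintype.linearIndependent_iff.1 b.linearIndependent x h
    funext a
    exact this a
  · rw [← heval]
    exact hx k

omit [Fintype F] [FiniteDimensional F V] in
theorem cyc_isotropic (B : LinearMap.BilinForm F V) (y : V →ₗ[F] V) (halt : ∀ v, B v v = 0)
    (hiso : ∀ u v, B (y u) (y v) = B u v) (i : ℕ) (u : V)
    (hu : ∀ k, 1 ≤ k → k < i → B ((y ^ k) u) u = 0) :
    cyc y u i ≤ B.orthogonal (cyc y u i) := by
  have key : ∀ a b : ℕ, a < i → b < i → B ((y ^ a) u) ((y ^ b) u) = 0 := by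
    have key1 : ∀ a b : ℕ, b ≤ a → a < i → B ((y ^ a) u) ((y ^ b) u) = 0 := by
      intro a b hba ha
      have h1 : (y ^ a) u = (y ^ b) ((y ^ (a - b)) u) := by
        rw [← Module.End.mul_apply, ← pow_add, Nat.add_sub_cancel' hba]
      rw [h1, iso_pow B y hiso]
      rcases Nat.eq_or_lt_of_le hba with h | h
      · rw [h, Nat.sub_self, pow_zero, Module.End.one_apply]
        exact halt u
      · exact hu (a - b) (by omega) (by omega)
    intro a b ha hb
    rcases le_total b a with h | h
    · exact key1 a b h ha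
    · rw [alt_swap B halt, key1 b a h hb, neg_zero]
  intro w hw
  rw [mem_orth]
  intro n hn
  rw [cyc] at hw hn
  refine Submodule.span_induction ?_ ?_ ?_ ?_ hn
  · rintro _ ⟨b, rfl⟩
    refine Submodule.span_induction ?_ ?_ ?_ ?_ hw
    · rintro _ ⟨a, rfl⟩
      exact key b a b.2 a.2
    · exact map_zero _
    · intro x z _ _ hx hz
      rw [map_add, hx, hz, add_zero]
    · intro c x _ hx
      rw [map_smul, hx, smul_zero]
  · rw [map_zero, LinearMap.zero_apply]
  · intro x z _ _ hx hz
    rw [map_add, LinearMap.add_apply, hx, hz, add_zero]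
  · intro c x _ hx
    rw [map_smul, LinearMap.smul_apply, hx, smul_zero]

/-- a subspace of dimension `> 2(i-1)` contains a nonzero `u` with `B(y^k u, u) = 0`, `1 ≤ k < i` -/
theorem exists_iso_vec {p : ℕ} [Fact p.Prime] [CharP F p] (B : LinearMap.BilinForm F V)
    (y : V →ₗ[F] V) (M : Submodule F V) (i : ℕ) (hdim : 2 * (i - 1) < finrank F M) :
    ∃ u ∈ M, u ≠ 0 ∧ ∀ k, 1 ≤ k → k < i → B ((y ^ k) u) u = 0 := by
  obtain ⟨⟨u, huM⟩, hu0, hu⟩ := exists_common_isotropic (F := F) (V := M) (p := p) (i - 1)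
    (fun k => B.comp ((y ^ ((k : ℕ) + 1)).comp M.subtype) M.subtype) hdim
  refine ⟨u, huM, fun h => hu0 (Subtype.ext h), ?_⟩
  intro k hk1 hki
  have := hu ⟨k - 1, by omega⟩
  rw [LinearMap.BilinForm.comp_apply] at this
  simp only [LinearMap.comp_apply, Submodule.subtype_apply] at this
  rwa [Nat.sub_add_cancel hk1] at this

end cw

end Cfsg.Agent.Lib.Helper12.Sp
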