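import Mathlib
import Cfsg.Agent.Lib.Helper12.SpH

set_option autoImplicit false

namespace Cfsg.Agent.Lib.Helper12.Sp

open Module Polynomial Cfsg.Agent.Lib.Helper12.Elus

section prim

variable {F V : Type*} [Field F] [AddCommGroup V] [Module F V] (y : V →ₗ[F] V)

theorem ker_aeval_invariant (P : F[X]) :
    ∀ u ∈ LinearMap.ker (aeval y P), y u ∈ LinearMap.ker (aeval y P) := by
  intro u hu
  rw [LinearMap.mem_ker] at hu ⊢
  have h1 : aeval y P * y = y * aeval y P := by
    have : y = aeval y (X : F[X]) := by rw [aeval_X]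
    nth_rewrite 2 [this]
    nth_rewrite 3 [this]
    rw [← map_mul, ← map_mul, mul_comm]
  rw [← Module.End.mul_apply, h1, Module.End.mul_apply, hu, map_zero]

theorem inf_invariant (A C : Submodule F V) (hA : ∀ v ∈ A, y v ∈ A) (hC : ∀ v ∈ C, y v ∈ C) :
    ∀ v ∈ A ⊓ C, y v ∈ A ⊓ C := fun v hv => ⟨hA v hv.1, hC v hv.2⟩

theorem split_coprime (N : Submodule F V) (hN : ∀ u ∈ N, y u ∈ N) (P Q : F[X])
    (hPQ : IsCoprime P Q) (hkill : ∀ u ∈ N, aeval y (P * Q) u = 0) :
    N ≤ (N ⊓ LinearMap.ker (aeval y P)) ⊔ (N ⊓ LinearMap.ker (aeval y Q)) := by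
  obtain ⟨a, b, hab⟩ := hPQ
  intro u hu
  have h1 : u = aeval y (b * Q) u + aeval y (a * P) u := by
    rw [← LinearMap.add_apply, ← map_add, add_comm, hab, map_one, Module.End.one_apply]
  rw [h1]
  apply Submodule.add_mem_sup
  · refine ⟨aeval_mem_of_invariant y N hN _ u hu, ?_⟩
    show aeval y (b * Q) u ∈ LinearMap.ker (aeval y P)
    rw [LinearMap.mem_ker, ← Module.End.mul_apply, ← map_mul]
    have : P * (b * Q) = b * (P * Q) := by ring
    rw [this, map_mul, Module.End.mul_apply, hkill u hu, map_zero]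
  · refine ⟨aeval_mem_of_invariant y N hN _ u hu, ?_⟩
    show aeval y (a * P) u ∈ LinearMap.ker (aeval y Q)
    rw [LinearMap.mem_ker, ← Module.End.mul_apply, ← map_mul]
    have : Q * (a * P) = a * (P * Q) := by ring
    rw [this, map_mul, Module.End.mul_apply, hkill u hu, map_zero]

theorem finrank_le_of_family [FiniteDimensional F V] {ι : Type*} [DecidableEq ι] (h : ι → F[X])
    (bound : ℕ) (N : Submodule F V)
    (hb : ∀ j, ∀ N' : Submodule F V, (∀ u ∈ N', y u ∈ N') → N' ≤ N →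
      (∀ u ∈ N', aeval y (h j) u = 0) → finrank F N' ≤ bound) :
    ∀ S : Finset ι, (∀ j ∈ S, ∀ j' ∈ S, j ≠ j' → IsCoprime (h j) (h j')) →
      ∀ N' : Submodule F V, (∀ u ∈ N', y u ∈ N') → N' ≤ N →
        (∀ u ∈ N', aeval y (∏ j ∈ S, h j) u = 0) → finrank F N' ≤ bound * S.card := by
  intro S
  induction S using Finset.induction_on with
  | empty =>
    intro _ N' _ _ hkill
    have : N' = ⊥ := by
      rw [eq_bot_iff]
      intro u hu
      have := hkill u hu
      rw [Finset.prod_empty, map_one, Module.End.one_apply] at this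
      rw [this]
      exact zero_mem _
    rw [this, finrank_bot]
    exact Nat.zero_le _
  | insert a S ha ih =>
    intro hcop N' hN' hN'N hkill
    rw [Finset.prod_insert ha] at hkill
    have hcop' : IsCoprime (h a) (∏ j ∈ S, h j) := by
      apply IsCoprime.prod_right
      intro j hj
      exact hcop a (Finset.mem_insert_self a S) j (Finset.mem_insert_of_mem hj)
        (fun h' => ha (h' ▸ hj))
    have hsplit := split_coprime y N' hN' _ _ hcop' hkill
    have h1 : finrank F ↥(N' ⊓ LinearMap.ker (aeval y (h a))) ≤ bound :=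
      hb a _ (inf_invariant y _ _ hN' (ker_aeval_invariant y _)) (inf_le_left.trans hN'N)
        (fun u hu => LinearMap.mem_ker.1 hu.2)
    have h2 : finrank F ↥(N' ⊓ LinearMap.ker (aeval y (∏ j ∈ S, h j))) ≤ bound * S.card :=
      ih (fun j hj j' hj' hne => hcop j (Finset.mem_insert_of_mem hj) j'
        (Finset.mem_insert_of_mem hj') hne) _
        (inf_invariant y _ _ hN' (ker_aeval_invariant y _)) (inf_le_left.trans hN'N)
        (fun u hu => LinearMap.mem_ker.1 hu.2)
    have h3 := Submodule.finrank_mono hsplit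
    have h4 := Submodule.finrank_add_le_finrank_add_finrank
      (N' ⊓ LinearMap.ker (aeval y (h a))) (N' ⊓ LinearMap.ker (aeval y (∏ j ∈ S, h j)))
    rw [Finset.card_insert_of_notMem ha, mul_add, mul_one]
    omega

end prim

section isosub

variable {F V : Type*} [Field F] [AddCommGroup V] [Module F V] (B : LinearMap.BilinForm F V)

theorem iso_sup (halt : ∀ v, B v v = 0) (W₁ W₂ : Submodule F V) (h₁ : W₁ ≤ B.orthogonal W₁)
    (h₂ : W₂ ≤ B.orthogonal W₂) (h₁₂ : ∀ a ∈ W₁, ∀ b ∈ W₂, B a b = 0) :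
    W₁ ⊔ W₂ ≤ B.orthogonal (W₁ ⊔ W₂) := by
  intro w hw
  rw [mem_orth]
  intro n hn
  obtain ⟨a, ha, b, hb, rfl⟩ := Submodule.mem_sup.1 hw
  obtain ⟨a', ha', b', hb', rfl⟩ := Submodule.mem_sup.1 hn
  rw [map_add, map_add, LinearMap.add_apply, LinearMap.add_apply,
    (mem_orth B W₁ a).1 (h₁ ha) a' ha', (mem_orth B W₂ b).1 (h₂ hb) b' hb', h₁₂ a' ha' b hb,
    alt_swap B halt b' a, h₁₂ a ha b' hb']
  simp

theorem exists_iso_sub [FiniteDimensional F V] (halt : ∀ v, B v v = 0) :
    ∀ (j : ℕ) (U : Submodule F V), NdOn B U → 2 * j ≤ finrank F U →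
      ∃ W : Submodule F V, W ≤ U ∧ W ≤ B.orthogonal W ∧ finrank F W = j := by
  intro j
  induction j with
  | zero =>
    intro U _ _
    exact ⟨⊥, bot_le, bot_le, finrank_bot F V⟩
  | succ j ih =>
    intro U hU hj
    have hpos : 0 < finrank F U := by omega
    obtain ⟨⟨u, huU⟩, hu0'⟩ := (Module.finrank_pos_iff_exists_ne_zero (R := F)).1 hpos
    have hu0 : u ≠ 0 := fun h => hu0' (Subtype.ext h)
    obtain ⟨v, hvU, huv⟩ := hU u huU hu0
    obtain ⟨hHnd, hHdim⟩ := ndOn_span_pair B halt u v huv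
    have hHU : Submodule.span F {u, v} ≤ U := by
      rw [Submodule.span_le]
      intro x hx
      rcases hx with rfl | rfl
      · exact huU
      · exact hvU
    have hU'nd := ndOn_inf_orth B halt U _ hU hHU hHnd
    have hU'dim := finrank_inf_orth B halt U _ hHU hHnd
    obtain ⟨W', hW'U, hW'iso, hW'dim⟩ := ih _ hU'nd (by omega)
    have huH : u ∈ Submodule.span F {u, v} := Submodule.subset_span (Set.mem_insert u {v})
    have huW' : ∀ w ∈ W', B w u = 0 := by
      intro w hw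
      rw [alt_swap B halt]
      rw [(mem_orth B _ w).1 (hW'U hw).2 u huH, neg_zero]
    have hspan_iso : Submodule.span F {u} ≤ B.orthogonal (Submodule.span F {u}) := by
      intro a ha
      rw [mem_orth]
      intro b hb
      obtain ⟨c₁, rfl⟩ := Submodule.mem_span_singleton.1 ha
      obtain ⟨c₂, rfl⟩ := Submodule.mem_span_singleton.1 hb
      rw [map_smul, map_smul, LinearMap.smul_apply, halt, smul_zero, smul_zero]
    refine ⟨W' ⊔ Submodule.span F {u}, sup_le (hW'U.trans inf_le_left) ?_, ?_, ?_⟩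
    · rw [Submodule.span_le]
      intro x hx
      rw [Set.mem_singleton_iff.1 hx]
      exact huU
    · apply iso_sup B halt _ _ hW'iso hspan_iso
      intro a ha b hb
      obtain ⟨c, rfl⟩ := Submodule.mem_span_singleton.1 hb
      rw [map_smul, huW' a ha, smul_zero]
    · have hdisj : W' ⊓ Submodule.span F {u} = ⊥ := by
        rw [eq_bot_iff]
        have h1 := (ndOn_iff_disjoint B halt _).1 hHnd
        rw [← h1.eq_bot]
        intro x hx
        refine ⟨?_, (hW'U hx.1).2⟩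
        obtain ⟨c, rfl⟩ := Submodule.mem_span_singleton.1 hx.2
        exact Submodule.smul_mem _ _ huH
      have := Submodule.finrank_sup_add_finrank_inf_eq W' (Submodule.span F {u})
      rw [hdisj, finrank_bot, add_zero, hW'dim, finrank_span_singleton hu0] at this
      exact this

end isosub

section invsub

variable {F V : Type*} [Field F] [Fintype F] [AddCommGroup V] [Module F V] [FiniteDimensional F V]
  {p : ℕ} [Fact p.Prime] [CharP F p] (y : V →ₗ[F] V) (r : ℕ) [Fact r.Prime]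

theorem exists_irred_sub (hrp : r ≠ p) (hy : y ^ r = 1) (hr0 : (r : F) ≠ 0) (N : Submodule F V)
    (hN : ∀ u ∈ N, y u ∈ N) (hNR : N ≤ movR y) (hN0 : N ≠ ⊥) :
    ∃ U : Submodule F V, U ≤ N ∧ (∀ u ∈ U, y u ∈ U) ∧
      finrank F U = orderOf (Fintype.card F : ZMod r) := by
  obtain ⟨v, hvN, hv0, h, hm, hdeg, hh⟩ := exists_irred_vec y r hrp hy N hN hNR hN0
  set i₀ := orderOf (Fintype.card F : ZMod r) with hi₀
  have hipos : 0 < i₀ := orderOf_card_pos r hrp
  obtain ⟨hWinv, -⟩ := cyc_of_aeval y v h hm i₀ hdeg hh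
  have hWN : cyc y v i₀ ≤ N := cyc_le y v i₀ N hN hvN
  have hvW : v ∈ cyc y v i₀ := self_mem_cyc y v i₀ hipos
  have hW0 : cyc y v i₀ ≠ ⊥ := by
    intro h0
    rw [h0] at hvW
    exact hv0 ((Submodule.mem_bot F).1 hvW)
  exact ⟨cyc y v i₀, hWN, hWinv,
    finrank_eq_of_le y r hy hr0 _ hWinv (hWN.trans hNR) hW0 (finrank_cyc_le y v i₀)⟩

theorem exists_inv_sub (hrp : r ≠ p) (hy : y ^ r = 1) (hr0 : (r : F) ≠ 0) (W : Submodule F V)
    (hW : ∀ u ∈ W, y u ∈ W) (hWR : W ≤ movR y) :
    ∀ k, orderOf (Fintype.card F : ZMod r) * k ≤ finrank F W →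
      ∃ W' : Submodule F V, W' ≤ W ∧ (∀ u ∈ W', y u ∈ W') ∧
        finrank F W' = orderOf (Fintype.card F : ZMod r) * k := by
  set i₀ := orderOf (Fintype.card F : ZMod r) with hi₀
  have hipos : 0 < i₀ := orderOf_card_pos r hrp
  intro k
  induction k with
  | zero =>
    intro _
    exact ⟨⊥, bot_le, fun u hu => by rw [(Submodule.mem_bot F).1 hu, map_zero]; exact zero_mem _,
      by rw [mul_zero, finrank_bot]⟩
  | succ k ih =>
    intro hk
    obtain ⟨W', hW'W, hW'inv, hW'dim⟩ := ih (by rw [mul_add] at hk; omega)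
    obtain ⟨C, hC, hCinv⟩ := exists_invariant_compl y r hr0 1 one_ne_zero
      (by rw [hy, one_smul]) W' hW'inv
    have hTinv : ∀ u ∈ C ⊓ W, y u ∈ C ⊓ W := fun u hu => ⟨hCinv u hu.1, hW u hu.2⟩
    have hsup : W' ⊔ (C ⊓ W) = W := by
      rw [← sup_inf_assoc_of_le C hW'W, hC.sup_eq_top, top_inf_eq]
    have hinf : W' ⊓ (C ⊓ W) = ⊥ := by
      rw [eq_bot_iff, ← hC.inf_eq_bot]
      exact inf_le_inf le_rfl inf_le_left
    have hTdim : finrank F W' + finrank F ↥(C ⊓ W) = finrank F W := by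
      have := Submodule.finrank_sup_add_finrank_inf_eq W' (C ⊓ W)
      rw [hsup, hinf, finrank_bot, add_zero] at this
      exact this.symm
    have hT0 : C ⊓ W ≠ ⊥ := by
      intro h0
      rw [h0, finrank_bot, hW'dim] at hTdim
      rw [mul_add, mul_one] at hk
      omega
    obtain ⟨U, hUT, hUinv, hUdim⟩ := exists_irred_sub y r hrp hy hr0 (C ⊓ W) hTinv
      (inf_le_right.trans hWR) hT0
    refine ⟨W' ⊔ U, sup_le hW'W (hUT.trans inf_le_right), sup_invariant y W' U hW'inv hUinv, ?_⟩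
    have hd : W' ⊓ U = ⊥ := by
      rw [eq_bot_iff, ← hinf]
      exact inf_le_inf le_rfl hUT
    have := Submodule.finrank_sup_add_finrank_inf_eq W' U
    rw [hd, finrank_bot, add_zero, hW'dim, hUdim] at this
    rw [this, mul_add, mul_one]

/-- `W` is a `y`-invariant totally isotropic subspace of `R` -/
def IsoInv (B : LinearMap.BilinForm F V) (y : V →ₗ[F] V) (R W : Submodule F V) : Prop :=
  W ≤ R ∧ (∀ u ∈ W, y u ∈ W) ∧ W ≤ B.orthogonal W

omit [Fintype F] [FiniteDimensional F V] in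
theorem isoInv_bot (B : LinearMap.BilinForm F V) (R : Submodule F V) : IsoInv B y R ⊥ :=
  ⟨bot_le, fun u hu => by rw [(Submodule.mem_bot F).1 hu, map_zero]; exact zero_mem _, bot_le⟩


end invsub

section peel

variable {F V : Type*} [Field F] [AddCommGroup V] [Module F V] [FiniteDimensional F V]

/-- an invariant nondegenerate complement to `W` inside `W^⊥ ∩ R`, for `W` totally isotropic -/
theorem peel_iso (B : LinearMap.BilinForm F V) (halt : ∀ v, B v v = 0) (y : V →ₗ[F] V)
    (hiso : ∀ u v, B (y u) (y v) = B u v) (r : ℕ) (hr : 0 < r) (hy : y ^ r = 1)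
    (hr0 : (r : F) ≠ 0)
    (R : Submodule F V) (hR : ∀ u ∈ R, y u ∈ R) (hRnd : NdOn B R)
    (W : Submodule F V) (hWR : W ≤ R) (hWinv : ∀ u ∈ W, y u ∈ W) (hWiso : W ≤ B.orthogonal W) :
    ∃ N : Submodule F V, N ≤ R ∧ N ≤ B.orthogonal W ∧ (∀ u ∈ N, y u ∈ N) ∧ NdOn B N ∧
      2 * finrank F W + finrank F N = finrank F R ∧ W ⊓ N = ⊥ := by
  have hOinv := orth_invariant B y hiso r hr hy W hWinv
  have hPinv : ∀ u ∈ R ⊓ B.orthogonal W, y u ∈ R ⊓ B.orthogonal W :=
    inf_invariant y _ _ hR hOinv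
  have hPdim : finrank F ↥(R ⊓ B.orthogonal W) + finrank F W = finrank F R :=
    finrank_inf_orth' B halt R W hRnd hWR
  have hWP : W ≤ R ⊓ B.orthogonal W := le_inf hWR hWiso
  obtain ⟨C, hC, hCinv⟩ := exists_invariant_compl y r hr0 1 one_ne_zero
    (by rw [hy, one_smul]) W hWinv
  have hNinv : ∀ u ∈ C ⊓ (R ⊓ B.orthogonal W), y u ∈ C ⊓ (R ⊓ B.orthogonal W) :=
    inf_invariant y _ _ hCinv hPinv
  have hsup : W ⊔ (C ⊓ (R ⊓ B.orthogonal W)) = R ⊓ B.orthogonal W := by
    rw [← sup_inf_assoc_of_le C hWP, hC.sup_eq_top, top_inf_eq]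
  have hinf : W ⊓ (C ⊓ (R ⊓ B.orthogonal W)) = ⊥ := by
    rw [eq_bot_iff, ← hC.inf_eq_bot]
    exact inf_le_inf le_rfl inf_le_left
  have hNdim : finrank F W + finrank F ↥(C ⊓ (R ⊓ B.orthogonal W)) =
      finrank F ↥(R ⊓ B.orthogonal W) := by
    have := Submodule.finrank_sup_add_finrank_inf_eq W (C ⊓ (R ⊓ B.orthogonal W))
    rw [hsup, hinf, finrank_bot, add_zero] at this
    exact this.symm
  have hdd : R ⊓ B.orthogonal (R ⊓ B.orthogonal W) = W := by
    symm
    apply Submodule.eq_of_le_of_finrank_le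
    · refine le_inf hWR ?_
      intro w hw
      rw [mem_orth]
      intro n hn
      rw [alt_swap B halt]
      rw [(mem_orth B W n).1 hn.2 w hw, neg_zero]
    · have := finrank_inf_orth' B halt R (R ⊓ B.orthogonal W) hRnd inf_le_left
      omega
  refine ⟨C ⊓ (R ⊓ B.orthogonal W), inf_le_right.trans inf_le_left,
    inf_le_right.trans inf_le_right, hNinv, ?_, by omega, hinf⟩
  intro u hu hu0
  by_contra hcon
  push Not at hcon
  apply hu0
  have h1 : u ∈ R ⊓ B.orthogonal (R ⊓ B.orthogonal W) := by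
    refine ⟨hu.2.1, ?_⟩
    show u ∈ B.orthogonal (R ⊓ B.orthogonal W)
    rw [mem_orth]
    intro n hn
    rw [← hsup] at hn
    obtain ⟨w, hw, n', hn', rfl⟩ := Submodule.mem_sup.1 hn
    rw [map_add, LinearMap.add_apply, (mem_orth B W u).1 hu.2.2 w hw, zero_add,
      alt_swap B halt, hcon n' hn', neg_zero]
  rw [hdd] at h1
  have h2 : u ∈ W ⊓ (C ⊓ (R ⊓ B.orthogonal W)) := ⟨h1, hu⟩
  rw [hinf] at h2
  exact (Submodule.mem_bot F).1 h2

/-- peeling a maximal invariant totally isotropic subspace: the complement is anisotropic -/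
theorem exists_max_iso (B : LinearMap.BilinForm F V) (halt : ∀ v, B v v = 0) (y : V →ₗ[F] V)
    (hiso : ∀ u v, B (y u) (y v) = B u v) (r : ℕ) (hr : 0 < r) (hy : y ^ r = 1)
    (hr0 : (r : F) ≠ 0)
    (R : Submodule F V) (hR : ∀ u ∈ R, y u ∈ R) (hRnd : NdOn B R) :
    ∃ W N : Submodule F V, IsoInv B y R W ∧ N ≤ R ∧ (∀ u ∈ N, y u ∈ N) ∧ NdOn B N ∧
      2 * finrank F W + finrank F N = finrank F R ∧
      (∀ W' : Submodule F V, W' ≤ N → (∀ u ∈ W', y u ∈ W') → W' ≤ B.orthogonal W' → W' = ⊥) := by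
  classical
  have hex : ∃ k, k ≤ finrank F V ∧ ∃ W, IsoInv B y R W ∧ finrank F W = k :=
    ⟨0, Nat.zero_le _, ⊥, isoInv_bot y B R, finrank_bot F V⟩
  set k₀ := Nat.findGreatest (fun k => ∃ W, IsoInv B y R W ∧ finrank F W = k) (finrank F V)
    with hk₀
  have hspec : ∃ W, IsoInv B y R W ∧ finrank F W = k₀ := by
    obtain ⟨k, hk, hW⟩ := hex
    exact Nat.findGreatest_spec (P := fun k => ∃ W, IsoInv B y R W ∧ finrank F W = k) hk hW
  have hmax : ∀ W, IsoInv B y R W → finrank F W ≤ k₀ := by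
    intro W hW
    exact Nat.le_findGreatest (P := fun k => ∃ W, IsoInv B y R W ∧ finrank F W = k)
      (Submodule.finrank_le W) ⟨W, hW, rfl⟩
  obtain ⟨W, ⟨hWR, hWinv, hWiso⟩, hWdim⟩ := hspec
  obtain ⟨N, hNR, hNO, hNinv, hNnd, hNdim, hinf⟩ :=
    peel_iso B halt y hiso r hr hy hr0 R hR hRnd W hWR hWinv hWiso
  refine ⟨W, N, ⟨hWR, hWinv, hWiso⟩, hNR, hNinv, hNnd, hNdim, ?_⟩
  intro W' hW'N hW'inv hW'iso
  by_contra hW'0
  have hbig : IsoInv B y R (W ⊔ W') := by
    refine ⟨sup_le hWR (hW'N.trans hNR), sup_invariant y W W' hWinv hW'inv, ?_⟩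
    apply iso_sup B halt W W' hWiso hW'iso
    intro a ha b hb
    exact (mem_orth B W b).1 (hNO (hW'N hb)) a ha
  have h1 := hmax _ hbig
  have hd : W ⊓ W' = ⊥ := by
    rw [eq_bot_iff, ← hinf]
    exact inf_le_inf le_rfl hW'N
  have h2 := Submodule.finrank_sup_add_finrank_inf_eq W W'
  rw [hd, finrank_bot, add_zero] at h2
  have h3 : 0 < finrank F W' := by
    rw [Nat.pos_iff_ne_zero]
    intro h0
    exact hW'0 (Submodule.finrank_eq_zero.1 h0)
  omega

end peel

section aniso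

variable {F V : Type*} [Field F] [Fintype F] [AddCommGroup V] [Module F V] [FiniteDimensional F V]
  {p : ℕ} [Fact p.Prime] [CharP F p] (B : LinearMap.BilinForm F V) (y : V →ₗ[F] V)
  (r : ℕ) [Fact r.Prime]

/-- in a subspace of dimension `> i` killed by a degree-`i` polynomial (`i` even), Chevalley–Warning
finds a nonzero invariant totally isotropic subspace -/
theorem exists_iso_cyc (halt : ∀ v, B v v = 0) (hiso : ∀ u v, B (y u) (y v) = B u v)
    (hrp : r ≠ p) (hy : y ^ r = 1) (hr0 : (r : F) ≠ 0)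
    (hev : Even (orderOf (Fintype.card F : ZMod r)))
    (M : Submodule F V) (hM : ∀ u ∈ M, y u ∈ M) (hMR : M ≤ movR y) (h : F[X]) (hm : h.Monic)
    (hdeg : h.natDegree = orderOf (Fintype.card F : ZMod r))
    (hMh : ∀ u ∈ M, aeval y h u = 0)
    (hdim : orderOf (Fintype.card F : ZMod r) < finrank F M) :
    ∃ W : Submodule F V, W ≤ M ∧ (∀ u ∈ W, y u ∈ W) ∧ W ≠ ⊥ ∧ W ≤ B.orthogonal W := by
  have hr : 0 < r := (Fact.out : r.Prime).pos
  have hipos : 0 < orderOf (Fintype.card F : ZMod r) := orderOf_card_pos r hrp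
  set i₀ := orderOf (Fintype.card F : ZMod r) with hi₀
  obtain ⟨s, hs⟩ := hev
  have hs1 : 1 ≤ s := by omega
  obtain ⟨u, huM, hu0, hu⟩ := exists_iso_vec (p := p) B y M (s + 1) (by
    have : 2 * (s + 1 - 1) = i₀ := by omega
    rw [this]
    exact hdim)
  obtain ⟨hWinv, hWh⟩ := cyc_of_aeval y u h hm i₀ hdeg (hMh u huM)
  have hWM : cyc y u i₀ ≤ M := cyc_le y u i₀ M hM huM
  have huW : u ∈ cyc y u i₀ := self_mem_cyc y u i₀ hipos
  have hW0 : cyc y u i₀ ≠ ⊥ := by
    intro h0
    rw [h0] at huW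
    exact hu0 ((Submodule.mem_bot F).1 huW)
  have hWdim : finrank F (cyc y u i₀) = i₀ :=
    finrank_eq_of_le y r hy hr0 _ hWinv (hWM.trans hMR) hW0 (finrank_cyc_le y u i₀)
  -- the middle vector is in the radical
  have hmid : (y ^ s) u ∈ cyc y u i₀ ⊓ B.orthogonal (cyc y u i₀) := by
    refine ⟨pow_mem_cyc y u i₀ s (by omega), ?_⟩
    show (y ^ s) u ∈ B.orthogonal (cyc y u i₀)
    rw [mem_orth]
    intro n hn
    rw [cyc] at hn
    refine Submodule.span_induction ?_ ?_ ?_ ?_ hn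
    · rintro _ ⟨a, rfl⟩
      have ha : (a : ℕ) < i₀ := a.2
      show B ((y ^ (a : ℕ)) u) ((y ^ s) u) = 0
      rcases le_total s (a : ℕ) with hsa | has
      · have h1 : (y ^ (a : ℕ)) u = (y ^ s) ((y ^ ((a : ℕ) - s)) u) := by
          rw [← Module.End.mul_apply, ← pow_add, Nat.add_sub_cancel' hsa]
        rw [h1, iso_pow B y hiso]
        rcases Nat.eq_or_lt_of_le hsa with h2 | h2
        · rw [← h2, Nat.sub_self, pow_zero, Module.End.one_apply]
          exact halt u
        · exact hu ((a : ℕ) - s) (by omega) (by omega)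
      · have h1 : (y ^ s) u = (y ^ (a : ℕ)) ((y ^ (s - (a : ℕ))) u) := by
          rw [← Module.End.mul_apply, ← pow_add, Nat.add_sub_cancel' has]
        rw [h1, iso_pow B y hiso, alt_swap B halt]
        rcases Nat.eq_or_lt_of_le has with h2 | h2
        · rw [h2, Nat.sub_self, pow_zero, Module.End.one_apply, halt u, neg_zero]
        · rw [hu (s - (a : ℕ)) (by omega) (by omega), neg_zero]
    · rw [map_zero, LinearMap.zero_apply]
    · intro x z _ _ hx hz
      rw [map_add, LinearMap.add_apply, hx, hz, add_zero]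
    · intro c x _ hx
      rw [map_smul, LinearMap.smul_apply, hx, smul_zero]
  have hmid0 : (y ^ s) u ≠ 0 := by
    intro h0
    apply hu0
    have h1 : (y ^ (r * s)) u = u := by
      rw [pow_mul, hy, one_pow, Module.End.one_apply]
    have h2 : r * s = (r - 1) * s + s := by
      obtain ⟨r₀, rfl⟩ := Nat.exists_eq_succ_of_ne_zero hr.ne'
      rw [Nat.succ_sub_one, Nat.succ_mul]
    rw [h2, pow_add, Module.End.mul_apply, h0, map_zero] at h1
    exact h1.symm
  have hOinv := orth_invariant B y hiso r hr hy _ hWinv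
  have hRinv : ∀ v ∈ cyc y u i₀ ⊓ B.orthogonal (cyc y u i₀),
      y v ∈ cyc y u i₀ ⊓ B.orthogonal (cyc y u i₀) := inf_invariant y _ _ hWinv hOinv
  have hrad := irred_sub y r hy hr0 (cyc y u i₀) (hWM.trans hMR) hWdim
    (cyc y u i₀ ⊓ B.orthogonal (cyc y u i₀)) hRinv inf_le_left
  rcases hrad with h0 | h1
  · rw [h0] at hmid
    exact absurd ((Submodule.mem_bot F).1 hmid) hmid0
  · refine ⟨cyc y u i₀, hWM, hWinv, hW0, ?_⟩
    intro w hw
    rw [← h1] at hw
    exact hw.2

/-- an anisotropic invariant subspace of the moved space has dimension at most `i·t` (`i` even) -/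
theorem aniso_bound (halt : ∀ v, B v v = 0) (hiso : ∀ u v, B (y u) (y v) = B u v)
    (hrp : r ≠ p) (hy : y ^ r = 1)
    (hev : Even (orderOf (Fintype.card F : ZMod r)))
    (N : Submodule F V) (hN : ∀ u ∈ N, y u ∈ N) (hNR : N ≤ movR y)
    (haniso : ∀ W' : Submodule F V, W' ≤ N → (∀ u ∈ W', y u ∈ W') → W' ≤ B.orthogonal W' →
      W' = ⊥) :
    finrank F N ≤ orderOf (Fintype.card F : ZMod r) *
      ((r - 1) / orderOf (Fintype.card F : ZMod r)) := by
  classical
  have hr : r.Prime := Fact.out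
  have hr0 : (r : F) ≠ 0 := by
    rw [Ne, CharP.cast_eq_zero_iff F p]
    intro hd
    exact hrp ((Nat.prime_dvd_prime_iff_eq Fact.out Fact.out).1 hd).symm
  set i₀ := orderOf (Fintype.card F : ZMod r) with hi₀
  have hipos : 0 < i₀ := orderOf_card_pos r hrp
  have hq0 : ((Fintype.card F : ℕ) : ZMod r) ≠ 0 := by
    rw [Ne, ZMod.natCast_eq_zero_iff]
    exact card_not_dvd (F := F) r hr hrp
  have hidvd : i₀ ∣ r - 1 := orderOf_dvd_of_pow_eq_one (ZMod.pow_card_sub_one_eq_one hq0)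
  set t := (r - 1) / i₀ with ht
  have hti : t * i₀ = r - 1 := Nat.div_mul_cancel hidvd
  obtain ⟨h, hmon, hirr, hnone, hdeg, hprod⟩ :=
    Cfsg.Agent.Lib.Helper15.PrimeOrderClasses.exists_factor_family (F := F) (p := p) rfl r i₀ t hr hrp hi₀ hti
  have hsq : Squarefree (∏ o, h o) := by
    rw [hprod]
    have := (separable_X_pow_sub_C (1 : F) hr0 one_ne_zero).squarefree
    rwa [map_one] at this
  have hcop := Cfsg.Agent.Lib.Helper15.PrimeOrderClasses.family_coprime h hmon hirr hsq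
  have hkill : ∀ u ∈ N, aeval y (∏ j ∈ (Finset.univ : Finset (Fin t)), h (some j)) u = 0 := by
    intro u hu
    obtain ⟨w, rfl⟩ := hNR hu
    have h1 : (y - 1) w = aeval y (h none) w := by
      rw [hnone, map_sub, aeval_X, map_one]
    rw [h1, ← Module.End.mul_apply, ← map_mul]
    have h2 : (∏ j : Fin t, h (some j)) * h none = X ^ r - 1 := by
      rw [← hprod, Fintype.prod_option, mul_comm]
    rw [h2, map_sub, map_pow, aeval_X, map_one, hy, sub_self, LinearMap.zero_apply]
  have hmain := finrank_le_of_family y (fun j : Fin t => h (some j)) i₀ N (by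
    intro j N' hN'inv hN'N hN'h
    by_contra hlt
    push Not at hlt
    obtain ⟨W, hWN', hWinv, hW0, hWiso⟩ := exists_iso_cyc B y r halt hiso hrp hy hr0 hev
      N' hN'inv (hN'N.trans hNR) (h (some j)) (hmon _) (hdeg j) hN'h hlt
    exact hW0 (haniso W (hWN'.trans hN'N) hWinv hWiso)) Finset.univ (by
    intro j _ j' _ hne
    exact hcop (some j) (some j') (fun h' => hne (Option.some_injective _ h'))) N hN le_rfl hkill
  rw [Finset.card_univ, Fintype.card_fin] at hmain
  exact hmain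

/-- for `i` odd an anisotropic nondegenerate invariant subspace of the moved space is trivial -/
theorem aniso_bot_of_odd (halt : ∀ v, B v v = 0) (hiso : ∀ u v, B (y u) (y v) = B u v)
    (hrp : r ≠ p) (hy : y ^ r = 1)
    (hodd : Odd (orderOf (Fintype.card F : ZMod r)))
    (N : Submodule F V) (hN : ∀ u ∈ N, y u ∈ N) (hNR : N ≤ movR y)
    (haniso : ∀ W' : Submodule F V, W' ≤ N → (∀ u ∈ W', y u ∈ W') → W' ≤ B.orthogonal W' →
      W' = ⊥) : N = ⊥ := by
  have hr0 : (r : F) ≠ 0 := by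
    rw [Ne, CharP.cast_eq_zero_iff F p]
    intro hd
    exact hrp ((Nat.prime_dvd_prime_iff_eq Fact.out Fact.out).1 hd).symm
  by_contra hN0
  obtain ⟨W, hWN, hWinv, hWdim, -, hcase⟩ :=
    exists_iso_or_nd B y r halt hiso hrp hy hr0 N hN hNR hN0
  have hipos : 0 < orderOf (Fintype.card F : ZMod r) := orderOf_card_pos r hrp
  rcases hcase with hnd | hiso'
  · have := even_finrank_of_ndOn B halt W hnd
    rw [hWdim] at this
    exact (Nat.not_even_iff_odd.2 hodd) this
  · have := haniso W hWN hWinv hiso'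
    rw [this, finrank_bot] at hWdim
    omega

end aniso

section suff

variable {F V : Type*} [Field F] [Fintype F] [AddCommGroup V] [Module F V] [FiniteDimensional F V]
  {p : ℕ} [Fact p.Prime] [CharP F p] (B : LinearMap.BilinForm F V) (y : V →ₗ[F] V)
  (r : ℕ) [Fact r.Prime]

/-- sufficiency for odd `r`: an isometry of order `r` fixes a totally isotropic `m`-space -/
theorem sp_iso_bwd (halt : ∀ v, B v v = 0) (hnd : ∀ x, (∀ z, B x z = 0) → x = 0)
    (hiso : ∀ u v, B (y u) (y v) = B u v)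
    (hrp : r ≠ p) (hr2 : r ≠ 2) (hy : y ^ r = 1) (d m : ℕ) (hdim : finrank F V = 2 * d)
    (hmd : m ≤ d)
    (h1 : 2 * (m % orderOf (Fintype.card F : ZMod r)) ≤ (2 * d) % blockDim (Fintype.card F) r)
    (h2 : Odd (orderOf (Fintype.card F : ZMod r)) ∨
      (r - 1) / orderOf (Fintype.card F : ZMod r) + 2 * (m / orderOf (Fintype.card F : ZMod r)) ≤
        (2 * d) / orderOf (Fintype.card F : ZMod r)) :
    ∃ W : Submodule F V, finrank F W = m ∧ W ≤ B.orthogonal W ∧ ∀ u ∈ W, y u ∈ W := by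
  have hr : r.Prime := Fact.out
  have hr0 : (r : F) ≠ 0 := by
    rw [Ne, CharP.cast_eq_zero_iff F p]
    intro hd
    exact hrp ((Nat.prime_dvd_prime_iff_eq Fact.out Fact.out).1 hd).symm
  set i₀ := orderOf (Fintype.card F : ZMod r) with hi₀
  set c := blockDim (Fintype.card F) r with hc
  have hipos : 0 < i₀ := orderOf_card_pos r hrp
  have hcpos : 0 < c := blockDim_pos (F := F) r hrp
  have htop : NdOn B (⊤ : Submodule F V) := by
    intro u _ hu0
    by_contra hcon
    push Not at hcon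
    exact hu0 (hnd u (fun z => hcon z Submodule.mem_top))
  have htinv : ∀ v ∈ (⊤ : Submodule F V), y v ∈ (⊤ : Submodule F V) := fun _ _ => Submodule.mem_top
  have hEnd : NdOn B (fixE y) := by
    have := ndOn_inf_fix B y hiso r hy hr0 ⊤ htinv htop
    rwa [top_inf_eq] at this
  have hRnd : NdOn B (movR y) := by
    have := ndOn_inf_mov B y halt hiso r hy hr0 ⊤ htinv htop
    rwa [top_inf_eq] at this
  have hdisj : fixE y ⊓ movR y = ⊥ := fix_inf_mov y r hy hr0
  have hsplit : fixE y ⊔ movR y = ⊤ := by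
    have := inv_split y r hy hr0 ⊤ htinv
    rwa [top_inf_eq, top_inf_eq] at this
  have hen : finrank F (fixE y) + finrank F (movR y) = 2 * d := by
    have := Submodule.finrank_sup_add_finrank_inf_eq (fixE y) (movR y)
    rw [hsplit, hdisj, finrank_bot, add_zero, finrank_top, hdim] at this
    exact this.symm
  obtain ⟨⟨n', hn'⟩, -⟩ := exists_nd_chain B y r halt hiso hrp hr2 hy _ (movR y) rfl
    (movR_invariant y) le_rfl hRnd
  -- e ≥ (2d) % c
  have heν : (2 * d) % c ≤ finrank F (fixE y) := by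
    have h3 : (2 * d) % c = finrank F (fixE y) % c := by
      rw [← hen, hn']
      exact Nat.add_mul_mod_self_left _ _ _
    rw [h3]
    exact Nat.mod_le _ _
  obtain ⟨W₀, N, ⟨hW₀R, hW₀inv, hW₀iso⟩, hNR, hNinv, hNnd, hNdim, haniso⟩ :=
    exists_max_iso B halt y hiso r hr.pos hy hr0 (movR y) (movR_invariant y) hRnd
  obtain ⟨k₀, hk₀⟩ := orderOf_dvd_finrank_of_le_movR y r hy hr0 W₀ hW₀inv hW₀R
  rw [← hi₀] at hk₀
  -- the bound on N
  have hNbound : 2 * m + finrank F N ≤ 2 * d := by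
    rcases Nat.even_or_odd i₀ with hev | hodd
    · have hb := aniso_bound B y r halt hiso hrp hy hev N hNinv hNR haniso
      rw [← hi₀] at hb
      have h2' := h2.resolve_left (Nat.not_odd_iff_even.2 hev)
      have hci : c = i₀ := by rw [hc, blockDim, if_pos hev]
      rw [hci] at h1
      have h3 := Nat.mul_le_mul_left i₀ h2'
      rw [mul_add] at h3
      have h4 : i₀ * ((2 * d) / i₀) + (2 * d) % i₀ = 2 * d := Nat.div_add_mod _ _
      have h5 : i₀ * (m / i₀) + m % i₀ = m := Nat.div_add_mod _ _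
      have h6 : i₀ * (2 * (m / i₀)) = 2 * (i₀ * (m / i₀)) := by ring
      omega
    · have := aniso_bot_of_odd B y r halt hiso hrp hy hodd N hNinv hNR haniso
      rw [this, finrank_bot]
      omega
  -- choose k
  set k := min (m / i₀) k₀ with hk
  have hkW₀ : i₀ * k ≤ finrank F W₀ := by
    rw [hk₀]
    exact Nat.mul_le_mul_left _ (min_le_right _ _)
  obtain ⟨WR, hWRW₀, hWRinv, hWRdim⟩ := exists_inv_sub y r hrp hy hr0 W₀ hW₀inv hW₀R k hkW₀
  rw [← hi₀] at hWRdim
  have hkm : i₀ * k ≤ m := by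
    have h5 : i₀ * (m / i₀) + m % i₀ = m := Nat.div_add_mod _ _
    have : i₀ * k ≤ i₀ * (m / i₀) := Nat.mul_le_mul_left _ (min_le_left _ _)
    omega
  have hj : 2 * (m - i₀ * k) ≤ finrank F (fixE y) := by
    rcases le_total (m / i₀) k₀ with hle | hle
    · have hkeq : k = m / i₀ := min_eq_left hle
      have h5 : i₀ * (m / i₀) + m % i₀ = m := Nat.div_add_mod _ _
      rw [hkeq]
      omega
    · have hkeq : k = k₀ := min_eq_right hle
      rw [hkeq, ← hk₀]
      omega
  obtain ⟨WE, hWEE, hWEiso, hWEdim⟩ := exists_iso_sub B halt (m - i₀ * k) (fixE y) hEnd hj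
  refine ⟨WE ⊔ WR, ?_, ?_, ?_⟩
  · have hd' : WE ⊓ WR = ⊥ := by
      rw [eq_bot_iff, ← hdisj]
      exact inf_le_inf hWEE (hWRW₀.trans hW₀R)
    have := Submodule.finrank_sup_add_finrank_inf_eq WE WR
    rw [hd', finrank_bot, add_zero, hWEdim, hWRdim] at this
    omega
  · apply iso_sup B halt WE WR hWEiso
    · intro a ha
      rw [mem_orth]
      intro b hb
      exact (mem_orth B W₀ a).1 (hW₀iso (hWRW₀ ha)) b (hWRW₀ hb)
    · intro a ha b hb
      exact fix_orth_mov B y hiso a b (hWEE ha) (hW₀R (hWRW₀ hb))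
  · exact sup_invariant y WE WR (fixE_invariant y WE hWEE) hWRinv

end suff

end Cfsg.Agent.Lib.Helper12.Sp
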