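import Mathlib
import Cfsg.Agent.Lib.Helper12.SpI

set_option autoImplicit false

namespace Cfsg.Agent.Lib.Helper12.Sp

open Module Polynomial Cfsg.Agent.Lib.Helper12.Elus Cfsg.Agent.Lib.Helper15
open Cfsg.Agent.Lib.Helper15.SpReal

section prodker

variable {F : Type*} [Field F] {W₁ W₂ : Type*} [AddCommGroup W₁] [Module F W₁]
  [AddCommGroup W₂] [Module F W₂]

theorem aeval_prodMap (T₁ : W₁ →ₗ[F] W₁) (T₂ : W₂ →ₗ[F] W₂) (P : F[X]) :
    aeval (T₁.prodMap T₂) P = (aeval T₁ P).prodMap (aeval T₂ P) := by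
  have h1 : aeval ((T₁, T₂) : Module.End F W₁ × Module.End F W₂) P =
      (aeval T₁ P, aeval T₂ P) := by
    apply Prod.ext
    · exact (Polynomial.aeval_algHom_apply (AlgHom.fst F (Module.End F W₁) (Module.End F W₂))
        (T₁, T₂) P).symm
    · exact (Polynomial.aeval_algHom_apply (AlgHom.snd F (Module.End F W₁) (Module.End F W₂))
        (T₁, T₂) P).symm
  have h2 := Polynomial.aeval_algHom_apply (LinearMap.prodMapAlgHom F W₁ W₂) (T₁, T₂) P
  rw [h1] at h2
  exact h2

/-- the product of two submodules, as a product -/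
def prodSubEquiv (p : Submodule F W₁) (q : Submodule F W₂) : (p.prod q) ≃ₗ[F] (p × q) where
  toFun x := (⟨x.1.1, x.2.1⟩, ⟨x.1.2, x.2.2⟩)
  invFun y := ⟨(y.1.1, y.2.1), ⟨y.1.2, y.2.2⟩⟩
  map_add' _ _ := rfl
  map_smul' _ _ := rfl
  left_inv _ := rfl
  right_inv _ := rfl

theorem finrank_ker_prodMap [FiniteDimensional F W₁] [FiniteDimensional F W₂]
    (f : W₁ →ₗ[F] W₁) (g : W₂ →ₗ[F] W₂) :
    finrank F (LinearMap.ker (f.prodMap g)) =
      finrank F (LinearMap.ker f) + finrank F (LinearMap.ker g) := by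
  rw [LinearMap.ker_prodMap, (prodSubEquiv (LinearMap.ker f) (LinearMap.ker g)).finrank_eq,
    Module.finrank_prod]

end prodker

section kreal

universe u

variable {F : Type u} [Field F]

/-- `κ P` is the dimension of the kernel of `P(T)` for an isometry `T` with `T^N = 1` of some
nondegenerate alternating space -/
def KReal (N : ℕ) (κ : F[X] → ℕ) : Prop :=
  ∃ (W : Type u) (_ : AddCommGroup W) (_ : Module F W) (_ : FiniteDimensional F W)
    (T : W →ₗ[F] W) (β : LinearMap.BilinForm F W),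
    (∀ v, β v v = 0) ∧ (∀ u, (∀ v, β u v = 0) → u = 0) ∧ (∀ u v, β (T u) (T v) = β u v) ∧
      T ^ N = 1 ∧ ∀ P : F[X], finrank F (LinearMap.ker (aeval T P)) = κ P

theorem kReal_zero (N : ℕ) : KReal (F := F) N (fun _ => 0) := by
  refine ⟨PUnit, inferInstance, inferInstance, inferInstance, 0, 0, ?_, ?_, ?_, ?_, ?_⟩
  · intro v; rfl
  · intro u _; exact Subsingleton.elim _ _
  · intro u v; rfl
  · apply LinearMap.ext; intro x; exact Subsingleton.elim _ _
  · intro P
    exact finrank_zero_of_subsingleton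

theorem KReal.add {N : ℕ} {κ₁ κ₂ : F[X] → ℕ} (h₁ : KReal N κ₁) (h₂ : KReal N κ₂) :
    KReal N (fun P => κ₁ P + κ₂ P) := by
  obtain ⟨W₁, _, _, _, T₁, β₁, ha₁, hn₁, hi₁, hp₁, hc₁⟩ := h₁
  obtain ⟨W₂, _, _, _, T₂, β₂, ha₂, hn₂, hi₂, hp₂, hc₂⟩ := h₂
  let β : LinearMap.BilinForm F (W₁ × W₂) :=
    β₁.compl₁₂ (LinearMap.fst F W₁ W₂) (LinearMap.fst F W₁ W₂) +
      β₂.compl₁₂ (LinearMap.snd F W₁ W₂) (LinearMap.snd F W₁ W₂)
  have hβ : ∀ x y, β x y = β₁ x.1 y.1 + β₂ x.2 y.2 := fun x y => rfl
  refine ⟨W₁ × W₂, inferInstance, inferInstance, inferInstance, T₁.prodMap T₂, β, ?_, ?_, ?_, ?_, ?_⟩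
  · intro x
    rw [hβ, ha₁, ha₂, add_zero]
  · intro x hx
    have h1 : x.1 = 0 := by
      apply hn₁
      intro v
      have := hx (v, 0)
      rw [hβ] at this
      simpa using this
    have h2 : x.2 = 0 := by
      apply hn₂
      intro v
      have := hx (0, v)
      rw [hβ] at this
      simpa using this
    exact Prod.ext h1 h2
  · intro x y
    rw [hβ, hβ]
    show β₁ (T₁ x.1) (T₁ y.1) + β₂ (T₂ x.2) (T₂ y.2) = _
    rw [hi₁, hi₂]
  · rw [prodMap_pow', hp₁, hp₂, LinearMap.prodMap_one]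
  · intro P
    rw [aeval_prodMap, finrank_ker_prodMap, hc₁, hc₂]

theorem KReal.sum {N : ℕ} {ι : Type*} (s : Finset ι) (κ : ι → F[X] → ℕ)
    (h : ∀ j ∈ s, KReal N (κ j)) : KReal N (fun P => ∑ j ∈ s, κ j P) := by
  classical
  induction s using Finset.induction_on with
  | empty =>
    simp only [Finset.sum_empty]
    exact kReal_zero N
  | insert a s ha ih =>
    have h1 := (h a (Finset.mem_insert_self a s)).add
      (ih (fun j hj => h j (Finset.mem_insert_of_mem hj)))
    convert h1 using 2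
    rw [Finset.sum_insert ha]

open Classical in
/-- kernel dimensions of a block with irreducible characteristic polynomial `h` -/
noncomputable def kIrr (h : F[X]) : F[X] → ℕ := fun P => if h ∣ P then h.natDegree else 0

open Classical in
/-- kernel dimensions of the identity on an `e`-dimensional space -/
noncomputable def kOne (e : ℕ) : F[X] → ℕ := fun P => if P.eval 1 = 0 then e else 0

theorem kReal_of_irred {N : ℕ} (h : F[X]) (hirr : Irreducible h) (hS : SympReal N h) :
    KReal N (kIrr h) := by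
  obtain ⟨W, _, _, _, T, β, ha, hn, hi, hp, hc⟩ := hS
  refine ⟨W, inferInstance, inferInstance, inferInstance, T, β, fun v => ha v, hn, hi, hp, ?_⟩
  intro P
  have hT : aeval T h = 0 := by rw [← hc]; exact LinearMap.aeval_self_charpoly T
  unfold kIrr
  split_ifs with hd
  · obtain ⟨Q, rfl⟩ := hd
    rw [map_mul, hT, zero_mul, LinearMap.ker_zero, finrank_top, ← LinearMap.charpoly_natDegree T, hc]
  · have hcop : IsCoprime h P := (hirr.coprime_iff_not_dvd).2 hd
    obtain ⟨a, b, hab⟩ := hcop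
    have : LinearMap.ker (aeval T P) = ⊥ := by
      rw [eq_bot_iff]
      intro v hv
      rw [LinearMap.mem_ker] at hv
      rw [Submodule.mem_bot]
      have h1 : v = aeval T (a * h + b * P) v := by rw [hab, map_one, Module.End.one_apply]
      rw [h1, map_add, map_mul, map_mul, hT, mul_zero, zero_add, Module.End.mul_apply, hv, map_zero]
    rw [this, finrank_bot]

theorem kReal_one (N k : ℕ) : KReal (F := F) N (kOne (2 * k)) := by
  refine ⟨(Fin k ⊕ Fin k → F), inferInstance, inferInstance, inferInstance, 1, sympBilin k,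
    stdB_alt k, stdB_nd k, fun u v => rfl, one_pow N, ?_⟩
  intro P
  have h1 : aeval (1 : Module.End F (Fin k ⊕ Fin k → F)) P =
      algebraMap F (Module.End F (Fin k ⊕ Fin k → F)) (P.eval 1) := by
    have : (1 : Module.End F (Fin k ⊕ Fin k → F)) = algebraMap F _ 1 := (map_one _).symm
    rw [this, aeval_algebraMap_apply_eq_algebraMap_eval]
  unfold kOne
  split_ifs with h0
  · rw [h1, h0, map_zero, LinearMap.ker_zero, finrank_top, std_finrank]
  · have : LinearMap.ker (aeval (1 : Module.End F (Fin k ⊕ Fin k → F)) P) = ⊥ := by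
      rw [eq_bot_iff]
      intro v hv
      rw [LinearMap.mem_ker, h1, Module.algebraMap_end_apply] at hv
      rw [Submodule.mem_bot]
      rcases smul_eq_zero.1 hv with h | h
      · exact absurd h h0
      · exact h
    rw [this, finrank_bot]

end kreal

section transfer

universe u

variable {F : Type u} [Field F]

theorem mem_sp_of_iso (d : ℕ) (S : (Fin d ⊕ Fin d → F) →ₗ[F] (Fin d ⊕ Fin d → F))
    (h : ∀ u v, Cfsg.sympForm d F (S u) (S v) = Cfsg.sympForm d F u v) :
    LinearMap.toMatrix' S ∈ Matrix.symplecticGroup (Fin d) F := by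
  rw [SymplecticGroup.mem_iff']
  apply AltGlue.mat_ext_bilin'
  intro u v
  have h1 : ∀ w, (LinearMap.toMatrix' S).mulVec w = S w := by
    intro w
    rw [← Matrix.toLin'_apply, Matrix.toLin'_toMatrix']
  rw [Matrix.mul_assoc, ← AltGlue.dot_mulVec', ← Matrix.mulVec_mulVec, h1, h1]
  exact h u v

theorem aeval_conj {W V : Type*} [AddCommGroup W] [Module F W] [AddCommGroup V] [Module F V]
    (E : W ≃ₗ[F] V) (T : W →ₗ[F] W) (P : F[X]) : aeval (E.conj T) P = E.conj (aeval T P) :=
  Polynomial.aeval_algHom_apply (E.conjAlgEquiv F : Module.End F W →ₐ[F] Module.End F V) T P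

theorem finrank_ker_conj {W V : Type*} [AddCommGroup W] [Module F W] [AddCommGroup V] [Module F V]
    (E : W ≃ₗ[F] V) (f : W →ₗ[F] W) :
    finrank F (LinearMap.ker (E.conj f)) = finrank F (LinearMap.ker f) := by
  have h : LinearMap.ker (E.conj f) = (LinearMap.ker f).map (E : W →ₗ[F] V) := by
    ext v
    rw [LinearMap.mem_ker, LinearEquiv.conj_apply, Submodule.mem_map]
    constructor
    · intro hv
      refine ⟨E.symm v, ?_, E.apply_symm_apply v⟩
      rw [LinearMap.mem_ker]
      have : E (f (E.symm v)) = 0 := hv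
      exact E.map_eq_zero_iff.1 this
    · rintro ⟨w, hw, rfl⟩
      rw [LinearMap.mem_ker] at hw
      show E (f (E.symm (E w))) = 0
      rw [E.symm_apply_apply, hw, map_zero]
  rw [h, LinearEquiv.finrank_map_eq]

/-- from an abstract realisation to a symplectic matrix, keeping all kernel dimensions -/
theorem exists_sp_of_kReal {N : ℕ} {κ : F[X] → ℕ} (hK : KReal N κ) (d : ℕ) (hd : κ 0 = 2 * d) :
    ∃ A : Matrix (Fin d ⊕ Fin d) (Fin d ⊕ Fin d) F, A ∈ Matrix.symplecticGroup (Fin d) F ∧
      A ^ N = 1 ∧ ∀ P : F[X], finrank F (LinearMap.ker (aeval (Matrix.toLin' A) P)) = κ P := by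
  obtain ⟨W, _, _, _, T, β, halt, hnd, hiso, hpow, hκ⟩ := hK
  have hW : finrank F W = 2 * d := by
    have := hκ 0
    rw [map_zero, LinearMap.ker_zero, finrank_top] at this
    rw [this, hd]
  obtain ⟨k, φ, hk, hφ⟩ := SymIso.exists_symp_equiv (F := F) W β halt hnd
  have hkd : k = d := by omega
  subst hkd
  let S : (Fin k ⊕ Fin k → F) →ₗ[F] (Fin k ⊕ Fin k → F) := φ.conj T
  have hS : ∀ u, S u = φ (T (φ.symm u)) := by
    intro u
    show (φ.conj T) u = _
    rw [LinearEquiv.conj_apply]
    rfl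
  have hlin : Matrix.toLin' (LinearMap.toMatrix' S) = S := Matrix.toLin'_toMatrix' S
  refine ⟨LinearMap.toMatrix' S, ?_, ?_, ?_⟩
  · apply mem_sp_of_iso
    intro u v
    rw [hS, hS, hφ, hiso, ← hφ, LinearEquiv.apply_symm_apply, LinearEquiv.apply_symm_apply]
  · have h1 : S ^ N = 1 := by
      show (φ.conj T) ^ N = 1
      rw [conj_pow', hpow]
      apply LinearMap.ext
      intro v
      rw [LinearEquiv.conj_apply]
      simp
    have h2 : LinearMap.toMatrix' (S ^ N) = (LinearMap.toMatrix' S) ^ N := by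
      have : ∀ X : (Fin k ⊕ Fin k → F) →ₗ[F] (Fin k ⊕ Fin k → F),
          LinearMap.toMatrix' X = LinearMap.toMatrixAlgEquiv' X := fun X => rfl
      rw [this, this, map_pow]
    rw [← h2, h1]
    exact LinearMap.toMatrix'_one
  · intro P
    rw [hlin]
    show finrank F (LinearMap.ker (aeval (φ.conj T) P)) = κ P
    rw [aeval_conj, finrank_ker_conj, hκ]

end transfer

section model3

universe u

variable {F : Type u} [Field F] [Fintype F] {p : ℕ} [Fact p.Prime] [CharP F p]

/-- every irreducible factor `≠ X - 1` of `X^r - 1` is realised by an isometry when `ord_r(q)` is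
even -/
theorem sympReal_member (r : ℕ) [Fact r.Prime] (hr2 : r ≠ 2) (hrp : r ≠ p)
    (hev : Even (orderOf (Fintype.card F : ZMod r))) (g : F[X]) (hmon : g.Monic)
    (hirr : Irreducible g) (hdvd : g ∣ X ^ r - 1) (hcop : IsCoprime (X - 1 : F[X]) g) :
    SympReal r g := by
  have hr : r.Prime := Fact.out
  have hrodd : Odd r := hr.odd_of_ne_two hr2
  have hipos : 0 < orderOf (Fintype.card F : ZMod r) := orderOf_card_pos r hrp
  have hne : g ≠ X - 1 := by
    intro h1
    rw [h1] at hcop hirr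
    exact hirr.not_isUnit (isCoprime_self.1 hcop)
  have hndvd : ¬ g ∣ X ^ 2 - 1 := by
    intro hd
    obtain ⟨k', hk'⟩ := hrodd
    have h1 : (X ^ 2 - 1 : F[X]) ∣ X ^ r - X := by
      have h2 : (X ^ r - X : F[X]) = X * ((X ^ 2) ^ k' - 1 ^ k') := by
        rw [hk', one_pow]; ring
      rw [h2]
      exact Dvd.dvd.mul_left (sub_dvd_pow_sub_pow (X ^ 2) 1 k') X
    have h3 : g ∣ X - 1 := by
      have h4 : (X - 1 : F[X]) = (X ^ r - 1) - (X ^ r - X) := by ring
      rw [h4]
      exact dvd_sub hdvd (hd.trans h1)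
    exact hirr.not_isUnit (hcop.symm.isUnit_of_dvd' (dvd_refl _) h3)
  have hstar : StarPoly.star (RingHom.id F) g = g := by
    have h1 := StarPoly.star_eq_self_iff p 0 (RingHom.id F)
      (fun c => by rw [pow_zero, pow_one]; rfl) (fun c => rfl) r hr g hmon hirr hdvd hne
    rw [h1, Nat.card_eq_fintype_card, pow_zero]
    exact (Cfsg.Agent.S2645.arith_even r (Fintype.card F) _ hr hr2 rfl hipos).2 hev
  exact sympReal_selfdual p r g hmon hirr hstar hdvd hndvd

/-- the model for the multiplicity condition: fixed space of dimension `e`, and `s` distinct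
irreducible factors each with multiplicity one -/
theorem exists_sp_model3 (r : ℕ) [Fact r.Prime] (hr2 : r ≠ 2) (hrp : r ≠ p)
    (hev : Even (orderOf (Fintype.card F : ZMod r))) {t : ℕ} (h : Option (Fin t) → F[X])
    (hmon : ∀ o, (h o).Monic) (hirr : ∀ o, Irreducible (h o)) (hnone : h none = X - 1)
    (hdeg : ∀ j, (h (some j)).natDegree = orderOf (Fintype.card F : ZMod r))
    (hprod : ∏ o, h o = X ^ r - 1) (hcop : ∀ o o', o ≠ o' → IsCoprime (h o) (h o'))
    (d e s : ℕ) (hs : s ≤ t) (hn : 2 * d = e + orderOf (Fintype.card F : ZMod r) * s) :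
    ∃ A : Matrix (Fin d ⊕ Fin d) (Fin d ⊕ Fin d) F, A ∈ Matrix.symplecticGroup (Fin d) F ∧
      A ^ r = 1 ∧ finrank F (fixE (Matrix.toLin' A)) = e ∧
      ∀ j : Fin t, finrank F (LinearMap.ker (aeval (Matrix.toLin' A) (h (some j)))) ≤
        orderOf (Fintype.card F : ZMod r) := by
  classical
  set i₀ := orderOf (Fintype.card F : ZMod r) with hi₀
  have hee : Even e := by
    have h1 : Even (e + i₀ * s) := by
      rw [← hn]
      exact even_two_mul d
    rw [Nat.even_add] at h1
    exact h1.2 (hev.mul_right s)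
  obtain ⟨k, hk⟩ := hee
  have hk2 : e = 2 * k := by omega
  let S : Finset (Fin t) := Finset.univ.map (Fin.castLEEmb hs)
  have hScard : S.card = s := by
    rw [Finset.card_map, Finset.card_univ, Fintype.card_fin]
  have hmem : ∀ j : Fin t, IsCoprime (X - 1 : F[X]) (h (some j)) := by
    intro j
    rw [← hnone]
    exact hcop none (some j) (Option.some_ne_none j).symm
  have hdvd : ∀ j : Fin t, h (some j) ∣ X ^ r - 1 := by
    intro j
    rw [← hprod]
    exact Finset.dvd_prod_of_mem h (Finset.mem_univ _)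
  have hK : KReal r (fun P => kOne (2 * k) P + ∑ j ∈ S, kIrr (h (some j)) P) :=
    (kReal_one r k).add (KReal.sum S _ (fun j _ => kReal_of_irred _ (hirr _)
      (sympReal_member r hr2 hrp hev _ (hmon _) (hirr _) (hdvd j) (hmem j))))
  have hκ0 : (fun P => kOne (2 * k) P + ∑ j ∈ S, kIrr (h (some j)) P) (0 : F[X]) = 2 * d := by
    show kOne (2 * k) 0 + ∑ j ∈ S, kIrr (h (some j)) 0 = 2 * d
    have h1 : kOne (2 * k) (0 : F[X]) = 2 * k := by
      unfold kOne
      rw [if_pos (by simp)]
    have h2 : ∀ j ∈ S, kIrr (h (some j)) 0 = i₀ := by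
      intro j _
      unfold kIrr
      rw [if_pos (dvd_zero _), hdeg]
    rw [h1, Finset.sum_congr rfl h2, Finset.sum_const, hScard, smul_eq_mul, hn, hk2, mul_comm s]
  obtain ⟨A, hA, hAr, hAκ⟩ := exists_sp_of_kReal hK d hκ0
  refine ⟨A, hA, hAr, ?_, ?_⟩
  · have hfix : fixE (Matrix.toLin' A) = LinearMap.ker (aeval (Matrix.toLin' A) (X - 1 : F[X])) := by
      rw [map_sub, aeval_X, map_one]
      rfl
    rw [hfix, hAκ]
    show kOne (2 * k) (X - 1) + ∑ j ∈ S, kIrr (h (some j)) (X - 1) = e
    have h1 : kOne (2 * k) (X - 1 : F[X]) = 2 * k := by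
      unfold kOne
      rw [if_pos (by simp)]
    have h2 : ∀ j ∈ S, kIrr (h (some j)) (X - 1) = 0 := by
      intro j _
      unfold kIrr
      rw [if_neg]
      intro hd
      exact (hirr (some j)).not_isUnit ((hmem j).isUnit_of_dvd' hd (dvd_refl _))
    rw [h1, Finset.sum_congr rfl h2, Finset.sum_const_zero, add_zero, hk2]
  · intro j'
    rw [hAκ]
    show kOne (2 * k) (h (some j')) + ∑ j ∈ S, kIrr (h (some j)) (h (some j')) ≤ i₀
    have h1 : kOne (2 * k) (h (some j')) = 0 := by
      unfold kOne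
      rw [if_neg]
      intro h0
      have h2 : (X - C (1 : F)) ∣ h (some j') := dvd_iff_isRoot.2 h0
      rw [C_1] at h2
      have h3 : IsUnit (X - 1 : F[X]) := (hmem j').isUnit_of_dvd' (dvd_refl _) h2
      rw [← C_1] at h3
      exact Polynomial.not_isUnit_X_sub_C 1 h3
    have h2 : ∀ j ∈ S, kIrr (h (some j)) (h (some j')) ≤ if j = j' then i₀ else 0 := by
      intro j _
      unfold kIrr
      by_cases hjj : j = j'
      · rw [if_pos hjj]
        split_ifs
        · rw [hdeg]
        · exact Nat.zero_le _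
      · rw [if_neg hjj, if_neg]
        intro hd
        have hc := hcop (some j) (some j') (fun h' => hjj (Option.some_injective _ h'))
        exact (hirr (some j)).not_isUnit (hc.isUnit_of_dvd' (dvd_refl _) hd)
    rw [h1, zero_add]
    calc ∑ j ∈ S, kIrr (h (some j)) (h (some j')) ≤ ∑ j ∈ S, (if j = j' then i₀ else 0) :=
          Finset.sum_le_sum h2
      _ ≤ i₀ := by
          rw [Finset.sum_ite_eq']
          split_ifs
          · exact le_rfl
          · exact Nat.zero_le _

end model3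

end Cfsg.Agent.Lib.Helper12.Sp
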