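import Mathlib
import Cfsg.Agent.Lib.Helper12.SpJ

set_option autoImplicit false

namespace Cfsg.Agent.Lib.Helper12.Sp

open Module Polynomial Cfsg.Agent.Lib.Helper12.Elus Cfsg.Agent.Lib.Helper15

section nec

variable {F V : Type*} [Field F] [Fintype F] [AddCommGroup V] [Module F V] [FiniteDimensional F V]
  {p : ℕ} [Fact p.Prime] [CharP F p] (B : LinearMap.BilinForm F V) (y : V →ₗ[F] V)
  (r : ℕ) [Fact r.Prime]

omit [Fact p.Prime] [CharP F p] in
/-- an invariant totally isotropic subspace splits along fixed and moved parts -/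
theorem iso_inv_split (halt : ∀ v, B v v = 0) (hnd : ∀ x, (∀ z, B x z = 0) → x = 0)
    (hiso : ∀ u v, B (y u) (y v) = B u v) (hy : y ^ r = 1) (hr0 : (r : F) ≠ 0)
    (W : Submodule F V) (hW : ∀ u ∈ W, y u ∈ W) (hWiso : W ≤ B.orthogonal W) :
    finrank F W = finrank F ↥(W ⊓ fixE y) + finrank F ↥(W ⊓ movR y) ∧
      2 * finrank F ↥(W ⊓ fixE y) ≤ finrank F (fixE y) ∧
      orderOf (Fintype.card F : ZMod r) ∣ finrank F ↥(W ⊓ movR y) := by
  have htop : NdOn B (⊤ : Submodule F V) := by
    intro u _ hu0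
    by_contra hcon
    push Not at hcon
    exact hu0 (hnd u (fun z => hcon z Submodule.mem_top))
  have htinv : ∀ v ∈ (⊤ : Submodule F V), y v ∈ (⊤ : Submodule F V) := fun _ _ => Submodule.mem_top
  have hEnd : NdOn B (fixE y) := by
    have := ndOn_inf_fix B y hiso r hy hr0 ⊤ htinv htop
    rwa [top_inf_eq] at this
  refine ⟨?_, ?_, ?_⟩
  · have hsplit := inv_split y r hy hr0 W hW
    have hdisj : (W ⊓ fixE y) ⊓ (W ⊓ movR y) = ⊥ := by
      rw [eq_bot_iff, ← fix_inf_mov y r hy hr0]
      exact inf_le_inf inf_le_right inf_le_right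
    have := Submodule.finrank_sup_add_finrank_inf_eq (W ⊓ fixE y) (W ⊓ movR y)
    rw [hsplit, hdisj, finrank_bot, add_zero] at this
    exact this
  · have h1 := finrank_inf_orth' B halt (fixE y) (W ⊓ fixE y) hEnd inf_le_right
    have h2 : W ⊓ fixE y ≤ fixE y ⊓ B.orthogonal (W ⊓ fixE y) := by
      refine le_inf inf_le_right ?_
      intro w hw
      rw [mem_orth]
      intro n hn
      exact (mem_orth B W w).1 (hWiso hw.1) n hn.1
    have h3 := Submodule.finrank_mono h2
    omega
  · exact orderOf_dvd_finrank_of_le_movR y r hy hr0 _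
      (inf_invariant y _ _ hW (movR_invariant y)) inf_le_right

omit [Fact p.Prime] [CharP F p] in
theorem iso_inv_mod (halt : ∀ v, B v v = 0) (hnd : ∀ x, (∀ z, B x z = 0) → x = 0)
    (hiso : ∀ u v, B (y u) (y v) = B u v) (hy : y ^ r = 1) (hr0 : (r : F) ≠ 0)
    (W : Submodule F V) (hW : ∀ u ∈ W, y u ∈ W) (hWiso : W ≤ B.orthogonal W) :
    2 * (finrank F W % orderOf (Fintype.card F : ZMod r)) ≤ finrank F (fixE y) := by
  obtain ⟨h1, h2, ⟨k, hk⟩⟩ := iso_inv_split B y r halt hnd hiso hy hr0 W hW hWiso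
  have h3 : finrank F W % orderOf (Fintype.card F : ZMod r) =
      finrank F ↥(W ⊓ fixE y) % orderOf (Fintype.card F : ZMod r) := by
    rw [h1, hk]
    exact Nat.add_mul_mod_self_left _ _ _
  have h4 := Nat.mod_le (finrank F ↥(W ⊓ fixE y)) (orderOf (Fintype.card F : ZMod r))
  omega

omit [Fact p.Prime] [CharP F p] [FiniteDimensional F V] in
/-- kernels of self-dual coprime factors are nondegenerate -/
theorem ndOn_ker (hnd : ∀ x, (∀ z, B x z = 0) → x = 0)
    (hiso : ∀ u v, B (y u) (y v) = B u v) (hy : y ^ r = 1) (m : ℕ)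
    (hm : r ∣ Fintype.card F ^ m + 1) (h g : F[X]) (hcop : IsCoprime h g)
    (hkill : aeval y (h * g) = 0) : NdOn B (LinearMap.ker (aeval y h)) := by
  obtain ⟨a, b, hab⟩ := id hcop
  have horth : ∀ u ∈ LinearMap.ker (aeval y h), ∀ v ∈ LinearMap.ker (aeval y g), B u v = 0 := by
    intro u hu v hv
    rw [LinearMap.mem_ker] at hu hv
    have hv1 : aeval y (a * h) v = v := by
      have h1 : v = aeval y (a * h + b * g) v := by rw [hab, map_one, Module.End.one_apply]
      rw [map_add, LinearMap.add_apply] at h1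
      have h2 : aeval y (b * g) v = 0 := by
        rw [map_mul, Module.End.mul_apply, hv, map_zero]
      rw [h2, add_zero] at h1
      exact h1.symm
    have hpow : ∀ n : ℕ, ((aeval y (a * h)) ^ n) v = v := by
      intro n
      induction n with
      | zero => rw [pow_zero, Module.End.one_apply]
      | succ n ih => rw [pow_succ, Module.End.mul_apply, hv1, ih]
    have h3 := adjoint_pow B y r hiso hy m hm (a * h) u v
    rw [hpow] at h3
    rw [← h3, map_mul, Module.End.mul_apply, hu, map_zero, map_zero, LinearMap.zero_apply]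
  intro u hu hu0
  have h1 : ¬ ∀ z, B u z = 0 := fun hall => hu0 (hnd u hall)
  push Not at h1
  obtain ⟨w, hw⟩ := h1
  have hsplit := split_coprime y ⊤ (fun _ _ => Submodule.mem_top) h g hcop
    (fun u _ => by rw [hkill, LinearMap.zero_apply])
  have hw' := hsplit (Submodule.mem_top : w ∈ ⊤)
  obtain ⟨w₁, hw₁, w₂, hw₂, rfl⟩ := Submodule.mem_sup.1 hw'
  refine ⟨w₁, hw₁.2, ?_⟩
  rw [map_add, horth u hu w₂ hw₂.2, add_zero] at hw
  exact hw

/-- if all the kernels of the irreducible factors have dimension `≤ i` (`i` even) then the moved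
space has no nonzero invariant totally isotropic subspace -/
theorem no_iso_in_mov (halt : ∀ v, B v v = 0) (hnd : ∀ x, (∀ z, B x z = 0) → x = 0)
    (hiso : ∀ u v, B (y u) (y v) = B u v) (hrp : r ≠ p) (hy : y ^ r = 1)
    (hev : Even (orderOf (Fintype.card F : ZMod r))) {t : ℕ} (h : Option (Fin t) → F[X])
    (hnone : h none = X - 1) (hprod : ∏ o, h o = X ^ r - 1)
    (hcop : ∀ o o', o ≠ o' → IsCoprime (h o) (h o'))
    (hker : ∀ j : Fin t, finrank F (LinearMap.ker (aeval y (h (some j)))) ≤
      orderOf (Fintype.card F : ZMod r))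
    (W : Submodule F V) (hWR : W ≤ movR y) (hW : ∀ u ∈ W, y u ∈ W)
    (hWiso : W ≤ B.orthogonal W) : W = ⊥ := by
  classical
  have hr : r.Prime := Fact.out
  have hr0 : (r : F) ≠ 0 := by
    rw [Ne, CharP.cast_eq_zero_iff F p]
    intro hd
    exact hrp ((Nat.prime_dvd_prime_iff_eq Fact.out Fact.out).1 hd).symm
  set i₀ := orderOf (Fintype.card F : ZMod r) with hi₀
  have hipos : 0 < i₀ := orderOf_card_pos r hrp
  obtain ⟨s, hs⟩ := id hev
  have hs0 : 0 < s := by omega
  have hm : r ∣ Fintype.card F ^ s + 1 :=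
    dvd_pow_half_add_one r (Fintype.card F) s hs0 (by rw [← hi₀, hs, two_mul])
  have hyall : aeval y (X ^ r - 1 : F[X]) = 0 := by
    rw [map_sub, map_pow, aeval_X, map_one, hy, sub_self]
  have hkill : ∀ u ∈ W, aeval y (∏ j ∈ (Finset.univ : Finset (Fin t)), h (some j)) u = 0 := by
    intro u hu
    obtain ⟨w, rfl⟩ := hWR hu
    have h1 : (y - 1) w = aeval y (h none) w := by
      rw [hnone, map_sub, aeval_X, map_one]
    rw [h1, ← Module.End.mul_apply, ← map_mul]
    have h2 : (∏ j : Fin t, h (some j)) * h none = X ^ r - 1 := by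
      rw [← hprod, Fintype.prod_option, mul_comm]
    rw [h2, hyall, LinearMap.zero_apply]
  have hmain := finrank_le_of_family y (fun j : Fin t => h (some j)) 0 W (by
    intro j N' hN'inv hN'W hN'h
    by_contra hpos
    have hN'0 : N' ≠ ⊥ := by
      intro h0
      apply hpos
      rw [h0, finrank_bot]
    have hN'K : N' ≤ LinearMap.ker (aeval y (h (some j))) := fun u hu =>
      LinearMap.mem_ker.2 (hN'h u hu)
    have hle : finrank F N' ≤ i₀ := (Submodule.finrank_mono hN'K).trans (hker j)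
    have hdim : finrank F N' = i₀ :=
      finrank_eq_of_le y r hy hr0 N' hN'inv (hN'W.trans hWR) hN'0 hle
    have hEq : N' = LinearMap.ker (aeval y (h (some j))) :=
      Submodule.eq_of_le_of_finrank_le hN'K (by rw [hdim]; exact hker j)
    -- the kernel is nondegenerate
    have hKnd : NdOn B (LinearMap.ker (aeval y (h (some j)))) := by
      apply ndOn_ker B y r hnd hiso hy s hm (h (some j))
        (∏ o ∈ Finset.univ.erase (some j), h o)
      · apply IsCoprime.prod_right
        intro o ho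
        exact hcop (some j) o (Finset.ne_of_mem_erase ho).symm
      · rw [Finset.mul_prod_erase Finset.univ h (Finset.mem_univ _), hprod, hyall]
    have hdisj := (ndOn_iff_disjoint B halt _).1 hKnd
    have hiso' : N' ≤ B.orthogonal N' := by
      intro w hw
      rw [mem_orth]
      intro n hn
      exact (mem_orth B W w).1 (hWiso (hN'W hw)) n (hN'W hn)
    rw [← hEq] at hdisj
    have : N' ≤ N' ⊓ B.orthogonal N' := le_inf le_rfl hiso'
    rw [hdisj.eq_bot] at this
    exact hN'0 (le_bot_iff.1 this)) Finset.univ (by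
    intro j _ j' _ hne
    exact hcop (some j) (some j') (fun h' => hne (Option.some_injective _ h'))) W hW le_rfl hkill
  rw [zero_mul, Nat.le_zero] at hmain
  exact Submodule.finrank_eq_zero.1 hmain

end nec

section std

universe u

variable {F : Type u} [Field F]

theorem nonscalar_of_fix (d : ℕ) (hd : 1 ≤ d) (r : ℕ) [Fact r.Prime] (hr2 : r ≠ 2)
    (A : Matrix (Fin d ⊕ Fin d) (Fin d ⊕ Fin d) F) (hA : A ∈ Matrix.symplecticGroup (Fin d) F)
    (hAr : A ^ r = 1) (hfix : finrank F (fixE (Matrix.toLin' A)) < 2 * d) :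
    ∀ z : F, A ≠ z • (1 : Matrix (Fin d ⊕ Fin d) (Fin d ⊕ Fin d) F) := by
  have hr : r.Prime := Fact.out
  set B := sympBilin d (F := F) with hB
  have hnd : ∀ x, (∀ y, B x y = 0) → x = 0 := stdB_nd d
  have hfin : finrank F (Fin d ⊕ Fin d → F) = 2 * d := std_finrank d
  haveI : Nontrivial (Fin d ⊕ Fin d → F) := by
    haveI : Nonempty (Fin d ⊕ Fin d) := ⟨Sum.inl ⟨0, by omega⟩⟩
    infer_instance
  have hiso : ∀ u v, B (Matrix.toLin' A u) (Matrix.toLin' A v) = B u v := std_iso d A hA
  have hyr : (Matrix.toLin' A) ^ r = 1 := by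
    rw [← Matrix.toLin'_pow, hAr, Matrix.toLin'_one]
    rfl
  intro z hAz
  have hy : Matrix.toLin' A = z • (1 : (Fin d ⊕ Fin d → F) →ₗ[F] (Fin d ⊕ Fin d → F)) := by
    rw [hAz, map_smul, Matrix.toLin'_one]
    rfl
  have hzz : z * z = 1 := by
    apply scalar_sq_eq_one B hnd z
    intro u v
    have := hiso u v
    rw [hy] at this
    exact this
  have hzr : z ^ r = 1 := by
    have h1 := hyr
    rw [hy, _root_.smul_pow, one_pow] at h1
    exact smul_one_inj (V := Fin d ⊕ Fin d → F) (by rw [hfin]; omega) _ _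
      (by rw [h1, one_smul])
  obtain ⟨k, hk⟩ := hr.odd_of_ne_two hr2
  have hz1 : z = 1 := by
    rw [hk, pow_succ, pow_mul, pow_two, hzz, one_pow, one_mul] at hzr
    exact hzr
  have hfixtop : fixE (Matrix.toLin' A) = ⊤ := by
    rw [eq_top_iff]
    intro v _
    rw [mem_fixE, hy, hz1, one_smul, Module.End.one_apply]
  rw [hfixtop, finrank_top, hfin] at hfix
  omega

theorem blockDim_dvd_of_dvd_two_mul (q r j : ℕ)
    (h : orderOf (q : ZMod r) ∣ 2 * j) : blockDim q r ∣ 2 * j := by
  rw [blockDim]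
  split_ifs with hev
  · exact h
  · have hodd : Odd (orderOf (q : ZMod r)) := Nat.not_even_iff_odd.1 hev
    have h1 : orderOf (q : ZMod r) ∣ j :=
      (Nat.Coprime.dvd_of_dvd_mul_left (Nat.coprime_two_right.2 hodd) h)
    exact Nat.mul_dvd_mul_left 2 h1

end std

end Cfsg.Agent.Lib.Helper12.Sp
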