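import Mathlib
import Cfsg.Agent.Lib.Helper12.SpI

set_option autoImplicit false

namespace Cfsg.Agent.Lib.Helper12.Sp

open Module Polynomial Cfsg.Agent.Lib.Helper12.Elus

section two

variable {F V : Type*} [Field F] [AddCommGroup V] [Module F V] [FiniteDimensional F V]

theorem exists_sub_finrank (U : Submodule F V) :
    ∀ m, m ≤ finrank F U → ∃ W : Submodule F V, W ≤ U ∧ finrank F W = m := by
  intro m
  induction m with
  | zero => exact fun _ => ⟨⊥, bot_le, finrank_bot F V⟩
  | succ m ih =>
    intro hm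
    obtain ⟨W, hWU, hWdim⟩ := ih (by omega)
    have hne : W ≠ U := by
      intro h
      rw [h] at hWdim
      omega
    have hlt : W < U := lt_of_le_of_ne hWU hne
    obtain ⟨u, huU, huW⟩ := SetLike.exists_of_lt hlt
    have hu0 : u ≠ 0 := by
      rintro rfl
      exact huW (zero_mem _)
    refine ⟨W ⊔ Submodule.span F {u}, sup_le hWU ?_, ?_⟩
    · rw [Submodule.span_le]
      intro x hx
      rw [Set.mem_singleton_iff.1 hx]
      exact huU
    · have hd : W ⊓ Submodule.span F {u} = ⊥ := by
        rw [eq_bot_iff]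
        rintro x ⟨hxW, hxu⟩
        obtain ⟨c, rfl⟩ := Submodule.mem_span_singleton.1 hxu
        rw [Submodule.mem_bot]
        by_contra hne0
        have hc : c ≠ 0 := by
          rintro rfl
          exact hne0 (zero_smul _ _)
        apply huW
        have := Submodule.smul_mem W c⁻¹ hxW
        rwa [smul_smul, inv_mul_cancel₀ hc, one_smul] at this
      have := Submodule.finrank_sup_add_finrank_inf_eq W (Submodule.span F {u})
      rw [hd, finrank_bot, add_zero, hWdim, finrank_span_singleton hu0] at this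
      exact this

variable (B : LinearMap.BilinForm F V) (x : V →ₗ[F] V)

theorem iso_finrank_le (halt : ∀ v, B v v = 0) (hnd : ∀ a, (∀ z, B a z = 0) → a = 0)
    (W : Submodule F V) (hW : W ≤ B.orthogonal W) : 2 * finrank F W ≤ finrank F V := by
  have htop : NdOn B (⊤ : Submodule F V) := by
    intro u _ hu0
    by_contra hcon
    push Not at hcon
    exact hu0 (hnd u (fun z => hcon z Submodule.mem_top))
  have h1 := finrank_inf_orth' B halt ⊤ W htop le_top
  rw [top_inf_eq, finrank_top] at h1
  have h2 := Submodule.finrank_mono hW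
  omega

/-- involutions: `x^2 = 1` in odd characteristic -/
theorem invol_case (halt : ∀ v, B v v = 0) (hnd : ∀ a, (∀ z, B a z = 0) → a = 0)
    (hiso : ∀ u v, B (x u) (x v) = B u v) (h2 : ((2 : ℕ) : F) ≠ 0) (hx : x ^ 2 = 1) (d m : ℕ)
    (hdim : finrank F V = 2 * d) (hmd : m ≤ d) :
    ∃ W : Submodule F V, finrank F W = m ∧ W ≤ B.orthogonal W ∧ ∀ u ∈ W, x u ∈ W := by
  haveI : Fact (Nat.Prime 2) := ⟨Nat.prime_two⟩
  have htop : NdOn B (⊤ : Submodule F V) := by
    intro u _ hu0
    by_contra hcon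
    push Not at hcon
    exact hu0 (hnd u (fun z => hcon z Submodule.mem_top))
  have htinv : ∀ v ∈ (⊤ : Submodule F V), x v ∈ (⊤ : Submodule F V) := fun _ _ => Submodule.mem_top
  have hEnd : NdOn B (fixE x) := by
    have := ndOn_inf_fix B x hiso 2 hx h2 ⊤ htinv htop
    rwa [top_inf_eq] at this
  have hRnd : NdOn B (movR x) := by
    have := ndOn_inf_mov B x halt hiso 2 hx h2 ⊤ htinv htop
    rwa [top_inf_eq] at this
  have hdisj : fixE x ⊓ movR x = ⊥ := fix_inf_mov x 2 hx h2
  have hsplit : fixE x ⊔ movR x = ⊤ := by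
    have := inv_split x 2 hx h2 ⊤ htinv
    rwa [top_inf_eq, top_inf_eq] at this
  have hen : finrank F (fixE x) + finrank F (movR x) = 2 * d := by
    have := Submodule.finrank_sup_add_finrank_inf_eq (fixE x) (movR x)
    rw [hsplit, hdisj, finrank_bot, add_zero, finrank_top, hdim] at this
    exact this.symm
  obtain ⟨e', he'⟩ := even_finrank_of_ndOn B halt _ hEnd
  obtain ⟨n', hn'⟩ := even_finrank_of_ndOn B halt _ hRnd
  obtain ⟨WE, hWEE, hWEiso, hWEdim⟩ := exists_iso_sub B halt (min m e') (fixE x) hEnd (by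
    have := min_le_right m e'
    omega)
  obtain ⟨WR, hWRR, hWRiso, hWRdim⟩ := exists_iso_sub B halt (m - min m e') (movR x) hRnd (by
    rcases le_total m e' with h | h
    · rw [min_eq_left h]
      omega
    · rw [min_eq_right h]
      omega)
  have hneg : ∀ v ∈ movR x, x v = -v := by
    rintro _ ⟨w, rfl⟩
    have h1 : x (x w) = w := by
      have := congrArg (fun g : V →ₗ[F] V => g w) hx
      simpa [pow_two] using this
    rw [LinearMap.sub_apply, Module.End.one_apply, map_sub, h1]
    abel
  refine ⟨WE ⊔ WR, ?_, ?_, ?_⟩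
  · have hd' : WE ⊓ WR = ⊥ := by
      rw [eq_bot_iff, ← hdisj]
      exact inf_le_inf hWEE hWRR
    have := Submodule.finrank_sup_add_finrank_inf_eq WE WR
    rw [hd', finrank_bot, add_zero, hWEdim, hWRdim] at this
    have := min_le_left m e'
    omega
  · apply iso_sup B halt WE WR hWEiso hWRiso
    intro a ha b hb
    exact fix_orth_mov B x hiso a b (hWEE ha) (hWRR hb)
  · apply sup_invariant x WE WR (fixE_invariant x WE hWEE)
    intro v hv
    rw [hneg v (hWRR hv)]
    exact Submodule.neg_mem _ hv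

/-- `x^2 = -1` with a square root of `-1` in the field -/
theorem eigen_case (halt : ∀ v, B v v = 0) (hnd : ∀ a, (∀ z, B a z = 0) → a = 0)
    (hiso : ∀ u v, B (x u) (x v) = B u v) (h2 : (2 : F) ≠ 0) (ι : F) (hι : ι * ι = -1)
    (hx : ∀ v, x (x v) = -v) (d m : ℕ) (hdim : finrank F V = 2 * d) (hmd : m ≤ d) :
    ∃ W : Submodule F V, finrank F W = m ∧ W ≤ B.orthogonal W ∧ ∀ u ∈ W, x u ∈ W := by
  have key : ∀ c : F, c * c = -1 →
      LinearMap.ker (x - c • 1) ≤ B.orthogonal (LinearMap.ker (x - c • 1)) := by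
    intro c hc u hu
    rw [mem_orth]
    intro v hv
    rw [LinearMap.mem_ker, LinearMap.sub_apply, LinearMap.smul_apply, Module.End.one_apply,
      sub_eq_zero] at hu hv
    have h1 := hiso v u
    rw [hu, hv, map_smul, map_smul, LinearMap.smul_apply, smul_eq_mul, smul_eq_mul, ← mul_assoc,
      hc] at h1
    have h3 : (2 : F) * B v u = 0 := by linear_combination -h1
    rcases mul_eq_zero.1 h3 with h4 | h4
    · exact absurd h4 h2
    · exact h4
  have hι' : (-ι) * (-ι) = -1 := by rw [neg_mul_neg, hι]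
  have hP := key ι hι
  have hM := key (-ι) hι'
  have hsup : LinearMap.ker (x - ι • 1) ⊔ LinearMap.ker (x - (-ι) • 1) = ⊤ := by
    rw [eq_top_iff]
    intro v _
    have hv : v = (2 : F)⁻¹ • (v - ι • x v) + (2 : F)⁻¹ • (v + ι • x v) := by
      rw [← smul_add]
      have : v - ι • x v + (v + ι • x v) = (2 : F) • v := by
        rw [two_smul]
        abel
      rw [this, smul_smul, inv_mul_cancel₀ h2, one_smul]
    rw [hv]
    apply Submodule.add_mem_sup
    · apply Submodule.smul_mem
      rw [LinearMap.mem_ker, LinearMap.sub_apply, LinearMap.smul_apply, Module.End.one_apply,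
        map_sub, map_smul, hx, smul_sub, smul_smul, hι]
      simp only [smul_neg, neg_smul, one_smul]
      abel
    · apply Submodule.smul_mem
      rw [LinearMap.mem_ker, LinearMap.sub_apply, LinearMap.smul_apply, Module.End.one_apply,
        map_add, map_smul, hx, smul_add, smul_smul, neg_mul, hι]
      simp only [smul_neg, neg_smul, one_smul, neg_neg]
      abel
  have h3 := iso_finrank_le B halt hnd _ hP
  have h4 := iso_finrank_le B halt hnd _ hM
  have h5 := Submodule.finrank_add_le_finrank_add_finrank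
    (LinearMap.ker (x - ι • 1)) (LinearMap.ker (x - (-ι) • 1))
  rw [hsup, finrank_top, hdim] at h5
  obtain ⟨W, hWP, hWdim⟩ := exists_sub_finrank (LinearMap.ker (x - ι • 1)) m (by omega)
  refine ⟨W, hWdim, ?_, ?_⟩
  · intro w hw
    rw [mem_orth]
    intro n hn
    exact (mem_orth B _ w).1 (hP (hWP hw)) n (hWP hn)
  · intro u hu
    have := hWP hu
    rw [LinearMap.mem_ker, LinearMap.sub_apply, LinearMap.smul_apply, Module.End.one_apply,
      sub_eq_zero] at this
    rw [this]
    exact Submodule.smul_mem _ _ hu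

omit [FiniteDimensional F V] in
/-- `x^2 = -1`, `-1` a nonsquare: invariant subspaces are even-dimensional -/
theorem even_of_invariant (hx : ∀ v, x (x v) = -v) (hns : ¬ IsSquare (-1 : F))
    (W : Submodule F V) (hW : ∀ u ∈ W, x u ∈ W) : Even (finrank F W) := by
  by_contra hodd
  rw [Nat.not_even_iff_odd] at hodd
  apply hns
  have h1 : (x.restrict hW) * (x.restrict hW) = (-1 : F) • (1 : W →ₗ[F] W) := by
    apply LinearMap.ext
    intro w
    apply Subtype.ext
    rw [Module.End.mul_apply, LinearMap.smul_apply, Module.End.one_apply]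
    show x (x (w : V)) = ((-1 : F) • w : W)
    rw [hx]
    simp
  have h2 := congrArg LinearMap.det h1
  rw [map_mul, LinearMap.det_smul, map_one, mul_one, hodd.neg_one_pow] at h2
  exact ⟨_, h2.symm⟩

end two

section cw2

variable {F V : Type*} [Field F] [Fintype F] [AddCommGroup V] [Module F V] [FiniteDimensional F V]
  {p : ℕ} [Fact p.Prime] [CharP F p] (B : LinearMap.BilinForm F V) (x : V →ₗ[F] V)

/-- `x^2 = -1`, `-1` a nonsquare: invariant totally isotropic subspaces of every even dimension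
`≤ d` exist -/
theorem cw_case (halt : ∀ v, B v v = 0) (hiso : ∀ u v, B (x u) (x v) = B u v)
    (hp2 : p ≠ 2) (hx : ∀ v, x (x v) = -v) (hns : ¬ IsSquare (-1 : F)) :
    ∀ (k : ℕ) (U : Submodule F V), (∀ u ∈ U, x u ∈ U) → NdOn B U → 4 * k ≤ finrank F U →
      ∃ W : Submodule F V, W ≤ U ∧ finrank F W = 2 * k ∧ W ≤ B.orthogonal W ∧
        ∀ u ∈ W, x u ∈ W := by
  have h2 : ((2 : ℕ) : F) ≠ 0 := by
    rw [Ne, CharP.cast_eq_zero_iff F p]
    intro hd
    exact hp2 ((Nat.prime_dvd_prime_iff_eq Fact.out Nat.prime_two).1 hd)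
  have h4 : ((4 : ℕ) : F) ≠ 0 := by
    rw [show (4 : ℕ) = 2 * 2 from rfl, Nat.cast_mul]
    exact mul_ne_zero h2 h2
  have hx4 : x ^ 4 = 1 := by
    apply LinearMap.ext
    intro v
    have : x ^ 4 = x * x * (x * x) := by
      rw [show (4 : ℕ) = 2 + 2 from rfl, pow_add, pow_two]
    rw [this, Module.End.mul_apply, Module.End.mul_apply, Module.End.mul_apply, hx, hx, neg_neg,
      Module.End.one_apply]
  intro k
  induction k with
  | zero =>
    intro U _ _ _
    exact ⟨⊥, bot_le, by rw [finrank_bot], bot_le,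
      fun u hu => by rw [(Submodule.mem_bot F).1 hu, map_zero]; exact zero_mem _⟩
  | succ k ih =>
    intro U hU hUnd hk
    obtain ⟨u, huU, hu0, hu⟩ := exists_iso_vec (p := p) B x U 2 (by omega)
    have hu1 : B ((x ^ 1) u) u = 0 := hu 1 le_rfl (by omega)
    have hPiso : cyc x u 2 ≤ B.orthogonal (cyc x u 2) := cyc_isotropic B x halt hiso 2 u hu
    have hmon : (X ^ 2 + 1 : F[X]).Monic := by
      have : (X ^ 2 + 1 : F[X]) = X ^ 2 + C 1 := by rw [C_1]
      rw [this]
      exact monic_X_pow_add_C 1 (by norm_num)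
    have hdeg : (X ^ 2 + 1 : F[X]).natDegree = 2 := by
      have : (X ^ 2 + 1 : F[X]) = X ^ 2 + C 1 := by rw [C_1]
      rw [this]
      exact natDegree_X_pow_add_C
    obtain ⟨hPinv, -⟩ := cyc_of_aeval x u (X ^ 2 + 1) hmon 2 hdeg (by
      rw [map_add, map_pow, aeval_X, map_one, LinearMap.add_apply, pow_two, Module.End.mul_apply,
        hx, Module.End.one_apply, neg_add_cancel])
    have hPU : cyc x u 2 ≤ U := cyc_le x u 2 U hU huU
    have huP : u ∈ cyc x u 2 := self_mem_cyc x u 2 (by norm_num)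
    have hPdim : finrank F (cyc x u 2) = 2 := by
      have h1 := finrank_cyc_le x u 2
      obtain ⟨j, hj⟩ := even_of_invariant x hx hns _ hPinv
      have h3 : 0 < finrank F (cyc x u 2) := by
        rw [Module.finrank_pos_iff_exists_ne_zero (R := F)]
        exact ⟨⟨u, huP⟩, fun h => hu0 (congrArg Subtype.val h)⟩
      omega
    obtain ⟨N, hNU, hNO, hNinv, hNnd, hNdim, hPN⟩ :=
      peel_iso B halt x hiso 4 (by norm_num) hx4 h4 U hU hUnd _ hPU hPinv hPiso
    obtain ⟨W', hW'N, hW'dim, hW'iso, hW'inv⟩ := ih N hNinv hNnd (by omega)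
    refine ⟨W' ⊔ cyc x u 2, sup_le (hW'N.trans hNU) hPU, ?_, ?_, ?_⟩
    · have hd : W' ⊓ cyc x u 2 = ⊥ := by
        rw [eq_bot_iff, ← hPN, inf_comm]
        exact inf_le_inf le_rfl hW'N
      have := Submodule.finrank_sup_add_finrank_inf_eq W' (cyc x u 2)
      rw [hd, finrank_bot, add_zero, hW'dim, hPdim] at this
      omega
    · apply iso_sup B halt W' _ hW'iso hPiso
      intro a ha b hb
      rw [alt_swap B halt, (mem_orth B _ a).1 (hNO (hW'N ha)) b hb, neg_zero]
    · exact sup_invariant x W' _ hW'inv hPinv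

end cw2

end Cfsg.Agent.Lib.Helper12.Sp
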