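import Mathlib
import Cfsg.Agent.Lib.Helper12.SpM

set_option autoImplicit false

namespace Cfsg.Agent.Lib.Helper12.Un

open Module Cfsg.Agent.Lib.Helper12.Elus

section basic

variable {K V : Type*} [Field K] [AddCommGroup V] [Module K V] {σ : K →+* K}
  (B : V →ₗ[K] V →ₛₗ[σ] K)

/-- the (right) orthogonal complement of `W`: all `m` with `B n m = 0` for `n ∈ W` -/
def orth (W : Submodule K V) : Submodule K V where
  carrier := {m | ∀ n ∈ W, B n m = 0}
  add_mem' := by
    intro a b ha hb n hn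
    rw [map_add, ha n hn, hb n hn, add_zero]
  zero_mem' := by
    intro n _
    rw [map_zero]
  smul_mem' := by
    intro a m hm n hn
    rw [map_smulₛₗ, hm n hn, smul_zero]

theorem mem_orth (W : Submodule K V) (m : V) : m ∈ orth B W ↔ ∀ n ∈ W, B n m = 0 := Iff.rfl

/-- `B` is nondegenerate on `U` -/
def NdOn (U : Submodule K V) : Prop := ∀ u ∈ U, u ≠ 0 → ∃ v ∈ U, B u v ≠ 0

theorem herm_swap (hsym : ∀ u v, B v u = σ (B u v)) (u v : V) (h : B u v = 0) : B v u = 0 := by
  rw [hsym, h, map_zero]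

theorem orth_mono {W₁ W₂ : Submodule K V} (h : W₁ ≤ W₂) : orth B W₂ ≤ orth B W₁ :=
  fun _ hm n hn => hm n (h hn)

theorem ndOn_bot : NdOn B ⊥ := by
  intro u hu hu0
  exact absurd ((Submodule.mem_bot K).1 hu) hu0

theorem ndOn_iff_disjoint (hsym : ∀ u v, B v u = σ (B u v)) (U : Submodule K V) :
    NdOn B U ↔ Disjoint U (orth B U) := by
  rw [Submodule.disjoint_def]
  constructor
  · intro h u hu hu'
    by_contra hu0
    obtain ⟨v, hv, hne⟩ := h u hu hu0
    exact hne (herm_swap B hsym v u (hu' v hv))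
  · intro h u hu hu0
    by_contra hcon
    push Not at hcon
    apply hu0
    apply h u hu
    intro n hn
    exact herm_swap B hsym u n (hcon n hn)

/-- the evaluation map behind the dimension count -/
theorem exists_evalMap [FiniteDimensional K V] (hσ : ∀ a, σ (σ a) = a)
    (hsym : ∀ u v, B v u = σ (B u v)) (R W : Submodule K V) :
    ∃ Ψ : R →ₗ[K] (Fin (finrank K W) → K),
      finrank K (LinearMap.ker Ψ) = finrank K ↥(R ⊓ orth B W) ∧
      (NdOn B R → W ≤ R → LinearMap.range Ψ = ⊤) := by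
  classical
  set k := finrank K W with hk
  let b : Basis (Fin k) K W := Module.finBasis K W
  -- the evaluation map
  let Ψ : R →ₗ[K] (Fin k → K) :=
    LinearMap.pi (fun i => (B.flip (b i : V)).comp R.subtype)
  have hΨ : ∀ (v : R) i, Ψ v i = B (v : V) (b i : V) := fun v i => rfl
  -- kernel
  have hker : finrank K (LinearMap.ker Ψ) = finrank K ↥(R ⊓ orth B W) := by
    have h1 : (LinearMap.ker Ψ).map R.subtype = R ⊓ orth B W := by
      ext m
      constructor
      · rintro ⟨v, hv, rfl⟩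
        refine ⟨v.2, ?_⟩
        intro n hn
        apply herm_swap B hsym
        have hv' : Ψ v = 0 := hv
        have hn' : (⟨n, hn⟩ : W) ∈ Submodule.span K (Set.range b) := by
          rw [b.span_eq]; exact Submodule.mem_top
        have key : ∀ w : W, w ∈ Submodule.span K (Set.range b) → B (v : V) (w : V) = 0 := by
          intro w hw
          refine Submodule.span_induction ?_ ?_ ?_ ?_ hw
          · rintro _ ⟨i, rfl⟩
            have := congrFun hv' i
            rwa [hΨ] at this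
          · simp
          · intro x z _ _ hx hz
            rw [Submodule.coe_add, map_add, hx, hz, add_zero]
          · intro c x _ hx
            rw [Submodule.coe_smul, map_smulₛₗ, hx, smul_zero]
        exact key ⟨n, hn⟩ hn'
      · rintro ⟨hmR, hmW⟩
        refine ⟨⟨m, hmR⟩, ?_, rfl⟩
        show Ψ ⟨m, hmR⟩ = 0
        funext i
        rw [hΨ]
        exact herm_swap B hsym _ _ (hmW _ (b i).2)
    rw [← h1]
    exact (LinearEquiv.finrank_eq (Submodule.equivMapOfInjective R.subtype
      (Submodule.injective_subtype R) (LinearMap.ker Ψ)))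
  -- surjectivity
  have hsurj : NdOn B R → W ≤ R → LinearMap.range Ψ = ⊤ := by
    intro hR hWR
    by_contra hne
    obtain ⟨f, hf0, hf⟩ := Submodule.exists_le_ker_of_lt_top _ (lt_top_iff_ne_top.2 hne)
    set c : Fin k → K := fun i => f (Pi.single i 1) with hc
    have hfx : ∀ x : Fin k → K, f x = ∑ i, x i * c i := by
      intro x
      have h1 : x = ∑ i, x i • (Pi.single i (1 : K) : Fin k → K) := by
        funext j
        simp [Finset.sum_apply, Pi.single_apply]
      conv_lhs => rw [h1]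
      rw [map_sum]
      apply Finset.sum_congr rfl
      intro i _
      rw [map_smul, smul_eq_mul]
    -- the vector
    set wstar : W := ∑ i, σ (c i) • b i with hw
    have hkey : ∀ v : R, B (v : V) (wstar : V) = 0 := by
      intro v
      have h1 : f (Ψ v) = 0 := by
        have : Ψ v ∈ LinearMap.ker f := hf ⟨v, rfl⟩
        exact this
      rw [hfx] at h1
      rw [hw]
      have h2 : ((∑ i, σ (c i) • b i : W) : V) = ∑ i, σ (c i) • (b i : V) := by
        rw [Submodule.coe_sum]
        rfl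
      rw [h2, map_sum, ← h1]
      apply Finset.sum_congr rfl
      intro i _
      rw [map_smulₛₗ, hσ, hΨ, smul_eq_mul, mul_comm]
    have hw0 : (wstar : V) = 0 := by
      by_contra hne0
      obtain ⟨v, hv, hne1⟩ := hR (wstar : V) (hWR wstar.2) hne0
      exact hne1 (herm_swap B hsym _ _ (hkey ⟨v, hv⟩))
    have hw0' : wstar = 0 := Subtype.ext hw0
    have hc0 : ∀ i, σ (c i) = 0 := by
      intro i
      have := Fintype.linearIndependent_iff.1 b.linearIndependent (fun i => σ (c i)) hw0'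
      exact this i
    apply hf0
    apply LinearMap.ext
    intro x
    rw [hfx, LinearMap.zero_apply]
    apply Finset.sum_eq_zero
    intro i _
    have : c i = 0 := by
      have h := hc0 i
      have h2 := congrArg σ h
      rwa [hσ, map_zero] at h2
    rw [this, mul_zero]
  exact ⟨Ψ, hker, hsurj⟩

theorem finrank_le_inf_orth [FiniteDimensional K V] (hσ : ∀ a, σ (σ a) = a)
    (hsym : ∀ u v, B v u = σ (B u v)) (R W : Submodule K V) :
    finrank K R ≤ finrank K ↥(R ⊓ orth B W) + finrank K W := by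
  obtain ⟨Ψ, hker, -⟩ := exists_evalMap B hσ hsym R W
  have hrn := LinearMap.finrank_range_add_finrank_ker Ψ
  have h1 : finrank K (LinearMap.range Ψ) ≤ finrank K W := by
    have := Submodule.finrank_le (LinearMap.range Ψ)
    rwa [Module.finrank_fin_fun] at this
  omega

/-- the basic dimension count: inside a nondegenerate `R`, `dim (R ∩ W^⊥) + dim W = dim R` -/
theorem finrank_inf_orth' [FiniteDimensional K V] (hσ : ∀ a, σ (σ a) = a)
    (hsym : ∀ u v, B v u = σ (B u v)) (R W : Submodule K V) (hR : NdOn B R) (hWR : W ≤ R) :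
    finrank K ↥(R ⊓ orth B W) + finrank K W = finrank K R := by
  obtain ⟨Ψ, hker, hsurj⟩ := exists_evalMap B hσ hsym R W
  have hrn := LinearMap.finrank_range_add_finrank_ker Ψ
  rw [hsurj hR hWR, finrank_top, Module.finrank_fin_fun, hker] at hrn
  omega

theorem sup_orth_eq_top [FiniteDimensional K V] (hσ : ∀ a, σ (σ a) = a)
    (hsym : ∀ u v, B v u = σ (B u v)) (U : Submodule K V) (hU : NdOn B U) :
    U ⊔ orth B U = ⊤ := by
  apply Submodule.eq_top_of_finrank_eq
  have h1 := finrank_le_inf_orth B hσ hsym ⊤ U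
  rw [top_inf_eq, finrank_top] at h1
  have h2 := Submodule.finrank_sup_add_finrank_inf_eq U (orth B U)
  rw [((ndOn_iff_disjoint B hsym U).1 hU).eq_bot, finrank_bot, add_zero] at h2
  have h3 := Submodule.finrank_le (U ⊔ orth B U)
  omega

theorem ndOn_inf_orth [FiniteDimensional K V] (hσ : ∀ a, σ (σ a) = a)
    (hsym : ∀ u v, B v u = σ (B u v)) (V' U : Submodule K V)
    (hV' : NdOn B V') (hUV : U ≤ V') (hU : NdOn B U) : NdOn B (V' ⊓ orth B U) := by
  intro u hu hu0
  obtain ⟨v, hv, hne⟩ := hV' u hu.1 hu0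
  have hc := sup_orth_eq_top B hσ hsym U hU
  have hv' : v ∈ U ⊔ orth B U := by rw [hc]; exact Submodule.mem_top
  obtain ⟨v₁, hv₁, v₂, hv₂, rfl⟩ := Submodule.mem_sup.1 hv'
  refine ⟨v₂, ⟨?_, hv₂⟩, ?_⟩
  · have : v₂ = (v₁ + v₂) - v₁ := by abel
    rw [this]
    exact Submodule.sub_mem _ hv (hUV hv₁)
  · rw [map_add] at hne
    have h0 : B u v₁ = 0 := herm_swap B hsym _ _ (hu.2 v₁ hv₁)
    rwa [h0, zero_add] at hne

theorem sup_inf_orth [FiniteDimensional K V] (hσ : ∀ a, σ (σ a) = a)
    (hsym : ∀ u v, B v u = σ (B u v)) (V' U : Submodule K V)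
    (hUV : U ≤ V') (hU : NdOn B U) :
    U ⊔ (V' ⊓ orth B U) = V' ∧ Disjoint U (V' ⊓ orth B U) := by
  have hc := sup_orth_eq_top B hσ hsym U hU
  constructor
  · rw [inf_comm, ← sup_inf_assoc_of_le _ hUV, hc, top_inf_eq]
  · exact ((ndOn_iff_disjoint B hsym U).1 hU).mono_right inf_le_right

theorem finrank_inf_orth [FiniteDimensional K V] (hσ : ∀ a, σ (σ a) = a)
    (hsym : ∀ u v, B v u = σ (B u v)) (V' U : Submodule K V)
    (hUV : U ≤ V') (hU : NdOn B U) :
    finrank K U + finrank K ↥(V' ⊓ orth B U) = finrank K V' := by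
  obtain ⟨h1, h2⟩ := sup_inf_orth B hσ hsym V' U hUV hU
  have := Submodule.finrank_sup_add_finrank_inf_eq U (V' ⊓ orth B U)
  rw [h1, h2.eq_bot, finrank_bot, add_zero] at this
  exact this.symm

theorem ndOn_sup (hsym : ∀ u v, B v u = σ (B u v)) (U₁ U₂ : Submodule K V) (h₁ : NdOn B U₁)
    (h₂ : NdOn B U₂) (horth : ∀ a ∈ U₁, ∀ c ∈ U₂, B a c = 0) : NdOn B (U₁ ⊔ U₂) := by
  intro w hw hw0
  obtain ⟨a, ha, c, hc, rfl⟩ := Submodule.mem_sup.1 hw
  by_cases ha0 : a = 0
  · have hc0 : c ≠ 0 := by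
      intro h
      apply hw0
      rw [ha0, h, add_zero]
    obtain ⟨v, hv, hne⟩ := h₂ c hc hc0
    refine ⟨v, (le_sup_right : U₂ ≤ U₁ ⊔ U₂) hv, ?_⟩
    rw [map_add, LinearMap.add_apply, horth a ha v hv, zero_add]
    exact hne
  · obtain ⟨v, hv, hne⟩ := h₁ a ha ha0
    refine ⟨v, (le_sup_left : U₁ ≤ U₁ ⊔ U₂) hv, ?_⟩
    have h0 : B c v = 0 := herm_swap B hsym _ _ (horth v hv c hc)
    rw [map_add, LinearMap.add_apply, h0, add_zero]
    exact hne

theorem ndOn_of_orth_sum (A C V' : Submodule K V) (hAC : A ⊔ C = V')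
    (horth : ∀ a ∈ A, ∀ c ∈ C, B a c = 0) (hV' : NdOn B V') : NdOn B A := by
  intro u hu hu0
  have huV : u ∈ V' := by rw [← hAC]; exact (le_sup_left : A ≤ A ⊔ C) hu
  obtain ⟨v, hv, hne⟩ := hV' u huV hu0
  rw [← hAC] at hv
  obtain ⟨a, ha, c, hc, rfl⟩ := Submodule.mem_sup.1 hv
  refine ⟨a, ha, ?_⟩
  rw [map_add, horth u hu c hc, add_zero] at hne
  exact hne

/-- a totally isotropic subspace of a nondegenerate space has at most half the dimension -/
theorem iso_finrank_le [FiniteDimensional K V] (hσ : ∀ a, σ (σ a) = a)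
    (hsym : ∀ u v, B v u = σ (B u v)) (R W : Submodule K V) (hR : NdOn B R) (hWR : W ≤ R)
    (hW : W ≤ orth B W) : 2 * finrank K W ≤ finrank K R := by
  have h1 := finrank_inf_orth' B hσ hsym R W hR hWR
  have h2 : finrank K W ≤ finrank K ↥(R ⊓ orth B W) := Submodule.finrank_mono (le_inf hWR hW)
  omega

theorem iso_sup (hsym : ∀ u v, B v u = σ (B u v)) (W₁ W₂ : Submodule K V) (h₁ : W₁ ≤ orth B W₁)
    (h₂ : W₂ ≤ orth B W₂) (h₁₂ : ∀ a ∈ W₁, ∀ b ∈ W₂, B a b = 0) :
    W₁ ⊔ W₂ ≤ orth B (W₁ ⊔ W₂) := by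
  intro w hw n hn
  obtain ⟨a, ha, b, hb, rfl⟩ := Submodule.mem_sup.1 hw
  obtain ⟨a', ha', b', hb', rfl⟩ := Submodule.mem_sup.1 hn
  rw [map_add, map_add, LinearMap.add_apply, LinearMap.add_apply,
    h₁ ha a' ha', h₂ hb b' hb', h₁₂ a' ha' b hb,
    herm_swap B hsym _ _ (h₁₂ a ha b' hb')]
  simp

/-- a hyperbolic pair spans a nondegenerate plane -/
theorem ndOn_span_pair (hsym : ∀ u v, B v u = σ (B u v)) (u v : V) (huu : B u u = 0)
    (huv : B u v ≠ 0) :
    NdOn B (Submodule.span K {u, v}) ∧ finrank K (Submodule.span K {u, v}) = 2 := by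
  have hvu : B v u ≠ 0 := fun h => huv (herm_swap B hsym _ _ h)
  constructor
  · intro w hw hw0
    obtain ⟨α, β, rfl⟩ := Submodule.mem_span_pair.1 hw
    by_cases hβ : β = 0
    · have hα : α ≠ 0 := by
        intro h
        apply hw0
        rw [hβ, h, zero_smul, zero_smul, add_zero]
      refine ⟨v, Submodule.subset_span (by simp), ?_⟩
      rw [hβ, zero_smul, add_zero, map_smul, LinearMap.smul_apply, smul_eq_mul]
      exact mul_ne_zero hα huv
    · refine ⟨u, Submodule.subset_span (by simp), ?_⟩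
      rw [map_add, LinearMap.add_apply, map_smul, map_smul, LinearMap.smul_apply,
        LinearMap.smul_apply, huu, smul_zero, zero_add, smul_eq_mul]
      exact mul_ne_zero hβ hvu
  · have hli : LinearIndependent K ![u, v] := by
      rw [LinearIndependent.pair_iff]
      intro s t hst
      have h2 : B (s • u + t • v) u = 0 := by rw [hst, map_zero, LinearMap.zero_apply]
      rw [map_add, LinearMap.add_apply, map_smul, map_smul, LinearMap.smul_apply,
        LinearMap.smul_apply, huu, smul_zero, zero_add, smul_eq_mul] at h2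
      have ht : t = 0 := (mul_eq_zero.1 h2).resolve_right hvu
      have h1 : B (s • u + t • v) v = 0 := by rw [hst, map_zero, LinearMap.zero_apply]
      rw [ht, zero_smul, add_zero, map_smul, LinearMap.smul_apply, smul_eq_mul] at h1
      exact ⟨(mul_eq_zero.1 h1).resolve_right huv, ht⟩
    have h3 := finrank_span_eq_card hli
    rw [Fintype.card_fin] at h3
    have hset : Set.range ![u, v] = {u, v} := by
      ext x
      simp only [Set.mem_range, Set.mem_insert_iff, Set.mem_singleton_iff]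
      constructor
      · rintro ⟨i, rfl⟩
        fin_cases i
        · left; rfl
        · right; rfl
      · rintro (rfl | rfl)
        · exact ⟨0, rfl⟩
        · exact ⟨1, rfl⟩
    rw [hset] at h3
    exact h3

theorem ndOn_span_singleton (u : V) (hu : B u u ≠ 0) : NdOn B (Submodule.span K {u}) := by
  intro w hw hw0
  obtain ⟨c, rfl⟩ := Submodule.mem_span_singleton.1 hw
  refine ⟨u, Submodule.mem_span_singleton_self u, ?_⟩
  rw [map_smul, LinearMap.smul_apply, smul_eq_mul]
  refine mul_ne_zero ?_ hu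
  intro hc
  apply hw0
  rw [hc, zero_smul]

/-- isotropic vectors exist in nondegenerate spaces of dimension at least two, when the norm is
surjective -/
theorem exists_isotropic [FiniteDimensional K V] (hσ : ∀ a, σ (σ a) = a)
    (hsym : ∀ u v, B v u = σ (B u v)) (hN : ∀ c : K, σ c = c → ∃ a : K, a * σ a = c)
    (U : Submodule K V) (hdim : 2 ≤ finrank K U) :
    ∃ w ∈ U, w ≠ 0 ∧ B w w = 0 := by
  have hpos : 0 < finrank K U := by omega
  obtain ⟨⟨u, huU⟩, hu0'⟩ := (Module.finrank_pos_iff_exists_ne_zero (R := K)).1 hpos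
  have hu0 : u ≠ 0 := fun h => hu0' (Subtype.ext h)
  by_cases huu : B u u = 0
  · exact ⟨u, huU, hu0, huu⟩
  have hS := ndOn_span_singleton B u huu
  have hSU : Submodule.span K {u} ≤ U := by
    rw [Submodule.span_le]
    intro x hx
    rw [Set.mem_singleton_iff.1 hx]
    exact huU
  have hdim' := finrank_inf_orth B hσ hsym U _ hSU hS
  rw [finrank_span_singleton hu0] at hdim'
  have hpos' : 0 < finrank K ↥(U ⊓ orth B (Submodule.span K {u})) := by omega
  obtain ⟨⟨v, hvN⟩, hv0'⟩ := (Module.finrank_pos_iff_exists_ne_zero (R := K)).1 hpos'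
  have hv0 : v ≠ 0 := fun h => hv0' (Subtype.ext h)
  have huv : B u v = 0 := hvN.2 u (Submodule.mem_span_singleton_self u)
  have hvu : B v u = 0 := herm_swap B hsym _ _ huv
  by_cases hvv : B v v = 0
  · exact ⟨v, hvN.1, hv0, hvv⟩
  have hfix1 : σ (B u u) = B u u := (hsym u u).symm
  have hfix2 : σ (B v v) = B v v := (hsym v v).symm
  obtain ⟨a, ha⟩ := hN (-(B u u) / B v v) (by rw [map_div₀, map_neg, hfix1, hfix2])
  refine ⟨u + a • v, Submodule.add_mem _ huU (Submodule.smul_mem _ _ hvN.1), ?_, ?_⟩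
  · intro h
    have h1 : B (u + a • v) u = 0 := by rw [h, map_zero, LinearMap.zero_apply]
    rw [map_add, LinearMap.add_apply, map_smul, LinearMap.smul_apply, hvu, smul_zero,
      add_zero] at h1
    exact huu h1
  · have e1 : B (u + a • v) (u + a • v) = B u u + (a * σ a) * B v v := by
      simp only [map_add, LinearMap.add_apply, map_smul, LinearMap.smul_apply, map_smulₛₗ,
        smul_eq_mul, huv, hvu]
      ring
    rw [e1, ha]
    field_simp
    ring

theorem exists_iso_sub [FiniteDimensional K V] (hσ : ∀ a, σ (σ a) = a)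
    (hsym : ∀ u v, B v u = σ (B u v)) (hN : ∀ c : K, σ c = c → ∃ a : K, a * σ a = c) :
    ∀ (j : ℕ) (U : Submodule K V), NdOn B U → 2 * j ≤ finrank K U →
      ∃ W : Submodule K V, W ≤ U ∧ W ≤ orth B W ∧ finrank K W = j := by
  intro j
  induction j with
  | zero =>
    intro U _ _
    exact ⟨⊥, bot_le, bot_le, finrank_bot K V⟩
  | succ j ih =>
    intro U hU hj
    obtain ⟨u, huU, hu0, huu⟩ := exists_isotropic B hσ hsym hN U (by omega)
    obtain ⟨v, hvU, huv⟩ := hU u huU hu0
    obtain ⟨hHnd, hHdim⟩ := ndOn_span_pair B hsym u v huu huv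
    have hHU : Submodule.span K {u, v} ≤ U := by
      rw [Submodule.span_le]
      intro x hx
      rcases hx with rfl | rfl
      · exact huU
      · exact hvU
    have hU'nd := ndOn_inf_orth B hσ hsym U _ hU hHU hHnd
    have hU'dim := finrank_inf_orth B hσ hsym U _ hHU hHnd
    obtain ⟨W', hW'U, hW'iso, hW'dim⟩ := ih _ hU'nd (by omega)
    have huH : u ∈ Submodule.span K {u, v} := Submodule.subset_span (Set.mem_insert u {v})
    have huW' : ∀ w ∈ W', B w u = 0 := by
      intro w hw
      exact herm_swap B hsym _ _ ((hW'U hw).2 u huH)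
    have hspan_iso : Submodule.span K {u} ≤ orth B (Submodule.span K {u}) := by
      intro a ha b hb
      obtain ⟨c₁, rfl⟩ := Submodule.mem_span_singleton.1 ha
      obtain ⟨c₂, rfl⟩ := Submodule.mem_span_singleton.1 hb
      simp only [map_smul, LinearMap.smul_apply, map_smulₛₗ, huu, smul_zero]
    refine ⟨W' ⊔ Submodule.span K {u}, sup_le (hW'U.trans inf_le_left) ?_, ?_, ?_⟩
    · rw [Submodule.span_le]
      intro x hx
      rw [Set.mem_singleton_iff.1 hx]
      exact huU
    · apply iso_sup B hsym _ _ hW'iso hspan_iso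
      intro a ha b hb
      obtain ⟨c, rfl⟩ := Submodule.mem_span_singleton.1 hb
      rw [map_smulₛₗ, huW' a ha, smul_zero]
    · have hdisj : W' ⊓ Submodule.span K {u} = ⊥ := by
        rw [eq_bot_iff]
        have h1 := (ndOn_iff_disjoint B hsym _).1 hHnd
        rw [← h1.eq_bot]
        intro x hx
        refine ⟨?_, (hW'U hx.1).2⟩
        obtain ⟨c, rfl⟩ := Submodule.mem_span_singleton.1 hx.2
        exact Submodule.smul_mem _ _ huH
      have := Submodule.finrank_sup_add_finrank_inf_eq W' (Submodule.span K {u})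
      rw [hdisj, finrank_bot, add_zero, hW'dim, finrank_span_singleton hu0] at this
      exact this

end basic

section iso

variable {K V : Type*} [Field K] [AddCommGroup V] [Module K V] {σ : K →+* K}
  (B : V →ₗ[K] V →ₛₗ[σ] K) (y : V →ₗ[K] V)

theorem iso_pow (hiso : ∀ u v, B (y u) (y v) = B u v) (k : ℕ) (u v : V) :
    B ((y ^ k) u) ((y ^ k) v) = B u v := by
  induction k with
  | zero => simp
  | succ k ih => rw [pow_succ', Module.End.mul_apply, Module.End.mul_apply, hiso, ih]

theorem orth_invariant (hiso : ∀ u v, B (y u) (y v) = B u v) (r : ℕ) (hr : 0 < r)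
    (hy : y ^ r = 1) (U : Submodule K V) (hU : ∀ v ∈ U, y v ∈ U) :
    ∀ v ∈ orth B U, y v ∈ orth B U := by
  intro v hv n hn
  obtain ⟨r₀, rfl⟩ := Nat.exists_eq_succ_of_ne_zero hr.ne'
  have h1 : n = y ((y ^ r₀) n) := by
    rw [← Module.End.mul_apply, ← pow_succ', hy, Module.End.one_apply]
  rw [h1, hiso]
  exact hv _ (Module.End.pow_apply_mem_of_forall_mem r₀ hU n hn)

theorem fix_orth_mov (hiso : ∀ u v, B (y u) (y v) = B u v) (e w : V) (he : e ∈ fixE y)
    (hw : w ∈ movR y) : B e w = 0 := by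
  obtain ⟨x, rfl⟩ := hw
  have he' : y e = e := (mem_fixE y e).1 he
  rw [LinearMap.sub_apply, Module.End.one_apply, map_sub]
  nth_rewrite 1 [← he']
  rw [hiso, sub_self]

theorem ndOn_inf_fix [FiniteDimensional K V]
    (hiso : ∀ u v, B (y u) (y v) = B u v) (r : ℕ) [Fact r.Prime] (hy : y ^ r = 1)
    (hr0 : (r : K) ≠ 0) (V' : Submodule K V) (hV' : ∀ v ∈ V', y v ∈ V') (hnd : NdOn B V') :
    NdOn B (V' ⊓ fixE y) :=
  ndOn_of_orth_sum B _ _ V' (Sp.inv_split y r hy hr0 V' hV')
    (fun a ha c hc => fix_orth_mov B y hiso a c ha.2 hc.2) hnd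

theorem ndOn_inf_mov [FiniteDimensional K V] (hsym : ∀ u v, B v u = σ (B u v))
    (hiso : ∀ u v, B (y u) (y v) = B u v) (r : ℕ) [Fact r.Prime] (hy : y ^ r = 1)
    (hr0 : (r : K) ≠ 0) (V' : Submodule K V) (hV' : ∀ v ∈ V', y v ∈ V') (hnd : NdOn B V') :
    NdOn B (V' ⊓ movR y) :=
  ndOn_of_orth_sum B _ _ V' (by rw [sup_comm]; exact Sp.inv_split y r hy hr0 V' hV')
    (fun a (ha : a ∈ V' ⊓ movR y) c (hc : c ∈ V' ⊓ fixE y) =>
      herm_swap B hsym _ _ (fix_orth_mov B y hiso c a hc.2 ha.2)) hnd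

end iso

end Cfsg.Agent.Lib.Helper12.Un
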