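import Mathlib
import Cfsg.Agent.Lib.Helper12.UnA
import Cfsg.Agent.Lib.Helper12.SpK
import Cfsg.Agent.Lib.Helper15.StarPoly

set_option autoImplicit false

namespace Cfsg.Agent.Lib.Helper12.Un

open Module Polynomial Cfsg.Agent.Lib.Helper12.Elus Cfsg.Agent.Lib.Helper15

section adj

variable {K V : Type*} [Field K] [AddCommGroup V] [Module K V] {σ : K →+* K}
  (B : V →ₗ[K] V →ₛₗ[σ] K) (y : V →ₗ[K] V) (r : ℕ) [Fact r.Prime]

theorem adjoint_aeval (hσ : ∀ a, σ (σ a) = a) (hiso : ∀ u v, B (y u) (y v) = B u v)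
    (hy : y ^ r = 1) (P : K[X]) (a b : V) :
    B (aeval y P a) b = B a (aeval (y ^ (r - 1)) (P.map σ) b) := by
  induction P using Polynomial.induction_on' with
  | add p q hp hq =>
    rw [map_add, Polynomial.map_add, map_add, LinearMap.add_apply, LinearMap.add_apply, map_add,
      LinearMap.add_apply, map_add, hp, hq]
  | monomial n c =>
    rw [Polynomial.map_monomial, ← C_mul_X_pow_eq_monomial, ← C_mul_X_pow_eq_monomial, map_mul,
      map_mul, aeval_C, aeval_C, map_pow, map_pow, aeval_X,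
      aeval_X, Module.End.mul_apply, Module.End.mul_apply, Module.algebraMap_end_apply,
      Module.algebraMap_end_apply, map_smul, map_smulₛₗ, LinearMap.smul_apply, hσ]
    congr 1
    have h1 : b = (y ^ n) (((y ^ (r - 1)) ^ n) b) := by
      have hr : 0 < r := (Fact.out : r.Prime).pos
      have h2 : n + (r - 1) * n = r * n := by
        obtain ⟨r₀, rfl⟩ := Nat.exists_eq_succ_of_ne_zero hr.ne'
        rw [Nat.succ_sub_one, Nat.succ_mul]; ring
      rw [← Module.End.mul_apply, ← pow_mul, ← pow_add, h2, pow_mul, hy, one_pow,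
        Module.End.one_apply]
    conv_lhs => rw [h1]
    exact iso_pow B y hiso n _ _

/-- Frobenius on polynomials in an endomorphism -/
theorem pow_q_aeval {p : ℕ} [Fact p.Prime] [CharP K p] (e : ℕ) (hσe : ∀ c, σ c = c ^ (p ^ e))
    (f : V →ₗ[K] V) (P : K[X]) : (aeval f P) ^ (p ^ e) = aeval (f ^ (p ^ e)) (P.map σ) := by
  have hσ' : σ = iterateFrobenius K p e := by
    ext c
    rw [hσe, iterateFrobenius_def]
  rw [← expand_aeval, ← map_pow, ← map_iterateFrobenius_expand p P e, map_expand, hσ']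

end adj

section stardual

variable {K V : Type*} [Field K] [AddCommGroup V] [Module K V] {σ : K →+* K}
  (B : V →ₗ[K] V →ₛₗ[σ] K) (y : V →ₗ[K] V) (r : ℕ) [Fact r.Prime]

/-- the twisted reciprocal polynomial evaluated at `y`, in terms of `y⁻¹ = y^(r-1)` -/
theorem aeval_star (hy : y ^ r = 1) (h : K[X]) (h0 : h.coeff 0 ≠ 0) (w : V) :
    aeval y (StarPoly.star σ h) w =
      (σ (h.coeff 0))⁻¹ • (y ^ h.natDegree) (aeval (y ^ (r - 1)) (h.map σ) w) := by
  have hr : 0 < r := (Fact.out : r.Prime).pos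
  set N := h.natDegree with hN
  have hdeg1 : (StarPoly.star σ h).natDegree = N := StarPoly.natDegree_star σ h h0
  have hdeg2 : (h.map σ).natDegree = N := Polynomial.natDegree_map σ
  rw [aeval_eq_sum_range, aeval_eq_sum_range, hdeg1, hdeg2, LinearMap.sum_apply,
    LinearMap.sum_apply, map_sum, Finset.smul_sum, ← Finset.sum_range_reflect]
  apply Finset.sum_congr rfl
  intro j hj
  have hjN : j ≤ N := by
    have := Finset.mem_range.1 hj
    omega
  have e1 : N + 1 - 1 - j = N - j := by omega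
  rw [e1, LinearMap.smul_apply, LinearMap.smul_apply, map_smul, smul_smul,
    StarPoly.coeff_star σ h (N - j) (Nat.sub_le _ _), ← hN, Nat.sub_sub_self hjN, coeff_map]
  congr 1
  have h2 : j + (r - 1) * j = r * j := by
    obtain ⟨r₀, rfl⟩ := Nat.exists_eq_succ_of_ne_zero hr.ne'
    rw [Nat.succ_sub_one, Nat.succ_mul]; ring
  rw [← Module.End.mul_apply, ← pow_mul]
  have h3 : y ^ N = y ^ (N - j) * y ^ j := by rw [← pow_add, Nat.sub_add_cancel hjN]
  rw [h3, mul_assoc, ← pow_add, h2, pow_mul, hy, one_pow, mul_one]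

/-- a nondegenerate invariant subspace killed by an irreducible `h` forces `h` to be self-dual -/
theorem star_eq_of_nd (hσ : ∀ a, σ (σ a) = a) (hsym : ∀ u v, B v u = σ (B u v))
    (hiso : ∀ u v, B (y u) (y v) = B u v) (hy : y ^ r = 1)
    (W : Submodule K V) (hW : ∀ u ∈ W, y u ∈ W) (hW0 : W ≠ ⊥) (hWnd : NdOn B W)
    (h : K[X]) (hm : h.Monic) (hirr : Irreducible h) (h0 : h.coeff 0 ≠ 0)
    (hkill : ∀ w ∈ W, aeval y h w = 0) : StarPoly.star σ h = h := by
  have hpinv : ∀ u ∈ W, (y ^ (r - 1)) u ∈ W :=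
    fun u hu => Module.End.pow_apply_mem_of_forall_mem (r - 1) hW u hu
  -- the adjoint kills W
  have h1 : ∀ w ∈ W, aeval (y ^ (r - 1)) (h.map σ) w = 0 := by
    intro w hw
    by_contra hne
    have hmem : aeval (y ^ (r - 1)) (h.map σ) w ∈ W :=
      aeval_mem_of_invariant (y ^ (r - 1)) W hpinv _ w hw
    obtain ⟨v, hv, hvne⟩ := hWnd _ hmem hne
    apply hvne
    apply herm_swap B hsym
    rw [← adjoint_aeval B y r hσ hiso hy, hkill v hv, map_zero, LinearMap.zero_apply]
  have h2 : ∀ w ∈ W, aeval y (StarPoly.star σ h) w = 0 := by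
    intro w hw
    rw [aeval_star y r hy h h0, h1 w hw, map_zero, smul_zero]
  by_contra hne
  have hirr' := StarPoly.irreducible_star σ hσ h hm h0 hirr
  have hm' := StarPoly.monic_star σ h h0
  have hcop : IsCoprime h (StarPoly.star σ h) := by
    rw [Irreducible.coprime_iff_not_dvd hirr]
    intro hd
    obtain ⟨u, hu⟩ := (hirr.associated_of_dvd hirr' hd)
    apply hne
    have := Polynomial.eq_of_monic_of_associated hm hm' ⟨u, hu⟩
    exact this.symm
  obtain ⟨a, b, hab⟩ := hcop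
  apply hW0
  rw [eq_bot_iff]
  intro w hw
  have h3 : w = aeval y (a * h + b * StarPoly.star σ h) w := by
    rw [hab, map_one, Module.End.one_apply]
  rw [map_add, LinearMap.add_apply, map_mul, map_mul, Module.End.mul_apply, Module.End.mul_apply,
    hkill w hw, h2 w hw, map_zero, map_zero, add_zero] at h3
  rw [h3]
  exact zero_mem _

end stardual

section selfdual

variable {K V : Type*} [Field K] [Fintype K] [AddCommGroup V] [Module K V]
  [FiniteDimensional K V] {p : ℕ} [Fact p.Prime] [CharP K p] {σ : K →+* K}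
  (B : V →ₗ[K] V →ₛₗ[σ] K) (y : V →ₗ[K] V) (r : ℕ) [Fact r.Prime]

omit [FiniteDimensional K V] in
/-- in the self-dual case the adjoint of a polynomial in `y` is a power of it -/
theorem adjoint_pow (hσ : ∀ a, σ (σ a) = a) (e : ℕ) (hσe : ∀ c, σ c = c ^ (p ^ e))
    (hK : Fintype.card K = (p ^ e) ^ 2) (hiso : ∀ u v, B (y u) (y v) = B u v) (hy : y ^ r = 1)
    (j : ℕ) (hm : r ∣ (p ^ e) ^ (2 * j + 1) + 1) (P : K[X]) (a b : V) :
    B (aeval y P a) b = B a (((aeval y P) ^ ((p ^ e) ^ (2 * j + 1))) b) := by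
  have hr : 0 < r := (Fact.out : r.Prime).pos
  obtain ⟨k, hk⟩ := hm
  have h1 : y ^ (r - 1) = y ^ ((p ^ e) ^ (2 * j + 1)) := by
    have h2 : y ^ ((p ^ e) ^ (2 * j + 1) + 1) = 1 := by rw [hk, pow_mul, hy, one_pow]
    have h3 : r - 1 + ((p ^ e) ^ (2 * j + 1) + 1) = r + (p ^ e) ^ (2 * j + 1) := by omega
    calc y ^ (r - 1) = y ^ (r - 1) * y ^ ((p ^ e) ^ (2 * j + 1) + 1) := by rw [h2, mul_one]
      _ = y ^ r * y ^ ((p ^ e) ^ (2 * j + 1)) := by rw [← pow_add, h3, pow_add]
      _ = y ^ ((p ^ e) ^ (2 * j + 1)) := by rw [hy, one_mul]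
  have h4 : (p ^ e) ^ (2 * j + 1) = Fintype.card K ^ j * p ^ e := by
    rw [hK]
    ring
  rw [adjoint_aeval B y r hσ hiso hy, h1, h4, pow_mul, ← pow_q_aeval e hσe,
    Sp.aeval_pow_card_pow, ← pow_mul]

omit [Fintype K] [Fact p.Prime] [CharP K p] in
/-- an invariant totally isotropic subspace splits along fixed and moved parts -/
theorem iso_inv_split (hσ : ∀ a, σ (σ a) = a) (hsym : ∀ u v, B v u = σ (B u v))
    (hnd : ∀ x, (∀ z, B x z = 0) → x = 0)
    (hiso : ∀ u v, B (y u) (y v) = B u v) (hy : y ^ r = 1) (hr0 : (r : K) ≠ 0)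
    (W : Submodule K V) (hW : ∀ u ∈ W, y u ∈ W) (hWiso : W ≤ orth B W) :
    finrank K W = finrank K ↥(W ⊓ fixE y) + finrank K ↥(W ⊓ movR y) ∧
      2 * finrank K ↥(W ⊓ fixE y) ≤ finrank K (fixE y) ∧
      2 * finrank K ↥(W ⊓ movR y) ≤ finrank K (movR y) := by
  have htop : NdOn B (⊤ : Submodule K V) := by
    intro u _ hu0
    by_contra hcon
    push Not at hcon
    exact hu0 (hnd u (fun z => hcon z Submodule.mem_top))
  have htinv : ∀ v ∈ (⊤ : Submodule K V), y v ∈ (⊤ : Submodule K V) := fun _ _ => Submodule.mem_top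
  have hEnd : NdOn B (fixE y) := by
    have := ndOn_inf_fix B y hiso r hy hr0 ⊤ htinv htop
    rwa [top_inf_eq] at this
  have hMnd : NdOn B (movR y) := by
    have := ndOn_inf_mov B y hsym hiso r hy hr0 ⊤ htinv htop
    rwa [top_inf_eq] at this
  refine ⟨?_, ?_, ?_⟩
  · have hsplit := Sp.inv_split y r hy hr0 W hW
    have hdisj : (W ⊓ fixE y) ⊓ (W ⊓ movR y) = ⊥ := by
      rw [eq_bot_iff, ← fix_inf_mov y r hy hr0]
      exact inf_le_inf inf_le_right inf_le_right
    have := Submodule.finrank_sup_add_finrank_inf_eq (W ⊓ fixE y) (W ⊓ movR y)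
    rw [hsplit, hdisj, finrank_bot, add_zero] at this
    exact this
  · exact iso_finrank_le B hσ hsym (fixE y) (W ⊓ fixE y) hEnd inf_le_right
      (fun w hw n hn => hWiso hw.1 n hn.1)
  · exact iso_finrank_le B hσ hsym (movR y) (W ⊓ movR y) hMnd inf_le_right
      (fun w hw n hn => hWiso hw.1 n hn.1)

omit [Fact p.Prime] [CharP K p] in
theorem iso_inv_mod (hσ : ∀ a, σ (σ a) = a) (hsym : ∀ u v, B v u = σ (B u v))
    (hnd : ∀ x, (∀ z, B x z = 0) → x = 0)
    (hiso : ∀ u v, B (y u) (y v) = B u v) (hy : y ^ r = 1) (hr0 : (r : K) ≠ 0)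
    (W : Submodule K V) (hW : ∀ u ∈ W, y u ∈ W) (hWiso : W ≤ orth B W) :
    2 * (finrank K W % orderOf (Fintype.card K : ZMod r)) ≤ finrank K (fixE y) := by
  obtain ⟨h1, h2, -⟩ := iso_inv_split B y r hσ hsym hnd hiso hy hr0 W hW hWiso
  obtain ⟨k, hk⟩ := orderOf_dvd_finrank_of_le_movR y r hy hr0 _
      (Sp.inf_invariant y _ _ hW (movR_invariant y)) (inf_le_right : W ⊓ movR y ≤ movR y)
  have h3 : finrank K W % orderOf (Fintype.card K : ZMod r) =
      finrank K ↥(W ⊓ fixE y) % orderOf (Fintype.card K : ZMod r) := by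
    rw [h1, hk]
    exact Nat.add_mul_mod_self_left _ _ _
  have h4 := Nat.mod_le (finrank K ↥(W ⊓ fixE y)) (orderOf (Fintype.card K : ZMod r))
  omega

omit [FiniteDimensional K V] in
/-- kernels of self-dual coprime factors are nondegenerate -/
theorem ndOn_ker (hσ : ∀ a, σ (σ a) = a) (e : ℕ) (hσe : ∀ c, σ c = c ^ (p ^ e))
    (hK : Fintype.card K = (p ^ e) ^ 2)
    (hnd : ∀ x, (∀ z, B x z = 0) → x = 0)
    (hiso : ∀ u v, B (y u) (y v) = B u v) (hy : y ^ r = 1) (j : ℕ)
    (hm : r ∣ (p ^ e) ^ (2 * j + 1) + 1) (h g : K[X]) (hcop : IsCoprime h g)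
    (hkill : aeval y (h * g) = 0) : NdOn B (LinearMap.ker (aeval y h)) := by
  obtain ⟨a, b, hab⟩ := id hcop
  have horth : ∀ u ∈ LinearMap.ker (aeval y h), ∀ v ∈ LinearMap.ker (aeval y g), B u v = 0 := by
    intro u hu v hv
    rw [LinearMap.mem_ker] at hu hv
    have hv1 : aeval y (a * h) v = v := by
      have h1 : v = aeval y (a * h + b * g) v := by rw [hab, map_one, Module.End.one_apply]
      rw [map_add, LinearMap.add_apply] at h1
      have h2 : aeval y (b * g) v = 0 := by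
        rw [map_mul, Module.End.mul_apply, hv, map_zero]
      rw [h2, add_zero] at h1
      exact h1.symm
    have hpow : ∀ n : ℕ, ((aeval y (a * h)) ^ n) v = v := by
      intro n
      induction n with
      | zero => rw [pow_zero, Module.End.one_apply]
      | succ n ih => rw [pow_succ, Module.End.mul_apply, hv1, ih]
    have h3 := adjoint_pow B y r hσ e hσe hK hiso hy j hm (a * h) u v
    rw [hpow] at h3
    rw [← h3, map_mul, Module.End.mul_apply, hu, map_zero, map_zero, LinearMap.zero_apply]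
  intro u hu hu0
  have h1 : ¬ ∀ z, B u z = 0 := fun hall => hu0 (hnd u hall)
  push Not at h1
  obtain ⟨w, hw⟩ := h1
  have hsplit := Sp.split_coprime y ⊤ (fun _ _ => Submodule.mem_top) h g hcop
    (fun u _ => by rw [hkill, LinearMap.zero_apply])
  have hw' := hsplit (Submodule.mem_top : w ∈ ⊤)
  obtain ⟨w₁, hw₁, w₂, hw₂, rfl⟩ := Submodule.mem_sup.1 hw'
  refine ⟨w₁, hw₁.2, ?_⟩
  rw [map_add, horth u hu w₂ hw₂.2, add_zero] at hw
  exact hw

/-- if all the kernels of the irreducible factors have dimension `≤ b` (self-dual case) then the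
moved space has no nonzero invariant totally isotropic subspace -/
theorem no_iso_in_mov (hσ : ∀ a, σ (σ a) = a) (hsym : ∀ u v, B v u = σ (B u v))
    (e : ℕ) (hσe : ∀ c, σ c = c ^ (p ^ e)) (hK : Fintype.card K = (p ^ e) ^ 2)
    (hnd : ∀ x, (∀ z, B x z = 0) → x = 0)
    (hiso : ∀ u v, B (y u) (y v) = B u v) (hrp : r ≠ p) (hy : y ^ r = 1)
    (j : ℕ) (hm : r ∣ (p ^ e) ^ (2 * j + 1) + 1) {t : ℕ} (h : Option (Fin t) → K[X])
    (hnone : h none = X - 1) (hprod : ∏ o, h o = X ^ r - 1)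
    (hcop : ∀ o o', o ≠ o' → IsCoprime (h o) (h o'))
    (hker : ∀ j : Fin t, finrank K (LinearMap.ker (aeval y (h (some j)))) ≤
      orderOf (Fintype.card K : ZMod r))
    (W : Submodule K V) (hWR : W ≤ movR y) (hW : ∀ u ∈ W, y u ∈ W)
    (hWiso : W ≤ orth B W) : W = ⊥ := by
  classical
  have hr : r.Prime := Fact.out
  have hr0 : (r : K) ≠ 0 := by
    rw [Ne, CharP.cast_eq_zero_iff K p]
    intro hd
    exact hrp ((Nat.prime_dvd_prime_iff_eq Fact.out Fact.out).1 hd).symm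
  set i₀ := orderOf (Fintype.card K : ZMod r) with hi₀
  have hipos : 0 < i₀ := orderOf_card_pos r hrp
  have hyall : aeval y (X ^ r - 1 : K[X]) = 0 := by
    rw [map_sub, map_pow, aeval_X, map_one, hy, sub_self]
  have hkill : ∀ u ∈ W, aeval y (∏ j ∈ (Finset.univ : Finset (Fin t)), h (some j)) u = 0 := by
    intro u hu
    obtain ⟨w, rfl⟩ := hWR hu
    have h1 : (y - 1) w = aeval y (h none) w := by
      rw [hnone, map_sub, aeval_X, map_one]
    rw [h1, ← Module.End.mul_apply, ← map_mul]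
    have h2 : (∏ j : Fin t, h (some j)) * h none = X ^ r - 1 := by
      rw [← hprod, Fintype.prod_option, mul_comm]
    rw [h2, hyall, LinearMap.zero_apply]
  have hmain := Sp.finrank_le_of_family y (fun j : Fin t => h (some j)) 0 W (by
    intro j' N' hN'inv hN'W hN'h
    by_contra hpos
    have hN'0 : N' ≠ ⊥ := by
      intro h0
      apply hpos
      rw [h0, finrank_bot]
    have hN'K : N' ≤ LinearMap.ker (aeval y (h (some j'))) := fun u hu =>
      LinearMap.mem_ker.2 (hN'h u hu)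
    have hle : finrank K N' ≤ i₀ := (Submodule.finrank_mono hN'K).trans (hker j')
    have hdim : finrank K N' = i₀ :=
      Sp.finrank_eq_of_le y r hy hr0 N' hN'inv (hN'W.trans hWR) hN'0 hle
    have hEq : N' = LinearMap.ker (aeval y (h (some j'))) :=
      Submodule.eq_of_le_of_finrank_le hN'K (by rw [hdim]; exact hker j')
    -- the kernel is nondegenerate
    have hKnd : NdOn B (LinearMap.ker (aeval y (h (some j')))) := by
      apply ndOn_ker B y r hσ e hσe hK hnd hiso hy j hm (h (some j'))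
        (∏ o ∈ Finset.univ.erase (some j'), h o)
      · apply IsCoprime.prod_right
        intro o ho
        exact hcop (some j') o (Finset.ne_of_mem_erase ho).symm
      · rw [Finset.mul_prod_erase Finset.univ h (Finset.mem_univ _), hprod, hyall]
    have hdisj := (ndOn_iff_disjoint B hsym _).1 hKnd
    have hiso' : N' ≤ orth B N' := fun w hw n hn => hWiso (hN'W hw) n (hN'W hn)
    rw [← hEq] at hdisj
    have : N' ≤ N' ⊓ orth B N' := le_inf le_rfl hiso'
    rw [hdisj.eq_bot] at this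
    exact hN'0 (le_bot_iff.1 this)) Finset.univ (by
    intro j₁ _ j₂ _ hne
    exact hcop (some j₁) (some j₂) (fun h' => hne (Option.some_injective _ h'))) W hW le_rfl hkill
  rw [zero_mul, Nat.le_zero] at hmain
  exact Submodule.finrank_eq_zero.1 hmain

end selfdual

section peel

variable {K V : Type*} [Field K] [AddCommGroup V] [Module K V] [FiniteDimensional K V]
  {σ : K →+* K}

/-- invariant totally isotropic subspaces of `R` -/
def IsoInv (B : V →ₗ[K] V →ₛₗ[σ] K) (y : V →ₗ[K] V) (R W : Submodule K V) : Prop :=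
  W ≤ R ∧ (∀ u ∈ W, y u ∈ W) ∧ W ≤ orth B W

omit [FiniteDimensional K V] in
theorem isoInv_bot (B : V →ₗ[K] V →ₛₗ[σ] K) (y : V →ₗ[K] V) (R : Submodule K V) :
    IsoInv B y R ⊥ :=
  ⟨bot_le, fun u hu => by rw [(Submodule.mem_bot K).1 hu, map_zero]; exact zero_mem _, bot_le⟩

/-- an invariant nondegenerate complement to `W` inside `W^⊥ ∩ R`, for `W` totally isotropic -/
theorem peel_iso (B : V →ₗ[K] V →ₛₗ[σ] K) (hσ : ∀ a, σ (σ a) = a)
    (hsym : ∀ u v, B v u = σ (B u v)) (y : V →ₗ[K] V)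
    (hiso : ∀ u v, B (y u) (y v) = B u v) (r : ℕ) (hr : 0 < r) (hy : y ^ r = 1)
    (hr0 : (r : K) ≠ 0)
    (R : Submodule K V) (hR : ∀ u ∈ R, y u ∈ R) (hRnd : NdOn B R)
    (W : Submodule K V) (hWR : W ≤ R) (hWinv : ∀ u ∈ W, y u ∈ W) (hWiso : W ≤ orth B W) :
    ∃ N : Submodule K V, N ≤ R ∧ N ≤ orth B W ∧ (∀ u ∈ N, y u ∈ N) ∧ NdOn B N ∧
      2 * finrank K W + finrank K N = finrank K R ∧ W ⊓ N = ⊥ := by
  have hOinv := orth_invariant B y hiso r hr hy W hWinv
  have hPinv : ∀ u ∈ R ⊓ orth B W, y u ∈ R ⊓ orth B W :=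
    Sp.inf_invariant y _ _ hR hOinv
  have hPdim : finrank K ↥(R ⊓ orth B W) + finrank K W = finrank K R :=
    finrank_inf_orth' B hσ hsym R W hRnd hWR
  have hWP : W ≤ R ⊓ orth B W := le_inf hWR hWiso
  obtain ⟨C, hC, hCinv⟩ := exists_invariant_compl y r hr0 1 one_ne_zero
    (by rw [hy, one_smul]) W hWinv
  have hNinv : ∀ u ∈ C ⊓ (R ⊓ orth B W), y u ∈ C ⊓ (R ⊓ orth B W) :=
    Sp.inf_invariant y _ _ hCinv hPinv
  have hsup : W ⊔ (C ⊓ (R ⊓ orth B W)) = R ⊓ orth B W := by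
    rw [← sup_inf_assoc_of_le C hWP, hC.sup_eq_top, top_inf_eq]
  have hinf : W ⊓ (C ⊓ (R ⊓ orth B W)) = ⊥ := by
    rw [eq_bot_iff, ← hC.inf_eq_bot]
    exact inf_le_inf le_rfl inf_le_left
  have hNdim : finrank K W + finrank K ↥(C ⊓ (R ⊓ orth B W)) =
      finrank K ↥(R ⊓ orth B W) := by
    have := Submodule.finrank_sup_add_finrank_inf_eq W (C ⊓ (R ⊓ orth B W))
    rw [hsup, hinf, finrank_bot, add_zero] at this
    exact this.symm
  have hdd : R ⊓ orth B (R ⊓ orth B W) = W := by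
    symm
    apply Submodule.eq_of_le_of_finrank_le
    · refine le_inf hWR ?_
      intro w hw n hn
      exact herm_swap B hsym _ _ (hn.2 w hw)
    · have := finrank_inf_orth' B hσ hsym R (R ⊓ orth B W) hRnd inf_le_left
      omega
  refine ⟨C ⊓ (R ⊓ orth B W), inf_le_right.trans inf_le_left,
    inf_le_right.trans inf_le_right, hNinv, ?_, by omega, hinf⟩
  intro u hu hu0
  by_contra hcon
  push Not at hcon
  apply hu0
  have h1 : u ∈ R ⊓ orth B (R ⊓ orth B W) := by
    refine ⟨hu.2.1, ?_⟩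
    intro n hn
    rw [← hsup] at hn
    obtain ⟨w, hw, n', hn', rfl⟩ := Submodule.mem_sup.1 hn
    rw [map_add, LinearMap.add_apply, hu.2.2 w hw, zero_add]
    exact herm_swap B hsym _ _ (hcon n' hn')
  rw [hdd] at h1
  have h2 : u ∈ W ⊓ (C ⊓ (R ⊓ orth B W)) := ⟨h1, hu⟩
  rw [hinf] at h2
  exact (Submodule.mem_bot K).1 h2

/-- peeling a maximal invariant totally isotropic subspace: the complement is anisotropic -/
theorem exists_max_iso (B : V →ₗ[K] V →ₛₗ[σ] K) (hσ : ∀ a, σ (σ a) = a)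
    (hsym : ∀ u v, B v u = σ (B u v)) (y : V →ₗ[K] V)
    (hiso : ∀ u v, B (y u) (y v) = B u v) (r : ℕ) (hr : 0 < r) (hy : y ^ r = 1)
    (hr0 : (r : K) ≠ 0)
    (R : Submodule K V) (hR : ∀ u ∈ R, y u ∈ R) (hRnd : NdOn B R) :
    ∃ W N : Submodule K V, IsoInv B y R W ∧ N ≤ R ∧ (∀ u ∈ N, y u ∈ N) ∧ NdOn B N ∧
      2 * finrank K W + finrank K N = finrank K R ∧
      (∀ W' : Submodule K V, W' ≤ N → (∀ u ∈ W', y u ∈ W') → W' ≤ orth B W' → W' = ⊥) := by
  classical
  have hex : ∃ k, k ≤ finrank K V ∧ ∃ W, IsoInv B y R W ∧ finrank K W = k :=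
    ⟨0, Nat.zero_le _, ⊥, isoInv_bot B y R, finrank_bot K V⟩
  set k₀ := Nat.findGreatest (fun k => ∃ W, IsoInv B y R W ∧ finrank K W = k) (finrank K V)
    with hk₀
  have hspec : ∃ W, IsoInv B y R W ∧ finrank K W = k₀ := by
    obtain ⟨k, hk, hW⟩ := hex
    exact Nat.findGreatest_spec (P := fun k => ∃ W, IsoInv B y R W ∧ finrank K W = k) hk hW
  have hmax : ∀ W, IsoInv B y R W → finrank K W ≤ k₀ := by
    intro W hW
    exact Nat.le_findGreatest (P := fun k => ∃ W, IsoInv B y R W ∧ finrank K W = k)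
      (Submodule.finrank_le W) ⟨W, hW, rfl⟩
  obtain ⟨W, ⟨hWR, hWinv, hWiso⟩, hWdim⟩ := hspec
  obtain ⟨N, hNR, hNO, hNinv, hNnd, hNdim, hinf⟩ :=
    peel_iso B hσ hsym y hiso r hr hy hr0 R hR hRnd W hWR hWinv hWiso
  refine ⟨W, N, ⟨hWR, hWinv, hWiso⟩, hNR, hNinv, hNnd, hNdim, ?_⟩
  intro W' hW'N hW'inv hW'iso
  by_contra hW'0
  have hbig : IsoInv B y R (W ⊔ W') := by
    refine ⟨sup_le hWR (hW'N.trans hNR), sup_invariant y W W' hWinv hW'inv, ?_⟩
    apply iso_sup B hsym W W' hWiso hW'iso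
    intro a ha b hb
    exact hNO (hW'N hb) a ha
  have h1 := hmax _ hbig
  have hd : W ⊓ W' = ⊥ := by
    rw [eq_bot_iff, ← hinf]
    exact inf_le_inf le_rfl hW'N
  have h2 := Submodule.finrank_sup_add_finrank_inf_eq W W'
  rw [hd, finrank_bot, add_zero] at h2
  have h3 : 0 < finrank K W' := by
    rw [Nat.pos_iff_ne_zero]
    intro h0
    exact hW'0 (Submodule.finrank_eq_zero.1 h0)
  omega

end peel

end Cfsg.Agent.Lib.Helper12.Un
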