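import Mathlib
import Cfsg.Agent.Lib.Helper12.UnB

set_option autoImplicit false

namespace Cfsg.Agent.Lib.Helper12.Un

open Module Polynomial Cfsg.Agent.Lib.Helper12.Elus Cfsg.Agent.Lib.Helper15

section cw

variable {F V : Type*} [Field F] [Fintype F] [AddCommGroup V] [Module F V]
  [FiniteDimensional F V]

/-- Chevalley–Warning for a family of bilinear forms indexed by a finite type -/
theorem exists_common_isotropic' {p : ℕ} [Fact p.Prime] [CharP F p] {ι : Type*} [Fintype ι]
    (β : ι → LinearMap.BilinForm F V) (hdim : 2 * Fintype.card ι < finrank F V) :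
    ∃ u : V, u ≠ 0 ∧ ∀ k, β k u u = 0 := by
  obtain ⟨u, hu0, hu⟩ := Sp.exists_common_isotropic (F := F) (V := V) (p := p) (Fintype.card ι)
    (fun k => β ((Fintype.equivFin ι).symm k)) hdim
  refine ⟨u, hu0, fun k => ?_⟩
  have := hu (Fintype.equivFin ι k)
  rwa [Equiv.symm_apply_apply] at this

end cw

section herm

variable {K V : Type*} [Field K] [Fintype K] [AddCommGroup V] [Module K V]
  [FiniteDimensional K V] {σ : K →+* K}
  (B : V →ₗ[K] V →ₛₗ[σ] K)

/-- the form `(u, v) ↦ B (T u) v` as a bilinear map over the fixed field -/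
noncomputable def formK (k : Subfield K) (hkσ : ∀ c ∈ k, σ c = c) (M : Submodule K V)
    (T : V →ₗ[K] V) : ↥M →ₗ[↥k] ↥M →ₗ[↥k] K :=
  LinearMap.mk₂ ↥k (fun u v => B (T (u : V)) (v : V))
    (fun u u' v => by
      rw [Submodule.coe_add, map_add, map_add, LinearMap.add_apply])
    (fun c u v => by
      have h1 : ((c • u : ↥M) : V) = (c : K) • (u : V) := rfl
      rw [h1, map_smul, map_smul, LinearMap.smul_apply]
      rfl)
    (fun u v v' => by
      rw [Submodule.coe_add, map_add])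
    (fun c u v => by
      have h1 : ((c • v : ↥M) : V) = (c : K) • (v : V) := rfl
      rw [h1, map_smulₛₗ, hkσ c c.2]
      rfl)

omit [Fintype K] [FiniteDimensional K V] in
theorem formK_apply (k : Subfield K) (hkσ : ∀ c ∈ k, σ c = c) (M : Submodule K V)
    (T : V →ₗ[K] V) (u v : ↥M) : formK B k hkσ M T u v = B (T (u : V)) (v : V) := rfl

/-- a subspace of dimension `> 2s+1` contains a nonzero `u` with `B(y^j u, u) = 0`, `j ≤ s` -/
theorem exists_iso_vec (p : ℕ) [Fact p.Prime] [CharP K p]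
    (hsym : ∀ u v, B v u = σ (B u v)) (k : Subfield K)
    (hk2 : finrank ↥k K = 2) (hkσ : ∀ c, σ c = c ↔ c ∈ k) (y : V →ₗ[K] V)
    (M : Submodule K V) (s : ℕ) (hdim : 2 * s + 1 < finrank K M) :
    ∃ u ∈ M, u ≠ 0 ∧ ∀ j, j ≤ s → B ((y ^ j) u) u = 0 := by
  classical
  have hkσ' : ∀ c ∈ k, σ c = c := fun c hc => (hkσ c).2 hc
  haveI : FiniteDimensional ↥k ↥M := FiniteDimensional.trans ↥k K ↥M
  have hfin : finrank ↥k ↥M = 2 * finrank K M := by
    rw [← Module.finrank_mul_finrank ↥k K ↥M, hk2]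
  let bas : Basis (Fin (finrank ↥k K)) ↥k K := Module.finBasis ↥k K
  -- a coordinate not vanishing at 1
  obtain ⟨i₀, hi₀⟩ : ∃ i₀, bas.repr (1 : K) i₀ ≠ 0 := by
    by_contra hcon
    push Not at hcon
    have : bas.repr (1 : K) = 0 := Finsupp.ext hcon
    rw [LinearEquiv.map_eq_zero_iff] at this
    exact one_ne_zero this
  let β : Option (Fin s × Fin (finrank ↥k K)) → LinearMap.BilinForm ↥k ↥M := fun o =>
    match o with
    | none => (formK B k hkσ' M 1).compr₂ (bas.coord i₀)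
    | some (j, a) => (formK B k hkσ' M (y ^ ((j : ℕ) + 1))).compr₂ (bas.coord a)
  have hcard : 2 * Fintype.card (Option (Fin s × Fin (finrank ↥k K))) < finrank ↥k ↥M := by
    rw [Fintype.card_option, Fintype.card_prod, Fintype.card_fin, Fintype.card_fin, hk2, hfin]
    omega
  obtain ⟨⟨u, huM⟩, hu0, hu⟩ := exists_common_isotropic' (F := ↥k) (V := ↥M) (p := p) β hcard
  refine ⟨u, huM, fun h => hu0 (Subtype.ext h), ?_⟩
  intro j hj
  rcases Nat.eq_zero_or_pos j with rfl | hjpos
  · -- the norm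
    have h1 := hu none
    simp only [β, LinearMap.compr₂_apply, formK_apply, Module.End.one_apply,
      Basis.coord_apply] at h1
    rw [pow_zero, Module.End.one_apply]
    have hfix : σ (B u u) = B u u := (hsym u u).symm
    have hmem : B u u ∈ k := (hkσ _).1 hfix
    have h2 : B u u = (⟨B u u, hmem⟩ : ↥k) • (1 : K) := by
      rw [Subfield.smul_def, smul_eq_mul, mul_one]
    rw [h2, map_smul, Finsupp.smul_apply, smul_eq_mul] at h1
    have h3 := (mul_eq_zero.1 h1).resolve_right hi₀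
    have := congrArg (fun x : ↥k => (x : K)) h3
    exact this
  · obtain ⟨j', rfl⟩ : ∃ j', j = j' + 1 := ⟨j - 1, by omega⟩
    have h1 : ∀ a, bas.repr (B ((y ^ (j' + 1)) u) u) a = 0 := by
      intro a
      have := hu (some (⟨j', by omega⟩, a))
      simpa only [β, LinearMap.compr₂_apply, formK_apply, Basis.coord_apply] using this
    have h2 : bas.repr (B ((y ^ (j' + 1)) u) u) = 0 := Finsupp.ext h1
    rwa [LinearEquiv.map_eq_zero_iff] at h2

end herm

section aniso

variable {K V : Type*} [Field K] [Fintype K] [AddCommGroup V] [Module K V]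
  [FiniteDimensional K V] {σ : K →+* K}
  (B : V →ₗ[K] V →ₛₗ[σ] K) (y : V →ₗ[K] V) (r : ℕ) [Fact r.Prime]

/-- in a subspace of dimension `> b` killed by a degree-`b` polynomial (`b` odd), Chevalley–Warning
over the fixed field finds a nonzero invariant totally isotropic subspace -/
theorem exists_iso_cyc (p : ℕ) [Fact p.Prime] [CharP K p]
    (hsym : ∀ u v, B v u = σ (B u v)) (k : Subfield K)
    (hk2 : finrank ↥k K = 2) (hkσ : ∀ c, σ c = c ↔ c ∈ k)
    (hiso : ∀ u v, B (y u) (y v) = B u v)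
    (hrp : r ≠ p) (hy : y ^ r = 1) (hr0 : (r : K) ≠ 0)
    (hodd : Odd (orderOf (Fintype.card K : ZMod r)))
    (M : Submodule K V) (hM : ∀ u ∈ M, y u ∈ M) (hMR : M ≤ movR y) (h : K[X]) (hm : h.Monic)
    (hdeg : h.natDegree = orderOf (Fintype.card K : ZMod r))
    (hMh : ∀ u ∈ M, aeval y h u = 0)
    (hdim : orderOf (Fintype.card K : ZMod r) < finrank K M) :
    ∃ W : Submodule K V, W ≤ M ∧ (∀ u ∈ W, y u ∈ W) ∧ W ≠ ⊥ ∧ W ≤ orth B W := by
  have hr : 0 < r := (Fact.out : r.Prime).pos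
  have hipos : 0 < orderOf (Fintype.card K : ZMod r) := orderOf_card_pos r hrp
  set i₀ := orderOf (Fintype.card K : ZMod r) with hi₀
  obtain ⟨s, hs⟩ := hodd
  obtain ⟨u, huM, hu0, hu⟩ := exists_iso_vec B p hsym k hk2 hkσ y M s (by rw [← hs]; exact hdim)
  obtain ⟨hWinv, hWh⟩ := Sp.cyc_of_aeval y u h hm i₀ hdeg (hMh u huM)
  have hWM : cyc y u i₀ ≤ M := Sp.cyc_le y u i₀ M hM huM
  have huW : u ∈ cyc y u i₀ := self_mem_cyc y u i₀ hipos
  have hW0 : cyc y u i₀ ≠ ⊥ := by
    intro h0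
    rw [h0] at huW
    exact hu0 ((Submodule.mem_bot K).1 huW)
  have hWdim : finrank K (cyc y u i₀) = i₀ :=
    Sp.finrank_eq_of_le y r hy hr0 _ hWinv (hWM.trans hMR) hW0 (finrank_cyc_le y u i₀)
  -- the middle vector is in the radical
  have hmid : (y ^ s) u ∈ cyc y u i₀ ⊓ orth B (cyc y u i₀) := by
    refine ⟨pow_mem_cyc y u i₀ s (by omega), ?_⟩
    show (y ^ s) u ∈ orth B (cyc y u i₀)
    intro n hn
    rw [cyc] at hn
    refine Submodule.span_induction ?_ ?_ ?_ ?_ hn
    · rintro _ ⟨a, rfl⟩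
      have ha : (a : ℕ) < i₀ := a.2
      show B ((y ^ (a : ℕ)) u) ((y ^ s) u) = 0
      rcases le_total s (a : ℕ) with hsa | has
      · have h1 : (y ^ (a : ℕ)) u = (y ^ s) ((y ^ ((a : ℕ) - s)) u) := by
          rw [← Module.End.mul_apply, ← pow_add, Nat.add_sub_cancel' hsa]
        rw [h1, iso_pow B y hiso]
        exact hu ((a : ℕ) - s) (by omega)
      · have h1 : (y ^ s) u = (y ^ (a : ℕ)) ((y ^ (s - (a : ℕ))) u) := by
          rw [← Module.End.mul_apply, ← pow_add, Nat.add_sub_cancel' has]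
        rw [h1, iso_pow B y hiso]
        exact herm_swap B hsym _ _ (hu (s - (a : ℕ)) (by omega))
    · rw [map_zero, LinearMap.zero_apply]
    · intro x z _ _ hx hz
      rw [map_add, LinearMap.add_apply, hx, hz, add_zero]
    · intro c x _ hx
      rw [map_smul, LinearMap.smul_apply, hx, smul_zero]
  have hmid0 : (y ^ s) u ≠ 0 := by
    intro h0
    apply hu0
    have h1 : (y ^ (r * s)) u = u := by
      rw [pow_mul, hy, one_pow, Module.End.one_apply]
    have h2 : r * s = (r - 1) * s + s := by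
      obtain ⟨r₀, rfl⟩ := Nat.exists_eq_succ_of_ne_zero hr.ne'
      rw [Nat.succ_sub_one, Nat.succ_mul]
    rw [h2, pow_add, Module.End.mul_apply, h0, map_zero] at h1
    exact h1.symm
  have hOinv := orth_invariant B y hiso r hr hy _ hWinv
  have hRinv : ∀ v ∈ cyc y u i₀ ⊓ orth B (cyc y u i₀),
      y v ∈ cyc y u i₀ ⊓ orth B (cyc y u i₀) := Sp.inf_invariant y _ _ hWinv hOinv
  have hrad := Sp.irred_sub y r hy hr0 (cyc y u i₀) (hWM.trans hMR) hWdim
    (cyc y u i₀ ⊓ orth B (cyc y u i₀)) hRinv inf_le_left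
  rcases hrad with h0 | h1
  · rw [h0] at hmid
    exact absurd ((Submodule.mem_bot K).1 hmid) hmid0
  · refine ⟨cyc y u i₀, hWM, hWinv, hW0, ?_⟩
    intro w hw
    rw [← h1] at hw
    exact hw.2

/-- an anisotropic invariant subspace of the moved space has dimension at most `b·t` -/
theorem aniso_bound (p : ℕ) [Fact p.Prime] [CharP K p]
    (hsym : ∀ u v, B v u = σ (B u v)) (k : Subfield K)
    (hk2 : finrank ↥k K = 2) (hkσ : ∀ c, σ c = c ↔ c ∈ k)
    (hiso : ∀ u v, B (y u) (y v) = B u v)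
    (hrp : r ≠ p) (hy : y ^ r = 1)
    (hodd : Odd (orderOf (Fintype.card K : ZMod r)))
    (N : Submodule K V) (hN : ∀ u ∈ N, y u ∈ N) (hNR : N ≤ movR y)
    (haniso : ∀ W' : Submodule K V, W' ≤ N → (∀ u ∈ W', y u ∈ W') → W' ≤ orth B W' →
      W' = ⊥) :
    finrank K N ≤ orderOf (Fintype.card K : ZMod r) *
      ((r - 1) / orderOf (Fintype.card K : ZMod r)) := by
  classical
  have hr : r.Prime := Fact.out
  have hr0 : (r : K) ≠ 0 := by
    rw [Ne, CharP.cast_eq_zero_iff K p]
    intro hd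
    exact hrp ((Nat.prime_dvd_prime_iff_eq Fact.out Fact.out).1 hd).symm
  set i₀ := orderOf (Fintype.card K : ZMod r) with hi₀
  have hipos : 0 < i₀ := orderOf_card_pos r hrp
  have hq0 : ((Fintype.card K : ℕ) : ZMod r) ≠ 0 := by
    rw [Ne, ZMod.natCast_eq_zero_iff]
    exact card_not_dvd (F := K) r hr hrp
  have hidvd : i₀ ∣ r - 1 := orderOf_dvd_of_pow_eq_one (ZMod.pow_card_sub_one_eq_one hq0)
  set t := (r - 1) / i₀ with ht
  have hti : t * i₀ = r - 1 := Nat.div_mul_cancel hidvd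
  obtain ⟨h, hmon, hirr, hnone, hdeg, hprod⟩ :=
    PrimeOrderClasses.exists_factor_family (F := K) (p := p) rfl r i₀ t hr hrp hi₀ hti
  have hsq : Squarefree (∏ o, h o) := by
    rw [hprod]
    have := (separable_X_pow_sub_C (1 : K) hr0 one_ne_zero).squarefree
    rwa [map_one] at this
  have hcop := PrimeOrderClasses.family_coprime h hmon hirr hsq
  have hkill : ∀ u ∈ N, aeval y (∏ j ∈ (Finset.univ : Finset (Fin t)), h (some j)) u = 0 := by
    intro u hu
    obtain ⟨w, rfl⟩ := hNR hu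
    have h1 : (y - 1) w = aeval y (h none) w := by
      rw [hnone, map_sub, aeval_X, map_one]
    rw [h1, ← Module.End.mul_apply, ← map_mul]
    have h2 : (∏ j : Fin t, h (some j)) * h none = X ^ r - 1 := by
      rw [← hprod, Fintype.prod_option, mul_comm]
    rw [h2, map_sub, map_pow, aeval_X, map_one, hy, sub_self, LinearMap.zero_apply]
  have hmain := Sp.finrank_le_of_family y (fun j : Fin t => h (some j)) i₀ N (by
    intro j N' hN'inv hN'N hN'h
    by_contra hlt
    push Not at hlt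
    obtain ⟨W, hWN', hWinv, hW0, hWiso⟩ := exists_iso_cyc B y r p hsym k hk2 hkσ hiso hrp hy hr0
      hodd N' hN'inv (hN'N.trans hNR) (h (some j)) (hmon _) (hdeg j) hN'h hlt
    exact hW0 (haniso W (hWN'.trans hN'N) hWinv hWiso)) Finset.univ (by
    intro j _ j' _ hne
    exact hcop (some j) (some j') (fun h' => hne (Option.some_injective _ h'))) N hN le_rfl hkill
  rw [Finset.card_univ, Fintype.card_fin] at hmain
  exact hmain

end aniso

section arith

theorem mod_four_of_pow_eq_neg_one (r : ℕ) [Fact r.Prime] (hr2 : r ≠ 2) (x : ZMod r) (n : ℕ)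
    (hn : Odd n) (hx : x ^ n = -1) : orderOf x % 4 = 2 := by
  have hr : r.Prime := Fact.out
  have hne : (-1 : ZMod r) ≠ 1 := by
    intro h
    have h2 : ((2 : ℕ) : ZMod r) = 0 := by
      have : (1 : ZMod r) + 1 = 0 := by
        nth_rewrite 1 [← h]
        ring
      push_cast
      rw [← this]
      norm_num
    rw [ZMod.natCast_eq_zero_iff] at h2
    exact hr2 ((Nat.prime_dvd_prime_iff_eq hr Nat.prime_two).1 h2)
  have h1 : x ^ (2 * n) = 1 := by
    rw [mul_comm, pow_mul, hx]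
    norm_num
  have hd1 : orderOf x ∣ 2 * n := orderOf_dvd_of_pow_eq_one h1
  have hd2 : ¬ orderOf x ∣ n := by
    intro hd
    apply hne
    rw [← hx]
    exact orderOf_dvd_iff_pow_eq_one.1 hd
  obtain ⟨s, hs⟩ := hn
  rcases Nat.even_or_odd (orderOf x) with hev | hodd
  · obtain ⟨i', hi'⟩ := hev
    have h3 : i' ∣ n := by
      have : 2 * i' ∣ 2 * n := by
        have e : orderOf x = 2 * i' := by omega
        rwa [e] at hd1
      exact (Nat.mul_dvd_mul_iff_left (by norm_num)).1 this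
    have h4 : Odd i' := by
      rcases Nat.even_or_odd i' with he | ho
      · exfalso
        have h2n : 2 ∣ n := (even_iff_two_dvd.1 he).trans h3
        omega
      · exact ho
    obtain ⟨t, ht⟩ := h4
    omega
  · exfalso
    apply hd2
    exact (Nat.Coprime.dvd_of_dvd_mul_left (Nat.coprime_two_right.2 hodd) hd1)

theorem mod_four_of_star (q r : ℕ) [Fact r.Prime] (hr2 : r ≠ 2) (hq : ¬ r ∣ q) (m : ℕ)
    (h : ((q + (q ^ 2) ^ m : ℕ) : ZMod r) = 0) : orderOf (q : ZMod r) % 4 = 2 := by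
  have hx0 : (q : ZMod r) ≠ 0 := by
    rw [Ne, ZMod.natCast_eq_zero_iff]
    exact hq
  push_cast at h
  rcases Nat.eq_zero_or_pos m with rfl | hm
  · rw [pow_zero] at h
    apply mod_four_of_pow_eq_neg_one r hr2 _ 1 odd_one
    rw [pow_one]
    exact eq_neg_of_add_eq_zero_left h
  · obtain ⟨m', rfl⟩ : ∃ m', m = m' + 1 := ⟨m - 1, by omega⟩
    apply mod_four_of_pow_eq_neg_one r hr2 _ (2 * m' + 1) ⟨m', rfl⟩
    have h1 : (q : ZMod r) * (1 + (q : ZMod r) ^ (2 * m' + 1)) = 0 := by
      rw [← h]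
      ring
    have h2 := (mul_eq_zero.1 h1).resolve_left hx0
    exact eq_neg_of_add_eq_zero_right h2

theorem exists_dvd_of_mod_four (q r : ℕ) [Fact r.Prime] (h : orderOf (q : ZMod r) % 4 = 2) :
    ∃ j, r ∣ q ^ (2 * j + 1) + 1 ∧ 2 * (2 * j + 1) = orderOf (q : ZMod r) := by
  refine ⟨orderOf (q : ZMod r) / 4, ?_, by omega⟩
  exact Sp.dvd_pow_half_add_one r q _ (by omega) (by omega)

theorem orderOf_sq_cast (q r : ℕ) : orderOf ((q ^ 2 : ℕ) : ZMod r) =
    if Even (orderOf (q : ZMod r)) then orderOf (q : ZMod r) / 2 else orderOf (q : ZMod r) := by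
  push_cast
  rw [orderOf_pow' _ two_ne_zero]
  split_ifs with hev
  · have : Nat.gcd (orderOf (q : ZMod r)) 2 = 2 := Nat.gcd_eq_right (even_iff_two_dvd.1 hev)
    rw [this]
  · have hodd : Odd (orderOf (q : ZMod r)) := Nat.not_even_iff_odd.1 hev
    have : Nat.gcd (orderOf (q : ZMod r)) 2 = 1 := Nat.coprime_two_right.2 hodd
    rw [this, Nat.div_one]

end arith

section anisobot

variable {K V : Type*} [Field K] [Fintype K] [AddCommGroup V] [Module K V]
  [FiniteDimensional K V] {σ : K →+* K}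
  (B : V →ₗ[K] V →ₛₗ[σ] K) (y : V →ₗ[K] V) (r : ℕ) [Fact r.Prime]

/-- outside the self-dual case an anisotropic invariant subspace of the moved space is trivial -/
theorem aniso_bot (p : ℕ) [Fact p.Prime] [CharP K p] (hσ : ∀ a, σ (σ a) = a)
    (hsym : ∀ u v, B v u = σ (B u v)) (e : ℕ) (hσe : ∀ c, σ c = c ^ (p ^ e))
    (hK : Fintype.card K = (p ^ e) ^ 2)
    (hiso : ∀ u v, B (y u) (y v) = B u v)
    (hrp : r ≠ p) (hr2 : r ≠ 2) (hy : y ^ r = 1)
    (hmod : orderOf ((p ^ e : ℕ) : ZMod r) % 4 ≠ 2)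
    (N : Submodule K V) (hN : ∀ u ∈ N, y u ∈ N) (hNR : N ≤ movR y)
    (haniso : ∀ W' : Submodule K V, W' ≤ N → (∀ u ∈ W', y u ∈ W') → W' ≤ orth B W' →
      W' = ⊥) : N = ⊥ := by
  classical
  have hr : r.Prime := Fact.out
  have hr0 : (r : K) ≠ 0 := by
    rw [Ne, CharP.cast_eq_zero_iff K p]
    intro hd
    exact hrp ((Nat.prime_dvd_prime_iff_eq Fact.out Fact.out).1 hd).symm
  set i₀ := orderOf (Fintype.card K : ZMod r) with hi₀
  have hipos : 0 < i₀ := orderOf_card_pos r hrp
  have hq0 : ((Fintype.card K : ℕ) : ZMod r) ≠ 0 := by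
    rw [Ne, ZMod.natCast_eq_zero_iff]
    exact card_not_dvd (F := K) r hr hrp
  have hidvd : i₀ ∣ r - 1 := orderOf_dvd_of_pow_eq_one (ZMod.pow_card_sub_one_eq_one hq0)
  set t := (r - 1) / i₀ with ht
  have hti : t * i₀ = r - 1 := Nat.div_mul_cancel hidvd
  obtain ⟨h, hmon, hirr, hnone, hdeg, hprod⟩ :=
    PrimeOrderClasses.exists_factor_family (F := K) (p := p) rfl r i₀ t hr hrp hi₀ hti
  have hsq : Squarefree (∏ o, h o) := by
    rw [hprod]
    have := (separable_X_pow_sub_C (1 : K) hr0 one_ne_zero).squarefree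
    rwa [map_one] at this
  have hcop := PrimeOrderClasses.family_coprime h hmon hirr hsq
  have hkill : ∀ u ∈ N, aeval y (∏ j ∈ (Finset.univ : Finset (Fin t)), h (some j)) u = 0 := by
    intro u hu
    obtain ⟨w, rfl⟩ := hNR hu
    have h1 : (y - 1) w = aeval y (h none) w := by
      rw [hnone, map_sub, aeval_X, map_one]
    rw [h1, ← Module.End.mul_apply, ← map_mul]
    have h2 : (∏ j : Fin t, h (some j)) * h none = X ^ r - 1 := by
      rw [← hprod, Fintype.prod_option, mul_comm]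
    rw [h2, map_sub, map_pow, aeval_X, map_one, hy, sub_self, LinearMap.zero_apply]
  have hpq : ¬ r ∣ p ^ e := by
    intro hd
    exact hrp ((Nat.prime_dvd_prime_iff_eq hr Fact.out).1 (hr.dvd_of_dvd_pow hd))
  have hmain := Sp.finrank_le_of_family y (fun j : Fin t => h (some j)) 0 N (by
    intro j N' hN'inv hN'N hN'h
    by_contra hpos
    have hN'0 : N' ≠ ⊥ := by
      intro h0
      apply hpos
      rw [h0, finrank_bot]
    -- the radical of N' is invariant and totally isotropic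
    have hOinv := orth_invariant B y hiso r hr.pos hy N' hN'inv
    have hrad : N' ⊓ orth B N' = ⊥ := by
      apply haniso _ (inf_le_left.trans hN'N) (Sp.inf_invariant y _ _ hN'inv hOinv)
      intro w hw n hn
      exact hw.2 n hn.1
    have hnd : NdOn B N' := by
      rw [ndOn_iff_disjoint B hsym, disjoint_iff]
      exact hrad
    have hdvd : h (some j) ∣ X ^ r - 1 := by
      rw [← hprod]
      exact Finset.dvd_prod_of_mem h (Finset.mem_univ _)
    have h0 : (h (some j)).coeff 0 ≠ 0 := by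
      intro hc
      have hX : (X : K[X]) ∣ h (some j) := X_dvd_iff.2 hc
      have h1 := hX.trans hdvd
      rw [X_dvd_iff, coeff_sub, coeff_X_pow, coeff_one_zero, if_neg hr.pos.ne, zero_sub] at h1
      exact one_ne_zero (neg_eq_zero.1 h1)
    have hstar := star_eq_of_nd B y r hσ hsym hiso hy N' hN'inv hN'0 hnd (h (some j)) (hmon _)
      (hirr _) h0 hN'h
    have hne : h (some j) ≠ X - 1 := by
      intro heq
      have h1 := hcop (some j) none (by simp)
      rw [hnone, heq, isCoprime_self] at h1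
      have h2 : IsUnit (X - C (1 : K)) := by rwa [C_1]
      exact not_isUnit_X_sub_C 1 h2
    obtain ⟨m, hm⟩ := (StarPoly.star_eq_self_iff p e σ hσe hσ r hr (h (some j)) (hmon _) (hirr _)
      hdvd hne).1 hstar
    rw [Nat.card_eq_fintype_card, hK] at hm
    exact hmod (mod_four_of_star (p ^ e) r hr2 hpq m hm)) Finset.univ (by
    intro j _ j' _ hne
    exact hcop (some j) (some j') (fun h' => hne (Option.some_injective _ h'))) N hN le_rfl hkill
  rw [zero_mul, Nat.le_zero] at hmain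
  exact Submodule.finrank_eq_zero.1 hmain

end anisobot

section suff

variable {K V : Type*} [Field K] [Fintype K] [AddCommGroup V] [Module K V]
  [FiniteDimensional K V] {σ : K →+* K}
  (B : V →ₗ[K] V →ₛₗ[σ] K) (y : V →ₗ[K] V) (r : ℕ) [Fact r.Prime]

/-- sufficiency for odd `r`: a unitary isometry of order `r` fixes a totally isotropic `m`-space -/
theorem un_iso_bwd (p : ℕ) [Fact p.Prime] [CharP K p] (hσ : ∀ a, σ (σ a) = a)
    (hsym : ∀ u v, B v u = σ (B u v)) (hNorm : ∀ c : K, σ c = c → ∃ a : K, a * σ a = c)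
    (e : ℕ) (hσe : ∀ c, σ c = c ^ (p ^ e)) (hK : Fintype.card K = (p ^ e) ^ 2)
    (k : Subfield K) (hk2 : finrank ↥k K = 2) (hkσ : ∀ c, σ c = c ↔ c ∈ k)
    (hnd : ∀ x, (∀ z, B x z = 0) → x = 0)
    (hiso : ∀ u v, B (y u) (y v) = B u v)
    (hrp : r ≠ p) (hr2 : r ≠ 2) (hy : y ^ r = 1) (n m : ℕ) (hdim : finrank K V = n)
    (hmn : 2 * m ≤ n)
    (h1 : 2 * (m % orderOf (Fintype.card K : ZMod r)) ≤
      n % (if orderOf ((p ^ e : ℕ) : ZMod r) % 4 = 2 then orderOf (Fintype.card K : ZMod r)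
        else 2 * orderOf (Fintype.card K : ZMod r)))
    (h2 : orderOf ((p ^ e : ℕ) : ZMod r) % 4 ≠ 2 ∨
      (r - 1) / orderOf (Fintype.card K : ZMod r) + 2 * (m / orderOf (Fintype.card K : ZMod r)) ≤
        n / orderOf (Fintype.card K : ZMod r)) :
    ∃ W : Submodule K V, finrank K W = m ∧ W ≤ orth B W ∧ ∀ u ∈ W, y u ∈ W := by
  have hr : r.Prime := Fact.out
  have hr0 : (r : K) ≠ 0 := by
    rw [Ne, CharP.cast_eq_zero_iff K p]
    intro hd
    exact hrp ((Nat.prime_dvd_prime_iff_eq Fact.out Fact.out).1 hd).symm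
  set i₀ := orderOf (Fintype.card K : ZMod r) with hi₀
  have hipos : 0 < i₀ := orderOf_card_pos r hrp
  have htop : NdOn B (⊤ : Submodule K V) := by
    intro u _ hu0
    by_contra hcon
    push Not at hcon
    exact hu0 (hnd u (fun z => hcon z Submodule.mem_top))
  have htinv : ∀ v ∈ (⊤ : Submodule K V), y v ∈ (⊤ : Submodule K V) := fun _ _ => Submodule.mem_top
  have hEnd : NdOn B (fixE y) := by
    have := ndOn_inf_fix B y hiso r hy hr0 ⊤ htinv htop
    rwa [top_inf_eq] at this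
  have hRnd : NdOn B (movR y) := by
    have := ndOn_inf_mov B y hsym hiso r hy hr0 ⊤ htinv htop
    rwa [top_inf_eq] at this
  have hdisj : fixE y ⊓ movR y = ⊥ := fix_inf_mov y r hy hr0
  have hsplit : fixE y ⊔ movR y = ⊤ := by
    have := Sp.inv_split y r hy hr0 ⊤ htinv
    rwa [top_inf_eq, top_inf_eq] at this
  have hen : finrank K (fixE y) + finrank K (movR y) = n := by
    have := Submodule.finrank_sup_add_finrank_inf_eq (fixE y) (movR y)
    rw [hsplit, hdisj, finrank_bot, add_zero, finrank_top, hdim] at this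
    exact this.symm
  obtain ⟨W₀, N, ⟨hW₀R, hW₀inv, hW₀iso⟩, hNR, hNinv, hNnd, hNdim, haniso⟩ :=
    exists_max_iso B hσ hsym y hiso r hr.pos hy hr0 (movR y) (movR_invariant y) hRnd
  obtain ⟨k₀, hk₀⟩ := orderOf_dvd_finrank_of_le_movR y r hy hr0 W₀ hW₀inv hW₀R
  rw [← hi₀] at hk₀
  obtain ⟨kR, hkR⟩ := orderOf_dvd_finrank_of_le_movR y r hy hr0 (movR y) (movR_invariant y) le_rfl
  rw [← hi₀] at hkR
  -- the bound on N and on the fixed space
  have hmain : 2 * m + finrank K N ≤ n ∧ 2 * (m % i₀) ≤ finrank K (fixE y) := by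
    by_cases hmod : orderOf ((p ^ e : ℕ) : ZMod r) % 4 = 2
    · rw [if_pos hmod] at h1
      have h2' := h2.resolve_left (not_not.2 hmod)
      have hodd : Odd i₀ := by
        have h3 := orderOf_sq_cast (p ^ e) r
        rw [← hK, ← hi₀] at h3
        have hev : Even (orderOf ((p ^ e : ℕ) : ZMod r)) := by
          rw [Nat.even_iff]; omega
        rw [if_pos hev] at h3
        rw [h3, Nat.odd_iff]
        omega
      have hb := aniso_bound B y r p hsym k hk2 hkσ hiso hrp hy hodd N hNinv hNR haniso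
      rw [← hi₀] at hb
      have h3 := Nat.mul_le_mul_left i₀ h2'
      rw [mul_add] at h3
      have h4 : i₀ * (n / i₀) + n % i₀ = n := Nat.div_add_mod _ _
      have h5 : i₀ * (m / i₀) + m % i₀ = m := Nat.div_add_mod _ _
      have h6 : i₀ * (2 * (m / i₀)) = 2 * (i₀ * (m / i₀)) := by ring
      have h7 : n % i₀ ≤ finrank K (fixE y) := by
        have : n % i₀ = finrank K (fixE y) % i₀ := by
          rw [← hen, hkR]
          exact Nat.add_mul_mod_self_left _ _ _
        rw [this]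
        exact Nat.mod_le _ _
      constructor <;> omega
    · rw [if_neg hmod] at h1
      have hNbot := aniso_bot B y r p hσ hsym e hσe hK hiso hrp hr2 hy hmod N hNinv hNR haniso
      rw [hNbot, finrank_bot] at hNdim ⊢
      have h7 : n % (2 * i₀) ≤ finrank K (fixE y) := by
        have : n % (2 * i₀) = finrank K (fixE y) % (2 * i₀) := by
          rw [← hen, ← hNdim, add_zero, hk₀]
          have : 2 * (i₀ * k₀) = 2 * i₀ * k₀ := by ring
          rw [this]
          exact Nat.add_mul_mod_self_left _ _ _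
        rw [this]
        exact Nat.mod_le _ _
      constructor <;> omega
  obtain ⟨hNbound, hfixb⟩ := hmain
  -- choose k
  set kk := min (m / i₀) k₀ with hkk
  have hkW₀ : i₀ * kk ≤ finrank K W₀ := by
    rw [hk₀]
    exact Nat.mul_le_mul_left _ (min_le_right _ _)
  obtain ⟨WR, hWRW₀, hWRinv, hWRdim⟩ := Sp.exists_inv_sub y r hrp hy hr0 W₀ hW₀inv hW₀R kk hkW₀
  rw [← hi₀] at hWRdim
  have hkm : i₀ * kk ≤ m := by
    have h5 : i₀ * (m / i₀) + m % i₀ = m := Nat.div_add_mod _ _
    have : i₀ * kk ≤ i₀ * (m / i₀) := Nat.mul_le_mul_left _ (min_le_left _ _)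
    omega
  have hj : 2 * (m - i₀ * kk) ≤ finrank K (fixE y) := by
    rcases le_total (m / i₀) k₀ with hle | hle
    · have hkeq : kk = m / i₀ := min_eq_left hle
      have h5 : i₀ * (m / i₀) + m % i₀ = m := Nat.div_add_mod _ _
      rw [hkeq]
      omega
    · have hkeq : kk = k₀ := min_eq_right hle
      rw [hkeq, ← hk₀]
      omega
  obtain ⟨WE, hWEE, hWEiso, hWEdim⟩ :=
    exists_iso_sub B hσ hsym hNorm (m - i₀ * kk) (fixE y) hEnd hj
  refine ⟨WE ⊔ WR, ?_, ?_, ?_⟩
  · have hd' : WE ⊓ WR = ⊥ := by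
      rw [eq_bot_iff, ← hdisj]
      exact inf_le_inf hWEE (hWRW₀.trans hW₀R)
    have := Submodule.finrank_sup_add_finrank_inf_eq WE WR
    rw [hd', finrank_bot, add_zero, hWEdim, hWRdim] at this
    omega
  · apply iso_sup B hsym WE WR hWEiso
    · intro a ha b hb
      exact hW₀iso (hWRW₀ ha) b (hWRW₀ hb)
    · intro a ha b hb
      exact fix_orth_mov B y hiso a b (hWEE ha) (hW₀R (hWRW₀ hb))
  · exact sup_invariant y WE WR (fixE_invariant y WE hWEE) hWRinv

end suff

end Cfsg.Agent.Lib.Helper12.Un
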