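import Mathlib
import Cfsg.Agent.Lib.Helper12.UnC
import Cfsg.Agent.Lib.Helper5.HermBridge
import Cfsg.Agent.Lib.Helper14.HermCount
import Cfsg.Agent.S2636

set_option autoImplicit false

namespace Cfsg.Agent.Lib.Helper12.Un

open Module Polynomial Cfsg.Agent.Lib.Helper12.Elus Cfsg.Agent.Lib.Helper15
  Cfsg.Agent.Lib.Helper5.HermBridge Cfsg.Agent.Lib.Helper14

section bridge

variable {F : Type*} [Field F] [Fintype F] {q : ℕ}

/-- the standard hermitian form as a sesquilinear map -/
noncomputable def hermB (hF : Fintype.card F = q ^ 2) (n : ℕ) :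
    (Fin n → F) →ₗ[F] (Fin n → F) →ₛₗ[frobHom hF] F :=
  LinearMap.mk₂'ₛₗ (RingHom.id F) (frobHom hF) (fun u v => Cfsg.hermForm n F q u v)
    (fun u u' v => hermForm_add_left u u' v)
    (fun c u v => by
      rw [hermForm_smul_left]
      rfl)
    (fun u v v' => by
      classical
      exact hermForm_add_right hF u v v')
    (fun c u v => by
      rw [hermForm_smul_right]
      rfl)

theorem hermB_apply (hF : Fintype.card F = q ^ 2) (n : ℕ) (u v : Fin n → F) :
    hermB hF n u v = Cfsg.hermForm n F q u v := rfl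

theorem frobHom_apply (hF : Fintype.card F = q ^ 2) (c : F) : frobHom hF c = c ^ q := rfl

theorem frob_invol (hF : Fintype.card F = q ^ 2) (a : F) : frobHom hF (frobHom hF a) = a :=
  pow_q_pow_q hF a

theorem hermB_sym (hF : Fintype.card F = q ^ 2) (n : ℕ) (u v : Fin n → F) :
    hermB hF n v u = frobHom hF (hermB hF n u v) := by
  classical
  rw [hermB_apply, hermB_apply, frobHom_apply, hermForm_conj hF]

theorem hermB_nd (hF : Fintype.card F = q ^ 2) (n : ℕ) (x : Fin n → F)
    (hx : ∀ z, hermB hF n x z = 0) : x = 0 := by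
  classical
  funext i
  have h := hx (Pi.single i 1)
  rw [hermB_apply] at h
  unfold Cfsg.hermForm at h
  rw [Finset.sum_eq_single i] at h
  · rw [Pi.single_eq_same, one_pow, mul_one] at h
    exact h
  · intro j _ hji
    rw [Pi.single_eq_of_ne hji]
    have := herm_two_le hF
    rw [zero_pow (by omega), mul_zero]
  · intro hi
    exact absurd (Finset.mem_univ i) hi

theorem norm_surj (hF : Fintype.card F = q ^ 2) (c : F) (hc : frobHom hF c = c) :
    ∃ a : F, a * frobHom hF a = c := by
  classical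
  by_cases hc0 : c = 0
  · refine ⟨0, ?_⟩
    rw [hc0, zero_mul]
  · have hmem : c ∈ fixStar F q := mem_fixStar.2 ⟨hc0, hc⟩
    have h1 := normFiber_of_mem hF c hmem
    unfold normFiber at h1
    have hpos : 0 < (Finset.univ.filter (fun w : F => w * w ^ q = c)).card := by
      rw [h1]; omega
    obtain ⟨w, hw⟩ := Finset.card_pos.1 hpos
    rw [Finset.mem_filter] at hw
    exact ⟨w, hw.2⟩

theorem exists_pow_eq (hF : Fintype.card F = q ^ 2) (p : ℕ) [Fact p.Prime] [CharP F p] :
    ∃ e, q = p ^ e := by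
  obtain ⟨k, -, hk⟩ := FiniteField.card F p
  have h1 : q ∣ p ^ (k : ℕ) := by
    rw [← hk, hF]
    exact Dvd.intro_left (q ^ 1) (by ring)
  obtain ⟨e, -, he⟩ := (Nat.dvd_prime_pow Fact.out).1 h1
  exact ⟨e, he⟩

/-- the fixed field of `x ↦ x^q` -/
noncomputable def fixK (hF : Fintype.card F = q ^ 2) : Subfield F :=
  Cfsg.Agent.S2636.fixF (frobQ hF)

theorem mem_fixK (hF : Fintype.card F = q ^ 2) (c : F) :
    frobHom hF c = c ↔ c ∈ fixK hF := by
  unfold fixK
  rw [Cfsg.Agent.S2636.mem_fixF]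
  rfl

theorem orderOf_frobQ (hF : Fintype.card F = q ^ 2) (n : ℕ) (hn : 1 ≤ n) :
    orderOf (frobQ hF) = 2 := by
  apply orderOf_eq_prime
  · ext x
    show frobQ hF (frobQ hF x) = x
    exact pow_q_pow_q hF x
  · exact (herm_unitary (n := n) hF).ne_refl

theorem finrank_fixK (hF : Fintype.card F = q ^ 2) : finrank ↥(fixK hF) F = 2 := by
  classical
  have hσ := orderOf_frobQ hF 1 le_rfl
  have hfin : Finite (Subgroup.zpowers (frobQ hF)) := by
    have : IsOfFinOrder (frobQ hF) := by rw [← orderOf_pos_iff, hσ]; norm_num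
    exact (finite_zpowers.mpr this).to_subtype
  let _ : Fintype (Subgroup.zpowers (frobQ hF)) := Fintype.ofFinite _
  have hfaith : FaithfulSMul (Subgroup.zpowers (frobQ hF)) F :=
    ⟨fun {g h} hgh => Subtype.ext (RingEquiv.ext hgh)⟩
  unfold fixK Cfsg.Agent.S2636.fixF
  rw [FixedPoints.finrank_eq_card, ← Nat.card_eq_fintype_card, Nat.card_zpowers, hσ]

end bridge

end Cfsg.Agent.Lib.Helper12.Un
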