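import Mathlib
import Cfsg.Agent.Lib.Helper12.UnD
import Cfsg.Agent.Lib.Helper5.UTICount

set_option autoImplicit false

namespace Cfsg.Agent.Lib.Helper12.Un

open Module Polynomial Cfsg.Agent.Lib.Helper12.Elus Cfsg.Agent.Lib.Helper15
  Cfsg.Agent.Lib.Helper5.HermBridge Cfsg.Agent.Lib.Helper14 Cfsg.Agent.Lib.Helper5.UTICount

section count

variable {F : Type*} [Field F] [Fintype F] {q : ℕ}

/-- the type of totally isotropic `m`-subspaces of the standard hermitian space -/
abbrev TiSub (F : Type*) [Field F] (q n m : ℕ) : Type _ :=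
  {W : Submodule F (Fin n → F) // finrank F W = m ∧
    ∀ u ∈ W, ∀ v ∈ W, Cfsg.hermForm n F q u v = 0}

omit [Fintype F] in
theorem ti_tuple_of_li {n : ℕ} (W : Submodule F (Fin n → F)) (k : ℕ) (hWk : Module.finrank F W = k)
    (hW : ∀ u ∈ W, ∀ v ∈ W, Cfsg.hermForm n F q u v = 0) (s : Fin k → W)
    (hs : LinearIndependent F s) :
    TI F q n k (fun i => (s i : Fin n → F)) ∧
      Submodule.span F (Set.range (fun i => (s i : Fin n → F))) = W := by
  have hli : LinearIndependent F (fun i => (s i : Fin n → F)) :=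
    hs.map' W.subtype (Submodule.ker_subtype W)
  refine ⟨⟨hli, fun i j => hW _ (s i).2 _ (s j).2⟩, ?_⟩
  apply Submodule.eq_of_le_of_finrank_eq
  · rw [Submodule.span_le]
    rintro _ ⟨i, rfl⟩
    exact (s i).2
  · rw [finrank_span_eq_card hli, Fintype.card_fin, hWk]

theorem ti_card_bases {n : ℕ} (W : Submodule F (Fin n → F)) (k : ℕ)
    (hWk : Module.finrank F W = k)
    (hW : ∀ u ∈ W, ∀ v ∈ W, Cfsg.hermForm n F q u v = 0) :
    Nat.card {y : Fin k → (Fin n → F) // TI F q n k y ∧ Submodule.span F (Set.range y) = W} =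
      ∏ i : Fin k, (Fintype.card F ^ k - Fintype.card F ^ (i : ℕ)) := by
  have h := card_linearIndependent (K := F) (V := W) (k := k) (le_of_eq hWk.symm)
  rw [hWk] at h
  rw [← h]
  apply Nat.card_congr
  refine
    { toFun := fun y => ⟨fun i => ⟨y.1 i, ?_⟩, ?_⟩
      invFun := fun s => ⟨fun i => (s.1 i : Fin n → F), ti_tuple_of_li W k hWk hW s.1 s.2⟩
      left_inv := fun _ => rfl
      right_inv := fun _ => rfl }
  · have h1 : y.1 i ∈ Submodule.span F (Set.range y.1) := Submodule.subset_span ⟨i, rfl⟩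
    have h2 := y.2.2
    rw [h2] at h1
    exact h1
  · apply LinearIndependent.of_comp W.subtype
    exact y.2.1.1

theorem span_ti (hF : Fintype.card F = q ^ 2) {n : ℕ} (S : Set (Fin n → F))
    (hS : ∀ a ∈ S, ∀ b ∈ S, Cfsg.hermForm n F q a b = 0) :
    ∀ u ∈ Submodule.span F S, ∀ v ∈ Submodule.span F S, Cfsg.hermForm n F q u v = 0 := by
  classical
  intro u hu v hv
  have h1 : ∀ b ∈ S, ∀ u ∈ Submodule.span F S, Cfsg.hermForm n F q u b = 0 := by
    intro b hb u hu
    induction hu using Submodule.span_induction with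
    | mem x hx => exact hS x hx b hb
    | zero => rw [← hermB_apply hF, map_zero, LinearMap.zero_apply]
    | add x y _ _ hx hy => rw [hermForm_add_left, hx, hy, add_zero]
    | smul c x _ hx => rw [hermForm_smul_left, hx, mul_zero]
  induction hv using Submodule.span_induction with
  | mem x hx => exact h1 x hx u hu
  | zero => rw [← hermB_apply hF, map_zero]
  | add x y _ _ hx hy => rw [hermForm_add_right hF, hx, hy, add_zero]
  | smul c x _ hx => rw [hermForm_smul_right, hx, mul_zero]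

theorem card_tiSub_mul (hF : Fintype.card F = q ^ 2) (n m : ℕ) (hmn : 2 * m ≤ n) :
    Nat.card (TiSub F q n m) * ∏ i : Fin m, (Fintype.card F ^ m - Fintype.card F ^ (i : ℕ)) =
      ∏ j ∈ Finset.range m, q ^ (2 * j) * zU q (n - 2 * j) := by
  classical
  rw [← card_TI hF m hmn]
  let f : {s : Fin m → (Fin n → F) // TI F q n m s} → TiSub F q n m :=
    fun s => ⟨Submodule.span F (Set.range s.1), by
      rw [finrank_span_eq_card s.2.1, Fintype.card_fin], by
      apply span_ti hF
      rintro _ ⟨a, rfl⟩ _ ⟨b, rfl⟩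
      exact s.2.2 a b⟩
  have e := Equiv.sigmaFiberEquiv f
  rw [← Nat.card_congr e]
  haveI : Finite (TiSub F q n m) := inferInstance
  haveI : Fintype (TiSub F q n m) := Fintype.ofFinite _
  rw [Nat.card_sigma]
  have h : ∀ W : TiSub F q n m,
      Nat.card {s : {s : Fin m → (Fin n → F) // TI F q n m s} // f s = W} =
        ∏ i : Fin m, (Fintype.card F ^ m - Fintype.card F ^ (i : ℕ)) := by
    intro W
    rw [← ti_card_bases W.1 m W.2.1 W.2.2]
    apply Nat.card_congr
    exact
      { toFun := fun s => ⟨s.1.1, s.1.2, congrArg Subtype.val s.2⟩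
        invFun := fun y => ⟨⟨y.1, y.2.1⟩, Subtype.ext y.2.2⟩
        left_inv := fun _ => rfl
        right_inv := fun _ => rfl }
  rw [Finset.sum_congr rfl (fun W _ => h W), Finset.sum_const, smul_eq_mul, Finset.card_univ,
    Nat.card_eq_fintype_card]

theorem tiSub_arith (q n m N : ℕ) (hq : 0 < q)
    (h : N * ∏ i : Fin m, ((q ^ 2) ^ m - (q ^ 2) ^ (i : ℕ)) =
      ∏ j ∈ Finset.range m, q ^ (2 * j) * zU q (n - 2 * j)) :
    N * ∏ i : Fin m, ((q ^ 2) ^ (m - (i : ℕ)) - 1) = ∏ i : Fin m, zU q (n - 2 * (i : ℕ)) := by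
  rw [← Fin.prod_univ_eq_prod_range (fun j => q ^ (2 * j) * zU q (n - 2 * j)) m,
    prod_pow_sub_pow (q ^ 2) m m le_rfl, Finset.prod_mul_distrib] at h
  have h1 : ∏ i : Fin m, (q ^ 2) ^ (i : ℕ) = ∏ i : Fin m, q ^ (2 * (i : ℕ)) :=
    Finset.prod_congr rfl (fun i _ => (pow_mul q 2 i).symm)
  rw [h1] at h
  have hpos : 0 < ∏ i : Fin m, q ^ (2 * (i : ℕ)) := Finset.prod_pos (fun i _ => pow_pos hq _)
  apply Nat.eq_of_mul_eq_mul_left hpos
  rw [← h]
  ring

theorem zU_cast_char (p q M : ℕ) [Fact p.Prime] (hpq : p ∣ q) (hq : 0 < q) (hM : 2 ≤ M) :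
    ((zU q M : ℕ) : ZMod p) = -1 := by
  have h0 : (q : ZMod p) = 0 := (ZMod.natCast_eq_zero_iff q p).2 hpq
  unfold zU
  split_ifs with he
  · rw [Nat.cast_mul, Nat.cast_sub (Nat.one_le_pow _ _ hq), Nat.cast_add, Nat.cast_pow,
      Nat.cast_pow, Nat.cast_one, h0, zero_pow (by omega), zero_pow (by omega)]
    ring
  · have hM3 : 3 ≤ M := by
      rcases Nat.lt_or_ge M 3 with h | h
      · exfalso
        apply he
        have : M = 2 := by omega
        rw [this]
        exact even_two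
      · exact h
    rw [Nat.cast_mul, Nat.cast_sub (Nat.one_le_pow _ _ hq), Nat.cast_add, Nat.cast_pow,
      Nat.cast_pow, Nat.cast_one, h0, zero_pow (by omega), zero_pow (by omega)]
    ring

theorem not_dvd_card_tiSub (hF : Fintype.card F = q ^ 2) (p : ℕ) [Fact p.Prime] [CharP F p]
    (n m : ℕ) (hm : 1 ≤ m) (hmn : 2 * m ≤ n) :
    ¬ p ∣ Nat.card (TiSub F q n m) := by
  classical
  have hp : p.Prime := Fact.out
  have hq2 := herm_two_le hF
  have hq : 0 < q := by omega
  have hpq : p ∣ q := by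
    obtain ⟨e, he⟩ := exists_pow_eq hF p
    rcases Nat.eq_zero_or_pos e with h0 | h0
    · rw [h0, pow_zero] at he
      omega
    · rw [he]
      exact dvd_pow_self p (by omega)
  have h1 := card_tiSub_mul hF n m hmn
  rw [hF] at h1
  have h2 := tiSub_arith q n m _ hq h1
  have hcast : ∀ k : ℕ, 1 ≤ k → (((q ^ 2) ^ k - 1 : ℕ) : ZMod p) = -1 := by
    intro k hk
    rw [Nat.cast_sub (Nat.one_le_pow _ _ (pow_pos hq 2)), Nat.cast_pow, Nat.cast_pow, Nat.cast_one]
    have : (q : ZMod p) = 0 := (ZMod.natCast_eq_zero_iff q p).2 hpq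
    rw [this, zero_pow (by omega), zero_pow (by omega), zero_sub]
  have h3 := congrArg (fun x : ℕ => (x : ZMod p)) h2
  simp only [Nat.cast_mul, Nat.cast_prod] at h3
  have e1 : ∏ i : Fin m, (((q ^ 2) ^ (m - (i : ℕ)) - 1 : ℕ) : ZMod p) =
      ∏ _i : Fin m, (-1 : ZMod p) :=
    Finset.prod_congr rfl (fun i _ => hcast (m - (i : ℕ)) (by have := i.2; omega))
  have e2 : ∏ i : Fin m, ((zU q (n - 2 * (i : ℕ)) : ℕ) : ZMod p) =
      ∏ _i : Fin m, (-1 : ZMod p) :=
    Finset.prod_congr rfl (fun i _ => zU_cast_char p q _ hpq hq (by have := i.2; omega))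
  rw [e1, e2] at h3
  intro hd
  have h4 : ((Nat.card (TiSub F q n m) : ℕ) : ZMod p) = 0 := (ZMod.natCast_eq_zero_iff _ p).2 hd
  rw [h4, zero_mul] at h3
  simp only [Finset.prod_const, Finset.card_univ, Fintype.card_fin] at h3
  have h5 : ((-1 : ZMod p) ^ m) ≠ 0 := pow_ne_zero _ (neg_ne_zero.2 one_ne_zero)
  exact h5 h3.symm

theorem exists_dvd_of_dvd_card_tiSub (hF : Fintype.card F = q ^ 2) (r : ℕ) (hr : r.Prime)
    (n m : ℕ) (hmn : 2 * m ≤ n) (h : r ∣ Nat.card (TiSub F q n m)) :
    ∃ M, n < M + 2 * m ∧ M ≤ n ∧ (if Even M then r ∣ q ^ M - 1 else r ∣ q ^ M + 1) := by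
  classical
  have hq2 := herm_two_le hF
  have hq : 0 < q := by omega
  have h1 := card_tiSub_mul hF n m hmn
  rw [hF] at h1
  have h2 := tiSub_arith q n m _ hq h1
  have h3 : r ∣ ∏ i : Fin m, zU q (n - 2 * (i : ℕ)) := by
    rw [← h2]
    exact Dvd.dvd.mul_right h _
  obtain ⟨i, -, hi⟩ := (Prime.dvd_finsetProd_iff hr.prime _).1 h3
  have hi2 := i.2
  unfold zU at hi
  split_ifs at hi with he
  · rcases (Nat.Prime.dvd_mul hr).1 hi with h4 | h4
    · exact ⟨n - 2 * i, by omega, by omega, by rw [if_pos he]; exact h4⟩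
    · refine ⟨n - 2 * i - 1, by omega, by omega, ?_⟩
      have hne : ¬ Even (n - 2 * (i : ℕ) - 1) := by
        intro h5
        have h6 : n - 2 * (i : ℕ) = (n - 2 * (i : ℕ) - 1) + 1 := by omega
        rw [h6, Nat.even_add_one] at he
        exact he h5
      rw [if_neg hne]
      exact h4
  · rcases (Nat.Prime.dvd_mul hr).1 hi with h4 | h4
    · exact ⟨n - 2 * i, by omega, by omega, by rw [if_neg he]; exact h4⟩
    · refine ⟨n - 2 * i - 1, by omega, by omega, ?_⟩
      have hev : Even (n - 2 * (i : ℕ) - 1) := by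
        have h6 : n - 2 * (i : ℕ) = (n - 2 * (i : ℕ) - 1) + 1 := by
          have : n - 2 * (i : ℕ) ≠ 0 := by
            intro h0
            apply he
            rw [h0]
            exact Even.zero
          omega
        rw [h6, Nat.even_add_one, not_not] at he
        exact he
      rw [if_pos hev]
      exact h4

/-- the order of `-q` modulo `r` divides `M` when `r ∣ q^M - (-1)^M` -/
theorem cdvd_of_dvd (q r : ℕ) [Fact r.Prime] (hr2 : r ≠ 2) (hq : 0 < q) (M : ℕ)
    (h : if Even M then r ∣ q ^ M - 1 else r ∣ q ^ M + 1) :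
    (if orderOf (q : ZMod r) % 4 = 0 then orderOf (q : ZMod r)
      else if orderOf (q : ZMod r) % 4 = 2 then orderOf (q : ZMod r) / 2
      else 2 * orderOf (q : ZMod r)) ∣ M := by
  have hr : r.Prime := Fact.out
  set i := orderOf (q : ZMod r) with hi
  split_ifs at h with he
  · have h1 : (q : ZMod r) ^ M = 1 := by
      have h2 : ((q ^ M - 1 : ℕ) : ZMod r) = 0 := (ZMod.natCast_eq_zero_iff _ r).2 h
      rw [Nat.cast_sub (Nat.one_le_pow _ _ hq), Nat.cast_pow, Nat.cast_one, sub_eq_zero] at h2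
      exact h2
    have hiM : i ∣ M := orderOf_dvd_of_pow_eq_one h1
    split_ifs with h4 h4
    · exact hiM
    · exact (Nat.div_dvd_of_dvd (by omega : 2 ∣ i)).trans hiM
    · have hodd : Odd i := by rw [Nat.odd_iff]; omega
      have hcop : Nat.Coprime 2 i := Nat.coprime_two_left.2 hodd
      exact Nat.Coprime.mul_dvd_of_dvd_of_dvd hcop he.two_dvd hiM
  · have hodd : Odd M := Nat.not_even_iff_odd.1 he
    have h1 : (q : ZMod r) ^ M = -1 := by
      have h2 : ((q ^ M + 1 : ℕ) : ZMod r) = 0 := (ZMod.natCast_eq_zero_iff _ r).2 h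
      rw [Nat.cast_add, Nat.cast_pow, Nat.cast_one] at h2
      exact eq_neg_of_add_eq_zero_left h2
    have h2 : (q : ZMod r) ^ (2 * M) = 1 := by
      rw [mul_comm, pow_mul, h1]
      ring
    have hi2M : i ∣ 2 * M := orderOf_dvd_of_pow_eq_one h2
    have hniM : ¬ i ∣ M := by
      intro hd
      have h3 : (q : ZMod r) ^ M = 1 := orderOf_dvd_iff_pow_eq_one.1 hd
      rw [h1] at h3
      have h4 : (2 : ZMod r) = 0 := by
        have : (1 : ZMod r) + 1 = 0 := by
          nth_rewrite 1 [← h3]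
          ring
        rw [← this]
        ring
      have h5 : ((2 : ℕ) : ZMod r) = 0 := by exact_mod_cast h4
      rw [ZMod.natCast_eq_zero_iff] at h5
      exact hr2 ((Nat.prime_dvd_prime_iff_eq hr Nat.prime_two).1 h5)
    obtain ⟨k, hk⟩ := hi2M
    obtain ⟨s, hs⟩ := hodd
    -- i * k = 2 * M, M odd, i ∤ M: i even, i/2 ∣ M, i % 4 = 2
    have hkodd : Odd k := by
      rcases Nat.even_or_odd k with hk2 | hk2
      · exfalso
        obtain ⟨k', hk'⟩ := hk2
        apply hniM
        refine ⟨k', ?_⟩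
        have : 2 * M = 2 * (i * k') := by rw [hk, hk']; ring
        omega
      · exact hk2
    obtain ⟨k', hk'⟩ := hkodd
    have hieven : Even i := by
      rcases Nat.even_or_odd i with h5 | h5
      · exact h5
      · exfalso
        have : Odd (i * k) := h5.mul ⟨k', hk'⟩
        rw [← hk] at this
        exact (Nat.not_even_iff_odd.2 this) (even_two_mul M)
    obtain ⟨i', hi'⟩ := hieven
    have hM : M = i' * k := by
      have : 2 * M = 2 * (i' * k) := by rw [hk, hi']; ring
      omega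
    have hi'odd : Odd i' := by
      rcases Nat.even_or_odd i' with h5 | h5
      · exfalso
        have : Even M := by rw [hM]; exact h5.mul_right k
        exact he this
      · exact h5
    obtain ⟨i'', hi''⟩ := hi'odd
    have hmod : i % 4 = 2 := by omega
    rw [if_neg (by omega), if_pos hmod]
    have : i / 2 = i' := by omega
    rw [this, hM]
    exact Dvd.intro _ rfl

/-- consequences of `r ∣ |Ω|` for odd `r` -/
theorem count_consequence (hF : Fintype.card F = q ^ 2) (r : ℕ) [Fact r.Prime] (hr2 : r ≠ 2)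
    (n m : ℕ) (hmn : 2 * m ≤ n) (h : r ∣ Nat.card (TiSub F q n m)) (c : ℕ)
    (hc : c = if orderOf (q : ZMod r) % 4 = 0 then orderOf (q : ZMod r)
      else if orderOf (q : ZMod r) % 4 = 2 then orderOf (q : ZMod r) / 2
      else 2 * orderOf (q : ZMod r)) :
    c ≤ n ∧ n % c < 2 * m := by
  classical
  have hq2 := herm_two_le hF
  obtain ⟨M, hM1, hM2, hM3⟩ := exists_dvd_of_dvd_card_tiSub hF r Fact.out n m hmn h
  have hcd := cdvd_of_dvd q r hr2 (by omega) M hM3
  rw [← hc] at hcd
  obtain ⟨k, hk⟩ := hcd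
  have hMpos : 0 < M := by omega
  have hkpos : 0 < k := by
    rcases Nat.eq_zero_or_pos k with h0 | h0
    · rw [h0, mul_zero] at hk
      omega
    · exact h0
  have hcM : c ≤ M := by
    rw [hk]
    exact Nat.le_mul_of_pos_right c hkpos
  refine ⟨by omega, ?_⟩
  have h1 : n % c = (n - M) % c := by
    have : n = (n - M) + c * k := by omega
    nth_rewrite 1 [this]
    exact Nat.add_mul_mod_self_left _ _ _
  rw [h1]
  have := Nat.mod_le (n - M) c
  omega

end count

end Cfsg.Agent.Lib.Helper12.Un
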