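import Mathlib
import Cfsg.Agent.Lib.Helper12.UnE
import Cfsg.Agent.Lib.Helper15.PrimeOrderClasses
import Cfsg.Agent.Lib.Helper15.UnitaryCent

set_option autoImplicit false

namespace Cfsg.Agent.Lib.Helper12.Un

open Module Polynomial Cfsg.Agent.Lib.Helper12.Elus Cfsg.Agent.Lib.Helper15
  Cfsg.Agent.Lib.Helper15.SemisimpleConj Cfsg.Agent.Lib.Helper15.PrimeOrderClasses

section kd

universe u

variable {F : Type*} [Field F]

/-- kernel dimensions of an endomorphism killed by a squarefree product of monic irreducibles -/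
theorem ker_dims_of_family {ι : Type*} [Fintype ι] [DecidableEq ι] (h : ι → F[X])
    (hmon : ∀ o, (h o).Monic) (hirr : ∀ o, Irreducible (h o)) (hsq : Squarefree (∏ o, h o)) :
    ∀ (n : ℕ) (V : Type u) [AddCommGroup V] [Module F V] [FiniteDimensional F V] (T : End F V),
      finrank F V = n → aeval T (∏ o, h o) = 0 →
      ∃ e : ι → ℕ, T.charpoly = ∏ o, h o ^ e o ∧
        ∀ o, finrank F (LinearMap.ker (aeval T (h o))) = e o * (h o).natDegree := by
  intro n
  induction n using Nat.strong_induction_on with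
  | _ n ih =>
    intro V _ _ _ T hn hT
    rcases Nat.eq_zero_or_pos n with h0 | hpos
    · refine ⟨0, ?_, ?_⟩
      · have h1 : T.charpoly = 1 := by
          apply Polynomial.eq_one_of_monic_natDegree_zero (LinearMap.charpoly_monic T)
          rw [LinearMap.charpoly_natDegree, hn, h0]
        rw [h1]; simp
      · intro o
        rw [Pi.zero_apply, zero_mul]
        have : finrank F (LinearMap.ker (aeval T (h o))) ≤ finrank F V := Submodule.finrank_le _
        omega
    · have hnt : Nontrivial V := by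
        rw [← finrank_pos_iff (R := F)]; omega
      obtain ⟨ℓ, U, hℓ, hU, hirrℓ, hc⟩ := exists_split _ hsq T hT
      obtain ⟨E, hE⟩ := conj_prodMap_of_isCompl T ℓ U hℓ hU hc
      have hcpT : T.charpoly = (T.restrict hℓ).charpoly * (T.restrict hU).charpoly := by
        rw [← (conj_prodMap_of_isCompl T ℓ U hℓ hU hc).charpoly_eq, LinearMap.charpoly_prodMap]
      have h1 : minpoly F (T.restrict hℓ) ∣ ∏ o, h o :=
        minpoly.dvd F _ (aeval_restrict_eq_zero T ℓ hℓ _ hT)
      have h2 := minpoly_irreducible_of_irrAct _ hirrℓ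
      obtain ⟨o₀, -, ho₀⟩ := (h2.prime).exists_mem_finset_dvd h1
      have hmin : minpoly F (T.restrict hℓ) = h o₀ :=
        Polynomial.eq_of_monic_of_associated
          (minpoly.monic (Algebra.IsIntegral.isIntegral (R := F) _)) (hmon o₀)
          (h2.associated_of_dvd (hirr o₀) ho₀)
      have hcℓ : (T.restrict hℓ).charpoly = h o₀ := by
        rw [charpoly_eq_minpoly_of_irrAct _ hirrℓ, hmin]
      have hfℓ : 0 < finrank F ℓ := by
        haveI := hirrℓ.1
        exact finrank_pos
      have hdegℓ : finrank F ℓ = (h o₀).natDegree := by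
        rw [← hcℓ, LinearMap.charpoly_natDegree]
      have hsum := Submodule.finrank_add_eq_of_isCompl hc
      have hlt : finrank F U < n := by omega
      obtain ⟨e', he', hk'⟩ := ih (finrank F U) hlt U (T.restrict hU) rfl
        (aeval_restrict_eq_zero T U hU _ hT)
      have hcop := family_coprime h hmon hirr hsq
      refine ⟨fun o => e' o + (if o = o₀ then 1 else 0), ?_, ?_⟩
      · rw [hcpT, hcℓ, he']
        simp only [pow_add, Finset.prod_mul_distrib, pow_ite, pow_one, pow_zero,
          Finset.prod_ite_eq', Finset.mem_univ, if_true]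
        rw [mul_comm]
      · intro o
        -- transport along the conjugacy
        have hTE : T = E.conj ((T.restrict hℓ).prodMap (T.restrict hU)) := by
          apply LinearMap.ext
          intro v
          rw [LinearEquiv.conj_apply]
          show T v = E (((T.restrict hℓ).prodMap (T.restrict hU)) (E.symm v))
          rw [hE, E.apply_symm_apply]
        have h3 : finrank F (LinearMap.ker (aeval T (h o))) =
            finrank F (LinearMap.ker (aeval (T.restrict hℓ) (h o))) +
              finrank F (LinearMap.ker (aeval (T.restrict hU) (h o))) := by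
          have h8 : aeval T (h o) =
              E.conj (aeval ((T.restrict hℓ).prodMap (T.restrict hU)) (h o)) := by
            rw [← Sp.aeval_conj, ← hTE]
          rw [h8, Sp.finrank_ker_conj, Sp.aeval_prodMap, Sp.finrank_ker_prodMap]
        rw [h3, hk' o, add_mul]
        have h4 : finrank F (LinearMap.ker (aeval (T.restrict hℓ) (h o))) =
            (if o = o₀ then 1 else 0) * (h o).natDegree := by
          by_cases ho : o = o₀
          · rw [if_pos ho, one_mul, ho, ← hmin, minpoly.aeval, LinearMap.ker_zero, finrank_top,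
              hdegℓ, hmin]
          · rw [if_neg ho, zero_mul]
            rcases hirrℓ.2 _ (ker_aeval_mem_invt (T.restrict hℓ) (h o)) with hb | ht
            · rw [hb, finrank_bot]
            · exfalso
              have h5 : aeval (T.restrict hℓ) (h o) = 0 := LinearMap.ker_eq_top.1 ht
              have h6 : h o₀ ∣ h o := by
                rw [← hmin]
                exact minpoly.dvd F _ h5
              have h7 := hcop o₀ o (Ne.symm ho)
              exact (hirr o₀).not_isUnit (h7.isUnit_of_dvd' dvd_rfl h6)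
        rw [h4]
        ring

end kd

section ml

variable {K : Type*} [Field K] [Fintype K]

open Cfsg.Agent.Lib.Helper14 Cfsg.Agent.Lib.Helper15.UnitaryCent

omit [Fintype K] in
theorem charpoly_toLin'_eq {n : ℕ} (g : Matrix (Fin n) (Fin n) K) :
    (Matrix.toLin' g).charpoly = g.charpoly := by
  rw [← LinearMap.charpoly_toMatrix (Matrix.toLin' g) (Pi.basisFun K (Fin n)),
    LinearMap.toMatrix_eq_toMatrix', LinearMap.toMatrix'_toLin']

omit [Fintype K] in
theorem aeval_toLin'_eq {n : ℕ} (g : Matrix (Fin n) (Fin n) K) (P : K[X]) :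
    aeval (Matrix.toLin' g) P = Matrix.toLin' (aeval g P) :=
  (Polynomial.aeval_algHom_apply (Matrix.toLinAlgEquiv' : Matrix (Fin n) (Fin n) K ≃ₐ[K] _).toAlgHom
    g P)

/-- a unitary matrix with `g ^ r = z` from a self-reciprocal characteristic polynomial dividing a
power of the squarefree polynomial `X^r - z` -/
theorem exists_uni_of_charpoly {p q : ℕ} [Fact p.Prime] [CharP K p]
    (hK : Fintype.card K = q ^ 2) (σ : K →+* K) (hσ : ∀ c, σ c = c ^ q) (r : ℕ) (z : K)
    (n : ℕ) (f : K[X]) (hm : f.Monic) (hdeg : f.natDegree = n)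
    (hstar : StarPoly.star σ f = f) (N' : ℕ) (hdvd : f ∣ (X ^ r - C z) ^ N') (hz : z ≠ 0)
    (hr : 0 < r) :
    ∃ g : Matrix (Fin n) (Fin n) K, IsUni K q n g ∧ g.charpoly = f ∧ g ^ r = z • 1 := by
  classical
  have h0 : f.coeff 0 ≠ 0 := by
    intro hc
    rw [coeff_zero_eq_eval_zero] at hc
    obtain ⟨w, hw⟩ := hdvd
    have := congrArg (eval 0) hw
    rw [eval_mul, hc, zero_mul, eval_pow, eval_sub, eval_pow, eval_X, eval_C, zero_pow hr.ne',
      zero_sub] at this
    exact (pow_ne_zero _ (neg_ne_zero.2 hz)) this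
  obtain ⟨g, hg, hgf, N, hN, hgN⟩ := exists_unitary_of_charpoly hK σ hσ n f hm hdeg h0 hstar
  refine ⟨g, hg, hgf, ?_⟩
  rcases Nat.eq_zero_or_pos n with hn0 | hnpos
  · subst hn0
    exact Subsingleton.elim _ _
  haveI : NeZero n := ⟨hnpos.ne'⟩
  have hN0 : N ≠ 0 := by
    intro hz'
    rw [hz', Nat.cast_zero] at hN
    exact hN rfl
  have hsq : Squarefree (X ^ N - 1 : K[X]) := by
    have := (separable_X_pow_sub_C (1 : K) hN one_ne_zero).squarefree
    rwa [map_one] at this
  have h1 : minpoly K g ∣ X ^ N - 1 := by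
    apply minpoly.dvd
    rw [map_sub, map_pow, aeval_X, map_one, hgN, sub_self]
  have hsqm : Squarefree (minpoly K g) := hsq.squarefree_of_dvd h1
  have h2 : minpoly K g ∣ (X ^ r - C z) ^ N' := by
    have := Matrix.minpoly_dvd_charpoly g
    rw [hgf] at this
    exact this.trans hdvd
  have hN'0 : N' ≠ 0 := by
    intro h3
    rw [h3, pow_zero] at h2
    have h4 := isUnit_of_dvd_one h2
    have h5 := minpoly.not_isUnit K g
    exact h5 h4
  have h3 : minpoly K g ∣ X ^ r - C z := (hsqm.dvd_pow_iff_dvd hN'0).1 h2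
  obtain ⟨w, hw⟩ := h3
  have h4 := congrArg (aeval g) hw
  rw [map_mul, minpoly.aeval, zero_mul, map_sub, map_pow, aeval_X, aeval_C, sub_eq_zero] at h4
  rw [h4, Algebra.algebraMap_eq_smul_one]

end ml

section core

variable {K : Type*} [Field K] [Fintype K]

open Cfsg.Agent.Lib.Helper14 Cfsg.Agent.Lib.Helper15.UnitaryCent

/-- no non-trivial `r`-th roots of unity when `ord_r |K| > 1` -/
theorem root_unity_trivial (r : ℕ) [Fact r.Prime]
    (hb : 1 < orderOf (Fintype.card K : ZMod r)) (δ : K) (hδ : δ ^ r = 1) : δ = 1 := by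
  have hr : r.Prime := Fact.out
  by_contra hne
  have hδ0 : δ ≠ 0 := by
    intro h0
    rw [h0, zero_pow hr.pos.ne'] at hδ
    exact zero_ne_one hδ
  have hord : orderOf δ = r := orderOf_eq_prime hδ hne
  have h1 : δ ^ (Fintype.card K - 1) = 1 := FiniteField.pow_card_sub_one_eq_one δ hδ0
  have h2 : r ∣ Fintype.card K - 1 := by
    rw [← hord]
    exact orderOf_dvd_of_pow_eq_one h1
  have h3 : ((Fintype.card K : ℕ) : ZMod r) = 1 := by
    have hpos : 1 ≤ Fintype.card K := Fintype.card_pos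
    have h4 : (((Fintype.card K - 1 : ℕ)) : ZMod r) = 0 := (ZMod.natCast_eq_zero_iff _ r).2 h2
    rw [Nat.cast_sub hpos, Nat.cast_one, sub_eq_zero] at h4
    exact h4
  rw [h3, orderOf_one] at hb
  exact lt_irrefl _ hb

omit [Fintype K] in
theorem natDegree_X_sub_one' : (X - 1 : K[X]).natDegree = 1 := by
  have h1 : (X - 1 : K[X]) = X - C 1 := by rw [C_1]
  rw [h1]
  exact natDegree_X_sub_C 1

omit [Fintype K] in
theorem monic_X_sub_one' : (X - 1 : K[X]).Monic := by
  have h1 : (X - 1 : K[X]) = X - C 1 := by rw [C_1]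
  rw [h1]
  exact monic_X_sub_C 1

omit [Fintype K] in
theorem not_isUnit_X_sub_one' : ¬ IsUnit (X - 1 : K[X]) := by
  intro hu
  have := natDegree_eq_zero_of_isUnit hu
  rw [natDegree_X_sub_one'] at this
  exact one_ne_zero this

omit [Fintype K] in
theorem fixE_eq_ker_aeval {V : Type*} [AddCommGroup V] [Module K V] (T : V →ₗ[K] V) :
    fixE T = LinearMap.ker (aeval T (X - 1 : K[X])) := by
  rw [map_sub, aeval_X, map_one]
  rfl

/-- the core model: characteristic polynomial `(X-1)^a * G` -/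
theorem model_core {p q : ℕ} [Fact p.Prime] [CharP K p] (hK : Fintype.card K = q ^ 2)
    (σ : K →+* K) (hσ : ∀ c, σ c = c ^ q) (r : ℕ) [Fact r.Prime] (hrp : r ≠ p)
    (hb : 1 < orderOf (Fintype.card K : ZMod r))
    {t : ℕ} (h : Option (Fin t) → K[X]) (hmon : ∀ o, (h o).Monic) (hirr : ∀ o, Irreducible (h o))
    (hnone : h none = X - 1) (hprod : ∏ o, h o = X ^ r - 1)
    (G : K[X]) (hGm : G.Monic) (hGs : StarPoly.star σ G = G) (N' : ℕ)
    (hGd : G ∣ (X ^ r - 1) ^ N') (hG1 : IsCoprime (X - 1 : K[X]) G) (n a : ℕ)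
    (hn : n = a + G.natDegree) (han : a < n) :
    ∃ g : Matrix (Fin n) (Fin n) K, IsUni K q n g ∧ g.det = 1 ∧ g ^ r = 1 ∧
      (∀ z : K, g ≠ z • (1 : Matrix (Fin n) (Fin n) K)) ∧
      finrank K (fixE (Matrix.toLin' g)) ≤ a ∧
      ∀ j : Fin t, ∃ e, (h (some j)) ^ e ∣ G ∧
        finrank K (LinearMap.ker (aeval (Matrix.toLin' g) (h (some j)))) =
          e * (h (some j)).natDegree := by
  classical
  have hr : r.Prime := Fact.out
  have hr0 : (r : K) ≠ 0 := by
    rw [Ne, CharP.cast_eq_zero_iff K p]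
    intro hd
    exact hrp ((Nat.prime_dvd_prime_iff_eq Fact.out Fact.out).1 hd).symm
  have hnpos : 0 < n := by omega
  haveI : NeZero n := ⟨hnpos.ne'⟩
  set f : K[X] := (X - 1) ^ a * G with hf
  have hfm : f.Monic := (monic_X_sub_one'.pow a).mul hGm
  have hfdeg : f.natDegree = n := by
    rw [hf, (monic_X_sub_one'.pow a).natDegree_mul hGm, monic_X_sub_one'.natDegree_pow,
      natDegree_X_sub_one', hn]
    ring
  have hfs : StarPoly.star σ f = f := by
    rw [hf, StarPoly.star_mul, StarPoly.star_pow, StarPoly.star_X_sub_one, hGs]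
  have hX1 : (X - 1 : K[X]) ∣ X ^ r - 1 := by
    rw [← hprod, ← hnone]
    exact Finset.dvd_prod_of_mem _ (Finset.mem_univ none)
  have hfd : f ∣ (X ^ r - C 1) ^ (a + N') := by
    rw [C_1, pow_add, hf]
    exact mul_dvd_mul (pow_dvd_pow_of_dvd hX1 a) hGd
  obtain ⟨g, hg, hgf, hgr⟩ := exists_uni_of_charpoly hK σ hσ r 1 n f hfm hfdeg hfs (a + N') hfd
    one_ne_zero hr.pos
  rw [one_smul] at hgr
  set T := Matrix.toLin' g with hT
  have hTr : T ^ r = 1 := by
    rw [hT, ← Matrix.toLin'_pow, hgr, Matrix.toLin'_one]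
    rfl
  have hsq : Squarefree (∏ o, h o) := by
    rw [hprod]
    have := (separable_X_pow_sub_C (1 : K) hr0 one_ne_zero).squarefree
    rwa [map_one] at this
  have hTall : aeval T (∏ o, h o) = 0 := by
    rw [hprod, map_sub, map_pow, aeval_X, map_one, hTr, sub_self]
  obtain ⟨e, he, hk⟩ := ker_dims_of_family h hmon hirr hsq n (Fin n → K) T
    (by rw [Module.finrank_fin_fun]) hTall
  rw [hT, charpoly_toLin'_eq, hgf] at he
  have hcop := family_coprime h hmon hirr hsq
  have hdet : g.det = 1 := by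
    apply root_unity_trivial r hb
    rw [← Matrix.det_pow, hgr, Matrix.det_one]
  have hfix : finrank K (fixE T) ≤ a := by
    rw [fixE_eq_ker_aeval, ← hnone, hk none, hnone, natDegree_X_sub_one', mul_one]
    by_contra hlt
    push Not at hlt
    have h1 : (X - 1 : K[X]) ^ (a + 1) ∣ (X - 1) ^ a * G := by
      have h2 : (X - 1 : K[X]) ^ (a + 1) ∣ (h none) ^ (e none) := by
        rw [hnone]
        exact pow_dvd_pow _ hlt
      have h3 : (h none) ^ (e none) ∣ ∏ o, h o ^ e o :=
        Finset.dvd_prod_of_mem (fun o => h o ^ e o) (Finset.mem_univ none)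
      rw [← he] at h3
      exact h2.trans h3
    rw [pow_succ] at h1
    have h2 : (X - 1 : K[X]) ∣ G :=
      (mul_dvd_mul_iff_left (pow_ne_zero a monic_X_sub_one'.ne_zero)).1 h1
    exact not_isUnit_X_sub_one' (hG1.isUnit_of_dvd' dvd_rfl h2)
  refine ⟨g, hg, hdet, hgr, ?_, hfix, ?_⟩
  · intro z hz
    have h1 : z ^ r = 1 := by
      have h2 := hgr
      rw [hz, _root_.smul_pow, one_pow] at h2
      have h3 := congrFun (congrFun h2 ⟨0, hnpos⟩) ⟨0, hnpos⟩
      rw [Matrix.smul_apply, Matrix.one_apply_eq, smul_eq_mul, mul_one] at h3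
      exact h3
    have h2 := root_unity_trivial r hb z h1
    rw [h2, one_smul] at hz
    have h3 : fixE T = ⊤ := by
      rw [eq_top_iff]
      intro v _
      rw [mem_fixE, hT, hz, Matrix.toLin'_one]
      rfl
    rw [h3, finrank_top, Module.finrank_fin_fun] at hfix
    omega
  · intro j
    refine ⟨e (some j), ?_, hk (some j)⟩
    have h1 : (h (some j)) ^ (e (some j)) ∣ (X - 1) ^ a * G := by
      rw [← hf, he]
      exact Finset.dvd_prod_of_mem (fun o => h o ^ e o) (Finset.mem_univ (some j))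
    have h2 : IsCoprime ((h (some j)) ^ (e (some j))) ((X - 1 : K[X]) ^ a) := by
      apply IsCoprime.pow
      rw [← hnone]
      exact hcop (some j) none (by simp)
    exact h2.dvd_of_dvd_mul_left h1

end core

section models

variable {K : Type*} [Field K] [Fintype K]

open Cfsg.Agent.Lib.Helper14 Cfsg.Agent.Lib.Helper15.UnitaryCent

omit [Fintype K] in
theorem coeff_zero_ne_zero_of_dvd (r : ℕ) (hr : 0 < r) (h : K[X]) (hd : h ∣ X ^ r - 1) :
    h.coeff 0 ≠ 0 := by
  intro hc
  rw [coeff_zero_eq_eval_zero] at hc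
  obtain ⟨g, hg⟩ := hd
  have := congrArg (eval 0) hg
  rw [eval_mul, hc, zero_mul, eval_sub, eval_pow, eval_X, eval_one, zero_pow hr.ne',
    zero_sub] at this
  exact one_ne_zero (neg_eq_zero.1 this)

/-- self-duality of the irreducible factors in the case `ord_r(q) ≡ 2 (mod 4)` -/
theorem star_eq_self_of_mod_four {p q : ℕ} [Fact p.Prime] [CharP K p]
    (hK : Fintype.card K = q ^ 2) (e : ℕ) (hqe : q = p ^ e)
    (σ : K →+* K) (hσ : ∀ c, σ c = c ^ q) (r : ℕ) [Fact r.Prime]
    (hmod : orderOf (q : ZMod r) % 4 = 2) (h : K[X]) (hm : h.Monic) (hirr : Irreducible h)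
    (hdvd : h ∣ X ^ r - 1) (hne : h ≠ X - 1) : StarPoly.star σ h = h := by
  have hσσ : ∀ c, σ (σ c) = c := by
    intro c
    rw [hσ, hσ, ← pow_mul, ← sq, ← hK, FiniteField.pow_card]
  rw [StarPoly.star_eq_self_iff p e σ (fun c => by rw [hσ, hqe]) hσσ r Fact.out h hm hirr hdvd hne]
  obtain ⟨j, hj, -⟩ := exists_dvd_of_mod_four q r hmod
  refine ⟨j + 1, ?_⟩
  rw [Nat.card_eq_fintype_card, hK, ← hqe, ZMod.natCast_eq_zero_iff]
  have : q + (q ^ 2) ^ (j + 1) = q * (q ^ (2 * j + 1) + 1) := by ring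
  rw [this]
  exact Dvd.dvd.mul_left hj q

/-- model (N1): the fixed space has dimension at most `n % c` -/
theorem exists_model1 {p q : ℕ} [Fact p.Prime] [CharP K p] (hK : Fintype.card K = q ^ 2)
    (e : ℕ) (hqe : q = p ^ e) (σ : K →+* K) (hσ : ∀ c, σ c = c ^ q) (r : ℕ) [Fact r.Prime]
    (hrp : r ≠ p) (hb : 1 < orderOf (Fintype.card K : ZMod r)) (n c : ℕ)
    (hc : c = if orderOf (q : ZMod r) % 4 = 2 then orderOf (Fintype.card K : ZMod r)
      else 2 * orderOf (Fintype.card K : ZMod r)) (hcn : c ≤ n) :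
    ∃ g : Matrix (Fin n) (Fin n) K, IsUni K q n g ∧ g.det = 1 ∧ g ^ r = 1 ∧
      (∀ z : K, g ≠ z • (1 : Matrix (Fin n) (Fin n) K)) ∧
      finrank K (fixE (Matrix.toLin' g)) ≤ n % c := by
  classical
  have hr : r.Prime := Fact.out
  have hr0 : (r : K) ≠ 0 := by
    rw [Ne, CharP.cast_eq_zero_iff K p]
    intro hd
    exact hrp ((Nat.prime_dvd_prime_iff_eq Fact.out Fact.out).1 hd).symm
  have hσσ : ∀ c, σ (σ c) = c := by
    intro c
    rw [hσ, hσ, ← pow_mul, ← sq, ← hK, FiniteField.pow_card]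
  set i₀ := orderOf (Fintype.card K : ZMod r) with hi₀
  have hq0 : ((Fintype.card K : ℕ) : ZMod r) ≠ 0 := by
    rw [Ne, ZMod.natCast_eq_zero_iff]
    exact card_not_dvd (F := K) r hr hrp
  have hidvd' : i₀ ∣ r - 1 := orderOf_dvd_of_pow_eq_one (ZMod.pow_card_sub_one_eq_one hq0)
  set t := (r - 1) / i₀ with ht
  have hti : t * i₀ = r - 1 := Nat.div_mul_cancel hidvd'
  have ht1 : 0 < t := by
    rcases Nat.eq_zero_or_pos t with h0 | h0
    · rw [h0, zero_mul] at hti
      have := hr.two_le
      omega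
    · exact h0
  obtain ⟨h, hmon, hirr, hnone, hdeg, hprod⟩ :=
    PrimeOrderClasses.exists_factor_family (F := K) (p := p) rfl r i₀ t hr hrp hi₀ hti
  have hsq : Squarefree (∏ o, h o) := by
    rw [hprod]
    have := (separable_X_pow_sub_C (1 : K) hr0 one_ne_zero).squarefree
    rwa [map_one] at this
  have hcop := family_coprime h hmon hirr hsq
  set h₁ := h (some ⟨0, ht1⟩) with hh₁
  have hh₁d : h₁ ∣ X ^ r - 1 := by
    rw [← hprod]
    exact Finset.dvd_prod_of_mem _ (Finset.mem_univ _)
  have hh₁ne : h₁ ≠ X - 1 := by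
    intro heq
    have := hcop (some ⟨0, ht1⟩) none (by simp)
    rw [← hh₁, hnone, heq] at this
    exact not_isUnit_X_sub_one' (this.isUnit_of_dvd' dvd_rfl dvd_rfl)
  have hh₁0 : h₁.coeff 0 ≠ 0 := coeff_zero_ne_zero_of_dvd r hr.pos h₁ hh₁d
  have hh₁deg : h₁.natDegree = i₀ := hdeg _
  have hcpos : 0 < c := by
    rw [hc]
    split_ifs <;> omega
  have hcop1 : IsCoprime (X - 1 : K[X]) h₁ := by
    rw [← hnone]
    exact hcop none (some ⟨0, ht1⟩) (by simp)
  by_cases hmod : orderOf (q : ZMod r) % 4 = 2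
  · rw [if_pos hmod] at hc
    have hstar : StarPoly.star σ h₁ = h₁ :=
      star_eq_self_of_mod_four hK e hqe σ hσ r hmod h₁ (hmon _) (hirr _) hh₁d hh₁ne
    obtain ⟨g, hg1, hg2, hg3, hg4, hg5, -⟩ := model_core hK σ hσ r hrp hb h hmon hirr hnone hprod
      (h₁ ^ (n / c)) ((hmon _).pow _) (by rw [StarPoly.star_pow, hstar]) (n / c)
      (pow_dvd_pow_of_dvd hh₁d _) hcop1.pow_right n (n % c)
      (by rw [(hmon _).natDegree_pow, hh₁deg, ← hc, mul_comm]; exact (Nat.mod_add_div n c).symm)
      (lt_of_lt_of_le (Nat.mod_lt _ hcpos) hcn)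
    exact ⟨g, hg1, hg2, hg3, hg4, hg5⟩
  · rw [if_neg hmod] at hc
    set h₂ := StarPoly.star σ h₁ with hh₂
    have hh₂m : h₂.Monic := StarPoly.monic_star σ h₁ hh₁0
    have hh₂deg : h₂.natDegree = i₀ := by rw [hh₂, StarPoly.natDegree_star σ h₁ hh₁0, hh₁deg]
    have hh₂irr : Irreducible h₂ := StarPoly.irreducible_star σ hσσ h₁ (hmon _) hh₁0 (hirr _)
    have hh₂d : h₂ ∣ X ^ r - 1 := by
      obtain ⟨w, hw⟩ := hh₁d
      refine ⟨StarPoly.star σ w, ?_⟩
      rw [hh₂, ← StarPoly.star_mul, ← hw, StarPoly.star_X_pow_sub_one σ r hr.pos]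
    have hstar2 : StarPoly.star σ h₂ = h₁ := StarPoly.star_star σ hσσ h₁ (hmon _) hh₁0
    have hcop2 : IsCoprime (X - 1 : K[X]) h₂ := by
      have hX : Irreducible (X - 1 : K[X]) := by
        have h1 : (X - 1 : K[X]) = X - C 1 := by rw [C_1]
        rw [h1]
        exact irreducible_X_sub_C 1
      rw [hX.coprime_iff_not_dvd]
      intro hd
      have heq : (X - 1 : K[X]) = h₂ :=
        Polynomial.eq_of_monic_of_associated monic_X_sub_one' hh₂m
          (hX.associated_of_dvd hh₂irr hd)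
      apply hh₁ne
      rw [← hstar2, ← heq, StarPoly.star_X_sub_one]
    obtain ⟨g, hg1, hg2, hg3, hg4, hg5, -⟩ := model_core hK σ hσ r hrp hb h hmon hirr hnone hprod
      ((h₁ * h₂) ^ (n / c)) (((hmon _).mul hh₂m).pow _)
      (by rw [StarPoly.star_pow, StarPoly.star_mul, hstar2, ← hh₂, mul_comm]) (2 * (n / c))
      (by
        rw [pow_mul]
        apply pow_dvd_pow_of_dvd
        rw [sq]
        exact mul_dvd_mul hh₁d hh₂d)
      (hcop1.mul_right hcop2).pow_right n (n % c)
      (by
        rw [((hmon _).mul hh₂m).natDegree_pow, (hmon _).natDegree_mul hh₂m, hh₁deg, hh₂deg,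
          ← two_mul, ← hc, mul_comm]
        exact (Nat.mod_add_div n c).symm)
      (lt_of_lt_of_le (Nat.mod_lt _ hcpos) hcn)
    exact ⟨g, hg1, hg2, hg3, hg4, hg5⟩

/-- model (N3): distinct self-dual factors, each with multiplicity one -/
theorem exists_model3 {p q : ℕ} [Fact p.Prime] [CharP K p] (hK : Fintype.card K = q ^ 2)
    (e : ℕ) (hqe : q = p ^ e) (σ : K →+* K) (hσ : ∀ c, σ c = c ^ q) (r : ℕ) [Fact r.Prime]
    (hrp : r ≠ p) (hb : 1 < orderOf (Fintype.card K : ZMod r))
    (hmod : orderOf (q : ZMod r) % 4 = 2)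
    {t : ℕ} (h : Option (Fin t) → K[X]) (hmon : ∀ o, (h o).Monic) (hirr : ∀ o, Irreducible (h o))
    (hnone : h none = X - 1)
    (hdeg : ∀ j, (h (some j)).natDegree = orderOf (Fintype.card K : ZMod r))
    (hprod : ∏ o, h o = X ^ r - 1) (n a s : ℕ) (hs1 : 1 ≤ s) (hst : s ≤ t)
    (hn : n = a + orderOf (Fintype.card K : ZMod r) * s) :
    ∃ g : Matrix (Fin n) (Fin n) K, IsUni K q n g ∧ g.det = 1 ∧ g ^ r = 1 ∧
      (∀ z : K, g ≠ z • (1 : Matrix (Fin n) (Fin n) K)) ∧
      finrank K (fixE (Matrix.toLin' g)) ≤ a ∧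
      ∀ j : Fin t, finrank K (LinearMap.ker (aeval (Matrix.toLin' g) (h (some j)))) ≤
        orderOf (Fintype.card K : ZMod r) := by
  classical
  have hr : r.Prime := Fact.out
  have hr0 : (r : K) ≠ 0 := by
    rw [Ne, CharP.cast_eq_zero_iff K p]
    intro hd
    exact hrp ((Nat.prime_dvd_prime_iff_eq Fact.out Fact.out).1 hd).symm
  set i₀ := orderOf (Fintype.card K : ZMod r) with hi₀
  have hsq : Squarefree (∏ o, h o) := by
    rw [hprod]
    have := (separable_X_pow_sub_C (1 : K) hr0 one_ne_zero).squarefree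
    rwa [map_one] at this
  have hcop := family_coprime h hmon hirr hsq
  have hdvd : ∀ o, h o ∣ X ^ r - 1 := by
    intro o
    rw [← hprod]
    exact Finset.dvd_prod_of_mem _ (Finset.mem_univ _)
  have hne : ∀ j, h (some j) ≠ X - 1 := by
    intro j heq
    have := hcop (some j) none (by simp)
    rw [hnone, heq] at this
    exact not_isUnit_X_sub_one' (this.isUnit_of_dvd' dvd_rfl dvd_rfl)
  have hstar : ∀ j, StarPoly.star σ (h (some j)) = h (some j) := fun j =>
    star_eq_self_of_mod_four hK e hqe σ hσ r hmod _ (hmon _) (hirr _) (hdvd _) (hne j)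
  set G : K[X] := ∏ k : Fin s, h (some (Fin.castLE hst k)) with hG
  have hGm : G.Monic := monic_prod_of_monic _ _ (fun k _ => hmon _)
  have hGdeg : G.natDegree = i₀ * s := by
    rw [hG, natDegree_prod_of_monic _ _ (fun k _ => hmon _)]
    rw [Finset.sum_congr rfl (fun k _ => hdeg _), Finset.sum_const, Finset.card_univ,
      Fintype.card_fin, smul_eq_mul, mul_comm]
  have hGdvd : G ∣ ∏ o, h o := by
    have hinj : Function.Injective (fun k : Fin s => (some (Fin.castLE hst k) : Option (Fin t))) := by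
      intro k k' hkk
      have := Option.some.inj hkk
      exact Fin.castLE_injective hst this
    have h1 : G = ∏ o ∈ Finset.univ.image
        (fun k : Fin s => (some (Fin.castLE hst k) : Option (Fin t))), h o := by
      rw [Finset.prod_image (fun a _ b _ hab => hinj hab)]
    rw [h1]
    exact Finset.prod_dvd_prod_of_subset _ _ _ (Finset.subset_univ _)
  have hGsq : Squarefree G := hsq.squarefree_of_dvd hGdvd
  have hGs : StarPoly.star σ G = G := by
    rw [hG, StarPoly.star_prod]
    exact Finset.prod_congr rfl (fun k _ => hstar _)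
  have hG1 : IsCoprime (X - 1 : K[X]) G := by
    rw [hG]
    apply IsCoprime.prod_right
    intro k _
    rw [← hnone]
    exact hcop none _ (by simp)
  have hipos : 0 < i₀ := by omega
  obtain ⟨g, hg1, hg2, hg3, hg4, hg5, hg6⟩ := model_core hK σ hσ r hrp hb h hmon hirr hnone hprod
    G hGm hGs 1 (by rw [pow_one, ← hprod]; exact hGdvd) hG1 n a (by rw [hGdeg]; exact hn)
    (by
      have : 0 < i₀ * s := Nat.mul_pos hipos (by omega)
      omega)
  refine ⟨g, hg1, hg2, hg3, hg4, hg5, ?_⟩
  intro j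
  obtain ⟨e', he', hk⟩ := hg6 j
  rw [hk, hdeg]
  have he1 : e' ≤ 1 := by
    by_contra hlt
    push Not at hlt
    have h1 : h (some j) * h (some j) ∣ G := by
      have h2 : h (some j) * h (some j) ∣ (h (some j)) ^ e' := by
        rw [← sq]
        exact pow_dvd_pow _ hlt
      exact h2.trans he'
    exact (hirr (some j)).not_isUnit (hGsq _ h1)
  calc e' * i₀ ≤ 1 * i₀ := Nat.mul_le_mul_right _ he1
    _ = i₀ := one_mul _

end models

end Cfsg.Agent.Lib.Helper12.Un
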