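import Mathlib
import Cfsg.Agent.Lib.Helper12.UnF

set_option autoImplicit false

namespace Cfsg.Agent.Lib.Helper12.Un

open Module Polynomial Cfsg.Agent.Lib.Helper12.Elus Cfsg.Agent.Lib.Helper15
  Cfsg.Agent.Lib.Helper14

section diag

variable {K : Type*} [Field K]

theorem toLin'_diagonal_sub {n : ℕ} (d : Fin n → K) (l : K) :
    Matrix.toLin' (Matrix.diagonal d) - l • (1 : (Fin n → K) →ₗ[K] (Fin n → K)) =
      Matrix.toLin' (Matrix.diagonal (fun i => d i - l)) := by
  apply LinearMap.ext
  intro v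
  funext i
  simp only [LinearMap.sub_apply, LinearMap.smul_apply, Module.End.one_apply, Matrix.toLin'_apply,
    Pi.sub_apply, Pi.smul_apply, Matrix.mulVec_diagonal, smul_eq_mul]
  ring

theorem finrank_ker_diagonal_sub [DecidableEq K] {n : ℕ} (d : Fin n → K) (l : K) :
    finrank K (LinearMap.ker (Matrix.toLin' (Matrix.diagonal d) -
      l • (1 : (Fin n → K) →ₗ[K] (Fin n → K)))) = Fintype.card {i // d i = l} := by
  rw [toLin'_diagonal_sub]
  have h1 := LinearMap.finrank_range_add_finrank_ker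
    (Matrix.toLin' (Matrix.diagonal (fun i => d i - l)))
  have h2 : finrank K (LinearMap.range (Matrix.toLin' (Matrix.diagonal (fun i => d i - l)))) =
      Fintype.card {i // d i - l ≠ 0} := by
    rw [← Matrix.rank_diagonal]
    rfl
  rw [h2, Module.finrank_fin_fun] at h1
  have h3 : Fintype.card {i // d i - l ≠ 0} + Fintype.card {i // d i = l} = n := by
    have h4 : Fintype.card {i // d i - l ≠ 0} = Fintype.card {i // ¬ (d i = l)} := by
      apply Fintype.card_congr
      apply Equiv.subtypeEquivRight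
      intro i
      rw [Ne, sub_eq_zero]
    have h5 := Fintype.card_subtype_compl (fun i : Fin n => d i = l)
    have h6 := Fintype.card_subtype_le (fun i : Fin n => d i = l)
    rw [Fintype.card_fin] at h5 h6
    omega
  omega

end diag

section orders

variable {K : Type*} [Field K] [Fintype K]

theorem exists_orderOf_eq (d : ℕ) (hd : d ∣ Fintype.card K - 1) :
    ∃ ω : Kˣ, orderOf ω = d := by
  classical
  obtain ⟨γ, hγ⟩ := IsCyclic.exists_ofOrder_eq_natCard (α := Kˣ)
  rw [Nat.card_eq_fintype_card, Fintype.card_units] at hγ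
  obtain ⟨k, hk⟩ := hd
  have hN : 0 < Fintype.card K - 1 := by
    have := Fintype.one_lt_card (α := K)
    omega
  have hk0 : k ≠ 0 := by
    intro h0
    rw [h0, mul_zero] at hk
    omega
  refine ⟨γ ^ k, ?_⟩
  rw [orderOf_pow_of_dvd hk0 (by rw [hγ, hk]; exact Dvd.intro_left d rfl), hγ, hk]
  exact Nat.mul_div_cancel _ (Nat.pos_of_ne_zero hk0)

end orders

section model2

variable {K : Type*} [Field K] [Fintype K]

/-- the diagonal of the reflection `diag(1,…,1,-1)` -/
def reflD (K : Type*) [Field K] (n : ℕ) : Fin n → K := fun k => if k.val + 1 = n then -1 else 1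

omit [Fintype K] in
theorem prod_reflD (n : ℕ) (hn : 1 ≤ n) : ∏ k, reflD K n k = -1 := by
  obtain ⟨n', rfl⟩ : ∃ n', n = n' + 1 := ⟨n - 1, by omega⟩
  rw [Fin.prod_univ_castSucc]
  have h1 : ∀ k : Fin n', reflD K (n' + 1) (Fin.castSucc k) = 1 := by
    intro k
    unfold reflD
    rw [if_neg]
    have := k.2
    simp only [Fin.val_castSucc]
    omega
  rw [Finset.prod_congr rfl (fun k _ => h1 k), Finset.prod_const_one, one_mul]
  unfold reflD
  rw [if_pos]
  simp

omit [Fintype K] in
theorem reflD_sq (n : ℕ) (k : Fin n) : reflD K n k * reflD K n k = 1 := by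
  unfold reflD
  split_ifs <;> ring

omit [Fintype K] in
theorem reflD_pow_even (n : ℕ) (k : Fin n) (j : ℕ) (hj : Even j) : reflD K n k ^ j = 1 := by
  obtain ⟨j', rfl⟩ := hj
  rw [← two_mul, pow_mul, sq, reflD_sq, one_pow]

omit [Fintype K] in
theorem card_reflD_eq_one [DecidableEq K] (n : ℕ) (hn : 1 ≤ n) (h2 : (2 : K) ≠ 0) :
    Fintype.card {k // reflD K n k = 1} = n - 1 := by
  have hne : (-1 : K) ≠ 1 := by
    intro h
    apply h2
    have : (1 : K) + 1 = 0 := by
      nth_rewrite 1 [← h]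
      ring
    rw [← this]
    ring
  have h1 : Fintype.card {k // reflD K n k = 1} = Fintype.card {k : Fin n // ¬ (k = ⟨n - 1, by omega⟩)} := by
    apply Fintype.card_congr
    apply Equiv.subtypeEquivRight
    intro k
    unfold reflD
    constructor
    · intro h hk
      rw [hk, if_pos (by simp; omega)] at h
      exact hne h
    · intro h
      rw [if_neg]
      intro hk
      apply h
      apply Fin.ext
      simp only
      omega
  rw [h1, Fintype.card_subtype_compl, Fintype.card_subtype_eq, Fintype.card_fin]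

/-- a norm-one element with `μ^n = -1` -/
theorem exists_model2 {p q : ℕ} [Fact p.Prime] [CharP K p] (hK : Fintype.card K = q ^ 2)
    (n : ℕ) (hn : 1 ≤ n) (hv : padicValNat 2 n < padicValNat 2 (q + 1)) :
    ∃ μ : K, μ * μ ^ q = 1 ∧ μ ^ n = -1 := by
  classical
  have hq2 := herm_two_le hK
  set a := padicValNat 2 n with ha
  have h1 : 2 ^ (a + 1) ∣ q + 1 := (padicValNat_dvd_iff_le (by omega)).2 hv
  have h2 : 2 ^ (a + 1) ∣ Fintype.card K - 1 := by
    rw [hK]
    have : q ^ 2 - 1 = (q + 1) * (q - 1) := by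
      obtain ⟨q', rfl⟩ : ∃ q', q = q' + 1 := ⟨q - 1, by omega⟩
      simp only [Nat.add_sub_cancel]
      have : (q' + 1) ^ 2 = (q' + 1 + 1) * q' + 1 := by ring
      rw [this, Nat.add_sub_cancel]
    rw [this]
    exact Dvd.dvd.mul_right h1 _
  obtain ⟨ω, hω⟩ := exists_orderOf_eq (K := K) (2 ^ (a + 1)) h2
  have hω1 : ω ^ (q + 1) = 1 := orderOf_dvd_iff_pow_eq_one.1 (by rw [hω]; exact h1)
  have hω2 : (ω ^ (2 ^ a) : Kˣ) ≠ 1 := by
    intro h
    have := orderOf_dvd_of_pow_eq_one h
    rw [hω] at this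
    have := Nat.le_of_dvd (by positivity) this
    rw [pow_succ] at this
    have : 0 < 2 ^ a := by positivity
    omega
  have hω3 : ((ω ^ (2 ^ a) : Kˣ) : K) = -1 := by
    have h3 : ((ω ^ (2 ^ a) : Kˣ) : K) * ((ω ^ (2 ^ a) : Kˣ) : K) = 1 := by
      rw [← Units.val_mul, ← pow_add, ← two_mul, ← pow_succ', ← hω, pow_orderOf_eq_one,
        Units.val_one]
    rcases mul_self_eq_one_iff.1 h3 with h4 | h4
    · exfalso
      apply hω2
      exact Units.ext h4
    · exact h4
  obtain ⟨n', hn'⟩ : 2 ^ a ∣ n := pow_padicValNat_dvd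
  have hn'odd : Odd n' := by
    rcases Nat.even_or_odd n' with he | ho
    · exfalso
      obtain ⟨n'', hn''⟩ := he
      have : 2 ^ (a + 1) ∣ n := ⟨n'', by rw [hn', hn'', pow_succ]; ring⟩
      exact pow_succ_padicValNat_not_dvd (p := 2) (by omega) this
    · exact ho
  refine ⟨(ω : K), ?_, ?_⟩
  · rw [← pow_succ', ← Units.val_pow_eq_pow_val, hω1, Units.val_one]
  · rw [hn', pow_mul, ← Units.val_pow_eq_pow_val, hω3, hn'odd.neg_one_pow]

end model2

section model3'

variable {K : Type*} [Field K] [Fintype K]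

/-- exponents in inverse pairs -/
def pairExp (r : ℕ) (v : ℕ) : ℕ := if v % 2 = 0 then v / 2 + 1 else r - (v / 2 + 1)

theorem sum_pairExp (r u : ℕ) (hu : 2 * u ≤ r) :
    ∑ v ∈ Finset.range (2 * u), pairExp r v = r * u := by
  induction u with
  | zero => simp
  | succ u ih =>
    have e1 : 2 * (u + 1) = 2 * u + 1 + 1 := by ring
    rw [e1, Finset.sum_range_succ, Finset.sum_range_succ, ih (by omega)]
    have h1 : pairExp r (2 * u) = u + 1 := by
      unfold pairExp
      rw [if_pos (by omega)]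
      omega
    have h2 : pairExp r (2 * u + 1) = r - (u + 1) := by
      unfold pairExp
      rw [if_neg (by omega)]
      congr 2
      omega
    rw [h1, h2, mul_add, mul_one]
    omega

theorem pairExp_bounds (r s v : ℕ) (hs : s + 1 ≤ r) (hv : v < s) :
    1 ≤ pairExp r v ∧ pairExp r v < r := by
  unfold pairExp
  split_ifs <;> omega

theorem pairExp_inj (r s v v' : ℕ) (hs : s + 1 ≤ r) (hse : Even s) (hv : v < s) (hv' : v' < s)
    (h : pairExp r v = pairExp r v') : v = v' := by
  obtain ⟨s', hs'⟩ := hse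
  unfold pairExp at h
  split_ifs at h <;> omega

/-- the diagonal model for `r ∣ q + 1` -/
theorem exists_model3' {p q : ℕ} [Fact p.Prime] [CharP K p] (hK : Fintype.card K = q ^ 2)
    (r : ℕ) [Fact r.Prime] (hrq : r ∣ q + 1) (n s : ℕ) (hn : 2 ≤ n) (hse : Even s)
    (hs2 : 2 ≤ s) (hsn : s ≤ n) (hsr : s + 1 ≤ r) :
    ∃ d : Fin n → K, (∀ k, d k * d k ^ q = 1) ∧ (∏ k, d k = 1) ∧ (∀ k, d k ^ r = 1) ∧
      (∃ k k', d k ≠ d k') ∧ (∀ k, d k = 1 ↔ s ≤ k.val) ∧
      (∀ k k', k.val < s → d k = d k' → k = k') := by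
  classical
  have hr : r.Prime := Fact.out
  have hq2 := herm_two_le hK
  have h2 : r ∣ Fintype.card K - 1 := by
    rw [hK]
    have : q ^ 2 - 1 = (q + 1) * (q - 1) := by
      obtain ⟨q', rfl⟩ : ∃ q', q = q' + 1 := ⟨q - 1, by omega⟩
      simp only [Nat.add_sub_cancel]
      have : (q' + 1) ^ 2 = (q' + 1 + 1) * q' + 1 := by ring
      rw [this, Nat.add_sub_cancel]
    rw [this]
    exact Dvd.dvd.mul_right hrq _
  obtain ⟨ω, hω⟩ := exists_orderOf_eq (K := K) r h2
  set ζ : K := (ω : K) with hζ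
  have hζord : orderOf ζ = r := by rw [hζ, orderOf_units, hω]
  have hζr : ζ ^ r = 1 := by rw [← hζord]; exact pow_orderOf_eq_one ζ
  have hζq : ζ ^ (q + 1) = 1 := by
    obtain ⟨k, hk⟩ := hrq
    rw [hk, pow_mul, hζr, one_pow]
  have hpow_inj : ∀ a b : ℕ, 1 ≤ a → a < r → 1 ≤ b → b < r → ζ ^ a = ζ ^ b → a = b := by
    intro a b _ ha _ hb hab
    have hab' : ω ^ a = ω ^ b := by
      apply Units.ext
      rw [Units.val_pow_eq_pow_val, Units.val_pow_eq_pow_val]
      exact hab
    have := pow_eq_pow_iff_modEq.1 hab'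
    rw [hω] at this
    exact Nat.ModEq.eq_of_lt_of_lt this ha hb
  have hpow_ne : ∀ a : ℕ, 1 ≤ a → a < r → ζ ^ a ≠ 1 := by
    intro a ha har h1
    have := orderOf_dvd_of_pow_eq_one h1
    rw [hζord] at this
    have := Nat.le_of_dvd (by omega) this
    omega
  refine ⟨fun k => if k.val < s then ζ ^ pairExp r k.val else 1, ?_, ?_, ?_, ?_, ?_, ?_⟩
  · intro k
    simp only
    split_ifs
    · rw [← pow_succ', ← pow_mul, mul_comm, pow_mul, hζq, one_pow]
    · rw [one_pow, mul_one]
  · rw [Fin.prod_univ_eq_prod_range (fun v => if v < s then ζ ^ pairExp r v else 1) n]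
    rw [← Finset.prod_subset (Finset.range_subset_range.2 hsn)]
    · rw [Finset.prod_congr rfl (fun v hv => if_pos (Finset.mem_range.1 hv)),
        Finset.prod_pow_eq_pow_sum]
      obtain ⟨s', hs'⟩ := hse
      have : s = 2 * s' := by omega
      rw [this, sum_pairExp r s' (by omega), pow_mul, hζr, one_pow]
    · intro v _ hv
      rw [Finset.mem_range] at hv
      rw [if_neg hv]
  · intro k
    simp only
    split_ifs
    · rw [← pow_mul, mul_comm, pow_mul, hζr, one_pow]
    · rw [one_pow]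
  · refine ⟨⟨0, by omega⟩, ⟨1, by omega⟩, ?_⟩
    simp only
    rw [if_pos (by omega), if_pos (by omega)]
    intro h
    have hb0 := pairExp_bounds r s 0 hsr (by omega)
    have hb1 := pairExp_bounds r s 1 hsr (by omega)
    have := hpow_inj _ _ hb0.1 hb0.2 hb1.1 hb1.2 h
    have := pairExp_inj r s 0 1 hsr hse (by omega) (by omega) this
    omega
  · intro k
    simp only
    constructor
    · intro h
      by_contra hlt
      push Not at hlt
      rw [if_pos hlt] at h
      have hb := pairExp_bounds r s k.val hsr hlt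
      exact hpow_ne _ hb.1 hb.2 h
    · intro h
      rw [if_neg (by omega)]
  · intro k k' hk h
    simp only at h
    rw [if_pos hk] at h
    have hb := pairExp_bounds r s k.val hsr hk
    by_cases hk' : k'.val < s
    · rw [if_pos hk'] at h
      have hb' := pairExp_bounds r s k'.val hsr hk'
      have := hpow_inj _ _ hb.1 hb.2 hb'.1 hb'.2 h
      exact Fin.ext (pairExp_inj r s _ _ hsr hse hk hk' this)
    · rw [if_neg hk'] at h
      exact absurd h (hpow_ne _ hb.1 hb.2)

end model3'

end Cfsg.Agent.Lib.Helper12.Un
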