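import Mathlib
import Cfsg.Agent.Lib.Helper12.UnG

set_option autoImplicit false

namespace Cfsg.Agent.Lib.Helper12.Un

open Module Polynomial Cfsg.Agent.Lib.Helper12.Elus Cfsg.Agent.Lib.Helper15
  Cfsg.Agent.Lib.Helper15.SemisimpleConj Cfsg.Agent.Lib.Helper15.PrimeOrderClasses

section irr

variable {K V : Type*} [Field K] [AddCommGroup V] [Module K V] [FiniteDimensional K V]
  (y : V →ₗ[K] V) (P : K[X])

/-- invariant subspaces of an endomorphism killed by an irreducible polynomial have dimension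
divisible by its degree -/
theorem dvd_finrank_of_irred (hm : P.Monic) (hirr : Irreducible P) (hP : aeval y P = 0)
    (W : Submodule K V) (hW : ∀ u ∈ W, y u ∈ W) : P.natDegree ∣ finrank K W := by
  classical
  have hW' : W ∈ Module.End.invtSubmodule y := by
    rw [Module.End.mem_invtSubmodule]
    intro u hu
    exact hW u hu
  have hsq : Squarefree (∏ _o : Unit, P) := by
    rw [Finset.prod_const, Finset.card_univ, Fintype.card_unit, pow_one]
    exact hirr.squarefree
  have h0 : aeval (y.restrict hW') (∏ _o : Unit, P) = 0 := by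
    apply aeval_restrict_eq_zero y W hW'
    rw [Finset.prod_const, Finset.card_univ, Fintype.card_unit, pow_one]
    exact hP
  obtain ⟨e, he⟩ := charpoly_of_family (fun _ : Unit => P) (fun _ => hm) (fun _ => hirr) hsq
    (finrank K W) W (y.restrict hW') rfl h0
  have h1 := congrArg natDegree he
  rw [LinearMap.charpoly_natDegree, Fintype.prod_unique, hm.natDegree_pow] at h1
  rw [h1]
  exact Dvd.intro_left _ rfl

/-- invariant subspaces of all admissible dimensions -/
theorem exists_inv_sub_irred (hm : P.Monic) (hirr : Irreducible P) (hP : aeval y P = 0)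
    (W₀ : Submodule K V) (hW₀ : ∀ u ∈ W₀, y u ∈ W₀) :
    ∀ k, P.natDegree * k ≤ finrank K W₀ →
      ∃ W : Submodule K V, W ≤ W₀ ∧ (∀ u ∈ W, y u ∈ W) ∧ finrank K W = P.natDegree * k := by
  intro k
  have hrpos : 0 < P.natDegree := by
    rcases Nat.eq_zero_or_pos P.natDegree with h0 | h0
    · exfalso
      have := Polynomial.eq_one_of_monic_natDegree_zero hm h0
      rw [this] at hirr
      exact not_irreducible_one hirr
    · exact h0
  induction k with
  | zero =>
    intro _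
    refine ⟨⊥, bot_le, ?_, by rw [finrank_bot, mul_zero]⟩
    intro u hu
    rw [(Submodule.mem_bot K).1 hu, map_zero]
    exact zero_mem _
  | succ k ih =>
    intro hk
    obtain ⟨W', hW'le, hW'inv, hW'dim⟩ := ih (by rw [mul_add] at hk; omega)
    have hlt : W' < W₀ := by
      refine lt_of_le_of_ne hW'le ?_
      intro heq
      rw [heq] at hW'dim
      rw [mul_add, mul_one] at hk
      omega
    obtain ⟨u, huW₀, huW'⟩ := SetLike.exists_of_lt hlt
    have hPu : aeval y P u = 0 := by rw [hP, LinearMap.zero_apply]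
    obtain ⟨hcinv, -⟩ := Sp.cyc_of_aeval y u P hm P.natDegree rfl hPu
    have hcle : cyc y u P.natDegree ≤ W₀ := Sp.cyc_le y u _ W₀ hW₀ huW₀
    have hucyc : u ∈ cyc y u P.natDegree := self_mem_cyc y u _ hrpos
    set W'' := W' ⊔ cyc y u P.natDegree with hW''
    have hW''inv : ∀ v ∈ W'', y v ∈ W'' := sup_invariant y _ _ hW'inv hcinv
    have hW''le : W'' ≤ W₀ := sup_le hW'le hcle
    have hlt2 : W' < W'' := by
      refine lt_of_le_of_ne le_sup_left ?_
      intro heq
      apply huW'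
      rw [heq]
      exact (le_sup_right : cyc y u P.natDegree ≤ W'') hucyc
    have h1 : finrank K W' < finrank K W'' := Submodule.finrank_lt_finrank_of_lt hlt2
    have h2 : finrank K W'' ≤ finrank K W' + P.natDegree := by
      have := Submodule.finrank_add_le_finrank_add_finrank W' (cyc y u P.natDegree)
      rw [← hW''] at this
      have h3 := finrank_cyc_le y u P.natDegree
      omega
    obtain ⟨j, hj⟩ := dvd_finrank_of_irred y P hm hirr hP W'' hW''inv
    refine ⟨W'', hW''le, hW''inv, ?_⟩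
    rw [hj]
    congr 1
    rw [hj, hW'dim] at h1 h2
    have h4 : k < j := lt_of_mul_lt_mul_left h1 (Nat.zero_le _)
    have h5 : j ≤ k + 1 := by
      have : P.natDegree * j ≤ P.natDegree * (k + 1) := by rw [mul_add, mul_one]; exact h2
      exact Nat.le_of_mul_le_mul_left this hrpos
    omega

end irr

section irrform

variable {K V : Type*} [Field K] [Fintype K] [AddCommGroup V] [Module K V]
  [FiniteDimensional K V] {σ : K →+* K}
  (B : V →ₗ[K] V →ₛₗ[σ] K) (y : V →ₗ[K] V)

/-- Chevalley–Warning for an isometry killed by an irreducible polynomial of odd degree -/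
theorem exists_iso_cyc_irred (p : ℕ) [Fact p.Prime] [CharP K p]
    (hsym : ∀ u v, B v u = σ (B u v)) (k : Subfield K)
    (hk2 : finrank ↥k K = 2) (hkσ : ∀ c, σ c = c ↔ c ∈ k)
    (hiso : ∀ u v, B (y u) (y v) = B u v)
    (N : ℕ) (hN : 0 < N) (hy : y ^ N = 1)
    (P : K[X]) (hm : P.Monic) (hirr : Irreducible P) (hP : aeval y P = 0)
    (hodd : Odd P.natDegree)
    (M : Submodule K V) (hM : ∀ u ∈ M, y u ∈ M)
    (hdim : P.natDegree < finrank K M) :
    ∃ W : Submodule K V, W ≤ M ∧ (∀ u ∈ W, y u ∈ W) ∧ W ≠ ⊥ ∧ W ≤ orth B W := by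
  set r := P.natDegree with hr
  obtain ⟨s, hs⟩ := hodd
  have hrpos : 0 < r := by omega
  obtain ⟨u, huM, hu0, hu⟩ := exists_iso_vec B p hsym k hk2 hkσ y M s (by rw [← hs]; exact hdim)
  have hPu : aeval y P u = 0 := by rw [hP, LinearMap.zero_apply]
  obtain ⟨hWinv, -⟩ := Sp.cyc_of_aeval y u P hm r rfl hPu
  have hWM : cyc y u r ≤ M := Sp.cyc_le y u r M hM huM
  have huW : u ∈ cyc y u r := self_mem_cyc y u r hrpos
  have hW0 : cyc y u r ≠ ⊥ := by
    intro h0
    rw [h0] at huW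
    exact hu0 ((Submodule.mem_bot K).1 huW)
  -- the middle vector is in the radical
  have hmid : (y ^ s) u ∈ cyc y u r ⊓ orth B (cyc y u r) := by
    refine ⟨pow_mem_cyc y u r s (by omega), ?_⟩
    show (y ^ s) u ∈ orth B (cyc y u r)
    intro n hn
    rw [cyc] at hn
    refine Submodule.span_induction ?_ ?_ ?_ ?_ hn
    · rintro _ ⟨a, rfl⟩
      have ha : (a : ℕ) < r := a.2
      show B ((y ^ (a : ℕ)) u) ((y ^ s) u) = 0
      rcases le_total s (a : ℕ) with hsa | has
      · have h1 : (y ^ (a : ℕ)) u = (y ^ s) ((y ^ ((a : ℕ) - s)) u) := by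
          rw [← Module.End.mul_apply, ← pow_add, Nat.add_sub_cancel' hsa]
        rw [h1, iso_pow B y hiso]
        exact hu ((a : ℕ) - s) (by omega)
      · have h1 : (y ^ s) u = (y ^ (a : ℕ)) ((y ^ (s - (a : ℕ))) u) := by
          rw [← Module.End.mul_apply, ← pow_add, Nat.add_sub_cancel' has]
        rw [h1, iso_pow B y hiso]
        exact herm_swap B hsym _ _ (hu (s - (a : ℕ)) (by omega))
    · rw [map_zero, LinearMap.zero_apply]
    · intro x z _ _ hx hz
      rw [map_add, LinearMap.add_apply, hx, hz, add_zero]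
    · intro c x _ hx
      rw [map_smul, LinearMap.smul_apply, hx, smul_zero]
  have hmid0 : (y ^ s) u ≠ 0 := by
    intro h0
    apply hu0
    have h1 : (y ^ (N * s)) u = u := by
      rw [pow_mul, hy, one_pow, Module.End.one_apply]
    have h2 : N * s = (N - 1) * s + s := by
      obtain ⟨N₀, rfl⟩ := Nat.exists_eq_succ_of_ne_zero hN.ne'
      rw [Nat.succ_sub_one, Nat.succ_mul]
    rw [h2, pow_add, Module.End.mul_apply, h0, map_zero] at h1
    exact h1.symm
  have hOinv := orth_invariant B y hiso N hN hy _ hWinv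
  have hRinv : ∀ v ∈ cyc y u r ⊓ orth B (cyc y u r),
      y v ∈ cyc y u r ⊓ orth B (cyc y u r) := Sp.inf_invariant y _ _ hWinv hOinv
  obtain ⟨j, hj⟩ := dvd_finrank_of_irred y P hm hirr hP _ hRinv
  have hRle : finrank K ↥(cyc y u r ⊓ orth B (cyc y u r)) ≤ finrank K (cyc y u r) :=
    Submodule.finrank_mono inf_le_left
  have hcle := finrank_cyc_le y u r
  have hRpos : 0 < finrank K ↥(cyc y u r ⊓ orth B (cyc y u r)) := by
    rw [Nat.pos_iff_ne_zero]
    intro h0
    have := Submodule.finrank_eq_zero.1 h0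
    rw [this] at hmid
    exact hmid0 ((Submodule.mem_bot K).1 hmid)
  have hjpos : 0 < j := by
    rcases Nat.eq_zero_or_pos j with h0 | h0
    · rw [h0, mul_zero] at hj
      omega
    · exact h0
  have hge : r ≤ finrank K ↥(cyc y u r ⊓ orth B (cyc y u r)) := by
    rw [hj]
    exact Nat.le_mul_of_pos_right _ hjpos
  have heq : cyc y u r ⊓ orth B (cyc y u r) = cyc y u r :=
    Submodule.eq_of_le_of_finrank_le inf_le_left (by omega)
  refine ⟨cyc y u r, hWM, hWinv, hW0, ?_⟩
  intro w hw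
  rw [← heq] at hw
  exact hw.2

/-- an isometry killed by an irreducible polynomial of odd degree `r` fixes totally isotropic
subspaces of all dimensions `r * m' ≤ n / 2` -/
theorem exists_iso_inv_irred (p : ℕ) [Fact p.Prime] [CharP K p] (hσ : ∀ a, σ (σ a) = a)
    (hsym : ∀ u v, B v u = σ (B u v)) (k : Subfield K)
    (hk2 : finrank ↥k K = 2) (hkσ : ∀ c, σ c = c ↔ c ∈ k)
    (hnd : ∀ x, (∀ z, B x z = 0) → x = 0)
    (hiso : ∀ u v, B (y u) (y v) = B u v)
    (N : ℕ) (hN : 0 < N) (hy : y ^ N = 1) (hN0 : (N : K) ≠ 0)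
    (P : K[X]) (hm : P.Monic) (hirr : Irreducible P) (hP : aeval y P = 0)
    (hodd : Odd P.natDegree) (m' : ℕ) (hmn : 2 * (P.natDegree * m') ≤ finrank K V) :
    ∃ W : Submodule K V, finrank K W = P.natDegree * m' ∧ W ≤ orth B W ∧ ∀ u ∈ W, y u ∈ W := by
  set r := P.natDegree with hr
  have hrpos : 0 < r := by
    obtain ⟨s, hs⟩ := hodd
    omega
  have htop : NdOn B (⊤ : Submodule K V) := by
    intro u _ hu0
    by_contra hcon
    push Not at hcon
    exact hu0 (hnd u (fun z => hcon z Submodule.mem_top))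
  have htinv : ∀ v ∈ (⊤ : Submodule K V), y v ∈ (⊤ : Submodule K V) := fun _ _ => Submodule.mem_top
  obtain ⟨W₀, N₀, ⟨-, hW₀inv, hW₀iso⟩, -, hN₀inv, hN₀nd, hdimeq, haniso⟩ :=
    exists_max_iso B hσ hsym y hiso N hN hy hN0 ⊤ htinv htop
  rw [finrank_top] at hdimeq
  have hN₀le : finrank K N₀ ≤ r := by
    by_contra hlt
    push Not at hlt
    obtain ⟨W', hW'le, hW'inv, hW'0, hW'iso⟩ := exists_iso_cyc_irred B y p hsym k hk2 hkσ hiso N hN
      hy P hm hirr hP hodd N₀ hN₀inv hlt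
    exact hW'0 (haniso W' hW'le hW'inv hW'iso)
  obtain ⟨w, hw⟩ := dvd_finrank_of_irred y P hm hirr hP W₀ hW₀inv
  have hm'w : m' ≤ w := by
    have h1 : r * (2 * m') ≤ r * (2 * w + 1) := by
      calc r * (2 * m') = 2 * (r * m') := by ring
        _ ≤ finrank K V := hmn
        _ = 2 * finrank K W₀ + finrank K N₀ := hdimeq.symm
        _ ≤ 2 * (r * w) + r := by rw [← hr, hw] at *; omega
        _ = r * (2 * w + 1) := by ring
    have := Nat.le_of_mul_le_mul_left h1 hrpos
    omega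
  obtain ⟨W, hWle, hWinv, hWdim⟩ := exists_inv_sub_irred y P hm hirr hP W₀ hW₀inv m'
    (by rw [hw]; exact Nat.mul_le_mul_left _ hm'w)
  refine ⟨W, hWdim, ?_, hWinv⟩
  exact (hWle.trans hW₀iso).trans (orth_mono B hWle)

end irrform

section scalars

variable {K : Type*} [Field K] [Fintype K]

theorem sq_sub_one_eq (q : ℕ) (hq : 1 ≤ q) : q ^ 2 - 1 = (q - 1) * (q + 1) := by
  obtain ⟨q', rfl⟩ : ∃ q', q = q' + 1 := ⟨q - 1, by omega⟩
  simp only [Nat.add_sub_cancel]
  have : (q' + 1) ^ 2 = q' * (q' + 1 + 1) + 1 := by ring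
  rw [this, Nat.add_sub_cancel]

/-- a generator of the multiplicative group -/
theorem exists_gen {q : ℕ} (hK : Fintype.card K = q ^ 2) :
    ∃ γ : Kˣ, orderOf γ = (q - 1) * (q + 1) ∧ ∀ x : Kˣ, ∃ j : ℕ, x = γ ^ j := by
  classical
  have hq2 := Cfsg.Agent.Lib.Helper14.herm_two_le hK
  obtain ⟨γ, hγ⟩ := IsCyclic.exists_monoid_generator (α := Kˣ)
  refine ⟨γ, ?_, ?_⟩
  · rw [orderOf_eq_card_of_forall_mem_powers hγ, Nat.card_eq_fintype_card, Fintype.card_units, hK,
      sq_sub_one_eq q (by omega)]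
  · intro x
    obtain ⟨j, hj⟩ := hγ x
    exact ⟨j, hj.symm⟩

omit [Fintype K] in
/-- `r`-th roots in the norm-one group when `r` is prime to `q + 1` -/
theorem exists_root_of_coprime {q : ℕ} (r : ℕ) (hcop : Nat.Coprime r (q + 1)) (hq : 1 ≤ q)
    (z : K) (hz : z * z ^ q = 1) : ∃ μ : K, μ * μ ^ q = 1 ∧ μ ^ r = z := by
  have hz1 : z ^ (q + 1) = 1 := by rw [pow_succ']; exact hz
  obtain ⟨a, -, ha⟩ := Nat.exists_mul_mod_eq_one_of_coprime hcop (by omega)
  refine ⟨z ^ a, ?_, ?_⟩
  · rw [← pow_succ', ← pow_mul, mul_comm, pow_mul, hz1, one_pow]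
  · rw [← pow_mul, mul_comm]
    have h1 := Nat.div_add_mod (r * a) (q + 1)
    rw [ha] at h1
    rw [← h1, pow_add, pow_mul, hz1, one_pow, one_mul, pow_one]

/-- an `r`-th root of a norm-one element has norm one when `r ∣ q + 1` is odd -/
theorem normOne_of_pow {q : ℕ} (hK : Fintype.card K = q ^ 2) (r : ℕ) [Fact r.Prime]
    (hr2 : r ≠ 2) (hrq : r ∣ q + 1) (z w : K) (hz : z * z ^ q = 1) (hw : w ^ r = z) :
    w * w ^ q = 1 := by
  classical
  have hr : r.Prime := Fact.out
  have hq2 := Cfsg.Agent.Lib.Helper14.herm_two_le hK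
  have hz1 : z ^ (q + 1) = 1 := by rw [pow_succ']; exact hz
  have hw0 : w ≠ 0 := by
    intro h0
    rw [h0, zero_pow hr.pos.ne'] at hw
    rw [← hw, zero_mul] at hz
    exact zero_ne_one hz
  have h1 : w ^ (r * (q + 1)) = 1 := by rw [pow_mul, hw, hz1]
  have h2 : w ^ ((q - 1) * (q + 1)) = 1 := by
    rw [← sq_sub_one_eq q (by omega), ← hK]
    exact FiniteField.pow_card_sub_one_eq_one w hw0
  have h3 : orderOf w ∣ Nat.gcd (r * (q + 1)) ((q - 1) * (q + 1)) :=
    Nat.dvd_gcd (orderOf_dvd_of_pow_eq_one h1) (orderOf_dvd_of_pow_eq_one h2)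
  rw [Nat.gcd_mul_right] at h3
  have hcop : Nat.Coprime r (q - 1) := by
    rw [Nat.Prime.coprime_iff_not_dvd hr]
    intro hd
    have h4 : r ∣ (q + 1) - (q - 1) := Nat.dvd_sub hrq hd
    have h5 : (q + 1) - (q - 1) = 2 := by omega
    rw [h5] at h4
    exact hr2 ((Nat.prime_dvd_prime_iff_eq hr Nat.prime_two).1 h4)
  rw [hcop, one_mul] at h3
  rw [← pow_succ']
  exact orderOf_dvd_iff_pow_eq_one.1 h3

/-- the valuation condition forced by a scalar that is not an `r`-th power -/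
theorem padic_lt_of_not_pow {q : ℕ} (hK : Fintype.card K = q ^ 2) (r : ℕ) [Fact r.Prime]
    (z : K) (hz : z * z ^ q = 1) (hnp : ∀ w : K, w ^ r ≠ z) (n' : ℕ) (hn' : 0 < n')
    (hzn : z ^ n' = 1) : padicValNat r (q + 1) < padicValNat r (r * n') := by
  classical
  have hr : r.Prime := Fact.out
  have hq2 := Cfsg.Agent.Lib.Helper14.herm_two_le hK
  have hz0 : z ≠ 0 := by
    intro h0
    rw [h0, zero_mul] at hz
    exact zero_ne_one hz
  obtain ⟨γ, hγ, hgen⟩ := exists_gen hK
  obtain ⟨k, hk⟩ := hgen (Units.mk0 z hz0)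
  have hzk : z = ((γ ^ k : Kˣ) : K) := by rw [← hk]; rfl
  have hz1 : (γ ^ k) ^ (q + 1) = 1 := by
    apply Units.ext
    rw [Units.val_pow_eq_pow_val, ← hzk, pow_succ', Units.val_one]
    exact hz
  have h1 : (q - 1) * (q + 1) ∣ k * (q + 1) := by
    rw [← hγ]
    apply orderOf_dvd_of_pow_eq_one
    rw [pow_mul]
    exact hz1
  obtain ⟨k', hk'⟩ : (q - 1) ∣ k := Nat.dvd_of_mul_dvd_mul_right (by omega) h1
  have hrk' : ¬ r ∣ k' := by
    rintro ⟨k'', hk''⟩
    apply hnp (((γ ^ ((q - 1) * k'') : Kˣ)) : K)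
    rw [hzk, ← Units.val_pow_eq_pow_val, ← pow_mul, hk', hk'']
    congr 2
    ring
  have h2 : (γ ^ k) ^ n' = 1 := by
    apply Units.ext
    rw [Units.val_pow_eq_pow_val, ← hzk, Units.val_one]
    exact hzn
  have h3 : (q - 1) * (q + 1) ∣ (q - 1) * (k' * n') := by
    rw [← hγ]
    apply orderOf_dvd_of_pow_eq_one
    rw [← h2, ← pow_mul, hk']
    congr 1
    ring
  have h4 : (q + 1) ∣ k' * n' := Nat.dvd_of_mul_dvd_mul_left (by omega) h3
  set a := padicValNat r (q + 1) with ha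
  have h5 : r ^ a ∣ k' * n' := (pow_padicValNat_dvd).trans h4
  have hcop : Nat.Coprime (r ^ a) k' :=
    Nat.Coprime.pow_left _ ((Nat.Prime.coprime_iff_not_dvd hr).2 hrk')
  have h6 : r ^ a ∣ n' := hcop.dvd_of_dvd_mul_left h5
  have h7 : r ^ (a + 1) ∣ r * n' := by
    rw [pow_succ']
    exact mul_dvd_mul_left r h6
  have hne : r * n' ≠ 0 := Nat.mul_ne_zero hr.pos.ne' hn'.ne'
  exact (padicValNat_dvd_iff_le hne).1 h7

/-- a norm-one scalar that is not an `r`-th power, with `z ^ (n / r) = 1` -/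
theorem exists_scalar4 {q : ℕ} (hK : Fintype.card K = q ^ 2) (r : ℕ) [Fact r.Prime]
    (hr2 : r ≠ 2) (hrq : r ∣ q + 1) (n' : ℕ)
    (hv : padicValNat r (q + 1) < padicValNat r (r * n')) (hn' : 0 < n') :
    ∃ z : K, z * z ^ q = 1 ∧ (∀ w : K, w ^ r ≠ z) ∧ z ^ n' = 1 := by
  classical
  have hr : r.Prime := Fact.out
  have hq2 := Cfsg.Agent.Lib.Helper14.herm_two_le hK
  obtain ⟨γ, hγ, hgen⟩ := exists_gen hK
  set a := padicValNat r (q + 1) with ha
  obtain ⟨k', hk'⟩ : r ^ a ∣ q + 1 := pow_padicValNat_dvd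
  have hrk' : ¬ r ∣ k' := by
    rintro ⟨k'', hk''⟩
    have : r ^ (a + 1) ∣ q + 1 := ⟨k'', by rw [hk', hk'', pow_succ]; ring⟩
    exact pow_succ_padicValNat_not_dvd (p := r) (by omega) this
  have hne : r * n' ≠ 0 := Nat.mul_ne_zero hr.pos.ne' hn'.ne'
  have h1 : r ^ (a + 1) ∣ r * n' := (padicValNat_dvd_iff_le hne).2 hv
  have h2 : r ^ a ∣ n' := by
    rw [pow_succ'] at h1
    exact Nat.dvd_of_mul_dvd_mul_left hr.pos h1
  have hcop : Nat.Coprime r (q - 1) := by
    rw [Nat.Prime.coprime_iff_not_dvd hr]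
    intro hd
    have h4 : r ∣ (q + 1) - (q - 1) := Nat.dvd_sub hrq hd
    have h5 : (q + 1) - (q - 1) = 2 := by omega
    rw [h5] at h4
    exact hr2 ((Nat.prime_dvd_prime_iff_eq hr Nat.prime_two).1 h4)
  refine ⟨((γ ^ ((q - 1) * k') : Kˣ) : K), ?_, ?_, ?_⟩
  · rw [← pow_succ', ← Units.val_pow_eq_pow_val, ← pow_mul]
    have h3 : (q - 1) * k' * (q + 1) = (q - 1) * (q + 1) * k' := by ring
    rw [h3, pow_mul, ← hγ, pow_orderOf_eq_one, one_pow, Units.val_one]
  · intro w hw
    have hw0 : w ≠ 0 := by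
      intro h0
      rw [h0, zero_pow hr.pos.ne'] at hw
      exact (Units.ne_zero _) hw.symm
    obtain ⟨j, hj⟩ := hgen (Units.mk0 w hw0)
    have h3 : γ ^ (j * r) = γ ^ ((q - 1) * k') := by
      apply Units.ext
      rw [← hw, pow_mul, ← hj]
      rfl
    have h4 := pow_eq_pow_iff_modEq.1 h3
    rw [hγ] at h4
    have hr_dvd : r ∣ (q - 1) * (q + 1) := Dvd.dvd.mul_left hrq _
    have h5 : r ∣ (q - 1) * k' := (h4.dvd_iff hr_dvd).1 (Dvd.intro_left j rfl)
    rcases (Nat.Prime.dvd_mul hr).1 h5 with h6 | h6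
    · exact (Nat.Prime.coprime_iff_not_dvd hr).1 hcop h6
    · exact hrk' h6
  · rw [← Units.val_pow_eq_pow_val, ← pow_mul]
    obtain ⟨n'', hn''⟩ := h2
    have h3 : (q - 1) * k' * n' = (q - 1) * (q + 1) * n'' := by
      rw [hn'', hk']
      ring
    rw [h3, pow_mul, ← hγ, pow_orderOf_eq_one, one_pow, Units.val_one]

end scalars

section model4

variable {K : Type*} [Field K] [Fintype K]

open Cfsg.Agent.Lib.Helper14

omit [Fintype K] in
theorem star_X_pow_sub_C (σ : K →+* K) (r : ℕ) (hr : 0 < r) (z : K) (hz : z ≠ 0)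
    (hσz : σ z = z⁻¹) : StarPoly.star σ (X ^ r - C z : K[X]) = X ^ r - C z := by
  have hd : (X ^ r - C z : K[X]).natDegree = r := natDegree_X_pow_sub_C
  have hc : ∀ j, (X ^ r - C z : K[X]).coeff j =
      (if j = r then 1 else 0) - if j = 0 then z else 0 := by
    intro j
    rw [coeff_sub, coeff_X_pow, coeff_C]
  ext j
  rcases Nat.lt_or_ge r j with hj | hj
  · rw [StarPoly.coeff_star_of_lt σ _ j (by rw [hd]; exact hj), coeff_eq_zero_of_natDegree_lt
      (by rw [hd]; exact hj)]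
  · rw [StarPoly.coeff_star σ _ j (by rw [hd]; exact hj), hd, hc 0, hc (r - j), hc j,
      if_neg hr.ne, if_pos rfl]
    by_cases hj0 : j = 0
    · subst hj0
      rw [Nat.sub_zero, if_pos rfl, if_neg hr.ne', if_neg hr.ne, if_pos rfl, zero_sub, sub_zero,
        map_neg, map_one, mul_one, hσz, inv_neg, inv_inv]
    · by_cases hjr : j = r
      · subst hjr
        rw [Nat.sub_self, if_neg hr.ne, if_pos rfl, if_pos rfl, if_neg hr.ne', zero_sub, sub_zero]
        have : σ (-z) ≠ 0 := by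
          rw [map_neg, hσz]
          exact neg_ne_zero.2 (inv_ne_zero hz)
        exact inv_mul_cancel₀ this
      · have h3 : r - j ≠ r := by omega
        have h4 : r - j ≠ 0 := by omega
        rw [if_neg h3, if_neg h4, if_neg hjr, if_neg hj0, sub_zero, map_zero, mul_zero]

omit [Fintype K] in
/-- the determinant of a matrix with `g ^ r = z`, `z` not an `r`-th power, `r` odd -/
theorem det_of_irred_pow (r : ℕ) [Fact r.Prime] (hr2 : r ≠ 2) (n : ℕ)
    (g : Matrix (Fin n) (Fin n) K) (z : K) (hg : g ^ r = z • 1) (hnp : ∀ w : K, w ^ r ≠ z) :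
    ∃ e, n = r * e ∧ g.det = z ^ e := by
  classical
  have hr : r.Prime := Fact.out
  have hirr : Irreducible (X ^ r - C z : K[X]) := X_pow_sub_C_irreducible_of_prime hr hnp
  have hm : (X ^ r - C z : K[X]).Monic := monic_X_pow_sub_C z hr.pos.ne'
  have hsq : Squarefree (∏ _o : Unit, (X ^ r - C z : K[X])) := by
    rw [Finset.prod_const, Finset.card_univ, Fintype.card_unit, pow_one]
    exact hirr.squarefree
  have h0 : aeval (Matrix.toLin' g) (∏ _o : Unit, (X ^ r - C z : K[X])) = 0 := by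
    rw [Finset.prod_const, Finset.card_univ, Fintype.card_unit, pow_one, aeval_toLin'_eq,
      map_sub, map_pow, aeval_X, aeval_C, hg, Algebra.algebraMap_eq_smul_one, sub_self, map_zero]
  obtain ⟨e, he⟩ := PrimeOrderClasses.charpoly_of_family (fun _ : Unit => (X ^ r - C z : K[X]))
    (fun _ => hm) (fun _ => hirr) hsq n (Fin n → K) (Matrix.toLin' g)
    (by rw [Module.finrank_fin_fun]) h0
  rw [charpoly_toLin'_eq, Fintype.prod_unique] at he
  have h1 := congrArg natDegree he
  rw [Matrix.charpoly_natDegree_eq_dim, Fintype.card_fin, hm.natDegree_pow,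
    natDegree_X_pow_sub_C] at h1
  refine ⟨e default, by rw [h1, mul_comm], ?_⟩
  rw [Matrix.det_eq_sign_charpoly_coeff, he, Fintype.card_fin, coeff_zero_eq_eval_zero, eval_pow,
    eval_sub, eval_pow, eval_X, eval_C, zero_pow hr.pos.ne', zero_sub, neg_pow z, ← mul_assoc,
    ← pow_add, h1]
  have hodd : Odd r := hr.odd_of_ne_two hr2
  have hev : Even (e default * r + e default) := by
    have : e default * r + e default = e default * (r + 1) := by ring
    rw [this]
    exact Even.mul_left hodd.add_one _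
  rw [hev.neg_one_pow, one_mul]

/-- model (N4): `g ^ r = z` with `z` not an `r`-th power -/
theorem exists_model4 {p q : ℕ} [Fact p.Prime] [CharP K p] (hK : Fintype.card K = q ^ 2)
    (σ : K →+* K) (hσ : ∀ c, σ c = c ^ q) (r : ℕ) [Fact r.Prime]
    (hr2 : r ≠ 2) (hrq : r ∣ q + 1) (n : ℕ) (hn : 0 < n)
    (hv : padicValNat r (q + 1) < padicValNat r n) :
    ∃ (g : Matrix (Fin n) (Fin n) K) (z : K), IsUni K q n g ∧ g.det = 1 ∧ g ^ r = z • 1 ∧
      ∀ w : K, w ^ r ≠ z := by
  classical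
  have hr : r.Prime := Fact.out
  have hrn : r ∣ n := by
    have h1 : 1 ≤ padicValNat r n := by omega
    exact dvd_of_one_le_padicValNat h1
  obtain ⟨n', hn'⟩ := hrn
  have hn'pos : 0 < n' := by
    rcases Nat.eq_zero_or_pos n' with h0 | h0
    · rw [h0, mul_zero] at hn'
      omega
    · exact h0
  rw [hn'] at hv
  obtain ⟨z, hz1, hz2, hz3⟩ := exists_scalar4 hK r hr2 hrq n' hv hn'pos
  have hz0 : z ≠ 0 := by
    intro h0
    rw [h0, zero_mul] at hz1
    exact zero_ne_one hz1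
  have hσz : σ z = z⁻¹ := by
    rw [hσ]
    exact eq_inv_of_mul_eq_one_right hz1
  have hm : (X ^ r - C z : K[X]).Monic := monic_X_pow_sub_C z hr.pos.ne'
  obtain ⟨g, hg1, hg2, hg3⟩ := exists_uni_of_charpoly hK σ hσ r z n ((X ^ r - C z) ^ n')
    (hm.pow n') (by rw [hm.natDegree_pow, natDegree_X_pow_sub_C, hn', mul_comm])
    (by rw [StarPoly.star_pow, star_X_pow_sub_C σ r hr.pos z hz0 hσz]) n' dvd_rfl hz0 hr.pos
  refine ⟨g, z, hg1, ?_, hg3, hz2⟩
  obtain ⟨e, he1, he2⟩ := det_of_irred_pow r hr2 n g z hg3 hz2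
  have : e = n' := by
    rw [hn'] at he1
    exact (Nat.eq_of_mul_eq_mul_left hr.pos he1).symm
  rw [he2, this, hz3]

end model4

end Cfsg.Agent.Lib.Helper12.Un
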