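import Mathlib
import Cfsg.Agent.Lib.Helper12.UnH

set_option autoImplicit false

namespace Cfsg.Agent.Lib.Helper12.Un

open Module Polynomial Cfsg.Agent.Lib.Helper12.Elus Cfsg.Agent.Lib.Helper15
  Cfsg.Agent.Lib.Helper15.SemisimpleConj Cfsg.Agent.Lib.Helper15.PrimeOrderClasses

section two

variable {K V : Type*} [Field K] [AddCommGroup V] [Module K V] [FiniteDimensional K V]
  {σ : K →+* K} (B : V →ₗ[K] V →ₛₗ[σ] K) (y : V →ₗ[K] V)

/-- involutions -/
theorem invol_caseU (hσ : ∀ a, σ (σ a) = a) (hsym : ∀ u v, B v u = σ (B u v))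
    (hNorm : ∀ c : K, σ c = c → ∃ a : K, a * σ a = c)
    (hnd : ∀ a, (∀ z, B a z = 0) → a = 0)
    (hiso : ∀ u v, B (y u) (y v) = B u v) (h2 : ((2 : ℕ) : K) ≠ 0) (hy : y ^ 2 = 1) (n m : ℕ)
    (hdim : finrank K V = n) (hmn : 2 * m ≤ n)
    (hpar : 2 * m < n ∨ Even (finrank K (movR y))) :
    ∃ W : Submodule K V, finrank K W = m ∧ W ≤ orth B W ∧ ∀ u ∈ W, y u ∈ W := by
  haveI : Fact (Nat.Prime 2) := ⟨Nat.prime_two⟩
  have htop : NdOn B (⊤ : Submodule K V) := by
    intro u _ hu0
    by_contra hcon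
    push Not at hcon
    exact hu0 (hnd u (fun z => hcon z Submodule.mem_top))
  have htinv : ∀ v ∈ (⊤ : Submodule K V), y v ∈ (⊤ : Submodule K V) := fun _ _ => Submodule.mem_top
  have hEnd : NdOn B (fixE y) := by
    have := ndOn_inf_fix B y hiso 2 hy h2 ⊤ htinv htop
    rwa [top_inf_eq] at this
  have hRnd : NdOn B (movR y) := by
    have := ndOn_inf_mov B y hsym hiso 2 hy h2 ⊤ htinv htop
    rwa [top_inf_eq] at this
  have hdisj : fixE y ⊓ movR y = ⊥ := fix_inf_mov y 2 hy h2
  have hen : finrank K (fixE y) + finrank K (movR y) = n := by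
    rw [finrank_fix_add_mov, hdim]
  set a := finrank K (fixE y) with ha
  set b := finrank K (movR y) with hb
  obtain ⟨WE, hWEE, hWEiso, hWEdim⟩ := exists_iso_sub B hσ hsym hNorm (min m (a / 2)) (fixE y) hEnd
    (by
      have := min_le_right m (a / 2)
      omega)
  obtain ⟨WR, hWRR, hWRiso, hWRdim⟩ := exists_iso_sub B hσ hsym hNorm (m - min m (a / 2)) (movR y)
    hRnd (by
      rcases le_total m (a / 2) with h | h
      · rw [min_eq_left h]
        omega
      · rw [min_eq_right h]
        rcases hpar with h3 | ⟨b', hb'⟩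
        · omega
        · omega)
  have hneg : ∀ v ∈ movR y, y v = -v := by
    rintro _ ⟨w, rfl⟩
    have h1 : y (y w) = w := by
      have := congrArg (fun g : V →ₗ[K] V => g w) hy
      simpa [pow_two] using this
    rw [LinearMap.sub_apply, Module.End.one_apply, map_sub, h1]
    abel
  refine ⟨WE ⊔ WR, ?_, ?_, ?_⟩
  · have hd' : WE ⊓ WR = ⊥ := by
      rw [eq_bot_iff, ← hdisj]
      exact inf_le_inf hWEE hWRR
    have := Submodule.finrank_sup_add_finrank_inf_eq WE WR
    rw [hd', finrank_bot, add_zero, hWEdim, hWRdim] at this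
    have := min_le_left m (a / 2)
    omega
  · apply iso_sup B hsym WE WR hWEiso hWRiso
    intro a ha b hb
    exact fix_orth_mov B y hiso a b (hWEE ha) (hWRR hb)
  · apply sup_invariant y WE WR (fixE_invariant y WE hWEE)
    intro v hv
    rw [hneg v (hWRR hv)]
    exact Submodule.neg_mem _ hv

/-- `x^2 = l^2` with `l * σ l = -1` -/
theorem eigen_caseU (hσ : ∀ a, σ (σ a) = a) (hsym : ∀ u v, B v u = σ (B u v))
    (hnd : ∀ a, (∀ z, B a z = 0) → a = 0)
    (hiso : ∀ u v, B (y u) (y v) = B u v) (h2 : (2 : K) ≠ 0) (l : K) (hl : l * σ l = -1)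
    (hy : ∀ v, y (y v) = (l * l) • v) (n m : ℕ) (hdim : finrank K V = n) (hmn : 2 * m ≤ n) :
    ∃ W : Submodule K V, finrank K W = m ∧ W ≤ orth B W ∧ ∀ u ∈ W, y u ∈ W := by
  have hl0 : l ≠ 0 := by
    intro h0
    rw [h0, zero_mul] at hl
    exact (neg_ne_zero.2 one_ne_zero) hl.symm
  have htop : NdOn B (⊤ : Submodule K V) := by
    intro u _ hu0
    by_contra hcon
    push Not at hcon
    exact hu0 (hnd u (fun z => hcon z Submodule.mem_top))
  have key : ∀ c : K, c * σ c = -1 →
      LinearMap.ker (y - c • 1) ≤ orth B (LinearMap.ker (y - c • 1)) := by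
    intro c hc u hu v hv
    rw [LinearMap.mem_ker, LinearMap.sub_apply, LinearMap.smul_apply, Module.End.one_apply,
      sub_eq_zero] at hu hv
    have h1 := hiso v u
    rw [hu, hv] at h1
    simp only [map_smul, LinearMap.smul_apply, map_smulₛₗ, smul_eq_mul] at h1
    have h3 : (2 : K) * B v u = 0 := by linear_combination -h1 + (B v u) * hc
    rcases mul_eq_zero.1 h3 with h4 | h4
    · exact absurd h4 h2
    · exact h4
  have hl' : (-l) * σ (-l) = -1 := by rw [map_neg, neg_mul_neg, hl]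
  have hP := key l hl
  have hM := key (-l) hl'
  have hsup : LinearMap.ker (y - l • 1) ⊔ LinearMap.ker (y - (-l) • 1) = ⊤ := by
    rw [eq_top_iff]
    intro v _
    have hv : v = (2 : K)⁻¹ • (v + l⁻¹ • y v) + (2 : K)⁻¹ • (v - l⁻¹ • y v) := by
      rw [← smul_add]
      have : v + l⁻¹ • y v + (v - l⁻¹ • y v) = (2 : K) • v := by
        rw [two_smul]
        abel
      rw [this, smul_smul, inv_mul_cancel₀ h2, one_smul]
    rw [hv]
    apply Submodule.add_mem_sup
    · apply Submodule.smul_mem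
      rw [LinearMap.mem_ker, LinearMap.sub_apply, LinearMap.smul_apply, Module.End.one_apply,
        map_add, map_smul, hy, smul_add, smul_smul, smul_smul]
      have e1 : l⁻¹ * (l * l) = l := by rw [← mul_assoc, inv_mul_cancel₀ hl0, one_mul]
      rw [e1, mul_inv_cancel₀ hl0, one_smul]
      abel
    · apply Submodule.smul_mem
      rw [LinearMap.mem_ker, LinearMap.sub_apply, LinearMap.smul_apply, Module.End.one_apply,
        map_sub, map_smul, hy, smul_sub, smul_smul, smul_smul]
      have e1 : l⁻¹ * (l * l) = l := by rw [← mul_assoc, inv_mul_cancel₀ hl0, one_mul]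
      rw [e1, neg_mul, mul_inv_cancel₀ hl0, neg_smul, neg_smul, one_smul]
      abel
  have h3 := iso_finrank_le B hσ hsym ⊤ _ htop le_top hP
  have h4 := iso_finrank_le B hσ hsym ⊤ _ htop le_top hM
  rw [finrank_top, hdim] at h3 h4
  have h5 := Submodule.finrank_add_le_finrank_add_finrank
    (LinearMap.ker (y - l • 1)) (LinearMap.ker (y - (-l) • 1))
  rw [hsup, finrank_top, hdim] at h5
  obtain ⟨W, hWP, hWdim⟩ := Sp.exists_sub_finrank (LinearMap.ker (y - l • 1)) m (by omega)
  refine ⟨W, hWdim, ?_, ?_⟩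
  · intro w hw n' hn'
    exact hP (hWP hw) n' (hWP hn')
  · intro u hu
    have := hWP hu
    rw [LinearMap.mem_ker, LinearMap.sub_apply, LinearMap.smul_apply, Module.End.one_apply,
      sub_eq_zero] at this
    rw [this]
    exact Submodule.smul_mem _ _ hu

end two

section detinv

variable {K : Type*} [Field K]

/-- the determinant of an involution -/
theorem det_involution (h2 : (2 : K) ≠ 0) (n : ℕ) (g : Matrix (Fin n) (Fin n) K)
    (hg : g ^ 2 = 1) : g.det = (-1) ^ finrank K (movR (Matrix.toLin' g)) := by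
  classical
  set T := Matrix.toLin' g with hT
  have hT2 : T ^ 2 = 1 := by
    rw [hT, ← Matrix.toLin'_pow, hg, Matrix.toLin'_one]
    rfl
  let h : Fin 2 → K[X] := ![X - 1, X + 1]
  have hh0 : h 0 = X - 1 := rfl
  have hh1 : h 1 = X + 1 := rfl
  have hX1 : (X + 1 : K[X]) = X - C (-1) := by rw [C_neg, C_1, sub_neg_eq_add]
  have hmon : ∀ o, (h o).Monic := by
    intro o
    fin_cases o
    · exact monic_X_sub_one'
    · show (X + 1 : K[X]).Monic
      rw [hX1]
      exact monic_X_sub_C _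
  have hirr : ∀ o, Irreducible (h o) := by
    intro o
    fin_cases o
    · show Irreducible (X - 1 : K[X])
      have : (X - 1 : K[X]) = X - C 1 := by rw [C_1]
      rw [this]
      exact irreducible_X_sub_C 1
    · show Irreducible (X + 1 : K[X])
      rw [hX1]
      exact irreducible_X_sub_C _
  have hprod : ∏ o, h o = X ^ 2 - 1 := by
    rw [Fin.prod_univ_two, hh0, hh1]
    ring
  have hsq : Squarefree (∏ o, h o) := by
    rw [hprod]
    have h2' : ((2 : ℕ) : K) ≠ 0 := by exact_mod_cast h2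
    have := (separable_X_pow_sub_C (1 : K) h2' one_ne_zero).squarefree
    rwa [map_one] at this
  have hTall : aeval T (∏ o, h o) = 0 := by
    rw [hprod, map_sub, map_pow, aeval_X, map_one, hT2, sub_self]
  obtain ⟨e, he, hk⟩ := ker_dims_of_family h hmon hirr hsq n (Fin n → K) T
    (by rw [Module.finrank_fin_fun]) hTall
  rw [hT, charpoly_toLin'_eq, Fin.prod_univ_two, hh0, hh1] at he
  have hdeg := congrArg natDegree he
  have hm1 : (X + 1 : K[X]).Monic := hmon 1
  have hd1 : (X + 1 : K[X]).natDegree = 1 := by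
    rw [hX1]
    exact natDegree_X_sub_C _
  rw [Matrix.charpoly_natDegree_eq_dim, Fintype.card_fin,
    (monic_X_sub_one'.pow _).natDegree_mul (hm1.pow _), monic_X_sub_one'.natDegree_pow,
    hm1.natDegree_pow, natDegree_X_sub_one', hd1, mul_one, mul_one] at hdeg
  have hfix : finrank K (fixE T) = e 0 := by
    rw [fixE_eq_ker_aeval, ← hh0, hk 0, hh0, natDegree_X_sub_one', mul_one]
  have hmov : finrank K (movR T) = e 1 := by
    have := finrank_fix_add_mov T
    rw [Module.finrank_fin_fun, hfix] at this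
    omega
  rw [hmov, Matrix.det_eq_sign_charpoly_coeff, he, Fintype.card_fin, coeff_zero_eq_eval_zero,
    eval_mul, eval_pow, eval_pow, eval_sub, eval_add, eval_X, eval_one, zero_sub, zero_add,
    one_pow, mul_one, ← pow_add, hdeg]
  have : e 0 + e 1 + e 0 = 2 * e 0 + e 1 := by ring
  rw [this, pow_add, pow_mul]
  norm_num

/-- norm-one elements have `μ^n ≠ -1` when `v₂(q+1) ≤ v₂(n)` -/
theorem pow_ne_neg_one (h2 : (2 : K) ≠ 0) (q n : ℕ) (hn : 0 < n)
    (hv : padicValNat 2 (q + 1) ≤ padicValNat 2 n) (μ : K) (hμ : μ * μ ^ q = 1) :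
    μ ^ n ≠ -1 := by
  intro hcon
  have hμ1 : μ ^ (q + 1) = 1 := by rw [pow_succ']; exact hμ
  set a := padicValNat 2 (q + 1) with ha
  obtain ⟨o, ho⟩ : 2 ^ a ∣ q + 1 := pow_padicValNat_dvd
  have hoodd : Odd o := by
    rcases Nat.even_or_odd o with he | hodd
    · exfalso
      obtain ⟨o', ho'⟩ := he
      have : 2 ^ (a + 1) ∣ q + 1 := ⟨o', by rw [ho, ho', pow_succ]; ring⟩
      exact pow_succ_padicValNat_not_dvd (p := 2) (by omega) this
    · exact hodd
  obtain ⟨n', hn'⟩ : 2 ^ a ∣ n := (padicValNat_dvd_iff_le (by omega)).2 hv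
  have h1 : μ ^ (n * o) = 1 := by
    have : n * o = (q + 1) * n' := by rw [hn', ho]; ring
    rw [this, pow_mul, hμ1, one_pow]
  rw [pow_mul, hcon, hoodd.neg_one_pow] at h1
  apply h2
  have : (1 : K) + 1 = 0 := by
    nth_rewrite 1 [← h1]
    ring
  rw [← this]
  ring

end detinv

end Cfsg.Agent.Lib.Helper12.Un
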