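import Mathlib
import Cfsg.Agent.Lib.Helper12.UnI

set_option autoImplicit false

namespace Cfsg.Agent.Lib.Helper12.Un

open Module Polynomial Cfsg.Agent.Lib.Helper12.Elus Cfsg.Agent.Lib.Helper15
  Cfsg.Agent.Lib.Helper14 Cfsg.Agent.Lib.Helper5.HermBridge

section ctx

variable {F : Type*} [Field F] [Fintype F] {q : ℕ}

/-- the matrix `A` fixes a totally isotropic `m`-subspace -/
def FixesU (hF : Fintype.card F = q ^ 2) (n m : ℕ) (A : Matrix (Fin n) (Fin n) F) : Prop :=
  ∃ W : Submodule F (Fin n → F), finrank F W = m ∧ W ≤ orth (hermB hF n) W ∧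
    ∀ u ∈ W, Matrix.toLin' A u ∈ W

theorem fixesU_iff (hF : Fintype.card F = q ^ 2) (n m : ℕ) (A : Matrix (Fin n) (Fin n) F) :
    FixesU hF n m A ↔ ∃ W : Submodule F (Fin n → F), finrank F W = m ∧
      (∀ u ∈ W, ∀ v ∈ W, Cfsg.hermForm n F q u v = 0) ∧ W.map (Matrix.toLin' A) ≤ W := by
  constructor
  · rintro ⟨W, h1, h2, h3⟩
    refine ⟨W, h1, ?_, ?_⟩
    · intro u hu v hv
      have := h2 hv u hu
      rwa [hermB_apply] at this
    · rintro _ ⟨u, hu, rfl⟩
      exact h3 u hu
  · rintro ⟨W, h1, h2, h3⟩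
    refine ⟨W, h1, ?_, ?_⟩
    · intro v hv u hu
      rw [hermB_apply]
      exact h2 u hu v hv
    · intro u hu
      exact h3 ⟨u, hu, rfl⟩

omit [Fintype F] in
theorem isUni_one' (n : ℕ) : IsUni F q n (1 : Matrix (Fin n) (Fin n) F) := by
  intro u v
  rw [Matrix.one_mulVec, Matrix.one_mulVec]

omit [Fintype F] in
theorem isUni_pow' (n : ℕ) (A : Matrix (Fin n) (Fin n) F) (hA : IsUni F q n A) (k : ℕ) :
    IsUni F q n (A ^ k) := by
  induction k with
  | zero => rw [pow_zero]; exact isUni_one' n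
  | succ k ih => rw [pow_succ]; exact ih.mul hA

theorem uni_iso (hF : Fintype.card F = q ^ 2) (n : ℕ) (A : Matrix (Fin n) (Fin n) F)
    (hA : IsUni F q n A) (u v : Fin n → F) :
    hermB hF n (Matrix.toLin' A u) (Matrix.toLin' A v) = hermB hF n u v := by
  rw [hermB_apply, hermB_apply, Matrix.toLin'_apply, Matrix.toLin'_apply]
  exact hA u v

omit [Fintype F] in
/-- a scalar power of a unitary matrix has norm one -/
theorem scal_norm (n : ℕ) (hn : 0 < n) (A : Matrix (Fin n) (Fin n) F)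
    (hA : IsUni F q n A) (k : ℕ) (z : F) (hz : A ^ k = z • 1) : z * z ^ q = 1 := by
  classical
  have h1 := isUni_pow' n A hA k (Pi.single ⟨0, hn⟩ 1) (Pi.single ⟨0, hn⟩ 1)
  rw [hz, Matrix.smul_mulVec, Matrix.one_mulVec] at h1
  unfold Cfsg.hermForm at h1
  rw [Finset.sum_eq_single ⟨0, hn⟩, Finset.sum_eq_single ⟨0, hn⟩] at h1
  · simp only [Pi.smul_apply, Pi.single_eq_same, smul_eq_mul, mul_one, one_pow] at h1
    exact h1
  · intro j _ hj
    rw [Pi.single_eq_of_ne hj, zero_mul]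
  · intro h
    exact absurd (Finset.mem_univ _) h
  · intro j _ hj
    rw [Pi.smul_apply, Pi.single_eq_of_ne hj, smul_zero, zero_mul]
  · intro h
    exact absurd (Finset.mem_univ _) h

/-- rescaling by a norm-one scalar keeps isometries -/
theorem scaled_iso (hF : Fintype.card F = q ^ 2) (n : ℕ) (A : Matrix (Fin n) (Fin n) F)
    (hA : IsUni F q n A) (c : F) (hc : c * c ^ q = 1) (u v : Fin n → F) :
    hermB hF n ((c • Matrix.toLin' A) u) ((c • Matrix.toLin' A) v) = hermB hF n u v := by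
  simp only [LinearMap.smul_apply, map_smul, map_smulₛₗ, smul_eq_mul]
  rw [uni_iso hF n A hA, frobHom_apply, ← mul_assoc, mul_comm (c ^ q) c, hc, one_mul]

omit [Fintype F] in
theorem inv_norm (c : F) (hc : c * c ^ q = 1) : c⁻¹ * c⁻¹ ^ q = 1 := by
  rw [inv_pow, ← mul_inv, hc, inv_one]

/-- the statement's left-hand side at matrix level -/
theorem lhs_iff (hF : Fintype.card F = q ^ 2) (n m r : ℕ) :
    (∀ x : Matrix.SpecialLinearGroup (Fin n) F, x ∈ Cfsg.SU n F q →
      (∃ z : F, ((x ^ r : Matrix.SpecialLinearGroup (Fin n) F) : Matrix (Fin n) (Fin n) F) =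
        z • (1 : Matrix (Fin n) (Fin n) F)) →
      (∀ z : F, (x : Matrix (Fin n) (Fin n) F) ≠ z • (1 : Matrix (Fin n) (Fin n) F)) →
      ∃ W : Submodule F (Fin n → F), Module.finrank F ↥W = m ∧
        (∀ u ∈ W, ∀ v ∈ W, Cfsg.hermForm n F q u v = 0) ∧
        W.map (Matrix.toLin' (x : Matrix (Fin n) (Fin n) F)) ≤ W) ↔
    (∀ A : Matrix (Fin n) (Fin n) F, IsUni F q n A → A.det = 1 →
      (∃ z : F, A ^ r = z • (1 : Matrix (Fin n) (Fin n) F)) →
      (∀ z : F, A ≠ z • (1 : Matrix (Fin n) (Fin n) F)) → FixesU hF n m A) := by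
  constructor
  · intro H A hA hdet hz hns
    rw [fixesU_iff]
    obtain ⟨x, hx⟩ : ∃ x : Matrix.SpecialLinearGroup (Fin n) F,
        (x : Matrix (Fin n) (Fin n) F) = A := ⟨⟨A, hdet⟩, rfl⟩
    subst hx
    exact H x hA (by
      obtain ⟨z, hz⟩ := hz
      refine ⟨z, ?_⟩
      rw [Matrix.SpecialLinearGroup.coe_pow]
      exact hz) hns
  · intro H x hx hz hns
    have := H x.1 hx x.2 (by
      obtain ⟨z, hz⟩ := hz
      refine ⟨z, ?_⟩
      rw [Matrix.SpecialLinearGroup.coe_pow] at hz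
      exact hz) hns
    rw [fixesU_iff] at this
    exact this

end ctx

section arith2

theorem b_eq {F : Type*} [Field F] [Fintype F] {q : ℕ} (hF : Fintype.card F = q ^ 2) (r : ℕ) :
    orderOf (Fintype.card F : ZMod r) =
      if Even (orderOf (q : ZMod r)) then orderOf (q : ZMod r) / 2 else orderOf (q : ZMod r) := by
  rw [hF]
  exact orderOf_sq_cast q r

theorem c_eq (i b : ℕ) (hb : b = if Even i then i / 2 else i) :
    (if i % 4 = 2 then b else 2 * b) =
      (if i % 4 = 0 then i else if i % 4 = 2 then i / 2 else 2 * i) := by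
  rw [hb]
  by_cases h0 : i % 4 = 0
  · have hev : Even i := by rw [Nat.even_iff]; omega
    rw [if_neg (by omega), if_pos hev, if_pos h0]
    omega
  · by_cases h2 : i % 4 = 2
    · have hev : Even i := by rw [Nat.even_iff]; omega
      rw [if_pos h2, if_pos hev, if_neg h0, if_pos h2]
    · have hev : ¬ Even i := by rw [Nat.even_iff]; omega
      rw [if_neg h2, if_neg hev, if_neg h0, if_neg h2]

theorem orderOf_eq_two_of_dvd (q r : ℕ) [Fact r.Prime] (hr2 : r ≠ 2) (h : r ∣ q + 1) :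
    orderOf (q : ZMod r) = 2 := by
  have hr : r.Prime := Fact.out
  have h1 : (q : ZMod r) = -1 := by
    have h2 : ((q + 1 : ℕ) : ZMod r) = 0 := (ZMod.natCast_eq_zero_iff _ r).2 h
    rw [Nat.cast_add, Nat.cast_one] at h2
    exact eq_neg_of_add_eq_zero_left h2
  rw [h1]
  apply orderOf_eq_prime
  · ring
  · intro h3
    have h4 : ((2 : ℕ) : ZMod r) = 0 := by
      have : (1 : ZMod r) + 1 = 0 := by
        nth_rewrite 1 [← h3]
        ring
      push_cast
      rw [← this]
      norm_num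
    rw [ZMod.natCast_eq_zero_iff] at h4
    exact hr2 ((Nat.prime_dvd_prime_iff_eq hr Nat.prime_two).1 h4)

theorem dvd_of_orderOf_eq_two (q r : ℕ) [Fact r.Prime] (h : orderOf (q : ZMod r) = 2) :
    r ∣ q + 1 := by
  have h1 : (q : ZMod r) ^ 2 = 1 := by rw [← h]; exact pow_orderOf_eq_one _
  have h2 : ((q : ZMod r) - 1) * ((q : ZMod r) + 1) = 0 := by
    have : ((q : ZMod r) - 1) * ((q : ZMod r) + 1) = (q : ZMod r) ^ 2 - 1 := by ring
    rw [this, h1, sub_self]
  rcases mul_eq_zero.1 h2 with h3 | h3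
  · exfalso
    have h4 : (q : ZMod r) = 1 := sub_eq_zero.1 h3
    rw [h4, orderOf_one] at h
    omega
  · rw [← ZMod.natCast_eq_zero_iff]
    push_cast
    exact h3

end arith2

section bwd

variable {F : Type*} [Field F] [Fintype F]

theorem cast_q_eq_zero (p e : ℕ) [Fact p.Prime] [CharP F p]
    (hF : Fintype.card F = (p ^ e) ^ 2) : ((p ^ e : ℕ) : F) = 0 := by
  classical
  have hq2 := herm_two_le hF
  have he : e ≠ 0 := by
    intro h0
    rw [h0, pow_zero] at hq2
    omega
  rw [Nat.cast_pow, CharP.cast_eq_zero F p, zero_pow he]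

/-- odd `r`: sufficiency -/
theorem bwd_odd (p e : ℕ) [Fact p.Prime] [CharP F p] (hF : Fintype.card F = (p ^ e) ^ 2)
    (n m : ℕ) (hn : 3 ≤ n) (hmn : 2 * m ≤ n) (r : ℕ) [Fact r.Prime] (hr2 : r ≠ 2) (hrp : r ≠ p)
    (h1 : 2 * (m % orderOf (Fintype.card F : ZMod r)) ≤
      n % (if orderOf ((p ^ e : ℕ) : ZMod r) % 4 = 2 then orderOf (Fintype.card F : ZMod r)
        else 2 * orderOf (Fintype.card F : ZMod r)))
    (h2 : orderOf ((p ^ e : ℕ) : ZMod r) % 4 ≠ 2 ∨
      ((r - 1) / orderOf (Fintype.card F : ZMod r) + 2 * (m / orderOf (Fintype.card F : ZMod r)) ≤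
        n / orderOf (Fintype.card F : ZMod r) ∧
        (2 < orderOf ((p ^ e : ℕ) : ZMod r) ∨
          (r ∣ m ∨ padicValNat r n ≤ padicValNat r (p ^ e + 1)))))
    (A : Matrix (Fin n) (Fin n) F) (hA : IsUni F (p ^ e) n A) (hdet : A.det = 1)
    (hz : ∃ z : F, A ^ r = z • (1 : Matrix (Fin n) (Fin n) F)) : FixesU hF n m A := by
  classical
  have hr : r.Prime := Fact.out
  have hq2 := herm_two_le hF
  have hr0 : (r : F) ≠ 0 := by
    rw [Ne, CharP.cast_eq_zero_iff F p]
    intro hd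
    exact hrp ((Nat.prime_dvd_prime_iff_eq Fact.out Fact.out).1 hd).symm
  obtain ⟨z, hz⟩ := hz
  have hzn : z * z ^ (p ^ e) = 1 := scal_norm n (by omega) A hA r z hz
  have hz0 : z ≠ 0 := by
    intro h0
    rw [h0, zero_mul] at hzn
    exact zero_ne_one hzn
  have hσe : ∀ c : F, frobHom hF c = c ^ (p ^ e) := fun c => frobHom_apply hF c
  have hdimV : finrank F (Fin n → F) = n := Module.finrank_fin_fun F
  have hTr : (Matrix.toLin' A) ^ r = z • 1 := by
    rw [← Matrix.toLin'_pow, hz, map_smul, Matrix.toLin'_one]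
    rfl
  have key : (∃ μ : F, μ * μ ^ (p ^ e) = 1 ∧ μ ^ r = z) → FixesU hF n m A := by
    rintro ⟨μ, hμ1, hμ2⟩
    have hμ0 : μ ≠ 0 := by
      intro h0
      rw [h0, zero_mul] at hμ1
      exact zero_ne_one hμ1
    set y := μ⁻¹ • Matrix.toLin' A with hy
    have hiso : ∀ u v, hermB hF n (y u) (y v) = hermB hF n u v :=
      scaled_iso hF n A hA μ⁻¹ (inv_norm μ hμ1)
    have hyr : y ^ r = 1 := by
      rw [hy, _root_.smul_pow, hTr, smul_smul, inv_pow, hμ2, inv_mul_cancel₀ hz0, one_smul]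
    obtain ⟨W, hWdim, hWiso, hWinv⟩ := un_iso_bwd (hermB hF n) y r p (frob_invol hF)
      (hermB_sym hF n) (norm_surj hF) e hσe hF (fixK hF) (finrank_fixK hF) (mem_fixK hF)
      (hermB_nd hF n) hiso hrp hr2 hyr n m hdimV hmn h1
      (by
        rcases h2 with h | h
        · exact Or.inl h
        · exact Or.inr h.1)
    refine ⟨W, hWdim, hWiso, ?_⟩
    intro u hu
    have h3 : Matrix.toLin' A u = μ • y u := by
      rw [hy, LinearMap.smul_apply, smul_smul, mul_inv_cancel₀ hμ0, one_smul]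
    rw [h3]
    exact Submodule.smul_mem _ _ (hWinv u hu)
  by_cases hrq : r ∣ p ^ e + 1
  · by_cases hw : ∃ w : F, w ^ r = z
    · obtain ⟨w, hw⟩ := hw
      exact key ⟨w, normOne_of_pow hF r hr2 hrq z w hzn hw, hw⟩
    · push Not at hw
      have hi2 : orderOf ((p ^ e : ℕ) : ZMod r) = 2 := orderOf_eq_two_of_dvd _ r hr2 hrq
      have h2' := h2.resolve_left (by rw [hi2]; norm_num)
      have h3 := h2'.2.resolve_left (by rw [hi2]; norm_num)
      obtain ⟨e', he1, he2⟩ := det_of_irred_pow r hr2 n A z hz hw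
      rw [hdet] at he2
      have he'pos : 0 < e' := by
        rcases Nat.eq_zero_or_pos e' with h0 | h0
        · rw [h0, mul_zero] at he1
          omega
        · exact h0
      have hlt := padic_lt_of_not_pow hF r z hzn hw e' he'pos he2.symm
      rw [← he1] at hlt
      have hrm : r ∣ m := by
        rcases h3 with h4 | h4
        · exact h4
        · omega
      obtain ⟨m', hm'⟩ := hrm
      have hirr : Irreducible (X ^ r - C z : F[X]) := X_pow_sub_C_irreducible_of_prime hr hw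
      have hm : (X ^ r - C z : F[X]).Monic := monic_X_pow_sub_C z hr.pos.ne'
      have hdeg : (X ^ r - C z : F[X]).natDegree = r := natDegree_X_pow_sub_C
      have hP : aeval (Matrix.toLin' A) (X ^ r - C z : F[X]) = 0 := by
        rw [map_sub, map_pow, aeval_X, aeval_C, hTr, Algebra.algebraMap_eq_smul_one, sub_self]
      have hN0 : ((r * (p ^ e + 1) : ℕ) : F) ≠ 0 := by
        rw [Nat.cast_mul, Nat.cast_add, cast_q_eq_zero p e hF, zero_add, Nat.cast_one, mul_one]
        exact hr0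
      have hyN : (Matrix.toLin' A) ^ (r * (p ^ e + 1)) = 1 := by
        rw [pow_mul, hTr, _root_.smul_pow, one_pow, pow_succ', hzn, one_smul]
      obtain ⟨W, hWdim, hWiso, hWinv⟩ := exists_iso_inv_irred (hermB hF n) (Matrix.toLin' A) p
        (frob_invol hF) (hermB_sym hF n) (fixK hF) (finrank_fixK hF) (mem_fixK hF)
        (hermB_nd hF n) (uni_iso hF n A hA) (r * (p ^ e + 1))
        (Nat.mul_pos hr.pos (by omega)) hyN hN0 (X ^ r - C z) hm hirr hP
        (by rw [hdeg]; exact hr.odd_of_ne_two hr2) m'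
        (by rw [hdeg, hdimV, ← hm']; exact hmn)
      rw [hdeg, ← hm'] at hWdim
      exact ⟨W, hWdim, hWiso, hWinv⟩
  · have hcop : Nat.Coprime r (p ^ e + 1) := (Nat.Prime.coprime_iff_not_dvd hr).2 hrq
    exact key (exists_root_of_coprime r hcop (by omega) z hzn)

end bwd

section bwd2

variable {F : Type*} [Field F] [Fintype F]

/-- `r = 2`: sufficiency -/
theorem bwd_two (p e : ℕ) [Fact p.Prime] [CharP F p] (hF : Fintype.card F = (p ^ e) ^ 2)
    (n m : ℕ) (hn : 3 ≤ n) (hmn : 2 * m ≤ n) (hp2 : p ≠ 2)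
    (h : 2 * m < n ∨ padicValNat 2 (p ^ e + 1) ≤ padicValNat 2 n)
    (A : Matrix (Fin n) (Fin n) F) (hA : IsUni F (p ^ e) n A) (hdet : A.det = 1)
    (hz : ∃ z : F, A ^ 2 = z • (1 : Matrix (Fin n) (Fin n) F)) : FixesU hF n m A := by
  classical
  have hp : p.Prime := Fact.out
  have hq2 := herm_two_le hF
  have h2N : ((2 : ℕ) : F) ≠ 0 := by
    rw [Ne, CharP.cast_eq_zero_iff F p]
    intro hd
    exact hp2 ((Nat.prime_dvd_prime_iff_eq hp Nat.prime_two).1 hd)
  have h2 : (2 : F) ≠ 0 := by exact_mod_cast h2N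
  obtain ⟨z, hz⟩ := hz
  have hzn : z * z ^ (p ^ e) = 1 := scal_norm n (by omega) A hA 2 z hz
  have hz1 : z ^ (p ^ e + 1) = 1 := by rw [pow_succ']; exact hzn
  have hz0 : z ≠ 0 := by
    intro h0
    rw [h0, zero_mul] at hzn
    exact zero_ne_one hzn
  have hdimV : finrank F (Fin n → F) = n := Module.finrank_fin_fun F
  have hT2 : (Matrix.toLin' A) ^ 2 = z • 1 := by
    rw [← Matrix.toLin'_pow, hz, map_smul, Matrix.toLin'_one]
    rfl
  have hqodd : Odd (p ^ e) := (hp.odd_of_ne_two hp2).pow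
  obtain ⟨j, hj⟩ := hqodd
  have hsqz : IsSquare z := by
    have hch : ringChar F ≠ 2 := by
      rw [ringChar.eq F p]
      exact hp2
    rw [FiniteField.isSquare_iff hch hz0, hF]
    have h3 : (p ^ e) ^ 2 / 2 = j * (p ^ e + 1) := by
      rw [hj]
      have : (2 * j + 1) ^ 2 = 2 * (j * (2 * j + 1 + 1)) + 1 := by ring
      rw [this]
      omega
    rw [h3, mul_comm, pow_mul, hz1, one_pow]
  obtain ⟨l, hl⟩ := hsqz
  have hl0 : l ≠ 0 := by
    intro h0
    rw [h0, mul_zero] at hl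
    exact hz0 hl
  have hν : (l * l ^ (p ^ e)) * (l * l ^ (p ^ e)) = 1 := by
    have : (l * l ^ (p ^ e)) * (l * l ^ (p ^ e)) = (l * l) * (l * l) ^ (p ^ e) := by ring
    rw [this, ← hl, hzn]
  rcases mul_self_eq_one_iff.1 hν with hν1 | hν1
  · -- involution case
    set y := l⁻¹ • Matrix.toLin' A with hy
    have hiso : ∀ u v, hermB hF n (y u) (y v) = hermB hF n u v :=
      scaled_iso hF n A hA l⁻¹ (inv_norm l hν1)
    have hy2 : y ^ 2 = 1 := by
      rw [hy, _root_.smul_pow, hT2, smul_smul, inv_pow, sq, ← hl, inv_mul_cancel₀ hz0, one_smul]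
    have hpar : 2 * m < n ∨ Even (finrank F (movR y)) := by
      rcases h with h3 | h3
      · exact Or.inl h3
      · right
        by_contra hne
        have hodd : Odd (finrank F (movR y)) := Nat.not_even_iff_odd.1 hne
        have hyG : y = Matrix.toLin' (l⁻¹ • A) := by
          rw [hy, map_smul]
        have hG2 : (l⁻¹ • A) ^ 2 = 1 := by
          rw [_root_.smul_pow, hz, smul_smul, inv_pow, sq, ← hl, inv_mul_cancel₀ hz0, one_smul]
        have h4 := det_involution h2 n (l⁻¹ • A) hG2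
        rw [← hyG, hodd.neg_one_pow, Matrix.det_smul, hdet, mul_one, Fintype.card_fin,
          inv_pow] at h4
        have h5 : l ^ n = -1 := by
          have := congrArg (fun x => x⁻¹) h4
          simp only [inv_inv] at this
          rw [this, inv_neg, inv_one]
        exact pow_ne_neg_one h2 (p ^ e) n (by omega) h3 l hν1 h5
    obtain ⟨W, hWdim, hWiso, hWinv⟩ := invol_caseU (hermB hF n) y (frob_invol hF)
      (hermB_sym hF n) (norm_surj hF) (hermB_nd hF n) hiso h2N hy2 n m hdimV hmn hpar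
    refine ⟨W, hWdim, hWiso, ?_⟩
    intro u hu
    have h3 : Matrix.toLin' A u = l • y u := by
      rw [hy, LinearMap.smul_apply, smul_smul, mul_inv_cancel₀ hl0, one_smul]
    rw [h3]
    exact Submodule.smul_mem _ _ (hWinv u hu)
  · -- eigenspace case
    have hyy : ∀ v, Matrix.toLin' A (Matrix.toLin' A v) = (l * l) • v := by
      intro v
      have := congrArg (fun g : (Fin n → F) →ₗ[F] (Fin n → F) => g v) hT2
      simp only [sq, Module.End.mul_apply, LinearMap.smul_apply, Module.End.one_apply] at this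
      rw [this, hl]
    exact eigen_caseU (hermB hF n) (Matrix.toLin' A) (frob_invol hF) (hermB_sym hF n)
      (hermB_nd hF n) (uni_iso hF n A hA) h2 l (by rw [frobHom_apply]; exact hν1) hyy n m hdimV hmn

end bwd2

end Cfsg.Agent.Lib.Helper12.Un
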