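import Mathlib
import Cfsg.Agent.Lib.Helper12.UnJ

set_option autoImplicit false

namespace Cfsg.Agent.Lib.Helper12.Un

open Module Polynomial Cfsg.Agent.Lib.Helper12.Elus Cfsg.Agent.Lib.Helper15
  Cfsg.Agent.Lib.Helper14 Cfsg.Agent.Lib.Helper5.HermBridge

section fwd2

variable {F : Type*} [Field F] [Fintype F]

/-- `r = 2`: necessity -/
theorem fwd_two (p e : ℕ) [Fact p.Prime] [CharP F p] (hF : Fintype.card F = (p ^ e) ^ 2)
    (n m : ℕ) (hn : 3 ≤ n) (hmn : 2 * m ≤ n) (hp2 : p ≠ 2)
    (H : ∀ A : Matrix (Fin n) (Fin n) F, IsUni F (p ^ e) n A → A.det = 1 →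
      (∃ z : F, A ^ 2 = z • (1 : Matrix (Fin n) (Fin n) F)) →
      (∀ z : F, A ≠ z • (1 : Matrix (Fin n) (Fin n) F)) → FixesU hF n m A) :
    2 * m < n ∨ padicValNat 2 (p ^ e + 1) ≤ padicValNat 2 n := by
  classical
  by_contra hcon
  push Not at hcon
  obtain ⟨hnm, hv⟩ := hcon
  have hp : p.Prime := Fact.out
  have h2N : ((2 : ℕ) : F) ≠ 0 := by
    rw [Ne, CharP.cast_eq_zero_iff F p]
    intro hd
    exact hp2 ((Nat.prime_dvd_prime_iff_eq hp Nat.prime_two).1 hd)
  have h2 : (2 : F) ≠ 0 := by exact_mod_cast h2N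
  haveI : Fact (Nat.Prime 2) := ⟨Nat.prime_two⟩
  have hqodd : Odd (p ^ e) := (hp.odd_of_ne_two hp2).pow
  have hqev : Even (p ^ e + 1) := hqodd.add_one
  obtain ⟨μ, hμ1, hμ2⟩ := exists_model2 hF n (by omega) hv
  have hμ0 : μ ≠ 0 := by
    intro h0
    rw [h0, zero_mul] at hμ1
    exact zero_ne_one hμ1
  set D : Matrix (Fin n) (Fin n) F := Matrix.diagonal (reflD F n) with hD
  have hDuni : IsUni F (p ^ e) n D := by
    apply isUni_diagonal
    intro k
    rw [← pow_succ']
    exact reflD_pow_even n k _ hqev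
  have hAuni : IsUni F (p ^ e) n (μ • D) := by
    rw [hD, ← Matrix.diagonal_smul]
    apply isUni_diagonal
    intro k
    rw [Pi.smul_apply, smul_eq_mul, mul_pow]
    have := reflD_pow_even (K := F) n k _ hqev
    rw [pow_succ'] at this
    calc μ * reflD F n k * (μ ^ (p ^ e) * reflD F n k ^ (p ^ e))
        = (μ * μ ^ (p ^ e)) * (reflD F n k * reflD F n k ^ (p ^ e)) := by ring
      _ = 1 := by rw [hμ1, this, one_mul]
  have hD2 : D ^ 2 = 1 := by
    rw [hD, Matrix.diagonal_pow, ← Matrix.diagonal_one]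
    congr 1
    funext k
    rw [Pi.pow_apply, sq, reflD_sq]
  have hAdet : (μ • D).det = 1 := by
    rw [Matrix.det_smul, Fintype.card_fin, hD, Matrix.det_diagonal, prod_reflD n (by omega), hμ2]
    ring
  have hA2 : (μ • D) ^ 2 = (μ ^ 2) • (1 : Matrix (Fin n) (Fin n) F) := by
    rw [_root_.smul_pow, hD2]
  have hns : ∀ z : F, μ • D ≠ z • (1 : Matrix (Fin n) (Fin n) F) := by
    intro z hz
    have h0 := congrFun (congrFun hz ⟨0, by omega⟩) ⟨0, by omega⟩
    have h1 := congrFun (congrFun hz ⟨n - 1, by omega⟩) ⟨n - 1, by omega⟩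
    rw [Matrix.smul_apply, Matrix.smul_apply, Matrix.one_apply_eq, hD, Matrix.diagonal_apply_eq,
      smul_eq_mul, smul_eq_mul, mul_one] at h0 h1
    unfold reflD at h0 h1
    rw [if_neg (by simp; omega)] at h0
    rw [if_pos (by simp; omega)] at h1
    have h3 : μ * 1 = μ * -1 := by rw [h0, h1]
    have h4 : (2 : F) * μ = 0 := by linear_combination h3
    rcases mul_eq_zero.1 h4 with h5 | h5
    · exact h2 h5
    · exact hμ0 h5
  obtain ⟨W, hWdim, hWiso, hWinv⟩ := H (μ • D) hAuni hAdet ⟨μ ^ 2, hA2⟩ hns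
  set y := Matrix.toLin' D with hy
  have hWy : ∀ u ∈ W, y u ∈ W := by
    intro u hu
    have h3 : y u = μ⁻¹ • Matrix.toLin' (μ • D) u := by
      rw [map_smul, LinearMap.smul_apply, smul_smul, inv_mul_cancel₀ hμ0, one_smul]
    rw [h3]
    exact Submodule.smul_mem _ _ (hWinv u hu)
  have hy2 : y ^ 2 = 1 := by
    rw [hy, ← Matrix.toLin'_pow, hD2, Matrix.toLin'_one]
    rfl
  obtain ⟨h3, h4, h5⟩ := iso_inv_split (hermB hF n) y 2 (frob_invol hF) (hermB_sym hF n)
    (hermB_nd hF n) (uni_iso hF n D hDuni) hy2 h2N W hWy hWiso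
  have hfix : finrank F (fixE y) = n - 1 := by
    have h6 := finrank_ker_diagonal_sub (reflD F n) 1
    rw [one_smul, card_reflD_eq_one n (by omega) h2] at h6
    exact h6
  have hmov := finrank_fix_add_mov y
  rw [Module.finrank_fin_fun, hfix] at hmov
  omega

end fwd2

section fwdodd

universe u

variable {F : Type u} [Field F] [Fintype F]

/-- odd `r`: necessity -/
theorem fwd_odd (p e : ℕ) [Fact p.Prime] [CharP F p] (hF : Fintype.card F = (p ^ e) ^ 2)
    (n m : ℕ) (hn : 3 ≤ n) (hmn : 2 * m ≤ n) (r : ℕ) [Fact r.Prime]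
    (hr2 : r ≠ 2) (hrp : r ≠ p)
    (hrΩ : r ∣ Nat.card (TiSub F (p ^ e) n m))
    (H : ∀ A : Matrix (Fin n) (Fin n) F, IsUni F (p ^ e) n A → A.det = 1 →
      (∃ z : F, A ^ r = z • (1 : Matrix (Fin n) (Fin n) F)) →
      (∀ z : F, A ≠ z • (1 : Matrix (Fin n) (Fin n) F)) → FixesU hF n m A) :
    orderOf (Fintype.card F : ZMod r) ≤ m ∧
    2 * (m % orderOf (Fintype.card F : ZMod r)) ≤
      n % (if orderOf ((p ^ e : ℕ) : ZMod r) % 4 = 2 then orderOf (Fintype.card F : ZMod r)
        else 2 * orderOf (Fintype.card F : ZMod r)) ∧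
    (orderOf ((p ^ e : ℕ) : ZMod r) % 4 ≠ 2 ∨
      ((r - 1) / orderOf (Fintype.card F : ZMod r) + 2 * (m / orderOf (Fintype.card F : ZMod r)) ≤
        n / orderOf (Fintype.card F : ZMod r) ∧
        (2 < orderOf ((p ^ e : ℕ) : ZMod r) ∨
          (r ∣ m ∨ padicValNat r n ≤ padicValNat r (p ^ e + 1))))) := by
  classical
  have hr : r.Prime := Fact.out
  have hq2 := herm_two_le hF
  have hr0 : (r : F) ≠ 0 := by
    rw [Ne, CharP.cast_eq_zero_iff F p]
    intro hd
    exact hrp ((Nat.prime_dvd_prime_iff_eq Fact.out Fact.out).1 hd).symm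
  have hσe : ∀ c : F, frobHom hF c = c ^ (p ^ e) := fun c => frobHom_apply hF c
  set i := orderOf ((p ^ e : ℕ) : ZMod r) with hi
  set i₀ := orderOf (Fintype.card F : ZMod r) with hi₀
  set c := (if i % 4 = 2 then i₀ else 2 * i₀) with hc
  have hipos : 0 < i₀ := orderOf_card_pos r hrp
  have hb := b_eq hF r
  rw [← hi, ← hi₀] at hb
  have hceq := c_eq i i₀ hb
  rw [← hc] at hceq
  have hcpos : 0 < c := by
    rw [hc]
    split_ifs <;> omega
  obtain ⟨hcn, hnc⟩ := count_consequence hF r hr2 n m hmn hrΩ c (by rw [hceq])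
  -- (N1)
  have hN1 : 2 * (m % i₀) ≤ n % c := by
    rcases Nat.lt_or_ge 1 i₀ with hb1 | hb1
    · obtain ⟨g, hg1, hg2, hg3, hg4, hg5⟩ := exists_model1 hF e rfl (frobHom hF) hσe r hrp hb1 n c
        hc hcn
      obtain ⟨W, hWdim, hWiso, hWinv⟩ := H g hg1 hg2 ⟨1, by rw [hg3, one_smul]⟩ hg4
      have hyr : (Matrix.toLin' g) ^ r = 1 := by
        rw [← Matrix.toLin'_pow, hg3, Matrix.toLin'_one]
        rfl
      have := iso_inv_mod (hermB hF n) (Matrix.toLin' g) r (frob_invol hF) (hermB_sym hF n)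
        (hermB_nd hF n) (uni_iso hF n g hg1) hyr hr0 W hWinv hWiso
      rw [hWdim, ← hi₀] at this
      omega
    · have : i₀ = 1 := by omega
      rw [this, Nat.mod_one]
      omega
  -- (N2)
  have hN2 : i₀ ≤ m := by
    by_contra hlt
    push Not at hlt
    rw [Nat.mod_eq_of_lt hlt] at hN1
    omega
  refine ⟨hN2, hN1, ?_⟩
  by_cases hmod : i % 4 = 2
  swap
  · exact Or.inl hmod
  right
  have hci : c = i₀ := by rw [hc, if_pos hmod]
  rw [hci] at hN1 hcn hnc
  have hq0 : ((Fintype.card F : ℕ) : ZMod r) ≠ 0 := by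
    rw [Ne, ZMod.natCast_eq_zero_iff]
    exact card_not_dvd (F := F) r hr hrp
  have hidvd' : i₀ ∣ r - 1 := orderOf_dvd_of_pow_eq_one (ZMod.pow_card_sub_one_eq_one hq0)
  set t := (r - 1) / i₀ with ht
  have hti : t * i₀ = r - 1 := Nat.div_mul_cancel hidvd'
  have ht1 : 1 ≤ t := by
    rcases Nat.eq_zero_or_pos t with h0 | h0
    · rw [h0, zero_mul] at hti
      have := hr.two_le
      omega
    · exact h0
  obtain ⟨h, hmon, hirr, hnone, hdeg, hprod⟩ :=
    PrimeOrderClasses.exists_factor_family (F := F) (p := p) rfl r i₀ t hr hrp hi₀ hti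
  have hsq : Squarefree (∏ o, h o) := by
    rw [hprod]
    have := (separable_X_pow_sub_C (1 : F) hr0 one_ne_zero).squarefree
    rwa [map_one] at this
  have hcop := PrimeOrderClasses.family_coprime h hmon hirr hsq
  obtain ⟨j, hj, -⟩ := exists_dvd_of_mod_four (p ^ e) r hmod
  constructor
  · -- (N3)
    by_contra hcon
    push Not at hcon
    set D := n / i₀ with hD
    set κ := m / i₀ with hκ
    have hD1 : 1 ≤ D := (Nat.one_le_div_iff hipos).2 hcn
    have hκ1 : 1 ≤ κ := (Nat.one_le_div_iff hipos).2 hN2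
    have hdm : i₀ * D + n % i₀ = n := Nat.div_add_mod _ _
    have hmm : i₀ * κ + m % i₀ = m := Nat.div_add_mod _ _
    rcases Nat.lt_or_ge 1 i₀ with hb1 | hb1
    · -- general self-dual case
      obtain ⟨ε, hε⟩ : ∃ ε, ε = D - t := ⟨_, rfl⟩
      obtain ⟨s, hs⟩ : ∃ s, s = D - ε := ⟨_, rfl⟩
      have hst : s ≤ t := by omega
      have hs1 : 1 ≤ s := by omega
      have hεs : ε + s = D := by omega
      have hn' : n = (n % i₀ + i₀ * ε) + i₀ * s := by
        have : i₀ * D = i₀ * ε + i₀ * s := by rw [← hεs, mul_add]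
        omega
      obtain ⟨g, hg1, hg2, hg3, hg4, hg5, hg6⟩ := exists_model3 hF e rfl (frobHom hF) hσe r hrp hb1
        hmod h hmon hirr hnone hdeg hprod n _ s hs1 hst hn'
      obtain ⟨W, hWdim, hWiso, hWinv⟩ := H g hg1 hg2 ⟨1, by rw [hg3, one_smul]⟩ hg4
      have hyr : (Matrix.toLin' g) ^ r = 1 := by
        rw [← Matrix.toLin'_pow, hg3, Matrix.toLin'_one]
        rfl
      have hiso := uni_iso hF n g hg1
      have hbot : W ⊓ movR (Matrix.toLin' g) = ⊥ := by
        apply no_iso_in_mov (hermB hF n) (Matrix.toLin' g) r (frob_invol hF) (hermB_sym hF n) e hσe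
          hF (hermB_nd hF n) hiso hrp hyr j hj h hnone hprod hcop hg6 _
          inf_le_right (Sp.inf_invariant _ _ _ hWinv (movR_invariant _))
        intro w hw n' hn''
        exact hWiso hw.1 n' hn''.1
      obtain ⟨h1, h2, -⟩ := iso_inv_split (hermB hF n) (Matrix.toLin' g) r (frob_invol hF)
        (hermB_sym hF n) (hermB_nd hF n) hiso hyr hr0 W hWinv hWiso
      rw [hbot, finrank_bot, add_zero] at h1
      rw [← h1, hWdim] at h2
      -- arithmetic
      obtain ⟨κ', hκ'⟩ : ∃ κ', κ = κ' + 1 := ⟨κ - 1, by omega⟩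
      have hε' : ε ≤ 2 * κ' + 1 := by omega
      have h3 : i₀ * ε ≤ 2 * (i₀ * κ') + i₀ := by
        calc i₀ * ε ≤ i₀ * (2 * κ' + 1) := Nat.mul_le_mul_left _ hε'
          _ = 2 * (i₀ * κ') + i₀ := by ring
      have h4 : i₀ * κ = i₀ * κ' + i₀ := by rw [hκ', mul_add, mul_one]
      have h5 := Nat.mod_lt n hipos
      omega
    · -- `i = 2`: the diagonal model
      have hi₀1 : i₀ = 1 := by omega
      have hi2 : i = 2 := by
        rw [hi₀1] at hb
        split_ifs at hb with hev
        · omega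
        · omega
      have hrq : r ∣ p ^ e + 1 := dvd_of_orderOf_eq_two _ r hi2
      rw [hi₀1, Nat.div_one] at ht
      have hD' : D = n := by rw [hD, hi₀1, Nat.div_one]
      have hκ' : κ = m := by rw [hκ, hi₀1, Nat.div_one]
      rw [hD', hκ'] at hcon
      have hrodd : Odd r := hr.odd_of_ne_two hr2
      obtain ⟨r', hr'⟩ := hrodd
      obtain ⟨s, hs⟩ : ∃ s, s = 2 * (min n (r - 1) / 2) := ⟨_, rfl⟩
      have hse : Even s := ⟨min n (r - 1) / 2, by rw [hs]; ring⟩
      have hsn : s ≤ n := by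
        have := min_le_left n (r - 1)
        omega
      have hsr : s + 1 ≤ r := by
        have := min_le_right n (r - 1)
        omega
      have hs2 : 2 ≤ s := by
        have h1 : 2 ≤ min n (r - 1) := le_min (by omega) (by have := hr.two_le; omega)
        omega
      obtain ⟨d, hd1, hd2, hd3, ⟨k₁, k₂, hd4⟩, hd5, hd6⟩ := exists_model3' (p := p) hF r hrq n s
        (by omega) hse hs2 hsn hsr
      set g : Matrix (Fin n) (Fin n) F := Matrix.diagonal d with hg
      have hg1 : IsUni F (p ^ e) n g := isUni_diagonal d hd1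
      have hg2 : g.det = 1 := by rw [hg, Matrix.det_diagonal, hd2]
      have hg3 : g ^ r = 1 := by
        rw [hg, Matrix.diagonal_pow, ← Matrix.diagonal_one]
        congr 1
        funext k
        rw [Pi.pow_apply, hd3]
      have hg4 : ∀ z : F, g ≠ z • (1 : Matrix (Fin n) (Fin n) F) := by
        intro z hz
        apply hd4
        have h1 := congrFun (congrFun hz k₁) k₁
        have h2 := congrFun (congrFun hz k₂) k₂
        rw [hg, Matrix.diagonal_apply_eq, Matrix.smul_apply, Matrix.one_apply_eq] at h1 h2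
        rw [h1, h2]
      obtain ⟨W, hWdim, hWiso, hWinv⟩ := H g hg1 hg2 ⟨1, by rw [hg3, one_smul]⟩ hg4
      have hyr : (Matrix.toLin' g) ^ r = 1 := by
        rw [← Matrix.toLin'_pow, hg3, Matrix.toLin'_one]
        rfl
      have hiso := uni_iso hF n g hg1
      have hker : ∀ j' : Fin t, finrank F (LinearMap.ker (aeval (Matrix.toLin' g) (h (some j')))) ≤
          orderOf (Fintype.card F : ZMod r) := by
        intro j'
        rw [← hi₀, hi₀1]
        have hd1' : (h (some j')).natDegree = 1 := by rw [hdeg, hi₀1]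
        have heq := (hmon (some j')).eq_X_add_C hd1'
        set c₀ := (h (some j')).coeff 0 with hc₀
        have hne1 : -c₀ ≠ 1 := by
          intro h1
          have h2 : h (some j') = h none := by
            have h3 : c₀ = -1 := by rw [← h1, neg_neg]
            rw [heq, hnone, h3, C_neg, C_1]
            ring
          have h3 := hcop (some j') none (by simp)
          rw [h2] at h3
          exact (hirr none).not_isUnit (h3.isUnit_of_dvd' dvd_rfl dvd_rfl)
        have h1 : aeval (Matrix.toLin' g) (h (some j')) =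
            Matrix.toLin' g - (-c₀) • (1 : (Fin n → F) →ₗ[F] (Fin n → F)) := by
          rw [heq, map_add, aeval_X, aeval_C, Algebra.algebraMap_eq_smul_one]
          apply LinearMap.ext
          intro v
          simp only [LinearMap.add_apply, LinearMap.sub_apply, LinearMap.smul_apply,
            Module.End.one_apply, neg_smul, sub_neg_eq_add]
        rw [h1, hg, finrank_ker_diagonal_sub d (-c₀), Fintype.card_le_one_iff_subsingleton]
        constructor
        rintro ⟨k, hk⟩ ⟨k', hk'⟩
        apply Subtype.ext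
        apply hd6 k k' _ (by rw [hk, hk'])
        by_contra hge
        push Not at hge
        exact hne1 (by rw [← hk]; exact (hd5 k).2 hge)
      have hbot : W ⊓ movR (Matrix.toLin' g) = ⊥ := by
        apply no_iso_in_mov (hermB hF n) (Matrix.toLin' g) r (frob_invol hF) (hermB_sym hF n) e hσe
          hF (hermB_nd hF n) hiso hrp hyr j hj h hnone hprod hcop hker _
          inf_le_right (Sp.inf_invariant _ _ _ hWinv (movR_invariant _))
        intro w hw n' hn''
        exact hWiso hw.1 n' hn''.1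
      obtain ⟨h1, h2, -⟩ := iso_inv_split (hermB hF n) (Matrix.toLin' g) r (frob_invol hF)
        (hermB_sym hF n) (hermB_nd hF n) hiso hyr hr0 W hWinv hWiso
      rw [hbot, finrank_bot, add_zero] at h1
      rw [← h1, hWdim] at h2
      have hfix : finrank F (fixE (Matrix.toLin' g)) = n - s := by
        have h6 := finrank_ker_diagonal_sub d 1
        have h7 : Fintype.card {k : Fin n // d k = 1} =
            Fintype.card {k : Fin n // ¬ ((k : ℕ) < s)} := by
          apply Fintype.card_congr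
          apply Equiv.subtypeEquivRight
          intro k
          rw [hd5 k, not_lt]
        rw [one_smul, h7, Fintype.card_subtype_compl, Fintype.card_fin,
          Fintype.card_fin_lt_of_le hsn] at h6
        rw [hg]
        exact h6
      rw [hfix] at h2
      -- arithmetic
      rcases le_total n (r - 1) with hle | hle
      · rw [min_eq_left hle] at hs
        omega
      · rw [min_eq_right hle] at hs
        omega
  · -- `2 < i` or (N4)
    by_cases hi2 : i = 2
    swap
    · left
      omega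
    right
    by_contra hcon
    push Not at hcon
    obtain ⟨hrm, hv⟩ := hcon
    have hrq : r ∣ p ^ e + 1 := dvd_of_orderOf_eq_two _ r hi2
    obtain ⟨g, z, hg1, hg2, hg3, hg4⟩ := exists_model4 (p := p) hF (frobHom hF) hσe r hr2 hrq n
      (by omega) hv
    have hns : ∀ w : F, g ≠ w • (1 : Matrix (Fin n) (Fin n) F) := by
      intro w hw
      apply hg4 w
      have h1 := hg3
      rw [hw, _root_.smul_pow, one_pow] at h1
      have h2 := congrFun (congrFun h1 ⟨0, by omega⟩) ⟨0, by omega⟩
      rw [Matrix.smul_apply, Matrix.smul_apply, Matrix.one_apply_eq, smul_eq_mul, smul_eq_mul,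
        mul_one, mul_one] at h2
      exact h2
    obtain ⟨W, hWdim, hWiso, hWinv⟩ := H g hg1 hg2 ⟨z, hg3⟩ hns
    have hirr' : Irreducible (X ^ r - C z : F[X]) := X_pow_sub_C_irreducible_of_prime hr hg4
    have hm' : (X ^ r - C z : F[X]).Monic := monic_X_pow_sub_C z hr.pos.ne'
    have hP : aeval (Matrix.toLin' g) (X ^ r - C z : F[X]) = 0 := by
      rw [aeval_toLin'_eq, map_sub, map_pow, aeval_X, aeval_C, hg3,
        Algebra.algebraMap_eq_smul_one, sub_self, map_zero]
    have := dvd_finrank_of_irred (Matrix.toLin' g) (X ^ r - C z) hm' hirr' hP W hWinv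
    rw [natDegree_X_pow_sub_C, hWdim] at this
    exact hrm this

end fwdodd

end Cfsg.Agent.Lib.Helper12.Un
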