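import Mathlib

/-!
# DW-AFIX (S3616 market "DW", planner helper10)

`L` faithful and transitive on `p + 1` points, `2 |L| = p (p² - 1)`, `U` of order `p` normalized by `B`
of order `p (p - 1) / 2`: `U` fixes exactly one point `a` and `B = L_a`.
-/

set_option autoImplicit false

namespace Cfsg.Agent.Lib.Helper12.DWAFIX

open MulAction

set_option linter.dupNamespace false in
/-- **DW-AFIX**. -/
theorem DWAFIX {L Ω : Type*} [Group L] [Finite L] [MulAction L Ω] [FaithfulSMul L Ω] [Finite Ω]
    (p : ℕ) (hp : p.Prime) (hΩ : Nat.card Ω = p + 1) (htr : IsPretransitive L Ω)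
    (hL : 2 * Nat.card L = p * (p ^ 2 - 1)) (U B : Subgroup L) (hU : Nat.card U = p)
    (hUB : ∀ b ∈ B, ∀ u ∈ U, b * u * b⁻¹ ∈ U) (hB : 2 * Nat.card B = p * (p - 1)) :
    ∃ a : Ω, stabilizer L a = B ∧ ∀ ω : Ω, (∀ u ∈ U, u • ω = ω) ↔ ω = a := by
  classical
  have : Fact p.Prime := ⟨hp⟩
  have hp2 : 2 ≤ p := hp.two_le
  -- `U` is a `p`-group
  have hUp : IsPGroup p ↥U := IsPGroup.of_card (n := 1) (by rw [hU, pow_one])
  -- fixed points of `U`
  have hmod := hUp.card_modEq_card_fixedPoints Ω
  rw [hΩ] at hmod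
  -- the number of fixed points is not `0`
  have hne : Nat.card (fixedPoints (↥U) Ω) ≠ 0 := by
    intro h0
    rw [h0] at hmod
    have : p ∣ p + 1 := (Nat.modEq_zero_iff_dvd).1 hmod
    have : p ∣ 1 := (Nat.dvd_add_right (dvd_refl p)).1 this
    have := Nat.le_of_dvd one_pos this
    omega
  have hfin : Finite (fixedPoints (↥U) Ω) := Nat.finite_of_card_ne_zero hne
  obtain ⟨⟨a, ha⟩⟩ : Nonempty (fixedPoints (↥U) Ω) := (Nat.card_pos_iff.1 (Nat.pos_of_ne_zero hne)).1
  have haU : ∀ u ∈ U, u • a = a := fun u hu => ha ⟨u, hu⟩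
  -- a second fixed point forces all points to be fixed
  have huniq : ∀ ω : Ω, (∀ u ∈ U, u • ω = ω) → ω = a := by
    intro ω hω
    by_contra hωa
    -- at least two fixed points, so (mod p) all `p + 1` points are fixed
    have h2 : 2 ≤ Nat.card (fixedPoints (↥U) Ω) := by
      have hnt : Nontrivial (fixedPoints (↥U) Ω) :=
        ⟨⟨⟨a, ha⟩, ⟨ω, fun u => hω u.1 u.2⟩, fun h => hωa (congrArg Subtype.val h).symm⟩⟩
      exact Finite.one_lt_card_iff_nontrivial.2 hnt
    have hle : Nat.card (fixedPoints (↥U) Ω) ≤ p + 1 := by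
      rw [← hΩ]
      exact Nat.card_le_card_of_injective _ Subtype.val_injective
    -- `card ≡ p + 1 ≡ 1 (mod p)`, `2 ≤ card ≤ p + 1` gives `card = p + 1`
    have hcard : Nat.card (fixedPoints (↥U) Ω) = p + 1 := by
      have h1 : (p + 1) % p = Nat.card (fixedPoints (↥U) Ω) % p := hmod
      have h3 : (p + 1) % p = 1 := by
        rw [Nat.add_mod_left, Nat.mod_eq_of_lt (by omega)]
      rw [h3] at h1
      obtain ⟨c, hc⟩ : ∃ c, Nat.card (fixedPoints (↥U) Ω) = p * c + 1 := by
        refine ⟨Nat.card (fixedPoints (↥U) Ω) / p, ?_⟩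
        have := Nat.div_add_mod (Nat.card (fixedPoints (↥U) Ω)) p
        omega
      rw [hc] at h2 hle ⊢
      have hc1 : 1 ≤ c := by
        by_contra h0
        have : c = 0 := by omega
        subst this
        omega
      have hc2 : c ≤ 1 := by
        by_contra h0
        have : 2 ≤ c := by omega
        nlinarith
      have : c = 1 := by omega
      rw [this, mul_one]
    -- so every point is fixed and `U` is trivial
    have hall : ∀ ω' : Ω, ∀ u ∈ U, u • ω' = ω' := by
      have hsurj : Function.Surjective (Subtype.val : fixedPoints (↥U) Ω → Ω) := by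
        have hbij : Function.Bijective (Subtype.val : fixedPoints (↥U) Ω → Ω) := by
          rw [Nat.bijective_iff_injective_and_card]
          exact ⟨Subtype.val_injective, by rw [hcard, hΩ]⟩
        exact hbij.2
      intro ω' u hu
      obtain ⟨⟨x, hx⟩, rfl⟩ := hsurj ω'
      exact hx ⟨u, hu⟩
    have hU1 : ∀ u ∈ U, u = 1 := by
      intro u hu
      apply FaithfulSMul.eq_of_smul_eq_smul (α := Ω)
      intro ω'
      rw [one_smul]
      exact hall ω' u hu
    have : Nat.card ↥U = 1 := by
      rw [Nat.card_eq_one_iff_unique]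
      refine ⟨⟨fun x y => ?_⟩, ⟨1⟩⟩
      apply Subtype.ext
      rw [hU1 x.1 x.2, hU1 y.1 y.2]
    omega
  refine ⟨a, ?_, fun ω => ⟨huniq ω, fun h => h ▸ haU⟩⟩
  -- `B ≤ L_a`
  have hBa : B ≤ stabilizer L a := by
    intro b hb
    rw [mem_stabilizer_iff]
    apply huniq
    intro u hu
    have h1 := haU (b⁻¹ * u * b⁻¹⁻¹) (hUB b⁻¹ (B.inv_mem hb) u hu)
    rw [inv_inv] at h1
    calc u • b • a = b • (b⁻¹ * u * b) • a := by
            rw [← mul_smul, ← mul_smul]; congr 1; group
      _ = b • a := by rw [h1]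
  -- orders
  have hstab : Nat.card (stabilizer L a) * (p + 1) = Nat.card L := by
    have h1 := Subgroup.card_mul_index (stabilizer L a)
    rw [MulAction.index_stabilizer_of_transitive L a, hΩ] at h1
    exact h1
  have hcards : Nat.card (stabilizer L a) = Nat.card B := by
    have h1 : 2 * Nat.card (stabilizer L a) * (p + 1) = 2 * Nat.card B * (p + 1) := by
      rw [mul_assoc, hstab, hL, hB]
      have : p ^ 2 - 1 = (p - 1) * (p + 1) := by
        obtain ⟨k, rfl⟩ : ∃ k, p = k + 1 := ⟨p - 1, by omega⟩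
        simp only [Nat.add_sub_cancel]
        have : (k + 1) ^ 2 - 1 = k * (k + 1 + 1) := by
          have : (k + 1) ^ 2 = k * (k + 1 + 1) + 1 := by ring
          omega
        exact this
      rw [this]; ring
    have hpos : 0 < p + 1 := by omega
    have := Nat.eq_of_mul_eq_mul_right hpos h1
    omega
  exact (Subgroup.eq_of_le_of_card_ge hBa (by rw [hcards])).symm

end Cfsg.Agent.Lib.Helper12.DWAFIX
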