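import Mathlib
import Cfsg.Agent.Lib.Helper13.PSL2
import Cfsg.Agent.Lib.Helper13.SL2Sylow

/-!
helper12: leaf DW-APSL of the S3616 market: the matrix facts about `PSL₂(p)`, `p` odd, that PART A
of the S3616 plan needs: the unipotent group `U` (order `p`), the Borel subgroup `B` (order
`p(p-1)/2`, normalizing `U`), the split torus `T ≤ B` (cyclic of order `(p-1)/2`) and the Weyl
element `w ∉ B`, an involution inverting `T`.
-/

set_option autoImplicit false

namespace Cfsg.Agent.Lib.Helper12.DWAPSL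

open Matrix Cfsg.Agent.Lib.Helper13

/-- Cardinality of the image of a subgroup `K ≥ N` in `G ⧸ N`. -/
theorem card_map_mk_mul {G : Type*} [Group G] [Finite G] (N : Subgroup G) [N.Normal]
    (K : Subgroup G) (hNK : N ≤ K) :
    Nat.card (K.map (QuotientGroup.mk' N)) * Nat.card N = Nat.card K := by
  have hidx : (K.map (QuotientGroup.mk' N)).index = K.index :=
    Subgroup.index_map_eq K (QuotientGroup.mk'_surjective N) (by rwa [QuotientGroup.ker_mk'])
  have h1 := Subgroup.card_mul_index K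
  have h2 := Subgroup.card_mul_index (K.map (QuotientGroup.mk' N))
  have h3 := Subgroup.card_eq_card_quotient_mul_card_subgroup N
  rw [hidx] at h2
  have hpos : 0 < K.index := Nat.pos_of_ne_zero Subgroup.index_ne_zero_of_finite
  apply Nat.eq_of_mul_eq_mul_right hpos
  rw [h1, h3, ← h2]
  ring

variable {F : Type*} [Field F]

/-- The upper triangular subgroup of `SL₂(F)`. -/
def bSub (F : Type*) [Field F] : Subgroup (SpecialLinearGroup (Fin 2) F) where
  carrier := {g | (g : Matrix (Fin 2) (Fin 2) F) 1 0 = 0}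
  one_mem' := by
    change ((1 : SpecialLinearGroup (Fin 2) F) : Matrix (Fin 2) (Fin 2) F) 1 0 = 0
    simp
  mul_mem' := by
    intro a b ha hb
    change (a : Matrix (Fin 2) (Fin 2) F) 1 0 = 0 at ha
    change (b : Matrix (Fin 2) (Fin 2) F) 1 0 = 0 at hb
    change ((a * b : SpecialLinearGroup (Fin 2) F) : Matrix (Fin 2) (Fin 2) F) 1 0 = 0
    rw [Matrix.SpecialLinearGroup.coe_mul, Matrix.mul_apply, Fin.sum_univ_two, ha, hb]
    simp
  inv_mem' := by
    intro a ha
    change (a : Matrix (Fin 2) (Fin 2) F) 1 0 = 0 at ha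
    change ((a⁻¹ : SpecialLinearGroup (Fin 2) F) : Matrix (Fin 2) (Fin 2) F) 1 0 = 0
    rw [Matrix.SpecialLinearGroup.coe_inv, Matrix.adjugate_fin_two]
    simp [ha]

theorem mem_bSub {g : SpecialLinearGroup (Fin 2) F} :
    g ∈ bSub F ↔ (g : Matrix (Fin 2) (Fin 2) F) 1 0 = 0 := Iff.rfl

/-- The element `[[a, c], [0, a⁻¹]]`. -/
def bEl (a : Fˣ) (c : F) : SpecialLinearGroup (Fin 2) F :=
  ⟨!![(a : F), c; 0, ((a⁻¹ : Fˣ) : F)], by simp [Matrix.det_fin_two]⟩

theorem bEl_mem (a : Fˣ) (c : F) : bEl a c ∈ bSub F := by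
  rw [mem_bSub]
  simp [bEl]

theorem diag_mul_of_mem {g : SpecialLinearGroup (Fin 2) F} (hg : g ∈ bSub F) :
    (g : Matrix (Fin 2) (Fin 2) F) 0 0 * (g : Matrix (Fin 2) (Fin 2) F) 1 1 = 1 := by
  have h := g.2
  rw [Matrix.det_fin_two, mem_bSub.mp hg, mul_zero, sub_zero] at h
  exact h

/-- `B ≃ Fˣ × F`. -/
noncomputable def bEquiv (F : Type*) [Field F] : ↥(bSub F) ≃ Fˣ × F where
  toFun g := (Units.mkOfMulEqOne _ _ (diag_mul_of_mem g.2),
    ((g : SpecialLinearGroup (Fin 2) F) : Matrix (Fin 2) (Fin 2) F) 0 1)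
  invFun x := ⟨bEl x.1 x.2, bEl_mem _ _⟩
  left_inv := by
    rintro ⟨g, hg⟩
    apply Subtype.ext
    apply Subtype.ext
    have h10 := mem_bSub.mp hg
    have hd := diag_mul_of_mem hg
    ext i j
    fin_cases i <;> fin_cases j
    · simp [bEl]
    · simp [bEl]
    · simp [bEl, h10]
    · simp only [bEl]
      have : ((Units.mkOfMulEqOne _ _ hd)⁻¹ : Fˣ) = Units.mkOfMulEqOne _ _ (by rwa [mul_comm] at hd) := by
        rw [inv_eq_iff_eq_inv, eq_comm, inv_eq_iff_mul_eq_one]
        ext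
        simpa using (by rwa [mul_comm] at hd : (g : Matrix (Fin 2) (Fin 2) F) 1 1 * (g : Matrix (Fin 2) (Fin 2) F) 0 0 = 1)
      simp [this]
  right_inv := by
    rintro ⟨a, c⟩
    ext
    · simp [bEl]
    · simp [bEl]

theorem card_bSub [Fintype F] : Nat.card (bSub F) = Fintype.card F * (Fintype.card F - 1) := by
  classical
  rw [Nat.card_congr (bEquiv F), Nat.card_prod, Nat.card_eq_fintype_card, Nat.card_eq_fintype_card,
    Fintype.card_units, mul_comm]

theorem bEl_mul (a b : Fˣ) (c e : F) :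
    bEl a c * bEl b e = bEl (a * b) ((a : F) * e + c * ((b⁻¹ : Fˣ) : F)) := by
  apply Subtype.ext
  change (!![(a : F), c; 0, ((a⁻¹ : Fˣ) : F)] * !![(b : F), e; 0, ((b⁻¹ : Fˣ) : F)] :
    Matrix (Fin 2) (Fin 2) F) = !![((a * b : Fˣ) : F), (a : F) * e + c * ((b⁻¹ : Fˣ) : F); 0,
      (((a * b)⁻¹ : Fˣ) : F)]
  ext i j
  fin_cases i <;> fin_cases j <;> simp [Matrix.mul_apply, Fin.sum_univ_two, mul_comm]

/-- The split torus `a ↦ diag(a, a⁻¹)`. -/
def dHom (F : Type*) [Field F] : Fˣ →* SpecialLinearGroup (Fin 2) F :=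
  MonoidHom.mk' (fun a => bEl a 0) (by
    intro a b
    rw [bEl_mul]
    simp)

theorem dHom_apply (a : Fˣ) : dHom F a = bEl a 0 := rfl

theorem dHom_injective : Function.Injective (dHom F) := by
  intro a b h
  have h2 := congrArg (fun g : SpecialLinearGroup (Fin 2) F => (g : Matrix (Fin 2) (Fin 2) F) 0 0) h
  simp only [dHom_apply, bEl] at h2
  ext
  simpa using h2

/-- The Weyl element `[[0, -1], [1, 0]]`. -/
def wEl (F : Type*) [Field F] : SpecialLinearGroup (Fin 2) F :=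
  ⟨!![0, -1; 1, 0], by simp [Matrix.det_fin_two]⟩

theorem wEl_not_mem : wEl F ∉ bSub F := by
  rw [mem_bSub]
  simp [wEl]

theorem wEl_sq_mem_center : wEl F * wEl F ∈ Subgroup.center (SpecialLinearGroup (Fin 2) F) := by
  apply mem_center_of_scalar _ (-1)
  change (!![0, -1; 1, 0] * !![0, -1; 1, 0] : Matrix (Fin 2) (Fin 2) F) = _
  ext i j
  fin_cases i <;> fin_cases j <;> simp [Matrix.mul_apply, Fin.sum_univ_two]

theorem wEl_mul_dHom (a : Fˣ) : wEl F * dHom F a = dHom F a⁻¹ * wEl F := by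
  apply Subtype.ext
  change (!![0, -1; 1, 0] * !![(a : F), 0; 0, ((a⁻¹ : Fˣ) : F)] : Matrix (Fin 2) (Fin 2) F) =
    !![((a⁻¹ : Fˣ) : F), 0; 0, (((a⁻¹)⁻¹ : Fˣ) : F)] * !![0, -1; 1, 0]
  ext i j
  fin_cases i <;> fin_cases j <;> simp [Matrix.mul_apply, Fin.sum_univ_two]

theorem bSub_mul_tSL {g : SpecialLinearGroup (Fin 2) F} (hg : g ∈ bSub F) (x : F) :
    g * tSL x = tSL ((g : Matrix (Fin 2) (Fin 2) F) 0 0 ^ 2 * x) * g := by
  have h10 := mem_bSub.mp hg
  have hd := diag_mul_of_mem hg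
  apply Subtype.ext
  rw [Matrix.SpecialLinearGroup.coe_mul, Matrix.SpecialLinearGroup.coe_mul, tSL_coe, tSL_coe]
  ext i j
  fin_cases i <;> fin_cases j <;> simp [Matrix.mul_apply, Fin.sum_univ_two, h10]
  linear_combination (-(g : Matrix (Fin 2) (Fin 2) F) 0 0 * x) * hd

theorem center_le_bSub : Subgroup.center (SpecialLinearGroup (Fin 2) F) ≤ bSub F := by
  intro z hz
  obtain ⟨r, hr⟩ := scalar_of_mem_center z hz
  rw [mem_bSub, hr]
  simp

theorem center_le_range_dHom :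
    Subgroup.center (SpecialLinearGroup (Fin 2) F) ≤ (dHom F).range := by
  intro z hz
  obtain ⟨r, hr⟩ := scalar_of_mem_center z hz
  have hdet := z.2
  rw [hr, Matrix.det_smul, Matrix.det_one, mul_one, Fintype.card_fin, pow_two] at hdet
  refine ⟨Units.mkOfMulEqOne r r hdet, ?_⟩
  apply Subtype.ext
  rw [hr, dHom_apply]
  have hinv : ((Units.mkOfMulEqOne r r hdet)⁻¹ : Fˣ) = Units.mkOfMulEqOne r r hdet := by
    rw [inv_eq_iff_mul_eq_one]
    ext
    simpa using hdet
  ext i j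
  fin_cases i <;> fin_cases j <;> simp [bEl, hinv]

section main

variable (p : ℕ) [Fact p.Prime]

set_option linter.dupNamespace false in
/-- **DW-APSL**. -/
theorem DWAPSL (hp2 : p ≠ 2) :
    ∃ (U B T : Subgroup (Matrix.ProjectiveSpecialLinearGroup (Fin 2) (ZMod p)))
      (w : Matrix.ProjectiveSpecialLinearGroup (Fin 2) (ZMod p)),
      Nat.card U = p ∧ (∀ b ∈ B, ∀ u ∈ U, b * u * b⁻¹ ∈ U) ∧ 2 * Nat.card B = p * (p - 1) ∧
      T ≤ B ∧ IsCyclic T ∧ 2 * Nat.card T = p - 1 ∧ w ∉ B ∧ w * w = 1 ∧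
      ∀ t ∈ T, w * t * w⁻¹ = t⁻¹ := by
  classical
  have hp : p.Prime := Fact.out
  have h2 : (2 : ZMod p) ≠ 0 := by
    intro h
    have h' : ((2 : ℕ) : ZMod p) = 0 := by exact_mod_cast h
    rw [ZMod.natCast_eq_zero_iff] at h'
    exact hp2 ((Nat.prime_dvd_prime_iff_eq hp Nat.prime_two).mp h')
  let π : SpecialLinearGroup (Fin 2) (ZMod p) →* Matrix.ProjectiveSpecialLinearGroup (Fin 2) (ZMod p) :=
    QuotientGroup.mk' (Subgroup.center (SpecialLinearGroup (Fin 2) (ZMod p)))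
  have hπ1 : ∀ g, π g = 1 ↔ g ∈ Subgroup.center (SpecialLinearGroup (Fin 2) (ZMod p)) := by
    intro g
    exact QuotientGroup.eq_one_iff g
  have hcen : Nat.card (Subgroup.center (SpecialLinearGroup (Fin 2) (ZMod p))) = 2 :=
    card_center_SL2 h2
  -- the unipotent group
  have hUinj : Function.Injective (π.comp (tSLHom (K := ZMod p))) := by
    rw [injective_iff_map_eq_one]
    intro a ha
    rw [MonoidHom.comp_apply, hπ1] at ha
    obtain ⟨r, hr⟩ := scalar_of_mem_center _ ha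
    have h01 := congrFun (congrFun hr 0) 1
    have : Multiplicative.toAdd a = 0 := by
      simpa [tSLHom] using h01
    exact Multiplicative.toAdd.injective this
  refine ⟨(π.comp (tSLHom (K := ZMod p))).range, (bSub (ZMod p)).map π,
    (π.comp (dHom (ZMod p))).range, π (wEl (ZMod p)), ?_, ?_, ?_, ?_, ?_, ?_, ?_, ?_, ?_⟩
  · rw [← Nat.card_congr (MonoidHom.ofInjective hUinj).toEquiv, Nat.card_congr Multiplicative.toAdd,
      Nat.card_eq_fintype_card, ZMod.card]
  · rintro b ⟨g, hg, rfl⟩ u ⟨x, rfl⟩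
    refine ⟨Multiplicative.ofAdd
      ((g : Matrix (Fin 2) (Fin 2) (ZMod p)) 0 0 ^ 2 * Multiplicative.toAdd x), ?_⟩
    rw [MonoidHom.comp_apply, MonoidHom.comp_apply, ← map_inv, ← map_mul, ← map_mul]
    congr 1
    change tSL _ = g * tSL (Multiplicative.toAdd x) * g⁻¹
    rw [bSub_mul_tSL hg, mul_assoc, mul_inv_cancel, mul_one]
    rfl
  · have h := card_map_mk_mul (Subgroup.center (SpecialLinearGroup (Fin 2) (ZMod p)))
      (bSub (ZMod p)) center_le_bSub
    rw [hcen, card_bSub, ZMod.card] at h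
    rw [← h]
    ring
  · rw [← MonoidHom.map_range]
    apply Subgroup.map_mono
    rintro _ ⟨a, rfl⟩
    exact bEl_mem _ _
  · exact isCyclic_of_surjective (π.comp (dHom (ZMod p))).rangeRestrict
      (π.comp (dHom (ZMod p))).rangeRestrict_surjective
  · have h := card_map_mk_mul (Subgroup.center (SpecialLinearGroup (Fin 2) (ZMod p)))
      (dHom (ZMod p)).range center_le_range_dHom
    have hu : Nat.card (ZMod p)ˣ = p - 1 := by
      rw [Nat.card_eq_fintype_card, ZMod.card_units]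
    rw [hcen, ← Nat.card_congr (MonoidHom.ofInjective (dHom_injective (F := ZMod p))).toEquiv,
      hu] at h
    rw [← MonoidHom.map_range, ← h]
    ring
  · rintro ⟨g, hg, hgw⟩
    have h1 : g⁻¹ * wEl (ZMod p) ∈ Subgroup.center (SpecialLinearGroup (Fin 2) (ZMod p)) := by
      rw [← hπ1, map_mul, map_inv, hgw, inv_mul_cancel]
    have h2 : wEl (ZMod p) ∈ bSub (ZMod p) := by
      have := (bSub (ZMod p)).mul_mem hg (center_le_bSub h1)
      rwa [mul_inv_cancel_left] at this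
    exact wEl_not_mem h2
  · rw [← map_mul, hπ1]
    exact wEl_sq_mem_center
  · rintro t ⟨a, rfl⟩
    rw [MonoidHom.comp_apply, ← map_inv, ← map_mul, ← map_mul, ← map_inv, wEl_mul_dHom,
      mul_assoc, mul_inv_cancel, mul_one, map_inv]

end main

end Cfsg.Agent.Lib.Helper12.DWAPSL
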