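import Mathlib

/-!
# DW-AREG3 (S3616 market "DW", planner helper10)

`U` of prime order `p` with a unique fixed point `a` on `p + 1` points is regular on the other points;
an element normalizing `U` and fixing two more points is trivial.
-/

set_option autoImplicit false

namespace Cfsg.Agent.Lib.Helper12.DWAREG3

open MulAction

set_option linter.dupNamespace false in
/-- **DW-AREG3**. -/
theorem DWAREG3 {L Ω : Type*} [Group L] [MulAction L Ω] [FaithfulSMul L Ω] [Finite Ω]
    (p : ℕ) (hp : p.Prime) (hΩ : Nat.card Ω = p + 1) (U : Subgroup L) (hU : Nat.card U = p)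
    (a : Ω) (hUa : ∀ ω : Ω, (∀ u ∈ U, u • ω = ω) ↔ ω = a)
    (h : L) (hn : ∀ u ∈ U, h * u * h⁻¹ ∈ U) (b c : Ω) (hba : b ≠ a) (hca : c ≠ a) (hbc : b ≠ c)
    (hb : h • b = b) (hc : h • c = c) : h = 1 := by
  classical
  have : Fact p.Prime := ⟨hp⟩
  have hUfin : Finite ↥U := Nat.finite_of_card_ne_zero (by rw [hU]; exact hp.ne_zero)
  -- a non-identity element of `U` generates `U`
  have hgen : ∀ u ∈ U, u ≠ 1 → ∀ v ∈ U, ∃ k : ℕ, v = u ^ k := by
    intro u hu hu1 v hv
    have hne : (⟨u, hu⟩ : ↥U) ≠ 1 := fun h1 => hu1 (congrArg Subtype.val h1)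
    have hz : Subgroup.zpowers (⟨u, hu⟩ : ↥U) = ⊤ := zpowers_eq_top_of_prime_card hU hne
    have hmem : (⟨v, hv⟩ : ↥U) ∈ Subgroup.zpowers (⟨u, hu⟩ : ↥U) := by rw [hz]; trivial
    obtain ⟨k, hk⟩ := (mem_powers_iff_mem_zpowers).2 hmem
    exact ⟨k, by simpa using (congrArg Subtype.val hk).symm⟩
  -- stabilizers in `U` of points `≠ a` are trivial
  have hstab : ∀ ω : Ω, ω ≠ a → ∀ u ∈ U, u • ω = ω → u = 1 := by
    intro ω hω u hu huω
    by_contra hu1
    apply hω
    rw [← hUa]
    intro v hv
    obtain ⟨k, rfl⟩ := hgen u hu hu1 v hv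
    exact MulAction.mem_fixedBy.mp ((MulAction.stabilizer L ω).pow_mem huω k)
  -- `U` fixes `a`
  have haU : ∀ u ∈ U, u • a = a := (hUa a).2 rfl
  -- `U` is transitive on the points `≠ a`
  have htr : ∀ ω : Ω, ω ≠ a → ∃ u ∈ U, u • b = ω := by
    -- the map `u ↦ u • b` from `U` into `{ω // ω ≠ a}` is injective between sets of size `p`
    have hmaps : ∀ u : ↥U, (u : L) • b ≠ a := by
      intro u hub
      apply hba
      have h1 : (u : L)⁻¹ • a = a := haU _ (U.inv_mem u.2)
      have h2 : b = (u : L)⁻¹ • a := by rw [← hub, inv_smul_smul]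
      rw [h2, h1]
    let f : ↥U → {ω : Ω // ω ≠ a} := fun u => ⟨(u : L) • b, hmaps u⟩
    have hinj : Function.Injective f := by
      intro u v huv
      have h1 : (u : L) • b = (v : L) • b := congrArg Subtype.val huv
      have h2 : ((v : L)⁻¹ * (u : L)) • b = b := by
        rw [mul_smul, h1, inv_smul_smul]
      have h3 := hstab b hba _ (U.mul_mem (U.inv_mem v.2) u.2) h2
      apply Subtype.ext
      have : (u : L) = (v : L) := by
        have := inv_mul_eq_one.1 h3
        exact this.symm
      exact this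
    have hcard : Nat.card {ω : Ω // ω ≠ a} = p := by
      have h1 : Nat.card {ω : Ω // ω ≠ a} = Nat.card Ω - 1 := by
        have := Fintype.ofFinite Ω
        rw [Nat.card_eq_fintype_card, Nat.card_eq_fintype_card]
        have h2 := Fintype.card_subtype_compl (fun ω : Ω => ω = a)
        rw [Fintype.card_subtype_eq] at h2
        exact h2
      rw [h1, hΩ]; simp
    have hbij : Function.Bijective f := by
      rw [Nat.bijective_iff_injective_and_card]
      exact ⟨hinj, by rw [hU, hcard]⟩
    intro ω hω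
    obtain ⟨u, hu⟩ := hbij.2 ⟨ω, hω⟩
    exact ⟨u.1, u.2, congrArg Subtype.val hu⟩
  -- `h` fixes `a`
  have hha : h • a = a := by
    rw [← hUa]
    intro u hu
    have h1 := haU (h⁻¹ * u * h⁻¹⁻¹) ?_
    · rw [inv_inv] at h1
      calc u • h • a = h • (h⁻¹ * u * h) • a := by
              rw [← mul_smul, ← mul_smul]; congr 1; group
        _ = h • a := by rw [h1]
    · -- `h⁻¹` normalizes `U` as well (finite group `U`)
      have hinj : Function.Injective (fun u : ↥U => (⟨h * u * h⁻¹, hn u u.2⟩ : ↥U)) := by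
        intro x y hxy
        have := congrArg Subtype.val hxy
        simp only [mul_left_inj, mul_right_inj] at this
        exact Subtype.ext this
      have hsurj := Finite.surjective_of_injective hinj
      obtain ⟨x, hx⟩ := hsurj ⟨u, hu⟩
      have hx' : h * (x : L) * h⁻¹ = u := congrArg Subtype.val hx
      have : h⁻¹ * u * h⁻¹⁻¹ = x := by rw [← hx']; group
      rw [this]; exact x.2
  -- conjugation by `h` is trivial on `U`
  obtain ⟨uc, huc, hucb⟩ := htr c hca
  have huc1 : uc ≠ 1 := by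
    rintro rfl
    rw [one_smul] at hucb
    exact hbc hucb
  have hconj_uc : h * uc * h⁻¹ = uc := by
    have h1 : (h * uc * h⁻¹) • b = uc • b := by
      rw [mul_smul, mul_smul]
      have : h⁻¹ • b = b := by
        conv_lhs => rw [← hb]
        rw [inv_smul_smul]
      rw [this, hucb, hc]
    have h2 : (uc⁻¹ * (h * uc * h⁻¹)) • b = b := by
      rw [mul_smul, h1, inv_smul_smul]
    have h3 := hstab b hba _ (U.mul_mem (U.inv_mem huc) (hn uc huc)) h2
    exact (inv_mul_eq_one.1 h3).symm
  have hconj : ∀ u ∈ U, h * u * h⁻¹ = u := by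
    intro u hu
    obtain ⟨k, rfl⟩ := hgen uc huc huc1 u hu
    have : h * uc ^ k * h⁻¹ = (h * uc * h⁻¹) ^ k := by
      rw [conj_pow]
    rw [this, hconj_uc]
  -- `h` fixes every point
  apply FaithfulSMul.eq_of_smul_eq_smul (α := Ω)
  intro ω
  rw [one_smul]
  by_cases hω : ω = a
  · rw [hω, hha]
  · obtain ⟨u, hu, rfl⟩ := htr ω hω
    have h1 : h • u • b = (h * u * h⁻¹) • h • b := by
      rw [← mul_smul, ← mul_smul]; congr 1; group
    rw [h1, hconj u hu, hb]

end Cfsg.Agent.Lib.Helper12.DWAREG3
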