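import Mathlib
import Cfsg.Agent.Lib.Helper18.UDenseDefs
import Cfsg.Agent.Lib.Helper10.F6Defs

/-!
helper12, S5801 (su6) conjunct (3), market "F6" (helper10, notes/S5801_F6_leaves.lean), leaf **L2** `false_of_prop_rows`,
exact signature: two rows of a non-monomial element of `L` are never proportional on three columns.

For `ε ≠ 1` in the torus, `y = g⁻¹ z_{ii'}(ε) g` is non-monomial (fusion control) and
`y x j = δ_xj + b_x g i j` on the three columns; the combination (*) for `y` forces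
`1 + (ε - 1) s + (ε⁻¹ - 1) s' = 0`, a quadratic in `ε` with three distinct roots.
-/

set_option autoImplicit false

namespace Cfsg.Agent.Lib.Helper12.F6Leaf
open Matrix Cfsg.Agent.Lib.Helper11.Mono Cfsg.Agent.Lib.Helper15.MonoLeaf Cfsg.Agent.Lib.Helper18.UDense
  Cfsg.Agent.Lib.Helper10.F6

variable {F : Type*} [Field F] [Fintype F] {ι : Type} [Fintype ι] [DecidableEq ι]

/-- entries of the conjugate `g⁻¹ z_{kl}(ε) g` -/
theorem conj_tcc_entry (g : GL ι F) (k l : ι) (hkl : k ≠ l) (ε : Fˣ) (x j : ι) :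
    ((g⁻¹ * dg (tcc k l ε) * g : GL ι F) : Matrix ι ι F) x j = (1 : Matrix ι ι F) x j +
      (((ε : Fˣ) : F) - 1) * (g : Matrix ι ι F) k j * ((g⁻¹ : GL ι F) : Matrix ι ι F) x k +
      (((ε⁻¹ : Fˣ) : F) - 1) * (g : Matrix ι ι F) l j * ((g⁻¹ : GL ι F) : Matrix ι ι F) x l := by
  classical
  obtain ⟨Hi, hHi⟩ : ∃ Hi : Matrix ι ι F, Hi = ((g⁻¹ : GL ι F) : Matrix ι ι F) := ⟨_, rfl⟩
  obtain ⟨Hm, hHm⟩ : ∃ Hm : Matrix ι ι F, Hm = (g : Matrix ι ι F) := ⟨_, rfl⟩
  obtain ⟨dz, hdz⟩ : ∃ dz : ι → F, dz = fun i => ((tcc k l ε i : Fˣ) : F) := ⟨_, rfl⟩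
  have hYm : ((g⁻¹ * dg (tcc k l ε) * g : GL ι F) : Matrix ι ι F) = Hi * Matrix.diagonal dz * Hm := by
    rw [Units.val_mul, Units.val_mul, dg_val, hHi, hHm, hdz]
  have hHiHm : Hi * Hm = 1 := by
    rw [hHi, hHm, ← Units.val_mul, inv_mul_cancel, Units.val_one]
  have hdzk : dz k = (ε : F) := by rw [hdz]; simp only; rw [tcc_same]
  have hdzl : dz l = ((ε⁻¹ : Fˣ) : F) := by rw [hdz]; simp only; rw [tcc_other hkl]
  have hdzo : ∀ x, x ≠ k → x ≠ l → dz x = 1 := by
    intro x hxk hxl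
    rw [hdz]; simp only; rw [tcc_off hxk hxl]; rfl
  rw [← hHi, ← hHm, ← hdzk, ← hdzl, hYm]
  have e1 : (Hi * Matrix.diagonal dz * Hm) x j = ∑ t, Hi x t * dz t * Hm t j := by
    rw [Matrix.mul_apply]
    apply Finset.sum_congr rfl
    intro t _
    rw [Matrix.mul_diagonal]
  have e2 : (1 : Matrix ι ι F) x j = ∑ t, Hi x t * Hm t j := by
    rw [← hHiHm, Matrix.mul_apply]
  have e3 : (Hi * Matrix.diagonal dz * Hm) x j - (1 : Matrix ι ι F) x j =
      (dz k - 1) * Hm k j * Hi x k + (dz l - 1) * Hm l j * Hi x l := by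
    rw [e1, e2, ← Finset.sum_sub_distrib]
    rw [Finset.sum_eq_add k l hkl]
    · ring
    · intro t _ ht
      rw [hdzo t ht.1 ht.2]; ring
    · intro hk; exact absurd (Finset.mem_univ k) hk
    · intro hl; exact absurd (Finset.mem_univ l) hl
  rw [sub_eq_iff_eq_add] at e3
  rw [e3]; ring

/-- a polynomial `s X² + (1 - s - s') X + s'` cannot have three distinct roots -/
theorem false_of_three_roots (s s' e₁ e₂ e₃ : F) (h12 : e₁ ≠ e₂) (h13 : e₁ ≠ e₃) (h23 : e₂ ≠ e₃)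
    (E1 : s * e₁ ^ 2 + (1 - s - s') * e₁ + s' = 0) (E2 : s * e₂ ^ 2 + (1 - s - s') * e₂ + s' = 0)
    (E3 : s * e₃ ^ 2 + (1 - s - s') * e₃ + s' = 0) : False := by
  have A12 : (e₁ - e₂) * (s * (e₁ + e₂) + (1 - s - s')) = 0 := by linear_combination E1 - E2
  have A13 : (e₁ - e₃) * (s * (e₁ + e₃) + (1 - s - s')) = 0 := by linear_combination E1 - E3
  have B12 := (mul_eq_zero.1 A12).resolve_left (sub_ne_zero.2 h12)
  have B13 := (mul_eq_zero.1 A13).resolve_left (sub_ne_zero.2 h13)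
  have C : s * (e₂ - e₃) = 0 := by linear_combination B12 - B13
  have hs : s = 0 := (mul_eq_zero.1 C).resolve_right (sub_ne_zero.2 h23)
  rw [hs] at B12 E1
  have hs' : s' = 1 := by linear_combination -B12
  rw [hs'] at E1
  have : (1 : F) = 0 := by linear_combination E1
  exact one_ne_zero this

/-- **L2** two rows of a non-monomial element of `L` are never proportional on three columns. -/
theorem false_of_prop_rows (h6 : 6 ≤ Fintype.card ι) (L : Subgroup (GL ι F)) (hD : ColDense L) (hR : RowDense L)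
    (hfus : ∀ ε : Fˣ, ε ≠ 1 → ∀ k l : ι, k ≠ l → ∀ h : GL ι F, h ∈ L →
      IsMono ((h⁻¹ * dg (tcc k l ε) * h : GL ι F) : Matrix ι ι F) → IsMono (h : Matrix ι ι F))
    (hcomb : ∀ y : GL ι F, y ∈ L → ∀ a b c : ι, a ≠ b → ∀ k l : ι, k ≠ l →
      ∃ (α β : F) (i : ι), ∀ x, x ≠ k → x ≠ l → x ≠ i →
        (y : Matrix ι ι F) x c = α * (y : Matrix ι ι F) x a + β * (y : Matrix ι ι F) x b)
    (ε₁ ε₂ ε₃ : Fˣ) (h1 : ε₁ ≠ 1) (h2 : ε₂ ≠ 1) (h3 : ε₃ ≠ 1) (h12 : ε₁ ≠ ε₂) (h13 : ε₁ ≠ ε₃) (h23 : ε₂ ≠ ε₃)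
    (hε₁ : ∀ i i' : ι, i ≠ i' → dg (tcc i i' ε₁) ∈ L) (hε₂ : ∀ i i' : ι, i ≠ i' → dg (tcc i i' ε₂) ∈ L)
    (hε₃ : ∀ i i' : ι, i ≠ i' → dg (tcc i i' ε₃) ∈ L)
    (g : GL ι F) (hg : g ∈ L) (hnm : ¬ IsMono (g : Matrix ι ι F))
    (i i' : ι) (hii' : i ≠ i') (a b c : ι) (hab : a ≠ b) (hac : a ≠ c) (hbc : b ≠ c) (κ : F)
    (hκa : (g : Matrix ι ι F) i' a = κ * (g : Matrix ι ι F) i a)
    (hκb : (g : Matrix ι ι F) i' b = κ * (g : Matrix ι ι F) i b)
    (hκc : (g : Matrix ι ι F) i' c = κ * (g : Matrix ι ι F) i c) : False := by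
  classical
  obtain ⟨G, hG⟩ : ∃ G : Matrix ι ι F, G = (g : Matrix ι ι F) := ⟨_, rfl⟩
  obtain ⟨Gi, hGi⟩ : ∃ Gi : Matrix ι ι F, Gi = ((g⁻¹ : GL ι F) : Matrix ι ι F) := ⟨_, rfl⟩
  rw [← hG] at hκa hκb hκc
  -- three rows outside `{a, b, c}`
  obtain ⟨j₁, hj₁⟩ : ∃ x : ι, x ∉ ({a, b, c} : Finset ι) :=
    exists_notMem_six _ (by
      have := Finset.card_le_three (a := a) (b := b) (c := c)
      omega)
  obtain ⟨j₂, hj₂⟩ : ∃ x : ι, x ∉ ({a, b, c, j₁} : Finset ι) :=
    exists_notMem_six _ (by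
      have := Finset.card_le_four (a := a) (b := b) (c := c) (d := j₁)
      omega)
  obtain ⟨j₃, hj₃⟩ : ∃ x : ι, x ∉ ({a, b, c, j₁, j₂} : Finset ι) :=
    exists_notMem_six _ (by
      have := Finset.card_le_five (a := a) (b := b) (c := c) (d := j₁) (e := j₂)
      omega)
  simp only [Finset.mem_insert, Finset.mem_singleton, not_or] at hj₁ hj₂ hj₃
  obtain ⟨hj₁a, hj₁b, hj₁c⟩ := hj₁
  obtain ⟨hj₂a, hj₂b, hj₂c, hj₂₁⟩ := hj₂
  obtain ⟨hj₃a, hj₃b, hj₃c, hj₃₁, hj₃₂⟩ := hj₃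
  -- the two sums
  obtain ⟨s, hs⟩ : ∃ s : F, s = Gi a i * G i a + Gi b i * G i b + Gi c i * G i c := ⟨_, rfl⟩
  obtain ⟨s', hs'⟩ : ∃ s' : F, s' = κ * (Gi a i' * G i a + Gi b i' * G i b + Gi c i' * G i c) := ⟨_, rfl⟩
  -- the key equation for one torus parameter
  have key : ∀ ε : Fˣ, ε ≠ 1 → dg (tcc i i' ε) ∈ L →
      1 + (((ε : Fˣ) : F) - 1) * s + (((ε⁻¹ : Fˣ) : F) - 1) * s' = 0 := by
    intro ε hε hz
    obtain ⟨y, hy⟩ : ∃ y : GL ι F, y = g⁻¹ * dg (tcc i i' ε) * g := ⟨_, rfl⟩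
    have hyL : y ∈ L := by
      rw [hy]; exact L.mul_mem (L.mul_mem (L.inv_mem hg) hz) hg
    have hynm : ¬ IsMono (y : Matrix ι ι F) := by
      intro hm
      rw [hy] at hm
      exact hnm (hfus ε hε i i' hii' g hg hm)
    obtain ⟨bb, hbb⟩ : ∃ bb : ι → F, bb = fun x =>
        (((ε : Fˣ) : F) - 1) * Gi x i + (((ε⁻¹ : Fˣ) : F) - 1) * κ * Gi x i' := ⟨_, rfl⟩
    -- entries of `y` on the three columns
    have hya : ∀ x, (y : Matrix ι ι F) x a = (1 : Matrix ι ι F) x a + bb x * G i a := by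
      intro x
      rw [hy, conj_tcc_entry g i i' hii' ε x a, ← hG, ← hGi, hκa, hbb]; ring
    have hyb : ∀ x, (y : Matrix ι ι F) x b = (1 : Matrix ι ι F) x b + bb x * G i b := by
      intro x
      rw [hy, conj_tcc_entry g i i' hii' ε x b, ← hG, ← hGi, hκb, hbb]; ring
    have hyc : ∀ x, (y : Matrix ι ι F) x c = (1 : Matrix ι ι F) x c + bb x * G i c := by
      intro x
      rw [hy, conj_tcc_entry g i i' hii' ε x c, ← hG, ← hGi, hκc, hbb]; ring
    obtain ⟨α, β, i₀, hcmb⟩ := hcomb y hyL a b c hab j₁ j₂ (Ne.symm hj₂₁)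
    obtain ⟨A, hA⟩ : ∃ A : F, A = α * G i a + β * G i b - G i c := ⟨_, rfl⟩
    -- the killed rows
    have kill : ∀ x, x ≠ j₁ → x ≠ j₂ → x ≠ i₀ →
        α * (1 : Matrix ι ι F) x a + β * (1 : Matrix ι ι F) x b - (1 : Matrix ι ι F) x c + bb x * A = 0 := by
      intro x h1 h2 h3
      have := hcmb x h1 h2 h3
      rw [hya, hyb, hyc] at this
      rw [hA]; linear_combination -this
    have killa : a ≠ i₀ → α + bb a * A = 0 := by
      intro h
      have := kill a (Ne.symm hj₁a) (Ne.symm hj₂a) h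
      rw [Matrix.one_apply_eq, Matrix.one_apply_ne hab, Matrix.one_apply_ne hac] at this
      linear_combination this
    have killb : b ≠ i₀ → β + bb b * A = 0 := by
      intro h
      have := kill b (Ne.symm hj₁b) (Ne.symm hj₂b) h
      rw [Matrix.one_apply_eq, Matrix.one_apply_ne (Ne.symm hab), Matrix.one_apply_ne hbc] at this
      linear_combination this
    have killc : c ≠ i₀ → -1 + bb c * A = 0 := by
      intro h
      have := kill c (Ne.symm hj₁c) (Ne.symm hj₂c) h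
      rw [Matrix.one_apply_eq, Matrix.one_apply_ne (Ne.symm hac), Matrix.one_apply_ne (Ne.symm hbc)] at this
      linear_combination this
    have killj : j₃ ≠ i₀ → bb j₃ * A = 0 := by
      intro h
      have := kill j₃ hj₃₁ hj₃₂ h
      rw [Matrix.one_apply_ne hj₃a, Matrix.one_apply_ne hj₃b, Matrix.one_apply_ne hj₃c] at this
      linear_combination this
    by_cases hA0 : A = 0
    · -- row `c` is not killed, so `α = β = 0` and column `c` of `g` has two zeros
      exfalso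
      have hci : c = i₀ := by
        by_contra h
        have := killc h
        rw [hA0, mul_zero, add_zero] at this
        have h10 : (1 : F) = 0 := by linear_combination -this
        exact one_ne_zero h10
      have hα : α = 0 := by
        have := killa (by rw [← hci]; exact hac)
        rw [hA0, mul_zero, add_zero] at this
        exact this
      have hβ : β = 0 := by
        have := killb (by rw [← hci]; exact hbc)
        rw [hA0, mul_zero, add_zero] at this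
        exact this
      have hgc : G i c = 0 := by
        rw [hα, hβ, hA0] at hA
        linear_combination hA
      have hgc' : G i' c = 0 := by rw [hκc, hgc, mul_zero]
      rw [hG] at hgc hgc'
      exact hD g hg hnm c i i' hii' hgc hgc'
    · -- row `j₃` is not killed
      have hji : j₃ = i₀ := by
        by_contra h
        have hb0 : bb j₃ = 0 := (mul_eq_zero.1 (killj h)).resolve_right hA0
        have z1 : (y : Matrix ι ι F) j₃ a = 0 := by
          rw [hya, Matrix.one_apply_ne hj₃a, hb0]; ring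
        have z2 : (y : Matrix ι ι F) j₃ b = 0 := by
          rw [hyb, Matrix.one_apply_ne hj₃b, hb0]; ring
        exact hR y hyL hynm j₃ a b hab z1 z2
      have ka := killa (by rw [← hji]; exact Ne.symm hj₃a)
      have kb := killb (by rw [← hji]; exact Ne.symm hj₃b)
      have kc := killc (by rw [← hji]; exact Ne.symm hj₃c)
      have hsum : A * (1 + bb a * G i a + bb b * G i b + bb c * G i c) = 0 := by
        rw [hA] at ka kb kc ⊢
        linear_combination (G i a) * ka + (G i b) * kb + (G i c) * kc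
      have hsum' := (mul_eq_zero.1 hsum).resolve_left hA0
      rw [hbb] at hsum'
      simp only at hsum'
      rw [hs, hs']
      linear_combination hsum'
  have E1 := key ε₁ h1 (hε₁ i i' hii')
  have E2 := key ε₂ h2 (hε₂ i i' hii')
  have E3 := key ε₃ h3 (hε₃ i i' hii')
  have hne : ∀ {x y : Fˣ}, x ≠ y → ((x : Fˣ) : F) ≠ ((y : Fˣ) : F) := fun h h' => h (Units.ext h')
  have hinv : ∀ ε : Fˣ, ((ε : Fˣ) : F) * ((ε⁻¹ : Fˣ) : F) = 1 := by
    intro ε
    rw [← Units.val_mul, mul_inv_cancel, Units.val_one]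
  have conv : ∀ ε : Fˣ, 1 + (((ε : Fˣ) : F) - 1) * s + (((ε⁻¹ : Fˣ) : F) - 1) * s' = 0 →
      s * ((ε : Fˣ) : F) ^ 2 + (1 - s - s') * ((ε : Fˣ) : F) + s' = 0 := by
    intro ε h
    have := hinv ε
    linear_combination ((ε : Fˣ) : F) * h - s' * this
  exact false_of_three_roots s s' _ _ _ (hne h12) (hne h13) (hne h23) (conv ε₁ E1) (conv ε₂ E2) (conv ε₃ E3)

end Cfsg.Agent.Lib.Helper12.F6Leaf
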