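/-
helper12: S3797 leaf COPR `coprime_decomp` (frozen statement in `notes/S3797_leaves.lean`),
plus the averaging tools reused by FREE / ST2.
-/
import Mathlib
import Cfsg.Prelude.Def_Local
import Cfsg.Agent.Lib.Helper25.TSDefs

set_option autoImplicit false

namespace Cfsg.Agent.Lib.Helper12.TSCOPR

open Cfsg.Agent.Lib.Helper25.TS
open scoped commutatorElement

section moduleLeaves

variable {V E : Type*} [AddCommGroup V] [AddCommGroup E] [Finite V] [Finite E]
variable {Γ : Type*} [Group Γ] [DistribMulAction Γ V]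

omit [Finite V] in
theorem odd_nsmul_eq (hV2 : ∀ v : V, v + v = 0) {n : ℕ} (hn : Odd n) (v : V) : n • v = v := by
  obtain ⟨k, rfl⟩ := hn
  rw [add_smul, one_smul, mul_smul, two_smul, hV2, zero_add]

omit [Finite V] in
/-- the averaging operator lands in the fixed points -/
theorem sum_smul_mem_fixedPts (Y : Subgroup Γ) [Fintype Y] (v : V) :
    ∑ y : Y, (y : Γ) • v ∈ fixedPts (V := V) Y := by
  rw [mem_fixedPts]
  intro z hz
  rw [Finset.smul_sum]
  rw [← Equiv.sum_comp (Equiv.mulLeft (⟨z, hz⟩ : Y)) (fun y : Y => (y : Γ) • v)]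
  refine Finset.sum_congr rfl fun y _ => ?_
  show z • (y : Γ) • v = ((z * (y : Γ)) • v)
  rw [mul_smul]

omit [Finite V] in
/-- the averaging operator kills `[V,Y]` -/
theorem sum_smul_eq_zero_of_mem_commSub (Y : Subgroup Γ) [Fintype Y] {w : V}
    (hw : w ∈ commSub (V := V) Y) : ∑ y : Y, (y : Γ) • w = 0 := by
  unfold commSub at hw
  induction hw using AddSubgroup.closure_induction with
  | mem x hx =>
    obtain ⟨z, hz, v, rfl⟩ := hx
    simp only [smul_sub, Finset.sum_sub_distrib]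
    rw [sub_eq_zero]
    rw [← Equiv.sum_comp (Equiv.mulRight (⟨z, hz⟩ : Y)) (fun y : Y => (y : Γ) • v)]
    refine Finset.sum_congr rfl fun y _ => ?_
    show (y : Γ) • z • v = (((y : Γ) * z) • v)
    rw [mul_smul]
  | zero => simp
  | add x y _ _ hx hy => simp only [smul_add, Finset.sum_add_distrib, hx, hy, add_zero]
  | neg x _ hx => simp only [smul_neg, Finset.sum_neg_distrib, hx, neg_zero]

omit [Finite V] in
/-- `v` is the average plus a commutator part -/
theorem sum_smul_sub_mem_commSub (Y : Subgroup Γ) [Fintype Y] (v : V) :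
    ∑ y : Y, (y : Γ) • v - Fintype.card Y • v ∈ commSub (V := V) Y := by
  have : ∑ y : Y, (y : Γ) • v - Fintype.card Y • v = ∑ y : Y, ((y : Γ) • v - v) := by
    rw [Finset.sum_sub_distrib, Finset.sum_const, Finset.card_univ]
  rw [this]
  exact AddSubgroup.sum_mem _ fun y _ => smul_sub_mem_commSub Y y.2 v

/-- **A9 `coprime_decomp`** -/
theorem coprime_decomp [Finite Γ] (hV2 : ∀ v : V, v + v = 0) (Y : Subgroup Γ)
    (hY : Odd (Nat.card Y)) :
    commSub (V := V) Y ⊓ fixedPts (V := V) Y = ⊥ ∧ commSub (V := V) Y ⊔ fixedPts (V := V) Y = ⊤ ∧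
    Nat.card V = Nat.card (commSub (V := V) Y) * Nat.card (fixedPts (V := V) Y) := by
  classical
  have : Fintype Y := Fintype.ofFinite Y
  have hcard : Odd (Fintype.card Y) := by rwa [Nat.card_eq_fintype_card] at hY
  have hinf : commSub (V := V) Y ⊓ fixedPts (V := V) Y = ⊥ := by
    rw [eq_bot_iff]
    intro w hw
    obtain ⟨hw1, hw2⟩ := AddSubgroup.mem_inf.mp hw
    rw [AddSubgroup.mem_bot]
    have h1 := sum_smul_eq_zero_of_mem_commSub Y hw1
    have h2 : ∑ y : Y, (y : Γ) • w = Fintype.card Y • w := by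
      rw [← Finset.card_univ, ← Finset.sum_const]
      exact Finset.sum_congr rfl fun y _ => (mem_fixedPts Y w).mp hw2 y y.2
    rw [h2, odd_nsmul_eq hV2 hcard] at h1
    exact h1
  have hsup : commSub (V := V) Y ⊔ fixedPts (V := V) Y = ⊤ := by
    rw [eq_top_iff]
    intro v _
    have h1 := sum_smul_sub_mem_commSub Y v
    rw [odd_nsmul_eq hV2 hcard] at h1
    have h2 := sum_smul_mem_fixedPts Y v
    have h3 : v = -(∑ y : Y, (y : Γ) • v - v) + ∑ y : Y, (y : Γ) • v := by abel
    rw [h3]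
    exact AddSubgroup.add_mem _ (AddSubgroup.mem_sup_left (AddSubgroup.neg_mem _ h1))
      (AddSubgroup.mem_sup_right h2)
  refine ⟨hinf, hsup, ?_⟩
  rw [← Nat.card_prod]
  symm
  refine Nat.card_congr (Equiv.ofBijective
    (fun x : ↥(commSub (V := V) Y) × ↥(fixedPts (V := V) Y) => (x.1 : V) + (x.2 : V)) ⟨?_, ?_⟩)
  · rintro ⟨⟨a, ha⟩, ⟨b, hb⟩⟩ ⟨⟨a', ha'⟩, ⟨b', hb'⟩⟩ h
    simp only at h
    have h1 : a - a' = b' - b := by
      rw [sub_eq_sub_iff_add_eq_add]
      rw [h]
      abel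
    have h2 : a - a' ∈ commSub (V := V) Y ⊓ fixedPts (V := V) Y := by
      refine AddSubgroup.mem_inf.mpr ⟨AddSubgroup.sub_mem _ ha ha', ?_⟩
      rw [h1]
      exact AddSubgroup.sub_mem _ hb' hb
    rw [hinf, AddSubgroup.mem_bot] at h2
    have h3 : a = a' := sub_eq_zero.mp h2
    have h4 : b = b' := by
      rw [h2] at h1
      exact (sub_eq_zero.mp h1.symm).symm
    subst h3
    subst h4
    rfl
  · intro v
    have hv : v ∈ commSub (V := V) Y ⊔ fixedPts (V := V) Y := by
      rw [hsup]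
      exact AddSubgroup.mem_top v
    obtain ⟨a, ha, b, hb, rfl⟩ := AddSubgroup.mem_sup.mp hv
    exact ⟨(⟨a, ha⟩, ⟨b, hb⟩), rfl⟩

end moduleLeaves

end Cfsg.Agent.Lib.Helper12.TSCOPR
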