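/-
helper12: S3797 leaf FREE `free_of_inverted` (frozen statement in `notes/S3797_leaves.lean`).
-/
import Mathlib
import Cfsg.Prelude.Def_Local
import Cfsg.Agent.Lib.Helper25.TSDefs
import Cfsg.Agent.Lib.Helper12.TSCOPR

set_option autoImplicit false

namespace Cfsg.Agent.Lib.Helper12.TSFREE

open Cfsg.Agent.Lib.Helper25.TS
open scoped commutatorElement

section moduleLeaves

variable {V E : Type*} [AddCommGroup V] [AddCommGroup E] [Finite V] [Finite E]
variable {Γ : Type*} [Group Γ] [DistribMulAction Γ V]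

omit [Finite V] in
/-- `[V,A]` is stable under every `g` normalizing `A` -/
theorem smul_mem_commSub_of_normalizes (A : Subgroup Γ) {g : Γ}
    (hg : ∀ a ∈ A, g * a * g⁻¹ ∈ A) {w : V} (hw : w ∈ commSub (V := V) A) :
    g • w ∈ commSub (V := V) A := by
  unfold commSub at hw
  induction hw using AddSubgroup.closure_induction with
  | mem x hx =>
    obtain ⟨y, hy, v, rfl⟩ := hx
    have h : g • (y • v - v) = (g * y * g⁻¹) • (g • v) - g • v := by
      rw [smul_sub, mul_smul, mul_smul, inv_smul_smul]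
    rw [h]
    exact smul_sub_mem_commSub A (hg y hy) _
  | zero =>
    rw [smul_zero]
    exact AddSubgroup.zero_mem _
  | add x y _ _ hx hy =>
    rw [smul_add]
    exact AddSubgroup.add_mem _ hx hy
  | neg x _ hx =>
    rw [smul_neg]
    exact AddSubgroup.neg_mem _ hx

omit [Finite V] in
theorem mem_fixedPts_zpowers (u : Γ) (v : V) :
    v ∈ fixedPts (V := V) (Subgroup.zpowers u) ↔ u • v = v := by
  rw [mem_fixedPts]
  constructor
  · intro h
    exact h u (Subgroup.mem_zpowers u)
  · intro h y hy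
    have hle : Subgroup.zpowers u ≤ MulAction.stabilizer Γ v := by
      rw [Subgroup.zpowers_le]
      exact h
    exact hle hy

/-- in a group of odd order only `1` is its own inverse -/
theorem eq_one_of_eq_inv {A : Type*} [Group A] [Finite A] (hA : Odd (Nat.card A)) {x : A}
    (hx : x = x⁻¹) : x = 1 := by
  have h2 : x ^ 2 = 1 := by
    rw [pow_two]
    nth_rewrite 2 [hx]
    exact mul_inv_cancel x
  have h1 : orderOf x ∣ 2 := orderOf_dvd_of_pow_eq_one h2
  have h3 : orderOf x ∣ Nat.card A := orderOf_dvd_natCard x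
  have h4 : Nat.Coprime 2 (Nat.card A) := (Nat.coprime_two_left).mpr hA
  have h5 : orderOf x = 1 := Nat.eq_one_of_dvd_coprimes h4 h1 h3
  exact orderOf_eq_one_iff.mp h5

/-- pairing `x` with `x⁻¹` in a finite group of odd order -/
theorem sum_eq_pairing {A : Type*} [Group A] [Fintype A] [LinearOrder A] {M : Type*}
    [AddCommMonoid M] (hA : Odd (Nat.card A)) (g : A → M) :
    ∑ x : A, g x = g 1 + (∑ x ∈ Finset.univ.filter (fun x : A => x < x⁻¹), g x +
      ∑ x ∈ Finset.univ.filter (fun x : A => x < x⁻¹), g x⁻¹) := by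
  classical
  have h1 := Finset.sum_filter_add_sum_filter_not (Finset.univ : Finset A) (fun x => x < x⁻¹) g
  have h2 := Finset.sum_filter_add_sum_filter_not
    ((Finset.univ : Finset A).filter (fun x => ¬ x < x⁻¹)) (fun x => x⁻¹ < x) g
  have h3 : (Finset.univ.filter (fun x : A => ¬ x < x⁻¹)).filter (fun x => x⁻¹ < x) =
      Finset.univ.filter (fun x : A => x⁻¹ < x) := by
    ext x
    simp only [Finset.mem_filter, Finset.mem_univ, true_and]
    constructor
    · exact fun h => h.2
    · exact fun h => ⟨lt_asymm h, h⟩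
  have h4 : (Finset.univ.filter (fun x : A => ¬ x < x⁻¹)).filter (fun x => ¬ x⁻¹ < x) = {1} := by
    ext x
    simp only [Finset.mem_filter, Finset.mem_univ, true_and, Finset.mem_singleton]
    constructor
    · rintro ⟨h, h'⟩
      exact eq_one_of_eq_inv hA (le_antisymm (not_lt.mp h') (not_lt.mp h))
    · rintro rfl
      simp
  have h5 : ∑ x ∈ Finset.univ.filter (fun x : A => x⁻¹ < x), g x =
      ∑ x ∈ Finset.univ.filter (fun x : A => x < x⁻¹), g x⁻¹ := by
    refine Finset.sum_equiv (Equiv.inv A) ?_ ?_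
    · intro x
      simp only [Finset.mem_filter, Finset.mem_univ, true_and, Equiv.inv_apply, inv_inv]
    · intro x _
      simp only [Equiv.inv_apply, inv_inv]
  rw [h3, h4, Finset.sum_singleton, h5] at h2
  rw [← h1, ← h2]
  abel

/-- **A7 `free_of_inverted`** -/
theorem free_of_inverted [Finite Γ] (hV2 : ∀ v : V, v + v = 0) (A : Subgroup Γ)
    (hA : Odd (Nat.card A)) {u : Γ} (hu2 : u * u = 1) (hinv : ∀ a ∈ A, u * a * u⁻¹ = a⁻¹) :
    (∀ v ∈ commSub (V := V) A, u • v = v → ∃ w ∈ commSub (V := V) A, v = w + u • w) ∧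
    Nat.card (commSub (V := V) A) =
      Nat.card ↥(commSub (V := V) A ⊓ fixedPts (V := V) (Subgroup.zpowers u)) ^ 2 := by
  classical
  have : Fintype A := Fintype.ofFinite A
  let _ : LinearOrder A := LinearOrder.lift' (Finite.equivFin A) (Equiv.injective _)
  have hneg : ∀ z : V, -z = z := fun z => neg_eq_of_add_eq_zero_left (hV2 z)
  have huA : ∀ a ∈ A, u * a * u⁻¹ ∈ A := by
    intro a ha
    rw [hinv a ha]
    exact A.inv_mem ha
  have huW : ∀ w ∈ commSub (V := V) A, u • w ∈ commSub (V := V) A :=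
    fun w hw => smul_mem_commSub_of_normalizes A huA hw
  have hAW : ∀ x ∈ A, ∀ w ∈ commSub (V := V) A, x • w ∈ commSub (V := V) A := by
    intro x hx w hw
    exact smul_mem_commSub_of_normalizes A
      (fun a ha => A.mul_mem (A.mul_mem hx ha) (A.inv_mem hx)) hw
  have part1 : ∀ v ∈ commSub (V := V) A, u • v = v →
      ∃ w ∈ commSub (V := V) A, v = w + u • w := by
    intro v hv huv
    have hS := Cfsg.Agent.Lib.Helper12.TSCOPR.sum_smul_eq_zero_of_mem_commSub A hv
    rw [sum_eq_pairing hA (fun x : A => (x : Γ) • v)] at hS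
    refine ⟨∑ x ∈ Finset.univ.filter (fun x : A => x < x⁻¹), (x : Γ) • v, ?_, ?_⟩
    · exact AddSubgroup.sum_mem _ fun x _ => hAW x x.2 v hv
    · have h1 : u • ∑ x ∈ Finset.univ.filter (fun x : A => x < x⁻¹), (x : Γ) • v =
          ∑ x ∈ Finset.univ.filter (fun x : A => x < x⁻¹), ((x⁻¹ : A) : Γ) • v := by
        rw [Finset.smul_sum]
        refine Finset.sum_congr rfl fun x _ => ?_
        have h2 : u • (x : Γ) • v = (u * (x : Γ) * u⁻¹) • (u • v) := by
          rw [mul_smul, mul_smul, inv_smul_smul]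
        rw [h2, hinv x x.2, huv]
        rfl
      rw [h1]
      have h3 : ((1 : A) : Γ) • v = v := by
        rw [Subgroup.coe_one, one_smul]
      rw [h3] at hS
      have h4 := eq_neg_of_add_eq_zero_left hS
      rw [hneg] at h4
      exact h4
  refine ⟨part1, ?_⟩
  -- the map `1 + u` on `W = [V,A]`
  let φ : ↥(commSub (V := V) A) →+ V :=
    { toFun := fun w => (w : V) + u • (w : V)
      map_zero' := by simp
      map_add' := by
        intro a b
        simp only [AddSubgroup.coe_add, smul_add]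
        abel }
  have hφ : ∀ w, φ w = (w : V) + u • (w : V) := fun _ => rfl
  have huu : ∀ z : V, u • u • z = z := by
    intro z
    rw [← mul_smul, hu2, one_smul]
  have hrange : φ.range = commSub (V := V) A ⊓ fixedPts (V := V) (Subgroup.zpowers u) := by
    ext x
    constructor
    · rintro ⟨w, rfl⟩
      refine AddSubgroup.mem_inf.mpr ⟨?_, ?_⟩
      · rw [hφ]
        exact AddSubgroup.add_mem _ w.2 (huW _ w.2)
      · rw [mem_fixedPts_zpowers, hφ, smul_add, huu, add_comm]
    · intro hx
      obtain ⟨hx1, hx2⟩ := AddSubgroup.mem_inf.mp hx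
      rw [mem_fixedPts_zpowers] at hx2
      obtain ⟨w, hw, hw2⟩ := part1 x hx1 hx2
      exact ⟨⟨w, hw⟩, hw2.symm⟩
  have hker : φ.ker.map (commSub (V := V) A).subtype =
      commSub (V := V) A ⊓ fixedPts (V := V) (Subgroup.zpowers u) := by
    ext x
    rw [AddSubgroup.mem_map, AddSubgroup.mem_inf, mem_fixedPts_zpowers]
    constructor
    · rintro ⟨w, hw, rfl⟩
      refine ⟨w.2, ?_⟩
      rw [AddMonoidHom.mem_ker, hφ] at hw
      have h1 := eq_neg_of_add_eq_zero_right hw
      rw [hneg] at h1
      exact h1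
    · rintro ⟨hx1, hx2⟩
      refine ⟨⟨x, hx1⟩, ?_, rfl⟩
      rw [AddMonoidHom.mem_ker, hφ]
      show x + u • x = 0
      rw [hx2]
      exact hV2 x
  have hcardker : Nat.card φ.ker =
      Nat.card ↥(commSub (V := V) A ⊓ fixedPts (V := V) (Subgroup.zpowers u)) := by
    rw [← hker]
    exact (AddSubgroup.card_map_of_injective (AddSubgroup.subtype_injective _)).symm
  have h1 := φ.ker.card_mul_index
  rw [AddSubgroup.index_ker, hrange, hcardker] at h1
  rw [← h1, pow_two]

end moduleLeaves

end Cfsg.Agent.Lib.Helper12.TSFREE
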