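import Mathlib
import Cfsg.Agent.Lib.Helper8.TW.Defs
import Cfsg.Agent.Lib.Helper20.AschA89WR
import Cfsg.Agent.Lib.Helper20.AschA89F2J
import Cfsg.Agent.Lib.Helper22.TWExtBasic
import Cfsg.Agent.Lib.Helper14.TWIIDefs
import Cfsg.Agent.Lib.Helper6.TWT1

/-!
S5641 (C7 maximal in SL_n), part (II) Stage II, Case B (sub-planner helper14): packet IIB-Z = `img_inv_eq`, `img_mul'`, `mv_mem_img`,
`InZ_conj`, `InZ_mul`, `InZ_inv`, `InZ_rootU` (exact signatures of `notes/S5641_IIB_leaves.lean`).  Taker: helper12.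
By-products: `mv_mul'`, `mv_sub`, `mv_inv_mv`, `mv_mv_inv`.
-/

set_option autoImplicit false
set_option linter.unusedSectionVars false
set_option linter.unusedVariables false

namespace Cfsg.Agent.Lib.Helper12.TWIIBLeaf
open Matrix Cfsg.Geo Cfsg.Agent.Lib.Helper18.AschA89 Cfsg.Agent.Lib.Helper20.AschLeaf Cfsg.Agent.Lib.Helper8.TW
  Cfsg.Agent.Lib.Helper14.TWII

variable {F : Type*} [Field F] {t m : ℕ}

lemma mv_mul' {ι : Type} [Fintype ι] [DecidableEq ι] (g h : GL ι F) (v : ι → F) : mv (g * h) v = mv g (mv h v) := by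
  unfold mv
  rw [Units.val_mul, Matrix.mulVec_mulVec]

lemma mv_sub {ι : Type} [Fintype ι] [DecidableEq ι] (g : GL ι F) (v w : ι → F) : mv g (v - w) = mv g v - mv g w := by
  unfold mv
  rw [Matrix.mulVec_sub]

lemma mv_one {ι : Type} [Fintype ι] [DecidableEq ι] (v : ι → F) : mv (1 : GL ι F) v = v := by
  unfold mv
  rw [Units.val_one, Matrix.one_mulVec]

lemma mv_inv_mv {ι : Type} [Fintype ι] [DecidableEq ι] (g : GL ι F) (v : ι → F) : mv g⁻¹ (mv g v) = v := by
  rw [← mv_mul', inv_mul_cancel, mv_one]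

lemma mv_mv_inv {ι : Type} [Fintype ι] [DecidableEq ι] (g : GL ι F) (v : ι → F) : mv g (mv g⁻¹ v) = v := by
  rw [← mv_mul', mul_inv_cancel, mv_one]

/-- Z0' (S) generic -/
theorem img_mul' {ι : Type} [Fintype ι] [DecidableEq ι] (g h : GL ι F) (S : Submodule F (ι → F)) :
    img (g * h) S = img g (img h S) := by
  unfold img
  rw [Units.val_mul, Matrix.toLin'_mul, Submodule.map_comp]

/-- Z0 (S) generic -/
theorem img_inv_eq {ι : Type} [Fintype ι] [DecidableEq ι] (g : GL ι F) (S S' : Submodule F (ι → F))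
    (h : img g S = S') : img g⁻¹ S' = S := by
  rw [← h, ← img_mul', inv_mul_cancel]
  unfold img
  rw [Units.val_one, Matrix.toLin'_one, Submodule.map_id]

/-- Z0'' (S) -/
theorem mv_mem_img {ι : Type} [Fintype ι] [DecidableEq ι] (g : GL ι F) (S : Submodule F (ι → F)) (v : ι → F)
    (hv : v ∈ S) : mv g v ∈ img g S := by
  unfold img mv
  exact ⟨v, hv, Matrix.toLin'_apply _ _⟩

lemma exists_of_mem_img {ι : Type} [Fintype ι] [DecidableEq ι] (g : GL ι F) (S : Submodule F (ι → F)) (v : ι → F)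
    (hv : v ∈ img g S) : ∃ w ∈ S, mv g w = v := by
  unfold img at hv
  obtain ⟨w, hw, hwv⟩ := hv
  exact ⟨w, hw, by rw [← hwv, Matrix.toLin'_apply]; rfl⟩

/-- Z1 (M) conjugation moves `Z_b` to `Z_{h b}` -/
theorem InZ_conj (i i' : Fin t) (y y' : Fin m → F) (h u : GL (Idx t m) F) (hu : InZ i y u)
    (hh : img h (Wf i y) = Wf i' y') : InZ i' y' (h * u * h⁻¹) := by
  constructor
  · intro v
    have e : mv (h * u * h⁻¹) v - v = mv h (mv u (mv h⁻¹ v) - mv h⁻¹ v) := by
      rw [mv_sub, mv_mv_inv, mv_mul', mv_mul']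
    rw [e, ← hh]
    exact mv_mem_img h _ _ (hu.1 _)
  · intro v hv
    rw [← hh] at hv
    obtain ⟨w, hw, rfl⟩ := exists_of_mem_img h _ v hv
    rw [mv_mul', mv_mul', mv_inv_mv, hu.2 w hw]

/-- Z2 (S) `Z_b` is closed under products -/
theorem InZ_mul (i : Fin t) (y : Fin m → F) (u u' : GL (Idx t m) F) (hu : InZ i y u) (hu' : InZ i y u') :
    InZ i y (u * u') := by
  constructor
  · intro v
    have e : mv (u * u') v - v = (mv u (mv u' v) - mv u' v) + (mv u' v - v) := by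
      rw [mv_mul']
      abel
    rw [e]
    exact (Wf i y).add_mem (hu.1 _) (hu'.1 _)
  · intro v hv
    rw [mv_mul', hu'.2 v hv, hu.2 v hv]

/-- Z3 (S) and inverses -/
theorem InZ_inv (i : Fin t) (y : Fin m → F) (u : GL (Idx t m) F) (hu : InZ i y u) : InZ i y u⁻¹ := by
  constructor
  · intro v
    have e : mv u⁻¹ v - v = -(mv u (mv u⁻¹ v) - mv u⁻¹ v) := by
      rw [mv_mv_inv]
      abel
    rw [e]
    exact (Wf i y).neg_mem (hu.1 _)
  · intro v hv
    have := hu.2 v hv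
    calc mv u⁻¹ v = mv u⁻¹ (mv u v) := by rw [this]
      _ = v := mv_inv_mv u v

/-- Z4 (S) root elements lie in `Z_b` -/
theorem InZ_rootU (i : Fin t) (y η : Fin m → F) (hη : η ⬝ᵥ y = 0) : InZ i y (rootU i y η hη) := by
  have hmv : ∀ v, mv (rootU i y η hη) v = v + rootN i y η *ᵥ v := by
    intro v
    unfold mv
    rw [rootU_val, Matrix.add_mulVec, Matrix.one_mulVec]
  constructor
  · intro v
    rw [hmv, add_sub_cancel_left]
    intro x
    rw [Cfsg.Agent.Lib.Helper6.TWLeaf.rootN_mulVec_slice]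
    exact Submodule.smul_mem _ _ (Submodule.mem_span_singleton_self y)
  · intro v hv
    rw [hmv]
    have h0 : rootN i y η *ᵥ v = 0 := by
      apply Cfsg.Agent.Lib.Helper6.TWLeaf.eq_of_slices i
      intro x
      rw [Cfsg.Agent.Lib.Helper6.TWLeaf.rootN_mulVec_slice]
      obtain ⟨c, hc⟩ := Submodule.mem_span_singleton.1 (hv x)
      rw [← hc, dotProduct_smul, hη, smul_zero, zero_smul]
      rfl
    rw [h0, add_zero]

end Cfsg.Agent.Lib.Helper12.TWIIBLeaf
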