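import Mathlib
import Cfsg.Prelude.Def_Classical
import Cfsg.Prelude.Def_ClassicalGeometry
import Cfsg.Prelude.Def_GeometricClasses
import Cfsg.Agent.Lib.Helper5.SUMax
import Cfsg.Agent.Lib.Helper22.C3LDefs
import Cfsg.Agent.Lib.Helper22.C3LTool
import Cfsg.Agent.Lib.Helper16.C3uDefs

/-!
Unitary C3 (cubic field) leaf market (planner helper16), packet C3uF: F1 `st_ne_refl`, F2 `tau_nondeg`,
F3 `exists_skew_tau_ne`, F6 `exists_repr` (exact signatures of `notes/C3u_leaves.lean`).  Taker: helper12.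
By-products: `exists_pow_ne` (some `c : F` with `c ^ q ≠ c`), `hermForm_single_self`, `exists_tau_ne_zero`,
`tau_surj` (`τ` is onto), `tauDual` (the linear map `ν ↦ (e ↦ τ (e * ν))`) with `tauDual_injective`.
-/

set_option autoImplicit false
set_option linter.unusedSectionVars false
set_option linter.unusedVariables false

namespace Cfsg.Agent.Lib.Helper12.C3uLeaf
open Cfsg Matrix Module Cfsg.Agent.Lib.Helper5.SpMax Cfsg.Agent.Lib.Helper5.SUMax
  Cfsg.Agent.Lib.Helper22.C3L Cfsg.Agent.Lib.Helper16.C3u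

universe u
variable {F : Type u} [Field F] [Fintype F] {n q : ℕ} {E : Type u} [Field E] [Algebra F E]

local notation "𝕍" => (Fin n → F)
local notation "𝕄" => Matrix (Fin n) (Fin n) F
local notation "ℍ" => (Cfsg.GU n F q ⊓ Cfsg.Geo.specialLinear (Fin n) F)

/-- some element of `F` is moved by the `q`-th power map -/
theorem exists_pow_ne (hF : Fintype.card F = q ^ 2) : ∃ c : F, c ^ q ≠ c := by
  obtain ⟨θ, hθ⟩ := Cfsg.Agent.Lib.Helper5.UForm.exists_moved
    (Cfsg.Agent.Lib.Helper5.HermBridge.herm_unitary (n := 1) hF).ne_refl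
  exact ⟨θ, hθ⟩

/-- the standard hermitian form at a standard basis vector -/
theorem hermForm_single_self (i : Fin n) :
    Cfsg.hermForm n F q (Pi.single i 1) (Pi.single i 1) = 1 := by
  classical
  unfold Cfsg.hermForm
  rw [Finset.sum_eq_single i]
  · rw [Pi.single_eq_same, one_pow, mul_one]
  · intro j _ hji
    rw [Pi.single_eq_of_ne hji, zero_mul]
  · intro h
    exact absurd (Finset.mem_univ i) h

/-- `τ ≠ 0` -/
theorem exists_tau_ne_zero (S : KU n q F E) (hn : 0 < n) : ∃ e : E, S.τ e ≠ 0 := by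
  classical
  refine ⟨S.fE (Pi.single ⟨0, hn⟩ 1) (Pi.single ⟨0, hn⟩ 1), ?_⟩
  rw [← S.form_eq', hermForm_single_self]
  exact one_ne_zero

/-- `τ` is onto -/
theorem tau_surj (S : KU n q F E) (hn : 0 < n) (c : F) : ∃ e : E, S.τ e = c := by
  obtain ⟨e₁, he₁⟩ := exists_tau_ne_zero S hn
  refine ⟨(c / S.τ e₁) • e₁, ?_⟩
  rw [map_smul, smul_eq_mul, div_mul_cancel₀ _ he₁]

/-- F1: `st` is not the identity -/
theorem st_ne_refl (S : KU n q F E) (hF : Fintype.card F = q ^ 2) : S.st ≠ RingEquiv.refl E := by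
  intro h
  obtain ⟨c, hc⟩ := exists_pow_ne hF
  apply hc
  have h1 := S.st_alg c
  rw [h, RingEquiv.refl_apply] at h1
  exact ((algebraMap F E).injective h1).symm

/-- F2: the `τ`-form `(a, b) ↦ τ (a * b)` on `E` is non-degenerate -/
theorem tau_nondeg (S : KU n q F E) (hF : Fintype.card F = q ^ 2) (hn : 0 < n) {a : E}
    (h : ∀ b, S.τ (a * b) = 0) : a = 0 := by
  by_contra ha
  obtain ⟨e, he⟩ := exists_tau_ne_zero S hn
  apply he
  have := h (a⁻¹ * e)
  rwa [mul_inv_cancel_left₀ ha] at this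

/-- F3: `τ` does not vanish on `Skew(E) * e₀` -/
theorem exists_skew_tau_ne (S : KU n q F E) (hF : Fintype.card F = q ^ 2) (hn : 0 < n) {e₀ : E}
    (he₀ : e₀ ≠ 0) (hfix : S.st e₀ = e₀) : ∃ a : E, S.st a = -a ∧ S.τ (a * e₀) ≠ 0 := by
  obtain ⟨c, hc⟩ := exists_pow_ne hF
  obtain ⟨w, hw⟩ := tau_surj S hn c
  refine ⟨(w - S.st w) * e₀⁻¹, ?_, ?_⟩
  · rw [map_mul, map_sub, map_inv₀, S.st_st, hfix]
    ring
  · rw [inv_mul_cancel_right₀ he₀, map_sub, S.τ_st, hw]
    exact sub_ne_zero.mpr (Ne.symm hc)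

/-- the linear map `ν ↦ (e ↦ τ (e * ν))` from `E` to its dual -/
def tauDual (S : KU n q F E) : E →ₗ[F] Module.Dual F E where
  toFun ν :=
    { toFun := fun e => S.τ (e * ν)
      map_add' := fun x y => by rw [add_mul, map_add]
      map_smul' := fun c x => by rw [smul_mul_assoc, map_smul, RingHom.id_apply] }
  map_add' x y := by
    apply LinearMap.ext
    intro e
    change S.τ (e * (x + y)) = S.τ (e * x) + S.τ (e * y)
    rw [mul_add, map_add]
  map_smul' c x := by
    apply LinearMap.ext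
    intro e
    change S.τ (e * (c • x)) = c • S.τ (e * x)
    rw [mul_smul_comm, map_smul]

theorem tauDual_apply (S : KU n q F E) (ν e : E) : tauDual S ν e = S.τ (e * ν) := rfl

theorem tauDual_injective (S : KU n q F E) (hF : Fintype.card F = q ^ 2) (hn : 0 < n) :
    Function.Injective (tauDual S) := by
  rw [← LinearMap.ker_eq_bot, LinearMap.ker_eq_bot']
  intro ν hν
  apply tau_nondeg S hF hn
  intro b
  have := LinearMap.congr_fun hν b
  rw [tauDual_apply, LinearMap.zero_apply] at this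
  rwa [mul_comm]

/-- F6: every functional on `E` is `e ↦ τ (e * st ν)` -/
theorem exists_repr (S : KU n q F E) (hF : Fintype.card F = q ^ 2) (hn : 0 < n)
    [FiniteDimensional F E] (ℓ : E →ₗ[F] F) : ∃ ν : E, ∀ e, ℓ e = S.τ (e * S.st ν) := by
  have hsurj : Function.Surjective (tauDual S) :=
    (LinearMap.injective_iff_surjective_of_finrank_eq_finrank
      (Subspace.dual_finrank_eq (K := F) (V := E)).symm).mp (tauDual_injective S hF hn)
  obtain ⟨ν', hν'⟩ := hsurj ℓ
  refine ⟨S.st ν', fun e => ?_⟩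
  rw [S.st_st, ← hν', tauDual_apply]

end Cfsg.Agent.Lib.Helper12.C3uLeaf
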