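import Mathlib
import Cfsg.Prelude.Def_Classical
import Cfsg.Prelude.Def_ClassicalGeometry
import Cfsg.Prelude.Def_GeometricClasses
import Cfsg.Agent.Lib.Helper5.SUMax
import Cfsg.Agent.Lib.Helper22.C3LDefs
import Cfsg.Agent.Lib.Helper22.C3LTool
import Cfsg.Agent.Lib.Helper16.C3uDefs
import Cfsg.Agent.Lib.Helper12.C3uF

/-!
Unitary C3 (cubic field) leaf market (planner helper16), packet C3uW0: `fE_nondeg`, `form_line_iff`, `finrank_hyp`
(exact signatures of `notes/C3u_leaves.lean`).  Taker: helper12.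
By-products: `fE_nondeg_left` (`∃ y, fE y x ≠ 0`), `phi_surjective` (`x ↦ fE x v` is onto `E` for `v ≠ 0`).
-/

set_option autoImplicit false
set_option linter.unusedSectionVars false
set_option linter.unusedVariables false

namespace Cfsg.Agent.Lib.Helper12.C3uLeaf
open Cfsg Matrix Module Cfsg.Agent.Lib.Helper5.SpMax Cfsg.Agent.Lib.Helper5.SUMax
  Cfsg.Agent.Lib.Helper22.C3L Cfsg.Agent.Lib.Helper16.C3u

universe u
variable {F : Type u} [Field F] [Fintype F] {n q : ℕ} {E : Type u} [Field E] [Algebra F E]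

local notation "𝕍" => (Fin n → F)
local notation "𝕄" => Matrix (Fin n) (Fin n) F
local notation "ℍ" => (Cfsg.GU n F q ⊓ Cfsg.Geo.specialLinear (Fin n) F)

/-- W0: `fE` is non-degenerate -/
theorem fE_nondeg (S : KU n q F E) (hF : Fintype.card F = q ^ 2) {x : 𝕍} (hx : x ≠ 0) :
    ∃ y, S.fE x y ≠ 0 := by
  obtain ⟨y, hy⟩ := ((Cfsg.Agent.Lib.Helper5.HermBridge.herm_unitary (n := n) hF).nondegenerate x hx).2
  refine ⟨y, fun h => hy ?_⟩
  rw [S.form_eq', h, map_zero]

/-- `fE` is non-degenerate on the other side -/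
theorem fE_nondeg_left (S : KU n q F E) (hF : Fintype.card F = q ^ 2) {x : 𝕍} (hx : x ≠ 0) :
    ∃ y, S.fE y x ≠ 0 := by
  obtain ⟨y, hy⟩ := fE_nondeg S hF hx
  refine ⟨y, fun h => hy ?_⟩
  rw [S.herm, h, map_zero]

/-- W0': `x` is `f`-orthogonal to the `E`-line of `v` iff `fE x v = 0` -/
theorem form_line_iff (S : KU n q F E) (hF : Fintype.card F = q ^ 2) (hn : 0 < n) {v x : 𝕍} :
    (∀ w ∈ line S.ρ v, Cfsg.hermForm n F q x w = 0) ↔ S.fE x v = 0 := by
  constructor
  · intro h
    apply tau_nondeg S hF hn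
    intro b
    have h1 := h (act S.ρ (S.st b) v) (act_mem_line (S.st b) v)
    rw [S.form_act_right, S.st_st] at h1
    rwa [mul_comm]
  · intro h w hw
    obtain ⟨e, rfl⟩ := mem_line.mp hw
    rw [S.form_act_right, h, mul_zero, map_zero]

/-- `x ↦ fE x v` is onto `E` for `v ≠ 0` -/
theorem phi_surjective (S : KU n q F E) (hF : Fintype.card F = q ^ 2) {v : 𝕍} (hv : v ≠ 0) :
    Function.Surjective (S.phi v) := by
  obtain ⟨y, hy⟩ := fE_nondeg_left S hF hv
  intro e
  refine ⟨act S.ρ (e * (S.fE y v)⁻¹) y, ?_⟩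
  rw [S.phi_apply, S.fE_act_left, inv_mul_cancel_right₀ hy]

/-- W0'': the `E`-hyperplane of a non-zero vector has codimension `r` -/
theorem finrank_hyp (S : KU n q F E) (hF : Fintype.card F = q ^ 2) [FiniteDimensional F E]
    {v : 𝕍} (hv : v ≠ 0) : finrank F (S.hyp v) + finrank F E = n := by
  have h1 := LinearMap.finrank_range_add_finrank_ker (S.phi v)
  have h2 : LinearMap.range (S.phi v) = ⊤ := LinearMap.range_eq_top.mpr (phi_surjective S hF hv)
  rw [h2, finrank_top, Module.finrank_fintype_fun_eq_card, Fintype.card_fin] at h1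
  rw [add_comm]
  exact h1

end Cfsg.Agent.Lib.Helper12.C3uLeaf
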