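import Mathlib
import Cfsg.Prelude.Def_ConjugacyFunctors
import Cfsg.Agent.Lib.Helper12.Basic
import Cfsg.Agent.Lib.Helper12.WellPlaced
import Cfsg.Agent.Lib.Helper12.Alperin
import Cfsg.Agent.Lib.Helper12.Control
import Cfsg.Agent.Lib.Helper12.ControlTransfer
import Cfsg.Agent.Lib.Helper12.FamilyTransfer

/-!
Helper lemmas (helper12): Alperin's fusion theorem in its original form (tame Sylow intersections,
`p`-elements as conjugating elements).
-/

set_option autoImplicit false
open Subgroup
namespace Cfsg.Agent.Lib.Helper12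

section pchain
variable {G : Type*} [Group G]

/-- chains whose steps satisfy a relation `R` -/
def PReach (R : Subgroup G → G → Prop) (A : Set G) (g : G) : Prop :=
  ∃ l : List (Subgroup G × G), Chain Set.univ A l ∧ (∀ q ∈ l, R q.1 q.2) ∧ prodOf l = g

variable {R : Subgroup G → G → Prop}

theorem PReach.one (A : Set G) : PReach R A 1 := ⟨[], trivial, by simp, prodOf_nil⟩

theorem PReach.mono {A B : Set G} (hBA : B ⊆ A) {g : G} (h : PReach R A g) : PReach R B g := by
  obtain ⟨l, hl, hR, hg⟩ := h
  exact ⟨l, hl.mono _ hBA, hR, hg⟩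

theorem PReach.trans {A : Set G} {g h : G} (h₁ : PReach R A g) (h₂ : PReach R (cjs g A) h) :
    PReach R A (g * h) := by
  obtain ⟨l₁, hl₁, hR₁, rfl⟩ := h₁
  obtain ⟨l₂, hl₂, hR₂, rfl⟩ := h₂
  refine ⟨l₁ ++ l₂, hl₁.append _ hl₂, ?_, prodOf_append l₁ l₂⟩
  intro q hq
  rcases List.mem_append.mp hq with hq | hq
  · exact hR₁ q hq
  · exact hR₂ q hq

theorem PReach.symm (hRinv : ∀ T x, R T x → R T x⁻¹) {A : Set G} {g : G} (h : PReach R A g) :
    PReach R (cjs g A) g⁻¹ := by
  obtain ⟨l, hl, hR, rfl⟩ := h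
  refine ⟨revChain l, hl.rev _, ?_, prodOf_revChain l⟩
  intro q hq
  unfold revChain at hq
  rw [List.mem_reverse, List.mem_map] at hq
  obtain ⟨q', hq', rfl⟩ := hq
  exact hRinv _ _ (hR q' hq')

theorem PReach.single {T : Subgroup G} {x : G} (hR : R T x)
    (hx : x ∈ Subgroup.normalizer (T : Set G)) : PReach R (T : Set G) x :=
  ⟨[(T, x)], ⟨Set.mem_univ _, hx, le_rfl, trivial⟩, by
    intro q hq
    rw [List.mem_singleton] at hq
    subst hq
    exact hR, by rw [prodOf_cons, prodOf_nil, mul_one]⟩

/-- along a chain, if every step is reachable then the product is -/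
theorem preach_of_chain (𝓕 : Set (Subgroup G)) (l : List (Subgroup G × G))
    (hmem : ∀ q ∈ l, PReach R (q.1 : Set G) q.2) :
    ∀ A : Set G, Chain 𝓕 A l → PReach R A (prodOf l) := by
  induction l with
  | nil =>
    intro A _
    rw [prodOf_nil]
    exact PReach.one A
  | cons q l ih =>
    obtain ⟨T, x⟩ := q
    rintro A ⟨hT, hx, hA, hl⟩
    rw [prodOf_cons]
    apply ((hmem (T, x) List.mem_cons_self).mono hA).trans
    exact ih (fun q hq => hmem q (List.mem_cons_of_mem _ hq)) _ hl

/-- explicit form of `Chain.toFamily` -/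
theorem Chain.toFamilyAlpP (𝓕 : Set (Subgroup G)) {A : Set G} {l : List (Subgroup G × G)}
    (h : Chain 𝓕 A l) :
    (List.ofFn (fun i : Fin l.length => (l.get i).2)).prod = prodOf l ∧
      (∀ hn : 0 < l.length, A ⊆ (l.get ⟨0, hn⟩).1) ∧
      ∀ (i : Fin l.length) (hi : i.val + 1 < l.length),
        (fun a => (((List.ofFn (fun i : Fin l.length => (l.get i).2)).take (i.val + 1)).prod)⁻¹ * a *
          ((List.ofFn (fun i : Fin l.length => (l.get i).2)).take (i.val + 1)).prod) '' A ⊆
          (l.get ⟨i.val + 1, hi⟩).1 := by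
  have hofFn : List.ofFn (fun i : Fin l.length => (l.get i).2) = l.map Prod.snd := by
    apply List.ext_getElem
    · simp
    · intro i h1 h2
      simp
  refine ⟨?_, ?_, ?_⟩
  · rw [hofFn]; rfl
  · intro hn
    cases l with
    | nil => simp at hn
    | cons a l' =>
      obtain ⟨T, x⟩ := a
      exact h.2.2.1
  · intro i hi
    rw [hofFn]
    exact h.step 𝓕 i.val hi

theorem cjs_eq_of_mem_normalizer {x : G} {T : Subgroup G}
    (hx : x ∈ Subgroup.normalizer (T : Set G)) : cjs x (T : Set G) = T := by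
  rw [cjs_coe, cj_eq_of_mem_normalizer (inv_mem hx)]

theorem sylow_smul_coe' {p : ℕ} (g : G) (P : Sylow p G) :
    ((g • P : Sylow p G) : Subgroup G) = cj g (P : Subgroup G) := by
  rw [Sylow.coe_subgroup_smul, Subgroup.pointwise_smul_def]
  rfl

end pchain

section alperinP
variable {G : Type*} [Group G] [Finite G] {p : ℕ} [Fact p.Prime] (P : Sylow p G)

/-- the steps allowed in Alperin's theorem: tame Sylow intersections `T = P ∩ Q`, and `p`-elements unless
`Q = P` -/
def AlpStep (T : Subgroup G) (x : G) : Prop :=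
  ∃ Q : Sylow p G, T = (P : Subgroup G) ⊓ (Q : Subgroup G) ∧
    ¬ p ∣ ((P : Subgroup G) ⊓ Subgroup.normalizer ((T : Subgroup G) : Set G)).relIndex
      (Subgroup.normalizer ((T : Subgroup G) : Set G)) ∧
    ¬ p ∣ ((Q : Subgroup G) ⊓ Subgroup.normalizer ((T : Subgroup G) : Set G)).relIndex
      (Subgroup.normalizer ((T : Subgroup G) : Set G)) ∧
    ((Q : Subgroup G) = (P : Subgroup G) ∨ ∃ k : ℕ, orderOf x = p ^ k)

omit [Finite G] [Fact p.Prime] in
theorem AlpStep.inv {T : Subgroup G} {x : G} (h : AlpStep P T x) : AlpStep P T x⁻¹ := by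
  obtain ⟨Q, h1, h2, h3, h4⟩ := h
  refine ⟨Q, h1, h2, h3, ?_⟩
  rcases h4 with h4 | ⟨k, hk⟩
  · exact Or.inl h4
  · exact Or.inr ⟨k, by rw [orderOf_inv]; exact hk⟩

theorem alpStep_self (x : G) : AlpStep P (P : Subgroup G) x := by
  have h1 : (P : Subgroup G) ⊓ Subgroup.normalizer (((P : Subgroup G) : Subgroup G) : Set G) =
      (P : Subgroup G) := inf_eq_left.mpr Subgroup.le_normalizer
  have h2 : ¬ p ∣ ((P : Subgroup G) ⊓ Subgroup.normalizer (((P : Subgroup G) : Subgroup G) : Set G)).relIndex
      (Subgroup.normalizer (((P : Subgroup G) : Subgroup G) : Set G)) := by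
    rw [h1]
    exact sylow_not_dvd_relIndex P _ Subgroup.le_normalizer
  exact ⟨P, (inf_idem _).symm, h2, h2, Or.inl rfl⟩

/-- the inductive claim: conjugation inside the normalizer of a tame subgroup -/
theorem alp_of_tame : ∀ (d : ℕ) (T : Subgroup G), T ∈ tameFamily P →
    Nat.card (P : Subgroup G) - Nat.card T = d →
    ∀ x ∈ Subgroup.normalizer ((T : Subgroup G) : Set G), PReach (AlpStep P) (T : Set G) x := by
  intro d
  induction d using Nat.strong_induction_on with
  | _ d IH =>
  intro T htame hd x hxN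
  have hinv : ∀ (T : Subgroup G) (x : G), AlpStep P T x → AlpStep P T x⁻¹ := fun _ _ h => h.inv P
  have hcardS : ∀ K : Subgroup G, K ≤ (P : Subgroup G) → Nat.card K ≤ Nat.card (P : Subgroup G) :=
    fun K hK => Subgroup.card_le_of_le hK
  -- conjugations between larger subgroups of `P` are reachable
  have lemA : ∀ B : Subgroup G, B ≤ (P : Subgroup G) → Nat.card T < Nat.card B → ∀ g : G,
      cj g⁻¹ B ≤ (P : Subgroup G) → PReach (AlpStep P) (B : Set G) g := by
    intro B hB hlt g hg
    obtain ⟨l, hl, hprod⟩ := reach_tame P B hB g hg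
    rw [← hprod]
    apply preach_of_chain (tameFamily P) l _ _ hl
    intro q hq
    have hq𝓕 : q.1 ∈ tameFamily P := (hl.mem _ q hq).1
    have hqN := (hl.mem _ q hq).2
    have h1 : Nat.card B ≤ Nat.card q.1 := hl.card_le _ q hq
    have h2 := hcardS _ hq𝓕.1
    have h3 := hcardS _ htame.1
    exact IH (Nat.card (P : Subgroup G) - Nat.card q.1) (by omega) q.1 hq𝓕 rfl q.2 hqN
  by_cases hTP : T = (P : Subgroup G)
  · subst hTP
    exact PReach.single (alpStep_self P x) hxN
  · set N := Subgroup.normalizer ((T : Subgroup G) : Set G) with hN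
    set S₀ := (P : Subgroup G) ⊓ N with hS₀
    have hS₀p : IsPGroup p S₀ := P.2.to_le inf_le_left
    have hS₀idx : ¬ p ∣ S₀.relIndex N := htame.2
    have hTS₀ : T ≤ S₀ := le_inf htame.1 Subgroup.le_normalizer
    have hlt : Nat.card T < Nat.card S₀ := card_lt_card_inf_normalizer P.2 htame.1 hTP
    have hS₀P : S₀ ≤ (P : Subgroup G) := inf_le_left
    have hS₀N : S₀ ≤ N := inf_le_right
    -- generators
    have hgen : ∀ y ∈ N, ∀ z ∈ cj y S₀, z ∈ N ∧ PReach (AlpStep P) (T : Set G) z := by
      intro y hy z hz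
      have hcjN : cj y N = N := cj_self_of_mem hy
      have hcjT : cj y T = T := cj_eq_of_mem_normalizer hy
      have hzN : z ∈ N := by
        have := cj_mono y hS₀N hz
        rwa [hcjN] at this
      refine ⟨hzN, ?_⟩
      have hTQ : T ≤ cj y (P : Subgroup G) := by
        calc T = cj y T := hcjT.symm
          _ ≤ cj y (P : Subgroup G) := cj_mono y htame.1
      have hTD : T ≤ (P : Subgroup G) ⊓ cj y (P : Subgroup G) := le_inf htame.1 hTQ
      by_cases hD : (P : Subgroup G) ⊓ cj y (P : Subgroup G) = T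
      · -- a tame intersection
        have hQN : cj y (P : Subgroup G) ⊓ N = cj y S₀ := by
          rw [hS₀, cj_inf, hcjN]
        have hstep : AlpStep P T z := by
          refine ⟨y • P, by rw [sylow_smul_coe', hD], htame.2, ?_, Or.inr ?_⟩
          · rw [sylow_smul_coe']
            show ¬ p ∣ (cj y (P : Subgroup G) ⊓ N).relIndex N
            rw [hQN]
            have : (cj y S₀).relIndex N = (cj y S₀).relIndex (cj y N) := by rw [hcjN]
            rw [this, cj_relIndex]
            exact hS₀idx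
          · have hp' : IsPGroup p ↥(cj y S₀) := by
              rw [cj_def]; exact hS₀p.map _
            obtain ⟨k, hk⟩ := (IsPGroup.iff_orderOf.mp hp') ⟨z, hz⟩
            exact ⟨k, by rw [← hk, Subgroup.orderOf_mk]⟩
        exact PReach.single hstep hzN
      · -- a larger intersection
        have hlt' : Nat.card T < Nat.card ↥((P : Subgroup G) ⊓ cj y (P : Subgroup G)) :=
          lt_of_le_of_ne (Subgroup.card_le_of_le hTD)
            (fun h => hD (Subgroup.eq_of_le_of_card_ge hTD h.ge).symm)
        have hDy : cj y⁻¹ ((P : Subgroup G) ⊓ cj y (P : Subgroup G)) ≤ (P : Subgroup G) := by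
          calc cj y⁻¹ ((P : Subgroup G) ⊓ cj y (P : Subgroup G)) ≤ cj y⁻¹ (cj y (P : Subgroup G)) :=
                cj_mono _ inf_le_right
            _ = (P : Subgroup G) := cj_inv_cj y _
        have h1 : PReach (AlpStep P) (T : Set G) y :=
          (lemA _ inf_le_left hlt' y hDy).mono (show (T : Set G) ⊆ _ from hTD)
        obtain ⟨s, hs, hsz⟩ := hz
        have hsz' : z = y * s * y⁻¹ := by
          rw [← hsz]; simp [MulAut.conj_apply]
        have hsN : s ∈ Subgroup.normalizer (((P : Subgroup G) : Subgroup G) : Set G) :=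
          Subgroup.le_normalizer (hS₀P hs)
        have h2 : PReach (AlpStep P) (T : Set G) s :=
          (PReach.single (alpStep_self P s) hsN).mono (show (T : Set G) ⊆ _ from htame.1)
        have h3 : PReach (AlpStep P) (T : Set G) y⁻¹ := by
          have := h1.symm hinv
          rwa [cjs_eq_of_mem_normalizer hy] at this
        have hsNT : s ∈ N := hS₀N hs
        have h4 : PReach (AlpStep P) (T : Set G) (y * (s * y⁻¹)) := by
          apply h1.trans
          rw [cjs_eq_of_mem_normalizer hy]
          apply h2.trans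
          rw [cjs_eq_of_mem_normalizer hsNT]
          exact h3
        have e : y * (s * y⁻¹) = z := by rw [hsz']; group
        rwa [e] at h4
    -- the subgroup generated by the Sylow subgroups of `N`
    set K := Subgroup.closure (⋃ y ∈ N, ((cj y S₀ : Subgroup G) : Set G)) with hK
    have hKprop : ∀ k ∈ K, k ∈ N ∧ PReach (AlpStep P) (T : Set G) k := by
      intro k hk
      induction hk using Subgroup.closure_induction with
      | mem z hz =>
        obtain ⟨y, hy, hz'⟩ := Set.mem_iUnion₂.mp hz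
        exact hgen y hy z hz'
      | one => exact ⟨one_mem _, PReach.one _⟩
      | mul a b _ _ ha hb =>
        refine ⟨mul_mem ha.1 hb.1, ha.2.trans ?_⟩
        rw [cjs_eq_of_mem_normalizer ha.1]
        exact hb.2
      | inv a _ ha =>
        refine ⟨inv_mem ha.1, ?_⟩
        have := ha.2.symm hinv
        rwa [cjs_eq_of_mem_normalizer ha.1] at this
    have hcjK : ∀ y ∈ N, cj y S₀ ≤ K := by
      intro y hy z hz
      exact Subgroup.subset_closure (Set.mem_iUnion₂.mpr ⟨y, hy, hz⟩)
    have hS₀K : S₀ ≤ K := by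
      have := hcjK 1 (one_mem _)
      rwa [cj_self_of_mem (one_mem S₀)] at this
    have hKN : K ≤ N := fun k hk => (hKprop k hk).1
    have hidxK : ¬ p ∣ S₀.relIndex K := by
      intro hdvd
      apply hS₀idx
      rw [← Subgroup.relIndex_mul_relIndex S₀ K N hS₀K hKN]
      exact Dvd.dvd.mul_right hdvd _
    have hxS₀p : IsPGroup p ↥(cj x S₀) := by
      rw [cj_def]; exact hS₀p.map _
    obtain ⟨k, hkK, hk⟩ := exists_conj_mem_of_relIndex S₀ K (cj x S₀) hS₀p hidxK (hcjK x hxN) hxS₀p
    have hnN₀ : k * x ∈ Subgroup.normalizer ((S₀ : Subgroup G) : Set G) := by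
      apply mem_normalizer_of_cj_eq
      apply cj_eq_of_le
      rw [← cj_mul]
      rintro _ ⟨q, hq, rfl⟩
      simpa [MulAut.conj_apply] using hk q hq
    have hn : PReach (AlpStep P) (T : Set G) (k * x) := by
      have h1 : cj (k * x)⁻¹ S₀ ≤ (P : Subgroup G) := by
        rw [cj_eq_of_mem_normalizer (inv_mem hnN₀)]
        exact hS₀P
      exact (lemA S₀ hS₀P hlt (k * x) h1).mono (show (T : Set G) ⊆ _ from hTS₀)
    obtain ⟨hkN, hkR⟩ := hKprop k⁻¹ (inv_mem hkK)
    have h5 : PReach (AlpStep P) (T : Set G) (k⁻¹ * (k * x)) := by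
      apply hkR.trans
      rw [cjs_eq_of_mem_normalizer hkN]
      exact hn
    have e : k⁻¹ * (k * x) = x := by group
    rwa [e] at h5

/-- Alperin's fusion theorem -/
theorem alperin_original (A : Set G) (g : G) (hA : A ⊆ ((P : Subgroup G) : Set G))
    (hAg : cjs g A ⊆ ((P : Subgroup G) : Set G)) : PReach (AlpStep P) A g := by
  have h1 : Subgroup.closure A ≤ (P : Subgroup G) := (Subgroup.closure_le _).mpr hA
  have h2 : cj g⁻¹ (Subgroup.closure A) ≤ (P : Subgroup G) := by
    rw [cj_def, MonoidHom.map_closure, Subgroup.closure_le]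
    rintro _ ⟨a, ha, rfl⟩
    apply hAg
    exact ⟨a, ha, by simp [MulAut.conj_apply]⟩
  obtain ⟨l, hl, hprod⟩ := reach_tame P _ h1 g h2
  rw [← hprod]
  apply PReach.mono (Subgroup.subset_closure : A ⊆ (Subgroup.closure A : Set G))
  apply preach_of_chain (tameFamily P) l _ _ hl
  intro q hq
  exact alp_of_tame P _ q.1 (hl.mem _ q hq).1 rfl q.2 (hl.mem _ q hq).2

end alperinP

end Cfsg.Agent.Lib.Helper12
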