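/-
helper12: abstract part of a packaged corollary of Dickson's theorem (Helper13 `Dk`): every group
in Dickson's list over a field of order `q` is (B') a group with a normal cyclic subgroup of
order at least 3, or (C') a group all of whose elements have order at most 5, or it is
`PSL₂(K)` / `PGL₂(K)` for a subfield `K`.
-/
import Mathlib
import Cfsg.Agent.Lib.Helper13.DkMax

set_option autoImplicit false

namespace Cfsg.Agent.Lib.Helper12.DkP

open Subgroup Matrix
open scoped commutatorElement

/-- `Y` has a normal cyclic subgroup of order at least 3, or all its elements have order at most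
5. -/
def Tri (p : ℕ) (Y : Type*) [Group Y] : Prop :=
  (∃ y : Y, y ^ 2 ≠ 1 ∧ ∀ x : Y, x * y * x⁻¹ ∈ zpowers y) ∨
  (∀ y : Y, ∃ m : ℕ, 1 ≤ m ∧ m ≤ 5 ∧ m ≠ p ∧ y ^ m = 1)

theorem Tri.of_equiv {p : ℕ} {Y Z : Type*} [Group Y] [Group Z] (e : Y ≃* Z) (h : Tri p Z) :
    Tri p Y := by
  rcases h with ⟨z, hz, hn⟩ | h
  · left
    refine ⟨e.symm z, ?_, fun x => ?_⟩
    · intro h2
      apply hz
      have := congrArg e h2
      simpa using this
    · obtain ⟨k, hk⟩ := hn (e x)
      refine ⟨k, ?_⟩
      apply e.injective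
      simp only [map_zpow, map_mul, map_inv, MulEquiv.apply_symm_apply]
      exact hk
  · right
    intro y
    obtain ⟨m, h1, h5, hmp, hm⟩ := h (e y)
    refine ⟨m, h1, h5, hmp, ?_⟩
    apply e.injective
    rw [map_pow, hm, map_one]

theorem tri_of_comm {p : ℕ} (hp5 : 5 ≤ p) {Y : Type*} [Group Y] (hc : ∀ a b : Y, a * b = b * a) :
    Tri p Y := by
  by_cases h : ∀ y : Y, y ^ 2 = 1
  · right
    exact fun y => ⟨2, by norm_num, by norm_num, by omega, h y⟩
  · left
    push Not at h
    obtain ⟨y, hy⟩ := h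
    refine ⟨y, hy, fun x => ?_⟩
    rw [hc x y, mul_inv_cancel_right]
    exact mem_zpowers y

theorem tri_of_isCyclic {p : ℕ} (hp5 : 5 ≤ p) {Y : Type*} [Group Y] [IsCyclic Y] : Tri p Y := by
  apply tri_of_comm hp5
  intro a b
  obtain ⟨g, hg⟩ := IsCyclic.exists_generator (α := Y)
  obtain ⟨m, rfl⟩ := hg a
  obtain ⟨n, rfl⟩ := hg b
  exact (Commute.zpow_zpow_self g m n).eq

theorem tri_dihedral {p : ℕ} (hp5 : 5 ≤ p) (k : ℕ) : Tri p (DihedralGroup k) := by
  by_cases h : (DihedralGroup.r (1 : ZMod k)) ^ 2 = 1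
  · right
    have h2 : (1 + 1 : ZMod k) = 0 := by
      rw [pow_two, DihedralGroup.r_mul_r, ← DihedralGroup.r_zero] at h
      exact DihedralGroup.r.inj h
    intro y
    refine ⟨2, by norm_num, by norm_num, by omega, ?_⟩
    cases y with
    | r i =>
      rw [pow_two, DihedralGroup.r_mul_r, ← DihedralGroup.r_zero]
      congr 1
      have : i + i = i * (1 + 1) := by ring
      rw [this, h2, mul_zero]
    | sr i =>
      rw [pow_two, DihedralGroup.sr_mul_self]
  · left
    refine ⟨DihedralGroup.r 1, h, fun x => ?_⟩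
    cases x with
    | r i =>
      have : DihedralGroup.r i * DihedralGroup.r (1 : ZMod k) * (DihedralGroup.r i)⁻¹ =
          DihedralGroup.r 1 := by
        rw [DihedralGroup.inv_r, DihedralGroup.r_mul_r, DihedralGroup.r_mul_r]
        congr 1
        ring
      rw [this]
      exact mem_zpowers _
    | sr i =>
      have : DihedralGroup.sr i * DihedralGroup.r (1 : ZMod k) * (DihedralGroup.sr i)⁻¹ =
          (DihedralGroup.r 1)⁻¹ := by
        rw [DihedralGroup.inv_sr, DihedralGroup.sr_mul_r, DihedralGroup.sr_mul_sr,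
          DihedralGroup.inv_r]
        congr 1
        ring
      rw [this]
      exact inv_mem (mem_zpowers _)

theorem tri_of_orderOf_le {p : ℕ} {Y : Type*} [Group Y] [Finite Y]
    (h : ∀ y : Y, orderOf y ≤ 5 ∧ orderOf y ≠ p) : Tri p Y := by
  right
  intro y
  exact ⟨orderOf y, orderOf_pos y, (h y).1, (h y).2, pow_orderOf_eq_one y⟩

theorem tri_of_commutator {Y : Type*} [Group Y] [Finite Y] (p : ℕ) [hp : Fact p.Prime]
    (hp5 : 5 ≤ p) (hc : IsPGroup p (commutator Y)) (hnd : ¬ p ^ 2 ∣ Nat.card Y) : Tri p Y := by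
  obtain ⟨n, hn⟩ := IsPGroup.iff_card.mp hc
  have hdvd : p ^ n ∣ Nat.card Y := hn ▸ Subgroup.card_subgroup_dvd_card (commutator Y)
  have hn1 : n ≤ 1 := by
    by_contra hcon
    push Not at hcon
    exact hnd ((pow_dvd_pow p hcon).trans hdvd)
  interval_cases n
  · -- commutator trivial
    apply tri_of_comm hp5
    intro a b
    have h1 : commutator Y = ⊥ := by
      apply Subgroup.eq_bot_of_card_eq
      rw [hn, pow_zero]
    have h2 : ⁅a, b⁆ ∈ commutator Y := by
      rw [_root_.commutator_def]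
      exact Subgroup.commutator_mem_commutator (mem_top _) (mem_top _)
    rw [h1, mem_bot] at h2
    exact (commutatorElement_eq_one_iff_commute.mp h2).eq
  · rw [pow_one] at hn
    have hcyc : IsCyclic (commutator Y) := isCyclic_of_prime_card hn
    obtain ⟨g, hg⟩ := hcyc.exists_generator
    left
    have hord : orderOf (g : Y) = p := by
      rw [Subgroup.orderOf_coe, orderOf_eq_card_of_forall_mem_zpowers hg, hn]
    refine ⟨(g : Y), ?_, fun x => ?_⟩
    · intro h2
      have := orderOf_dvd_of_pow_eq_one h2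
      rw [hord] at this
      have := Nat.le_of_dvd (by norm_num) this
      omega
    · have hnorm : (commutator Y).Normal := inferInstance
      have hmem : x * (g : Y) * x⁻¹ ∈ commutator Y := hnorm.conj_mem _ g.2 x
      obtain ⟨k, hk⟩ := hg ⟨_, hmem⟩
      refine ⟨k, ?_⟩
      have := congrArg Subtype.val hk
      simpa using this

/-- Every group satisfying Dickson's conclusion over a field of order `q`, finite and of
order not divisible by `p²`, has a normal cyclic subgroup of order at least 3, or exponent-type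
at most 5 (avoiding `p`), or is `PSL₂(K)` or `PGL₂(K)`, or `p = 5` and it has order 60. -/
theorem tri_or_field {E : Type*} [Field E] [Fintype E] {q p : ℕ} [Fact p.Prime] (hp5 : 5 ≤ p)
    {Y : Type*} [Group Y] [Finite Y] (hnd : ¬ p ^ 2 ∣ Nat.card Y)
    (h : Cfsg.Agent.Lib.Helper13.Dk.Concl' E q p Y) :
    Tri p Y ∨ (∃ (K : Type) (_ : Field K) (_ : Fintype K) (m : ℕ), Fintype.card K ^ m = q ∧
      (Nonempty (Y ≃* Matrix.ProjectiveSpecialLinearGroup (Fin 2) K) ∨
        Nonempty (Y ≃* Matrix.ProjGenLinGroup (Fin 2) K))) ∨ (p = 5 ∧ Nat.card Y = 60) := by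
  rcases h with ⟨k, -, h | ⟨⟨e⟩⟩⟩ | h | ⟨⟨e⟩⟩ | ⟨⟨e⟩⟩ | ⟨⟨e⟩⟩ | h
  · left
    have := h.1
    exact tri_of_isCyclic hp5
  · left
    exact Tri.of_equiv e (tri_dihedral hp5 k)
  · left
    exact tri_of_commutator p hp5 h.2.2 hnd
  · left
    apply Tri.of_equiv e
    exact tri_of_orderOf_le fun y =>
      ⟨(Cfsg.Agent.Lib.Helper13.Dk.a4_orderOf_le y).trans (by norm_num),
        by have := Cfsg.Agent.Lib.Helper13.Dk.a4_orderOf_le y; omega⟩
  · left
    apply Tri.of_equiv e
    exact tri_of_orderOf_le fun y =>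
      ⟨(Cfsg.Agent.Lib.Helper13.Dk.s4_orderOf_le y).trans (by norm_num),
        by have := Cfsg.Agent.Lib.Helper13.Dk.s4_orderOf_le y; omega⟩
  · by_cases hp : p = 5
    · right; right
      refine ⟨hp, ?_⟩
      rw [Nat.card_congr e.toEquiv, Nat.card_eq_fintype_card]
      decide
    · left
      apply Tri.of_equiv e
      exact tri_of_orderOf_le fun y =>
        ⟨Cfsg.Agent.Lib.Helper13.Dk.a5_orderOf_le y,
          by have := Cfsg.Agent.Lib.Helper13.Dk.a5_orderOf_le y; omega⟩
  · right; left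
    exact h

end Cfsg.Agent.Lib.Helper12.DkP
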