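/-
helper12: the lift of a subgroup `X ≤ GL₂(F)` to `SL₂(E)` for a field extension `E / F` in which
every element of `F` is a square (`PGL₂(F) ↪ PSL₂(E)`), with the basic transfer lemmas.
-/
import Mathlib
import Cfsg.Agent.Lib.Helper12.DkPTri
import Cfsg.Agent.Lib.Helper2.SLGen

set_option autoImplicit false

namespace Cfsg.Agent.Lib.Helper12.DkP

open Subgroup Matrix

section lift

variable {F : Type*} [Field F] {E : Type*} [Field E] (ι : F →+* E)

theorem map_ne_zero_of_det {A : Matrix (Fin 2) (Fin 2) F} (hA : A.det ≠ 0) :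
    A.map ι ≠ 0 := by
  intro h
  apply hA
  have h1 : (A.map ι).det = 0 := by rw [h, Matrix.det_zero]
  have h2 : ι A.det = (A.map ι).det := by
    rw [RingHom.map_det]; rfl
  rw [← h2] at h1
  exact (map_eq_zero ι).mp h1

theorem map_injective' : Function.Injective (fun A : Matrix (Fin 2) (Fin 2) F => A.map ι) :=
  Matrix.map_injective ι.injective

/-- proportional images: the factor lies in the small field -/
theorem mem_range_of_smul {A B : Matrix (Fin 2) (Fin 2) F} {c : E} (hB : B ≠ 0)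
    (h : A.map ι = c • B.map ι) : ∃ c' : F, ι c' = c ∧ A = c' • B := by
  have : ∃ i j, B i j ≠ 0 := by
    by_contra hcon
    push Not at hcon
    apply hB
    ext i j
    exact hcon i j
  obtain ⟨i, j, hij⟩ := this
  have h1 := congrFun (congrFun h i) j
  simp only [Matrix.map_apply, Matrix.smul_apply, smul_eq_mul] at h1
  have hne : ι (B i j) ≠ 0 := (map_ne_zero ι).mpr hij
  refine ⟨A i j / B i j, ?_, ?_⟩
  · rw [map_div₀, h1]
    field_simp
  · apply map_injective' ι
    change A.map ι = ((A i j / B i j) • B).map ι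
    rw [Matrix.map_smul' ι _ _ (map_mul ι), h, map_div₀, h1]
    congr 1
    field_simp

/-- The full preimage in `SL₂(E)` of the projective image of `X ≤ GL₂(F)`. -/
def liftSL (X : Subgroup (GL (Fin 2) F)) : Subgroup (SpecialLinearGroup (Fin 2) E) where
  carrier := {h : SpecialLinearGroup (Fin 2) E | ∃ x ∈ X, ∃ c : E,
    (h : Matrix (Fin 2) (Fin 2) E) = c • (x : Matrix (Fin 2) (Fin 2) F).map ι}
  one_mem' := by
    refine ⟨1, X.one_mem, 1, ?_⟩
    rw [one_smul, Matrix.SpecialLinearGroup.coe_one, Units.val_one]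
    exact (Matrix.map_one ι (map_zero ι) (map_one ι)).symm
  mul_mem' := by
    rintro a b ⟨x, hx, c, ha⟩ ⟨y, hy, d, hb⟩
    refine ⟨x * y, X.mul_mem hx hy, c * d, ?_⟩
    rw [Matrix.SpecialLinearGroup.coe_mul, ha, hb, Units.val_mul, Matrix.map_mul, smul_mul_smul_comm]
  inv_mem' := by
    rintro a ⟨x, hx, c, ha⟩
    have hc : c ≠ 0 := by
      intro h0
      have hdet := a.2
      rw [ha, h0, zero_smul, Matrix.det_zero] at hdet
      exact zero_ne_one hdet
    refine ⟨x⁻¹, X.inv_mem hx, c⁻¹, ?_⟩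
    set B : Matrix (Fin 2) (Fin 2) E := c⁻¹ • ((x⁻¹ : GL (Fin 2) F) : Matrix (Fin 2) (Fin 2) F).map ι
      with hBdef
    have hB : B * (a : Matrix (Fin 2) (Fin 2) E) = 1 := by
      rw [hBdef, ha, smul_mul_smul_comm, inv_mul_cancel₀ hc, one_smul, ← Matrix.map_mul,
        ← Units.val_mul, inv_mul_cancel, Units.val_one]
      exact Matrix.map_one ι (map_zero ι) (map_one ι)
    calc ((a⁻¹ : SpecialLinearGroup (Fin 2) E) : Matrix (Fin 2) (Fin 2) E)
        = 1 * ((a⁻¹ : SpecialLinearGroup (Fin 2) E) : Matrix (Fin 2) (Fin 2) E) :=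
          (one_mul _).symm
      _ = B * ((a : Matrix (Fin 2) (Fin 2) E) *
            ((a⁻¹ : SpecialLinearGroup (Fin 2) E) : Matrix (Fin 2) (Fin 2) E)) := by
          rw [← hB, mul_assoc]
      _ = B := by
          rw [← Matrix.SpecialLinearGroup.coe_mul, mul_inv_cancel, Matrix.SpecialLinearGroup.coe_one, mul_one]

theorem mem_liftSL {X : Subgroup (GL (Fin 2) F)} {h : SpecialLinearGroup (Fin 2) E} :
    h ∈ liftSL ι X ↔ ∃ x ∈ X, ∃ c : E,
      (h : Matrix (Fin 2) (Fin 2) E) = c • (x : Matrix (Fin 2) (Fin 2) F).map ι := Iff.rfl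

theorem coe_ne_zero (h : SpecialLinearGroup (Fin 2) E) : (h : Matrix (Fin 2) (Fin 2) E) ≠ 0 := by
  intro h0
  have hdet := h.2
  rw [h0, Matrix.det_zero] at hdet
  exact zero_ne_one hdet

theorem scalar_ne_zero {h : SpecialLinearGroup (Fin 2) E} {c : E} {M : Matrix (Fin 2) (Fin 2) E}
    (hh : (h : Matrix (Fin 2) (Fin 2) E) = c • M) : c ≠ 0 := by
  intro h0
  apply coe_ne_zero h
  rw [hh, h0, zero_smul]

/-- the coefficient of a lift squares into the small field -/
theorem sq_mem_range {h : SpecialLinearGroup (Fin 2) E} {c : E} {x : GL (Fin 2) F}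
    (hh : (h : Matrix (Fin 2) (Fin 2) E) = c • (x : Matrix (Fin 2) (Fin 2) F).map ι) :
    ∃ a : F, ι a = c ^ 2 := by
  have hdet := h.2
  rw [hh, Matrix.det_smul, Fintype.card_fin] at hdet
  have h2 : ((x : Matrix (Fin 2) (Fin 2) F).map ι).det = ι (x : Matrix (Fin 2) (Fin 2) F).det := by
    rw [RingHom.map_det]; rfl
  rw [h2] at hdet
  have hd : (x : Matrix (Fin 2) (Fin 2) F).det ≠ 0 := by
    have := (Matrix.isUnits_det_units x).ne_zero
    exact this
  refine ⟨((x : Matrix (Fin 2) (Fin 2) F).det)⁻¹, ?_⟩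
  rw [map_inv₀]
  have hne : ι (x : Matrix (Fin 2) (Fin 2) F).det ≠ 0 := (map_ne_zero ι).mpr hd
  field_simp
  rw [mul_comm]
  exact hdet.symm

/-- the inverse of a lift -/
theorem coe_inv_of_eq {h : SpecialLinearGroup (Fin 2) E} {c : E} {x : GL (Fin 2) F}
    (hh : (h : Matrix (Fin 2) (Fin 2) E) = c • (x : Matrix (Fin 2) (Fin 2) F).map ι) :
    ((h⁻¹ : SpecialLinearGroup (Fin 2) E) : Matrix (Fin 2) (Fin 2) E) =
      c⁻¹ • ((x⁻¹ : GL (Fin 2) F) : Matrix (Fin 2) (Fin 2) F).map ι := by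
  have hc : c ≠ 0 := scalar_ne_zero hh
  set B : Matrix (Fin 2) (Fin 2) E := c⁻¹ • ((x⁻¹ : GL (Fin 2) F) : Matrix (Fin 2) (Fin 2) F).map ι
    with hBdef
  have hB : B * (h : Matrix (Fin 2) (Fin 2) E) = 1 := by
    rw [hBdef, hh, smul_mul_smul_comm, inv_mul_cancel₀ hc, one_smul, ← Matrix.map_mul,
      ← Units.val_mul, inv_mul_cancel, Units.val_one]
    exact Matrix.map_one ι (map_zero ι) (map_one ι)
  calc ((h⁻¹ : SpecialLinearGroup (Fin 2) E) : Matrix (Fin 2) (Fin 2) E)
      = 1 * ((h⁻¹ : SpecialLinearGroup (Fin 2) E) : Matrix (Fin 2) (Fin 2) E) :=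
        (one_mul _).symm
    _ = B * ((h : Matrix (Fin 2) (Fin 2) E) *
          ((h⁻¹ : SpecialLinearGroup (Fin 2) E) : Matrix (Fin 2) (Fin 2) E)) := by
        rw [← hB, mul_assoc]
    _ = B := by
        rw [← Matrix.SpecialLinearGroup.coe_mul, mul_inv_cancel, Matrix.SpecialLinearGroup.coe_one, mul_one]

/-- powers of a lift -/
theorem coe_pow_of_eq {h : SpecialLinearGroup (Fin 2) E} {c : E} {x : GL (Fin 2) F}
    (hh : (h : Matrix (Fin 2) (Fin 2) E) = c • (x : Matrix (Fin 2) (Fin 2) F).map ι) (k : ℕ) :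
    ((h ^ k : SpecialLinearGroup (Fin 2) E) : Matrix (Fin 2) (Fin 2) E) =
      c ^ k • ((x ^ k : GL (Fin 2) F) : Matrix (Fin 2) (Fin 2) F).map ι := by
  induction k with
  | zero =>
    rw [pow_zero, pow_zero, pow_zero, one_smul, Matrix.SpecialLinearGroup.coe_one, Units.val_one]
    exact (Matrix.map_one ι (map_zero ι) (map_one ι)).symm
  | succ k ih =>
    rw [pow_succ, pow_succ, pow_succ, Matrix.SpecialLinearGroup.coe_mul, ih, hh, Units.val_mul,
      Matrix.map_mul, smul_mul_smul_comm]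

/-- every element of `X` has a lift, when every element of `F` becomes a square in `E` -/
theorem exists_lift (hsq : ∀ a : F, ∃ e : E, e ^ 2 = ι a) {X : Subgroup (GL (Fin 2) F)}
    {x : GL (Fin 2) F} (hx : x ∈ X) :
    ∃ h ∈ liftSL ι X, ∃ c : E, c ≠ 0 ∧
      (h : Matrix (Fin 2) (Fin 2) E) = c • (x : Matrix (Fin 2) (Fin 2) F).map ι := by
  have hd : (x : Matrix (Fin 2) (Fin 2) F).det ≠ 0 := (Matrix.isUnits_det_units x).ne_zero
  obtain ⟨e, he⟩ := hsq (x : Matrix (Fin 2) (Fin 2) F).det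
  have hne : ι (x : Matrix (Fin 2) (Fin 2) F).det ≠ 0 := (map_ne_zero ι).mpr hd
  have he0 : e ≠ 0 := by
    intro h0
    rw [h0] at he
    apply hne
    rw [← he]
    ring
  have hdet : (e⁻¹ • (x : Matrix (Fin 2) (Fin 2) F).map ι).det = 1 := by
    have h2 : ((x : Matrix (Fin 2) (Fin 2) F).map ι).det =
        ι (x : Matrix (Fin 2) (Fin 2) F).det := by
      rw [RingHom.map_det]; rfl
    rw [Matrix.det_smul, Fintype.card_fin, h2, ← he]
    field_simp
  refine ⟨⟨_, hdet⟩, ⟨x, hx, e⁻¹, rfl⟩, e⁻¹, inv_ne_zero he0, rfl⟩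

/-- scalar elements of `SL₂` are central -/
theorem mem_center_of_scalar {h : SpecialLinearGroup (Fin 2) E} {r : E}
    (hr : (h : Matrix (Fin 2) (Fin 2) E) = r • 1) : h ∈ center (SpecialLinearGroup (Fin 2) E) := by
  rw [Matrix.SpecialLinearGroup.mem_center_iff]
  refine ⟨r, ?_, ?_⟩
  · have hdet := h.2
    rw [hr, Matrix.det_smul, Matrix.det_one, mul_one] at hdet
    exact hdet
  · rw [hr, Matrix.scalar_apply, Matrix.smul_one_eq_diagonal]

theorem scalar_of_mem_center {h : SpecialLinearGroup (Fin 2) E}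
    (hh : h ∈ center (SpecialLinearGroup (Fin 2) E)) :
    ∃ r : E, (h : Matrix (Fin 2) (Fin 2) E) = r • 1 := by
  rw [Matrix.SpecialLinearGroup.mem_center_iff] at hh
  obtain ⟨r, -, hr⟩ := hh
  refine ⟨r, ?_⟩
  rw [← hr, Matrix.scalar_apply, Matrix.smul_one_eq_diagonal]

end lift

end Cfsg.Agent.Lib.Helper12.DkP
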