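/-
helper12: the lift `liftSL ι X ≤ SL₂(E)` of `X ≤ GL₂(F)` meets `SL₂(F)` in a subgroup of index at
most two, for a "quadratic Frobenius" extension `E / F`; `SL₂(F)` has no subgroup of index two in
odd characteristic.
-/
import Mathlib
import Cfsg.Agent.Lib.Helper12.DkPLift

set_option autoImplicit false

namespace Cfsg.Agent.Lib.Helper12.DkP

open Subgroup Matrix

section count

variable {F : Type*} [Field F] {E : Type*} [Field E] (ι : F →+* E) (p : ℕ)

/-- The hypotheses on the extension `E / F`: `F` is the fixed field of `x ↦ x ^ p` and every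
element of `F` is a square in `E`. -/
structure QuadExt : Prop where
  fix : ∀ a : F, (ι a) ^ p = ι a
  mem : ∀ e : E, e ^ p = e → ∃ a : F, ι a = e
  sq : ∀ a : F, ∃ e : E, e ^ 2 = ι a

variable {ι p}

theorem QuadExt.mul_mem (hQ : QuadExt ι p) {c c' : E} (hc : ∃ a : F, ι a = c ^ 2)
    (hc' : ∃ a : F, ι a = c' ^ 2) (hn : ¬ ∃ a : F, ι a = c) (hn' : ¬ ∃ a : F, ι a = c') :
    ∃ b : F, ι b = c * c' := by
  have key : ∀ d : E, (∃ a : F, ι a = d ^ 2) → (¬ ∃ a : F, ι a = d) → d ^ p = -d := by
    intro d ⟨a, ha⟩ hd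
    have h1 : (d ^ p) ^ 2 = d ^ 2 := by
      rw [← pow_mul, mul_comm, pow_mul, ← ha, hQ.fix]
    have h2 : (d ^ p - d) * (d ^ p + d) = 0 := by linear_combination h1
    rcases mul_eq_zero.mp h2 with h | h
    · exact absurd (hQ.mem d (sub_eq_zero.mp h)) hd
    · exact eq_neg_of_add_eq_zero_left h
  apply hQ.mem
  rw [mul_pow, key c hc hn, key c' hc' hn', neg_mul_neg]

/-- a lift with coefficient in `F` lies in the image of `SL₂(F)` -/
theorem mem_range_map {h : SpecialLinearGroup (Fin 2) E} {c' : F} {x : GL (Fin 2) F}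
    (hh : (h : Matrix (Fin 2) (Fin 2) E) = ι c' • (x : Matrix (Fin 2) (Fin 2) F).map ι) :
    h ∈ (Matrix.SpecialLinearGroup.map (n := Fin 2) ι).range := by
  have hmap : (c' • (x : Matrix (Fin 2) (Fin 2) F)).map ι =
      ι c' • (x : Matrix (Fin 2) (Fin 2) F).map ι := Matrix.map_smul' ι _ _ (map_mul ι)
  have hdet : (c' • (x : Matrix (Fin 2) (Fin 2) F)).det = 1 := by
    apply ι.injective
    have h2 : ι (c' • (x : Matrix (Fin 2) (Fin 2) F)).det =
        ((c' • (x : Matrix (Fin 2) (Fin 2) F)).map ι).det := by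
      rw [RingHom.map_det]; rfl
    rw [h2, hmap, ← hh, map_one]
    exact h.2
  refine ⟨(⟨_, hdet⟩ : SpecialLinearGroup (Fin 2) F), ?_⟩
  apply Subtype.ext
  change (c' • (x : Matrix (Fin 2) (Fin 2) F)).map ι = (h : Matrix (Fin 2) (Fin 2) E)
  rw [hh, hmap]

theorem map_SL_injective :
    Function.Injective (Matrix.SpecialLinearGroup.map (n := Fin 2) ι) := by
  intro a b hab
  apply Subtype.ext
  have h := congrArg Subtype.val hab
  rw [Matrix.SpecialLinearGroup.map_apply_coe, Matrix.SpecialLinearGroup.map_apply_coe,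
    RingHom.mapMatrix_apply, RingHom.mapMatrix_apply] at h
  exact map_injective' ι h

/-- The part of the lift with entries in `F`. -/
def liftSL₀ (ι : F →+* E) (X : Subgroup (GL (Fin 2) F)) : Subgroup (SpecialLinearGroup (Fin 2) F) :=
  (liftSL ι X).comap (Matrix.SpecialLinearGroup.map (n := Fin 2) ι)

theorem mem_liftSL₀ {X : Subgroup (GL (Fin 2) F)} {s : SpecialLinearGroup (Fin 2) F}
    (hs : s ∈ liftSL₀ ι X) : ∃ x ∈ X, ∃ c : F, c ≠ 0 ∧
      (x : Matrix (Fin 2) (Fin 2) F) = c • (s : Matrix (Fin 2) (Fin 2) F) := by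
  obtain ⟨x, hx, c, hc⟩ := hs
  rw [Matrix.SpecialLinearGroup.map_apply_coe, RingHom.mapMatrix_apply] at hc
  have hx0 : (x : Matrix (Fin 2) (Fin 2) F) ≠ 0 := by
    intro h0
    have := (Matrix.isUnits_det_units x).ne_zero
    rw [h0, Matrix.det_zero] at this
    exact this rfl
  obtain ⟨c', hc', heq⟩ := mem_range_of_smul ι hx0 hc
  have hc0 : c' ≠ 0 := by
    intro h0
    rw [h0, zero_smul] at heq
    have hdet := s.2
    rw [heq, Matrix.det_zero] at hdet
    exact zero_ne_one hdet
  refine ⟨x, hx, c'⁻¹, inv_ne_zero hc0, ?_⟩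
  rw [heq, smul_smul, inv_mul_cancel₀ hc0, one_smul]

theorem card_liftSL_dvd [Finite E] (hQ : QuadExt ι p) (X : Subgroup (GL (Fin 2) F)) :
    Nat.card (liftSL ι X) ∣ 2 * Nat.card (liftSL₀ ι X) := by
  set j := Matrix.SpecialLinearGroup.map (n := Fin 2) ι with hj
  set L := liftSL ι X with hL
  set L₁ := L ⊓ j.range with hL₁
  have hcard1 : Nat.card L₁ = Nat.card (liftSL₀ ι X) := by
    have : L₁ = (liftSL₀ ι X).map j := by
      rw [hL₁, inf_comm]
      exact (Subgroup.map_comap_eq j L).symm
    rw [this]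
    exact Subgroup.card_map_of_injective map_SL_injective
  have hle : L₁ ≤ L := inf_le_left
  have hcard2 : Nat.card (L₁.subgroupOf L) = Nat.card L₁ :=
    Nat.card_congr (Subgroup.subgroupOfEquivOfLe hle).toEquiv
  by_cases hall : L ≤ j.range
  · have : L₁ = L := inf_eq_left.mpr hall
    rw [← hcard1, this]
    exact Dvd.intro_left 2 rfl
  · obtain ⟨h₀, hh₀, hn₀⟩ := SetLike.not_le_iff_exists.mp hall
    have hidx : (L₁.subgroupOf L).index = 2 := by
      rw [Subgroup.index_eq_two_iff]
      refine ⟨⟨h₀, hh₀⟩, fun b => ?_⟩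
      by_cases hb : (b : SpecialLinearGroup (Fin 2) E) ∈ j.range
      · right
        refine ⟨?_, ?_⟩
        · rw [Subgroup.mem_subgroupOf]
          exact ⟨b.2, hb⟩
        · intro hcon
          rw [Subgroup.mem_subgroupOf] at hcon
          apply hn₀
          have h1 := j.range.mul_mem (j.range.inv_mem hb) hcon.2
          simpa using h1
      · left
        refine ⟨?_, ?_⟩
        · rw [Subgroup.mem_subgroupOf]
          refine ⟨L.mul_mem b.2 hh₀, ?_⟩
          obtain ⟨x, hx, c, hc⟩ := b.2
          obtain ⟨x₀, hx₀, c₀, hc₀⟩ := hh₀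
          have hnc : ¬ ∃ a : F, ι a = c := by
            rintro ⟨a, rfl⟩
            exact hb (mem_range_map hc)
          have hnc₀ : ¬ ∃ a : F, ι a = c₀ := by
            rintro ⟨a, rfl⟩
            exact hn₀ (mem_range_map hc₀)
          obtain ⟨a, ha⟩ := hQ.mul_mem (sq_mem_range ι hc) (sq_mem_range ι hc₀) hnc hnc₀
          have hprod : (((b : SpecialLinearGroup (Fin 2) E) * h₀ : SpecialLinearGroup (Fin 2) E) :
              Matrix (Fin 2) (Fin 2) E) =
              ι a • ((x * x₀ : GL (Fin 2) F) : Matrix (Fin 2) (Fin 2) F).map ι := by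
            rw [Matrix.SpecialLinearGroup.coe_mul, hc, hc₀, Units.val_mul, Matrix.map_mul,
              smul_mul_smul_comm, ha]
          exact mem_range_map hprod
        · intro hcon
          rw [Subgroup.mem_subgroupOf] at hcon
          exact hb hcon.2
    have h1 := Subgroup.card_mul_index (L₁.subgroupOf L)
    rw [hidx, hcard2, hcard1] at h1
    rw [← h1, mul_comm]

end count

section index

variable {F : Type*} [Field F]

/-- `SL₂(F)` has no subgroup of index two when `2 ≠ 0`. -/
theorem index_ne_two (h2 : (2 : F) ≠ 0) (H : Subgroup (SpecialLinearGroup (Fin 2) F)) :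
    H.index ≠ 2 := by
  intro hidx
  have hsq := Subgroup.sq_mem_of_index_two hidx
  have htop : H = ⊤ := by
    rw [eq_top_iff]
    intro A _
    refine Cfsg.Agent.Lib.Helper2.sl_transvection_induction (fun A => A ∈ H) ?_ ?_ A
    · intro i j hij c
      have : Matrix.SpecialLinearGroup.transvection hij c =
          (Matrix.SpecialLinearGroup.transvection hij (c / 2)) ^ 2 := by
        apply Subtype.ext
        rw [Matrix.SpecialLinearGroup.coe_pow, pow_two]
        change Matrix.transvection i j c = Matrix.transvection i j (c / 2) *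
          Matrix.transvection i j (c / 2)
        rw [Matrix.transvection_mul_transvection_same i j hij]
        congr 1
        field_simp
        ring
      rw [this]
      exact hsq _
    · intro A B hA hB
      exact H.mul_mem hA hB
  rw [htop, Subgroup.index_top] at hidx
  norm_num at hidx

theorem eq_top_of_two_mul_card_ge [Finite F] (h2 : (2 : F) ≠ 0)
    (H : Subgroup (SpecialLinearGroup (Fin 2) F))
    (h : Nat.card (SpecialLinearGroup (Fin 2) F) ≤ 2 * Nat.card H) : H = ⊤ := by
  have h1 := Subgroup.card_mul_index H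
  have hpos : 0 < Nat.card H := Nat.card_pos
  have hi0 : H.index ≠ 0 := Subgroup.index_ne_zero_of_finite
  have hi2 : H.index ≠ 2 := index_ne_two h2 H
  have hi : H.index ≤ 2 := by
    by_contra hcon
    push Not at hcon
    have : Nat.card H * 3 ≤ Nat.card H * H.index := Nat.mul_le_mul_left _ hcon
    omega
  have : H.index = 1 := by omega
  exact Subgroup.index_eq_one.mp this

end index

end Cfsg.Agent.Lib.Helper12.DkP
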