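/-
helper12: the quadratic extension `GaloisField p 2` of a field `F` of prime order `p` satisfies
the hypotheses `QuadExt` of `DkPCount`.
-/
import Mathlib
import Cfsg.Agent.Lib.Helper12.DkPCount

set_option autoImplicit false

namespace Cfsg.Agent.Lib.Helper12.DkP

open Subgroup Matrix Polynomial

section ext

variable {F : Type*} [Field F] [Fintype F] {p : ℕ} [hp : Fact p.Prime]

/-- the embedding of a field of order `p` into `GaloisField p 2` -/
noncomputable def extHom (hF : Fintype.card F = p) : F →+* GaloisField p 2 :=
  (algebraMap (ZMod p) (GaloisField p 2)).comp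
    ((ZMod.ringEquivOfPrime F hp.out hF).symm : F →+* ZMod p)

theorem card_ext : Nat.card (GaloisField p 2) = p ^ 2 := GaloisField.card p 2 (by norm_num)

theorem quadExt_extHom (hF : Fintype.card F = p) (hp2 : p ≠ 2) : QuadExt (extHom (p := p) hF) p := by
  classical
  set ι := extHom (p := p) hF with hι
  have hp1 : 1 < p := hp.out.one_lt
  have hfix : ∀ a : F, (ι a) ^ p = ι a := by
    intro a
    rw [← map_pow]
    congr 1
    have := FiniteField.pow_card a
    rwa [hF] at this
  refine ⟨hfix, ?_, ?_⟩
  · -- the fixed points of the Frobenius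
    intro e he
    set P : (GaloisField p 2)[X] := X ^ p - X with hP
    have hP0 : P ≠ 0 := FiniteField.X_pow_card_sub_X_ne_zero (GaloisField p 2) hp1
    have hdeg : P.natDegree = p := FiniteField.X_pow_card_sub_X_natDegree_eq (GaloisField p 2) hp1
    have hroot : ∀ z : GaloisField p 2, z ∈ P.roots.toFinset ↔ z ^ p = z := by
      intro z
      rw [Multiset.mem_toFinset, mem_roots hP0, IsRoot.def, hP, eval_sub, eval_pow, eval_X,
        sub_eq_zero]
    have hsub : Finset.univ.image ι ⊆ P.roots.toFinset := by
      intro z hz
      obtain ⟨a, -, rfl⟩ := Finset.mem_image.1 hz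
      exact (hroot _).2 (hfix a)
    have hcard1 : (Finset.univ.image ι).card = p := by
      rw [Finset.card_image_of_injective _ ι.injective, Finset.card_univ, hF]
    have hcard2 : P.roots.toFinset.card ≤ p := by
      calc P.roots.toFinset.card ≤ Multiset.card P.roots := Multiset.toFinset_card_le _
        _ ≤ P.natDegree := card_roots' P
        _ = p := hdeg
    have heq : Finset.univ.image ι = P.roots.toFinset :=
      Finset.eq_of_subset_of_card_le hsub (by rw [hcard1]; exact hcard2)
    have : e ∈ Finset.univ.image ι := by
      rw [heq]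
      exact (hroot e).2 he
    obtain ⟨a, -, ha⟩ := Finset.mem_image.1 this
    exact ⟨a, ha⟩
  · -- every element of `F` is a square in `E`
    intro a
    by_cases ha : a = 0
    · exact ⟨0, by rw [ha, map_zero]; ring⟩
    have hne : ι a ≠ 0 := (map_ne_zero ι).2 ha
    haveI : Fintype (GaloisField p 2) := Fintype.ofFinite _
    have hcardE : Fintype.card (GaloisField p 2) = p ^ 2 := by
      rw [← Nat.card_eq_fintype_card]
      exact card_ext
    have hchar : ringChar (GaloisField p 2) ≠ 2 := by
      rw [ringChar.eq (GaloisField p 2) p]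
      exact hp2
    have hsq : IsSquare (ι a) := by
      rw [FiniteField.isSquare_iff hchar hne, hcardE]
      have h1 : (ι a) ^ (p - 1) = 1 := by
        have h2 := hfix a
        have : ι a * (ι a) ^ (p - 1) = ι a * 1 := by
          rw [mul_one, ← pow_succ', Nat.sub_add_cancel hp1.le, h2]
        exact mul_left_cancel₀ hne this
      obtain ⟨k, hk⟩ := hp.out.odd_of_ne_two hp2
      have hdiv : p ^ 2 / 2 = (p - 1) * (k + 1) := by
        have : p ^ 2 = 2 * ((p - 1) * (k + 1)) + 1 := by
          have hp' : p - 1 = 2 * k := by omega
          rw [hp', hk]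
          ring
        omega
      rw [hdiv, pow_mul, h1, one_pow]
    obtain ⟨e, he⟩ := hsq
    exact ⟨e, by rw [he]; ring⟩

end ext

end Cfsg.Agent.Lib.Helper12.DkP
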