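/-
helper12: Dickson's theorem for subgroups of `PGL₂(p)`, packaged as a trichotomy for an arbitrary
subgroup `X ≤ GL₂(F)`, `|F| = p ≥ 5` prime: modulo scalars, `X` contains `SL₂(F)`, or normalises a
cyclic group of order at least three, or all its elements have order at most five (and `≠ p`).
Route: lift to `SL₂(p²)`, apply Helper13's `Dk.dickson_subgroup'` in `PSL₂(p²)`, transfer back.
-/
import Mathlib
import Cfsg.Agent.Lib.Helper12.DkPExt
import Cfsg.Agent.Lib.Helper13.DkWrap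
import Cfsg.Agent.Lib.Helper13.DkMax
import Cfsg.Agent.Lib.Helper13.SL2

set_option autoImplicit false

namespace Cfsg.Agent.Lib.Helper12.DkP

open Subgroup Matrix

section transfer

variable {F : Type*} [Field F] {E : Type*} [Field E] (ι : F →+* E)

/-- the projection `SL₂(E) → PSL₂(E)` -/
abbrev prE (E : Type*) [Field E] : SpecialLinearGroup (Fin 2) E →*
    Matrix.ProjectiveSpecialLinearGroup (Fin 2) E :=
  QuotientGroup.mk' (center (SpecialLinearGroup (Fin 2) E))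

theorem prE_eq_one_iff {h : SpecialLinearGroup (Fin 2) E} :
    prE E h = 1 ↔ ∃ r : E, (h : Matrix (Fin 2) (Fin 2) E) = r • 1 := by
  change ((h : SpecialLinearGroup (Fin 2) E) : SpecialLinearGroup (Fin 2) E ⧸ center _) = 1 ↔ _
  rw [QuotientGroup.eq_one_iff]
  exact ⟨scalar_of_mem_center, fun ⟨r, hr⟩ => mem_center_of_scalar hr⟩

theorem one_map : ((1 : Matrix (Fin 2) (Fin 2) F)).map ι = 1 :=
  Matrix.map_one ι (map_zero ι) (map_one ι)

/-- a power of a lift is trivial in `PSL₂(E)` iff the power of the element is scalar -/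
theorem pow_scalar_of_prE {h : SpecialLinearGroup (Fin 2) E} {c : E} {x : GL (Fin 2) F}
    (hh : (h : Matrix (Fin 2) (Fin 2) E) = c • (x : Matrix (Fin 2) (Fin 2) F).map ι) (m : ℕ)
    (hm : (prE E h) ^ m = 1) :
    ∃ c' : F, ((x ^ m : GL (Fin 2) F) : Matrix (Fin 2) (Fin 2) F) = c' • 1 := by
  rw [← map_pow, prE_eq_one_iff] at hm
  obtain ⟨r, hr⟩ := hm
  rw [coe_pow_of_eq ι hh m] at hr
  have hc : c ≠ 0 := scalar_ne_zero hh
  have hcm : c ^ m ≠ 0 := pow_ne_zero m hc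
  have h1 : ((x ^ m : GL (Fin 2) F) : Matrix (Fin 2) (Fin 2) F).map ι =
      ((c ^ m)⁻¹ * r) • (1 : Matrix (Fin 2) (Fin 2) F).map ι := by
    rw [one_map, mul_smul, ← hr, smul_smul, inv_mul_cancel₀ hcm, one_smul]
  obtain ⟨c', -, hc'⟩ := mem_range_of_smul ι (one_ne_zero) h1
  exact ⟨c', hc'⟩

theorem prE_pow_of_scalar {h : SpecialLinearGroup (Fin 2) E} {c : E} {x : GL (Fin 2) F}
    (hh : (h : Matrix (Fin 2) (Fin 2) E) = c • (x : Matrix (Fin 2) (Fin 2) F).map ι) (m : ℕ)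
    {c' : F} (hx : ((x ^ m : GL (Fin 2) F) : Matrix (Fin 2) (Fin 2) F) = c' • 1) :
    (prE E h) ^ m = 1 := by
  rw [← map_pow, prE_eq_one_iff]
  refine ⟨c ^ m * ι c', ?_⟩
  rw [coe_pow_of_eq ι hh m, hx, Matrix.map_smul' ι _ _ (map_mul ι), one_map, smul_smul]

variable {ι}

/-- alternative (C) from the exponent alternative of `Tri` -/
theorem altC_of_tri (hsq : ∀ a : F, ∃ e : E, e ^ 2 = ι a) {p : ℕ} (X : Subgroup (GL (Fin 2) F))
    (h : ∀ y : (liftSL ι X).map (prE E), ∃ m : ℕ, 1 ≤ m ∧ m ≤ 5 ∧ m ≠ p ∧ y ^ m = 1) :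
    ∀ x ∈ X, ∃ m : ℕ, 1 ≤ m ∧ m ≤ 5 ∧ m ≠ p ∧ ∃ c : F,
      ((x ^ m : GL (Fin 2) F) : Matrix (Fin 2) (Fin 2) F) = c • 1 := by
  intro x hx
  obtain ⟨hl, hlL, d, -, hd⟩ := exists_lift ι hsq hx
  obtain ⟨m, h1, h5, hmp, hm⟩ := h ⟨prE E hl, Subgroup.mem_map_of_mem _ hlL⟩
  refine ⟨m, h1, h5, hmp, ?_⟩
  have hm' : (prE E hl) ^ m = 1 := by
    have := congrArg Subtype.val hm
    simpa using this
  exact pow_scalar_of_prE ι hd m hm'

/-- alternative (B) from the normal cyclic subgroup alternative of `Tri` -/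
theorem altB_of_tri (hsq : ∀ a : F, ∃ e : E, e ^ 2 = ι a) (X : Subgroup (GL (Fin 2) F))
    [Finite ((liftSL ι X).map (prE E))]
    (h : ∃ y : (liftSL ι X).map (prE E), y ^ 2 ≠ 1 ∧ ∀ x : (liftSL ι X).map (prE E),
      x * y * x⁻¹ ∈ zpowers y) :
    ∃ g ∈ X, (∀ c : F, ((g ^ 2 : GL (Fin 2) F) : Matrix (Fin 2) (Fin 2) F) ≠ c • 1) ∧
      (∀ c : F, (g : Matrix (Fin 2) (Fin 2) F) ≠ c • 1) ∧
      ∀ x ∈ X, ∃ (k : ℕ) (c : F), ((x * g * x⁻¹ : GL (Fin 2) F) : Matrix (Fin 2) (Fin 2) F) =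
        c • ((g ^ k : GL (Fin 2) F) : Matrix (Fin 2) (Fin 2) F) := by
  obtain ⟨⟨y, hyH⟩, hy2, hnorm⟩ := h
  obtain ⟨hl, hlL, rfl⟩ := Subgroup.mem_map.1 hyH
  obtain ⟨g, hgX, c, hc⟩ := hlL
  have hc0 : c ≠ 0 := scalar_ne_zero hc
  have hsq2 : ∀ c' : F, ((g ^ 2 : GL (Fin 2) F) : Matrix (Fin 2) (Fin 2) F) ≠ c' • 1 := by
    intro c' hc'
    apply hy2
    apply Subtype.ext
    have := prE_pow_of_scalar ι hc 2 hc'
    simpa using this
  refine ⟨g, hgX, hsq2, ?_, ?_⟩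
  · intro c' hc'
    apply hsq2 (c' * c')
    rw [pow_two, Units.val_mul, hc', smul_mul_smul_comm, mul_one]
  · intro x hx
    obtain ⟨hx', hx'L, d, hd0, hd⟩ := exists_lift ι hsq hx
    have hmem := hnorm ⟨prE E hx', Subgroup.mem_map_of_mem _ hx'L⟩
    have hfin : IsOfFinOrder (⟨prE E hl, hyH⟩ : (liftSL ι X).map (prE E)) := isOfFinOrder_of_finite _
    rw [← hfin.mem_powers_iff_mem_zpowers] at hmem
    obtain ⟨k, hk⟩ := hmem
    have hk' : (prE E hl) ^ k = prE E hx' * prE E hl * (prE E hx')⁻¹ := by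
      have := congrArg Subtype.val hk
      simpa using this
    -- `(hl ^ k)⁻¹ * (hx' * hl * hx'⁻¹)` is central
    have hcen : prE E ((hl ^ k)⁻¹ * (hx' * hl * hx'⁻¹)) = 1 := by
      rw [map_mul, map_inv, map_pow, map_mul, map_mul, map_inv, ← hk', inv_mul_cancel]
    rw [prE_eq_one_iff] at hcen
    obtain ⟨r, hr⟩ := hcen
    have hprod : ((hx' * hl * hx'⁻¹ : SpecialLinearGroup (Fin 2) E) : Matrix (Fin 2) (Fin 2) E) =
        r • ((hl ^ k : SpecialLinearGroup (Fin 2) E) : Matrix (Fin 2) (Fin 2) E) := by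
      have h1 : (hx' * hl * hx'⁻¹ : SpecialLinearGroup (Fin 2) E) =
          hl ^ k * ((hl ^ k)⁻¹ * (hx' * hl * hx'⁻¹)) := by group
      rw [h1, Matrix.SpecialLinearGroup.coe_mul, hr, Matrix.mul_smul, Matrix.mul_one]
    have hlhs : ((hx' * hl * hx'⁻¹ : SpecialLinearGroup (Fin 2) E) : Matrix (Fin 2) (Fin 2) E) =
        c • ((x * g * x⁻¹ : GL (Fin 2) F) : Matrix (Fin 2) (Fin 2) F).map ι := by
      rw [Matrix.SpecialLinearGroup.coe_mul, Matrix.SpecialLinearGroup.coe_mul, hd, hc,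
        coe_inv_of_eq ι hd, Units.val_mul, Units.val_mul, Matrix.map_mul, Matrix.map_mul,
        smul_mul_smul_comm, smul_mul_smul_comm]
      congr 1
      field_simp
    rw [hlhs, coe_pow_of_eq ι hc k] at hprod
    have h2 : ((x * g * x⁻¹ : GL (Fin 2) F) : Matrix (Fin 2) (Fin 2) F).map ι =
        (c⁻¹ * (r * c ^ k)) • ((g ^ k : GL (Fin 2) F) : Matrix (Fin 2) (Fin 2) F).map ι := by
      rw [mul_smul, mul_smul, ← hprod, smul_smul, inv_mul_cancel₀ hc0, one_smul]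
    have hgk0 : ((g ^ k : GL (Fin 2) F) : Matrix (Fin 2) (Fin 2) F) ≠ 0 := by
      intro h0
      have := (Matrix.isUnits_det_units (g ^ k)).ne_zero
      rw [h0, Matrix.det_zero] at this
      exact this rfl
    obtain ⟨c', -, hc'⟩ := mem_range_of_smul ι hgk0 h2
    exact ⟨k, c', hc'⟩

/-- the central element `-1` of `SL₂(E)` -/
def negOne (E : Type*) [Field E] : SpecialLinearGroup (Fin 2) E :=
  ⟨(-1 : E) • (1 : Matrix (Fin 2) (Fin 2) E), by
    rw [Matrix.det_smul, Matrix.det_one, Fintype.card_fin]; ring⟩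

/-- `|L| = |L ∩ Z| * |image of L in PSL₂(E)|` -/
theorem card_liftSL_eq [Finite E] (X : Subgroup (GL (Fin 2) F)) :
    Nat.card (liftSL ι X) =
      Nat.card ((prE E).comp (liftSL ι X).subtype).ker * Nat.card ((liftSL ι X).map (prE E)) := by
  have h1 := Subgroup.card_mul_index ((prE E).comp (liftSL ι X).subtype).ker
  rw [Subgroup.index_ker, MonoidHom.range_comp, Subgroup.range_subtype] at h1
  exact h1.symm

theorem two_le_card_ker (h2 : (2 : E) ≠ 0) [Finite E] (X : Subgroup (GL (Fin 2) F)) :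
    2 ≤ Nat.card ((prE E).comp (liftSL ι X).subtype).ker := by
  have hmem : negOne E ∈ liftSL ι X := by
    refine ⟨1, X.one_mem, -1, ?_⟩
    rw [Units.val_one, one_map]
    rfl
  have hne : ((prE E).comp (liftSL ι X).subtype).ker ≠ ⊥ := by
    intro hbot
    have hk : (⟨negOne E, hmem⟩ : liftSL ι X) ∈ ((prE E).comp (liftSL ι X).subtype).ker := by
      rw [MonoidHom.mem_ker]
      change prE E (negOne E) = 1
      rw [prE_eq_one_iff]
      exact ⟨-1, rfl⟩
    rw [hbot, Subgroup.mem_bot] at hk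
    have h3 : negOne E = 1 := congrArg Subtype.val hk
    have h4 := congrArg (fun A : SpecialLinearGroup (Fin 2) E => (A : Matrix (Fin 2) (Fin 2) E) 0 0) h3
    simp only [negOne, Matrix.SpecialLinearGroup.coe_one, Matrix.smul_apply, Matrix.one_apply_eq,
      smul_eq_mul, mul_one] at h4
    apply h2
    linear_combination -h4
  exact (Subgroup.one_lt_card_iff_ne_bot _).2 hne

/-- alternative (A) from a lower bound on the order of the image in `PSL₂(E)` -/
theorem altA_of_card {p : ℕ} [Finite F] [Finite E] (h2 : (2 : F) ≠ 0) (hQ : QuadExt ι p)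
    (X : Subgroup (GL (Fin 2) F))
    (hcard : Nat.card (SpecialLinearGroup (Fin 2) F) ≤
      2 * Nat.card ((liftSL ι X).map (prE E))) :
    ∀ s : SpecialLinearGroup (Fin 2) F, ∃ x ∈ X, ∃ c : F,
      (x : Matrix (Fin 2) (Fin 2) F) = c • (s : Matrix (Fin 2) (Fin 2) F) := by
  have h2E : (2 : E) ≠ 0 := by
    have : ι 2 = 2 := map_ofNat ι 2
    rw [← this]
    exact (map_ne_zero ι).2 h2
  have h1 := card_liftSL_eq (ι := ι) X
  have h3 := two_le_card_ker (ι := ι) h2E X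
  have h4 : 2 * Nat.card ((liftSL ι X).map (prE E)) ≤ Nat.card (liftSL ι X) := by
    rw [h1]
    exact Nat.mul_le_mul_right _ h3
  have h5 : Nat.card (liftSL ι X) ≤ 2 * Nat.card (liftSL₀ ι X) := by
    apply Nat.le_of_dvd
    · have : 0 < Nat.card (liftSL₀ ι X) := Nat.card_pos
      omega
    · exact card_liftSL_dvd hQ X
  have htop : liftSL₀ ι X = ⊤ := eq_top_of_two_mul_card_ge h2 _ (by omega)
  intro s
  have hs : s ∈ liftSL₀ ι X := by rw [htop]; exact Subgroup.mem_top s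
  obtain ⟨x, hx, c, -, hc⟩ := mem_liftSL₀ hs
  exact ⟨x, hx, c, hc⟩

/-- the order of the image in `PSL₂(E)` divides `2 |SL₂(F)|` -/
theorem card_map_dvd {p : ℕ} [Finite F] [Finite E] (hQ : QuadExt ι p) (X : Subgroup (GL (Fin 2) F)) :
    Nat.card ((liftSL ι X).map (prE E)) ∣ 2 * Nat.card (SpecialLinearGroup (Fin 2) F) := by
  have h1 := card_liftSL_eq (ι := ι) X
  have h2 : Nat.card ((liftSL ι X).map (prE E)) ∣ Nat.card (liftSL ι X) := by
    rw [h1]
    exact Dvd.intro_left _ rfl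
  have h3 := card_liftSL_dvd hQ X
  have h4 : Nat.card (liftSL₀ ι X) ∣ Nat.card (SpecialLinearGroup (Fin 2) F) :=
    Subgroup.card_subgroup_dvd_card _
  exact h2.trans (h3.trans (Nat.mul_dvd_mul_left 2 h4))

end transfer

end Cfsg.Agent.Lib.Helper12.DkP
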