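/-
helper12: Dickson's theorem for subgroups of `PGL₂(p)` as a trichotomy for `X ≤ GL₂(F)`,
`|F| = p ≥ 5` prime (`DkP.pgl2_prime_trichotomy`).
-/
import Mathlib
import Cfsg.Agent.Lib.Helper12.DkPMain

set_option autoImplicit false

namespace Cfsg.Agent.Lib.Helper12.DkP

open Subgroup Matrix

/-- `p² ∤ 2 p (p² - 1)` -/
theorem not_sq_dvd {p : ℕ} (hp : p.Prime) (hp5 : 5 ≤ p) : ¬ p ^ 2 ∣ 2 * (p * (p ^ 2 - 1)) := by
  intro h
  have h1 : p * p ∣ p * (2 * (p ^ 2 - 1)) := by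
    have : 2 * (p * (p ^ 2 - 1)) = p * (2 * (p ^ 2 - 1)) := by ring
    rw [← this, ← pow_two]
    exact h
  have h2 : p ∣ 2 * (p ^ 2 - 1) := (Nat.mul_dvd_mul_iff_left hp.pos).1 h1
  rcases (Nat.Prime.dvd_mul hp).1 h2 with h3 | h3
  · have := Nat.le_of_dvd (by norm_num) h3
    omega
  · have h4 : p ∣ p ^ 2 := dvd_pow_self p (by norm_num)
    have h5 : 1 ≤ p ^ 2 := Nat.one_le_pow _ _ hp.pos
    have h6 : p ∣ p ^ 2 - (p ^ 2 - 1) := Nat.dvd_sub h4 h3
    have h7 : p ^ 2 - (p ^ 2 - 1) = 1 := by omega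
    rw [h7] at h6
    have := Nat.le_of_dvd (by norm_num) h6
    omega

/-- a finite field whose order to some power is `p²` has order `p` or `p²` -/
theorem card_cases {p : ℕ} (hp : p.Prime) {k m : ℕ} (hk : 2 ≤ k) (h : k ^ m = p ^ 2) :
    k = p ∨ k = p ^ 2 := by
  have hm : m ≠ 0 := by
    rintro rfl
    rw [pow_zero] at h
    have : 1 < p ^ 2 := Nat.one_lt_pow (by norm_num) hp.one_lt
    omega
  have hdvd : k ∣ p ^ 2 := by
    rw [← h]
    exact dvd_pow_self k hm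
  obtain ⟨j, hj, rfl⟩ := (Nat.dvd_prime_pow hp).1 hdvd
  interval_cases j
  · rw [pow_zero] at hk; omega
  · left; rw [pow_one]
  · right; rfl

/-- **Dickson's theorem for `PGL₂(p)`**, as a trichotomy for an arbitrary subgroup `X` of `GL₂(F)`,
`|F| = p ≥ 5` prime.  Modulo scalars: (A) `X` contains `SL₂(F)`; or (B) `X` normalises a cyclic
group `⟨g⟩` of order at least three (`g ∈ X`); or (C) every element of `X` has order at most five,
different from `p`. -/
theorem pgl2_prime_trichotomy {F : Type*} [Field F] [Fintype F] {p : ℕ} [Fact p.Prime] [CharP F p]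
    (hF : Fintype.card F = p) (hp : 5 ≤ p) (X : Subgroup (GL (Fin 2) F)) :
    (∀ s : Matrix.SpecialLinearGroup (Fin 2) F, ∃ x ∈ X, ∃ c : F,
      (x : Matrix (Fin 2) (Fin 2) F) = c • (s : Matrix (Fin 2) (Fin 2) F)) ∨
    (∃ g ∈ X, (∀ c : F, ((g ^ 2 : GL (Fin 2) F) : Matrix (Fin 2) (Fin 2) F) ≠ c • 1) ∧
      (∀ c : F, (g : Matrix (Fin 2) (Fin 2) F) ≠ c • 1) ∧
      ∀ x ∈ X, ∃ (k : ℕ) (c : F), ((x * g * x⁻¹ : GL (Fin 2) F) : Matrix (Fin 2) (Fin 2) F) =
        c • ((g ^ k : GL (Fin 2) F) : Matrix (Fin 2) (Fin 2) F)) ∨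
    (∀ x ∈ X, ∃ m : ℕ, 1 ≤ m ∧ m ≤ 5 ∧ m ≠ p ∧ ∃ c : F,
      ((x ^ m : GL (Fin 2) F) : Matrix (Fin 2) (Fin 2) F) = c • 1) := by
  classical
  have hpp : p.Prime := Fact.out
  have hp2 : p ≠ 2 := by omega
  letI : Fintype (GaloisField p 2) := Fintype.ofFinite _
  have hQ := quadExt_extHom (F := F) (p := p) hF hp2
  set ι : F →+* GaloisField p 2 := extHom hF with hι
  have h2F : (2 : F) ≠ 0 := by
    intro h
    have h' : ((2 : ℕ) : F) = 0 := by exact_mod_cast h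
    rw [CharP.cast_eq_zero_iff F p] at h'
    have := Nat.le_of_dvd (by norm_num) h'
    omega
  have hcardE : Fintype.card (GaloisField p 2) = p ^ 2 := by
    rw [← Nat.card_eq_fintype_card]
    exact card_ext
  have hSL : Nat.card (SpecialLinearGroup (Fin 2) F) = p * (p ^ 2 - 1) := by
    rw [Cfsg.Agent.Lib.Helper13.card_SL2, hF]
  set H : Subgroup (Matrix.ProjectiveSpecialLinearGroup (Fin 2) (GaloisField p 2)) :=
    (liftSL ι X).map (prE (GaloisField p 2)) with hH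
  have hD := Cfsg.Agent.Lib.Helper13.Dk.dickson_subgroup' p H
  rw [hcardE] at hD
  have hdvd : Nat.card H ∣ 2 * (p * (p ^ 2 - 1)) := by
    rw [← hSL]
    exact card_map_dvd hQ X
  have hnd : ¬ p ^ 2 ∣ Nat.card H := fun h => not_sq_dvd hpp hp (h.trans hdvd)
  -- alternative (A) from a lower bound on `|H|`
  have hA : p * (p ^ 2 - 1) ≤ 2 * Nat.card H →
      ∀ s : Matrix.SpecialLinearGroup (Fin 2) F, ∃ x ∈ X, ∃ c : F,
        (x : Matrix (Fin 2) (Fin 2) F) = c • (s : Matrix (Fin 2) (Fin 2) F) := by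
    intro hle
    apply altA_of_card h2F hQ X
    rw [hSL]
    exact hle
  have hgcd : Nat.gcd 2 (p - 1) = 2 := by
    obtain ⟨k, hk⟩ := hpp.odd_of_ne_two hp2
    have : p - 1 = 2 * k := by omega
    rw [this]
    exact Nat.gcd_mul_right_right k 2
  rcases tri_or_field hp hnd hD with hT | ⟨K, instK, instK', m, hKm, hiso⟩ | ⟨h5, h60⟩
  · rcases hT with hB | hC
    · exact Or.inr (Or.inl (altB_of_tri hQ.sq X hB))
    · exact Or.inr (Or.inr (altC_of_tri hQ.sq X hC))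
  · left
    have hK2 : 2 ≤ Fintype.card K := Fintype.one_lt_card
    rcases card_cases hpp hK2 hKm with hKp | hKp
    · -- `K = F_p`
      apply hA
      rcases hiso with ⟨⟨e⟩⟩ | ⟨⟨e⟩⟩
      · have h1 := Cfsg.Agent.Lib.Helper13.Dk.card_PSL2_mul_gcd (K := K)
        rw [hKp, hgcd, ← Nat.card_congr e.toEquiv] at h1
        omega
      · have h1 := Cfsg.Agent.Lib.Helper13.Dk.card_PGL2 (K := K)
        rw [hKp, ← Nat.card_congr e.toEquiv] at h1
        omega
    · -- `K = F_{p²}`: impossible, `p² ∣ |H|`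
      exfalso
      apply hnd
      rcases hiso with ⟨⟨e⟩⟩ | ⟨⟨e⟩⟩
      · have h1 := Cfsg.Agent.Lib.Helper13.Dk.card_PSL2_mul_gcd (K := K)
        rw [hKp, ← Nat.card_congr e.toEquiv] at h1
        have hcop : Nat.Coprime (p ^ 2) (Nat.gcd 2 (p ^ 2 - 1)) := by
          apply Nat.Coprime.coprime_dvd_right (Nat.gcd_dvd_left 2 (p ^ 2 - 1))
          apply Nat.Coprime.pow_left
          rw [Nat.coprime_primes hpp Nat.prime_two]
          exact hp2
        have h2 : p ^ 2 ∣ Nat.card H * Nat.gcd 2 (p ^ 2 - 1) := by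
          rw [h1]
          exact Dvd.intro _ rfl
        exact hcop.dvd_of_dvd_mul_right h2
      · have h1 := Cfsg.Agent.Lib.Helper13.Dk.card_PGL2 (K := K)
        rw [hKp, ← Nat.card_congr e.toEquiv] at h1
        rw [h1]
        exact Dvd.intro _ rfl
  · left
    apply hA
    rw [h60, h5]
    norm_num

end Cfsg.Agent.Lib.Helper12.DkP
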