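/-
helper12: leaf K (`card_Dt_mul_card_Dt_le`, the key lemma K+) of helper11's S2146 market
(`notes/S2146_leaves.lean`).
-/
import Mathlib
import Cfsg.Agent.Lib.Helper11.Om2Tools

set_option autoImplicit false

open Cfsg.Agent.Lib.Helper11.Om2 MulAction
open scoped Pointwise

namespace Cfsg.Agent.Lib.Helper12.Om2Leaf

variable {F V G : Type*} [Field F] [AddCommGroup V] [Module F V] [Group G] [DistribMulAction G V]
  (S : Setting F V G)

/-- an element of `H` fixing `x` preserves the orthogonal complement of `D̃_x`. -/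
theorem smul_mem_orthogonal_Dt (H : Subgroup G) {x : V} (hx : S.Q x = 0) {p : G} (hp : p ∈ H)
    (hpx : p • x = x) {e : V} (he : e ∈ S.B.orthogonal (S.Dt H hx)) :
    p • e ∈ S.B.orthogonal (S.Dt H hx) := by
  rw [S.mem_orthogonal] at he ⊢
  intro d hd
  have hpx' : p⁻¹ • x = x := by rw [inv_smul_eq_iff, hpx]
  have h1 : p⁻¹ • d ∈ S.Dt H hx := S.smul_mem_Dt hx (H.inv_mem hp) hpx' hd
  have h2 := he _ h1
  rw [S.B_smul_left, inv_inv] at h2
  exact h2

/-- K+ -/
theorem card_Dt_mul_card_Dt_le [Finite V] (H : Subgroup G) {x y : V} (hx0 : x ≠ 0) (hy0 : y ≠ 0)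
    (hx : S.Q x = 0) (hy : S.Q y = 0) (hxy : S.B x y = 0) (hnot : S.sg x y ∉ H) :
    Nat.card (S.Dt H hx) * Nat.card (S.Dt H hy) ≤ Nat.card V := by
  classical
  have hFfin : Finite F := S.finite_F
  have hyx : S.B y x = 0 := by rw [S.B_symm]; exact hxy
  -- `y ∉ D̃_x`
  have hyD : y ∉ S.Dt H hx := fun h => hnot h.2
  -- some `e0 ∈ Ẽ_x` has `B e0 y = 1`
  obtain ⟨e0, he0, he0y⟩ : ∃ e0 ∈ S.B.orthogonal (S.Dt H hx), S.B e0 y = 1 := by
    by_contra hcon
    push Not at hcon
    apply hyD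
    rw [← S.orthogonal_orthogonal_eq (S.Dt H hx), S.mem_orthogonal]
    intro e he
    exact S.eq_zero_of_ne_one (hcon e he)
  have hye0 : S.B y e0 = 1 := by rw [S.B_symm]; exact he0y
  -- `x ∈ Ẽ_x`
  have hxE : x ∈ S.B.orthogonal (S.Dt H hx) := by
    rw [S.mem_orthogonal]
    intro d hd
    rw [S.B_symm]
    exact S.Dt_le_perp hx d hd
  -- `x ∉ D̃_y`
  have hxDy : x ∉ S.Dt H hy := by
    intro h
    apply hnot
    rw [S.sg_symm hx hy hxy]
    exact h.2
  -- the projection `ψ`
  have hpsi : ∀ w, w ∈ S.Dt H hy → S.B x w = 0 →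
      w + (S.B e0 w + S.Q w) • y ∈ S.B.orthogonal (S.Dt H hx) ∧
        S.B y (w + (S.B e0 w + S.Q w) • y) = 0 := by
    intro w hw hxw
    obtain ⟨hyw, hmem⟩ := hw
    have hfix : S.sg y w • x = x := by
      rw [S.sg_smul_of_perp hy hyw hyx, hxw, zero_smul, add_zero]
    have h1 : S.sg y w • e0 ∈ S.B.orthogonal (S.Dt H hx) :=
      smul_mem_orthogonal_Dt S H hx hmem hfix he0
    have h2 : S.sg y w • e0 = e0 + (w + (S.B e0 w + S.Q w) • y) := by
      rw [S.sg_smul' hy hyw, he0y, mul_one, one_smul, add_smul]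
      abel
    have h3 : w + (S.B e0 w + S.Q w) • y = S.sg y w • e0 + e0 := by
      rw [h2, add_comm e0, S.vadd_cancel_right]
    refine ⟨?_, ?_⟩
    · rw [h3]
      exact Submodule.add_mem _ h1 he0
    · rw [S.Badd_right, S.Bsmul_right, S.alt, mul_zero, add_zero, hyw]
  -- first injection: `A × F → E' × F`
  have hinj1 : Nat.card ({u : V // u ∈ S.Dt H hy ∧ S.B x u = 0} × F) ≤
      Nat.card ({e : V // e ∈ S.B.orthogonal (S.Dt H hx) ∧ S.B y e = 0} × F) := by
    apply Nat.card_le_card_of_injective (fun q : {u : V // u ∈ S.Dt H hy ∧ S.B x u = 0} × F =>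
      ((⟨(q.1.1 + (S.B e0 q.1.1 + S.Q q.1.1) • y) + q.2 • x, by
        obtain ⟨h1, h2⟩ := hpsi q.1.1 q.1.2.1 q.1.2.2
        refine ⟨Submodule.add_mem _ h1 (Submodule.smul_mem _ _ hxE), ?_⟩
        rw [S.Badd_right, h2, S.Bsmul_right, hyx, mul_zero, add_zero]⟩ :
        {e : V // e ∈ S.B.orthogonal (S.Dt H hx) ∧ S.B y e = 0}), S.B e0 q.1.1 + S.Q q.1.1))
    rintro ⟨⟨w, hw, hxw⟩, a⟩ ⟨⟨w', hw', hxw'⟩, a'⟩ heq
    have h1 := congrArg (fun p => (p.1 : V)) heq
    have h2 := congrArg Prod.snd heq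
    simp only at h1 h2
    rw [h2] at h1
    -- `w + a x = w' + a' x`
    have h3 : w + a • x = w' + a' • x := by
      have h4 : w + (S.B e0 w' + S.Q w') • y + a • x + (S.B e0 w' + S.Q w') • y
          = w' + (S.B e0 w' + S.Q w') • y + a' • x + (S.B e0 w' + S.Q w') • y := by rw [h1]
      have h5 : ∀ u b c : V, u + b + c + b = u + c := by
        intro u b c
        rw [add_assoc u b c, add_comm b c, ← add_assoc, S.vadd_cancel_right]
      rwa [h5, h5] at h4
    have hww : w = w' ∧ a = a' := by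
      rcases S.h01 a with ha | ha <;> rcases S.h01 a' with ha' | ha'
      · rw [ha, ha', zero_smul, add_zero, add_zero] at h3
        exact ⟨h3, by rw [ha, ha']⟩
      · exfalso
        rw [ha, ha', zero_smul, add_zero, one_smul] at h3
        apply hxDy
        have : x = w + w' := by rw [h3, add_comm w' x, S.vadd_cancel_right]
        rw [this]
        exact Submodule.add_mem _ hw hw'
      · exfalso
        rw [ha, ha', zero_smul, add_zero, one_smul] at h3
        apply hxDy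
        have : x = w + w' := by rw [← h3, S.vadd_cancel_left]
        rw [this]
        exact Submodule.add_mem _ hw hw'
      · rw [ha, ha', one_smul] at h3
        exact ⟨add_right_cancel h3, by rw [ha, ha']⟩
    obtain ⟨rfl, rfl⟩ := hww
    rfl
  -- second injection: `E' × F → Ẽ_x`
  have hinj2 : Nat.card ({e : V // e ∈ S.B.orthogonal (S.Dt H hx) ∧ S.B y e = 0} × F) ≤
      Nat.card (S.B.orthogonal (S.Dt H hx)) := by
    apply Nat.card_le_card_of_injective
      (fun q : {e : V // e ∈ S.B.orthogonal (S.Dt H hx) ∧ S.B y e = 0} × F =>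
        (⟨q.1.1 + q.2 • e0, Submodule.add_mem _ q.1.2.1 (Submodule.smul_mem _ _ he0)⟩ :
          S.B.orthogonal (S.Dt H hx)))
    rintro ⟨⟨e, he, hye⟩, a⟩ ⟨⟨e', he', hye'⟩, a'⟩ heq
    have h1 : e + a • e0 = e' + a' • e0 := congrArg Subtype.val heq
    have h2 := congrArg (fun v => S.B y v) h1
    simp only [S.Badd_right, S.Bsmul_right, hye, hye', hye0, mul_one, zero_add] at h2
    subst h2
    have h3 : e = e' := add_right_cancel h1
    subst h3
    rfl
  have hc1 := S.card_perp_inf (S.Dt H hy) x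
  have hc2 := S.card_mul_card_orthogonal (S.Dt H hx)
  rw [Nat.card_prod, S.natCard_F] at hinj1 hinj2
  rw [Nat.card_prod, S.natCard_F] at hinj1
  calc Nat.card (S.Dt H hx) * Nat.card (S.Dt H hy)
      ≤ Nat.card (S.Dt H hx) * Nat.card (S.B.orthogonal (S.Dt H hx)) := by
        apply Nat.mul_le_mul_left
        omega
    _ = Nat.card V := hc2

end Cfsg.Agent.Lib.Helper12.Om2Leaf
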