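/-
helper12: leaf COV (`covering`) of helper11's S2146 market (`notes/S2146_leaves.lean`).
-/
import Mathlib
import Cfsg.Agent.Lib.Helper11.Om2Tools
import Cfsg.Agent.Lib.Helper22.Om2T1

set_option autoImplicit false

open Cfsg.Agent.Lib.Helper11.Om2 MulAction
open scoped Pointwise

namespace Cfsg.Agent.Lib.Helper12.Om2Leaf

variable {F V G : Type*} [Field F] [AddCommGroup V] [Module F V] [Group G] [DistribMulAction G V]
  (S : Setting F V G)

/-- COV -/
theorem covering [Finite V] [Finite G] {m : ℕ} (hV : Nat.card V = 2 ^ (2 * m)) (hm : 4 ≤ m) {x : V}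
    (hx0 : x ≠ 0) (hx : S.Q x = 0) (U : Submodule F V) (hxU : x ∈ U) (hU : ∀ u ∈ U, S.B x u = 0)
    {ι : Type*} [Finite ι] (g : ι → G) (hg : ∀ i, g i • x = x) {u0 : V}
    (hu0 : ∀ i, u0 ∈ g i • (U : Set V)) (hu00 : u0 ≠ 0) (hu0x : u0 ≠ x)
    (hinj : Function.Injective (fun i => g i • (U : Set V))) :
    Nat.card ι * Nat.card {w : V // S.B x w = 0 ∧ w ≠ 0 ∧ w ≠ x ∧ S.Q w = S.Q u0} ≤
      Nat.card {w : V // w ∈ U ∧ w ≠ 0 ∧ w ≠ x ∧ S.Q w = S.Q u0} *
        (stabilizer G (U : Set V)).relIndex (stabilizer G x) := by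
  classical
  rcases isEmpty_or_nonempty ι with hι | ⟨⟨i0⟩⟩
  · rw [Nat.card_of_isEmpty, zero_mul]
    exact Nat.zero_le _
  -- `u0 ⊥ x`
  have hxu0 : S.B x u0 = 0 := by
    obtain ⟨u, huU, hu⟩ := hu0 i0
    have hu' : g i0 • u = u0 := hu
    rw [← hu', ← hg i0, S.iso]
    exact hU u huU
  have hp : ∀ w : {w : V // S.B x w = 0 ∧ w ≠ 0 ∧ w ≠ x ∧ S.Q w = S.Q u0},
      ∃ p : G, p • x = x ∧ p • u0 = (w.1 : V) := fun w =>
    Cfsg.Agent.Lib.Helper22.Om2Leaf.exists_stab_smul_eq S hV hm hx0 hx hxu0 w.2.1 hu00 hu0x w.2.2.1 w.2.2.2.1 w.2.2.2.2.symm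
  choose p hpx hpu using hp
  let k : ι × {w : V // S.B x w = 0 ∧ w ≠ 0 ∧ w ≠ x ∧ S.Q w = S.Q u0} → G :=
    fun q => p q.2 * g q.1
  have hkx : ∀ q, k q • x = x := by
    intro q
    show (p q.2 * g q.1) • x = x
    rw [mul_smul, hg, hpx]
  have hkx' : ∀ q, (k q)⁻¹ • x = x := by
    intro q
    rw [inv_smul_eq_iff, hkx]
  have hc : ∀ q, Nat.card {j // (k q)⁻¹ * k j ∈ stabilizer G (U : Set V)} ≤
      Nat.card {w : V // w ∈ U ∧ w ≠ 0 ∧ w ≠ x ∧ S.Q w = S.Q u0} := by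
    intro q
    have hmem : ∀ j : {j // (k q)⁻¹ * k j ∈ stabilizer G (U : Set V)},
        (k q)⁻¹ • (j.1.2.1 : V) ∈ U := by
      intro j
      have h1 : ((k q)⁻¹ * k j.1) • (U : Set V) = (U : Set V) := mem_stabilizer_iff.mp j.2
      obtain ⟨u, huU, hu⟩ := hu0 j.1.1
      have hu' : g j.1.1 • u = u0 := hu
      have h2 : ((k q)⁻¹ * k j.1) • u ∈ ((k q)⁻¹ * k j.1) • (U : Set V) :=
        Set.smul_mem_smul_set huU
      rw [h1] at h2
      have h3 : ((k q)⁻¹ * k j.1) • u = (k q)⁻¹ • (j.1.2.1 : V) := by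
        show ((k q)⁻¹ * (p j.1.2 * g j.1.1)) • u = _
        rw [mul_smul, mul_smul, hu', hpu]
      rw [h3] at h2
      exact h2
    refine Nat.card_le_card_of_injective
      (fun j => ⟨(k q)⁻¹ • (j.1.2.1 : V), hmem j, ?_, ?_, ?_⟩) ?_
    · intro h
      exact j.1.2.2.2.1 ((smul_eq_zero_iff_eq _).mp h)
    · intro h
      apply j.1.2.2.2.2.1
      have := congrArg (fun w => k q • w) h
      simpa [hkx q] using this
    · rw [S.isoQ]
      exact j.1.2.2.2.2.2
    · intro j j' h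
      have h1 : (k q)⁻¹ • (j.1.2.1 : V) = (k q)⁻¹ • (j'.1.2.1 : V) := congrArg Subtype.val h
      have h2 : (j.1.2.1 : V) = (j'.1.2.1 : V) := by
        have := congrArg (fun w => k q • w) h1
        simpa using this
      have h3 : j.1.2 = j'.1.2 := Subtype.ext h2
      -- the two translates agree
      have e1 : ((k q)⁻¹ * k j.1) • (U : Set V) = (U : Set V) := mem_stabilizer_iff.mp j.2
      have e2 : ((k q)⁻¹ * k j'.1) • (U : Set V) = (U : Set V) := mem_stabilizer_iff.mp j'.2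
      have e3 : k j.1 • (U : Set V) = k j'.1 • (U : Set V) := by
        have := congrArg (fun A : Set V => k q • A) (e1.trans e2.symm)
        simpa [mul_smul] using this
      have e4 : g j.1.1 • (U : Set V) = g j'.1.1 • (U : Set V) := by
        have e5 : (p j.1.2 * g j.1.1) • (U : Set V) = (p j'.1.2 * g j'.1.1) • (U : Set V) := e3
        rw [h3, mul_smul, mul_smul] at e5
        have := congrArg (fun A : Set V => (p j'.1.2)⁻¹ • A) e5
        simpa using this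
      have h4 : j.1.1 = j'.1.1 := hinj e4
      exact Subtype.ext (Prod.ext h4 h3)
  have h1 := Cfsg.Agent.Lib.Helper1.Sp2Leaf.card_le_mul_relIndex (stabilizer G (U : Set V))
    (stabilizer G x) k (fun q => mem_stabilizer_iff.mpr (hkx q)) _ hc
  rw [Nat.card_prod] at h1
  exact h1

end Cfsg.Agent.Lib.Helper12.Om2Leaf
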