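/-
helper12: leaf QR (`relIndex_Qs`) of helper11's S2146 market (`notes/S2146_leaves.lean`).
-/
import Mathlib
import Cfsg.Agent.Lib.Helper11.Om2Tools

set_option autoImplicit false

open Cfsg.Agent.Lib.Helper11.Om2 MulAction
open scoped Pointwise

namespace Cfsg.Agent.Lib.Helper12.Om2Leaf

/-- a map all of whose fibres have two elements -/
theorem card_eq_two_mul_of_fibers_two {α β : Type*} [Finite α] [Finite β] (φ : α → β)
    (h : ∀ b, Nat.card {a // φ a = b} = 2) : Nat.card α = 2 * Nat.card β := by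
  classical
  have := Fintype.ofFinite β
  rw [← Nat.card_congr (Equiv.sigmaFiberEquiv φ), Nat.card_sigma]
  simp only [h, Finset.sum_const, Finset.card_univ, smul_eq_mul, Nat.card_eq_fintype_card]
  ring

/-- `|K : H ∩ K| · |H ∩ K| = |K|` -/
theorem relIndex_mul_card_inf {G : Type*} [Group G] (H K : Subgroup G) :
    H.relIndex K * Nat.card ↥(H ⊓ K) = Nat.card K := by
  have h1 := Subgroup.card_mul_index (H.subgroupOf K)
  have h2 : Nat.card (H.subgroupOf K) = Nat.card ↥(H ⊓ K) := by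
    rw [← Subgroup.inf_subgroupOf_right]
    exact Nat.card_congr (Subgroup.subgroupOfEquivOfLe inf_le_right).toEquiv
  rw [h2] at h1
  rw [← h1, Subgroup.relIndex, Nat.mul_comm]

variable {F V G : Type*} [Field F] [AddCommGroup V] [Module F V] [Group G] [DistribMulAction G V]
  (S : Setting F V G)

/-- `w ↦ sg x w` is two-to-one from `D̃_x(H)` onto `H ∩ Q_x`. -/
theorem card_Dt_eq_two_mul [Finite V] [Finite G] (H : Subgroup G) {x : V} (hx0 : x ≠ 0)
    (hx : S.Q x = 0) : Nat.card (S.Dt H hx) = 2 * Nat.card ↥(H ⊓ S.Qs hx) := by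
  let φ : S.Dt H hx → ↥(H ⊓ S.Qs hx) := fun w =>
    ⟨S.sg x w.1, w.2.2, S.sg_mem_Qs hx w.2.1⟩
  apply card_eq_two_mul_of_fibers_two φ
  rintro ⟨g, hgH, w₀, hw₀, rfl⟩
  rw [Nat.card_eq_two_iff]
  have hw₁ : S.B x (w₀ + x) = 0 := by rw [S.B_add_self_right]; exact hw₀
  have hmem₁ : S.sg x (w₀ + x) ∈ H := by rw [S.sg_add_self hx hw₀]; exact hgH
  refine ⟨⟨⟨w₀, hw₀, hgH⟩, rfl⟩,
    ⟨⟨w₀ + x, hw₁, hmem₁⟩, Subtype.ext (S.sg_add_self hx hw₀)⟩, ?_, ?_⟩
  · intro he
    have := congrArg (fun z => z.1.1) he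
    simp only at this
    apply hx0
    have h2 : w₀ + (w₀ + x) = w₀ + w₀ := by rw [← this]
    rwa [S.vadd_cancel_left, S.vadd_self] at h2
  · ext ⟨⟨w, hw, hwH⟩, he⟩
    simp only [Set.mem_insert_iff, Set.mem_singleton_iff, Set.mem_univ, iff_true]
    have he' : S.sg x w = S.sg x w₀ := congrArg Subtype.val he
    rcases (S.sg_eq_sg_iff hx0 hx hw₀ hw).mp he'.symm with rfl | rfl
    · left; rfl
    · right; rfl

/-- `4 |Q_x| = |V|`. -/
theorem four_mul_card_Qs [Finite V] [Finite G] {x : V} (hx0 : x ≠ 0) (hx : S.Q x = 0) :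
    4 * Nat.card (S.Qs hx) = Nat.card V := by
  have h1 := card_Dt_eq_two_mul S (⊤ : Subgroup G) hx0 hx
  rw [top_inf_eq] at h1
  have h2 : Nat.card (S.Dt (⊤ : Subgroup G) hx) = Nat.card {z : V // S.B x z = 0} := by
    apply Nat.card_congr
    exact Equiv.subtypeEquivRight (fun z => by
      rw [S.mem_Dt hx]
      exact ⟨fun h => h.1, fun h => ⟨h, Subgroup.mem_top _⟩⟩)
  have h3 := S.two_mul_card_perp hx0
  omega

/-- QR: `|Q_x : H ∩ Q_x| · |D̃_x| = |x^⊥| = |V| / 2`. -/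
theorem relIndex_Qs [Finite V] [Finite G] (H : Subgroup G) {x : V} (hx0 : x ≠ 0) (hx : S.Q x = 0) :
    2 * (H.relIndex (S.Qs hx) * Nat.card (S.Dt H hx)) = Nat.card V := by
  rw [card_Dt_eq_two_mul S H hx0 hx, ← four_mul_card_Qs S hx0 hx,
    ← relIndex_mul_card_inf H (S.Qs hx)]
  ring

end Cfsg.Agent.Lib.Helper12.Om2Leaf
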