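/-
helper12: leaf OLk (`relIndex_ge_of_mid`) of helper11's S2146 market (`notes/S2146_leaves.lean`),
in `_of` form: the conclusion of leaf C3 (`exists_moves_three`) for `U = D̃_x` is a hypothesis.
-/
import Mathlib
import Cfsg.Agent.Lib.Helper11.Om2Tools
import Cfsg.Agent.Lib.Helper12.Om2QR
import Cfsg.Agent.Lib.Helper12.Om2COV
import Cfsg.Agent.Lib.Helper13.Om2GC
import Cfsg.Agent.Lib.Helper15.Om2GB
import Cfsg.Agent.Lib.Helper16.Om2C2a
import Cfsg.Agent.Lib.Helper16.Om2C2b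

set_option autoImplicit false

open Cfsg.Agent.Lib.Helper11.Om2 MulAction
open scoped Pointwise

namespace Cfsg.Agent.Lib.Helper12.Om2Leaf

variable {F V G : Type*} [Field F] [AddCommGroup V] [Module F V] [Group G] [DistribMulAction G V]
  (S : Setting F V G)

/-- removing `0, x` from a subspace through `x` -/
theorem card_sub_ne_ne [Finite V] (U : Submodule F V) {x : V} (hx0 : x ≠ 0) (hxU : x ∈ U) :
    Nat.card {w : V // w ∈ U ∧ w ≠ 0 ∧ w ≠ x} = Nat.card U - 2 := by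
  classical
  have h1 : {w : V | w ∈ U ∧ w ≠ 0 ∧ w ≠ x} = (U : Set V) \ {0, x} := by
    ext w
    simp only [Set.mem_ofPred_eq, Set.mem_sdiff, SetLike.mem_coe, Set.mem_insert_iff,
      Set.mem_singleton_iff, not_or]
  have hsub : ({0, x} : Set V) ⊆ (U : Set V) := by
    intro w hw
    rcases hw with rfl | rfl
    · exact U.zero_mem
    · exact hxU
  change Nat.card ↥{w : V | w ∈ U ∧ w ≠ 0 ∧ w ≠ x} = _
  rw [Nat.card_coe_set_eq, h1, Set.ncard_sdiff hsub (Set.toFinite _), Set.ncard_pair hx0.symm]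
  rfl

/-- splitting `U ∖ {0, x}` by the value of `Q` -/
theorem card_sub_split [Finite V] (U : Submodule F V) {x : V} (hx0 : x ≠ 0) (hxU : x ∈ U) :
    Nat.card {w : V // w ∈ U ∧ w ≠ 0 ∧ w ≠ x ∧ S.Q w = 0} +
      Nat.card {w : V // w ∈ U ∧ w ≠ 0 ∧ w ≠ x ∧ S.Q w = 1} = Nat.card U - 2 := by
  classical
  rw [← card_sub_ne_ne U hx0 hxU]
  change Nat.card ↥{w : V | w ∈ U ∧ w ≠ 0 ∧ w ≠ x ∧ S.Q w = 0} +
    Nat.card ↥{w : V | w ∈ U ∧ w ≠ 0 ∧ w ≠ x ∧ S.Q w = 1} =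
    Nat.card ↥{w : V | w ∈ U ∧ w ≠ 0 ∧ w ≠ x}
  rw [Nat.card_coe_set_eq, Nat.card_coe_set_eq, Nat.card_coe_set_eq,
    ← Set.ncard_union_eq _ (Set.toFinite _) (Set.toFinite _)]
  · congr 1
    ext w
    simp only [Set.mem_union, Set.mem_ofPred_eq]
    constructor
    · rintro (h | h)
      · exact ⟨h.1, h.2.1, h.2.2.1⟩
      · exact ⟨h.1, h.2.1, h.2.2.1⟩
    · rintro ⟨h1, h2, h3⟩
      rcases S.h01 (S.Q w) with h | h
      · exact Or.inl ⟨h1, h2, h3, h⟩
      · exact Or.inr ⟨h1, h2, h3, h⟩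
  · rw [Set.disjoint_left]
    intro w h0 h1
    have := h0.2.2.2.symm.trans h1.2.2.2
    exact zero_ne_one this

/-- OLk, with the conclusion of C3 as a hypothesis -/
theorem relIndex_ge_of_mid_of [Finite V] [Finite G] {m : ℕ} (hV : Nat.card V = 2 ^ (2 * m))
    (hs : Nat.card {v : V // S.Q v = 0} = 2 ^ (2 * m - 1) + 2 ^ (m - 1)) (hm : 4 ≤ m)
    (H : Subgroup G) {x : V} (hx0 : x ≠ 0) (hx : S.Q x = 0)
    (h : Nat.card (S.Dt H hx) = 2 ^ m)
    (hC3 : m = 4 → (∀ u ∈ S.Dt H hx, S.Q u = 0) →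
      ∃ u0 ∈ S.Dt H hx, u0 ≠ 0 ∧ u0 ≠ x ∧ ∃ g : Fin 3 → G, (∀ i, g i • x = x) ∧
        (∀ i, u0 ∈ g i • ((S.Dt H hx : Submodule F V) : Set V)) ∧
        Function.Injective (fun i => g i • ((S.Dt H hx : Submodule F V) : Set V))) :
    2 ^ (m - 1) * (2 ^ m - 1) ≤ H.relIndex (stabilizer G x) := by
  classical
  -- notation
  obtain ⟨k, rfl⟩ : ∃ k, m = k + 1 := ⟨m - 1, by omega⟩
  set a : ℕ := 2 ^ k with ha
  have ha8 : 8 ≤ a := by
    have : 2 ^ 3 ≤ 2 ^ k := Nat.pow_le_pow_right (by norm_num) (by omega)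
    omega
  have e1 : 2 ^ (k + 1) = 2 * a := by rw [pow_succ]; omega
  have e2 : 2 ^ (2 * (k + 1)) = 4 * (a * a) := by
    have : 2 * (k + 1) = k + k + 2 := by ring
    rw [this, pow_add, pow_add]
    ring
  have e3 : 2 ^ (2 * (k + 1) - 2) = a * a := by
    have : 2 * (k + 1) - 2 = k + k := by omega
    rw [this, pow_add]
  have e4 : k + 1 - 1 = k := by omega
  rw [e4, e1]
  rw [e1] at h
  set U := S.Dt H hx with hUdef
  have hxU : x ∈ U := S.self_mem_Dt H hx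
  have hU : ∀ u ∈ U, S.B x u = 0 := S.Dt_le_perp hx
  have hinv : ∀ p ∈ H, p • x = x → ∀ u ∈ U, p • u ∈ U := fun p hp hpx u hu =>
    S.smul_mem_Dt hx hp hpx hu
  -- the stabiliser bound
  have hSB := S.stab_bound H hx U hxU hU hinv
  have hQR := Cfsg.Agent.Lib.Helper12.Om2Leaf.relIndex_Qs S H hx0 hx
  rw [hV, e2, h] at hQR
  have hr : H.relIndex (S.Qs hx) = a := by
    have h1 : (4 * a) * H.relIndex (S.Qs hx) = (4 * a) * a := by nlinarith
    exact Nat.eq_of_mul_eq_mul_left (by omega) h1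
  rw [hr] at hSB
  set t := (stabilizer G (U : Set V)).relIndex (stabilizer G x) with ht
  -- it suffices to show `2 a - 1 ≤ t`
  suffices hsuff : 2 * a - 1 ≤ t by
    calc a * (2 * a - 1) ≤ a * t := Nat.mul_le_mul_left _ hsuff
      _ = t * a := mul_comm _ _
      _ ≤ _ := hSB
  -- counting
  have hN0 := Cfsg.Agent.Lib.Helper13.Om2Leaf.card_type_zero S hV hs (by omega) hx0 hx
  have hN1 := Cfsg.Agent.Lib.Helper13.Om2Leaf.card_type_one S hV hs (by omega) hx0 hx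
  rw [e3, e4, ← ha] at hN0 hN1
  have hsplit := card_sub_split S U hx0 hxU
  rw [h] at hsplit
  have hc16 : 16 ≤ Nat.card U := by rw [h]; omega
  obtain ⟨u0, hu0U, hu00, hu0x, hQu0⟩ := Cfsg.Agent.Lib.Helper15.Om2Leaf.exists_sing_of_card S hx U hxU hU hc16
  by_cases hns : ∃ u1 ∈ U, S.Q u1 = 1
  · -- both types occur
    obtain ⟨u1, hu1U, hQu1⟩ := hns
    have hu10 : u1 ≠ 0 := by
      rintro rfl
      rw [S.Q_zero] at hQu1
      exact zero_ne_one hQu1
    have hu1x : u1 ≠ x := by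
      rintro rfl
      rw [hx] at hQu1
      exact zero_ne_one hQu1
    obtain ⟨g0, hg0x, hg0u, hg0inj⟩ := Cfsg.Agent.Lib.Helper16.Om2Leaf.exists_moves_two S hV hm hx0 hx U hxU hU
      (by rw [h]; omega) (by rw [h, e1]) hu0U hu00 hu0x
    obtain ⟨g1, hg1x, hg1u, hg1inj⟩ := Cfsg.Agent.Lib.Helper16.Om2Leaf.exists_moves_two S hV hm hx0 hx U hxU hU
      (by rw [h]; omega) (by rw [h, e1]) hu1U hu10 hu1x
    have hc0 := Cfsg.Agent.Lib.Helper12.Om2Leaf.covering S hV hm hx0 hx U hxU hU g0 hg0x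
      (fun i => ⟨u0, hu0U, hg0u i⟩) hu00 hu0x hg0inj
    have hc1 := Cfsg.Agent.Lib.Helper12.Om2Leaf.covering S hV hm hx0 hx U hxU hU g1 hg1x
      (fun i => ⟨u1, hu1U, hg1u i⟩) hu10 hu1x hg1inj
    rw [hQu0, hN0] at hc0
    rw [hQu1, hN1] at hc1
    rw [Nat.card_fin] at hc0 hc1
    set n0 := Nat.card {w : V // w ∈ U ∧ w ≠ 0 ∧ w ≠ x ∧ S.Q w = 0} with hn0
    set n1 := Nat.card {w : V // w ∈ U ∧ w ≠ 0 ∧ w ≠ x ∧ S.Q w = 1} with hn1
    have hsum : (2 * a - 2) * (2 * a + 2) ≤ (2 * a - 2) * t := by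
      have h2 : (2 * a - 2) * (2 * a + 2) = 2 * (a * a + a - 2) + 2 * (a * a - a) := by
        have h3 : a ≤ a * a := Nat.le_mul_self a
        zify [show 2 ≤ 2 * a by omega, show 2 ≤ a * a + a by nlinarith, h3]
        ring
      rw [h2, ← hsplit, add_mul]
      exact Nat.add_le_add hc0 hc1
    have := Nat.le_of_mul_le_mul_left hsum (by omega)
    omega
  · -- `U` is totally singular
    push Not at hns
    have hts : ∀ u ∈ U, S.Q u = 0 := fun u hu => S.eq_zero_of_ne_one (hns u hu)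
    have hn1 : Nat.card {w : V // w ∈ U ∧ w ≠ 0 ∧ w ≠ x ∧ S.Q w = 1} = 0 := by
      rw [Nat.card_eq_zero]
      left
      exact ⟨fun w => hns w.1 w.2.1 w.2.2.2.2⟩
    rw [hn1, add_zero] at hsplit
    by_cases hk : 4 ≤ k
    · -- `m ≥ 5`: four translates
      obtain ⟨g0, hg0x, hg0u, hg0inj⟩ := Cfsg.Agent.Lib.Helper16.Om2Leaf.exists_moves_four S hV (by omega) hx0 hx U hxU hU
        (by rw [h]; omega) (by rw [h, e1]) hu0U hu00 hu0x
      have hc0 := Cfsg.Agent.Lib.Helper12.Om2Leaf.covering S hV hm hx0 hx U hxU hU g0 hg0x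
        (fun i => ⟨u0, hu0U, hg0u i⟩) hu00 hu0x hg0inj
      rw [hQu0, hN0, hsplit, Nat.card_fin] at hc0
      have hsum : (2 * a - 2) * (2 * a + 4) ≤ (2 * a - 2) * t := by
        have h2 : (2 * a - 2) * (2 * a + 4) = 4 * (a * a + a - 2) := by
          zify [show 2 ≤ 2 * a by omega, show 2 ≤ a * a + a by nlinarith]
          ring
        rw [h2]
        exact hc0
      have := Nat.le_of_mul_le_mul_left hsum (by omega)
      omega
    · -- `m = 4`: three translates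
      have hk3 : k = 3 := by omega
      subst hk3
      have ha' : a = 8 := by rw [ha]; norm_num
      obtain ⟨u0', hu0U', hu00', hu0x', g0, hg0x, hg0u, hg0inj⟩ :=
        hC3 rfl hts
      have hc0 := Cfsg.Agent.Lib.Helper12.Om2Leaf.covering S hV hm hx0 hx U hxU hU g0 hg0x hg0u hu00' hu0x' hg0inj
      rw [hts u0' hu0U', hN0, hsplit, Nat.card_fin, ha'] at hc0
      rw [ha']
      omega

end Cfsg.Agent.Lib.Helper12.Om2Leaf
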