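/-
helper12: shared vocabulary for S4864 (Isaacs–Navarro: the normalizer of a Sylow `p`-subgroup meets
every real class, when all real irreducible characters have `p'`-degree and `O^{p'}(G)` is solvable).
-/
import Mathlib
import Cfsg.Prelude.Def_Blocks

set_option autoImplicit false

namespace Cfsg.Agent.Lib.Helper12.RealN

open Cfsg

universe u

/-- `G`-conjugacy of real-valued irreducible characters of a subgroup `K`, in the shape of S4866. -/
def chRel (G : Type u) [Group G] (K : Subgroup G) :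
    {θ : IrrCharacter ↥K // ∀ k : ↥K, ((θ : ↥K → ℂ) k).im = 0} →
    {θ : IrrCharacter ↥K // ∀ k : ↥K, ((θ : ↥K → ℂ) k).im = 0} → Prop :=
  fun θ η => ∃ g : G, ∀ k k' : ↥K, (k' : G) = g * (k : G) * g⁻¹ →
    (η.1 : ↥K → ℂ) k' = (θ.1 : ↥K → ℂ) k

/-- `G`-conjugacy of the `K`-real elements of a subgroup `K`, in the shape of S4866. -/
def elRel (G : Type u) [Group G] (K : Subgroup G) :
    {x : ↥K // IsConj x x⁻¹} → {x : ↥K // IsConj x x⁻¹} → Prop :=
  fun x y => ∃ g : G, (y.1 : G) = g * x.1 * g⁻¹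

/-- The normalizer of a Sylow subgroup, in the shape of S4864. -/
abbrev NP {G : Type u} [Group G] {p : ℕ} (P : Sylow p G) : Subgroup G :=
  Subgroup.normalizer ((P : Subgroup G) : Set G)

/-- `C_K(P)`. -/
abbrev CP {G : Type u} [Group G] {p : ℕ} (K : Subgroup G) (P : Sylow p G) : Subgroup G :=
  K ⊓ Subgroup.centralizer ((P : Subgroup G) : Set G)

end Cfsg.Agent.Lib.Helper12.RealN
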