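/-
helper12: shared vocabulary for S4861 / S4862 / S4863 (Isaacs–Navarro: groups whose real irreducible
characters have degrees prime to `p`, with `O^{p'}(G)` solvable).
-/
import Mathlib
import Cfsg.Prelude.Def_Blocks

set_option autoImplicit false

namespace Cfsg.Agent.Lib.Helper12.RealP

open Cfsg

universe u

/-- The subgroup generated by the `ℓ`-elements (`O^{ℓ'}(G)`), in the shape of the frozen statements. -/
def Ogen (ℓ : ℕ) (G : Type u) [Group G] : Subgroup G :=
  Subgroup.closure {g : G | ∃ k : ℕ, orderOf g = ℓ ^ k}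

/-- The hypothesis of the three rows: `O^{p'}(G)` is solvable and every real-valued irreducible
character has degree prime to `p`. -/
def Hyp (p : ℕ) (G : Type u) [Group G] : Prop :=
  Group.IsSolvable ↥(Ogen p G) ∧
    ∀ χ : IrrCharacter G, (∀ g : G, ((χ : G → ℂ) g).im = 0) → ¬ p ∣ charDegree (χ : G → ℂ)

theorem mem_gens_conj (ℓ : ℕ) {G : Type u} [Group G] (g : G) {x : G}
    (hx : x ∈ {g : G | ∃ k : ℕ, orderOf g = ℓ ^ k}) :
    g * x * g⁻¹ ∈ {g : G | ∃ k : ℕ, orderOf g = ℓ ^ k} := by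
  obtain ⟨k, hk⟩ := hx
  refine ⟨k, ?_⟩
  have h : g * x * g⁻¹ = MulAut.conj g x := by simp
  rw [h, MulEquiv.orderOf_eq, hk]

instance Ogen_normal (ℓ : ℕ) (G : Type u) [Group G] : (Ogen ℓ G).Normal := by
  constructor
  intro n hn g
  unfold Ogen at hn ⊢
  induction hn using Subgroup.closure_induction with
  | mem x hx => exact Subgroup.subset_closure (mem_gens_conj ℓ g hx)
  | one => simp
  | mul x y _ _ hx hy =>
    have : g * (x * y) * g⁻¹ = (g * x * g⁻¹) * (g * y * g⁻¹) := by group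
    rw [this]
    exact Subgroup.mul_mem _ hx hy
  | inv x _ hx =>
    have : g * x⁻¹ * g⁻¹ = (g * x * g⁻¹)⁻¹ := by group
    rw [this]
    exact Subgroup.inv_mem _ hx

theorem mem_Ogen_of_orderOf (ℓ : ℕ) {G : Type u} [Group G] {x : G} {k : ℕ}
    (hx : orderOf x = ℓ ^ k) : x ∈ Ogen ℓ G :=
  Subgroup.subset_closure ⟨k, hx⟩

end Cfsg.Agent.Lib.Helper12.RealP
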