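import Cfsg.Agent.Lib.Helper12.SPT2Defs

/-!
# S3713, super-leaf T2: the group-side identities of helper18's `notes/S3713_T2_plan.md` (helper12)
-/

set_option autoImplicit false
set_option linter.unusedSimpArgs false
set_option linter.unusedTactic false
set_option linter.unreachableTactic false
set_option linter.unnecessarySeqFocus false

namespace Cfsg.Agent.Lib.Helper12.SPT2

open Matrix Cfsg.Agent.Lib.Helper5 Cfsg.Agent.Lib.Helper14.SpPerfect Cfsg.Agent.Lib.Helper18.SP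

variable {F : Type*} [Field F] {n : ℕ}

/-! ### root subgroups -/

theorem yE_eq_yR (o p : Fin n) : yE n F o p = yR o p 1 := by
  unfold yE yR
  rw [one_smul]

theorem xR_zero (o p : Fin n) : xR o p (0 : F) = 1 := by
  unfold xR
  rw [zero_smul, E_zero_right]

theorem yR_zero (o p : Fin n) : yR o p (0 : F) = 1 := by
  unfold yR
  rw [zero_smul, E_zero_right]

theorem xR_add {o p : Fin n} (hop : o ≠ p) (t s : F) : xR o p t * xR o p s = xR o p (t + s) := by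
  unfold xR
  rw [E_mul_right _ _ _ (xR_orth hop t) (xR_orth hop s), ω_smul_left, ω_smul_right, ω_fV_fV, mul_zero,
    mul_zero, Tr_zero, mul_one, add_smul]

theorem yR_add {o p : Fin n} (hop : o ≠ p) (t s : F) : yR o p t * yR o p s = yR o p (t + s) := by
  unfold yR
  rw [E_mul_right _ _ _ (yR_orth hop t) (yR_orth hop s), ω_smul_left, ω_smul_right, ω_eV_eV, mul_zero,
    mul_zero, Tr_zero, mul_one, add_smul]

theorem xR_inv {o p : Fin n} (hop : o ≠ p) (t : F) : (xR o p t)⁻¹ = xR o p (-t) := by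
  rw [inv_eq_iff_mul_eq_one, xR_add hop, add_neg_cancel, xR_zero]

theorem yR_inv {o p : Fin n} (hop : o ≠ p) (t : F) : (yR o p t)⁻¹ = yR o p (-t) := by
  rw [inv_eq_iff_mul_eq_one, yR_add hop, add_neg_cancel, yR_zero]

theorem nR_inv {o p : Fin n} (hop : o ≠ p) :
    (nR o p : Sp n F)⁻¹ = xR o p (-1) * yR o p 1 * xR o p (-1) := by
  unfold nR
  rw [_root_.mul_inv_rev, _root_.mul_inv_rev, xR_inv hop, yR_inv hop, neg_neg, mul_assoc]

/-- `X(-1) Y(1) = N⁻¹ X(1)` -/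
theorem xR_yR_eq_nR_inv {o p : Fin n} (hop : o ≠ p) :
    xR o p (-1 : F) * yR o p 1 = (nR o p)⁻¹ * xR o p 1 := by
  rw [nR_inv hop, mul_assoc, xR_add hop, neg_add_cancel, xR_zero, mul_one]

/-- `N⁻¹ = X(-1) · y · X(-1)` -/
theorem nR_inv_eq_yE {o p : Fin n} (hop : o ≠ p) :
    (nR o p : Sp n F)⁻¹ = xR o p (-1) * yE n F o p * xR o p (-1) := by
  rw [nR_inv hop, yE_eq_yR]

/-! ### the torus -/

/-- two elements of `S_k` agreeing on `e_k`, `f_k` are equal -/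
theorem ext_SS {k : Fin n} {g h : Sp n F} (hg : g ∈ SS n F k) (hh : h ∈ SS n F k)
    (h1 : act g (eV n F k) = act h (eV n F k)) (h2 : act g (fV n F k) = act h (fV n F k)) : g = h := by
  apply sp_ext_basis
  · intro j
    by_cases hjk : j = k
    · rw [hjk]; exact h1
    · rw [(hg j hjk).1, (hh j hjk).1]
  · intro j
    by_cases hjk : j = k
    · rw [hjk]; exact h2
    · rw [(hg j hjk).2, (hh j hjk).2]

theorem hT_one (k : Fin n) : hT k (1 : F) = 1 := by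
  apply ext_SS (hT_mem_SS k 1) (one_mem _)
  · rw [hT_eV one_ne_zero, one_smul, act_one]
  · rw [hT_fV one_ne_zero, inv_one, one_smul, act_one]

theorem hT_mul (k : Fin n) {s s' : F} (hs : s ≠ 0) (hs' : s' ≠ 0) :
    hT k s * hT k s' = hT k (s * s') := by
  apply ext_SS (mul_mem (hT_mem_SS k s) (hT_mem_SS k s')) (hT_mem_SS k _)
  · rw [act_mul, hT_eV hs', act_smul, hT_eV hs, hT_eV (mul_ne_zero hs hs'), smul_smul, mul_comm]
  · rw [act_mul, hT_fV hs', act_smul, hT_fV hs, hT_fV (mul_ne_zero hs hs'), smul_smul, mul_inv, mul_comm]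

theorem hT_inv (k : Fin n) {s : F} (hs : s ≠ 0) : (hT k s)⁻¹ = hT k s⁻¹ := by
  rw [inv_eq_iff_mul_eq_one, hT_mul k hs (inv_ne_zero hs), mul_inv_cancel₀ hs, hT_one]

theorem hT_mem_TT (k : Fin n) {s : F} (hs : s ≠ 0) : hT k s ∈ TT n F k :=
  ⟨hT_mem_SS k s, s, hs, hT_eV hs, hT_fV hs⟩

theorem hT_commute {o p : Fin n} (hop : o ≠ p) (s s' : F) : Commute (hT o s) (hT p s') :=
  GJ_commute (Set.disjoint_singleton.mpr hop) (hT_mem_SS o s) (hT_mem_SS p s')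

theorem hT_inv_eV {k : Fin n} {s : F} (hs : s ≠ 0) : act (hT k s)⁻¹ (eV n F k) = s⁻¹ • eV n F k := by
  rw [hT_inv k hs, hT_eV (inv_ne_zero hs)]

theorem hT_inv_fV {k : Fin n} {s : F} (hs : s ≠ 0) : act (hT k s)⁻¹ (fV n F k) = s • fV n F k := by
  rw [hT_inv k hs, hT_fV (inv_ne_zero hs), inv_inv]

/-- `T_{c w}(t) = T_w(c² t)` -/
theorem Tr_smul_vec (w : V n F) (c t : F) : Tr (c • w) t = Tr w (c ^ 2 * t) := by
  apply sp_ext'
  intro x
  rw [act_Tr, act_Tr, ω_smul_right]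
  module

/-! ### conjugation by the torus -/

theorem hT_o_conj_xR {o p : Fin n} (hop : o ≠ p) {s : F} (hs : s ≠ 0) (t : F) :
    hT o s * xR o p t * (hT o s)⁻¹ = xR o p (s * t) := by
  unfold xR
  rw [conj_E, hT_eV hs, act_smul, hT_fV_of_ne hop.symm, E_smul_smul _ _ _ (xR_orth hop t), smul_smul]

theorem hT_p_conj_xR {o p : Fin n} (hop : o ≠ p) {s : F} (hs : s ≠ 0) (t : F) :
    hT p s * xR o p t * (hT p s)⁻¹ = xR o p (s⁻¹ * t) := by
  unfold xR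
  rw [conj_E, hT_eV_of_ne hop, act_smul, hT_fV hs, smul_smul, mul_comm]

theorem hT_o_conj_yR {o p : Fin n} (hop : o ≠ p) {s : F} (hs : s ≠ 0) (t : F) :
    hT o s * yR o p t * (hT o s)⁻¹ = yR o p (s⁻¹ * t) := by
  unfold yR
  rw [conj_E, hT_fV hs, act_smul, hT_eV_of_ne hop.symm, E_smul_smul _ _ _ (yR_orth hop t), smul_smul]

theorem hT_p_conj_yR {o p : Fin n} (hop : o ≠ p) {s : F} (hs : s ≠ 0) (t : F) :
    hT p s * yR o p t * (hT p s)⁻¹ = yR o p (s * t) := by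
  unfold yR
  rw [conj_E, hT_fV_of_ne hop, act_smul, hT_eV hs, smul_smul, mul_comm]

theorem hT_conj_Tr_eV {k : Fin n} {s : F} (hs : s ≠ 0) (t : F) :
    hT k s * Tr (eV n F k) t * (hT k s)⁻¹ = Tr (eV n F k) (s ^ 2 * t) := by
  rw [conj_Tr', hT_eV hs, Tr_smul_vec]

theorem hT_conj_Tr_fV {k : Fin n} {s : F} (hs : s ≠ 0) (t : F) :
    hT k s * Tr (fV n F k) t * (hT k s)⁻¹ = Tr (fV n F k) ((s⁻¹) ^ 2 * t) := by
  rw [conj_Tr', hT_fV hs, Tr_smul_vec]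

theorem hR_conj_xR {o p : Fin n} (hop : o ≠ p) {s : F} (hs : s ≠ 0) (t : F) :
    hR o p s * xR o p t * (hR o p s)⁻¹ = xR o p (s ^ 2 * t) := by
  unfold hR
  have e : hT o s * hT p s⁻¹ * xR o p t * (hT o s * hT p s⁻¹)⁻¹ =
      hT o s * (hT p s⁻¹ * xR o p t * (hT p s⁻¹)⁻¹) * (hT o s)⁻¹ := by group
  rw [e, hT_p_conj_xR hop (inv_ne_zero hs), hT_o_conj_xR hop hs, inv_inv]
  congr 1
  ring

theorem hR_conj_yR {o p : Fin n} (hop : o ≠ p) {s : F} (hs : s ≠ 0) (t : F) :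
    hR o p s * yR o p t * (hR o p s)⁻¹ = yR o p ((s⁻¹) ^ 2 * t) := by
  unfold hR
  have e : hT o s * hT p s⁻¹ * yR o p t * (hT o s * hT p s⁻¹)⁻¹ =
      hT o s * (hT p s⁻¹ * yR o p t * (hT p s⁻¹)⁻¹) * (hT o s)⁻¹ := by group
  rw [e, hT_p_conj_yR hop (inv_ne_zero hs), hT_o_conj_yR hop hs]
  congr 1
  ring

/-! ### the hard-case identity -/

/-- `X γ * Y 1 = Y δ⁻¹ * h δ * X (γ / δ)` for `δ = 1 + γ ≠ 0` -/
theorem xR_mul_yR {o p : Fin n} (hop : o ≠ p) (γ : F) (hδ : 1 + γ ≠ 0) :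
    xR o p γ * yR o p 1 = yR o p (1 + γ)⁻¹ * hR o p (1 + γ) * xR o p (γ * (1 + γ)⁻¹) := by
  have hδ' : (1 + γ)⁻¹ ≠ 0 := inv_ne_zero hδ
  apply ext_GJ2 (mul_mem (xR_mem o p _) (yR_mem o p _))
    (mul_mem (mul_mem (yR_mem o p _) (hR_mem o p _)) (xR_mem o p _))
  · unfold hR
    simp only [act_mul, act_add, act_sub, act_smul, xR_eV_o hop, xR_eV_p hop, yR_eV_o hop, yR_eV_p hop,
      hT_eV hδ, hT_eV hδ', hT_eV_of_ne hop, hT_eV_of_ne hop.symm]
    match_scalars <;> field_simp <;> ring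
  · unfold hR
    simp only [act_mul, act_add, act_sub, act_smul, xR_eV_o hop, xR_eV_p hop, yR_eV_o hop, yR_eV_p hop,
      hT_eV hδ, hT_eV hδ', hT_eV_of_ne hop, hT_eV_of_ne hop.symm]
    match_scalars <;> field_simp <;> ring
  · unfold hR
    simp only [act_mul, act_add, act_sub, act_smul, xR_fV_o hop, xR_fV_p hop, yR_fV_o hop, yR_fV_p hop,
      hT_fV hδ, hT_fV hδ', hT_fV_of_ne hop, hT_fV_of_ne hop.symm]
    match_scalars <;> field_simp <;> ring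
  · unfold hR
    simp only [act_mul, act_add, act_sub, act_smul, xR_fV_o hop, xR_fV_p hop, yR_fV_o hop, yR_fV_p hop,
      hT_fV hδ, hT_fV hδ', hT_fV_of_ne hop, hT_fV_of_ne hop.symm]
    match_scalars <;> field_simp <;> ring

/-! ### the identities for `β2` -/

theorem zR_inv (o p : Fin n) : (zR o p : Sp n F)⁻¹ = E (fV n F o) (fV n F p) := by
  unfold zR
  rw [E_inv _ _ (zR_orth o p), neg_neg]

/-- `X t = (Tr f_p t)⁻¹ (Tr e_o t)⁻¹ Z (Tr e_o t) Z⁻¹` -/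
theorem xR_eq_comm {o p : Fin n} (hop : o ≠ p) (t : F) :
    xR o p t = (Tr (fV n F p) t)⁻¹ * (Tr (eV n F o) t)⁻¹ * zR o p * Tr (eV n F o) t * (zR o p)⁻¹ := by
  have h1 : (zR o p : Sp n F) * Tr (eV n F o) t * (zR o p)⁻¹ =
      Tr (eV n F o) t * Tr (fV n F p) t * xR o p t := by
    rw [conj_Tr', zR_eV_o hop, Tr_add _ _ _ (ω_e_f_ne hop)]
    rfl
  calc xR o p t = (Tr (fV n F p) t)⁻¹ * (Tr (eV n F o) t)⁻¹ *
        (Tr (eV n F o) t * Tr (fV n F p) t * xR o p t) := by group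
    _ = (Tr (fV n F p) t)⁻¹ * (Tr (eV n F o) t)⁻¹ * (zR o p * Tr (eV n F o) t * (zR o p)⁻¹) := by rw [h1]
    _ = _ := by group

/-- `N Z N⁻¹ = Z⁻¹` -/
theorem nR_conj_zR {o p : Fin n} (hop : o ≠ p) :
    (nR o p : Sp n F) * zR o p * (nR o p)⁻¹ = (zR o p)⁻¹ := by
  rw [zR_inv]
  unfold zR
  rw [conj_E, act_neg, nR_fV_o hop, nR_fV_p hop, neg_neg, E_comm _ _ (ω_fV_fV p o)]

/-- first local step: `X1 Z X1⁻¹ = E (f_o + f_p) (-f_p)` -/
theorem xR_conj_zR {o p : Fin n} (hop : o ≠ p) :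
    xR o p (1 : F) * zR o p * (xR o p 1)⁻¹ = E (fV n F o + fV n F p) (-fV n F p) := by
  unfold zR
  rw [conj_E, act_neg, xR_fV_o hop, xR_fV_p hop, one_smul]

/-- second local step: `Y(-1) E (f_o + f_p) (-f_p) Y(-1)⁻¹ = E f_p (f_o - f_p)` -/
theorem yR_conj_step {o p : Fin n} (hop : o ≠ p) :
    yR o p (-1 : F) * E (fV n F o + fV n F p) (-fV n F p) * (yR o p (-1))⁻¹ =
      E (fV n F p) (fV n F o - fV n F p) := by
  rw [conj_E, act_neg, act_add, yR_fV_o hop, yR_fV_p hop]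
  congr 1 <;> module

/-- third local step: `X1 E f_p (f_o - f_p) X1⁻¹ = E f_p f_o = Z⁻¹` -/
theorem xR_conj_step {o p : Fin n} (hop : o ≠ p) :
    xR o p (1 : F) * E (fV n F p) (fV n F o - fV n F p) * (xR o p 1)⁻¹ = (zR o p)⁻¹ := by
  rw [zR_inv, conj_E, act_sub, xR_fV_o hop, xR_fV_p hop, E_comm _ _ (ω_fV_fV o p)]
  congr 1
  module

/-- `(Tr (-f_o) t)⁻¹ (Tr e_p t)⁻¹ Z⁻¹ (Tr e_p t) Z = Y(-t)` -/
theorem yR_eq_comm {o p : Fin n} (hop : o ≠ p) (t : F) :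
    (Tr (-fV n F o) t)⁻¹ * (Tr (eV n F p) t)⁻¹ * (zR o p)⁻¹ * Tr (eV n F p) t * zR o p = yR o p (-t) := by
  have hz : act (zR o p : Sp n F)⁻¹ (eV n F p) = eV n F p + -fV n F o := by
    rw [zR_inv, act_E _ _ _ (ω_fV_fV o p), ω_e_f_ne hop.symm, ω_e_f_self]
    module
  have horth : ω n F (eV n F p) (-fV n F o) = 0 := by rw [ω_neg_right, ω_e_f_ne hop.symm, neg_zero]
  have h1 : (zR o p : Sp n F)⁻¹ * Tr (eV n F p) t * zR o p =
      Tr (eV n F p) t * Tr (-fV n F o) t * yR o p (-t) := by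
    have := conj_Tr' ((zR o p : Sp n F)⁻¹) (eV n F p) t
    rw [inv_inv, hz, Tr_add _ _ _ horth] at this
    rw [this]
    congr 1
    unfold yR
    rw [E_comm _ _ (by rw [ω_smul_right, horth, mul_zero]), smul_neg, ← neg_smul,
      ← E_smul_smul _ _ _ (ω_f_e_ne hop)]
  calc (Tr (-fV n F o) t)⁻¹ * (Tr (eV n F p) t)⁻¹ * (zR o p)⁻¹ * Tr (eV n F p) t * zR o p
      = (Tr (-fV n F o) t)⁻¹ * (Tr (eV n F p) t)⁻¹ * ((zR o p)⁻¹ * Tr (eV n F p) t * zR o p) := by group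
    _ = (Tr (-fV n F o) t)⁻¹ * (Tr (eV n F p) t)⁻¹ *
        (Tr (eV n F p) t * Tr (-fV n F o) t * yR o p (-t)) := by rw [h1]
    _ = _ := by group

end Cfsg.Agent.Lib.Helper12.SPT2
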