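import Cfsg.Agent.Lib.Helper20.SPT2Calc
import Cfsg.Agent.Lib.Helper12.SPT2Id

/-!
# S3713, T2: the group-side identities (G1)–(G3) on helper20's names `Xg, Yg, Zg, νg, hT` (helper12)

Everything is a pure computation in `Sp n F`; the proofs go through `Cfsg.Agent.Lib.Helper12.SPT2` (same bodies,
bridged by `rfl`).
-/

set_option autoImplicit false
set_option linter.unusedSimpArgs false
set_option linter.unusedTactic false
set_option linter.unreachableTactic false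
set_option linter.unnecessarySeqFocus false

namespace Cfsg.Agent.Lib.Helper12.SPT2G

open Matrix Cfsg.Agent.Lib.Helper5 Cfsg.Agent.Lib.Helper14.SpPerfect Cfsg.Agent.Lib.Helper18.SP
open Cfsg.Agent.Lib.Helper20.SPT2

variable {n : ℕ} {F : Type*} [Field F] {o p : Fin n}

/-! ### bridges -/

theorem Xg_eq (t : F) : Xg n F o p t = Cfsg.Agent.Lib.Helper12.SPT2.xR o p t := rfl
theorem Yg_eq (t : F) : Yg n F o p t = Cfsg.Agent.Lib.Helper12.SPT2.yR o p t := rfl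
theorem νg_eq : νg n F o p = Cfsg.Agent.Lib.Helper12.SPT2.nR o p := rfl
theorem hT_eq (k : Fin n) (c : F) : hT n F k c = Cfsg.Agent.Lib.Helper12.SPT2.hT k c := rfl

/-! ### (G1) root subgroups and memberships -/

theorem Xg_zero : Xg n F o p (0 : F) = 1 := Cfsg.Agent.Lib.Helper12.SPT2.xR_zero o p
theorem Yg_zero : Yg n F o p (0 : F) = 1 := Cfsg.Agent.Lib.Helper12.SPT2.yR_zero o p

theorem Zg_zero : Zg n F o p (0 : F) = 1 := by
  unfold Zg
  rw [zero_smul, E_zero_right]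

theorem Xg_add (hop : o ≠ p) (t s : F) : Xg n F o p t * Xg n F o p s = Xg n F o p (t + s) :=
  Cfsg.Agent.Lib.Helper12.SPT2.xR_add hop t s

theorem Yg_add (hop : o ≠ p) (t s : F) : Yg n F o p t * Yg n F o p s = Yg n F o p (t + s) :=
  Cfsg.Agent.Lib.Helper12.SPT2.yR_add hop t s

theorem Zg_orth (t : F) : ω n F (eV n F o) (t • eV n F p) = 0 := by
  rw [ω_smul_right, ω_eV_eV, mul_zero]

theorem Zg_add (t s : F) : Zg n F o p t * Zg n F o p s = Zg n F o p (t + s) := by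
  unfold Zg
  rw [E_mul_right _ _ _ (Zg_orth t) (Zg_orth s), ω_smul_left, ω_smul_right, ω_eV_eV, mul_zero,
    mul_zero, Tr_zero, mul_one, add_smul]

theorem Xg_inv (hop : o ≠ p) (t : F) : (Xg n F o p t)⁻¹ = Xg n F o p (-t) :=
  Cfsg.Agent.Lib.Helper12.SPT2.xR_inv hop t

theorem Yg_inv (hop : o ≠ p) (t : F) : (Yg n F o p t)⁻¹ = Yg n F o p (-t) :=
  Cfsg.Agent.Lib.Helper12.SPT2.yR_inv hop t

theorem Zg_inv (t : F) : (Zg n F o p t)⁻¹ = Zg n F o p (-t) := by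
  rw [inv_eq_iff_mul_eq_one, Zg_add, add_neg_cancel, Zg_zero]

theorem yE_eq_Yg : yE n F o p = Yg n F o p 1 := Cfsg.Agent.Lib.Helper12.SPT2.yE_eq_yR o p

theorem Xg_mem_GJ (t : F) : Xg n F o p t ∈ GJ n F {o, p} := Cfsg.Agent.Lib.Helper12.SPT2.xR_mem o p t
theorem Yg_mem_GJ (t : F) : Yg n F o p t ∈ GJ n F {o, p} := Cfsg.Agent.Lib.Helper12.SPT2.yR_mem o p t
theorem νg_mem_GJ : νg n F o p ∈ GJ n F {o, p} := Cfsg.Agent.Lib.Helper12.SPT2.nR_mem o p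

theorem Zg_mem_GJ (t : F) : Zg n F o p t ∈ GJ n F {o, p} :=
  E_mem_GJ (Cfsg.Agent.Lib.Helper12.SPT2.eV_o_mem o p)
    ((VJ n F {o, p}).smul_mem t (Cfsg.Agent.Lib.Helper12.SPT2.eV_p_mem o p))

theorem Xg_mem_P1 (hop : o ≠ p) (t : F) : Xg n F o p t ∈ PJ n F {o, p} o :=
  ⟨Xg_mem_GJ t, Xg_eo hop t⟩

theorem Yg_mem_P2 (hop : o ≠ p) (t : F) : Yg n F o p t ∈ PJ n F {o, p} p :=
  ⟨Yg_mem_GJ t, Yg_ep hop t⟩

/-- an element of `GJ {o, p}` fixing `e_o` and `e_p` lies in `M_{op}` -/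
theorem mem_MM_of {g : Sp n F} (hg : g ∈ GJ n F {o, p}) (ho : act g (eV n F o) = eV n F o)
    (hp : act g (eV n F p) = eV n F p) : g ∈ MM n F o p := by
  constructor
  · intro k
    by_cases hko : k = o
    · rw [hko]; exact ho
    · by_cases hkp : k = p
      · rw [hkp]; exact hp
      · have hk : k ∉ ({o, p} : Set (Fin n)) := by
          intro hk
          rcases hk with hk | hk
          · exact hko hk
          · exact hkp hk
        exact (hg k hk).1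
  · intro k hko hkp
    have hk : k ∉ ({o, p} : Set (Fin n)) := by
      intro hk
      rcases hk with hk | hk
      · exact hko hk
      · exact hkp hk
    exact (hg k hk).2

theorem Zg_mem_MM (t : F) : Zg n F o p t ∈ MM n F o p :=
  mem_MM_of (Zg_mem_GJ t) (Zg_e t o) (Zg_e t p)

theorem Tr_eo_mem_MM (c : F) : Tr (eV n F o) c ∈ MM n F o p :=
  mem_MM_of (Tr_mem_GJ (Cfsg.Agent.Lib.Helper12.SPT2.eV_o_mem o p) c) (Tr_e_e o o c) (Tr_e_e o p c)

theorem Tr_ep_mem_MM (c : F) : Tr (eV n F p) c ∈ MM n F o p :=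
  mem_MM_of (Tr_mem_GJ (Cfsg.Agent.Lib.Helper12.SPT2.eV_p_mem o p) c) (Tr_e_e p o c) (Tr_e_e p p c)

/-! ### (G2) Bruhat, the inverse of `νg`, the braid relation -/

theorem Xg_mul_Yg (hop : o ≠ p) (γ : F) (hδ : 1 + γ ≠ 0) :
    Xg n F o p γ * Yg n F o p 1 =
      Yg n F o p (1 + γ)⁻¹ * (hT n F o (1 + γ) * hT n F p (1 + γ)⁻¹) * Xg n F o p (γ / (1 + γ)) := by
  rw [div_eq_mul_inv]
  exact Cfsg.Agent.Lib.Helper12.SPT2.xR_mul_yR hop γ hδ

theorem νg_inv (hop : o ≠ p) : (νg n F o p)⁻¹ = Xg n F o p (-1) * Yg n F o p 1 * Xg n F o p (-1) :=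
  Cfsg.Agent.Lib.Helper12.SPT2.nR_inv hop

theorem Xg_Yg_eq_νg_inv (hop : o ≠ p) :
    Xg n F o p (-1) * Yg n F o p 1 = (νg n F o p)⁻¹ * Xg n F o p 1 :=
  Cfsg.Agent.Lib.Helper12.SPT2.xR_yR_eq_nR_inv hop

theorem braid (hop : o ≠ p) : Yg n F o p (-1) * Xg n F o p 1 * Yg n F o p (-1) = νg n F o p := by
  apply Cfsg.Agent.Lib.Helper12.SPT2.ext_GJ2 (mul_mem (mul_mem (Yg_mem_GJ _) (Xg_mem_GJ _)) (Yg_mem_GJ _))
    νg_mem_GJ
  · simp only [act_mul, act_add, act_sub, act_smul, act_neg, Xg_eo hop, Xg_ep hop, Yg_eo hop, Yg_ep hop,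
      νg_eo hop]
    module
  · simp only [act_mul, act_add, act_sub, act_smul, act_neg, Xg_eo hop, Xg_ep hop, Yg_eo hop, Yg_ep hop,
      νg_ep hop]
    module
  · simp only [act_mul, act_add, act_sub, act_smul, act_neg, Xg_fo hop, Xg_fp hop, Yg_fo hop, Yg_fp hop,
      νg_fo hop]
    module
  · simp only [act_mul, act_add, act_sub, act_smul, act_neg, Xg_fo hop, Xg_fp hop, Yg_fo hop, Yg_fp hop,
      νg_fp hop]
    module

/-! ### (G3) conjugations -/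

theorem hT_one (k : Fin n) : hT n F k (1 : F) = 1 := Cfsg.Agent.Lib.Helper12.SPT2.hT_one k

theorem hT_mul (k : Fin n) {s s' : F} (hs : s ≠ 0) (hs' : s' ≠ 0) :
    hT n F k s * hT n F k s' = hT n F k (s * s') := Cfsg.Agent.Lib.Helper12.SPT2.hT_mul k hs hs'

theorem hT_inv (k : Fin n) {s : F} (hs : s ≠ 0) : (hT n F k s)⁻¹ = hT n F k s⁻¹ :=
  Cfsg.Agent.Lib.Helper12.SPT2.hT_inv k hs

theorem hT_commute (hop : o ≠ p) (s s' : F) : Commute (hT n F o s) (hT n F p s') :=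
  Cfsg.Agent.Lib.Helper12.SPT2.hT_commute hop s s'

theorem hT_o_conj_Xg (hop : o ≠ p) {s : F} (hs : s ≠ 0) (t : F) :
    hT n F o s * Xg n F o p t * (hT n F o s)⁻¹ = Xg n F o p (s * t) :=
  Cfsg.Agent.Lib.Helper12.SPT2.hT_o_conj_xR hop hs t

theorem hT_p_conj_Xg (hop : o ≠ p) {s : F} (hs : s ≠ 0) (t : F) :
    hT n F p s * Xg n F o p t * (hT n F p s)⁻¹ = Xg n F o p (s⁻¹ * t) :=
  Cfsg.Agent.Lib.Helper12.SPT2.hT_p_conj_xR hop hs t

theorem hT_o_conj_Yg (hop : o ≠ p) {s : F} (hs : s ≠ 0) (t : F) :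
    hT n F o s * Yg n F o p t * (hT n F o s)⁻¹ = Yg n F o p (s⁻¹ * t) :=
  Cfsg.Agent.Lib.Helper12.SPT2.hT_o_conj_yR hop hs t

theorem hT_p_conj_Yg (hop : o ≠ p) {s : F} (hs : s ≠ 0) (t : F) :
    hT n F p s * Yg n F o p t * (hT n F p s)⁻¹ = Yg n F o p (s * t) :=
  Cfsg.Agent.Lib.Helper12.SPT2.hT_p_conj_yR hop hs t

theorem hT_o_conj_Zg (hop : o ≠ p) {s : F} (hs : s ≠ 0) (t : F) :
    hT n F o s * Zg n F o p t * (hT n F o s)⁻¹ = Zg n F o p (s * t) := by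
  unfold Zg
  rw [conj_E, hT_e o hs, act_smul, hT_e_other hop.symm, E_smul_smul _ _ _ (Zg_orth t), smul_smul]

theorem hT_p_conj_Zg (hop : o ≠ p) {s : F} (hs : s ≠ 0) (t : F) :
    hT n F p s * Zg n F o p t * (hT n F p s)⁻¹ = Zg n F o p (s * t) := by
  unfold Zg
  rw [conj_E, hT_e_other hop, act_smul, hT_e p hs, smul_smul, mul_comm]

theorem hT_conj_Tr_e (k : Fin n) {s : F} (hs : s ≠ 0) (t : F) :
    hT n F k s * Tr (eV n F k) t * (hT n F k s)⁻¹ = Tr (eV n F k) (s ^ 2 * t) :=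
  Cfsg.Agent.Lib.Helper12.SPT2.hT_conj_Tr_eV hs t

theorem hT_conj_Tr_f (k : Fin n) {s : F} (hs : s ≠ 0) (t : F) :
    hT n F k s * Tr (fV n F k) t * (hT n F k s)⁻¹ = Tr (fV n F k) ((s⁻¹) ^ 2 * t) :=
  Cfsg.Agent.Lib.Helper12.SPT2.hT_conj_Tr_fV hs t

theorem νg_inv_eo (hop : o ≠ p) : act (νg n F o p)⁻¹ (eV n F o) = -eV n F p := by
  have : act (νg n F o p)⁻¹ (act (νg n F o p) (-eV n F p)) = -eV n F p := act_inv_act _ _
  rw [act_neg, νg_ep hop, neg_neg] at this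
  exact this

theorem νg_inv_ep (hop : o ≠ p) : act (νg n F o p)⁻¹ (eV n F p) = eV n F o := by
  rw [← νg_eo hop, act_inv_act]

theorem νg_inv_fo (hop : o ≠ p) : act (νg n F o p)⁻¹ (fV n F o) = -fV n F p := by
  have : act (νg n F o p)⁻¹ (act (νg n F o p) (-fV n F p)) = -fV n F p := act_inv_act _ _
  rw [act_neg, νg_fp hop, neg_neg] at this
  exact this

theorem νg_inv_fp (hop : o ≠ p) : act (νg n F o p)⁻¹ (fV n F p) = fV n F o := by
  rw [← νg_fo hop, act_inv_act]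

theorem hT_o_mem_GJ (c : F) : hT n F o c ∈ GJ n F {o, p} :=
  SS_le_GJ (Set.mem_insert o {p}) (hT_mem_SS o c)

theorem hT_p_mem_GJ (c : F) : hT n F p c ∈ GJ n F {o, p} :=
  SS_le_GJ (Set.mem_insert_of_mem o (Set.mem_singleton p)) (hT_mem_SS p c)

theorem νg_conj_hT_o (hop : o ≠ p) {c : F} (hc : c ≠ 0) :
    νg n F o p * hT n F o c * (νg n F o p)⁻¹ = hT n F p c := by
  apply Cfsg.Agent.Lib.Helper12.SPT2.ext_GJ2
    (mul_mem (mul_mem νg_mem_GJ (hT_o_mem_GJ c)) (inv_mem νg_mem_GJ)) (hT_p_mem_GJ c)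
  · rw [act_mul, act_mul, νg_inv_eo hop, act_neg, hT_e_other hop.symm, act_neg, νg_ep hop, neg_neg,
      hT_e_other hop]
  · rw [act_mul, act_mul, νg_inv_ep hop, hT_e o hc, act_smul, νg_eo hop, hT_e p hc]
  · rw [act_mul, act_mul, νg_inv_fo hop, act_neg, hT_f_other hop.symm, act_neg, νg_fp hop, neg_neg,
      hT_f_other hop]
  · rw [act_mul, act_mul, νg_inv_fp hop, hT_f o hc, act_smul, νg_fo hop, hT_f p hc]

theorem νg_conj_hT_p (hop : o ≠ p) {c : F} (hc : c ≠ 0) :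
    νg n F o p * hT n F p c * (νg n F o p)⁻¹ = hT n F o c := by
  apply Cfsg.Agent.Lib.Helper12.SPT2.ext_GJ2
    (mul_mem (mul_mem νg_mem_GJ (hT_p_mem_GJ c)) (inv_mem νg_mem_GJ)) (hT_o_mem_GJ c)
  · rw [act_mul, act_mul, νg_inv_eo hop, act_neg, hT_e p hc, act_neg, act_smul, νg_ep hop, hT_e o hc]
    module
  · rw [act_mul, act_mul, νg_inv_ep hop, hT_e_other hop, νg_eo hop, hT_e_other hop.symm]
  · rw [act_mul, act_mul, νg_inv_fo hop, act_neg, hT_f p hc, act_neg, act_smul, νg_fp hop, hT_f o hc]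
    module
  · rw [act_mul, act_mul, νg_inv_fp hop, hT_f_other hop, νg_fo hop, hT_f_other hop.symm]

theorem Tr_neg_vec (w : V n F) (t : F) : Tr (-w) t = Tr w t := by
  have := Cfsg.Agent.Lib.Helper12.SPT2.Tr_smul_vec w (-1 : F) t
  rw [neg_one_smul] at this
  rw [this]
  congr 1
  ring

theorem νg_conj_nW_o (hop : o ≠ p) : νg n F o p * nW n F o * (νg n F o p)⁻¹ = nW n F p := by
  unfold nW
  have e : ∀ a b c : Sp n F, νg n F o p * (a * b * c) * (νg n F o p)⁻¹ =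
      (νg n F o p * a * (νg n F o p)⁻¹) * (νg n F o p * b * (νg n F o p)⁻¹) *
        (νg n F o p * c * (νg n F o p)⁻¹) := by
    intro a b c
    group
  rw [e, conj_Tr', conj_Tr', νg_eo hop, νg_fo hop]

theorem νg_conj_nW_p (hop : o ≠ p) : νg n F o p * nW n F p * (νg n F o p)⁻¹ = nW n F o := by
  unfold nW
  have e : ∀ a b c : Sp n F, νg n F o p * (a * b * c) * (νg n F o p)⁻¹ =
      (νg n F o p * a * (νg n F o p)⁻¹) * (νg n F o p * b * (νg n F o p)⁻¹) *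
        (νg n F o p * c * (νg n F o p)⁻¹) := by
    intro a b c
    group
  rw [e, conj_Tr', conj_Tr', νg_ep hop, νg_fp hop, Tr_neg_vec, Tr_neg_vec]

theorem nW_p_inv_conj_Xg (hop : o ≠ p) (t : F) :
    (nW n F p)⁻¹ * Xg n F o p t * nW n F p = Zg n F o p (-t) := by
  have := conj_E ((nW n F p)⁻¹) (eV n F o) (t • fV n F p)
  rw [inv_inv] at this
  unfold Xg Zg
  rw [this, act_inv_eq_of_act_eq (Cfsg.Agent.Lib.Helper12.SPT2.nW_eV_of_ne hop), act_smul, nW_inv_fV,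
    smul_neg, neg_smul]

theorem nW_o_inv_conj_Zg (hop : o ≠ p) (t : F) :
    (nW n F o)⁻¹ * Zg n F o p t * nW n F o = Yg n F o p t := by
  have := conj_E ((nW n F o)⁻¹) (eV n F o) (t • eV n F p)
  rw [inv_inv] at this
  unfold Zg Yg
  rw [this, nW_inv_eV, act_smul,
    act_inv_eq_of_act_eq (Cfsg.Agent.Lib.Helper12.SPT2.nW_eV_of_ne hop.symm)]

theorem nW_o_inv_conj_Yg (hop : o ≠ p) (t : F) :
    (nW n F o)⁻¹ * Yg n F o p t * nW n F o = Zg n F o p (-t) := by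
  have := conj_E ((nW n F o)⁻¹) (fV n F o) (t • eV n F p)
  rw [inv_inv] at this
  unfold Zg Yg
  rw [this, nW_inv_fV, act_smul,
    act_inv_eq_of_act_eq (Cfsg.Agent.Lib.Helper12.SPT2.nW_eV_of_ne hop.symm)]
  have h : ω n F (eV n F o) (t • eV n F p) = 0 := Zg_orth t
  have e := E_smul_smul (eV n F o) (t • eV n F p) (-1 : F) h
  rw [neg_one_smul, neg_one_smul] at e
  rw [e, neg_smul]

theorem nW_p_inv_conj_Zg (hop : o ≠ p) (t : F) :
    (nW n F p)⁻¹ * Zg n F o p t * nW n F p = Xg n F o p t := by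
  have := conj_E ((nW n F p)⁻¹) (eV n F o) (t • eV n F p)
  rw [inv_inv] at this
  unfold Zg Xg
  rw [this, act_inv_eq_of_act_eq (Cfsg.Agent.Lib.Helper12.SPT2.nW_eV_of_ne hop), act_smul, nW_inv_eV]

theorem νg_conj_Zg (hop : o ≠ p) (s : F) :
    νg n F o p * Zg n F o p s * (νg n F o p)⁻¹ = Zg n F o p (-s) := by
  unfold Zg
  rw [conj_E, νg_eo hop, act_smul, νg_ep hop]
  have h : ω n F (eV n F p) (s • -eV n F o) = 0 := by
    rw [ω_smul_right, ω_neg_right, ω_eV_eV, neg_zero, mul_zero]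
  rw [E_comm _ _ h, smul_neg, ← neg_smul, E_smul_smul _ _ _ (ω_eV_eV o p)]

/-! ### normalising `M_{op}` -/

/-- an element of `GJ {o, p}` whose inverse preserves `⟨e_o, e_p⟩` normalises `M_{op}` -/
theorem conj_mem_MM_of {g : Sp n F} (hg : g ∈ GJ n F {o, p})
    (ho : ∃ a b : F, act g⁻¹ (eV n F o) = a • eV n F o + b • eV n F p)
    (hp : ∃ a b : F, act g⁻¹ (eV n F p) = a • eV n F o + b • eV n F p) {m : Sp n F}
    (hm : m ∈ MM n F o p) : g * m * g⁻¹ ∈ MM n F o p := by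
  have hmG : m ∈ GJ n F {o, p} :=
    MM_le_GJ (Set.mem_insert o {p}) (Set.mem_insert_of_mem o (Set.mem_singleton p)) hm
  apply mem_MM_of (mul_mem (mul_mem hg hmG) (inv_mem hg))
  · obtain ⟨a, b, h⟩ := ho
    rw [act_mul, act_mul, h, act_add, act_smul, act_smul, hm.1 o, hm.1 p, ← h, act_act_inv]
  · obtain ⟨a, b, h⟩ := hp
    rw [act_mul, act_mul, h, act_add, act_smul, act_smul, hm.1 o, hm.1 p, ← h, act_act_inv]

theorem Xg_conj_mem_MM (hop : o ≠ p) (t : F) {m : Sp n F} (hm : m ∈ MM n F o p) :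
    Xg n F o p t * m * (Xg n F o p t)⁻¹ ∈ MM n F o p := by
  apply conj_mem_MM_of (Xg_mem_GJ t) _ _ hm
  · exact ⟨1, 0, by rw [Xg_inv hop, Xg_eo hop]; module⟩
  · exact ⟨t, 1, by rw [Xg_inv hop, Xg_ep hop]; module⟩

theorem Yg_conj_mem_MM (hop : o ≠ p) (t : F) {m : Sp n F} (hm : m ∈ MM n F o p) :
    Yg n F o p t * m * (Yg n F o p t)⁻¹ ∈ MM n F o p := by
  apply conj_mem_MM_of (Yg_mem_GJ t) _ _ hm
  · exact ⟨1, t, by rw [Yg_inv hop, Yg_eo hop]; module⟩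
  · exact ⟨0, 1, by rw [Yg_inv hop, Yg_ep hop]; module⟩

theorem νg_conj_mem_MM (hop : o ≠ p) {m : Sp n F} (hm : m ∈ MM n F o p) :
    νg n F o p * m * (νg n F o p)⁻¹ ∈ MM n F o p := by
  apply conj_mem_MM_of νg_mem_GJ _ _ hm
  · exact ⟨0, -1, by rw [νg_inv_eo hop]; module⟩
  · exact ⟨1, 0, by rw [νg_inv_ep hop]; module⟩

theorem νg_inv_conj_mem_MM (hop : o ≠ p) {m : Sp n F} (hm : m ∈ MM n F o p) :
    (νg n F o p)⁻¹ * m * νg n F o p ∈ MM n F o p := by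
  have := conj_mem_MM_of (g := (νg n F o p)⁻¹) (inv_mem νg_mem_GJ)
    ⟨0, 1, by rw [inv_inv, νg_eo hop]; module⟩ ⟨-1, 0, by rw [inv_inv, νg_ep hop]; module⟩ hm
  rwa [inv_inv] at this

end Cfsg.Agent.Lib.Helper12.SPT2G
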