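import Cfsg.Agent.Lib.Helper12.SPT2G
import Cfsg.Agent.Lib.Helper25.SPSL2DEC

/-!
# S3713, T2: the group-side decompositions SL2GEN, B2DEC, P2DEC (helper12)

* `SS_le_closure_Tr` : `S_k` is generated by the transvections `Tr e_k t`, `Tr f_k t`;
* `B2_decomp` : `Ph ⊓ P₂ = TT o · MM o p`;
* `P2_decomp` : `P₂ = B₂ ∪ B₂ y B₂ ∪ B₂ n B₂`.
-/

set_option autoImplicit false
set_option linter.unusedSimpArgs false
set_option linter.unusedTactic false
set_option linter.unreachableTactic false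
set_option linter.unnecessarySeqFocus false

namespace Cfsg.Agent.Lib.Helper12.SPT2Dec

open Matrix Cfsg.Agent.Lib.Helper5 Cfsg.Agent.Lib.Helper14.SpPerfect Cfsg.Agent.Lib.Helper18.SP
open Cfsg.Agent.Lib.Helper20.SPT2 Cfsg.Agent.Lib.Helper12.SPT2G

variable {n : ℕ} {F : Type*} [Field F] {o p : Fin n}

/-! ### SL2GEN -/

/-- the generating set of `S_k` -/
def trGen (n : ℕ) (F : Type*) [Field F] (k : Fin n) : Set (Sp n F) :=
  {g | ∃ t : F, g = Tr (eV n F k) t ∨ g = Tr (fV n F k) t}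

theorem Tr_e_mem_closure (k : Fin n) (t : F) : Tr (eV n F k) t ∈ Subgroup.closure (trGen n F k) :=
  Subgroup.subset_closure ⟨t, Or.inl rfl⟩

theorem Tr_f_mem_closure (k : Fin n) (t : F) : Tr (fV n F k) t ∈ Subgroup.closure (trGen n F k) :=
  Subgroup.subset_closure ⟨t, Or.inr rfl⟩

theorem nW_mem_closure (k : Fin n) : nW n F k ∈ Subgroup.closure (trGen n F k) :=
  mul_mem (mul_mem (Tr_e_mem_closure k 1) (Tr_f_mem_closure k 1)) (Tr_e_mem_closure k 1)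

theorem hT_mem_closure (k : Fin n) (c : F) : hT n F k c ∈ Subgroup.closure (trGen n F k) :=
  mul_mem (mul_mem (mul_mem (Tr_e_mem_closure k c) (Tr_f_mem_closure k c⁻¹)) (Tr_e_mem_closure k c))
    (inv_mem (nW_mem_closure k))

/-- an element of the torus is `hT k α` -/
theorem eq_hT_of_mem_TT {k : Fin n} {t : Sp n F} (ht : t ∈ TT n F k) : ∃ α : F, α ≠ 0 ∧ t = hT n F k α := by
  obtain ⟨htS, α, hα, hte, htf⟩ := ht
  refine ⟨α, hα, ?_⟩
  apply Cfsg.Agent.Lib.Helper12.SPT2.ext_SS htS (hT_mem_SS k α)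
  · rw [hte, hT_e k hα]
  · rw [htf, hT_f k hα]

theorem PhJ_single_le_closure (k : Fin n) : PhJ n F {k} k ≤ Subgroup.closure (trGen n F k) := by
  intro b hb
  obtain ⟨t, ht, q, hq, rfl⟩ := PhJ_decomp (Set.mem_singleton k) hb
  obtain ⟨α, -, rfl⟩ := eq_hT_of_mem_TT ht
  obtain ⟨c, rfl⟩ := eq_Tr_of_mem_SS (o := k) hq.1 hq.2
  exact mul_mem (hT_mem_closure k α) (Tr_e_mem_closure k c)

/-- **SL2GEN** -/
theorem SS_le_closure_Tr (k : Fin n) : SS n F k ≤ Subgroup.closure (trGen n F k) := by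
  intro g hg
  rcases Cfsg.Agent.Lib.Helper25.SPSL2DEC.SS_decomp hg with h | ⟨b₁, hb₁, b₂, hb₂, rfl⟩
  · exact PhJ_single_le_closure k h
  · exact mul_mem (mul_mem (PhJ_single_le_closure k hb₁) (nW_mem_closure k)) (PhJ_single_le_closure k hb₂)

/-! ### B2DEC -/

/-- **B2DEC**: `Ph ⊓ P₂ = TT o · MM o p` -/
theorem B2_decomp {g : Sp n F} (h1 : g ∈ PhJ n F {o, p} o) (h2 : g ∈ PJ n F {o, p} p) :
    ∃ t ∈ TT n F o, ∃ m ∈ MM n F o p, g = t * m := by
  obtain ⟨hgG, α, hα, hge⟩ := h1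
  obtain ⟨t, ht, hte, -⟩ := exists_TT o hα
  have htG : t ∈ GJ n F {o, p} := SS_le_GJ (Set.mem_insert o {p}) ht.1
  refine ⟨t, ht, t⁻¹ * g, ?_, by group⟩
  apply mem_MM_of (mul_mem (inv_mem htG) hgG)
  · rw [act_mul, hge, ← hte, act_inv_act]
  · by_cases hop : p = o
    · rw [hop, act_mul, hge, ← hte, act_inv_act]
    · rw [act_mul, h2.2]
      exact act_inv_eq_of_act_eq (ht.1 p hop).1

/-! ### P2DEC -/

/-- the coordinates of a vector of `VJ {o, p}` -/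
theorem vec_of_mem_VJ_pair (hop : o ≠ p) {x : V n F} (hx : x ∈ VJ n F {o, p}) :
    x = x (Sum.inl o) • eV n F o + x (Sum.inr o) • fV n F o + x (Sum.inl p) • eV n F p +
      x (Sum.inr p) • fV n F p := by
  funext i
  rcases i with k | k
  · simp only [Pi.add_apply, Pi.smul_apply, smul_eq_mul, eV_inl, fV_inl, mul_zero, add_zero]
    by_cases hko : k = o
    · subst hko
      simp [hop]
    · by_cases hkp : k = p
      · subst hkp
        simp [hko]
      · have hk : k ∉ ({o, p} : Set (Fin n)) := by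
          intro hk
          rcases hk with hk | hk
          · exact hko hk
          · exact hkp hk
        simp [hko, hkp, (hx k hk).1]
  · simp only [Pi.add_apply, Pi.smul_apply, smul_eq_mul, eV_inr, fV_inr, mul_zero, zero_add, add_zero]
    by_cases hko : k = o
    · subst hko
      simp [hop]
    · by_cases hkp : k = p
      · subst hkp
        simp [hko]
      · have hk : k ∉ ({o, p} : Set (Fin n)) := by
          intro hk
          rcases hk with hk | hk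
          · exact hko hk
          · exact hkp hk
        simp [hko, hkp, (hx k hk).2]

/-- the subgroup `B₂ = Ph ⊓ P₂` as a predicate -/
def InB2 (n : ℕ) (F : Type*) [Field F] (o p : Fin n) (g : Sp n F) : Prop :=
  g ∈ PhJ n F {o, p} o ∧ g ∈ PJ n F {o, p} p

theorem inB2_iff (g : Sp n F) :
    InB2 n F o p g ↔ g ∈ PhJ n F {o, p} o ⊓ PJ n F {o, p} p := Iff.rfl

/-- **P2DEC**: `P₂ = B₂ ∪ B₂ y B₂ ∪ B₂ n B₂` -/
theorem P2_decomp (hop : o ≠ p) {g : Sp n F} (hg : g ∈ PJ n F {o, p} p) :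
    ∃ p₁ p₂ : Sp n F, InB2 n F o p p₁ ∧ InB2 n F o p p₂ ∧
      (g = p₁ * p₂ ∨ g = p₁ * yE n F o p * p₂ ∨ g = p₁ * nW n F o * p₂) := by
  have hgG : g ∈ GJ n F {o, p} := hg.1
  have hgp : act g (eV n F p) = eV n F p := hg.2
  have hoK : o ∈ ({o, p} : Set (Fin n)) := Set.mem_insert o {p}
  have hpK : p ∈ ({o, p} : Set (Fin n)) := Set.mem_insert_of_mem o (Set.mem_singleton p)
  have hvV : act g (eV n F o) ∈ VJ n F {o, p} := act_mem_VJ hgG (eV_mem_VJ hoK)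
  -- no `f_p`-component
  have hfp : act g (eV n F o) (Sum.inr p) = 0 := by
    rw [← ω_eV_right (act g (eV n F o)) p]
    conv_lhs => rw [← hgp]
    rw [ω_act, ω_eV_eV]
  have hdec := vec_of_mem_VJ_pair hop hvV
  rw [hfp, zero_smul, add_zero] at hdec
  obtain ⟨α, hα⟩ : ∃ α, α = act g (eV n F o) (Sum.inl o) := ⟨_, rfl⟩
  obtain ⟨γ, hγ⟩ : ∃ γ, γ = act g (eV n F o) (Sum.inr o) := ⟨_, rfl⟩
  obtain ⟨δ, hδ⟩ : ∃ δ, δ = act g (eV n F o) (Sum.inl p) := ⟨_, rfl⟩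
  rw [← hα, ← hγ, ← hδ] at hdec
  have hyG : yE n F o p ∈ GJ n F {o, p} := by rw [yE_eq_Yg]; exact Yg_mem_GJ 1
  have hnG : nW n F o ∈ GJ n F {o, p} := SS_le_GJ hoK (nW_mem_SS o)
  by_cases hγ0 : γ = 0
  · -- `g e_o = α e_o + δ e_p`
    rw [hγ0, zero_smul, add_zero] at hdec
    have hα0 : α ≠ 0 := by
      intro h0
      rw [h0, zero_smul, zero_add] at hdec
      have h1 : act g (eV n F o) = act g (δ • eV n F p) := by rw [act_smul, hgp, hdec]
      have h2 := congrFun (act_injective g h1) (Sum.inl o)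
      simp [eV_inl, hop] at h2
    by_cases hδ0 : δ = 0
    · rw [hδ0, zero_smul, add_zero] at hdec
      exact ⟨g, 1, ⟨⟨hgG, α, hα0, hdec⟩, hg⟩, ⟨one_mem _, one_mem _⟩, Or.inl (mul_one g).symm⟩
    · have hc : -(α * δ⁻¹) ≠ 0 := neg_ne_zero.mpr (mul_ne_zero hα0 (inv_ne_zero hδ0))
      have ht1 : InB2 n F o p (hT n F o (-(α * δ⁻¹))) :=
        ⟨TT_le_PhJ hoK (hT_mem_TT o hc), ⟨hT_o_mem_GJ _, hT_e_other hop.symm _⟩⟩
      have hye : act (yE n F o p) (eV n F o) = eV n F o - eV n F p := by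
        rw [yE_eq_Yg, Yg_eo hop, one_smul]
      have hyp : act (yE n F o p) (eV n F p) = eV n F p := by rw [yE_eq_Yg, Yg_ep hop]
      have key : act (hT n F o (-(α * δ⁻¹)) * yE n F o p) (eV n F o) = (-δ⁻¹) • act g (eV n F o) := by
        rw [act_mul, hye, act_sub, hT_e o hc, hT_e_other hop.symm, hdec]
        match_scalars <;> field_simp
      refine ⟨hT n F o (-(α * δ⁻¹)), (yE n F o p)⁻¹ * (hT n F o (-(α * δ⁻¹)))⁻¹ * g, ht1, ?_,
        Or.inr (Or.inl (by group))⟩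
      refine ⟨⟨mul_mem (mul_mem (inv_mem hyG) (inv_mem (hT_o_mem_GJ _))) hgG, -δ, neg_ne_zero.mpr hδ0, ?_⟩,
        ⟨mul_mem (mul_mem (inv_mem hyG) (inv_mem (hT_o_mem_GJ _))) hgG, ?_⟩⟩
      · have e : act g (eV n F o) = (-δ) • act (hT n F o (-(α * δ⁻¹)) * yE n F o p) (eV n F o) := by
          rw [key, smul_smul]
          have : -δ * -δ⁻¹ = 1 := by field_simp
          rw [this, one_smul]
        rw [act_mul, e, act_smul, act_mul, act_mul, act_inv_act, act_inv_act]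
      · rw [act_mul, act_mul, hgp, act_inv_eq_of_act_eq (hT_e_other hop.symm _),
          act_inv_eq_of_act_eq hyp]
  · -- `γ ≠ 0`: the big cell
    have hβ : -γ⁻¹ ≠ 0 := neg_ne_zero.mpr (inv_ne_zero hγ0)
    obtain ⟨p₁, hp₁⟩ : ∃ p₁, p₁ = hT n F o (-γ⁻¹) * Zg n F o p (-δ) * Tr (eV n F o) (α * γ) := ⟨_, rfl⟩
    have hp₁G : p₁ ∈ GJ n F {o, p} := by
      rw [hp₁]
      exact mul_mem (mul_mem (hT_o_mem_GJ _) (Zg_mem_GJ _)) (Tr_mem_GJ (eV_mem_VJ hoK) _)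
    have hp₁o : act p₁ (eV n F o) = (-γ⁻¹) • eV n F o := by
      rw [hp₁, act_mul, act_mul, Tr_e_e, Zg_e, hT_e o hβ]
    have hp₁p : act p₁ (eV n F p) = eV n F p := by
      rw [hp₁, act_mul, act_mul, Tr_e_e, Zg_e, hT_e_other hop.symm]
    have hp₁f : act p₁ (-fV n F o) = act g (eV n F o) := by
      rw [hp₁, act_mul, act_mul, act_neg, Tr_e_f, act_neg, act_add, act_smul, Zg_fo hop, Zg_e, act_neg,
        act_add, act_add, act_smul, act_smul, hT_f o hβ, hT_e_other hop.symm, hT_e o hβ, hdec]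
      match_scalars <;> field_simp
    refine ⟨p₁, (nW n F o)⁻¹ * p₁⁻¹ * g, ⟨⟨hp₁G, -γ⁻¹, hβ, hp₁o⟩, ⟨hp₁G, hp₁p⟩⟩, ?_,
      Or.inr (Or.inr (by group))⟩
    have hmem : (nW n F o)⁻¹ * p₁⁻¹ * g ∈ GJ n F {o, p} :=
      mul_mem (mul_mem (inv_mem hnG) (inv_mem hp₁G)) hgG
    refine ⟨⟨hmem, 1, one_ne_zero, ?_⟩, ⟨hmem, ?_⟩⟩
    · rw [act_mul, act_mul, ← hp₁f, act_inv_act, act_neg, nW_inv_fV, neg_neg, one_smul]
    · rw [act_mul, act_mul, hgp, act_inv_eq_of_act_eq hp₁p,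
        act_inv_eq_of_act_eq (Cfsg.Agent.Lib.Helper12.SPT2.nW_eV_of_ne hop.symm)]

end Cfsg.Agent.Lib.Helper12.SPT2Dec
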