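import Mathlib
import Cfsg.Agent.Lib.Helper11.Sp2Calc

/-!
# S2142 leaf B1 (helper12): at a point `v ⊥ x` with `tv v ∈ H`, `x` of type B, `D̄_v ∩ x^⊥ = {0, v}`.
-/

set_option autoImplicit false

namespace Cfsg.Agent.Lib.Helper12.Sp2Leaf

open Cfsg.Agent.Lib.Helper11.Sp2 MulAction

variable {F V G : Type*} [Field F] [AddCommGroup V] [Module F V] [Group G] [DistribMulAction G V]
  (S : Setting F V G)

/-- `x` of type B, `v ⊥ x`, `v ∉ {0, x}`, `tv v ∈ H`: then `γ_x(v) = 1`. -/
theorem gam_eq_one_of_tv_mem (H : Subgroup G) {x v : V} (hx : S.IsB H x) (hv0 : v ≠ 0) (hvx : v ≠ x)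
    (hperp : S.B x v = 0) (ht : S.tv v ∈ H) : S.gam H x v = 1 := by
  have hfix : S.tv v • x = x := by rw [S.tv_smul, hperp, zero_smul, add_zero]
  have hex : ∃ w, S.B x w = 0 ∧ S.B w v = 1 := by
    by_contra hn
    push Not at hn
    rcases S.eq_zero_or_eq_of_perp (v := x) (u := v)
      (fun z hz => S.eq_zero_of_ne_one (hn z hz)) with h | h
    · exact hv0 h
    · exact hvx h
  obtain ⟨w, hw, hwv⟩ := hex
  have h1 := S.gam_smul hx ht hfix hw
  rw [S.gam_tv hx hperp hw, hwv, one_mul] at h1
  have h2 : S.gam H x v + 1 = 0 := add_eq_left.mp h1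
  rcases S.h01 (S.gam H x v) with h0 | h0
  · rw [h0, zero_add] at h2
    exact absurd h2 one_ne_zero
  · exact h0

theorem Dbar_inf_perp (H : Subgroup G) {x v : V} (hx : S.IsB H x) (hv0 : v ≠ 0) (hvx : v ≠ x)
    (hperp : S.B x v = 0) (ht : S.tv v ∈ H) :
    ∀ u ∈ S.Dbar H v, S.B x u = 0 → u = 0 ∨ u = v := by
  have hgv : S.gam H x v = 1 := gam_eq_one_of_tv_mem S H hx hv0 hvx hperp ht
  have hvx' : S.B v x = 0 := by rw [S.B_symm]; exact hperp
  intro u hu hxu
  obtain ⟨hvu, c, hc⟩ := hu
  have hg : S.gq v u 0 ∈ H := by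
    rcases S.h01 c with rfl | rfl
    · exact hc
    · have h1 := S.gq_add_one hvu (1 : F)
      rw [S.one_add_one] at h1
      rw [h1]
      exact H.mul_mem hc ht
  have hgx : S.gq v u 0 • x = x := by
    rw [S.gq_smul hvu, hperp, hxu]
    simp
  have hinv : ∀ w, S.B x w = 0 → S.gam H x (S.gq v u 0 • w) = S.gam H x w :=
    fun w hw => S.gam_smul hx hg hgx hw
  have hperp_e : ∀ z, S.B x z = 0 → S.B z (u + S.gam H x u • v) = 0 := by
    intro w hw
    have h1 := hinv w hw
    rw [S.gq_smul hvu] at h1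
    simp only [zero_mul, add_zero] at h1
    rw [S.Badd_right, S.Bsmul_right]
    rcases S.h01 (S.B w v) with h2 | h2 <;> rcases S.h01 (S.B w u) with h3 | h3
    · rw [h2, h3]; simp
    · exfalso
      rw [h2, h3, zero_smul, add_zero, one_smul] at h1
      rw [S.gam_add hx hw hperp, hgv, S.B_symm v w, h2, add_zero] at h1
      exact one_ne_zero (add_eq_left.mp h1)
    · rw [h2, h3, one_smul, zero_smul, add_zero] at h1
      rw [S.gam_add hx hw hxu, S.B_symm u w, h3, add_zero] at h1
      rw [add_eq_left.mp h1, h2, h3]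
      simp
    · rw [h2, h3, one_smul, one_smul, add_assoc] at h1
      have huv : S.B x (u + v) = 0 := by rw [S.Badd_right, hxu, hperp, add_zero]
      rw [S.gam_add hx hw huv, S.gam_add hx hxu hperp, hgv, S.Badd_left, S.B_symm u w, S.B_symm v w,
        h2, h3, S.one_add_one, add_zero, hvu, add_zero] at h1
      have h4 : S.gam H x u + 1 = 0 := add_eq_left.mp h1
      have h5 : S.gam H x u = 1 := by
        rcases S.h01 (S.gam H x u) with h0 | h0
        · rw [h0, zero_add] at h4
          exact absurd h4 one_ne_zero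
        · exact h0
      rw [h5, h2, h3, mul_one, S.one_add_one]
  rcases S.eq_zero_or_eq_of_perp hperp_e with h | h
  · rcases S.h01 (S.gam H x u) with h0 | h0
    · rw [h0, zero_smul, add_zero] at h
      exact Or.inl h
    · rw [h0, one_smul] at h
      exact Or.inr (S.vadd_eq_zero_iff.mp h)
  · exfalso
    have hgx0 : S.gq v x 0 ∈ H := by
      rcases S.h01 (S.gam H x u) with h0 | h0
      · rw [h0, zero_smul, add_zero] at h
        rw [← h]; exact hg
      · rw [h0, one_smul] at h
        have h6 : u = x + v := by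
          have := congrArg (fun t => t + v) h
          simp only [add_assoc, S.vadd_self, add_zero] at this
          exact this
        rw [← S.gq_add_self hvx' 0, ← h6]
        exact hg
    rw [S.gq_symm hvx'] at hgx0
    have := S.eq_gam_of_mem hx hperp hgx0
    rw [hgv] at this
    exact zero_ne_one this

end Cfsg.Agent.Lib.Helper12.Sp2Leaf
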