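import Mathlib
import Cfsg.Agent.Lib.Helper11.Sp2Calc

/-!
# S2142 leaf D (helper12): not every point is of type B (`m ≥ 3`).
-/

set_option autoImplicit false

namespace Cfsg.Agent.Lib.Helper12.Sp2Leaf

open Cfsg.Agent.Lib.Helper11.Sp2 MulAction

variable {F V G : Type*} [Field F] [AddCommGroup V] [Module F V] [Group G] [DistribMulAction G V]
  (S : Setting F V G)

/-- a hyperplane section has at least half the elements -/
theorem card_le_two_mul_card_inf_ker [Finite V] (U : Submodule F V) (a : V) :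
    Nat.card U ≤ 2 * Nat.card ↥(U ⊓ LinearMap.ker (S.B a)) := by
  classical
  by_cases h : ∀ u ∈ U, S.B a u = 0
  · have h1 : U ⊓ LinearMap.ker (S.B a) = U :=
      inf_eq_left.mpr (fun u hu => LinearMap.mem_ker.mpr (h u hu))
    rw [h1]
    omega
  · push Not at h
    obtain ⟨u0, hu0, hne⟩ := h
    have h1 : S.B a u0 = 1 := S.eq_one_of_ne_zero hne
    have hmem : ∀ u : U, (u : V) + S.B a u • u0 ∈ U ⊓ LinearMap.ker (S.B a) := by
      intro u
      refine ⟨U.add_mem u.2 (U.smul_mem _ hu0), ?_⟩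
      rw [SetLike.mem_coe, LinearMap.mem_ker, S.Badd_right, S.Bsmul_right, h1, mul_one, S.fadd_self]
    let φ : U → ↥(U ⊓ LinearMap.ker (S.B a)) × Bool :=
      fun u => (⟨(u : V) + S.B a u • u0, hmem u⟩, decide (S.B a u = 0))
    have hφ : Function.Injective φ := by
      intro u u' he
      have he1 : (u : V) + S.B a u • u0 = (u' : V) + S.B a u' • u0 :=
        congrArg (fun t => ((t.1 : ↥(U ⊓ LinearMap.ker (S.B a))) : V)) he
      have he2 : decide (S.B a u = 0) = decide (S.B a u' = 0) := congrArg Prod.snd he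
      have he3 : S.B a u = S.B a u' := by
        rcases S.h01 (S.B a u) with h2 | h2 <;> rcases S.h01 (S.B a u') with h3 | h3
        · rw [h2, h3]
        · exfalso
          rw [h2, h3] at he2
          simp at he2
        · exfalso
          rw [h2, h3] at he2
          simp at he2
        · rw [h2, h3]
      rw [he3] at he1
      exact Subtype.ext (add_right_cancel he1)
    calc Nat.card U ≤ Nat.card (↥(U ⊓ LinearMap.ker (S.B a)) × Bool) :=
          Nat.card_le_card_of_injective φ hφ
      _ = 2 * Nat.card ↥(U ⊓ LinearMap.ker (S.B a)) := by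
          rw [Nat.card_prod, Nat.card_eq_fintype_card (α := Bool), Fintype.card_bool, mul_comm]

/-- a finite type with at least three elements has an element different from two given ones -/
theorem exists_ne_ne_of_three_le {α : Type*} [Finite α] (h : 3 ≤ Nat.card α) (a b : α) :
    ∃ c : α, c ≠ a ∧ c ≠ b := by
  classical
  by_contra hn
  push Not at hn
  have : Fintype α := Fintype.ofFinite α
  have h1 : (Finset.univ : Finset α) ⊆ {a, b} := by
    intro c _
    by_cases hc : c = a
    · simp [hc]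
    · simp [hn c hc]
  have h2 := Finset.card_le_card h1
  rw [Finset.card_univ, ← Nat.card_eq_fintype_card] at h2
  have h3 : ({a, b} : Finset α).card ≤ 2 := Finset.card_le_two
  omega

theorem not_forall_isB [Finite V] {m : ℕ} (hV : Nat.card V = 2 ^ (2 * m)) (hm : 3 ≤ m)
    (H : Subgroup G) : ¬ ∀ v : V, v ≠ 0 → S.IsB H v := by
  intro hall
  have hV64 : 64 ≤ Nat.card V := by
    rw [hV]
    calc 64 = 2 ^ 6 := by norm_num
      _ ≤ 2 ^ (2 * m) := Nat.pow_le_pow_right (by norm_num) (by omega)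
  -- a hyperbolic pair `x, y`
  have hx : ∃ x : V, x ≠ 0 := by
    have : Nontrivial V := by
      rw [← Finite.one_lt_card_iff_nontrivial]
      omega
    exact exists_ne 0
  obtain ⟨x, hx0⟩ := hx
  obtain ⟨y, hyx⟩ := S.exists_B_eq_one hx0
  have hxy : S.B x y = 1 := by rw [S.B_symm]; exact hyx
  have hy0 : y ≠ 0 := by
    rintro rfl
    rw [S.Bzero_left] at hyx
    exact zero_ne_one hyx
  have hz0 : x + y ≠ 0 := by
    intro h
    have h1 := S.vadd_eq_zero_iff.mp h
    rw [← h1, S.alt] at hxy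
    exact zero_ne_one hxy
  -- the subspaces
  set W1 : Submodule F V := (⊤ : Submodule F V) ⊓ LinearMap.ker (S.B x) with hW1
  set W2 : Submodule F V := W1 ⊓ LinearMap.ker (S.B y) with hW2
  have c0 : Nat.card (⊤ : Submodule F V) = Nat.card V := Nat.card_congr (Equiv.Set.univ V)
  have c1 : Nat.card (⊤ : Submodule F V) ≤ 2 * Nat.card W1 := card_le_two_mul_card_inf_ker S ⊤ x
  have c2 : Nat.card W1 ≤ 2 * Nat.card W2 := card_le_two_mul_card_inf_ker S W1 y
  have memW2 : ∀ w, w ∈ W2 ↔ S.B x w = 0 ∧ S.B y w = 0 := by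
    intro w
    rw [hW2, hW1, Submodule.mem_inf, Submodule.mem_inf, LinearMap.mem_ker, LinearMap.mem_ker]
    simp
  -- `u`
  have hu : ∃ u : W2, u ≠ 0 := by
    have : Nontrivial W2 := by
      rw [← Finite.one_lt_card_iff_nontrivial]
      omega
    exact exists_ne 0
  obtain ⟨⟨u, huW⟩, hu0'⟩ := hu
  have hu0 : u ≠ 0 := fun h => hu0' (Subtype.ext h)
  obtain ⟨hxu, hyu⟩ := (memW2 u).mp huW
  -- `u'`
  set W3 : Submodule F V := W2 ⊓ LinearMap.ker (S.B u) with hW3
  have c3 : Nat.card W2 ≤ 2 * Nat.card W3 := card_le_two_mul_card_inf_ker S W2 u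
  have huW3 : u ∈ W3 := ⟨huW, by rw [SetLike.mem_coe, LinearMap.mem_ker, S.alt]⟩
  obtain ⟨⟨u', hu'W⟩, h1, h2⟩ := exists_ne_ne_of_three_le (α := W3) (by omega) 0 ⟨u, huW3⟩
  have hu'0 : u' ≠ 0 := fun h => h1 (Subtype.ext h)
  have hu'u : u' ≠ u := fun h => h2 (Subtype.ext h)
  have hu'W2 : u' ∈ W2 := hu'W.1
  have huu' : S.B u u' = 0 := LinearMap.mem_ker.mp hu'W.2
  obtain ⟨hxu', hyu'⟩ := (memW2 u').mp hu'W2
  have hs0 : u + u' ≠ 0 := fun h => hu'u (S.vadd_eq_zero_iff.mp h).symm
  -- perpendicularity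
  have hzu : S.B (x + y) u = 0 := by rw [S.Badd_left, hxu, hyu, add_zero]
  have hzu' : S.B (x + y) u' = 0 := by rw [S.Badd_left, hxu', hyu', add_zero]
  have hux : S.B u x = 0 := by rw [S.B_symm]; exact hxu
  have huy : S.B u y = 0 := by rw [S.B_symm]; exact hyu
  have hu'x : S.B u' x = 0 := by rw [S.B_symm]; exact hxu'
  have hu'y : S.B u' y = 0 := by rw [S.B_symm]; exact hyu'
  have hsx : S.B (u + u') x = 0 := by rw [S.Badd_left, hux, hu'x, add_zero]
  have hsy : S.B (u + u') y = 0 := by rw [S.Badd_left, huy, hu'y, add_zero]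
  have hu'u0 : S.B u' u = 0 := by rw [S.B_symm]; exact huu'
  -- type B everywhere
  have Bx := hall x hx0
  have By := hall y hy0
  have Bz := hall (x + y) hz0
  have Bu := hall u hu0
  have Bu' := hall u' hu'0
  have Bs := hall (u + u') hs0
  -- (I): additivity in the second variable at `x, y, z`
  have I1 : S.gam H x (u + u') = S.gam H x u + S.gam H x u' := by
    rw [S.gam_add Bx hxu hxu', hu'u0, add_zero]
  have I2 : S.gam H y (u + u') = S.gam H y u + S.gam H y u' := by
    rw [S.gam_add By hyu hyu', hu'u0, add_zero]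
  have I3 : S.gam H (x + y) (u + u') = S.gam H (x + y) u + S.gam H (x + y) u' := by
    rw [S.gam_add Bz hzu hzu', hu'u0, add_zero]
  -- (II): at `u, u', u + u'`
  have II1 : S.gam H (x + y) u = S.gam H x u + S.gam H y u + 1 := by
    have h := S.gam_add Bu hux huy
    rw [hyx] at h
    have hz' : S.B u (x + y) = 0 := by rw [S.Badd_right, hux, huy, add_zero]
    rw [S.gam_symm H hz', S.gam_symm H hux, S.gam_symm H huy] at h
    exact h
  have II2 : S.gam H (x + y) u' = S.gam H x u' + S.gam H y u' + 1 := by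
    have h := S.gam_add Bu' hu'x hu'y
    rw [hyx] at h
    have hz' : S.B u' (x + y) = 0 := by rw [S.Badd_right, hu'x, hu'y, add_zero]
    rw [S.gam_symm H hz', S.gam_symm H hu'x, S.gam_symm H hu'y] at h
    exact h
  have II3 : S.gam H (x + y) (u + u') = S.gam H x (u + u') + S.gam H y (u + u') + 1 := by
    have h := S.gam_add Bs hsx hsy
    rw [hyx] at h
    have hz' : S.B (u + u') (x + y) = 0 := by rw [S.Badd_right, hsx, hsy, add_zero]
    rw [S.gam_symm H hz', S.gam_symm H hsx, S.gam_symm H hsy] at h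
    exact h
  rw [I1, I2, I3, II1, II2] at II3
  have : (1 : F) = 0 := by linear_combination II3
  exact one_ne_zero this

end Cfsg.Agent.Lib.Helper12.Sp2Leaf
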