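import Mathlib
import Cfsg.Agent.Lib.Helper11.T23UDefs
import Cfsg.Agent.Lib.Helper12.UTW3Main

/-!
helper12, S5801 (su6) conjunct (8), market "C4U" (helper11, notes/S5801_C4_leaves.lean), leaf **G** `growth`,
exact statement: growth at `(a,b) = (2,3)`, `T1U' q M ⟹ GS 2 3 q F ≤ M`.

`Helper12.UTW3` is the sed-copy of `Helper12.UTW2` (S5670 part (G) under the weak context) with the field
`hn : 6 ≤ a * b` in place of `8 ≤ a * b` (the bound is only used for `le_of_forall_mem_Sset`, `3 ≤ n`).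
-/

set_option autoImplicit false

namespace Cfsg.Agent.Lib.Helper12.C4ULeaf
open Matrix
open Cfsg.Agent.Lib.Helper25.Tens Cfsg.Agent.Lib.Helper25.TensLeaf Cfsg.Agent.Lib.Helper20.UT
open Cfsg.Agent.Lib.Helper5.UTG Cfsg.Agent.Lib.Helper11.T23U

variable {F : Type*} [Field F] [Fintype F] {q : ℕ} {M : Subgroup (GL (Idx 2 3) F)}

/-- the weak context at `(2,3)` -/
theorem wctx_two_three (hF : Fintype.card F = q ^ 2) (hq : 3 ≤ q) (hle : KG 2 3 F ⊓ GS 2 3 q F ≤ M)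
    (hleG : M ≤ GS 2 3 q F) : Cfsg.Agent.Lib.Helper12.UTW3.WCtx 2 3 q M where
  hF := hF
  ha := le_refl 2
  hb := le_refl 3
  hbq := Or.inl hq
  hn := by norm_num
  hex := fun h => by omega
  le_G := hleG
  kA_mem := fun x c hx hc =>
    hle ⟨kA_mem_KG q x c hx, Cfsg.Agent.Lib.Helper20.UTLeaf.kA_mem_GS hF x hc hx⟩
  kB_mem := fun y c hy hc =>
    hle ⟨kB_mem_KG q y c hy, Cfsg.Agent.Lib.Helper20.UTLeaf.kB_mem_GS hF y hc hy⟩

/-- **G** growth at `(2,3)`: `T1U' ⟹ GS ≤ M`. -/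
theorem growth (hF : Fintype.card F = q ^ 2) (hq : 3 ≤ q) (hle : KG 2 3 F ⊓ GS 2 3 q F ≤ M)
    (hleG : M ≤ GS 2 3 q F) (hT : T1U' q M) : GS 2 3 q F ≤ M :=
  Cfsg.Agent.Lib.Helper12.UTW3.stageIII_weak (wctx_two_three hF hq hle hleG) hT

end Cfsg.Agent.Lib.Helper12.C4ULeaf
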