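import Mathlib
import Cfsg.Agent.Lib.Helper2.SOTDefs
import Cfsg.Agent.Lib.Helper13.SOTGDefs

/-!
helper12: S5666 part (G) leaves DC `exists_decomp` and EX1 `exists_mixed`
(exact signatures of notes/S5666_G_leaves.lean), plus small by-products on `Perp`.
-/

set_option autoImplicit false
set_option linter.unusedSectionVars false
set_option linter.unusedVariables false

namespace Cfsg.Agent.Lib.Helper12.SOTGLeaf
open Matrix
open Cfsg.Agent.Lib.Helper25.Tens Cfsg.Agent.Lib.Helper25.SpT Cfsg.Agent.Lib.Helper19.OSub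
open Cfsg.Agent.Lib.Helper2.SOT Cfsg.Agent.Lib.Helper13.SOTG
open scoped Kronecker

section general
variable {ι : Type} [Fintype ι] [DecidableEq ι] {F : Type*} [Field F] {J : Matrix ι ι F}
  {M : Subgroup (GL ι F)}

/-- `fJ J` as a bilinear map -/
def dcBil (J : Matrix ι ι F) : (ι → F) →ₗ[F] (ι → F) →ₗ[F] F :=
  LinearMap.mk₂ F (fJ J) (fJ_add_left J) (fJ_smul_left J) (fJ_add_right J) (fJ_smul_right J)

lemma dcBil_apply (J : Matrix ι ι F) (v w : ι → F) : dcBil J v w = fJ J v w := rfl

/-- the vectors orthogonal (on the left) to `W` form a submodule -/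
def dcPerp (J : Matrix ι ι F) (W : Submodule F (ι → F)) : Submodule F (ι → F) where
  carrier := {v | Perp J W v}
  add_mem' := by
    intro x y hx hy w hw
    rw [fJ_add_left, hx w hw, hy w hw, add_zero]
  zero_mem' := by
    intro w hw
    exact fJ_zero_left J w
  smul_mem' := by
    intro c x hx w hw
    rw [fJ_smul_left, hx w hw, mul_zero]

lemma mem_dcPerp {W : Submodule F (ι → F)} {v : ι → F} : v ∈ dcPerp J W ↔ Perp J W v := Iff.rfl

/-- the vectors `w` with `fJ J v w = 0` form a submodule -/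
def dcKer (J : Matrix ι ι F) (v : ι → F) : Submodule F (ι → F) where
  carrier := {w | fJ J v w = 0}
  add_mem' := by
    intro x y hx hy
    change fJ J v (x + y) = 0
    rw [fJ_add_right, hx, hy, add_zero]
  zero_mem' := fJ_zero_right J v
  smul_mem' := by
    intro c x hx
    change fJ J v (c • x) = 0
    rw [fJ_smul_right, hx, mul_zero]

lemma mem_dcKer {v w : ι → F} : w ∈ dcKer J v ↔ fJ J v w = 0 := Iff.rfl

/-- if `span P = ⊤` and `v ≠ 0` then some element of `P` is not orthogonal to `v` -/
theorem exists_mem_fJ_ne_zero (h : AltCtx J) {P : Set (ι → F)} (hspan : Submodule.span F P = ⊤)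
    {v : ι → F} (hv : v ≠ 0) : ∃ e ∈ P, fJ J v e ≠ 0 := by
  by_contra hcon
  push Not at hcon
  have hle : Submodule.span F P ≤ dcKer J v := Submodule.span_le.2 hcon
  rw [hspan] at hle
  obtain ⟨w, hw⟩ := h.nd v hv
  exact hw (hle (Submodule.mem_top : w ∈ ⊤))

/-- (DC) orthogonal decomposition along a nondegenerate subspace -/
theorem exists_decomp (h : AltCtx J) {W : Submodule F (ι → F)} (hnd : NonDeg J W) (v : ι → F) :
    ∃ vW ∈ W, ∃ vP : ι → F, Perp J W vP ∧ v = vW + vP := by
  set φ : W →ₗ[F] Module.Dual F W := (dcBil J).domRestrict₁₂ W W with hφ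
  have hinj : Function.Injective φ := by
    rw [← LinearMap.ker_eq_bot, LinearMap.ker_eq_bot']
    intro u hu
    have h0 : (u : ι → F) = 0 := by
      apply hnd u u.2
      intro w' hw'
      have := LinearMap.congr_fun hu ⟨w', hw'⟩
      simpa [hφ, LinearMap.domRestrict₁₂_apply, dcBil_apply] using this
    exact Subtype.ext h0
  have hsurj : Function.Surjective φ :=
    (LinearMap.injective_iff_surjective_of_finrank_eq_finrank
      (Subspace.dual_finrank_eq (K := F) (V := W)).symm).1 hinj
  obtain ⟨u, hu⟩ := hsurj ((dcBil J v).domRestrict W)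
  refine ⟨u, u.2, v - u, ?_, by abel⟩
  intro w hw
  have := LinearMap.congr_fun hu ⟨w, hw⟩
  simp only [hφ, LinearMap.domRestrict₁₂_apply, dcBil_apply, LinearMap.domRestrict_apply] at this
  rw [fJ_sub_left, this, sub_self]

/-- (EX1) a mixed element of `P` -/
theorem exists_mixed (h : AltCtx J) {W : Submodule F (ι → F)} (hnd : NonDeg J W) (hW0 : W ≠ ⊥)
    (hWt : W ≠ ⊤) {P : Set (ι → F)} (hspan : Submodule.span F P = ⊤) (hdiam : Diam2 J P) :
    ∃ e ∈ P, ∃ eW ∈ W, ∃ eP : ι → F, Perp J W eP ∧ e = eW + eP ∧ eW ≠ 0 ∧ eP ≠ 0 := by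
  by_contra hcon
  push Not at hcon
  -- every element of `P` is in `W` or orthogonal to `W`
  have hdich : ∀ e ∈ P, e ∈ W ∨ Perp J W e := by
    intro e he
    obtain ⟨eW, heW, eP, heP, hsum⟩ := exists_decomp h hnd e
    by_cases h0 : eW = 0
    · right
      rw [hsum, h0, zero_add]
      exact heP
    · left
      have := hcon e he eW heW eP heP hsum h0
      rw [hsum, this, add_zero]
      exact heW
  -- an element of `P` outside `W`
  have hex1 : ∃ e' ∈ P, e' ∉ W := by
    by_contra hc
    push Not at hc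
    have hle : Submodule.span F P ≤ W := Submodule.span_le.2 hc
    rw [hspan] at hle
    exact hWt (top_le_iff.1 hle)
  obtain ⟨e', he'P, he'W⟩ := hex1
  have he'perp : Perp J W e' := (hdich e' he'P).resolve_left he'W
  -- an element of `P` not orthogonal to `W`
  have hex2 : ∃ e ∈ P, ¬ Perp J W e := by
    by_contra hc
    push Not at hc
    have hle : Submodule.span F P ≤ dcPerp J W := Submodule.span_le.2 hc
    rw [hspan] at hle
    obtain ⟨w0, hw0W, hw00⟩ := (Submodule.ne_bot_iff W).1 hW0
    apply hw00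
    apply hnd w0 hw0W
    intro w' hw'
    exact hle (Submodule.mem_top : w0 ∈ ⊤) w' hw'
  obtain ⟨e, heP, henp⟩ := hex2
  have heW : e ∈ W := (hdich e heP).resolve_right henp
  obtain ⟨e'', he''P, hn1, hn2⟩ := hdiam e heP e' he'P
  rcases hdich e'' he''P with h1 | h1
  · exact hn2 (he'perp e'' h1)
  · exact hn1 (fJ_eq_zero_symm h (h1 e heW))

end general

end Cfsg.Agent.Lib.Helper12.SOTGLeaf
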