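import Mathlib
import Cfsg.Agent.Lib.Helper2.SOTDefs
import Cfsg.Agent.Lib.Helper13.SOTGDefs
import Cfsg.Agent.Lib.Helper12.SOTGDC

/-!
helper12: S5666 part (G) leaves EX2 `perp_part_mem`, EX3 `exists_second`, EX4 `good_sup_plane`:
cores, proved against the statements of the leaves S1 (`SsetJ_mv`), TR (`exists_move`),
CM (`SsetJ_of_comm`), PL (`good_span_pair`) as hypotheses.
-/

set_option autoImplicit false
set_option linter.unusedSectionVars false
set_option linter.unusedVariables false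

namespace Cfsg.Agent.Lib.Helper12.SOTGLeaf
open Matrix
open Cfsg.Agent.Lib.Helper25.Tens Cfsg.Agent.Lib.Helper25.SpT Cfsg.Agent.Lib.Helper19.OSub
open Cfsg.Agent.Lib.Helper2.SOT Cfsg.Agent.Lib.Helper13.SOTG
open scoped Kronecker

section general
variable {ι : Type} [Fintype ι] [DecidableEq ι] {F : Type*} [Field F] {J : Matrix ι ι F}
  {M : Subgroup (GL ι F)}

/-- the statement of (S1) `SsetJ_mv` -/
def StMV (J : Matrix ι ι F) (M : Subgroup (GL ι F)) : Prop :=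
  ∀ {g : GL ι F}, g ∈ M → ∀ {u : ι → F}, u ∈ SsetJ J M → mv g u ∈ SsetJ J M

/-- the statement of (TR) `exists_move` -/
def StTR (J : Matrix ι ι F) (M : Subgroup (GL ι F)) : Prop :=
  ∀ {W : Submodule F (ι → F)}, Good J M W → NonDeg J W → ∀ {w₁ w₂ : ι → F}, w₁ ∈ W → w₂ ∈ W →
    w₁ ≠ 0 → w₂ ≠ 0 → ∃ g ∈ M, mv g w₁ = w₂ ∧ ∀ v : ι → F, Perp J W v → mv g v = v

/-- the statement of (CM) `SsetJ_of_comm` -/
def StCM (J : Matrix ι ι F) (M : Subgroup (GL ι F)) : Prop :=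
  ∀ {w w' e : ι → F}, w ∈ SsetJ J M → w' ∈ SsetJ J M → w + e ∈ SsetJ J M → w' + e ∈ SsetJ J M →
    fJ J w e = 0 → fJ J w' e = 0 → fJ J w w' ≠ 0 → e ∈ SsetJ J M

/-- the statement of (PL) `good_span_pair` -/
def StPL (J : Matrix ι ι F) (M : Subgroup (GL ι F)) : Prop :=
  ∀ {u w : ι → F}, u ∈ SsetJ J M → w ∈ SsetJ J M → fJ J u w ≠ 0 →
    Good J M (Submodule.span F {u, w}) ∧ NonDeg J (Submodule.span F {u, w})

/-- (EX2), core -/
theorem perp_part_mem_core (h : AltCtx J) (hMV : StMV J M) (hTR : StTR J M) (hCM : StCM J M)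
    {W : Submodule F (ι → F)} (hW : Good J M W)
    (hnd : NonDeg J W) {e eW eP : ι → F} (he : e ∈ SsetJ J M) (heW : eW ∈ W) (heP : Perp J W eP)
    (hsum : e = eW + eP) (heW0 : eW ≠ 0) :
    (∀ w ∈ W, w ≠ 0 → w + eP ∈ SsetJ J M) ∧ eP ∈ SsetJ J M := by
  have hfirst : ∀ w ∈ W, w ≠ 0 → w + eP ∈ SsetJ J M := by
    intro w hw hw0
    obtain ⟨g, hg, hgw, hfix⟩ := hTR hW hnd heW hw heW0 hw0
    have h1 := hMV hg he
    rw [hsum, mv_add, hgw, hfix eP heP] at h1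
    exact h1
  refine ⟨hfirst, ?_⟩
  -- `w' ∈ W` with `f(eW, w') ≠ 0`
  have hex : ∃ w' ∈ W, fJ J eW w' ≠ 0 := by
    by_contra hc
    push Not at hc
    exact heW0 (hnd eW heW hc)
  obtain ⟨w', hw'W, hne⟩ := hex
  have hw'0 : w' ≠ 0 := by
    rintro rfl
    exact hne (fJ_zero_right J eW)
  refine hCM (hW eW heW) (hW w' hw'W) ?_ (hfirst w' hw'W hw'0) ?_ ?_ hne
  · rw [← hsum]
    exact he
  · exact fJ_eq_zero_symm h (heP eW heW)
  · exact fJ_eq_zero_symm h (heP w' hw'W)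

/-- (EX3), core -/
theorem exists_second_core (h : AltCtx J) (hMV : StMV J M) (hTR : StTR J M) (hCM : StCM J M)
    {W : Submodule F (ι → F)} (hW : Good J M W)
    (hnd : NonDeg J W) {P : Set (ι → F)} (hP : P ⊆ SsetJ J M) (hspan : Submodule.span F P = ⊤)
    {p₁ : ι → F} (hp₁ : Perp J W p₁) (hp₁0 : p₁ ≠ 0) :
    ∃ p₂ : ι → F, p₂ ∈ SsetJ J M ∧ Perp J W p₂ ∧ fJ J p₁ p₂ ≠ 0 := by
  obtain ⟨e', he'P, hne⟩ := exists_mem_fJ_ne_zero h hspan hp₁0
  obtain ⟨e'W, he'W, e'P, he'P', hsum⟩ := exists_decomp h hnd e'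
  refine ⟨e'P, ?_, he'P', ?_⟩
  · by_cases h0 : e'W = 0
    · have : e'P = e' := by rw [hsum, h0, zero_add]
      rw [this]
      exact hP he'P
    · exact (perp_part_mem_core h hMV hTR hCM hW hnd (hP he'P) he'W he'P' hsum h0).2
  · have h1 : fJ J p₁ e'W = 0 := hp₁ e'W he'W
    rw [hsum, fJ_add_right, h1, zero_add] at hne
    exact hne

/-- elements of the span of two vectors orthogonal to `W` are orthogonal to `W` -/
lemma perp_of_mem_span_pair {W : Submodule F (ι → F)} {p₁ p₂ p : ι → F} (hp₁ : Perp J W p₁)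
    (hp₂ : Perp J W p₂) (hp : p ∈ Submodule.span F {p₁, p₂}) : Perp J W p := by
  have hle : Submodule.span F {p₁, p₂} ≤ dcPerp J W := by
    apply Submodule.span_le.2
    intro x hx
    rcases hx with rfl | hx
    · exact hp₁
    · rw [Set.mem_singleton_iff] at hx
      rw [hx]
      exact hp₂
  exact hle hp

/-- (EX4), core -/
theorem good_sup_plane_core (h : AltCtx J) (hMV : StMV J M) (hTR : StTR J M) (hPL : StPL J M)
    {W : Submodule F (ι → F)} (hW : Good J M W)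
    (hnd : NonDeg J W) {p₁ p₂ : ι → F} (hp₁S : p₁ ∈ SsetJ J M) (hp₂S : p₂ ∈ SsetJ J M)
    (hp₁ : Perp J W p₁) (hp₂ : Perp J W p₂) (hne : fJ J p₁ p₂ ≠ 0)
    (hadd : ∀ w ∈ W, w ≠ 0 → w + p₁ ∈ SsetJ J M) :
    Good J M (W ⊔ Submodule.span F {p₁, p₂}) ∧ NonDeg J (W ⊔ Submodule.span F {p₁, p₂}) ∧
      Module.finrank F W < Module.finrank F ↥(W ⊔ Submodule.span F {p₁, p₂}) := by
  obtain ⟨hGPl, hNPl⟩ := hPL hp₁S hp₂S hne
  have hp₁0 : p₁ ≠ 0 := by
    rintro rfl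
    exact hne (fJ_zero_left J p₂)
  have hp₁Pl : p₁ ∈ Submodule.span F {p₁, p₂} := Submodule.subset_span (by simp)
  -- `W ⊥ Π`
  have hWPl : ∀ w ∈ W, ∀ p ∈ Submodule.span F {p₁, p₂}, fJ J w p = 0 := by
    intro w hw p hp
    exact fJ_eq_zero_symm h (perp_of_mem_span_pair hp₁ hp₂ hp w hw)
  have hPlW : ∀ p ∈ Submodule.span F {p₁, p₂}, ∀ w ∈ W, fJ J p w = 0 := by
    intro p hp w hw
    exact perp_of_mem_span_pair hp₁ hp₂ hp w hw
  refine ⟨?_, ?_, ?_⟩
  · -- good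
    intro v hv
    obtain ⟨w, hw, p, hp, rfl⟩ := Submodule.mem_sup.1 hv
    by_cases hw0 : w = 0
    · rw [hw0, zero_add]
      exact hGPl p hp
    by_cases hp0 : p = 0
    · rw [hp0, add_zero]
      exact hW w hw
    obtain ⟨g, hg, hgp, hfix⟩ := hTR hGPl hNPl hp₁Pl hp hp₁0 hp0
    have h1 := hMV hg (hadd w hw hw0)
    rw [mv_add, hgp, hfix w (fun x hx => hWPl w hw x hx)] at h1
    exact h1
  · -- nondegenerate
    intro v hv hall
    obtain ⟨w, hw, p, hp, rfl⟩ := Submodule.mem_sup.1 hv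
    have hw0 : w = 0 := by
      apply hnd w hw
      intro x hx
      have := hall x (Submodule.mem_sup_left hx)
      rw [fJ_add_left, hPlW p hp x hx, add_zero] at this
      exact this
    have hp0 : p = 0 := by
      apply hNPl p hp
      intro x hx
      have := hall x (Submodule.mem_sup_right hx)
      rw [fJ_add_left, hWPl w hw x hx, zero_add] at this
      exact this
    rw [hw0, hp0, add_zero]
  · -- bigger
    apply Submodule.finrank_lt_finrank_of_lt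
    refine lt_of_le_of_ne le_sup_left ?_
    intro heq
    have hp₁W : p₁ ∈ W := by
      rw [heq]
      exact Submodule.mem_sup_right hp₁Pl
    exact hp₁0 (hnd p₁ hp₁W (fun w' hw' => hp₁ w' hw'))

end general

end Cfsg.Agent.Lib.Helper12.SOTGLeaf
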