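import Mathlib
import Cfsg.Agent.Lib.Helper2.SOTDefs
import Cfsg.Agent.Lib.Helper13.SOTGDefs
import Cfsg.Agent.Lib.Helper12.SOTGDC
import Cfsg.Agent.Lib.Helper12.SOTGEXcore
import Cfsg.Agent.Lib.Helper7.SOTGS
import Cfsg.Agent.Lib.Helper24.SOTGPL
import Cfsg.Agent.Lib.Helper13.SOTGCM
import Cfsg.Agent.Lib.Helper13.SOTGTR

/-!
helper12: S5666 part (G) leaves EX2 `perp_part_mem`, EX3 `exists_second`, EX4 `good_sup_plane`
(exact signatures of notes/S5666_G_leaves.lean), from the cores in `SOTGEXcore` and the landed leaves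
S1' (helper7), PL (helper24), CM + TR (helper13).
-/

set_option autoImplicit false
set_option linter.unusedSectionVars false
set_option linter.unusedVariables false

namespace Cfsg.Agent.Lib.Helper12.SOTGLeaf
open Matrix
open Cfsg.Agent.Lib.Helper25.Tens Cfsg.Agent.Lib.Helper25.SpT Cfsg.Agent.Lib.Helper19.OSub
open Cfsg.Agent.Lib.Helper2.SOT Cfsg.Agent.Lib.Helper13.SOTG
open scoped Kronecker

section general
variable {ι : Type} [Fintype ι] [DecidableEq ι] {F : Type*} [Field F] {J : Matrix ι ι F}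
  {M : Subgroup (GL ι F)}

theorem stMV (hM : M ≤ SpJ J) : StMV J M := fun hg _ hu c =>
  Cfsg.Agent.Lib.Helper7.SOTGLeaf.inM_tvJ_conj hM hg (hu c)

theorem stTR (h : AltCtx J) (hM : M ≤ SpJ J) : StTR J M := fun hW hnd _ _ h₁ h₂ h₁0 h₂0 =>
  Cfsg.Agent.Lib.Helper13.SOTGLeaf.exists_move h hM hW hnd h₁ h₂ h₁0 h₂0

theorem stCM (h : AltCtx J) : StCM J M := fun hw hw' hwe hw'e h1 h2 hne =>
  Cfsg.Agent.Lib.Helper13.SOTGLeaf.SsetJ_of_comm h hw hw' hwe hw'e h1 h2 hne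

theorem stPL (h : AltCtx J) (hM : M ≤ SpJ J) : StPL J M := fun hu hw hne =>
  Cfsg.Agent.Lib.Helper24.SOTGLeaf.good_span_pair h hM hu hw hne

/-- (EX2) -/
theorem perp_part_mem (h : AltCtx J) (hM : M ≤ SpJ J) {W : Submodule F (ι → F)} (hW : Good J M W)
    (hnd : NonDeg J W) {e eW eP : ι → F} (he : e ∈ SsetJ J M) (heW : eW ∈ W) (heP : Perp J W eP)
    (hsum : e = eW + eP) (heW0 : eW ≠ 0) :
    (∀ w ∈ W, w ≠ 0 → w + eP ∈ SsetJ J M) ∧ eP ∈ SsetJ J M :=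
  perp_part_mem_core h (stMV hM) (stTR h hM) (stCM h) hW hnd he heW heP hsum heW0

/-- (EX3) -/
theorem exists_second (h : AltCtx J) (hM : M ≤ SpJ J) {W : Submodule F (ι → F)} (hW : Good J M W)
    (hnd : NonDeg J W) {P : Set (ι → F)} (hP : P ⊆ SsetJ J M) (hspan : Submodule.span F P = ⊤)
    {p₁ : ι → F} (hp₁ : Perp J W p₁) (hp₁0 : p₁ ≠ 0) :
    ∃ p₂ : ι → F, p₂ ∈ SsetJ J M ∧ Perp J W p₂ ∧ fJ J p₁ p₂ ≠ 0 :=
  exists_second_core h (stMV hM) (stTR h hM) (stCM h) hW hnd hP hspan hp₁ hp₁0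

/-- (EX4) -/
theorem good_sup_plane (h : AltCtx J) (hM : M ≤ SpJ J) {W : Submodule F (ι → F)} (hW : Good J M W)
    (hnd : NonDeg J W) {p₁ p₂ : ι → F} (hp₁S : p₁ ∈ SsetJ J M) (hp₂S : p₂ ∈ SsetJ J M)
    (hp₁ : Perp J W p₁) (hp₂ : Perp J W p₂) (hne : fJ J p₁ p₂ ≠ 0)
    (hadd : ∀ w ∈ W, w ≠ 0 → w + p₁ ∈ SsetJ J M) :
    Good J M (W ⊔ Submodule.span F {p₁, p₂}) ∧ NonDeg J (W ⊔ Submodule.span F {p₁, p₂}) ∧
      Module.finrank F W < Module.finrank F ↥(W ⊔ Submodule.span F {p₁, p₂}) :=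
  good_sup_plane_core h (stMV hM) (stTR h hM) (stPL h hM) hW hnd hp₁S hp₂S hp₁ hp₂ hne hadd

end general

end Cfsg.Agent.Lib.Helper12.SOTGLeaf
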