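import Mathlib
import Cfsg.Agent.Lib.Helper5.UOGBase
import Cfsg.Agent.Lib.Helper22.UOGC

/-!
S5681 / S5709 part (G) (helper5's growth market), block R/E (helper12):
`IA_of_rootM`, `exists_kelI`, `sq_mem_MI`, `exists_actA`, `exists_actB`, exact signatures of
`notes/S5681_G_leaves.lean`.
-/

set_option autoImplicit false
set_option linter.unusedSectionVars false
set_option linter.unusedVariables false

namespace Cfsg.Agent.Lib.Helper12.UOGLeaf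
open Matrix QuadraticMap Module
open Cfsg.Agent.Lib.Helper25.Tens Cfsg.Agent.Lib.Helper2.SOT Cfsg.Agent.Lib.Helper7.OTT
  Cfsg.Agent.Lib.Helper25.CD Cfsg.Agent.Lib.Helper5.NSMax Cfsg.Agent.Lib.Helper5.PairMax
  Cfsg.Agent.Lib.Helper5.TSMax Cfsg.Agent.Lib.Helper5.NDMax Cfsg.Agent.Lib.Helper5.UOG
open scoped Kronecker

section gram
variable {F : Type*} [Field F] {κ : Type} [Fintype κ] [DecidableEq κ]

/-- an isometry of `QG K` (`K` symmetric, `2 ≠ 0`) preserves the polar form -/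
theorem polar_iso (Q : QuadraticForm F (κ → F)) (g : ↥(Cfsg.isometryGroup F ⇑Q)) (x y : κ → F) :
    polar Q (((g : GL κ F) : Matrix κ κ F) *ᵥ x) (((g : GL κ F) : Matrix κ κ F) *ᵥ y) = polar Q x y := by
  have hg : ∀ u : κ → F, Q (((g : GL κ F) : Matrix κ κ F) *ᵥ u) = Q u := fun u => g.2 u u
  unfold polar
  rw [← Matrix.mulVec_add, hg, hg, hg]

/-- adjunction for the dot product -/
theorem mulVec_dot (g : Matrix κ κ F) (x w : κ → F) : (g *ᵥ x) ⬝ᵥ w = x ⬝ᵥ (gᵀ *ᵥ w) := by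
  rw [dotProduct_comm, Matrix.dotProduct_mulVec, dotProduct_comm, Matrix.mulVec_transpose]

/-- the Gram matrix is preserved by an isometry -/
theorem gram_of_iso {K : Matrix κ κ F} (hK : Kᵀ = K) (h2 : (2 : F) ≠ 0)
    (g : ↥(Cfsg.isometryGroup F ⇑(QG K))) :
    ((g : GL κ F) : Matrix κ κ F)ᵀ * K * ((g : GL κ F) : Matrix κ κ F) = K := by
  ext i j
  have h := polar_iso (QG K) g (Pi.single i 1) (Pi.single j 1)
  rw [polar_QG hK h2, polar_QG hK h2, mulVec_dot, Matrix.mulVec_mulVec, Matrix.mulVec_mulVec] at h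
  have e1 : ∀ (A : Matrix κ κ F), (Pi.single i (1 : F) : κ → F) ⬝ᵥ (A *ᵥ Pi.single j 1) = A i j := by
    intro A
    simp
  rw [e1, e1] at h
  exact h

/-- conversely: a unit whose matrix preserves the Gram matrix is an isometry -/
theorem mem_iso_of_gram {K : Matrix κ κ F} (g : GL κ F)
    (hg : (g : Matrix κ κ F)ᵀ * K * (g : Matrix κ κ F) = K) :
    g ∈ Cfsg.isometryGroup F ⇑(QG K) := by
  intro u _
  change QG K ((g : Matrix κ κ F) *ᵥ u) = QG K u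
  rw [QG_apply, QG_apply, mulVec_dot, Matrix.mulVec_mulVec, Matrix.mulVec_mulVec, hg]

end gram

section model
variable {F : Type*} [Field F] [Fintype F] {a b : ℕ} {G₁ : Matrix (Fin a) (Fin a) F}
  {G₂ : Matrix (Fin b) (Fin b) F} {M : Subgroup (GL (Idx a b) F)}

/-- (R1) a root subgroup given by matrices in `M` gives `v ∈ A(u)` (`u, v` singular, orthogonal). -/
theorem IA_of_rootM (h : GCtx G₁ G₂ M) {u v : Idx a b → F} (hu : QV G₁ G₂ u = 0)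
    (hv : QV G₁ G₂ v = 0) (huv : polar (QV G₁ G₂) u v = 0)
    (hr : ∀ c : F, InM M (rootM (G₁ ⊗ₖ G₂) u v c)) : IA (QV G₁ G₂) M u v := by
  have hK : (G₁ ⊗ₖ G₂)ᵀ = G₁ ⊗ₖ G₂ :=
    (Cfsg.Agent.Lib.Helper5.UOGLeaf.kron_symm_det h.symA h.symB h.detA h.detB).1
  intro c
  obtain ⟨t, htM, htc⟩ := hr c
  obtain ⟨g, hgΩ, hgt⟩ := h.le_om htM
  have hgt' : (g : GL (Idx a b) F) = t := hgt
  refine ⟨g, ?_, fun x => ?_⟩
  · rw [mem_MI, hgt']
    exact htM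
  · rw [toOG_apply, hgt', htc, Cfsg.Agent.Lib.Helper5.UOGLeaf.rootM_mulVec hK]
    unfold egen
    have hQ : QV G₁ G₂ (c • v) = 0 := by rw [QuadraticMap.map_smul, hv, smul_zero]
    rw [hQ, polar_smul_left, polar_QG hK h.two, polar_QG hK h.two]
    simp only [smul_eq_mul, zero_mul, zero_smul, sub_zero]
    module

/-- (E2) the Kronecker product of two isometries is an isometry of `QV`. -/
theorem exists_kelI (hA : G₁ᵀ = G₁) (hB : G₂ᵀ = G₂) (h2 : (2 : F) ≠ 0)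
    (gA : ↥(Cfsg.isometryGroup F ⇑(QG G₁))) (gB : ↥(Cfsg.isometryGroup F ⇑(QG G₂))) :
    ∃ g : ↥(Cfsg.isometryGroup F ⇑(QV G₁ G₂)),
      (g : GL (Idx a b) F) = kel (gA : GL (Fin a) F) (gB : GL (Fin b) F) := by
  refine ⟨⟨kel (gA : GL (Fin a) F) (gB : GL (Fin b) F), ?_⟩, rfl⟩
  apply mem_iso_of_gram
  rw [kel_val, ← Matrix.kroneckerMap_transpose, ← Matrix.mul_kronecker_mul,
    ← Matrix.mul_kronecker_mul, gram_of_iso hA h2 gA, gram_of_iso hB h2 gB]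

/-- (E3) SQUARES of Kronecker isometries lie in `M`. -/
theorem sq_mem_MI (h : GCtx G₁ G₂ M) (gA : ↥(Cfsg.isometryGroup F ⇑(QG G₁)))
    (gB : ↥(Cfsg.isometryGroup F ⇑(QG G₂))) :
    ∃ g ∈ MI (QV G₁ G₂) M, ∀ (x : Fin a → F) (y : Fin b → F),
      toOG (QV G₁ G₂) g (pt x y) =
        pt (toOG (QG G₁) gA (toOG (QG G₁) gA x)) (toOG (QG G₂) gB (toOG (QG G₂) gB y)) := by
  obtain ⟨g0, hg0⟩ := exists_kelI h.symA h.symB h.two gA gB
  have hK := Cfsg.Agent.Lib.Helper5.UOGLeaf.kron_symm_det h.symA h.symB h.detA h.detB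
  have hnd : (polarBilin (QV G₁ G₂)).Nondegenerate :=
    Cfsg.Agent.Lib.Helper5.UOGLeaf.nd_QG hK.1 hK.2 h.two
  have hΩ : g0 * g0 ∈ Cfsg.Omega F ⇑(QV G₁ G₂) :=
    Cfsg.Agent.Lib.Helper25.Siegel.sq_mem_omega (QV G₁ G₂) h.two hnd g0
  have hcoe : ((g0 * g0 : ↥(Cfsg.isometryGroup F ⇑(QV G₁ G₂))) : GL (Idx a b) F) =
      kel (gA : GL (Fin a) F) (gB : GL (Fin b) F) * kel (gA : GL (Fin a) F) (gB : GL (Fin b) F) := by
    rw [Subgroup.coe_mul, hg0]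
  refine ⟨g0 * g0, ?_, fun x y => ?_⟩
  · rw [mem_MI]
    apply h.le
    refine ⟨?_, ⟨g0 * g0, hΩ, rfl⟩⟩
    rw [hcoe]
    exact (KG a b F).mul_mem (kel_mem_KG _ _) (kel_mem_KG _ _)
  · rw [toOG_apply, hcoe, Units.val_mul, ← Matrix.mulVec_mulVec, kel_mulVec_pt, kel_mulVec_pt]
    rfl

/-- (E4) `egen_{s,v} ⊗ 1 ∈ M` -/
theorem exists_actA (h : GCtx G₁ G₂ M) {s v : Fin a → F} (hs : fB G₁ s s = 0)
    (hsv : fB G₁ s v = 0) :
    ∃ g ∈ MI (QV G₁ G₂) M, ∀ (x : Fin a → F) (y : Fin b → F),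
      toOG (QV G₁ G₂) g (pt x y) = pt (egen (QG G₁) s v x) y := by
  have hQs : QG G₁ s = 0 := by
    rw [Cfsg.Agent.Lib.Helper5.UOGLeaf.QG_eq_fB, hs, mul_zero]
  have hpol : polar (QG G₁) s ((2 : F)⁻¹ • v) = 0 := by
    rw [polar_smul_right, Cfsg.Agent.Lib.Helper5.UOGLeaf.polar_QG_fB h.symA h.two, hsv, smul_zero]
  obtain ⟨gA, hgA⟩ := Cfsg.Agent.Lib.Helper22.UOGLeaf.exists_egenG (QG G₁) hQs hpol
  obtain ⟨g, hgM, hg⟩ := sq_mem_MI h gA (1 : ↥(Cfsg.isometryGroup F ⇑(QG G₂)))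
  refine ⟨g, hgM, fun x y => ?_⟩
  rw [hg, hgA, hgA, egen_add (QG G₁) hQs hpol hpol, map_one]
  have e : (2 : F)⁻¹ • v + (2 : F)⁻¹ • v = v := by
    rw [← add_smul, ← two_mul, mul_inv_cancel₀ h.two, one_smul]
  rw [e]
  rfl

/-- (E5) `1 ⊗ egen_{s,v} ∈ M` -/
theorem exists_actB (h : GCtx G₁ G₂ M) {s v : Fin b → F} (hs : fB G₂ s s = 0)
    (hsv : fB G₂ s v = 0) :
    ∃ g ∈ MI (QV G₁ G₂) M, ∀ (x : Fin a → F) (y : Fin b → F),
      toOG (QV G₁ G₂) g (pt x y) = pt x (egen (QG G₂) s v y) := by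
  have hQs : QG G₂ s = 0 := by
    rw [Cfsg.Agent.Lib.Helper5.UOGLeaf.QG_eq_fB, hs, mul_zero]
  have hpol : polar (QG G₂) s ((2 : F)⁻¹ • v) = 0 := by
    rw [polar_smul_right, Cfsg.Agent.Lib.Helper5.UOGLeaf.polar_QG_fB h.symB h.two, hsv, smul_zero]
  obtain ⟨gB, hgB⟩ := Cfsg.Agent.Lib.Helper22.UOGLeaf.exists_egenG (QG G₂) hQs hpol
  obtain ⟨g, hgM, hg⟩ := sq_mem_MI h (1 : ↥(Cfsg.isometryGroup F ⇑(QG G₁))) gB
  refine ⟨g, hgM, fun x y => ?_⟩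
  rw [hg, hgB, hgB, egen_add (QG G₂) hQs hpol hpol, map_one]
  have e : (2 : F)⁻¹ • v + (2 : F)⁻¹ • v = v := by
    rw [← add_smul, ← two_mul, mul_inv_cancel₀ h.two, one_smul]
  rw [e]
  rfl

end model

end Cfsg.Agent.Lib.Helper12.UOGLeaf
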