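import Mathlib

/-!
# AP-SYL (S3614 market "AP", planner helper4)

`z ∈ H` of prime order `r` with minimal support, `F ⊆ Fix z`, `|Fix z \ F| < r`, `|Ω \ F| < r²`:
every `r`-subgroup `S ≤ H` containing `z` and fixing `F` pointwise is `⟨z⟩`.
-/

set_option autoImplicit false

namespace Cfsg.Agent.Lib.Helper12.APSYL

open Equiv MulAction

variable {Ω : Type*} [Fintype Ω] [DecidableEq Ω]

theorem inv_app_self (s : Perm Ω) (x : Ω) : s⁻¹ (s x) = x := s.symm_apply_apply x

/-- the orbit of `x` under a subgroup `S` of `Perm Ω`, as a finset -/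
noncomputable def orb (S : Subgroup (Perm Ω)) (x : Ω) : Finset Ω := by
  classical
  exact Finset.univ.filter (fun y => ∃ s ∈ S, s x = y)

theorem mem_orb (S : Subgroup (Perm Ω)) (x y : Ω) : y ∈ orb S x ↔ ∃ s ∈ S, s x = y := by
  classical
  simp [orb]

theorem self_mem_orb (S : Subgroup (Perm Ω)) (x : Ω) : x ∈ orb S x :=
  (mem_orb S x x).2 ⟨1, S.one_mem, rfl⟩

theorem card_orb_eq (S : Subgroup (Perm Ω)) (x : Ω) :
    (orb S x).card = Nat.card (orbit ↥S x) := by
  classical
  rw [← Nat.card_eq_finsetCard]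
  apply Nat.card_congr
  refine ⟨fun y => ⟨y.1, ?_⟩, fun y => ⟨y.1, ?_⟩, fun y => rfl, fun y => rfl⟩
  · obtain ⟨s, hs, hsx⟩ := (mem_orb S x y.1).1 y.2
    exact ⟨⟨s, hs⟩, hsx⟩
  · obtain ⟨s, hsx⟩ := y.2
    exact (mem_orb S x y.1).2 ⟨s.1, s.2, hsx⟩

theorem card_orb_pow (S : Subgroup (Perm Ω)) (r : ℕ) (hr : r.Prime) (hS : IsPGroup r ↥S) (x : Ω) :
    ∃ n : ℕ, (orb S x).card = r ^ n := by
  have := Fact.mk hr
  obtain ⟨n, hn⟩ := hS.card_orbit (α := Ω) x
  exact ⟨n, by rw [card_orb_eq, hn]⟩

/-- **AP-SYL**. -/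
theorem APSYL (H : Subgroup (Perm Ω)) (r : ℕ) (hr : r.Prime) {z : Perm Ω}
    (hz : z ∈ H) (hzr : orderOf z = r)
    (hmax : ∀ g ∈ H, orderOf g = r → z.support.card ≤ g.support.card)
    (F : Finset Ω) (hF : ∀ x ∈ F, z x = x)
    (h1 : Fintype.card Ω < z.support.card + F.card + r)
    (h2 : Fintype.card Ω < F.card + r ^ 2)
    (S : Subgroup (Perm Ω)) (hSH : S ≤ H) (hS : IsPGroup r ↥S) (hzS : z ∈ S)
    (hSF : ∀ s ∈ S, ∀ x ∈ F, s x = x) : S = Subgroup.zpowers z := by
  classical
  have hr2 : 2 ≤ r := hr.two_le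
  -- orbits of points outside F avoid F
  have havoid : ∀ x, x ∉ F → ∀ y ∈ orb S x, y ∉ F := by
    intro x hx y hy hyF
    obtain ⟨s, hs, rfl⟩ := (mem_orb S x y).1 hy
    have h := hSF s⁻¹ (S.inv_mem hs) (s x) hyF
    rw [inv_app_self] at h
    exact hx (h ▸ hyF)
  -- (c) for x in supp z the S-orbit is the z-cycle
  have hcyc : ∀ x, z x ≠ x → orb S x = (z.cycleOf x).support := by
    intro x hx
    have hxF : x ∉ F := fun h => hx (hF x h)
    have hcard : (z.cycleOf x).support.card = r := by
      have hc : (z.cycleOf x).IsCycle := Perm.isCycle_cycleOf z hx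
      have hd : (z.cycleOf x).support.card ∣ r := by
        rw [← hc.orderOf, ← hzr]; exact Perm.orderOf_cycleOf_dvd_orderOf z x
      have h2' : 2 ≤ (z.cycleOf x).support.card := hc.two_le_card_support
      rcases (Nat.dvd_prime hr).1 hd with h | h
      · omega
      · exact h
    have hsub : (z.cycleOf x).support ⊆ orb S x := by
      intro y hy
      rw [Perm.mem_support_cycleOf_iff' hx] at hy
      obtain ⟨i, hi⟩ := hy
      exact (mem_orb S x y).2 ⟨z ^ i, S.zpow_mem hzS i, hi⟩
    obtain ⟨n, hn⟩ := card_orb_pow S r hr hS x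
    have hle : (orb S x).card ≤ Fintype.card Ω - F.card := by
      have hdisj : Disjoint (orb S x) F := by
        rw [Finset.disjoint_left]; exact havoid x hxF
      have := Finset.card_le_univ (orb S x ∪ F)
      rw [Finset.card_union_of_disjoint hdisj] at this
      omega
    have hn2 : n < 2 := by
      have hFle : F.card ≤ Fintype.card Ω := Finset.card_le_univ F
      have : r ^ n < r ^ 2 := by rw [← hn]; omega
      exact (Nat.pow_lt_pow_iff_right hr.one_lt).1 this
    have hcle : (orb S x).card ≤ (z.cycleOf x).support.card := by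
      rw [hcard, hn]
      interval_cases n
      · simp; omega
      · simp
    exact (Finset.eq_of_subset_of_card_le hsub hcle).symm
  have hsame : ∀ x, z x ≠ x → ∀ s ∈ S, z.SameCycle x (s x) := by
    intro x hx s hs
    have : s x ∈ orb S x := (mem_orb S x _).2 ⟨s, hs, rfl⟩
    rw [hcyc x hx, Perm.mem_support_cycleOf_iff' hx] at this
    exact this
  -- S preserves supp z
  have hpres : ∀ x, z x ≠ x → ∀ s ∈ S, z (s x) ≠ s x := by
    intro x hx s hs
    have h := (hsame x hx s hs).mem_support_iff
    rw [Perm.mem_support, Perm.mem_support] at h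
    exact h.1 hx
  -- (d) S fixes Fix z pointwise
  have hfix : ∀ y, z y = y → ∀ s ∈ S, s y = y := by
    intro y hy s hs
    by_cases hyF : y ∈ F
    · exact hSF s hs y hyF
    have hsub : orb S y ⊆ (Finset.univ \ z.support) \ F := by
      intro w hw
      have hwF := havoid y hyF w hw
      obtain ⟨t, ht, rfl⟩ := (mem_orb S y w).1 hw
      simp only [Finset.mem_sdiff, Finset.mem_univ, true_and, Perm.mem_support, not_not]
      refine ⟨?_, hwF⟩
      by_contra hcon
      have := hpres (t y) hcon t⁻¹ (S.inv_mem ht)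
      rw [inv_app_self] at this
      exact this hy
    have hcle := Finset.card_le_card hsub
    have hFsub : F ⊆ Finset.univ \ z.support := by
      intro w hw
      simp only [Finset.mem_sdiff, Finset.mem_univ, true_and, Perm.mem_support, not_not]
      exact hF w hw
    rw [Finset.card_sdiff_of_subset hFsub, Finset.card_sdiff_of_subset (Finset.subset_univ _),
      Finset.card_univ] at hcle
    have hzle : z.support.card ≤ Fintype.card Ω := Finset.card_le_univ _
    obtain ⟨n, hn⟩ := card_orb_pow S r hr hS y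
    have hlt : (orb S y).card < r := by omega
    have hn0 : n = 0 := by
      by_contra hne
      have : r ^ 1 ≤ r ^ n := Nat.pow_le_pow_right hr.pos (Nat.one_le_iff_ne_zero.2 hne)
      rw [pow_one] at this
      omega
    rw [hn0, pow_zero] at hn
    have hsy : s y ∈ orb S y := (mem_orb S y _).2 ⟨s, hs, rfl⟩
    exact Finset.card_le_one.1 hn.le _ hsy _ (self_mem_orb S y)
  -- (e) point stabilizers in S of points of supp z are trivial
  have hstab : ∀ x, z x ≠ x → ∀ s ∈ S, s x = x → s = 1 := by
    intro x hx s hs hsx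
    by_contra hs1
    obtain ⟨k, hk⟩ := hS ⟨s, hs⟩
    have hk' : s ^ (r ^ k) = 1 := by
      have := congrArg Subtype.val hk
      simpa using this
    obtain ⟨j, hjk, hj⟩ := (Nat.dvd_prime_pow hr).1 (orderOf_dvd_of_pow_eq_one hk')
    have hj0 : j ≠ 0 := by
      rintro rfl
      rw [pow_zero, orderOf_eq_one_iff] at hj
      exact hs1 hj
    obtain ⟨i, rfl⟩ := Nat.exists_eq_succ_of_ne_zero hj0
    set g := s ^ (r ^ i) with hg
    have hgS : g ∈ S := S.pow_mem hs _
    have hgr : orderOf g = r := by
      have := Fact.mk hr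
      apply orderOf_eq_prime
      · rw [hg, ← pow_mul, ← pow_succ, ← hj, pow_orderOf_eq_one]
      · intro h1'
        have := orderOf_dvd_of_pow_eq_one h1'
        rw [hj] at this
        have hlt : r ^ i < r ^ (i + 1) := Nat.pow_lt_pow_right hr.one_lt (Nat.lt_succ_self i)
        exact absurd (Nat.le_of_dvd (pow_pos hr.pos _) this) (not_le.2 hlt)
    have hsub : g.support ⊆ z.support.erase x := by
      intro y hy
      have hys : y ∈ s.support := Perm.support_pow_le s _ hy
      rw [Finset.mem_erase, Perm.mem_support]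
      refine ⟨?_, fun hzy => (Perm.mem_support.1 hys) (hfix y hzy s hs)⟩
      rintro rfl
      exact (Perm.mem_support.1 hys) hsx
    have hlt : g.support.card < z.support.card := by
      have := Finset.card_le_card hsub
      rw [Finset.card_erase_of_mem (Perm.mem_support.2 hx)] at this
      have hpos : 0 < z.support.card := Finset.card_pos.2 ⟨x, Perm.mem_support.2 hx⟩
      omega
    exact absurd (hmax g (hSH hgS) hgr) (not_le.2 hlt)
  -- conclusion
  apply le_antisymm
  · intro s hs
    have hz1 : z ≠ 1 := by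
      rintro rfl
      rw [orderOf_one] at hzr
      omega
    obtain ⟨x, hx⟩ : ∃ x, z x ≠ x := by
      by_contra hcon
      exact hz1 (Perm.ext fun y => by
        by_contra hy
        exact hcon ⟨y, hy⟩)
    obtain ⟨i, hi⟩ := hsame x hx s hs
    have : (z ^ i)⁻¹ * s = 1 := by
      apply hstab x hx _ (S.mul_mem (S.inv_mem (S.zpow_mem hzS i)) hs)
      rw [Perm.mul_apply, ← hi, inv_app_self]
    rw [inv_mul_eq_one] at this
    rw [← this]
    exact Subgroup.zpow_mem_zpowers z i
  · exact (Subgroup.zpowers_le).2 hzS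

end Cfsg.Agent.Lib.Helper12.APSYL
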