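import Mathlib
import Cfsg.Prelude.Def_Solvable
import Cfsg.Prelude.Def_Local
import Cfsg.Prelude.Def_Transfer
import Cfsg.Prelude.Def_PLocal
import Cfsg.Agent.Lib.Helper26.AUTQDefs

/-! S4411 leaf **B3** (helper12): characteristic subgroups of `R/Z` pull back to characteristic subgroups of `R`. -/

set_option autoImplicit false

namespace Cfsg.Agent.Lib.Helper12.AUTQB3

open Cfsg Cfsg.Agent.Lib.Helper26.AUTQ

universe u

/-- (B3) Characteristic subgroups of `R/Z` pull back to characteristic subgroups of `R` (`Z ≤ R` characteristic in `R`,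
normal in `X`). -/
theorem b3 {X : Type u} [Group X] (R Z : Subgroup X) [Z.Normal] (hZR : Z ≤ R)
    (hZchar : (Z.subgroupOf R).Characteristic)
    (T' : Subgroup (X ⧸ Z)) (hT'R : T' ≤ R.map (QuotientGroup.mk' Z))
    (hT'char : (T'.subgroupOf (R.map (QuotientGroup.mk' Z))).Characteristic) :
    ((T'.comap (QuotientGroup.mk' Z)).subgroupOf R).Characteristic := by
  set π := QuotientGroup.mk' Z with hπ
  set Rb := R.map π with hRb
  -- the restriction `ρ : R → R̄`
  set ρ : ↥R →* ↥Rb := (π.comp R.subtype).codRestrict Rb (fun r => ⟨r, r.2, rfl⟩) with hρ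
  have hρsurj : Function.Surjective ρ := by
    rintro ⟨_, ⟨r, hr, rfl⟩⟩
    exact ⟨⟨r, hr⟩, rfl⟩
  have hker : ρ.ker = Z.subgroupOf R := by
    ext r
    rw [MonoidHom.mem_ker, Subgroup.mem_subgroupOf]
    constructor
    · intro h
      have h1 : ((ρ r : ↥Rb) : X ⧸ Z) = 1 := by rw [h]; rfl
      have h2 : π (r : X) = 1 := h1
      exact (QuotientGroup.eq_one_iff _).mp h2
    · intro h
      apply Subtype.ext
      have h2 : π (r : X) = 1 := (QuotientGroup.eq_one_iff _).mpr h
      exact h2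
  rw [Subgroup.characteristic_iff_le_comap]
  intro φ r hr
  rw [Subgroup.mem_comap, Subgroup.mem_subgroupOf, Subgroup.mem_comap]
  rw [Subgroup.mem_subgroupOf, Subgroup.mem_comap] at hr
  -- the induced automorphism of `R̄`
  have hmapker : ρ.ker.map (φ : ↥R →* ↥R) = ρ.ker := by
    rw [hker]
    exact (Subgroup.characteristic_iff_map_eq.mp hZchar) φ
  set e := QuotientGroup.quotientKerEquivOfSurjective ρ hρsurj with he
  set ψ := QuotientGroup.congr ρ.ker ρ.ker φ hmapker with hψ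
  set φb : ↥Rb ≃* ↥Rb := e.symm.trans (ψ.trans e) with hφb
  have hφbρ : ∀ s : ↥R, φb (ρ s) = ρ (φ s) := by
    intro s
    have h1 : e.symm (ρ s) = (QuotientGroup.mk s : ↥R ⧸ ρ.ker) := by
      rw [MulEquiv.symm_apply_eq]
      rfl
    show e (ψ (e.symm (ρ s))) = ρ (φ s)
    rw [h1]
    rfl
  have hchar := (Subgroup.characteristic_iff_le_comap.mp hT'char) φb
  have hmem : ρ r ∈ T'.subgroupOf Rb := by
    rw [Subgroup.mem_subgroupOf]
    exact hr
  have h2 := hchar hmem
  rw [Subgroup.mem_comap, Subgroup.mem_subgroupOf] at h2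
  have h3 : φb (ρ r) = ρ (φ r) := hφbρ r
  have h4 : ((φb.toMonoidHom (ρ r) : ↥Rb) : X ⧸ Z) = π ((φ r : ↥R) : X) := by
    show ((φb (ρ r) : ↥Rb) : X ⧸ Z) = _
    rw [h3]
    rfl
  rw [h4] at h2
  exact h2

end Cfsg.Agent.Lib.Helper12.AUTQB3
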