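import Mathlib
import Cfsg.Prelude.Def_Solvable
import Cfsg.Prelude.Def_Local
import Cfsg.Prelude.Def_Transfer
import Cfsg.Prelude.Def_PLocal
import Cfsg.Agent.Lib.Helper26.AUTQDefs

/-! S4411 leaf **B4** (helper12). -/

set_option autoImplicit false

namespace Cfsg.Agent.Lib.Helper12.AUTQB4

open Cfsg Cfsg.Agent.Lib.Helper26.AUTQ

universe u

/-- if `y` commutes with `z` and `y h y⁻¹ = z h` then `y^k h y^-k = z^k h` -/
theorem pow_conj_eq_mul {X : Type*} [Group X] (y h z : X) (hz : y * z = z * y)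
    (hh : y * h * y⁻¹ = z * h) (k : ℕ) : y ^ k * h * (y ^ k)⁻¹ = z ^ k * h := by
  induction k with
  | zero => simp
  | succ k ih =>
    have hzk : y * z ^ k = z ^ k * y := by
      have : Commute y z := hz
      exact (this.pow_right k).eq
    calc y ^ (k + 1) * h * (y ^ (k + 1))⁻¹ = y * (y ^ k * h * (y ^ k)⁻¹) * y⁻¹ := by
          rw [pow_succ', mul_inv_rev]
          group
      _ = y * (z ^ k * h) * y⁻¹ := by rw [ih]
      _ = (y * z ^ k) * h * y⁻¹ := by group
      _ = z ^ k * (y * h * y⁻¹) := by rw [hzk]; group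
      _ = z ^ k * (z * h) := by rw [hh]
      _ = z ^ (k + 1) * h := by rw [pow_succ]; group

/-- (B4) A `q`-element `y` (`q ≠ p`) with `[h, y] ∈ Z` for all `h ∈ H`, where `Z` is central of exponent `p`, centralizes `H`.
Proof: `y h y⁻¹ = h z`, `z` central, so `y^k h y^{-k} = h z^k`; with `k = orderOf y = q^j`: `z^(q^j) = 1 = z^p`, so `z = 1`. -/
theorem b4 {X : Type u} [Group X] (p q : ℕ) [Fact p.Prime] [Fact q.Prime] (hpq : p ≠ q)
    (H Z : Subgroup X) (hZc : Z ≤ Subgroup.center X) (hZp : ∀ z ∈ Z, z ^ p = 1)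
    (y : X) (hy : QElt q y) (hyH : ∀ h ∈ H, y * h * y⁻¹ * h⁻¹ ∈ Z) :
    y ∈ Subgroup.centralizer (H : Set X) := by
  have hpp : p.Prime := Fact.out
  have hqp : q.Prime := Fact.out
  rw [Subgroup.mem_centralizer_iff]
  intro h hh
  set z := y * h * y⁻¹ * h⁻¹ with hz
  have hzZ : z ∈ Z := hyH h hh
  have hzc : z ∈ Subgroup.center X := hZc hzZ
  have hyz : y * z = z * y := (Subgroup.mem_center_iff.mp hzc) y
  have h1 : y * h * y⁻¹ = z * h := by rw [hz]; group
  have h2 := pow_conj_eq_mul y h z hyz h1 (orderOf y)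
  rw [pow_orderOf_eq_one, inv_one, mul_one, one_mul] at h2
  have h3 : z ^ orderOf y = 1 := by
    have : z ^ orderOf y * h = 1 * h := by rw [← h2, one_mul]
    exact mul_right_cancel this
  obtain ⟨j, hj⟩ := hy
  have h4 : orderOf z ∣ q ^ j := by rw [← hj]; exact orderOf_dvd_of_pow_eq_one h3
  have h5 : orderOf z ∣ p := orderOf_dvd_of_pow_eq_one (hZp z hzZ)
  have hcop : (q ^ j).Coprime p := Nat.Coprime.pow_left j ((Nat.coprime_primes hqp hpp).mpr (Ne.symm hpq))
  have h7 : orderOf z = 1 := Nat.eq_one_of_dvd_coprimes hcop h4 h5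
  have h8 : z = 1 := orderOf_eq_one_iff.mp h7
  have h9 : y * h * y⁻¹ = h := by rw [h1, h8, one_mul]
  calc h * y = y * h * y⁻¹ * y := by rw [h9]
    _ = y * h := by group

end Cfsg.Agent.Lib.Helper12.AUTQB4
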