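import Mathlib
import Cfsg.Agent.Lib.Helper26.AUTQDefs

/-! S4411 (helper12): the `q`-part trick: if the image of `n` under a homomorphism is a `q`-element, then a power of
`n` is a `q`-element with the same image. -/

set_option autoImplicit false

namespace Cfsg.Agent.Lib.Helper12.AUTQLift

open Cfsg.Agent.Lib.Helper26.AUTQ

theorem exists_pow_qElt {A B : Type*} [Group A] [Group B] (q : ℕ) [hq : Fact q.Prime] (f : A →* B) (n : A)
    (hn : orderOf n ≠ 0) (hfn : QElt q (f n)) : ∃ t : ℕ, QElt q (n ^ t) ∧ f (n ^ t) = f n := by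
  have hqp : q.Prime := hq.out
  obtain ⟨a, m, hqm, ho⟩ := Nat.exists_eq_pow_mul_and_not_dvd hn q hqp.ne_one
  obtain ⟨k, hk⟩ := hfn
  have hm0 : m ≠ 0 := by
    rintro rfl
    exact hqm (dvd_zero q)
  -- `q^k ∣ q^a`
  have hka : q ^ k ∣ q ^ a := by
    have h1 : q ^ k ∣ q ^ a * m := by
      rw [← hk, ← ho]
      exact orderOf_map_dvd f n
    have hcop : (q ^ k).Coprime m := Nat.Coprime.pow_left k ((Nat.Prime.coprime_iff_not_dvd hqp).mpr hqm)
    exact hcop.dvd_of_dvd_mul_right h1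
  have hnm : orderOf (n ^ m) = q ^ a := by
    rw [orderOf_pow_of_dvd hm0 (by rw [ho]; exact dvd_mul_left m (q ^ a)), ho]
    exact Nat.mul_div_cancel _ (Nat.pos_of_ne_zero hm0)
  have hQ : QElt q (n ^ m) := ⟨a, hnm⟩
  by_cases ha : a = 0
  · -- `f n = 1`
    subst ha
    rw [pow_zero, Nat.dvd_one] at hka
    have hfn1 : f n = 1 := by
      rw [← orderOf_eq_one_iff, hk, hka]
    refine ⟨m, hQ, ?_⟩
    rw [pow_zero] at hnm
    rw [orderOf_eq_one_iff.mp hnm, map_one, hfn1]
  · have h1 : 1 < q ^ a := Nat.one_lt_pow ha hqp.one_lt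
    have hcop : Nat.Coprime m (q ^ a) :=
      (Nat.Coprime.pow_left a ((Nat.Prime.coprime_iff_not_dvd hqp).mpr hqm)).symm
    obtain ⟨u, -, hu⟩ := Nat.exists_mul_mod_eq_one_of_coprime hcop h1
    refine ⟨m * u, ?_, ?_⟩
    · rw [pow_mul]
      exact hQ.pow u
    · rw [map_pow]
      have hmod : m * u ≡ 1 [MOD orderOf (f n)] := by
        rw [hk]
        apply Nat.ModEq.of_dvd hka
        unfold Nat.ModEq
        rw [hu, Nat.mod_eq_of_lt h1]
      have := (pow_eq_pow_iff_modEq (x := f n)).mpr hmod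
      rw [this, pow_one]

end Cfsg.Agent.Lib.Helper12.AUTQLift
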