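import Mathlib
import Cfsg.Prelude.Def_Solvable
import Cfsg.Prelude.Def_Local
import Cfsg.Prelude.Def_Transfer
import Cfsg.Prelude.Def_PLocal
import Cfsg.Agent.Lib.Helper26.AUTQDefs
import Cfsg.Agent.Lib.Helper12.AUTQLift

/-! S4411 leaf **L1** (helper12): index form <-> `q`-element form. -/

set_option autoImplicit false

namespace Cfsg.Agent.Lib.Helper12.AUTQL1

open Cfsg Cfsg.Agent.Lib.Helper26.AUTQ

universe u

theorem centralizer_subgroupOf_normalizer_normal {G : Type*} [Group G] (H : Subgroup G) :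
    ((Subgroup.centralizer (H : Set G)).subgroupOf (Subgroup.normalizer (H : Set G))).Normal := by
  constructor
  intro n hn g
  rw [Subgroup.mem_subgroupOf] at hn ⊢
  rw [Subgroup.mem_centralizer_iff] at hn ⊢
  intro h hh
  -- `g⁻¹ h g ∈ H`
  have hg : (g : G) ∈ Subgroup.normalizer (H : Set G) := g.2
  have hg' : (g : G)⁻¹ ∈ Subgroup.normalizer (H : Set G) := Subgroup.inv_mem _ hg
  have h1 : (g : G)⁻¹ * h * ((g : G)⁻¹)⁻¹ ∈ H := (Subgroup.mem_normalizer_iff.mp hg' h).mp hh
  have h2 := hn _ h1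
  simp only [Subgroup.coe_mul, Subgroup.coe_inv, inv_inv] at h2 ⊢
  calc h * ((g : G) * (n : G) * (g : G)⁻¹)
      = (g : G) * (((g : G)⁻¹ * h * (g : G)) * (n : G)) * (g : G)⁻¹ := by group
    _ = (g : G) * ((n : G) * ((g : G)⁻¹ * h * (g : G))) * (g : G)⁻¹ := by rw [h2]
    _ = (g : G) * (n : G) * (g : G)⁻¹ * h := by group

/-- (L1) `q ∣ |N_G(H) : C_G(H)|` iff some `q`-element of `N_G(H)` does not centralize `H`. -/
theorem l1 {G : Type*} [Group G] [Finite G] (q : ℕ) [Fact q.Prime] (H : Subgroup G) :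
    q ∣ ((Subgroup.centralizer (H : Set G)).subgroupOf (Subgroup.normalizer (H : Set G))).index ↔ Aq q H := by
  have hqp : q.Prime := Fact.out
  set N := Subgroup.normalizer (H : Set G) with hN
  set C' := (Subgroup.centralizer (H : Set G)).subgroupOf N with hC'
  have hC'n : C'.Normal := centralizer_subgroupOf_normalizer_normal H
  set f := QuotientGroup.mk' C' with hf
  constructor
  · intro hdvd
    rw [Subgroup.index_eq_card] at hdvd
    obtain ⟨x, hx⟩ := exists_prime_orderOf_dvd_card' q hdvd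
    obtain ⟨n₀, rfl⟩ := QuotientGroup.mk'_surjective C' x
    have hQ : QElt q (f n₀) := ⟨1, by rw [pow_one]; exact hx⟩
    obtain ⟨t, ht1, ht2⟩ := Cfsg.Agent.Lib.Helper12.AUTQLift.exists_pow_qElt q f n₀
      (orderOf_pos n₀).ne' hQ
    refine ⟨((n₀ ^ t : N) : G), (n₀ ^ t).2, (qElt_coe_iff (n₀ ^ t)).mpr ht1, ?_⟩
    intro hcon
    have h1 : n₀ ^ t ∈ C' := by
      rw [hC', Subgroup.mem_subgroupOf]
      exact hcon
    have h2 : f (n₀ ^ t) = 1 := (QuotientGroup.eq_one_iff _).mpr h1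
    rw [ht2] at h2
    have h3 : orderOf (f n₀) = 1 := by rw [h2, orderOf_one]
    rw [hx] at h3
    exact hqp.one_lt.ne' h3
  · rintro ⟨y, hyN, hyQ, hyC⟩
    rw [Subgroup.index_eq_card]
    set y' : N := ⟨y, hyN⟩ with hy'
    have hQ : QElt q (f y') := ((qElt_coe_iff y').mp hyQ).map f
    obtain ⟨j, hj⟩ := hQ
    have hne : f y' ≠ 1 := by
      intro h1
      have h2 : y' ∈ C' := (QuotientGroup.eq_one_iff _).mp h1
      rw [hC', Subgroup.mem_subgroupOf] at h2
      exact hyC h2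
    have hj0 : j ≠ 0 := by
      rintro rfl
      rw [pow_zero, orderOf_eq_one_iff] at hj
      exact hne hj
    have h1 : q ∣ orderOf (f y') := by
      rw [hj]
      exact dvd_pow_self q hj0
    exact dvd_trans h1 (orderOf_dvd_natCard _)

end Cfsg.Agent.Lib.Helper12.AUTQL1
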