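import Mathlib
import Cfsg.Prelude.Def_Solvable
import Cfsg.Prelude.Def_Local
import Cfsg.Prelude.Def_Transfer
import Cfsg.Prelude.Def_PLocal
import Cfsg.Agent.Lib.Helper26.AUTQDefs
import Cfsg.Agent.Lib.Helper12.AUTQLift
import Cfsg.Agent.Lib.Helper16.Minimal

/-! S4411 leaf **S1** (helper12): the Frattini step. -/

set_option autoImplicit false

namespace Cfsg.Agent.Lib.Helper12.AUTQS1

open Cfsg Cfsg.Agent.Lib.Helper26.AUTQ

universe u

/-- (S1) `H ⊴ M`, `R` a Sylow `p`-subgroup.  If every `q`-element of `N_M(H (R ∩ C_M(H)))` centralizes `H`, then every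
`q`-element of `M` centralizes `H`. -/
theorem s1 {M : Type*} [Group M] [Finite M] (p q : ℕ) [Fact p.Prime] [Fact q.Prime]
    (H : Subgroup M) [H.Normal] (R : Sylow p M)
    (h : ∀ y ∈ Subgroup.normalizer ((H ⊔ ((R : Subgroup M) ⊓ Subgroup.centralizer (H : Set M)) : Subgroup M) : Set M),
      QElt q y → y ∈ Subgroup.centralizer (H : Set M)) :
    ∀ y : M, QElt q y → y ∈ Subgroup.centralizer (H : Set M) := by
  set C := Subgroup.centralizer (H : Set M) with hC
  have hCn : C.Normal := Subgroup.normal_centralizer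
  obtain ⟨P, hP⟩ := Cfsg.Agent.Lib.Helper16.exists_sylow_of_normal_inf R C
  have hfr := Sylow.normalizer_sup_eq_top P
  rw [hP] at hfr
  set D := (R : Subgroup M) ⊓ C with hD
  have hND : Subgroup.normalizer (D : Set M) ≤ Subgroup.normalizer ((H ⊔ D : Subgroup M) : Set M) := by
    intro g hg
    rw [Subgroup.mem_normalizer_iff_map_conj_eq] at hg ⊢
    have hHg : H.map (MulAut.conj g : M →* M) = H := by
      rw [← Subgroup.mem_normalizer_iff_map_conj_eq, Subgroup.normalizer_eq_top]
      trivial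
    rw [Subgroup.map_sup, hHg, hg]
  intro y hy
  have hy' : y ∈ ((Subgroup.normalizer (D : Set M) ⊔ C : Subgroup M) : Set M) := by
    rw [hfr]
    trivial
  rw [Subgroup.mul_normal] at hy'
  obtain ⟨n, hn, c, hc, rfl⟩ := Set.mem_mul.mp hy'
  -- the image of `n` in `M ⧸ C` is a `q`-element
  set f := QuotientGroup.mk' C with hf
  have hfc : f c = 1 := (QuotientGroup.eq_one_iff c).mpr hc
  have hfn : QElt q (f n) := by
    have := hy.map f
    rwa [map_mul, hfc, mul_one] at this
  obtain ⟨t, ht1, ht2⟩ := Cfsg.Agent.Lib.Helper12.AUTQLift.exists_pow_qElt q f n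
    (orderOf_pos n).ne' hfn
  have hnt : n ^ t ∈ C := h (n ^ t) (hND (Subgroup.pow_mem _ hn t)) ht1
  have hnC : n ∈ C := by
    have h1 : f (n ^ t) = 1 := (QuotientGroup.eq_one_iff _).mpr hnt
    rw [ht2] at h1
    exact (QuotientGroup.eq_one_iff n).mp h1
  exact C.mul_mem hnC hc

end Cfsg.Agent.Lib.Helper12.AUTQS1
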