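/-
helper12: S4551 leaf L4a, core (no block theory): if `θ ∈ Irr(N)` extends to `χ₀ ∈ Irr(G)` and
`χ ∈ Irr(G | θ)` is nonzero on a set of representatives of the cosets of `N`, then `χ_N = θ`.
[Gallagher: `χ = β χ₀`, `β ∈ Irr(G/N)`; `β` has no zero; Burnside: `β` is linear.]
-/
import Mathlib
import Cfsg.Agent.Lib.Helper6.Gallagher2
import Cfsg.Agent.Lib.Lead.GalChar

set_option autoImplicit false

namespace Cfsg.Agent.Lib.Helper12.AlpDade

open Cfsg Cfsg.Agent.CharLib Cfsg.Agent.Lib.Helper6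
open scoped ComplexConjugate

universe u

variable {G : Type u} [Group G]

/-- Burnside at the function level: an irreducible character without zeros is linear. -/
theorem apply_one_eq_one_of_no_zero [Finite G] {β : G → ℂ} (hβ : IsIrrCharacter G β)
    (hnz : ∀ g : G, β g ≠ 0) : β 1 = 1 := by
  obtain ⟨n, ρ, hirr, rfl⟩ := hβ
  have := hirr
  have h1 : ρ.character 1 = (n : ℂ) := by simp
  have hle : ¬ 1 < Module.finrank ℂ (Fin n → ℂ) := by
    intro hlt
    obtain ⟨g, hg⟩ := exists_character_eq_zero ρ hlt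
    exact hnz g hg
  rw [Module.finrank_fin_fun] at hle
  have hn0 : n ≠ 0 := by
    intro h0
    apply hnz 1
    rw [h1, h0, Nat.cast_zero]
  have hn1 : n = 1 := by omega
  rw [h1, hn1, Nat.cast_one]

/-- Core of L4a. -/
theorem resFun_eq_of_extension_core [Fintype G] (N : Subgroup G) [hN : N.Normal] [Fintype N]
    (C : Set G) (hrep : ∀ g : G, ∃ c ∈ C, c⁻¹ * g ∈ N)
    (θ : N → ℂ) (hθ : IsIrrCharacter N θ) (χ₀ : G → ℂ) (hχ₀ : IsIrrCharacter G χ₀)
    (hext : resFun N χ₀ = θ) (χ : G → ℂ) (hχ : IsIrrCharacter G χ)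
    (hnz : ∀ c ∈ C, χ c ≠ 0)
    (hover : classInner (resFun N χ) θ ≠ 0) :
    resFun N χ = θ := by
  classical
  have hχcf : IsClassFunction G χ := IsCharacter.isClassFunction (IsIrrCharacter.isCharacter hχ)
  have hbij := gallagher_bijOn N hχ₀ (by rw [hext]; exact hθ)
  rw [hext] at hbij
  have hmem : χ ∈ {ψ : G → ℂ | IsIrrCharacter G ψ ∧ classInner (indFun N θ) ψ ≠ 0} := by
    refine ⟨hχ, ?_⟩
    rw [frobenius_reciprocity N θ hχcf]
    intro h0
    apply hover
    rw [← classInner_conj_symm]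
    change conj (classInner θ (fun h : N => χ h)) = 0
    rw [h0, map_zero]
  obtain ⟨β, ⟨hβ, hβ1⟩, hβχ⟩ := hbij.surjOn hmem
  have hβχ' : β * χ₀ = χ := hβχ
  obtain ⟨-, hconst⟩ := apply_mul_of_indFun_one_ne_zero N hβ hβ1
  have hβcf : IsClassFunction G β := IsCharacter.isClassFunction (IsIrrCharacter.isCharacter hβ)
  -- β has no zero
  have hβnz : ∀ g : G, β g ≠ 0 := by
    intro g
    obtain ⟨c, hcC, hcg⟩ := hrep g
    -- g = c * (c⁻¹ g), and c n c⁻¹ ∈ N, g = (c n c⁻¹) c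
    have hm : c * (c⁻¹ * g) * c⁻¹ ∈ N := hN.conj_mem _ hcg c
    have hg : g = (⟨c * (c⁻¹ * g) * c⁻¹, hm⟩ : N) * c := by
      change g = c * (c⁻¹ * g) * c⁻¹ * c
      group
    rw [hg, hconst]
    intro h0
    apply hnz c hcC
    rw [← hβχ', Pi.mul_apply, h0, zero_mul]
  have hβ1' : β 1 = 1 := apply_one_eq_one_of_no_zero hβ hβnz
  funext n
  rw [resFun_apply, ← hβχ', Pi.mul_apply]
  have h1 : β (n : G) = 1 := by
    have := hconst n 1
    rw [mul_one] at this
    rw [this, hβ1']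
  rw [h1, one_mul, ← hext, resFun_apply]

end Cfsg.Agent.Lib.Helper12.AlpDade
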