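/-
helper12: S4551 (Alperin–Dade at the character level; planner helper17), leaf L4a:
if `θ ∈ Irr(N)` extends to `G`, every `χ ∈ B₀(G)` over `θ` restricts to `θ`.
[Gallagher: `χ = β χ₀`, `β ∈ Irr(G/N)`; `χ(c) ≠ 0` on a set of coset representatives (L1, L2), so
`β` has no zero; Burnside `S0191`: `β` is linear.]
-/
import Mathlib
import Cfsg.Prelude.Def_Blocks
import Cfsg.Agent.Lib.Helper12.AlpDadeL4aCore
import Cfsg.Agent.Lib.Helper4.AlpDadeL1
import Cfsg.Agent.Lib.Helper24.AlpDadeL2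

set_option autoImplicit false

namespace Cfsg.Agent.Lib.Helper12.AlpDade

open Cfsg Cfsg.Agent.Lib.Helper6

universe u
variable {G : Type u} [Group G] [Finite G]

/-- L4a: if `θ ∈ Irr(N)` extends to `G`, every `χ ∈ B₀(G)` over `θ` restricts to `θ`. -/
theorem resFun_eq_of_extension (p : ℕ) [Fact p.Prime] (M : Ideal AlgInt)
    (hM : IsPModular p M) (N : Subgroup G) [N.Normal] [Fintype N] (hidx : ¬ p ∣ N.index)
    (P : Sylow p G) (hsup : N ⊔ Subgroup.centralizer ((P : Subgroup G) : Set G) = ⊤)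
    (θ : IrrCharacter N) (χ₀ : G → ℂ) (hχ₀ : IsIrrCharacter G χ₀)
    (hext : resFun N χ₀ = (θ : N → ℂ)) (χ : IrrCharacter G) (hχ : χ ∈ principalBlock M G)
    (hover : classInner (resFun N (χ : G → ℂ)) (θ : N → ℂ) ≠ 0) :
    resFun N (χ : G → ℂ) = (θ : N → ℂ) := by
  classical
  let _ : Fintype G := Fintype.ofFinite G
  refine resFun_eq_of_extension_core N
    ((Subgroup.centralizer ((P : Subgroup G) : Set G) : Subgroup G) : Set G) ?_
    (θ : N → ℂ) θ.2 χ₀ hχ₀ hext (χ : G → ℂ) χ.2 ?_ hover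
  · intro g
    obtain ⟨c, hc, -, hcg⟩ := Cfsg.Agent.Lib.Helper4.AlpDade.exists_pRegular_rep p N hidx P hsup g
    exact ⟨c, hc, hcg⟩
  · intro c hc
    exact (Cfsg.Agent.Lib.Helper24.AlpDade.memLocalIdeal_one_sub_div p M hM P χ hχ c hc).2

end Cfsg.Agent.Lib.Helper12.AlpDade
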