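import Cfsg.Agent.Lib.Helper14.AltFP.Defs
import Cfsg.Agent.Lib.Helper15.AltFPC9

/-!
helper12: S2276 assembly leaves CEB1 `ce_B1` (core, against the statement of C7) and CEB3 `ce_B3`
(exact signature of notes/S2276_leaves.lean, on helper15's C9b/C9c).
-/

set_option autoImplicit false
open Equiv Equiv.Perm Cfsg.Agent.Lib.Helper14.AltFP
open scoped commutatorElement

namespace Cfsg.Agent.Lib.Helper12.AltFPLeaf

/-- data of the rotation core: `b ∈ w.cycleType` -/
lemma rot_data {n : ℕ} (w : Perm (Fin n)) (b : ℕ) (hb : b ∈ w.cycleType) :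
    b ≤ n ∧ (finRotate b).cycleType ≤ w.cycleType ∧
      (w.cycleType - (finRotate b).cycleType).sum + b ≤ n := by
  have hb2 : 2 ≤ b := two_le_of_mem_cycleType hb
  have h1 := Multiset.le_sum_of_mem hb
  have h2 := sum_cycleType_le w
  simp only [Fintype.card_fin] at h2
  have hc : (finRotate b).cycleType = {b} := cycleType_finRotate_of_le hb2
  have hcw : (finRotate b).cycleType ≤ w.cycleType := by
    rw [hc]; exact Multiset.singleton_le.mpr hb
  refine ⟨by omega, hcw, ?_⟩
  have h3 : (w.cycleType - (finRotate b).cycleType).sum + b = w.cycleType.sum := by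
    have := congrArg Multiset.sum (tsub_add_cancel_of_le hcw)
    rw [Multiset.sum_add, hc, Multiset.sum_singleton] at this
    rw [hc]; exact this
  omega

/-- (CEB1), core: against the statement of (C7) `core_T1` -/
theorem ce_B1_core (p : ℕ) (n : ℕ) (hn : 5 ≤ n) (u w : Perm (Fin n))
    (hu : u.cycleType = {3}) (b : ℕ) (hb : b ∈ w.cycleType)
    (hT1 : ∃ v : Perm (Fin b), v.cycleType = {3} ∧ Good p v (finRotate b)) : HasCore p n u w := by
  obtain ⟨hbn, hcw, hsw⟩ := rot_data w b hb
  obtain ⟨v, hv, hg⟩ := hT1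
  refine ⟨b, hbn, v, finRotate b, by rw [hv, hu], hcw, ?_, hsw, hg, Or.inl ?_⟩
  · rw [hv, hu, tsub_self, Multiset.sum_zero, zero_add]
    exact hbn
  · intro hle
    rw [centralizer_le_alternating_iff] at hle
    have := hle.2.1
    rw [hu, Multiset.sum_singleton, Fintype.card_fin] at this
    omega

/-- (CEB3), core: against the statements of (C9b) `nine_a` and (C9c) `nine_b` -/
theorem ce_B3_core (n : ℕ) (u w : Perm (Fin n)) (hu : ∀ a ∈ u.cycleType, a = 3)
    (hcard : 2 ≤ Multiset.card u.cycleType) (hb : 9 ∈ w.cycleType)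
    (h9a : ∃ v : Perm (Fin 9), v.cycleType = {3, 3} ∧ Good 3 v (finRotate 9))
    (h9b : ∃ v : Perm (Fin 9), v.cycleType = {3, 3, 3} ∧ Good 3 v (finRotate 9)) :
    HasCore 3 n u w := by
  obtain ⟨hbn, hcw, hsw⟩ := rot_data w 9 hb
  have hrep : u.cycleType = Multiset.replicate (Multiset.card u.cycleType) 3 :=
    Multiset.eq_replicate_card.2 hu
  have hsum := sum_cycleType_le u
  simp only [Fintype.card_fin] at hsum
  set i := Multiset.card u.cycleType with hi
  have hsum' : 3 * i ≤ n := by
    rw [hrep, Multiset.sum_replicate, smul_eq_mul] at hsum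
    omega
  have hpar : ¬ Subgroup.centralizer {u} ≤ alternatingGroup (Fin n) := by
    intro hle
    rw [centralizer_le_alternating_iff] at hle
    have := hle.2.2 3
    rw [hrep, Multiset.count_replicate_self] at this
    omega
  rcases Nat.lt_or_ge i 3 with h3 | h3
  · have hi2 : i = 2 := by omega
    obtain ⟨v, hv, hg⟩ := h9a
    have hvu : v.cycleType = u.cycleType := by
      rw [hv, hrep, hi2]
      rfl
    refine ⟨9, hbn, v, finRotate 9, by rw [hvu], hcw, ?_, hsw, hg, Or.inl hpar⟩
    rw [hvu, tsub_self, Multiset.sum_zero, zero_add]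
    exact hbn
  · obtain ⟨v, hv, hg⟩ := h9b
    have hv' : v.cycleType = Multiset.replicate 3 3 := by
      rw [hv]
      rfl
    refine ⟨9, hbn, v, finRotate 9, ?_, hcw, ?_, hsw, hg, Or.inl hpar⟩
    · rw [hv', hrep]
      exact Multiset.replicate_le_replicate 3 |>.2 h3
    · have hsub : u.cycleType - v.cycleType = Multiset.replicate (i - 3) 3 := by
        rw [hv', hrep]
        have : Multiset.replicate i 3 = Multiset.replicate (i - 3) 3 + Multiset.replicate 3 3 := by
          rw [← Multiset.replicate_add]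
          congr 1
          omega
        rw [this, add_tsub_cancel_right]
      rw [hsub, Multiset.sum_replicate, smul_eq_mul]
      omega

/-- (CEB3) -/
theorem ce_B3 (n : ℕ) (u w : Perm (Fin n)) (hu : ∀ a ∈ u.cycleType, a = 3)
    (hcard : 2 ≤ Multiset.card u.cycleType) (hb : 9 ∈ w.cycleType) :
    HasCore 3 n u w :=
  ce_B3_core n u w hu hcard hb Cfsg.Agent.Lib.Helper15.AltFPLeaf.nine_a
    Cfsg.Agent.Lib.Helper15.AltFPLeaf.nine_b

end Cfsg.Agent.Lib.Helper12.AltFPLeaf
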