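import Cfsg.Agent.Lib.Helper14.AltFP.Defs
import Cfsg.Agent.Lib.Helper23.AltFPG45

/-!
helper12: S2276 leaves C3 `ns_rot_A`, C4 `ns_rot_A'`, C5 `ns_rot_B`, C6 `ns_rot_C` (exact signatures of
notes/S2276_leaves.lean): non-solvability of subgroups of `Perm (Fin b)` containing the rotation and a
product of two swaps of small points.  Swap identities are transferred from `Perm (Fin 5)` / `Perm (Fin 7)`
(`decide`) along `Fin.castLEEmb`.
-/

set_option autoImplicit false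
open Equiv Equiv.Perm Cfsg.Agent.Lib.Helper14.AltFP
open scoped commutatorElement

namespace Cfsg.Agent.Lib.Helper12.AltFPLeaf

lemma rot_pow_val (b k : ℕ) (i : Fin b) : (((finRotate b) ^ k) i).val = (i.val + k) % b := by
  cases b with
  | zero => exact i.elim0
  | succ n =>
    induction k with
    | zero => simp [Nat.mod_eq_of_lt i.isLt]
    | succ k ih =>
      rw [pow_succ', Perm.mul_apply, finRotate_apply, Fin.val_add, ih, Fin.val_one', Nat.add_mod_mod,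
        Nat.mod_add_mod, add_assoc]

lemma rot_pow_pt (b k i : ℕ) (hi : i < b) (j : ℕ) (hj : j < b) (h : (i + k) % b = j) :
    ((finRotate b) ^ k) (pt i hi) = pt j hj := by
  apply Fin.ext
  rw [rot_pow_val]
  exact h

lemma rot_pow_inv_pt (b k i : ℕ) (hi : i < b) (j : ℕ) (hj : j < b) (h : (j + k) % b = i) :
    ((finRotate b) ^ k)⁻¹ (pt i hi) = pt j hj := by
  rw [Perm.inv_eq_iff_eq]
  exact (rot_pow_pt b k j hj i hi h).symm

lemma conj_swap {α : Type*} [DecidableEq α] (g : Perm α) (x y : α) :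
    g * swap x y * g⁻¹ = swap (g x) (g y) := (swap_apply_apply g x y).symm

lemma conj_swap_mul_swap {α : Type*} [DecidableEq α] (g : Perm α) (x y z w : α) :
    g * (swap x y * swap z w) * g⁻¹ = swap (g x) (g y) * swap (g z) (g w) := by
  rw [← conj_swap, ← conj_swap]
  group

/-- transfer of permutations of `Fin k` to `Fin b` (acting on the first `k` points) -/
noncomputable def emb {k b : ℕ} (h : k ≤ b) : Perm (Fin k) →* Perm (Fin b) :=
  viaEmbeddingHom (Fin.castLEEmb h)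

lemma emb_swap {k b : ℕ} (h : k ≤ b) (i j : Fin k) :
    emb h (swap i j) = swap (Fin.castLE h i) (Fin.castLE h j) := by
  ext x
  by_cases hx : x ∈ Set.range (Fin.castLEEmb h)
  · obtain ⟨y, rfl⟩ := hx
    unfold emb
    rw [viaEmbeddingHom_apply, viaEmbedding_apply]
    change ((Fin.castLE h (swap i j y) : Fin b) : ℕ) = (swap (Fin.castLE h i) (Fin.castLE h j) (Fin.castLE h y) : Fin b)
    rw [(Fin.castLE_injective h).swap_apply]
  · unfold emb
    rw [viaEmbeddingHom_apply, viaEmbedding_apply_of_notMem _ _ _ hx, swap_apply_of_ne_of_ne]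
    · rintro rfl
      exact hx ⟨i, rfl⟩
    · rintro rfl
      exact hx ⟨j, rfl⟩

/-- the statement of (G5) on `Fin b` -/
def StG5 (b : ℕ) : Prop :=
  ∀ (x0 x1 x2 x3 x4 : Fin b), [x0, x1, x2, x3, x4].Nodup → ∀ H : Subgroup (Perm (Fin b)),
    swap x0 x1 * swap x1 x2 ∈ H → swap x2 x3 * swap x3 x4 ∈ H → ¬ Group.IsSolvable H

lemma mod_cases (m b : ℕ) (h : m < 2 * b) : m % b = if m < b then m else m - b := by
  split_ifs with h1
  · exact Nat.mod_eq_of_lt h1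
  · rw [Nat.mod_eq_sub_mod (by omega), Nat.mod_eq_of_lt (by omega)]

/-- (C3), core -/
theorem ns_rot_A_core (b : ℕ) (hG5 : StG5 b) (hb : 5 ≤ b) (hodd : Odd b) (H : Subgroup (Perm (Fin b)))
    (hc : finRotate b ∈ H)
    (h3 : swap (pt 0 (by omega) : Fin b) (pt 2 (by omega)) * swap (pt 2 (by omega)) (pt 4 (by omega)) ∈ H) :
    ¬ Group.IsSolvable H := by
  obtain ⟨m, hm⟩ := hodd
  have h6 : 6 % b < b := Nat.mod_lt _ (by omega)
  have h8 : 8 % b < b := Nat.mod_lt _ (by omega)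
  have hc4 : (finRotate b) ^ 4 ∈ H := H.pow_mem hc 4
  have hconj : (finRotate b) ^ 4 * (swap (pt 0 (by omega) : Fin b) (pt 2 (by omega)) *
      swap (pt 2 (by omega)) (pt 4 (by omega))) * ((finRotate b) ^ 4)⁻¹ ∈ H :=
    H.mul_mem (H.mul_mem hc4 h3) (H.inv_mem hc4)
  rw [conj_swap_mul_swap, rot_pow_pt b 4 0 (by omega) 4 (by omega) (Nat.mod_eq_of_lt (by omega)),
    rot_pow_pt b 4 2 (by omega) (6 % b) h6 rfl, rot_pow_pt b 4 4 (by omega) (8 % b) h8 rfl] at hconj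
  refine hG5 (pt 0 (by omega)) (pt 2 (by omega)) (pt 4 (by omega)) (pt (6 % b) h6) (pt (8 % b) h8) ?_ H h3 hconj
  have e6 := mod_cases 6 b (by omega)
  have e8 := mod_cases 8 b (by omega)
  simp only [List.nodup_cons, List.mem_cons, List.not_mem_nil, or_false, not_or, List.nodup_nil,
    and_true, not_false_eq_true, pt, Fin.ext_iff]
  split_ifs at e6 e8 <;> omega

lemma id5_A' : swap (⟨1, by omega⟩ : Fin 5) ⟨3, by omega⟩ * swap ⟨0, by omega⟩ ⟨2, by omega⟩ *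
    (swap ⟨2, by omega⟩ ⟨4, by omega⟩ * swap ⟨1, by omega⟩ ⟨3, by omega⟩) =
    swap ⟨0, by omega⟩ ⟨2, by omega⟩ * swap ⟨2, by omega⟩ ⟨4, by omega⟩ := by decide

lemma id7_B : (swap (⟨1, by omega⟩ : Fin 7) ⟨4, by omega⟩ * swap ⟨0, by omega⟩ ⟨3, by omega⟩ *
    (swap ⟨3, by omega⟩ ⟨6, by omega⟩ * swap ⟨2, by omega⟩ ⟨5, by omega⟩)) ^ 2 =
    swap ⟨6, by omega⟩ ⟨3, by omega⟩ * swap ⟨3, by omega⟩ ⟨0, by omega⟩ := by decide

lemma id7_C : (swap (⟨0, by omega⟩ : Fin 7) ⟨3, by omega⟩ * swap ⟨1, by omega⟩ ⟨5, by omega⟩ *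
    (swap ⟨1, by omega⟩ ⟨4, by omega⟩ * swap ⟨2, by omega⟩ ⟨6, by omega⟩)) ^ 2 =
    swap ⟨4, by omega⟩ ⟨1, by omega⟩ * swap ⟨1, by omega⟩ ⟨5, by omega⟩ := by decide

lemma idb_A' (b : ℕ) (hb : 5 ≤ b) :
    swap (pt 1 (by omega) : Fin b) (pt 3 (by omega)) * swap (pt 0 (by omega)) (pt 2 (by omega)) *
    (swap (pt 2 (by omega)) (pt 4 (by omega)) * swap (pt 1 (by omega)) (pt 3 (by omega))) =
    swap (pt 0 (by omega)) (pt 2 (by omega)) * swap (pt 2 (by omega)) (pt 4 (by omega)) := by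
  have h := congrArg (emb hb) id5_A'
  simpa only [map_mul, emb_swap, Fin.castLE_mk] using h

lemma idb_B (b : ℕ) (hb : 7 ≤ b) :
    (swap (pt 1 (by omega) : Fin b) (pt 4 (by omega)) * swap (pt 0 (by omega)) (pt 3 (by omega)) *
    (swap (pt 3 (by omega)) (pt 6 (by omega)) * swap (pt 2 (by omega)) (pt 5 (by omega)))) ^ 2 =
    swap (pt 6 (by omega)) (pt 3 (by omega)) * swap (pt 3 (by omega)) (pt 0 (by omega)) := by
  have h := congrArg (emb hb) id7_B
  simpa only [map_mul, map_pow, emb_swap, Fin.castLE_mk] using h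

lemma idb_C (b : ℕ) (hb : 7 ≤ b) :
    (swap (pt 0 (by omega) : Fin b) (pt 3 (by omega)) * swap (pt 1 (by omega)) (pt 5 (by omega)) *
    (swap (pt 1 (by omega)) (pt 4 (by omega)) * swap (pt 2 (by omega)) (pt 6 (by omega)))) ^ 2 =
    swap (pt 4 (by omega)) (pt 1 (by omega)) * swap (pt 1 (by omega)) (pt 5 (by omega)) := by
  have h := congrArg (emb hb) id7_C
  simpa only [map_mul, map_pow, emb_swap, Fin.castLE_mk] using h

/-- (C4), core -/
theorem ns_rot_A'_core (b : ℕ) (hG5 : StG5 b) (hb : 5 ≤ b) (hodd : Odd b) (H : Subgroup (Perm (Fin b)))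
    (hc : finRotate b ∈ H)
    (h3 : swap (pt 1 (by omega) : Fin b) (pt 3 (by omega)) * swap (pt 0 (by omega)) (pt 2 (by omega)) ∈ H) :
    ¬ Group.IsSolvable H := by
  have hc1 : (finRotate b) ^ 1 ∈ H := H.pow_mem hc 1
  have hconj : (finRotate b) ^ 1 * (swap (pt 1 (by omega) : Fin b) (pt 3 (by omega)) *
      swap (pt 0 (by omega)) (pt 2 (by omega))) * ((finRotate b) ^ 1)⁻¹ ∈ H :=
    H.mul_mem (H.mul_mem hc1 h3) (H.inv_mem hc1)
  rw [conj_swap_mul_swap, rot_pow_pt b 1 1 (by omega) 2 (by omega) (Nat.mod_eq_of_lt (by omega)),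
    rot_pow_pt b 1 3 (by omega) 4 (by omega) (Nat.mod_eq_of_lt (by omega)),
    rot_pow_pt b 1 0 (by omega) 1 (by omega) (Nat.mod_eq_of_lt (by omega)),
    rot_pow_pt b 1 2 (by omega) 3 (by omega) (Nat.mod_eq_of_lt (by omega))] at hconj
  have hprod := H.mul_mem h3 hconj
  rw [idb_A' b hb] at hprod
  exact ns_rot_A_core b hG5 hb hodd H hc hprod

/-- (C5), core -/
theorem ns_rot_B_core (b : ℕ) (hG5 : StG5 b) (hb : 13 ≤ b) (H : Subgroup (Perm (Fin b)))
    (hc : finRotate b ∈ H)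
    (h3 : swap (pt 1 (by omega) : Fin b) (pt 4 (by omega)) * swap (pt 0 (by omega)) (pt 3 (by omega)) ∈ H) :
    ¬ Group.IsSolvable H := by
  have hc2 : (finRotate b) ^ 2 ∈ H := H.pow_mem hc 2
  have hconj : (finRotate b) ^ 2 * (swap (pt 1 (by omega) : Fin b) (pt 4 (by omega)) *
      swap (pt 0 (by omega)) (pt 3 (by omega))) * ((finRotate b) ^ 2)⁻¹ ∈ H :=
    H.mul_mem (H.mul_mem hc2 h3) (H.inv_mem hc2)
  rw [conj_swap_mul_swap, rot_pow_pt b 2 1 (by omega) 3 (by omega) (Nat.mod_eq_of_lt (by omega)),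
    rot_pow_pt b 2 4 (by omega) 6 (by omega) (Nat.mod_eq_of_lt (by omega)),
    rot_pow_pt b 2 0 (by omega) 2 (by omega) (Nat.mod_eq_of_lt (by omega)),
    rot_pow_pt b 2 3 (by omega) 5 (by omega) (Nat.mod_eq_of_lt (by omega))] at hconj
  have hprod := H.pow_mem (H.mul_mem h3 hconj) 2
  rw [idb_B b (by omega)] at hprod
  have hc6 : ((finRotate b) ^ 6)⁻¹ ∈ H := H.inv_mem (H.pow_mem hc 6)
  have hconj2 : ((finRotate b) ^ 6)⁻¹ * (swap (pt 6 (by omega) : Fin b) (pt 3 (by omega)) *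
      swap (pt 3 (by omega)) (pt 0 (by omega))) * (((finRotate b) ^ 6)⁻¹)⁻¹ ∈ H :=
    H.mul_mem (H.mul_mem hc6 hprod) (H.inv_mem hc6)
  rw [conj_swap_mul_swap, rot_pow_inv_pt b 6 6 (by omega) 0 (by omega) (Nat.mod_eq_of_lt (by omega)),
    rot_pow_inv_pt b 6 3 (by omega) (b - 3) (by omega)
      (by rw [show b - 3 + 6 = 3 + b by omega, Nat.add_mod_right, Nat.mod_eq_of_lt (by omega)]),
    rot_pow_inv_pt b 6 0 (by omega) (b - 6) (by omega)
      (by rw [show b - 6 + 6 = b by omega, Nat.mod_self])] at hconj2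
  refine hG5 (pt 6 (by omega)) (pt 3 (by omega)) (pt 0 (by omega)) (pt (b - 3) (by omega))
    (pt (b - 6) (by omega)) ?_ H hprod hconj2
  simp only [List.nodup_cons, List.mem_cons, List.not_mem_nil, or_false, not_or, List.nodup_nil,
    and_true, not_false_eq_true, pt, Fin.ext_iff]
  omega

/-- (C6), core -/
theorem ns_rot_C_core (b : ℕ) (hG5 : StG5 b) (hb : 7 ≤ b) (H : Subgroup (Perm (Fin b)))
    (hc : finRotate b ∈ H)
    (h3 : swap (pt 0 (by omega) : Fin b) (pt 3 (by omega)) * swap (pt 1 (by omega)) (pt 5 (by omega)) ∈ H) :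
    ¬ Group.IsSolvable H := by
  have hc1 : (finRotate b) ^ 1 ∈ H := H.pow_mem hc 1
  have hconj : (finRotate b) ^ 1 * (swap (pt 0 (by omega) : Fin b) (pt 3 (by omega)) *
      swap (pt 1 (by omega)) (pt 5 (by omega))) * ((finRotate b) ^ 1)⁻¹ ∈ H :=
    H.mul_mem (H.mul_mem hc1 h3) (H.inv_mem hc1)
  rw [conj_swap_mul_swap, rot_pow_pt b 1 0 (by omega) 1 (by omega) (Nat.mod_eq_of_lt (by omega)),
    rot_pow_pt b 1 3 (by omega) 4 (by omega) (Nat.mod_eq_of_lt (by omega)),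
    rot_pow_pt b 1 1 (by omega) 2 (by omega) (Nat.mod_eq_of_lt (by omega)),
    rot_pow_pt b 1 5 (by omega) 6 (by omega) (Nat.mod_eq_of_lt (by omega))] at hconj
  have hprod := H.pow_mem (H.mul_mem h3 hconj) 2
  rw [idb_C b hb] at hprod
  have hconj2 : (finRotate b) ^ 1 * (swap (pt 4 (by omega) : Fin b) (pt 1 (by omega)) *
      swap (pt 1 (by omega)) (pt 5 (by omega))) * ((finRotate b) ^ 1)⁻¹ ∈ H :=
    H.mul_mem (H.mul_mem hc1 hprod) (H.inv_mem hc1)
  rw [conj_swap_mul_swap, rot_pow_pt b 1 4 (by omega) 5 (by omega) (Nat.mod_eq_of_lt (by omega)),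
    rot_pow_pt b 1 1 (by omega) 2 (by omega) (Nat.mod_eq_of_lt (by omega)),
    rot_pow_pt b 1 5 (by omega) 6 (by omega) (Nat.mod_eq_of_lt (by omega))] at hconj2
  refine hG5 (pt 4 (by omega)) (pt 1 (by omega)) (pt 5 (by omega)) (pt 2 (by omega))
    (pt 6 (by omega)) ?_ H hprod hconj2
  simp only [List.nodup_cons, List.mem_cons, List.not_mem_nil, or_false, not_or, List.nodup_nil,
    and_true, not_false_eq_true, pt, Fin.ext_iff]
  omega

theorem stG5 (b : ℕ) : StG5 b := fun x0 x1 x2 x3 x4 hnd H h1 h2 =>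
  Cfsg.Agent.Lib.Helper23.AltFPLeaf.ns5 x0 x1 x2 x3 x4 hnd H h1 h2

/-- (C3) -/
theorem ns_rot_A (b : ℕ) (hb : 5 ≤ b) (hodd : Odd b) (H : Subgroup (Perm (Fin b)))
    (hc : finRotate b ∈ H)
    (h3 : swap (pt 0 (by omega) : Fin b) (pt 2 (by omega)) * swap (pt 2 (by omega)) (pt 4 (by omega)) ∈ H) :
    ¬ Group.IsSolvable H := ns_rot_A_core b (stG5 b) hb hodd H hc h3

/-- (C4) -/
theorem ns_rot_A' (b : ℕ) (hb : 5 ≤ b) (hodd : Odd b) (H : Subgroup (Perm (Fin b)))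
    (hc : finRotate b ∈ H)
    (h3 : swap (pt 1 (by omega) : Fin b) (pt 3 (by omega)) * swap (pt 0 (by omega)) (pt 2 (by omega)) ∈ H) :
    ¬ Group.IsSolvable H := ns_rot_A'_core b (stG5 b) hb hodd H hc h3

/-- (C5) -/
theorem ns_rot_B (b : ℕ) (hb : 13 ≤ b) (H : Subgroup (Perm (Fin b)))
    (hc : finRotate b ∈ H)
    (h3 : swap (pt 1 (by omega) : Fin b) (pt 4 (by omega)) * swap (pt 0 (by omega)) (pt 3 (by omega)) ∈ H) :
    ¬ Group.IsSolvable H := ns_rot_B_core b (stG5 b) hb H hc h3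

/-- (C6) -/
theorem ns_rot_C (b : ℕ) (hb : 7 ≤ b) (H : Subgroup (Perm (Fin b)))
    (hc : finRotate b ∈ H)
    (h3 : swap (pt 0 (by omega) : Fin b) (pt 3 (by omega)) * swap (pt 1 (by omega)) (pt 5 (by omega)) ∈ H) :
    ¬ Group.IsSolvable H := ns_rot_C_core b (stG5 b) hb H hc h3

end Cfsg.Agent.Lib.Helper12.AltFPLeaf
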