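import Cfsg.Agent.Lib.Helper14.AltFP.Defs
import Cfsg.Agent.Lib.Helper12.AltFPCEB
import Cfsg.Agent.Lib.Helper15.AltFPC78

/-!
helper12: S2276 assembly leaf CEB1 `ce_B1` (exact signature of notes/S2276_leaves.lean), from `ce_B1_core`
and helper15's C7 `core_T1`.
-/

set_option autoImplicit false
open Equiv Equiv.Perm Cfsg.Agent.Lib.Helper14.AltFP
open scoped commutatorElement

namespace Cfsg.Agent.Lib.Helper12.AltFPLeaf

/-- (CEB1) -/
theorem ce_B1 (p : ℕ) (hp : p.Prime) (hp2 : p ≠ 2) (n : ℕ) (hn : 5 ≤ n) (u w : Perm (Fin n))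
    (hu : u.cycleType = {3}) (b : ℕ) (hb : b ∈ w.cycleType) (hb5 : 5 ≤ b) (hodd : Odd b) :
    HasCore p n u w :=
  ce_B1_core p n hn u w hu b hb (Cfsg.Agent.Lib.Helper15.AltFPLeaf.core_T1 p hp hp2 b hb5 hodd)

end Cfsg.Agent.Lib.Helper12.AltFPLeaf
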