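import Mathlib
import Cfsg.Prelude.Def_BlockRank
import Cfsg.Prelude.Def_Perm
import Cfsg.Agent.Lib.Helper24.BRCDefs

set_option autoImplicit false
set_option linter.unusedSectionVars false
set_option linter.unusedVariables false

namespace Cfsg.Agent.Lib.Helper12.BRCFREE

open Cfsg Cfsg.Agent.Lib.Helper8.DOM Cfsg.Agent.Lib.Helper27.DO Cfsg.Agent.CharLib
open Cfsg.Agent.Lib.Helper6.BRH Cfsg.Agent.Lib.Helper24.BRC
open scoped ComplexConjugate

universe u

variable {G : Type u} [Group G] [Finite G] {p : ℕ} [Fact p.Prime]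

variable {P : Subgroup G} {n w : ℕ} {X Y : Set (IrrCharacter G)} {v : IrrCharacter G → ℤ} {ε : ℤ}

/-- a non-trivial element of a subgroup of prime order `p` has order divisible by `p` -/
theorem dvd_orderOf_of_mem (hP : Nat.card P = p) {x : G} (hx : x ∈ P) (hx1 : x ≠ 1) :
    p ∣ orderOf x := by
  have h1 : orderOf (⟨x, hx⟩ : P) ∣ Nat.card P := orderOf_dvd_natCard _
  rw [hP] at h1
  have h2 : orderOf (⟨x, hx⟩ : P) = orderOf x := by
    rw [← Subgroup.orderOf_coe]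
  rw [h2] at h1
  rcases (Nat.dvd_prime (Fact.out : p.Prime)).mp h1 with h | h
  · exact absurd (orderOf_eq_one_iff.mp h) hx1
  · rw [h]

/-- the number of non-trivial elements of `P` -/
theorem finsum_one_Psharp (hP : Nat.card P = p) :
    ∑ᶠ x ∈ {x : G | x ∈ P ∧ x ≠ 1}, (1 : ℂ) = (p : ℂ) - 1 := by
  classical
  have hfin : ({x : G | x ∈ P ∧ x ≠ 1}).Finite := Set.toFinite _
  rw [finsum_mem_eq_finite_toFinset_sum _ hfin]
  rw [Finset.sum_const, nsmul_eq_mul, mul_one]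
  have h1 : hfin.toFinset.card + 1 = p := by
    rw [← hP]
    have h2 : ({x : G | x ∈ P ∧ x ≠ 1}) = (P : Set G) \ {1} := by
      ext x; simp
    have h3 : hfin.toFinset.card = ({x : G | x ∈ P ∧ x ≠ 1}).ncard := by
      rw [Set.ncard_eq_toFinset_card _ hfin]
    rw [h3, h2, Set.ncard_sdiff_singleton_add_one (by simp) (Set.toFinite _)]
    rfl
  rw [← h1]; push_cast; ring

/-- the main evaluation of `hA.val_cN` on `P#`, summed over `P#` -/
theorem key_sum (hS : Special p P n w X Y v ε) (hA : StepA p P n w X Y v ε)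
    (β : IrrCharacter (Nz P)) (hβ : β ∈ Lin P) (a : ℂ)
    (hX : ∑ᶠ χ ∈ X, (cN P χ β : ℂ) * (v χ : ℂ) = a) :
    ((p : ℂ) - 1) * (1 - a) = -(ε : ℂ) * (fI P : ℂ) * ∑ᶠ ψ ∈ Y, (cN P ψ β : ℂ) := by
  classical
  have hb0 := hS.bx.b0
  have hfinX : X.Finite := Set.toFinite _
  have hfinY : Y.Finite := Set.toFinite _
  have hfinS : ({x : G | x ∈ P ∧ x ≠ 1}).Finite := Set.toFinite _
  -- pointwise
  have hpt : ∀ x ∈ {x : G | x ∈ P ∧ x ≠ 1},
      ∑ᶠ ψ ∈ Y, (cN P ψ β : ℂ) * (ψ : G → ℂ) x = 1 - a := by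
    rintro x ⟨hx, hx1⟩
    have h1 := hA.val_cN β hβ x hx hx1
    have hsing : p ∣ orderOf x := dvd_orderOf_of_mem hS.hP hx hx1
    have h2 : ∑ᶠ χ : IrrCharacter G, (cN P χ β : ℂ) * (χ : G → ℂ) x =
        ∑ᶠ χ ∈ X ∪ Y, (cN P χ β : ℂ) * (χ : G → ℂ) x := by
      rw [finsum_mem_def]
      apply finsum_congr; intro χ
      by_cases h : χ ∈ X ∪ Y
      · rw [Set.indicator_of_mem h]
      · rw [Set.indicator_of_notMem h, hA.out_zero χ h x hx hx1, mul_zero]
    rw [h2, finsum_mem_union hb0.disj hfinX hfinY] at h1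
    have h3 : ∑ᶠ χ ∈ X, (cN P χ β : ℂ) * (χ : G → ℂ) x = a := by
      rw [← hX]
      apply finsum_mem_congr rfl
      intro χ hχ
      rw [hb0.valX χ hχ x hsing]
    rw [h3] at h1
    rw [← h1]; ring
  have hsum : ∑ᶠ x ∈ {x : G | x ∈ P ∧ x ≠ 1}, ∑ᶠ ψ ∈ Y, (cN P ψ β : ℂ) * (ψ : G → ℂ) x =
      ((p : ℂ) - 1) * (1 - a) := by
    rw [finsum_mem_congr rfl hpt, ← finsum_one_Psharp hS.hP, finsum_mem_mul]
    simp
  rw [← hsum, finsum_mem_comm _ hfinS hfinY, mul_finsum_mem]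
  apply finsum_mem_congr rfl
  intro ψ hψ
  rw [← mul_finsum_mem, hb0.psumY ψ hψ]
  ring

/-- a term of a finite sum of naturals is at most the sum -/
theorem le_finsum_mem {α : Type*} {s : Set α} (hs : s.Finite) (f : α → ℕ) {a : α} (ha : a ∈ s) :
    f a ≤ ∑ᶠ i ∈ s, f i := by
  classical
  rw [finsum_mem_eq_finite_toFinset_sum _ hs]
  exact Finset.single_le_sum (f := f) (fun _ _ => Nat.zero_le _) (hs.mem_toFinset.mpr ha)

/-- if a finite sum of naturals equals one of its terms, the other terms vanish -/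
theorem eq_zero_of_finsum_mem_eq {α : Type*} {s : Set α} (hs : s.Finite) (f : α → ℕ) {a b : α}
    (ha : a ∈ s) (hb : b ∈ s) (hab : b ≠ a) (h : ∑ᶠ i ∈ s, f i = f a) : f b = 0 := by
  classical
  rw [finsum_mem_eq_finite_toFinset_sum _ hs] at h
  rw [← Finset.add_sum_erase _ f (hs.mem_toFinset.mpr ha)] at h
  have h1 : f b ≤ ∑ i ∈ hs.toFinset.erase a, f i :=
    Finset.single_le_sum (f := f) (fun _ _ => Nat.zero_le _)
      (Finset.mem_erase.mpr ⟨hab, hs.mem_toFinset.mpr hb⟩)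
  omega

theorem triv_mem_Lin (P : Subgroup G) : trivIrr ↥(Nz P) ∈ Lin P := fun _ _ => rfl

/-- the trivial character has sign `+1` -/
theorem v_triv (hS : Special p P n w X Y v ε) : v (trivIrr G) = 1 := by
  have hb0 := hS.bx.b0
  have h1 : 1 < Nat.card P := by rw [hS.hP]; exact (Fact.out : p.Prime).one_lt
  have : Nontrivial P := Finite.one_lt_card_iff_nontrivial.mp h1
  obtain ⟨x, hx⟩ := exists_ne (1 : P)
  have hxG : (x : G) ≠ 1 := fun h => hx (Subtype.ext h)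
  have h2 := hb0.valX _ hb0.trivX (x : G) (dvd_orderOf_of_mem hS.hP x.2 hxG)
  have h3 : ((trivIrr G : IrrCharacter G) : G → ℂ) (x : G) = 1 := rfl
  rw [h3] at h2
  exact_mod_cast h2.symm

/-- type B characters have no constituent in `Lin P` -/
theorem cN_typeB (hA : StepA p P n w X Y v ε) {η : IrrCharacter G} (hη : η ∈ typeB X v)
    {β : IrrCharacter (Nz P)} (hβ : β ∈ Lin P) : cN P η β = 0 := by
  have h1 := hA.sum_cN η
  rw [hA.aP_B η hη] at h1
  have h2 := le_finsum_mem (Set.toFinite (Lin P)) (fun β => cN P η β) hβ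
  rw [h1] at h2
  exact Nat.le_zero.mp h2

/-- the trivial character of `G` has no non-trivial constituent in `Lin P` -/
theorem cN_triv_other (hA : StepA p P n w X Y v ε)
    {β : IrrCharacter (Nz P)} (hβ : β ∈ Lin P) (hβ1 : β ≠ trivIrr ↥(Nz P)) :
    cN P (trivIrr G) β = 0 := by
  have h1 := hA.sum_cN (trivIrr G)
  rw [hA.aP_triv, ← hA.cN_triv] at h1
  exact eq_zero_of_finsum_mem_eq (Set.toFinite (Lin P)) (fun β => cN P (trivIrr G) β)
    (triv_mem_Lin P) hβ hβ1 h1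

/-- type A characters do not contain the trivial character of `N` -/
theorem cN_typeA_triv (hA : StepA p P n w X Y v ε)
    (hown : ∀ η ∈ typeA X v, ∀ β ∈ Lin P, cN P η β ≠ 0 →
      cN P η β = 1 ∧ ∀ χ : IrrCharacter G, χ ≠ η → cN P χ β = 0)
    {η : IrrCharacter G} (hη : η ∈ typeA X v) : cN P η (trivIrr ↥(Nz P)) = 0 := by
  by_contra h
  have h1 := (hown η hη _ (triv_mem_Lin P) h).2 (trivIrr G) (fun h' => hη.2.1 h'.symm)
  rw [hA.cN_triv] at h1
  exact one_ne_zero h1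

/-- the members of `X` are the trivial character, type A, type B -/
theorem X_cases (hS : Special p P n w X Y v ε) {η : IrrCharacter G} (hη : η ∈ X) :
    η = trivIrr G ∨ η ∈ typeA X v ∨ η ∈ typeB X v := by
  by_cases h1 : η = trivIrr G
  · exact Or.inl h1
  · rcases hS.bx.b0.sgnX η hη with h | h
    · exact Or.inr (Or.inl ⟨hη, h1, h⟩)
    · exact Or.inr (Or.inr ⟨hη, h⟩)

/-- **BRC-FREE** (a). -/
theorem cN_Y_triv (hS : Special p P n w X Y v ε) (hL : LinData P) (hA : StepA p P n w X Y v ε)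
    (hown : ∀ η ∈ typeA X v, ∀ β ∈ Lin P, cN P η β ≠ 0 →
      cN P η β = 1 ∧ ∀ χ : IrrCharacter G, χ ≠ η → cN P χ β = 0) :
    ∀ ψ ∈ Y, cN P ψ (trivIrr ↥(Nz P)) = 0 := by
  classical
  have hb0 := hS.bx.b0
  have hfinX : X.Finite := Set.toFinite _
  have hfinY : Y.Finite := Set.toFinite _
  -- the `X`-part
  have hX : ∑ᶠ χ ∈ X, (cN P χ (trivIrr ↥(Nz P)) : ℂ) * (v χ : ℂ) = 1 := by
    have h1 : ∑ᶠ χ ∈ X, (cN P χ (trivIrr ↥(Nz P)) : ℂ) * (v χ : ℂ) =
        ∑ᶠ χ ∈ ({trivIrr G} : Set (IrrCharacter G)),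
          (cN P χ (trivIrr ↥(Nz P)) : ℂ) * (v χ : ℂ) := by
      rw [finsum_mem_def, finsum_mem_def]
      apply finsum_congr; intro χ
      by_cases h : χ = trivIrr G
      · rw [Set.indicator_of_mem (by rw [h]; exact hb0.trivX),
          Set.indicator_of_mem (by rw [h]; exact rfl)]
      · rw [Set.indicator_of_notMem (s := ({trivIrr G} : Set (IrrCharacter G))) (by simpa using h)]
        by_cases hχ : χ ∈ X
        · rw [Set.indicator_of_mem hχ]
          rcases X_cases hS hχ with h' | h' | h'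
          · exact absurd h' h
          · rw [cN_typeA_triv hA hown h']; simp
          · rw [cN_typeB hA h' (triv_mem_Lin P)]; simp
        · rw [Set.indicator_of_notMem hχ]
    rw [h1, finsum_mem_singleton, hA.cN_triv, v_triv hS]
    simp
  have hk := key_sum hS hA (trivIrr ↥(Nz P)) (triv_mem_Lin P) 1 hX
  rw [sub_self, mul_zero, ← Nat.cast_finsum_mem hfinY] at hk
  have hε : (ε : ℂ) ≠ 0 := by
    rcases hb0.sgn with h | h <;> rw [h] <;> simp
  have hf : (fI P : ℂ) ≠ 0 := by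
    have := hS.hf2
    have h2 : fI P ≠ 0 := by unfold fI; omega
    exact_mod_cast h2
  have h0 : ((∑ᶠ ψ ∈ Y, cN P ψ (trivIrr ↥(Nz P)) : ℕ) : ℂ) = 0 := by
    rcases mul_eq_zero.mp hk.symm with h | h
    · rcases mul_eq_zero.mp h with h | h
      · exact absurd (neg_eq_zero.mp h) hε
      · exact absurd h hf
    · exact h
  have h0' : ∑ᶠ ψ ∈ Y, cN P ψ (trivIrr ↥(Nz P)) = 0 := by exact_mod_cast h0
  intro ψ hψ
  have := le_finsum_mem hfinY (fun ψ => cN P ψ (trivIrr ↥(Nz P))) hψ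
  rw [h0'] at this
  exact Nat.le_zero.mp this

/-- **BRC-FREE** (b). -/
theorem free_spec (hS : Special p P n w X Y v ε) (hL : LinData P) (hA : StepA p P n w X Y v ε) :
    ∀ β ∈ free P X v, ε = -1 ∧ ∑ᶠ ψ ∈ Y, cN P ψ β = tI p P := by
  classical
  rintro β ⟨hβ, hβ1, hβA⟩
  have hb0 := hS.bx.b0
  have hfinX : X.Finite := Set.toFinite _
  have hfinY : Y.Finite := Set.toFinite _
  have hX : ∑ᶠ χ ∈ X, (cN P χ β : ℂ) * (v χ : ℂ) = 0 := by
    apply finsum_mem_eq_zero_of_forall_eq_zero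
    intro χ hχ
    rcases X_cases hS hχ with h' | h' | h'
    · rw [h', cN_triv_other hA hβ hβ1]; simp
    · rw [hβA χ h']; simp
    · rw [cN_typeB hA h' hβ]; simp
  have hk := key_sum hS hA β hβ 0 hX
  rw [sub_zero, mul_one, ← Nat.cast_finsum_mem hfinY] at hk
  set S : ℕ := ∑ᶠ ψ ∈ Y, cN P ψ β with hSdef
  have hp1 : 1 < p := (Fact.out : p.Prime).one_lt
  have hf2 : 2 ≤ fI P := hS.hf2
  have hdvd : fI P ∣ p - 1 := hb0.dvd
  rcases hb0.sgn with h | h
  · exfalso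
    rw [h] at hk
    have hk' : ((p : ℤ) : ℂ) - 1 = ((-(1 : ℤ) * (fI P : ℤ) * (S : ℤ) : ℤ) : ℂ) := by
      push_cast; push_cast at hk; exact hk
    have hk'' : (p : ℤ) - 1 = -(1 : ℤ) * (fI P : ℤ) * (S : ℤ) := by exact_mod_cast hk'
    have : (0 : ℤ) ≤ (fI P : ℤ) * (S : ℤ) := by positivity
    have hp1' : (1 : ℤ) < (p : ℤ) := by exact_mod_cast hp1
    nlinarith
  · refine ⟨h, ?_⟩
    rw [h] at hk
    have hk' : ((p : ℤ) : ℂ) - 1 = (((fI P : ℤ) * (S : ℤ) : ℤ) : ℂ) := by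
      push_cast; push_cast at hk; rw [hk]; ring
    have hk'' : (p : ℤ) - 1 = (fI P : ℤ) * (S : ℤ) := by exact_mod_cast hk'
    have hk3 : p - 1 = fI P * S := by
      zify [hp1.le]; exact hk''
    show S = (p - 1) / fI P
    rw [hk3, Nat.mul_div_cancel_left _ (by omega)]

end Cfsg.Agent.Lib.Helper12.BRCFREE
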