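import Mathlib
import Cfsg.Prelude.Def_BlockRank
import Cfsg.Prelude.Def_Perm
import Cfsg.Agent.Lib.Helper24.BRCDefs
import Cfsg.Agent.Lib.Helper12.BRCFREE

set_option autoImplicit false
set_option linter.unusedSectionVars false
set_option linter.unusedVariables false

namespace Cfsg.Agent.Lib.Helper12.BRCCOUNTS

open Cfsg Cfsg.Agent.Lib.Helper8.DOM Cfsg.Agent.Lib.Helper27.DO Cfsg.Agent.CharLib
open Cfsg.Agent.Lib.Helper6.BRH Cfsg.Agent.Lib.Helper24.BRC
open Cfsg.Agent.Lib.Helper12.BRCFREE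
open scoped ComplexConjugate

universe u

variable {G : Type u} [Group G] [Finite G] {p : ℕ} [Fact p.Prime]

variable {P : Subgroup G} {n w : ℕ} {X Y : Set (IrrCharacter G)} {v : IrrCharacter G → ℤ} {ε : ℤ}

/-- `X = {1} ⊔ typeA ⊔ typeB` -/
theorem card_X_split (hS : Special p P n w X Y v ε) :
    Nat.card (typeA X v) + Nat.card (typeB X v) + 1 = fI P := by
  classical
  have hb0 := hS.bx.b0
  have hX : X = ({trivIrr G} : Set (IrrCharacter G)) ∪ (typeA X v ∪ typeB X v) := by
    ext η
    constructor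
    · intro hη
      rcases X_cases hS hη with h | h | h
      · exact Or.inl h
      · exact Or.inr (Or.inl h)
      · exact Or.inr (Or.inr h)
    · rintro (h | h | h)
      · rw [Set.mem_singleton_iff.mp h]; exact hb0.trivX
      · exact h.1
      · exact h.1
  have hAB : Disjoint (typeA X v) (typeB X v) := by
    rw [Set.disjoint_left]
    rintro η ⟨_, _, h1⟩ ⟨_, h2⟩
    rw [h1] at h2; omega
  have h1AB : Disjoint ({trivIrr G} : Set (IrrCharacter G)) (typeA X v ∪ typeB X v) := by
    rw [Set.disjoint_left]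
    rintro η h (⟨_, h2, _⟩ | ⟨_, h2⟩)
    · exact h2 (Set.mem_singleton_iff.mp h)
    · rw [Set.mem_singleton_iff.mp h, v_triv hS] at h2; omega
  have hc := hb0.cardX
  rw [Nat.card_coe_set_eq] at hc
  rw [Nat.card_coe_set_eq, Nat.card_coe_set_eq]
  show _ = (Cz P).relIndex (Nz P)
  rw [← hc]
  conv_rhs => rw [hX]
  rw [Set.ncard_union_eq h1AB (Set.toFinite _) (Set.toFinite _),
    Set.ncard_union_eq hAB (Set.toFinite _) (Set.toFinite _), Set.ncard_singleton]
  ring

/-- `t ≥ 1` -/
theorem tI_pos (hS : Special p P n w X Y v ε) : 1 ≤ tI p P := by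
  have hb0 := hS.bx.b0
  have hp1 : 1 < p := (Fact.out : p.Prime).one_lt
  have hf2 : 2 ≤ fI P := hS.hf2
  have hdvd : fI P ∣ p - 1 := hb0.dvd
  show 1 ≤ (p - 1) / fI P
  exact (Nat.one_le_div_iff (by omega)).mpr (Nat.le_of_dvd (by omega) hdvd)

/-- the classification of `β ∈ Lin P`: trivial, owned, or free -/
theorem lin_cases (hA : StepA p P n w X Y v ε)
    (hown : ∀ η ∈ typeA X v, ∀ β ∈ Lin P, cN P η β ≠ 0 →
      cN P η β = 1 ∧ ∀ χ : IrrCharacter G, χ ≠ η → cN P χ β = 0)
    {β : IrrCharacter (Nz P)} (hβ : β ∈ Lin P) :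
    β = trivIrr ↥(Nz P) ∨ (∃ η ∈ typeA X v, cN P η β = 1 ∧ ∀ χ : IrrCharacter G, χ ≠ η → cN P χ β = 0)
      ∨ β ∈ free P X v := by
  by_cases h1 : β = trivIrr ↥(Nz P)
  · exact Or.inl h1
  by_cases h2 : ∃ η ∈ typeA X v, cN P η β ≠ 0
  · obtain ⟨η, hη, h⟩ := h2
    exact Or.inr (Or.inl ⟨η, hη, hown η hη β hβ h⟩)
  · push Not at h2
    exact Or.inr (Or.inr ⟨hβ, h1, h2⟩)

/-- **BRC-COUNTS**. -/
theorem counts (hS : Special p P n w X Y v ε) (hL : LinData P) (hA : StepA p P n w X Y v ε)
    (hown : ∀ η ∈ typeA X v, ∀ β ∈ Lin P, cN P η β ≠ 0 →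
      cN P η β = 1 ∧ ∀ χ : IrrCharacter G, χ ≠ η → cN P χ β = 0)
    (htriv : ∀ ψ ∈ Y, cN P ψ (trivIrr ↥(Nz P)) = 0)
    (hfree : ∀ β ∈ free P X v, ε = -1 ∧ ∑ᶠ ψ ∈ Y, cN P ψ β = tI p P) :
    Nat.card (typeA X v) + Nat.card (typeB X v) + 1 = fI P ∧
    Nat.card (typeA X v) * (n + 1) + w + 1 = fI P ∧
    Nat.card (free P X v) = w ∧ (ε = 1 → w = 0) := by
  classical
  have hb0 := hS.bx.b0
  have hfL : (Lin P).Finite := Set.toFinite _
  have hfA : (typeA X v).Finite := Set.toFinite _
  have hfY : Y.Finite := Set.toFinite _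
  have hfF : (free P X v).Finite := Set.toFinite _
  have ht := tI_pos hS
  -- finset forms
  have hsumA : ∀ η ∈ hfA.toFinset, ∑ β ∈ hfL.toFinset, cN P η β = n + 1 := by
    intro η hη
    rw [← finsum_mem_eq_finite_toFinset_sum _ hfL, hA.sum_cN η, hA.aP_A η (hfA.mem_toFinset.mp hη)]
  have hsumY : ∀ ψ ∈ hfY.toFinset, ∑ β ∈ hfL.toFinset, cN P ψ β = w := by
    intro ψ hψ
    rw [← finsum_mem_eq_finite_toFinset_sum _ hfL, hA.sum_cN ψ, hA.aP_Y ψ (hfY.mem_toFinset.mp hψ)]
  have hfreeF : ∀ β ∈ free P X v, ∑ ψ ∈ hfY.toFinset, cN P ψ β = tI p P := by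
    intro β hβ
    rw [← finsum_mem_eq_finite_toFinset_sum _ hfY]
    exact (hfree β hβ).2
  have hcardL : hfL.toFinset.card = fI P := by
    rw [← hL.card_eq, Nat.card_coe_set_eq, Set.ncard_eq_toFinset_card _ hfL]
  have hcardA : hfA.toFinset.card = Nat.card (typeA X v) := by
    rw [Nat.card_coe_set_eq, Set.ncard_eq_toFinset_card _ hfA]
  have hcardY : hfY.toFinset.card = tI p P := by
    have := hb0.cardY
    rw [Nat.card_coe_set_eq, Set.ncard_eq_toFinset_card _ hfY] at this
    exact this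
  have hcardF : hfF.toFinset.card = Nat.card (free P X v) := by
    rw [Nat.card_coe_set_eq, Set.ncard_eq_toFinset_card _ hfF]
  have hFsub : hfF.toFinset ⊆ hfL.toFinset := by
    intro β hβ
    exact hfL.mem_toFinset.mpr (hfF.mem_toFinset.mp hβ).1
  -- pointwise identities on `Lin P`
  have hpt1 : ∀ β ∈ hfL.toFinset,
      (if β = trivIrr ↥(Nz P) then 1 else 0) + ∑ η ∈ hfA.toFinset, cN P η β +
        (if β ∈ free P X v then 1 else 0) = 1 := by
    intro β hβ'
    have hβ := hfL.mem_toFinset.mp hβ'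
    rcases lin_cases hA hown hβ with h | ⟨η, hη, h1, h2⟩ | h
    · have hnf : β ∉ free P X v := fun hf => hf.2.1 h
      rw [if_pos h, if_neg hnf]
      have : ∑ η ∈ hfA.toFinset, cN P η β = 0 := by
        apply Finset.sum_eq_zero
        intro η hη
        rw [h]
        exact cN_typeA_triv hA hown (hfA.mem_toFinset.mp hη)
      rw [this]
    · have hnf : β ∉ free P X v := fun hf => by
        have := hf.2.2 η hη
        omega
      have hnt : β ≠ trivIrr ↥(Nz P) := by
        intro hβt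
        have := cN_typeA_triv hA hown hη
        rw [← hβt] at this
        omega
      rw [if_neg hnt, if_neg hnf]
      have : ∑ η' ∈ hfA.toFinset, cN P η' β = 1 := by
        rw [Finset.sum_eq_single η]
        · exact h1
        · intro χ _ hχ
          exact h2 χ hχ
        · intro hη'
          exact absurd (hfA.mem_toFinset.mpr hη) hη'
      rw [this]
    · have hnt : β ≠ trivIrr ↥(Nz P) := h.2.1
      rw [if_neg hnt, if_pos h]
      have : ∑ η ∈ hfA.toFinset, cN P η β = 0 := by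
        apply Finset.sum_eq_zero
        intro η hη
        exact h.2.2 η (hfA.mem_toFinset.mp hη)
      rw [this]
  have hpt2 : ∀ β ∈ hfL.toFinset,
      ∑ ψ ∈ hfY.toFinset, cN P ψ β = tI p P * (if β ∈ free P X v then 1 else 0) := by
    intro β hβ'
    have hβ := hfL.mem_toFinset.mp hβ'
    rcases lin_cases hA hown hβ with h | ⟨η, hη, h1, h2⟩ | h
    · have hnf : β ∉ free P X v := fun hf => hf.2.1 h
      rw [if_neg hnf, mul_zero]
      apply Finset.sum_eq_zero
      intro ψ hψ
      rw [h]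
      exact htriv ψ (hfY.mem_toFinset.mp hψ)
    · have hnf : β ∉ free P X v := fun hf => by
        have := hf.2.2 η hη
        omega
      rw [if_neg hnf, mul_zero]
      apply Finset.sum_eq_zero
      intro ψ hψ
      apply h2
      rintro rfl
      exact (Set.disjoint_left.mp hb0.disj hη.1) (hfY.mem_toFinset.mp hψ)
    · rw [if_pos h, mul_one]
      exact hfreeF β h
  -- the two double counts
  have hcnt1 : 1 + Nat.card (typeA X v) * (n + 1) + Nat.card (free P X v) = fI P := by
    have h1 := Finset.sum_congr rfl hpt1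
    rw [Finset.sum_add_distrib, Finset.sum_add_distrib, Finset.sum_comm,
      Finset.sum_congr rfl hsumA] at h1
    simp only [Finset.sum_const, smul_eq_mul, mul_one] at h1
    rw [Finset.sum_ite_eq' hfL.toFinset (trivIrr ↥(Nz P)) (fun _ => 1),
      if_pos (hfL.mem_toFinset.mpr (triv_mem_Lin P))] at h1
    rw [← Finset.sum_filter, Finset.sum_const, smul_eq_mul, mul_one] at h1
    have h2 : (hfL.toFinset.filter (fun β => β ∈ free P X v)) = hfF.toFinset := by
      ext β
      simp only [Finset.mem_filter, Set.Finite.mem_toFinset]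
      exact ⟨fun h => h.2, fun h => ⟨h.1, h⟩⟩
    rw [h2, hcardA, hcardF, hcardL] at h1
    exact h1
  have hcnt2 : tI p P * w = tI p P * Nat.card (free P X v) := by
    have h1 := Finset.sum_congr rfl hpt2
    rw [Finset.sum_comm, Finset.sum_congr rfl hsumY, ← Finset.mul_sum] at h1
    simp only [Finset.sum_const, smul_eq_mul] at h1
    rw [← Finset.sum_filter, Finset.sum_const, smul_eq_mul, mul_one] at h1
    have h2 : (hfL.toFinset.filter (fun β => β ∈ free P X v)) = hfF.toFinset := by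
      ext β
      simp only [Finset.mem_filter, Set.Finite.mem_toFinset]
      exact ⟨fun h => h.2, fun h => ⟨h.1, h⟩⟩
    rw [h2, hcardY, hcardF] at h1
    exact h1
  have hw : Nat.card (free P X v) = w := (Nat.eq_of_mul_eq_mul_left (by omega) hcnt2).symm
  refine ⟨card_X_split hS, ?_, hw, ?_⟩
  · rw [hw] at hcnt1; omega
  · intro hε
    by_contra hw0
    have hne : (free P X v).Nonempty := by
      rw [← Set.ncard_pos hfF, ← Nat.card_coe_set_eq, hw]
      omega
    obtain ⟨β, hβ⟩ := hne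
    have := (hfree β hβ).1
    rw [hε] at this
    omega

end Cfsg.Agent.Lib.Helper12.BRCCOUNTS
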