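import Mathlib
import Cfsg.Prelude.Def_BlockRank
import Cfsg.Prelude.Def_Perm
import Cfsg.Agent.Lib.Helper24.BRCDefs

set_option autoImplicit false
set_option linter.unusedSectionVars false
set_option linter.unusedVariables false

namespace Cfsg.Agent.Lib.Helper12.BRCFREEDEG

open Cfsg Cfsg.Agent.Lib.Helper8.DOM Cfsg.Agent.Lib.Helper27.DO Cfsg.Agent.CharLib
open Cfsg.Agent.Lib.Helper6.BRH Cfsg.Agent.Lib.Helper24.BRC
open scoped ComplexConjugate

universe u

variable {G : Type u} [Group G] [Finite G] {p : ℕ} [Fact p.Prime]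

variable {P : Subgroup G} {n w : ℕ} {X Y : Set (IrrCharacter G)} {v : IrrCharacter G → ℤ} {ε : ℤ}

/-- **BRC-FREEDEG**. -/
theorem free_deg (hS : Special p P n w X Y v ε) (hL : LinData P) (hA : StepA p P n w X Y v ε)
    (hC2 : StepC p P n w X Y v ε) (hε : ε = -1) (hw : 1 ≤ w) :
    tI p P * (w * p - fI P) ≤ 1 + n * p := by
  classical
  have hfY : Y.Finite := Set.toFinite _
  have hfF : (free P X v).Finite := Set.toFinite _
  have hne : (free P X v).Nonempty := by
    rw [← Set.ncard_pos hfF, ← Nat.card_coe_set_eq, hC2.cardFree]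
    omega
  obtain ⟨β, hβ⟩ := hne
  have h1 := hA.deg_cN β hβ.1
  have h2 := (hC2.free_spec β hβ).2
  rw [← h1, ← h2]
  have hdeg : ∀ ψ ∈ Y, charDegree (ψ : G → ℂ) = w * p - fI P := by
    intro ψ hψ
    have h := hS.hw ψ hψ
    rw [hε] at h
    have h' : (charDegree (ψ : G → ℂ) : ℤ) = (w : ℤ) * p - (fI P : ℤ) := by
      rw [h]; unfold fI; ring
    omega
  let _ := Fintype.ofFinite (IrrCharacter G)
  rw [finsum_mem_eq_finite_toFinset_sum _ hfY, Finset.sum_mul,
    finsum_eq_sum_of_fintype (fun χ : IrrCharacter G => cN P χ β * charDegree (χ : G → ℂ))]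
  calc ∑ ψ ∈ hfY.toFinset, cN P ψ β * (w * p - fI P)
      = ∑ ψ ∈ hfY.toFinset, cN P ψ β * charDegree (ψ : G → ℂ) := by
        apply Finset.sum_congr rfl
        intro ψ hψ
        rw [hdeg ψ (hfY.mem_toFinset.mp hψ)]
    _ ≤ ∑ χ : IrrCharacter G, cN P χ β * charDegree (χ : G → ℂ) :=
        Finset.sum_le_sum_of_subset (Finset.subset_univ _)

end Cfsg.Agent.Lib.Helper12.BRCFREEDEG
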