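import Mathlib
import Cfsg.Prelude.Def_BlockRank
import Cfsg.Prelude.Def_Perm
import Cfsg.Agent.Lib.Helper24.BRCDefs
import Cfsg.Agent.Lib.Helper12.BRCFREE
import Cfsg.Agent.Lib.Helper1.BRCAux
import Cfsg.Agent.Lib.Helper6.BRCTools

set_option autoImplicit false
set_option linter.unusedSectionVars false
set_option linter.unusedVariables false

namespace Cfsg.Agent.Lib.Helper12.BRCSTEPB

open Cfsg Cfsg.Agent.Lib.Helper8.DOM Cfsg.Agent.Lib.Helper27.DO Cfsg.Agent.CharLib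
open Cfsg.Agent.Lib.Helper6.BRH Cfsg.Agent.Lib.Helper24.BRC
open Cfsg.Agent.Lib.Helper12.BRCFREE
open scoped ComplexConjugate

universe u

variable {G : Type u} [Group G] [Finite G] {p : ℕ} [Fact p.Prime]

variable {P : Subgroup G} {n w : ℕ} {X Y : Set (IrrCharacter G)} {v : IrrCharacter G → ℤ} {ε : ℤ}

/-- `mult` is additive in a finite sum with natural coefficients -/
theorem mult_sum_nsmul (H : Subgroup G) [Fintype (IrrCharacter G)] (m : IrrCharacter G → ℕ)
    (φ : H → ℂ) :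
    mult H (∑ χ : IrrCharacter G, m χ • (χ : G → ℂ)) φ =
      ∑ χ : IrrCharacter G, (m χ : ℂ) * mult H (χ : G → ℂ) φ := by
  classical
  let _ : Fintype H := Fintype.ofFinite _
  have hpt : ∀ g : G, (∑ χ : IrrCharacter G, m χ • (χ : G → ℂ)) g =
      ∑ χ : IrrCharacter G, (m χ : ℂ) * (χ : G → ℂ) g := by
    intro g
    rw [Finset.sum_apply]
    apply Finset.sum_congr rfl
    intro χ _
    rw [Pi.smul_apply, nsmul_eq_mul]
  unfold mult
  simp only [finsum_eq_sum_of_fintype, hpt]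
  rw [Finset.mul_sum]
  simp_rw [Finset.sum_mul, Finset.mul_sum]
  rw [Finset.sum_comm]
  apply Finset.sum_congr rfl
  intro χ _
  apply Finset.sum_congr rfl
  intro h _
  ring

/-- an exceptional character of multiplicity `aP = 0` vanishes on `N \ P` -/
theorem psi_vanish (hA : StepA p P n w X Y v ε) (hw0 : w = 0) {ψ : IrrCharacter G} (hψ : ψ ∈ Y)
    (y : Nz P) (hy : (y : G) ∉ P) : (ψ : G → ℂ) y = 0 := by
  rw [hA.resN ψ y hy]
  apply finsum_mem_eq_zero_of_forall_eq_zero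
  intro β hβ
  have h1 := hA.sum_cN ψ
  rw [hA.aP_Y ψ hψ, hw0] at h1
  have h2 := le_finsum_mem (Set.toFinite (Lin P)) (fun β => cN P ψ β) hβ
  rw [h1] at h2
  rw [Nat.le_zero.mp h2]
  simp

/-- `⟨(ψ ψ̄)|_N, β⟩ = 1` for `β ∈ Lin P` -/
theorem mult_Phi (hS : Special p P n w X Y v ε) (hA : StepA p P n w X Y v ε) (hw0 : w = 0)
    {ψ : IrrCharacter G} (hψ : ψ ∈ Y) (hψ1 : (ψ : G → ℂ) 1 = (fI P : ℂ))
    {β : IrrCharacter (Nz P)} (hβ : β ∈ Lin P) :
    mult (Nz P) (fun g => (ψ : G → ℂ) g * conj ((ψ : G → ℂ) g)) (β : Nz P → ℂ) = 1 := by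
  classical
  let _ : Fintype (Nz P) := Fintype.ofFinite _
  have hfS : ({x : G | x ∈ P ∧ x ≠ 1}).Finite := Set.toFinite _
  unfold mult
  rw [finsum_eq_sum_of_fintype]
  have h1 : ∑ h : Nz P, (fun g => (ψ : G → ℂ) g * conj ((ψ : G → ℂ) g)) (h : G) *
        conj ((β : Nz P → ℂ) h) =
      ∑ h : Nz P, (if (h : G) ∈ P then (ψ : G → ℂ) h * conj ((ψ : G → ℂ) h) else 0) := by
    apply Finset.sum_congr rfl
    intro h _
    show (ψ : G → ℂ) h * conj ((ψ : G → ℂ) h) * conj ((β : Nz P → ℂ) h) = _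
    by_cases hh : (h : G) ∈ P
    · rw [if_pos hh, hβ h hh]; simp
    · rw [if_neg hh, psi_vanish hA hw0 hψ h hh]; simp
  rw [h1, Cfsg.Agent.Lib.Helper1.BRCAux.sum_ite_mem_eq_finsum_mem P (Nz P) Subgroup.le_normalizer
    (fun g => (ψ : G → ℂ) g * conj ((ψ : G → ℂ) g)),
    Cfsg.Agent.Lib.Helper6.BRCTools.finsum_P_split P (fun g => (ψ : G → ℂ) g * conj ((ψ : G → ℂ) g))]
  have h2 : ∑ᶠ x ∈ {x : G | x ∈ P ∧ x ≠ 1}, (ψ : G → ℂ) x * conj ((ψ : G → ℂ) x) =
      (fI P : ℂ) * ((p : ℂ) - (fI P : ℂ)) := by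
    have h3 := hA.normY ψ hψ
    rw [finsum_mem_eq_finite_toFinset_sum _ hfS] at h3 ⊢
    have h4 : ∑ x ∈ hfS.toFinset, (ψ : G → ℂ) x * conj ((ψ : G → ℂ) x) =
        ((∑ x ∈ hfS.toFinset, Complex.normSq ((ψ : G → ℂ) x) : ℝ) : ℂ) := by
      rw [Complex.ofReal_sum]
      apply Finset.sum_congr rfl
      intro x _
      rw [Complex.mul_conj]
    rw [h4, h3]
    push_cast
    ring
  rw [h2, hψ1, Cfsg.Agent.Lib.Helper6.BRCTools.card_Nz P hS.hP hS.hC]
  have hf : (fI P : ℂ) ≠ 0 := by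
    have := hS.hf2
    have h2 : fI P ≠ 0 := by unfold fI; omega
    exact_mod_cast h2
  have hp : (p : ℂ) ≠ 0 := by
    have : p ≠ 0 := (Fact.out : p.Prime).ne_zero
    exact_mod_cast this
  simp only [Complex.conj_natCast, Nat.cast_mul]
  field_simp
  ring

/-- **BRC-STEPB**. -/
theorem stepB_ineq (hS : Special p P n w X Y v ε) (hL : LinData P) (hA : StepA p P n w X Y v ε)
    (hC2 : StepC p P n w X Y v ε) (hε : ε = 1) :
    1 + Nat.card (typeA X v) * (1 + n * p) ≤ fI P ^ 2 := by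
  classical
  let _ : Fintype G := Fintype.ofFinite _
  let _ : Fintype (IrrCharacter G) := Fintype.ofFinite _
  have hb0 := hS.bx.b0
  have hw0 : w = 0 := hC2.sgn_w hε
  have hfY : Y.Finite := Set.toFinite _
  have hfA : (typeA X v).Finite := Set.toFinite _
  have htpos : 1 ≤ tI p P := by
    have hp1 : 1 < p := (Fact.out : p.Prime).one_lt
    have hf2 : 2 ≤ fI P := hS.hf2
    have hdvd : fI P ∣ p - 1 := hb0.dvd
    show 1 ≤ (p - 1) / fI P
    exact (Nat.one_le_div_iff (by omega)).mpr (Nat.le_of_dvd (by omega) hdvd)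
  have hne : Y.Nonempty := by
    rw [← Set.ncard_pos hfY, ← Nat.card_coe_set_eq, hb0.cardY]
    exact htpos
  obtain ⟨ψ, hψ⟩ := hne
  have hdeg : charDegree (ψ : G → ℂ) = fI P := by
    have h := hS.hw ψ hψ
    rw [hε, hw0] at h
    have : (charDegree (ψ : G → ℂ) : ℤ) = (fI P : ℤ) := by
      rw [h]; unfold fI; push_cast; ring
    exact_mod_cast this
  have hψ1 : (ψ : G → ℂ) 1 = (fI P : ℂ) := by rw [apply_one_eq, hdeg]
  have hΦ : IsCharacter G ((ψ : G → ℂ) * (fun g => conj ((ψ : G → ℂ) g))) :=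
    IsCharacter.mul (IsIrrCharacter.isCharacter ψ.2)
      (IsCharacter.conj (IsIrrCharacter.isCharacter ψ.2))
  obtain ⟨m, hm, hcoef⟩ := Cfsg.Agent.Lib.Helper6.IsCharacter.exists_decomp_sum hΦ
  have hΦfun : (ψ : G → ℂ) * (fun g => conj ((ψ : G → ℂ) g)) =
      fun g => (ψ : G → ℂ) g * conj ((ψ : G → ℂ) g) := rfl
  -- the trivial character occurs once
  have hm1 : m (trivIrr G) = 1 := by
    have h := hcoef (trivIrr G)
    have h2 : classInner ((ψ : G → ℂ) * (fun g => conj ((ψ : G → ℂ) g)))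
        ((trivIrr G : IrrCharacter G) : G → ℂ) = classInner (ψ : G → ℂ) (ψ : G → ℂ) := by
      unfold classInner
      congr 1
      apply Finset.sum_congr rfl
      intro g _
      show (ψ : G → ℂ) g * conj ((ψ : G → ℂ) g) * conj (1 : ℂ) = _
      simp
    rw [h2, classInner_irr', if_pos rfl] at h
    exact_mod_cast h.symm
  -- every type A character occurs once
  have hmA : ∀ η ∈ typeA X v, m η = 1 := by
    intro η hη
    have hex : ∃ β ∈ Lin P, cN P η β ≠ 0 := by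
      by_contra hcon
      push Not at hcon
      have h1 := hA.sum_cN η
      rw [hA.aP_A η hη, finsum_mem_eq_zero_of_forall_eq_zero hcon] at h1
      omega
    obtain ⟨β, hβ, hne⟩ := hex
    obtain ⟨ho1, ho2⟩ := hC2.own η hη β hβ hne
    have h1 := mult_Phi hS hA hw0 hψ hψ1 hβ
    rw [← hΦfun, hm, mult_sum_nsmul, Finset.sum_eq_single η] at h1
    · rw [← Cfsg.Agent.Lib.Helper1.BRCAux.cN_cast, ho1] at h1
      have : (m η : ℂ) = 1 := by simpa using h1
      exact_mod_cast this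
    · intro χ _ hχ
      rw [← Cfsg.Agent.Lib.Helper1.BRCAux.cN_cast, ho2 χ hχ]; simp
    · intro h; exact absurd (Finset.mem_univ _) h
  -- degrees
  have hdegsum : fI P ^ 2 = ∑ χ : IrrCharacter G, m χ * charDegree (χ : G → ℂ) := by
    have h := congrFun hm 1
    rw [hΦfun, Finset.sum_apply] at h
    have h2 : ∀ χ : IrrCharacter G, (m χ • (χ : G → ℂ)) 1 =
        (m χ : ℂ) * (charDegree (χ : G → ℂ) : ℂ) := by
      intro χ
      rw [Pi.smul_apply, nsmul_eq_mul, apply_one_eq]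
    rw [Finset.sum_congr rfl (fun χ _ => h2 χ)] at h
    change (ψ : G → ℂ) 1 * conj ((ψ : G → ℂ) 1) = _ at h
    rw [hψ1, Complex.conj_natCast] at h
    have h' : ((fI P ^ 2 : ℕ) : ℂ) =
        ((∑ χ : IrrCharacter G, m χ * charDegree (χ : G → ℂ) : ℕ) : ℂ) := by
      push_cast
      rw [sq]
      exact h
    exact_mod_cast h'
  have hdeg1 : charDegree ((trivIrr G : IrrCharacter G) : G → ℂ) = 1 :=
    charDegree_eq_of_apply_one (by show (1 : ℂ) = ((1 : ℕ) : ℂ); simp)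
  have hdegA : ∀ η ∈ typeA X v, charDegree (η : G → ℂ) = 1 + n * p := by
    intro η hη
    rcases hS.typ η hη.1 hη.2.1 with h | h
    · exact h.2
    · have := hη.2.2; rw [h.1] at this; omega
  have hnotin : trivIrr G ∉ hfA.toFinset := by
    intro h
    exact (hfA.mem_toFinset.mp h).2.1 rfl
  rw [hdegsum]
  calc 1 + Nat.card (typeA X v) * (1 + n * p)
      = ∑ χ ∈ insert (trivIrr G) hfA.toFinset, m χ * charDegree (χ : G → ℂ) := by
        rw [Finset.sum_insert hnotin, hm1, hdeg1]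
        congr 1
        rw [Nat.card_coe_set_eq, Set.ncard_eq_toFinset_card _ hfA, ← smul_eq_mul,
          ← Finset.sum_const]
        apply Finset.sum_congr rfl
        intro η hη
        rw [hmA η (hfA.mem_toFinset.mp hη), hdegA η (hfA.mem_toFinset.mp hη), one_mul]
    _ ≤ ∑ χ : IrrCharacter G, m χ * charDegree (χ : G → ℂ) :=
        Finset.sum_le_sum_of_subset (Finset.subset_univ _)

end Cfsg.Agent.Lib.Helper12.BRCSTEPB
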