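/-
helper12: leaf BS-INVVAL of helper6's S4705 market (`notes/S4705_leaves.lean`): `invol_val`.
For an element `w` inverting a subgroup `P` of odd prime order `p` and an irreducible character `χ`:
`∑_{x ∈ P} χ(x) = p k` with `k = dim V^P`, and `|χ(w)| ≤ k` (`= 1` if `k = 1`), because all `w x` (`x ∈ P`) are
conjugate to `w`, so `χ(w)` is the trace of `ρ(w)` on the `P`-fixed space.
-/
import Mathlib
import Cfsg.Prelude.Def_BlockRank
import Cfsg.Agent.Lib.Lead.CharBasic

set_option autoImplicit false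
set_option linter.unusedSectionVars false

namespace Cfsg.Agent.Lib.Helper12.BSINVVAL

open Cfsg Cfsg.Agent.CharLib
open scoped ComplexConjugate

universe u

/-- the trace of `T e` for an idempotent `e` commuting with an operator `T` of finite order -/
theorem trace_mul_proj_bound {V : Type*} [AddCommGroup V] [Module ℂ V] [FiniteDimensional ℂ V]
    (T e : Module.End ℂ V) (he : e * e = e) (hcomm : T * e = e * T) (m : ℕ) (hm : 0 < m)
    (hT : T ^ m = 1) :
    ∃ k : ℕ, LinearMap.trace ℂ V e = (k : ℂ) ∧ ‖LinearMap.trace ℂ V (T * e)‖ ≤ (k : ℝ) ∧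
      (k = 1 → ‖LinearMap.trace ℂ V (T * e)‖ = 1) := by
  classical
  set W : Submodule ℂ V := LinearMap.range e with hW
  have hproj : LinearMap.IsProj W e := by
    refine ⟨fun x => LinearMap.mem_range_self e x, fun x hx => ?_⟩
    obtain ⟨y, rfl⟩ := hx
    show e (e y) = e y
    rw [← Module.End.mul_apply, he]
  have htr : LinearMap.trace ℂ V e = (Module.finrank ℂ W : ℂ) := hproj.trace
  have hfmem : ∀ x, (T * e) x ∈ W := by
    intro x
    rw [hcomm, Module.End.mul_apply]
    exact LinearMap.mem_range_self e _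
  have hres := LinearMap.trace_restrict_eq_of_forall_mem W (T * e) hfmem
  set S : Module.End ℂ W := (T * e).restrict (fun x _ => hfmem x) with hS
  have hSx : ∀ x : W, ((S x : W) : V) = T (x : V) := by
    intro x
    show (T * e) (x : V) = T (x : V)
    rw [Module.End.mul_apply, hproj.map_id _ x.2]
  have hSpow : ∀ j : ℕ, ∀ x : W, (((S ^ j) x : W) : V) = (T ^ j) (x : V) := by
    intro j
    induction j with
    | zero => intro x; simp
    | succ j ih =>
      intro x
      rw [pow_succ, Module.End.mul_apply, ih (S x), pow_succ, Module.End.mul_apply, hSx]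
  have hSm : S ^ m = 1 := by
    ext x
    rw [hSpow m x, hT]
    simp
  obtain ⟨ι, hι, b, μ, hμ, hb⟩ := exists_eigenbasis_of_pow_eq_one S m hm hSm
  have hnorm : ∀ i, ‖μ i‖ = 1 := fun i => Complex.norm_eq_one_of_pow_eq_one (hμ i) hm.ne'
  have htrS : LinearMap.trace ℂ W S = ∑ i, μ i := trace_eq_sum_of_eigenbasis b S μ hb
  have hcard : Module.finrank ℂ W = Fintype.card ι := Module.finrank_eq_card_basis b
  refine ⟨Module.finrank ℂ W, htr, ?_, ?_⟩
  · rw [← hres, htrS, hcard]
    calc ‖∑ i, μ i‖ ≤ ∑ i, ‖μ i‖ := norm_sum_le _ _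
      _ = (Fintype.card ι : ℝ) := by simp [hnorm]
  · intro hk
    rw [← hres, htrS]
    rw [hcard] at hk
    obtain ⟨i0, hi0⟩ := Fintype.card_eq_one_iff.mp hk
    have huniv : (Finset.univ : Finset ι) = {i0} := by
      ext i
      simp [hi0 i]
    rw [huniv, Finset.sum_singleton, hnorm]

variable {G : Type u} [Group G] [Finite G] {p : ℕ} [Fact p.Prime]

/-- the elements `w x`, `x ∈ P`, are conjugate to `w` when `w` inverts the group `P` of odd order `p` -/
theorem exists_conj_eq (hp2 : p ≠ 2) (P : Subgroup G) (hP : Nat.card P = p) (w : G)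
    (hw : ∀ x ∈ P, w * x * w⁻¹ = x⁻¹) (x : G) (hx : x ∈ P) : ∃ y : G, y * w * y⁻¹ = w * x := by
  have hpp : p.Prime := Fact.out
  have hodd : Odd p := hpp.odd_of_ne_two hp2
  obtain ⟨r, hr⟩ := hodd
  -- `y = x ^ (r + 1)` has `y * y = x`
  have hxp : x ^ p = 1 := by
    have h1 : (⟨x, hx⟩ : P) ^ p = 1 := by
      rw [← hP]
      exact pow_card_eq_one'
    have := congrArg Subtype.val h1
    simpa using this
  set y : G := x ^ (r + 1) with hy
  have hyP : y ∈ P := Subgroup.pow_mem P hx _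
  have hyy : y * y = x := by
    rw [hy, ← pow_add]
    have : r + 1 + (r + 1) = p + 1 := by omega
    rw [this, pow_succ, hxp, one_mul]
  have hwy : w * y * w⁻¹ = y⁻¹ := hw y hyP
  -- `y⁻¹ * w * y = w * x`
  refine ⟨y⁻¹, ?_⟩
  rw [inv_inv]
  have h1 : w * y = y⁻¹ * w := by
    calc w * y = w * y * w⁻¹ * w := by group
      _ = y⁻¹ * w := by rw [hwy]
  calc y⁻¹ * w * y = w * y * y := by rw [h1]
    _ = w * x := by rw [mul_assoc, hyy]

/-- BS-INVVAL : `|χ(w)| ≤ ⟨χ|_P, 1_P⟩` for an element `w` inverting `P`. -/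
theorem invol_val (hp2 : p ≠ 2) (P : Subgroup G) (hP : Nat.card P = p) (w : G)
    (hw : ∀ x ∈ P, w * x * w⁻¹ = x⁻¹) (χ : IrrCharacter G) :
    ∃ k : ℕ, ∑ᶠ x ∈ (P : Set G), (χ : G → ℂ) x = (p : ℂ) * (k : ℂ) ∧ ‖(χ : G → ℂ) w‖ ≤ (k : ℝ) ∧
      (k = 1 → ‖(χ : G → ℂ) w‖ = 1) := by
  classical
  have hpp : p.Prime := Fact.out
  let _ : Fintype P := Fintype.ofFinite P
  obtain ⟨χf, n, ρ, hirr, rfl⟩ := χ
  have hpC : (p : ℂ) ≠ 0 := Nat.cast_ne_zero.mpr hpp.ne_zero
  have hcardP : Fintype.card P = p := by rw [← Nat.card_eq_fintype_card, hP]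
  set S : Module.End ℂ (Fin n → ℂ) := ∑ x : P, ρ (x : G) with hS
  -- `ρ y * S = S`
  have hyS : ∀ y : P, ρ (y : G) * S = S := by
    intro y
    rw [hS, Finset.mul_sum, ← Equiv.sum_comp (Equiv.mulLeft y) (fun x : P => ρ (x : G))]
    apply Finset.sum_congr rfl
    intro x _
    rw [← map_mul]
    rfl
  have hSS : S * S = (p : ℂ) • S := by
    have h1 : S * S = ∑ y : P, ρ (y : G) * S := by
      conv_lhs => rw [hS]
      rw [Finset.sum_mul]
    rw [h1, Finset.sum_congr rfl (fun y _ => hyS y), Finset.sum_const, Finset.card_univ, hcardP,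
      Nat.cast_smul_eq_nsmul]
  set e : Module.End ℂ (Fin n → ℂ) := (p : ℂ)⁻¹ • S with he
  have hee : e * e = e := by
    rw [he, smul_mul_smul_comm, hSS, smul_smul, mul_assoc, inv_mul_cancel₀ hpC, mul_one]
  -- `ρ w` commutes with `S`
  have hwS : ρ w * S = S * ρ w := by
    rw [hS, Finset.mul_sum, Finset.sum_mul, ← Equiv.sum_comp (Equiv.inv P) (fun x : P => ρ (x : G) * ρ w)]
    apply Finset.sum_congr rfl
    intro x _
    rw [← map_mul, ← map_mul]
    congr 1
    have h1 := hw x x.2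
    show w * (x : G) = ((x⁻¹ : P) : G) * w
    rw [Subgroup.coe_inv, ← h1]
    group
  have hwe : ρ w * e = e * ρ w := by
    rw [he, mul_smul_comm, smul_mul_assoc, hwS]
  obtain ⟨k, hk1, hk2, hk3⟩ := trace_mul_proj_bound (ρ w) e hee hwe (orderOf w) (orderOf_pos w)
    (rep_pow_orderOf ρ w)
  -- the trace of `e`
  have htrS : LinearMap.trace ℂ _ S = ∑ x : P, ρ.character (x : G) := by
    rw [hS, map_sum]
    rfl
  have hsumP : ∑ x : P, ρ.character (x : G) = (p : ℂ) * (k : ℂ) := by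
    rw [← hk1, he, map_smul, htrS, smul_eq_mul, ← mul_assoc, mul_inv_cancel₀ hpC, one_mul]
  -- the trace of `ρ w * e`
  have hconst : ∀ x : P, ρ.character (w * (x : G)) = ρ.character w := by
    intro x
    obtain ⟨y, hy⟩ := exists_conj_eq hp2 P hP w hw (x : G) x.2
    rw [← hy, Representation.char_conj]
  have htrwe : LinearMap.trace ℂ _ (ρ w * e) = ρ.character w := by
    rw [he, mul_smul_comm, map_smul, hS, Finset.mul_sum, map_sum]
    have h1 : ∀ x : P, LinearMap.trace ℂ _ (ρ w * ρ (x : G)) = ρ.character w := by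
      intro x
      rw [← map_mul]
      exact hconst x
    rw [Finset.sum_congr rfl (fun x _ => h1 x), Finset.sum_const, Finset.card_univ, hcardP,
      nsmul_eq_mul, smul_eq_mul, ← mul_assoc, inv_mul_cancel₀ hpC, one_mul]
  refine ⟨k, ?_, ?_, ?_⟩
  · show ∑ᶠ x ∈ (P : Set G), ρ.character x = (p : ℂ) * (k : ℂ)
    rw [← hsumP, finsum_mem_eq_finite_toFinset_sum _ (Set.toFinite (P : Set G))]
    exact Finset.sum_subtype _ (fun x => by simp) _
  · show ‖ρ.character w‖ ≤ (k : ℝ)
    rw [← htrwe]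
    exact hk2
  · intro h
    show ‖ρ.character w‖ = 1
    rw [← htrwe]
    exact hk3 h

end Cfsg.Agent.Lib.Helper12.BSINVVAL
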