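/-
helper12: leaf BS-QUOT of helper6's S4705 market (`notes/S4705_leaves.lean`): `quot_data`.
The local structure of `G / Z(G)` at the image `Q` of a non-normal Sylow `p`-subgroup `P` of order `p` with
`|N_G(P) : C_G(P)| = 2` and `C_G(P) = P × Z(G)`.
-/
import Mathlib
import Cfsg.Prelude.Def_BlockRank
import Cfsg.Agent.Lib.Helper27.DODefs
import Cfsg.Agent.Lib.Helper29.DOTI
import Cfsg.Agent.Lib.Helper15.BRPCCZ
import Cfsg.Agent.Lib.Helper15.BRVIZREG

set_option autoImplicit false
set_option linter.unusedSectionVars false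
set_option linter.unusedVariables false

namespace Cfsg.Agent.Lib.Helper12.BSQUOT

open Cfsg Cfsg.Agent.Lib.Helper8.DOM Cfsg.Agent.Lib.Helper27.DO

universe u

variable {G : Type u} [Group G] [Finite G] {p : ℕ} [Fact p.Prime]

/-- BS-QUOT : the local structure of `G / Z(G)`. -/
theorem quot_data (hp2 : p ≠ 2) (P : Sylow p G) (hP : Nat.card (P : Subgroup G) = p)
    (hnn : ¬ (P : Subgroup G).Normal)
    (hf : (Cz (P : Subgroup G)).relIndex (Nz (P : Subgroup G)) = 2)
    (hV : ∀ y ∈ Cz (P : Subgroup G), ¬ p ∣ orderOf y → y ∈ Subgroup.center G) :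
    ∃ Q : Sylow p (G ⧸ Subgroup.center G), Nat.card (Q : Subgroup (G ⧸ Subgroup.center G)) = p ∧
      (∀ y : G ⧸ Subgroup.center G, y ∈ (Q : Subgroup (G ⧸ Subgroup.center G)) → y ≠ 1 →
        Subgroup.centralizer ({y} : Set (G ⧸ Subgroup.center G)) =
          (Q : Subgroup (G ⧸ Subgroup.center G))) ∧
      Nat.card (Subgroup.normalizer
        ((Q : Subgroup (G ⧸ Subgroup.center G)) : Set (G ⧸ Subgroup.center G))) = 2 * p ∧
      ¬ (Q : Subgroup (G ⧸ Subgroup.center G)).Normal := by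
  classical
  have hpp : p.Prime := Fact.out
  set P0 : Subgroup G := (P : Subgroup G) with hP0
  have hSyl : ¬ p ∣ P0.index := P.not_dvd_index
  set Z : Subgroup G := Subgroup.center G with hZ
  set π : G →* G ⧸ Z := QuotientGroup.mk' Z with hπ
  have hπs : Function.Surjective π := QuotientGroup.mk'_surjective Z
  have hker : π.ker = Z := QuotientGroup.ker_mk' Z
  have hZreg := Cfsg.Agent.Lib.Helper15.BRVIZREG.center_regular P0 hP hSyl hnn
  have hpowP : ∀ x ∈ P0, x ^ p = 1 := by
    intro x hx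
    have h1 : (⟨x, hx⟩ : P0) ^ p = 1 := by
      rw [← hP]
      exact pow_card_eq_one'
    simpa using congrArg Subtype.val h1
  -- `P` is abelian
  have hPC : P0 ≤ Cz P0 := by
    intro x hx
    rw [Subgroup.mem_centralizer_iff]
    intro w hw
    by_cases hx1 : x = 1
    · rw [hx1, one_mul, mul_one]
    · obtain ⟨j, rfl⟩ := Cfsg.Agent.Lib.Helper29.DOTI.exists_pow_eq_of_mem P0 hP hx hx1 hw
      exact ((Commute.refl x).zpow_left j).eq
  -- the key lemma
  have key : ∀ t x' : G, t ^ p = 1 → x' ∈ P0 → π t = π x' → t = x' := by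
    intro t x' ht hx' hπt
    have hz : x'⁻¹ * t ∈ Z := by
      rw [← hker, MonoidHom.mem_ker, map_mul, map_inv, hπt, inv_mul_cancel]
    have htz : t = x' * (x'⁻¹ * t) := by group
    have hcomm : Commute x' (x'⁻¹ * t) := Subgroup.mem_center_iff.mp hz x'
    have hzp : (x'⁻¹ * t) ^ p = 1 := by
      have h1 := ht
      rw [htz, hcomm.mul_pow, hpowP x' hx', one_mul] at h1
      exact h1
    have hz1 : x'⁻¹ * t = 1 := by
      have h1 : orderOf (x'⁻¹ * t) ∣ p := orderOf_dvd_of_pow_eq_one hzp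
      rcases (Nat.dvd_prime hpp).mp h1 with h | h
      · exact orderOf_eq_one_iff.mp h
      · exact absurd (h ▸ dvd_rfl) (hZreg _ hz)
    rw [htz, hz1, mul_one]
  -- the decomposition of the centralizer
  have hdec : ∀ c ∈ Cz P0, ∃ x ∈ P0, π c = π x := by
    intro c hc
    obtain ⟨x, hx, y, hy, hyreg, rfl⟩ := Cfsg.Agent.Lib.Helper15.BRPCCZ.exists_decomp P0 hP hSyl hc
    refine ⟨x, hx, ?_⟩
    have hyZ : y ∈ π.ker := by rw [hker]; exact hV y hy hyreg
    rw [map_mul, MonoidHom.mem_ker.mp hyZ, mul_one]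
  -- the centralizer of a non-identity element of `P`
  have hcs : ∀ y ∈ P0, y ≠ 1 → ∀ g : G, g * y = y * g → g ∈ Cz P0 := by
    intro y hy hy1 g hg
    rw [Subgroup.mem_centralizer_iff]
    intro w hw
    obtain ⟨j, rfl⟩ := Cfsg.Agent.Lib.Helper29.DOTI.exists_pow_eq_of_mem P0 hP hy hy1 hw
    have h1 : Commute y g := hg.symm
    exact (h1.zpow_left j).eq
  set Q : Sylow p (G ⧸ Z) := P.mapSurjective hπs with hQ
  have hQc : (Q : Subgroup (G ⧸ Z)) = P0.map π := Sylow.coe_mapSurjective hπs P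
  have hmemQ : ∀ x ∈ P0, π x ∈ (Q : Subgroup (G ⧸ Z)) := by
    intro x hx
    rw [hQc]
    exact Subgroup.mem_map_of_mem π hx
  -- a non-identity element of `P`
  have hnt : Nontrivial P0 := by
    rw [← Finite.one_lt_card_iff_nontrivial, hP]
    exact hpp.one_lt
  obtain ⟨⟨x0, hx0⟩, hx01'⟩ := exists_ne (1 : P0)
  have hx01 : x0 ≠ 1 := fun h => hx01' (Subtype.ext h)
  -- the normalizer
  have hnorm : Subgroup.normalizer ((Q : Subgroup (G ⧸ Z)) : Set (G ⧸ Z)) = (Nz P0).map π := by
    apply le_antisymm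
    · intro gb hgb
      obtain ⟨g, rfl⟩ := hπs gb
      have h1 := (Subgroup.mem_normalizer_iff.mp hgb (π x0)).mp (hmemQ x0 hx0)
      rw [hQc] at h1
      obtain ⟨x', hx', hπx'⟩ := Subgroup.mem_map.mp h1
      have h2 : g * x0 * g⁻¹ = x' := by
        apply key _ _ _ hx'
        · rw [map_mul, map_mul, map_inv, hπx']
        · rw [conj_pow, hpowP x0 hx0, mul_one, mul_inv_cancel]
      have h3 : g ∈ Nz P0 :=
        Cfsg.Agent.Lib.Helper29.DOTI.mem_Nz_of_conj_mem_P P0 hP hx0 hx01 (h2 ▸ hx')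
      exact Subgroup.mem_map_of_mem π h3
    · rw [hQc]
      exact Subgroup.le_normalizer_map π
  refine ⟨Q, ?_, ?_, ?_, ?_⟩
  · -- the order of `Q`
    rw [hQc, ← hP]
    symm
    refine Nat.card_congr (Equiv.ofBijective
      (fun x : P0 => (⟨π x, Subgroup.mem_map_of_mem π x.2⟩ : P0.map π)) ⟨?_, ?_⟩)
    · intro x x' h
      have h1 : π (x : G) = π (x' : G) := congrArg Subtype.val h
      exact Subtype.ext (key _ _ (hpowP _ x.2) x'.2 h1)
    · rintro ⟨y, hy⟩
      obtain ⟨x, hx, rfl⟩ := Subgroup.mem_map.mp hy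
      exact ⟨⟨x, hx⟩, rfl⟩
  · -- centralizers
    intro yb hyb hyb1
    rw [hQc] at hyb
    obtain ⟨y, hy, rfl⟩ := Subgroup.mem_map.mp hyb
    have hy1 : y ≠ 1 := by
      rintro rfl
      exact hyb1 (map_one π)
    apply le_antisymm
    · intro gb hgb
      obtain ⟨g, rfl⟩ := hπs gb
      have hcomm : π y * π g = π g * π y :=
        Subgroup.mem_centralizer_iff.mp hgb (π y) (Set.mem_singleton _)
      have h2 : g * y * g⁻¹ = y := by
        apply key _ _ _ hy
        · rw [map_mul, map_mul, map_inv, ← hcomm, mul_inv_cancel_right]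
        · rw [conj_pow, hpowP y hy, mul_one, mul_inv_cancel]
      have h3 : g * y = y * g := by
        calc g * y = g * y * g⁻¹ * g := by group
          _ = y * g := by rw [h2]
      obtain ⟨x, hx, hπx⟩ := hdec g (hcs y hy hy1 g h3)
      rw [hπx]
      exact hmemQ x hx
    · intro gb hgb
      rw [hQc] at hgb
      obtain ⟨x, hx, rfl⟩ := Subgroup.mem_map.mp hgb
      rw [Subgroup.mem_centralizer_iff]
      intro h hh
      rw [Set.mem_singleton_iff] at hh
      subst hh
      have h1 : y * x = x * y := Subgroup.mem_centralizer_iff.mp (hPC hx) y hy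
      rw [← map_mul, ← map_mul, h1]
  · -- the order of the normalizer
    rw [hnorm]
    have hZN : π.ker ≤ Nz P0 := by
      rw [hker]
      intro z hz
      exact Subgroup.centralizer_le_normalizer _ (Subgroup.center_le_centralizer _ hz)
    have hidx : ((Nz P0).map π).index = (Nz P0).index := Subgroup.index_map_eq _ hπs hZN
    have h1 := ((Nz P0).map π).card_mul_index
    have h2 := (Nz P0).card_mul_index
    have h3 := Subgroup.card_eq_card_quotient_mul_card_subgroup Z
    have h4 : Nat.card (Cz P0) * (Cz P0).relIndex (Nz P0) = Nat.card (Nz P0) := by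
      have := Subgroup.relIndex_mul_relIndex (⊥ : Subgroup G) (Cz P0) (Nz P0) bot_le
        (Subgroup.centralizer_le_normalizer _)
      rwa [Subgroup.relIndex_bot_left, Subgroup.relIndex_bot_left] at this
    have h5 := Cfsg.Agent.Lib.Helper15.BRPCCZ.card_Cz_eq P0 hP hSyl hnn hV
    rw [hf, h5] at h4
    have hidxpos : 0 < (Nz P0).index := Nat.pos_of_ne_zero (Subgroup.index_ne_zero_of_finite)
    have hZpos : 0 < Nat.card Z := Nat.card_pos
    -- `|N̄| * idx * |Z| = |N| * idx`
    have h6 : Nat.card ((Nz P0).map π) * Nat.card Z * (Nz P0).index =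
        Nat.card (Nz P0) * (Nz P0).index := by
      rw [h2, h3, ← h1, hidx]
      ring
    have h7 : Nat.card ((Nz P0).map π) * Nat.card Z = Nat.card (Nz P0) :=
      Nat.eq_of_mul_eq_mul_right hidxpos h6
    rw [← h4] at h7
    have h8 : Nat.card ((Nz P0).map π) * Nat.card Z = (2 * p) * Nat.card Z := by
      rw [h7]; ring
    exact Nat.eq_of_mul_eq_mul_right hZpos h8
  · -- `Q` is not normal
    intro hQn
    apply hnn
    have htop : Subgroup.normalizer ((Q : Subgroup (G ⧸ Z)) : Set (G ⧸ Z)) = ⊤ :=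
      Subgroup.normalizer_eq_top_iff.mpr hQn
    have hall : ∀ g : G, g ∈ Nz P0 := by
      intro g
      have h1 : π g ∈ Subgroup.normalizer ((Q : Subgroup (G ⧸ Z)) : Set (G ⧸ Z)) := by
        rw [htop]; exact Subgroup.mem_top _
      have h2 := (Subgroup.mem_normalizer_iff.mp h1 (π x0)).mp (hmemQ x0 hx0)
      rw [hQc] at h2
      obtain ⟨x', hx', hπx'⟩ := Subgroup.mem_map.mp h2
      have h3 : g * x0 * g⁻¹ = x' := by
        apply key _ _ _ hx'
        · rw [map_mul, map_mul, map_inv, hπx']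
        · rw [conj_pow, hpowP x0 hx0, mul_one, mul_inv_cancel]
      exact Cfsg.Agent.Lib.Helper29.DOTI.mem_Nz_of_conj_mem_P P0 hP hx0 hx01 (h3 ▸ hx')
    apply Subgroup.normalizer_eq_top_iff.mp
    rw [eq_top_iff]
    intro g _
    exact hall g

end Cfsg.Agent.Lib.Helper12.BSQUOT
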