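import Mathlib
import Cfsg.Prelude.Def_Characters
import Cfsg.Agent.Lib.Helper24.BSWDefs
import Cfsg.Agent.Lib.Helper12.BSWBase

/-! S3282 leaf **B5** (helper12). -/

set_option autoImplicit false
open Cfsg Cfsg.Agent.Lib.Helper24.BSW

namespace Cfsg.Agent.Lib.Helper12.BSWB5

open Cfsg.Agent.Lib.Helper12.BSWBase

variable {G : Type*} [Group G] [Finite G]

/-- **B5** the normalizer of every nontrivial subgroup of `K` is `C(t)`; centralizers of
nonidentity elements of `K` lie in `C(t)`. (B3 + B4) -/
theorem normalizer_eq_cent {t s : G} {K : Subgroup G} (h : Hyp t s K) :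
    (∀ X : Subgroup G, X ≤ K → X ≠ ⊥ →
      Subgroup.normalizer (X : Set G) = Subgroup.centralizer ({t} : Set G)) ∧
    ∀ y ∈ K, y ≠ 1 → Subgroup.centralizer ({y} : Set G) ≤ Subgroup.centralizer ({t} : Set G) := by
  constructor
  · intro X hXK hX
    apply le_antisymm
    · intro g hg
      obtain ⟨y, hy1⟩ := (Subgroup.ne_bot_iff_exists_ne_one).mp hX
      have hy1' : (y : G) ≠ 1 := fun h0 => hy1 (Subtype.ext h0)
      have h1 : g * (y : G) * g⁻¹ ∈ X := (Subgroup.mem_normalizer_iff.mp hg (y : G)).mp y.2
      exact conj_mem_cent' h g y (hXK y.2) hy1' (hXK h1)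
    · intro g hg
      --  inverts or centralizes every element of 
      have key : ∀ x ∈ X, g * x * g⁻¹ ∈ X := by
        intro x hx
        rcases mem_cent_cases' h g hg with hgK | ⟨-, -, hinv⟩
        · have : g * x * g⁻¹ = x := by
            rw [K_comm h hgK (hXK hx)]
            group
          rw [this]
          exact hx
        · rw [hinv x (hXK hx)]
          exact X.inv_mem hx
      have hginv : g⁻¹ ∈ Subgroup.centralizer ({t} : Set G) := Subgroup.inv_mem _ hg
      have key' : ∀ x ∈ X, g⁻¹ * x * g⁻¹⁻¹ ∈ X := by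
        intro x hx
        rcases mem_cent_cases' h g⁻¹ hginv with hgK | ⟨-, -, hinv⟩
        · have : g⁻¹ * x * g⁻¹⁻¹ = x := by
            rw [K_comm h hgK (hXK hx)]
            group
          rw [this]
          exact hx
        · rw [hinv x (hXK hx)]
          exact X.inv_mem hx
      rw [Subgroup.mem_normalizer_iff]
      intro x
      constructor
      · exact key x
      · intro hx
        have := key' _ hx
        have h2 : g⁻¹ * (g * x * g⁻¹) * g⁻¹⁻¹ = x := by group
        rwa [h2] at this
  · intro y hy hy1 g hg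
    have h1 : g * y * g⁻¹ = y := by
      have := Subgroup.mem_centralizer_iff.mp hg y rfl
      rw [← this]
      group
    exact conj_mem_cent' h g y hy hy1 (by rw [h1]; exact hy)

end Cfsg.Agent.Lib.Helper12.BSWB5
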