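import Mathlib
import Cfsg.Prelude.Def_Characters
import Cfsg.Agent.Lib.Helper24.BSWDefs
import Cfsg.Agent.Lib.Helper12.BSWBase

/-! S3282 leaf **B6** (helper12). -/

set_option autoImplicit false
open Cfsg Cfsg.Agent.Lib.Helper24.BSW

namespace Cfsg.Agent.Lib.Helper12.BSWB6

open Cfsg.Agent.Lib.Helper12.BSWBase

variable {G : Type*} [Group G] [Finite G]

/-- **B6** elements of odd order of `C(t)` lie in `K` (B3). -/
theorem odd_mem_K {t s : G} {K : Subgroup G} (h : Hyp t s K) :
    ∀ g ∈ Subgroup.centralizer ({t} : Set G), Odd (orderOf g) → g ∈ K := by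
  intro g hg hodd
  rcases mem_cent_cases' h g hg with hgK | ⟨-, h2, -⟩
  · exact hgK
  · rw [h2] at hodd
    exact absurd hodd (by decide)

end Cfsg.Agent.Lib.Helper12.BSWB6
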