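import Mathlib
import Cfsg.Prelude.Def_Characters
import Cfsg.Agent.Lib.Helper24.BSWDefs
import Cfsg.Agent.Lib.Helper12.BSWBase

/-! S3282 leaf **B7** (helper12). -/

set_option autoImplicit false
open Cfsg Cfsg.Agent.Lib.Helper24.BSW

namespace Cfsg.Agent.Lib.Helper12.BSWB7

open Cfsg.Agent.Lib.Helper12.BSWBase

variable {G : Type*} [Group G] [Finite G]

/-- **B7** every element of even order lies in `KK`. -/
theorem even_mem_KK {t s : G} {K : Subgroup G} (h : Hyp t s K) :
    ∀ g : G, Even (orderOf g) → g ∈ KK K := by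
  intro g heven
  have hg1 : g ≠ 1 := by
    rintro rfl
    rw [orderOf_one] at heven
    exact absurd heven (by decide)
  refine ⟨hg1, ?_⟩
  obtain ⟨m, hm⟩ := heven
  have hm' : orderOf g = 2 * m := by rw [hm]; ring
  have hm0 : m ≠ 0 := by
    rintro rfl
    have := orderOf_pos g
    omega
  --  is an involution
  have hu : orderOf (g ^ m) = 2 := by
    rw [orderOf_pow_of_dvd hm0 ⟨2, by rw [hm']; ring⟩, hm']
    exact Nat.mul_div_cancel _ (Nat.pos_of_ne_zero hm0)
  obtain ⟨c, hc⟩ := isConj_iff.mp (h.hconj (g ^ m) t hu h.ht)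
  -- 
  have hcent : c * g * c⁻¹ ∈ Subgroup.centralizer ({t} : Set G) := by
    rw [Subgroup.mem_centralizer_iff]
    intro w hw
    rw [Set.mem_singleton_iff] at hw
    subst hw
    rw [← hc]
    have hcomm : g ^ m * g = g * g ^ m := ((Commute.refl g).pow_left m).eq
    calc c * g ^ m * c⁻¹ * (c * g * c⁻¹) = c * (g ^ m * g) * c⁻¹ := by group
      _ = c * (g * g ^ m) * c⁻¹ := by rw [hcomm]
      _ = c * g * c⁻¹ * (c * g ^ m * c⁻¹) := by group
  rcases mem_cent_cases' h _ hcent with hK | ⟨-, h2, -⟩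
  · exact ⟨c, hK⟩
  · obtain ⟨d, hd⟩ := isConj_iff.mp (h.hconj _ t h2 h.ht)
    refine ⟨d * c, ?_⟩
    have : d * c * g * (d * c)⁻¹ = d * (c * g * c⁻¹) * d⁻¹ := by group
    rw [this, hd]
    exact h.htK

end Cfsg.Agent.Lib.Helper12.BSWB7
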