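import Mathlib
import Cfsg.Prelude.Def_Characters
import Cfsg.Agent.Lib.Helper24.BSWDefs
import Cfsg.Agent.Lib.Helper12.BSWBase
import Cfsg.Agent.Lib.Helper12.BSWB5
import Cfsg.Agent.Lib.Helper12.BSWB6
import Cfsg.Agent.Lib.Helper12.BSWB7

/-! S3282 leaf **B8** (helper12). -/

set_option autoImplicit false
open Cfsg Cfsg.Agent.Lib.Helper24.BSW

namespace Cfsg.Agent.Lib.Helper12.BSWB8

open Cfsg.Agent.Lib.Helper12.BSWBase

variable {G : Type*} [Group G] [Finite G]

/-- **B8** for `y ∈ RR K`: `C(y)` has odd order and `C(y) \ 1 ⊆ RR K`. -/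
theorem RR_centralizer {t s : G} {K : Subgroup G} (h : Hyp t s K) :
    ∀ y ∈ RR K, Odd (Nat.card (Subgroup.centralizer ({y} : Set G))) ∧
      ∀ z ∈ Subgroup.centralizer ({y} : Set G), z ≠ 1 → z ∈ RR K := by
  intro y hy
  -- `y` has odd order
  have hyodd : Odd (orderOf y) := by
    rw [← Nat.not_even_iff_odd]
    intro hev
    obtain ⟨-, x, hx⟩ := Cfsg.Agent.Lib.Helper12.BSWB7.even_mem_KK h y hev
    exact hy.2 x hx
  have hpart2 : ∀ z ∈ Subgroup.centralizer ({y} : Set G), z ≠ 1 → z ∈ RR K := by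
    intro z hz hz1
    refine ⟨hz1, ?_⟩
    intro x hxz
    have hz1' : x * z * x⁻¹ ≠ 1 := by
      intro h0
      apply hz1
      have : z = x⁻¹ * (x * z * x⁻¹) * x := by group
      rw [this, h0]
      group
    have hle := (Cfsg.Agent.Lib.Helper12.BSWB5.normalizer_eq_cent h).2 _ hxz hz1'
    have hycent : x * y * x⁻¹ ∈ Subgroup.centralizer ({x * z * x⁻¹} : Set G) := by
      rw [Subgroup.mem_centralizer_iff]
      intro w hw
      rw [Set.mem_singleton_iff] at hw
      subst hw
      have hzy : z * y = y * z := by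
        have := Subgroup.mem_centralizer_iff.mp hz y rfl
        exact this.symm
      calc x * z * x⁻¹ * (x * y * x⁻¹) = x * (z * y) * x⁻¹ := by group
        _ = x * (y * z) * x⁻¹ := by rw [hzy]
        _ = x * y * x⁻¹ * (x * z * x⁻¹) := by group
    have hodd' : Odd (orderOf (x * y * x⁻¹)) := by
      have : orderOf (x * y * x⁻¹) = orderOf y := by
        have := orderOf_injective (MulAut.conj x).toMonoidHom (MulAut.conj x).injective y
        simpa [MulAut.conj_apply] using this
      rw [this]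
      exact hyodd
    have := Cfsg.Agent.Lib.Helper12.BSWB6.odd_mem_K h _ (hle hycent) hodd'
    exact hy.2 x this
  refine ⟨?_, hpart2⟩
  rw [← Nat.not_even_iff_odd]
  intro hev
  have : Fact (Nat.Prime 2) := ⟨Nat.prime_two⟩
  obtain ⟨z, hz⟩ := exists_prime_orderOf_dvd_card' 2 (even_iff_two_dvd.mp hev)
  have hz2 : orderOf (z : G) = 2 := by rw [Subgroup.orderOf_coe]; exact hz
  have hz1 : (z : G) ≠ 1 := by
    intro h0
    rw [h0, orderOf_one] at hz2
    omega
  have hRR := hpart2 z z.2 hz1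
  have hKK := Cfsg.Agent.Lib.Helper12.BSWB7.even_mem_KK h (z : G) (by rw [hz2]; decide)
  obtain ⟨-, x, hx⟩ := hKK
  exact hRR.2 x hx

end Cfsg.Agent.Lib.Helper12.BSWB8
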