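/-
helper12: leaf BT-CZ of helper19's Brauer-Tuan market (`notes/S0997_leaves.lean`): `Cz_eq`.
-/
import Mathlib
import Cfsg.Prelude.Def_BlockRank
import Cfsg.Agent.Lib.Helper6.BRHDefs
import Cfsg.Agent.Lib.Helper24.BRCDefs
import Cfsg.Agent.Lib.Helper7.BRWTYPEB
import Cfsg.Agent.Lib.Helper7.BRWCZ
import Cfsg.Agent.Lib.Helper29.DOTI

set_option autoImplicit false
set_option linter.unusedSectionVars false

namespace Cfsg.Agent.Lib.Helper12.BTCZ

open Cfsg Cfsg.Agent.Lib.Helper8.DOM Cfsg.Agent.Lib.Helper27.DO Cfsg.Agent.CharLib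
open Cfsg.Agent.Lib.Helper6.BRH Cfsg.Agent.Lib.Helper24.BRC
open scoped ComplexConjugate

universe u

variable {G : Type u} [Group G] [Finite G] {p : ℕ} [Fact p.Prime]

variable {X Y : Set (IrrCharacter G)} {v : IrrCharacter G → ℤ} {ε : ℤ}

/-- BT-CZ.  `C_G(P) = P` from a character `η ∈ X` with sign `-1` and degree `p - 1`. -/
theorem Cz_eq (hcore : pPrimeCore p G = ⊥) (P : Subgroup G) (hP : Nat.card P = p) (hSyl : ¬ p ∣ P.index) (b0 : B0 p P X Y v ε)
    (η : IrrCharacter G) (hη : η ∈ X) (hv : v η = -1) (hdeg : charDegree (η : G → ℂ) = p - 1) : Cz P = P := by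
  have hpp : p.Prime := Fact.out
  have hvc : (v η : ℂ) = -1 := by rw [hv]; norm_num
  have hval : ∀ x ∈ P, x ≠ 1 → ∀ y ∈ Cz P, ¬ p ∣ orderOf y → (η : G → ℂ) (x * y) = -1 := by
    intro x hx hx1 y hy hyreg
    have hox : orderOf x = p := Cfsg.Agent.Lib.Helper29.DOTI.orderOf_eq_of_mem P hP hx hx1
    have hcomm : Commute x y := by
      have := (Subgroup.mem_centralizer_iff.mp hy) x hx
      exact this
    have hcop : (orderOf x).Coprime (orderOf y) := by
      rw [hox]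
      exact (Nat.Prime.coprime_iff_not_dvd hpp).mpr hyreg
    have hord : orderOf (x * y) = orderOf x * orderOf y :=
      hcomm.orderOf_mul_eq_mul_orderOf_of_coprime hcop
    have hdvd : p ∣ orderOf (x * y) := by
      rw [hord, hox]
      exact dvd_mul_right p _
    rw [b0.valX η hη (x * y) hdvd, hvc]
  have hker := Cfsg.Agent.Lib.Helper7.BRWTYPEB.apply_eq_degree_of_typeB P hP hSyl η hdeg hval
  apply Cfsg.Agent.Lib.Helper7.BRWCZ.Cz_eq_of_typeB hcore P hP hSyl η hker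
  have hnt : Nontrivial P := by
    rw [← Finite.one_lt_card_iff_nontrivial, hP]
    exact hpp.one_lt
  obtain ⟨⟨x, hx⟩, hx1'⟩ := exists_ne (1 : P)
  have hx1 : x ≠ 1 := fun h => hx1' (Subtype.ext h)
  refine ⟨x, hx, ?_⟩
  have hox : orderOf x = p := Cfsg.Agent.Lib.Helper29.DOTI.orderOf_eq_of_mem P hP hx hx1
  have hxv : (η : G → ℂ) x = -1 := by
    rw [b0.valX η hη x (by rw [hox]), hvc]
  rw [hxv, apply_one_eq, hdeg]
  intro h
  have h2 : (((p - 1 : ℕ) : ℂ)) + 1 = 0 := by rw [← h]; ring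
  have h3 : ((p - 1 + 1 : ℕ) : ℂ) = 0 := by push_cast; exact h2
  have h4 : p - 1 + 1 = 0 := by exact_mod_cast h3
  omega

end Cfsg.Agent.Lib.Helper12.BTCZ
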