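/-
helper12: leaf BT-FAITH of helper19's Brauer-Tuan market (`notes/S0997_leaves.lean`): `faithful_of_simple`.
-/
import Mathlib
import Cfsg.Prelude.Def_BlockRank
import Cfsg.Agent.Lib.Lead.BlockBasic
import Cfsg.Agent.Lib.Helper24.IrrFacts
import Cfsg.Agent.Lib.Helper25.Gagola

set_option autoImplicit false
set_option linter.unusedSectionVars false

namespace Cfsg.Agent.Lib.Helper12.BTFAITH

open Cfsg Cfsg.Agent.CharLib
open scoped ComplexConjugate

universe u

variable {G : Type u} [Group G] [Finite G]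

/-- BT-FAITH.  A non-trivial irreducible character of a simple group is faithful. -/
theorem faithful_of_simple [IsSimpleGroup G] (χ : IrrCharacter G) (hχ : χ ≠ trivIrr G) :
    ∀ g : G, (χ : G → ℂ) g = (χ : G → ℂ) 1 → g = 1 := by
  classical
  let _ := Fintype.ofFinite G
  obtain ⟨K, hKn, hK⟩ := Cfsg.Agent.Lib.Helper25.exists_irrKer χ
  intro g hg
  rcases hKn.eq_bot_or_eq_top with h | h
  · have hgK : g ∈ K := (hK g).mpr hg
    rw [h] at hgK
    exact Subgroup.mem_bot.mp hgK
  · exfalso
    have h1 : ∀ g : G, (χ : G → ℂ) g = (χ : G → ℂ) 1 := by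
      intro g
      rw [← hK g, h]
      exact Subgroup.mem_top g
    have h2 := classInner_irr' χ (trivIrr G)
    rw [if_neg hχ] at h2
    unfold classInner at h2
    have h3 : ∀ g : G, (χ : G → ℂ) g * conj (((trivIrr G : IrrCharacter G) : G → ℂ) g) =
        (χ : G → ℂ) 1 := by
      intro g
      have : ((trivIrr G : IrrCharacter G) : G → ℂ) g = 1 := rfl
      rw [this, map_one, mul_one, h1]
    rw [Finset.sum_congr rfl (fun g _ => h3 g), Finset.sum_const, Finset.card_univ, nsmul_eq_mul,
      ← Nat.card_eq_fintype_card, ← mul_assoc, inv_mul_cancel₀, one_mul] at h2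
    · exact Cfsg.Agent.Lib.Helper24.irr_apply_one_ne_zero χ h2
    · exact Nat.cast_ne_zero.mpr Nat.card_pos.ne'

end Cfsg.Agent.Lib.Helper12.BTFAITH
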