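/-
helper12: leaf BT-GEN of helper19's Brauer-Tuan market (`notes/S0997_leaves.lean`): `exists_gen`.
-/
import Mathlib
import Cfsg.Prelude.Def_BlockRank
import Cfsg.Agent.Lib.Helper24.BRCDefs
import Cfsg.Agent.Lib.Helper6.BRCOUT

set_option autoImplicit false
set_option linter.unusedSectionVars false

namespace Cfsg.Agent.Lib.Helper12.BTGEN

open Cfsg Cfsg.Agent.Lib.Helper8.DOM Cfsg.Agent.Lib.Helper27.DO Cfsg.Agent.CharLib
open Cfsg.Agent.Lib.Helper6.BRH Cfsg.Agent.Lib.Helper24.BRC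
open scoped ComplexConjugate

universe u

variable {G : Type u} [Group G] [Finite G] {p : ℕ} [Fact p.Prime]

/-- BT-GEN.  `P = ⟨x⟩`, `C_G(x) = C_G(P) = P`. -/
theorem exists_gen (P : Subgroup G) (hP : Nat.card P = p) (hC : Cz P = P) :
    ∃ x : G, x ∈ P ∧ x ≠ 1 ∧ orderOf x = p ∧ Subgroup.centralizer ({x} : Set G) = Subgroup.zpowers x := by
  have hpp : p.Prime := Fact.out
  have hnt : Nontrivial P := by
    rw [← Finite.one_lt_card_iff_nontrivial, hP]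
    exact hpp.one_lt
  obtain ⟨⟨x, hx⟩, hx1'⟩ := exists_ne (1 : P)
  have hx1 : x ≠ 1 := fun h => hx1' (Subtype.ext h)
  refine ⟨x, hx, hx1, Cfsg.Agent.Lib.Helper29.DOTI.orderOf_eq_of_mem P hP hx hx1, ?_⟩
  rw [Cfsg.Agent.Lib.Helper6.BRCOUT.centralizer_singleton_eq P hP hx hx1, hC]
  apply le_antisymm
  · intro w hw
    obtain ⟨j, hj⟩ := Cfsg.Agent.Lib.Helper29.DOTI.exists_pow_eq_of_mem P hP hx hx1 hw
    exact Subgroup.mem_zpowers_iff.mpr ⟨j, hj⟩
  · rw [Subgroup.zpowers_le]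
    exact hx

end Cfsg.Agent.Lib.Helper12.BTGEN
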