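/-
helper12: leaf BT-SETUP of helper19's Brauer-Tuan market (`notes/S0997_leaves.lean`): `setup`.
-/
import Mathlib
import Cfsg.Prelude.Def_BlockRank
import Cfsg.Prelude.Def_Solvable
import Cfsg.Agent.Lib.Helper24.BRCDefs
import Cfsg.Agent.Lib.Helper5.BRWNPOS
import Cfsg.Agent.Lib.Helper7.SimpleTools

set_option autoImplicit false
set_option linter.unusedSectionVars false

namespace Cfsg.Agent.Lib.Helper12.BTSETUP

open Cfsg Cfsg.Agent.Lib.Helper8.DOM Cfsg.Agent.Lib.Helper27.DO Cfsg.Agent.CharLib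
open Cfsg.Agent.Lib.Helper6.BRH Cfsg.Agent.Lib.Helper24.BRC
open scoped ComplexConjugate

universe u

variable {G : Type u} [Group G] [Finite G] {p : ℕ} [Fact p.Prime]

/-- a simple non-cyclic group is not commutative -/
theorem not_comm_of_not_cyclic [IsSimpleGroup G] (hG : ¬ IsCyclic G) : ¬ IsMulCommutative G := by
  intro hc
  apply hG
  let _ : CommGroup G :=
    { (inferInstance : Group G) with mul_comm := fun a b => hc.is_comm.comm a b }
  exact IsSimpleGroup.isCyclic

/-- a simple non-commutative group is perfect -/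
theorem commutator_eq_top [IsSimpleGroup G] (h : ¬ IsMulCommutative G) : commutator G = ⊤ := by
  rcases (inferInstance : (commutator G).Normal).eq_bot_or_eq_top with hb | ht
  · exfalso
    apply h
    refine ⟨⟨fun a b => ?_⟩⟩
    have h1 := Subgroup.commutator_mem_commutator (Subgroup.mem_top a) (Subgroup.mem_top b)
    rw [commutator_def] at hb
    rw [hb, Subgroup.mem_bot] at h1
    exact commutatorElement_eq_one_iff_mul_comm.mp h1
  · exact ht

/-- a simple non-commutative group has trivial centre -/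
theorem center_eq_bot [IsSimpleGroup G] (h : ¬ IsMulCommutative G) : Subgroup.center G = ⊥ := by
  rcases (inferInstance : (Subgroup.center G).Normal).eq_bot_or_eq_top with hb | ht
  · exact hb
  · exfalso
    apply h
    refine ⟨⟨fun a b => ?_⟩⟩
    have ha : a ∈ Subgroup.center G := by rw [ht]; exact Subgroup.mem_top a
    exact ((Subgroup.mem_center_iff.mp ha) b).symm

/-- `O_{p'}(G) = 1` in a simple group of order divisible by `p` -/
theorem pPrimeCore_eq_bot [IsSimpleGroup G] (hdvd : p ∣ Nat.card G) : pPrimeCore p G = ⊥ := by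
  have hpp : p.Prime := Fact.out
  rw [eq_bot_iff]
  unfold pPrimeCore
  apply sSup_le
  rintro N ⟨hN, hcop⟩
  rcases hN.eq_bot_or_eq_top with hb | ht
  · exact hb.le
  · exfalso
    rw [ht, Subgroup.card_top] at hcop
    have h1 : p ∣ Nat.gcd (Nat.card G) p := Nat.dvd_gcd hdvd dvd_rfl
    rw [Nat.Coprime] at hcop
    rw [hcop] at h1
    exact hpp.one_lt.ne' (Nat.dvd_one.mp h1)

/-- BT-SETUP. -/
theorem setup [IsSimpleGroup G] (hG : ¬ IsCyclic G) (q b g₀ : ℕ) (hq : q.Prime) (hpq : p ≠ q)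
    (hcard : Nat.card G = p * q ^ b * g₀) (hg : g₀ < p - 1) :
    commutator G = ⊤ ∧ pPrimeCore p G = ⊥ ∧ Subgroup.center G = ⊥ ∧
      ∃ P : Subgroup G, Nat.card P = p ∧ ¬ p ∣ P.index ∧
        ∃ n : ℕ, 1 ≤ n ∧ Nat.card (Sylow p G) = 1 + n * p ∧ (Nz P).index = 1 + n * p := by
  have hpp : p.Prime := Fact.out
  have hnc := not_comm_of_not_cyclic hG
  have hperf : commutator G = ⊤ := commutator_eq_top hnc
  have hcard' : Nat.card G = p * (q ^ b * g₀) := by rw [hcard, mul_assoc]
  have hdvd : p ∣ Nat.card G := ⟨_, hcard'⟩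
  have hpos : 0 < Nat.card G := Nat.card_pos
  have hg0 : 0 < g₀ := by
    rcases Nat.eq_zero_or_pos g₀ with h | h
    · rw [h, mul_zero] at hcard; omega
    · exact h
  have hnd : ¬ p ∣ q ^ b * g₀ := by
    intro h
    rcases (Nat.Prime.dvd_mul hpp).mp h with h1 | h1
    · exact hpq ((Nat.prime_dvd_prime_iff_eq hpp hq).mp (hpp.dvd_of_dvd_pow h1))
    · have := Nat.le_of_dvd hg0 h1
      omega
  obtain ⟨S⟩ := (Sylow.nonempty : Nonempty (Sylow p G))
  obtain ⟨hSc, hSi⟩ := Cfsg.Agent.Lib.Helper7.sylow_card_index_of_exact hcard' hnd S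
  have hSyl : ¬ p ∣ (S : Subgroup G).index := by rw [hSi]; exact hnd
  refine ⟨hperf, pPrimeCore_eq_bot hdvd, center_eq_bot hnc, (S : Subgroup G), hSc, hSyl, ?_⟩
  have hmod : Nat.card (Sylow p G) ≡ 1 [MOD p] := card_sylow_modEq_one p G
  have hidx0 : Nat.card (Sylow p G) = (Nz (S : Subgroup G)).index := Sylow.card_eq_index_normalizer S
  have h1 : Nat.card (Sylow p G) % p = 1 := by
    have := hmod
    unfold Nat.ModEq at this
    rw [this]
    exact Nat.mod_eq_of_lt hpp.one_lt
  have h2 : Nat.card (Sylow p G) = 1 + (Nat.card (Sylow p G) / p) * p := by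
    have := Nat.div_add_mod (Nat.card (Sylow p G)) p
    rw [h1] at this
    rw [mul_comm] at this
    omega
  have hidx : (Nz (S : Subgroup G)).index = 1 + (Nat.card (Sylow p G) / p) * p := by
    rw [← hidx0]; exact h2
  exact ⟨Nat.card (Sylow p G) / p,
    Cfsg.Agent.Lib.Helper5.BRWNPOS.one_le_n hperf (S : Subgroup G) hSc hSyl _ hidx, h2, hidx⟩

end Cfsg.Agent.Lib.Helper12.BTSETUP
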