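import Mathlib


import Cfsg.Prelude.Def_Balance
import Cfsg.Agent.Lib.Helper12.Cores
import Cfsg.Agent.Lib.Helper9.FStar3

/-!
Helper lemmas (helper12): transport of `O_{p'}(C(x))` and `Δ` along isomorphisms; the action of
`H ≤ N(L)` on `L / Z(L)`; local `k`-balance gives `Δ_{H/C_H(L)}(B) = 1`.
-/

set_option autoImplicit false
set_option linter.style.haveILetI false
open Subgroup
open scoped commutatorElement
namespace Cfsg.Agent.Lib.Helper12

section transport
variable {G₁ G₂ : Type*} [Group G₁] [Group G₂]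

theorem centralizer_singleton_map_equiv (e : G₁ ≃* G₂) (x : G₁) :
    (centralizer ({x} : Set G₁)).map e.toMonoidHom = centralizer ({e x} : Set G₂) := by
  ext y
  constructor
  · rintro ⟨c, hc, rfl⟩
    rw [SetLike.mem_coe, mem_centralizer_singleton_iff] at hc
    rw [mem_centralizer_singleton_iff]
    show e c * e x = e x * e c
    rw [← map_mul, ← map_mul, hc]
  · intro hy
    rw [mem_centralizer_singleton_iff] at hy
    refine ⟨e.symm y, ?_, by simp⟩
    rw [SetLike.mem_coe, mem_centralizer_singleton_iff]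
    apply e.injective
    simp [hy]

theorem map_pPrimeCore_subtype_map_equiv (p : ℕ) (e : G₁ ≃* G₂) (H : Subgroup G₁) :
    ((Cfsg.pPrimeCore p ↥H).map H.subtype).map e.toMonoidHom =
      (Cfsg.pPrimeCore p ↥(H.map e.toMonoidHom)).map (H.map e.toMonoidHom).subtype := by
  have h := pPrimeCore_map_equiv p (H.equivMapOfInjective e.toMonoidHom e.injective)
  rw [← h, Subgroup.map_map, Subgroup.map_map]
  congr 1

theorem centralizerPPrimeCore_map_equiv (p : ℕ) (e : G₁ ≃* G₂) (x : G₁) :
    (Cfsg.centralizerPPrimeCore p x).map e.toMonoidHom = Cfsg.centralizerPPrimeCore p (e x) := by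
  unfold Cfsg.centralizerPPrimeCore
  rw [map_pPrimeCore_subtype_map_equiv, centralizer_singleton_map_equiv]

theorem map_signalizerDelta_le (p : ℕ) (e : G₁ ≃* G₂) (A : Subgroup G₁) :
    (Cfsg.signalizerDelta p A).map e.toMonoidHom ≤ Cfsg.signalizerDelta p (A.map e.toMonoidHom) := by
  rintro _ ⟨w, hw, rfl⟩
  unfold Cfsg.signalizerDelta at hw ⊢
  rw [SetLike.mem_coe, Subgroup.mem_iInf] at hw
  rw [Subgroup.mem_iInf]
  rintro ⟨b, ⟨a, ha, rfl⟩, hb1⟩
  have ha1 : a ≠ 1 := by
    rintro rfl
    exact hb1 (map_one _)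
  have h1 := hw ⟨a, ha, ha1⟩
  show e w ∈ Cfsg.centralizerPPrimeCore p (e a)
  rw [← centralizerPPrimeCore_map_equiv]
  exact ⟨w, h1, rfl⟩

end transport

section aut

/-- the automorphism of `L ⧸ Z(L)` induced by an automorphism of `L` -/
def autQuotCenter (L : Type*) [Group L] : MulAut L →* MulAut (L ⧸ center L) where
  toFun α := QuotientGroup.congr (center L) (center L) α
    (Subgroup.characteristic_iff_map_eq.mp inferInstance α)
  map_one' := by
    ext q
    induction q using QuotientGroup.induction_on with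
    | H x => rfl
  map_mul' α β := by
    ext q
    induction q using QuotientGroup.induction_on with
    | H x => rfl

theorem autQuotCenter_apply_mk (L : Type*) [Group L] (α : MulAut L) (l : L) :
    autQuotCenter L α (QuotientGroup.mk l) = QuotientGroup.mk (α l) := rfl

end aut

section autmap
variable {X : Type*} [Group X]

/-- `H ≤ N(L)` acts on `L / Z(L)` -/
def autMap (L H : Subgroup X) (hHN : H ≤ normalizer (L : Set X)) :
    ↥H →* MulAut (↥L ⧸ center ↥L) :=
  (autQuotCenter ↥L).comp (L.normalizerMonoidHom.comp (Subgroup.inclusion hHN))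

theorem autMap_apply_mk (L H : Subgroup X) (hHN : H ≤ normalizer (L : Set X)) (h : ↥H) (l : ↥L) :
    autMap L H hHN h (QuotientGroup.mk l) =
      QuotientGroup.mk ⟨h.1 * l.1 * h.1⁻¹, (hHN h.2 l.1).mp l.2⟩ := rfl

theorem autMap_ker (L H : Subgroup X) (hHN : H ≤ normalizer (L : Set X)) (hperf : ⁅L, L⁆ = L) :
    (autMap L H hHN).ker = (centralizer (L : Set X)).subgroupOf H := by
  apply le_antisymm
  · -- three subgroups lemma
    have h1 : ∀ u ∈ (autMap L H hHN).ker, ∀ l ∈ L,
        ((u : X) * l * (u : X)⁻¹)⁻¹ * l ∈ centralizer (L : Set X) := by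
      intro u hu l hl
      have h2 := congrArg (fun α => α (QuotientGroup.mk (⟨l, hl⟩ : ↥L))) (MonoidHom.mem_ker.mp hu)
      simp only [autMap_apply_mk, MulAut.one_apply] at h2
      rw [QuotientGroup.eq, Subgroup.mem_center_iff] at h2
      rw [Subgroup.mem_centralizer_iff]
      intro m hm
      have h3 := congrArg Subtype.val (h2 ⟨m, hm⟩)
      simpa using h3
    have h2 : ⁅L, (autMap L H hHN).ker.map H.subtype⁆ ≤ centralizer (L : Set X) := by
      rw [Subgroup.commutator_le]
      rintro l hl _ ⟨u, hu, rfl⟩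
      have h3 := h1 u hu l⁻¹ (inv_mem hl)
      have h4 : ((u : X) * l⁻¹ * (u : X)⁻¹)⁻¹ * l⁻¹ ∈ L :=
        mul_mem (inv_mem ((hHN u.2 l⁻¹).mp (inv_mem hl))) (inv_mem hl)
      have h5 : (⁅l, H.subtype u⁆ : X) = (((u : X) * l⁻¹ * (u : X)⁻¹)⁻¹ * l⁻¹)⁻¹ := by
        rw [commutatorElement_def]
        simp only [Subgroup.coe_subtype]
        group
      rw [h5]
      exact inv_mem h3
    have h3 : ⁅L, (autMap L H hHN).ker.map H.subtype⁆ = ⊥ := by
      apply Cfsg.Agent.Lib.Helper9.commutator_eq_bot_of_perfect_of_commutator_commutator hperf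
      rw [Subgroup.commutator_eq_bot_iff_le_centralizer]
      exact h2
    rw [Subgroup.commutator_comm, Subgroup.commutator_eq_bot_iff_le_centralizer] at h3
    intro u hu
    exact Subgroup.mem_subgroupOf.mpr (h3 ⟨u, hu, rfl⟩)
  · intro h hh
    rw [MonoidHom.mem_ker]
    ext q
    obtain ⟨l, rfl⟩ := QuotientGroup.mk_surjective q
    rw [autMap_apply_mk, MulAut.one_apply]
    congr 1
    apply Subtype.ext
    have h1 := Subgroup.mem_centralizer_iff.mp (Subgroup.mem_subgroupOf.mp hh) l.1 l.2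
    show (h : X) * l * (h : X)⁻¹ = l
    rw [← h1]; group

theorem conj_range_le_autMap_range (L H : Subgroup X) (hLH : L ≤ H)
    (hHN : H ≤ normalizer (L : Set X)) :
    (MulAut.conj : (↥L ⧸ center ↥L) →* MulAut (↥L ⧸ center ↥L)).range ≤ (autMap L H hHN).range := by
  rintro _ ⟨q, rfl⟩
  obtain ⟨l, rfl⟩ := QuotientGroup.mk_surjective q
  refine ⟨⟨l.1, hLH l.2⟩, ?_⟩
  ext r
  obtain ⟨m, rfl⟩ := QuotientGroup.mk_surjective r
  rw [autMap_apply_mk, MulAut.conj_apply]
  rfl

/-- local `k`-balance of `L / Z(L)` gives `Δ_{H/C_H(L)}(B) = 1` -/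
theorem signalizerDelta_quotient_centralizer_eq_bot {p k : ℕ} (L H : Subgroup X) (hLH : L ≤ H)
    (hHN : H ≤ normalizer (L : Set X)) (hperf : ⁅L, L⁆ = L)
    [hn : ((centralizer (L : Set X)).subgroupOf H).Normal]
    (hloc : Cfsg.IsLocallyKBalanced p k (↥L ⧸ center ↥L))
    (B : Subgroup (↥H ⧸ (centralizer (L : Set X)).subgroupOf H))
    (hB : Cfsg.IsElementaryAbelian p B) (hBk : Nat.card B = p ^ k) :
    Cfsg.signalizerDelta p B = ⊥ := by
  have hker := autMap_ker L H hHN hperf
  let ψ : (↥H ⧸ (centralizer (L : Set X)).subgroupOf H) ≃* (autMap L H hHN).range :=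
    (QuotientGroup.quotientMulEquivOfEq hker.symm).trans
      (QuotientGroup.quotientKerEquivRange (autMap L H hHN))
  have h1 := hloc (autMap L H hHN).range (conj_range_le_autMap_range L H hLH hHN)
    (B.map ψ.toMonoidHom) ?_ ?_
  · have h2 := map_signalizerDelta_le p ψ B
    rw [h1, le_bot_iff] at h2
    exact (Subgroup.map_eq_bot_iff_of_injective _ ψ.injective).mp h2
  · obtain ⟨hc, hp⟩ := hB
    refine ⟨?_, ?_⟩
    · haveI := hc
      exact Subgroup.map_isMulCommutative B ψ.toMonoidHom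
    · rintro _ ⟨b, hb, rfl⟩
      show ψ b ^ p = 1
      rw [← map_pow, hp b hb, map_one]
  · rw [Subgroup.card_map_of_injective ψ.injective]
    exact hBk

end autmap

end Cfsg.Agent.Lib.Helper12
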