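import Mathlib
import Cfsg.Prelude.Def_Local
import Cfsg.Prelude.Def_EvenTechniques
import Cfsg.Agent.Lib.Helper12.NormalFusion
import Cfsg.Agent.Lib.Helper9.NormalizerChain
import Cfsg.Agent.Lib.Helper9.PComponent2
import Cfsg.Agent.Lib.Helper9.PLocal
import Cfsg.Agent.Lib.Helper9.Transport
import Cfsg.Agent.Lib.Helper4.Basic
import Cfsg.Agent.Lib.Helper16.Subnormal

/-!
Helper lemmas (helper12): a `p'`-subgroup `D` normalized by the normalizer of a `p`-subgroup `R`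
which it normalizes (for instance `O_{p'}(N(R))`) centralizes `O_p(Y)` and normalizes every
component of `Y`, when `O_{p'}(Y) = 1`.  Consequence: `O_{p'}(N_X(R)) ≤ L̂_{p'}(X)`.
-/

set_option autoImplicit false
set_option linter.style.haveILetI false
open Subgroup
open scoped commutatorElement
namespace Cfsg.Agent.Lib.Helper12

section cj
variable {Y : Type*} [Group Y]

theorem mem_cj {g x : Y} {K : Subgroup Y} : x ∈ cj g K ↔ g⁻¹ * x * g ∈ K := by
  rw [cj_def, mem_map_conj_iff]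

theorem conj_mem_cj {g x : Y} {K : Subgroup Y} (hx : x ∈ K) : g * x * g⁻¹ ∈ cj g K := by
  rw [mem_cj]
  have : g⁻¹ * (g * x * g⁻¹) * g = x := by group
  rw [this]; exact hx

theorem cj_one (K : Subgroup Y) : cj 1 K = K := cj_self_of_mem (one_mem K)

theorem cj_injective (g : Y) {K L : Subgroup Y} (h : cj g K = cj g L) : K = L := by
  rw [← cj_inv_cj g K, h, cj_inv_cj]

theorem cj_iSup {ι : Sort*} (g : Y) (K : ι → Subgroup Y) : cj g (⨆ i, K i) = ⨆ i, cj g (K i) :=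
  Subgroup.map_iSup _ _

theorem isComponent_cj (g : Y) {K : Subgroup Y} (hK : Cfsg.IsComponent K) :
    Cfsg.IsComponent (cj g K) :=
  Cfsg.Agent.Lib.Helper9.isComponent_map_equiv (MulAut.conj g) hK

end cj

section basic
variable {Y : Type*} [Group Y] [Finite Y] {p : ℕ} [Fact p.Prime]

omit [Finite Y] [Fact p.Prime] in
/-- an element of a `p`-subgroup lying in a subgroup of order prime to `p` is trivial -/
theorem eq_one_of_mem_pgroup_of_mem_coprime {P D : Subgroup Y} (hP : IsPGroup p P)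
    (hD : (Nat.card D).Coprime p) {x : Y} (hxP : x ∈ P) (hxD : x ∈ D) : x = 1 := by
  obtain ⟨k, hk⟩ := hP ⟨x, hxP⟩
  have hk' : x ^ (p ^ k) = 1 := by simpa using congrArg Subtype.val hk
  have h1 : orderOf x ∣ p ^ k := orderOf_dvd_of_pow_eq_one hk'
  have h2 : orderOf x ∣ Nat.card D := Subgroup.orderOf_dvd_natCard D hxD
  have h3 : (Nat.card D).Coprime (p ^ k) := Nat.Coprime.pow_right k hD
  exact orderOf_eq_one_iff.mp (Nat.eq_one_of_dvd_coprimes h3 h2 h1)

omit [Finite Y] [Fact p.Prime] in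
/-- `R` and `D` commute elementwise -/
theorem commute_of_normalizer_le {R D : Subgroup Y} (hR : IsPGroup p R)
    (hD : (Nat.card D).Coprime p) (hDR : D ≤ normalizer (R : Set Y))
    (hND : normalizer (R : Set Y) ≤ normalizer (D : Set Y)) {r d : Y} (hr : r ∈ R) (hd : d ∈ D) :
    r * d = d * r := by
  have h1 : r * d * r⁻¹ * d⁻¹ ∈ R := by
    have : d * r⁻¹ * d⁻¹ ∈ R := (Subgroup.mem_normalizer_iff.mp (hDR hd) r⁻¹).mp (inv_mem hr)
    have h := mul_mem hr this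
    have e : r * (d * r⁻¹ * d⁻¹) = r * d * r⁻¹ * d⁻¹ := by group
    rwa [e] at h
  have h2 : r * d * r⁻¹ * d⁻¹ ∈ D := by
    have hrN : r ∈ normalizer (D : Set Y) := hND (Subgroup.le_normalizer hr)
    have : r * d * r⁻¹ ∈ D := (Subgroup.mem_normalizer_iff.mp hrN d).mp hd
    exact mul_mem this (inv_mem hd)
  have h3 := eq_one_of_mem_pgroup_of_mem_coprime hR hD h1 h2
  calc r * d = (r * d * r⁻¹ * d⁻¹) * (d * r) := by group
    _ = d * r := by rw [h3, one_mul]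

/-- `D` centralizes `O_p(Y)` -/
theorem commutator_pCore_eq_bot_of_normalizer_le {R D : Subgroup Y} (hR : IsPGroup p R)
    (hD : (Nat.card D).Coprime p) (hDR : D ≤ normalizer (R : Set Y))
    (hND : normalizer (R : Set Y) ≤ normalizer (D : Set Y)) :
    ⁅Cfsg.pCore p Y, D⁆ = ⊥ := by
  haveI hPn : (Cfsg.pCore p Y).Normal := pCore_normal'' p
  have hQ : IsPGroup p ↥(R ⊔ Cfsg.pCore p Y) :=
    IsPGroup.to_sup_of_normal_right hR (pCore_isPGroup' p)
  have hDQ : D ≤ normalizer ((R ⊔ Cfsg.pCore p Y : Subgroup Y) : Set Y) := by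
    intro d hd
    have h1 : d ∈ normalizer ((Cfsg.pCore p Y : Subgroup Y) : Set Y) := by
      rw [Subgroup.normalizer_eq_top]; exact Subgroup.mem_top d
    exact Cfsg.Agent.Lib.Helper9.mem_normalizer_sup (hDR hd) h1
  have hcent : ⁅(R ⊔ Cfsg.pCore p Y) ⊓ normalizer (R : Set Y), D⁆ = ⊥ := by
    rw [Subgroup.commutator_eq_bot_iff_le_centralizer]
    rintro x ⟨hxQ, hxN⟩
    rw [Subgroup.mem_centralizer_iff]
    intro d hd
    have hxQ' : x ∈ R ⊔ Cfsg.pCore p Y := hxQ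
    have h1 : x * d * x⁻¹ * d⁻¹ ∈ R ⊔ Cfsg.pCore p Y := by
      have : d * x⁻¹ * d⁻¹ ∈ R ⊔ Cfsg.pCore p Y :=
        (Subgroup.mem_normalizer_iff.mp (hDQ hd) x⁻¹).mp (inv_mem hxQ')
      have h := mul_mem hxQ' this
      have e : x * (d * x⁻¹ * d⁻¹) = x * d * x⁻¹ * d⁻¹ := by group
      rwa [e] at h
    have h2 : x * d * x⁻¹ * d⁻¹ ∈ D := by
      have : x * d * x⁻¹ ∈ D := (Subgroup.mem_normalizer_iff.mp (hND hxN) d).mp hd
      exact mul_mem this (inv_mem hd)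
    have h3 := eq_one_of_mem_pgroup_of_mem_coprime hQ hD h1 h2
    calc d * x = (x * d * x⁻¹ * d⁻¹)⁻¹ * (x * d) := by group
      _ = x * d := by rw [h3, inv_one, one_mul]
  have h := Cfsg.Agent.Lib.Helper9.commutator_eq_bot_of_normalizer_chain hQ
    (le_sup_left : R ≤ R ⊔ Cfsg.pCore p Y) hDR hDQ hcent
    (Cfsg.Agent.Lib.Helper9.pStable_of_coprime p hD)
  rw [eq_bot_iff, ← h]
  exact Subgroup.commutator_mono le_sup_right le_rfl

omit [Finite Y] [Fact p.Prime] in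
/-- if the `p'`-element `d`, commuting with `R`, moves `K` inside its `R`-orbit, then `d` fixes
`K` -/
theorem cj_eq_self_of_cj_eq_cj' {R : Subgroup Y} (hR : IsPGroup p R) {d : Y}
    (hdp : (orderOf d).Coprime p) (hcomm : ∀ r ∈ R, r * d = d * r) (K : Subgroup Y) {r : Y}
    (hr : r ∈ R) (h : cj d K = cj r K) : cj d K = K := by
  have h1 : cj (r⁻¹ * d) K = K := by
    rw [← cj_mul, h, cj_inv_cj]
  have h2 : r⁻¹ * d ∈ normalizer (K : Set Y) := mem_normalizer_of_cj_eq h1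
  obtain ⟨k, hk⟩ := hR ⟨r, hr⟩
  have hk' : r ^ (p ^ k) = 1 := by simpa using congrArg Subtype.val hk
  have hc : Commute r⁻¹ d := by
    have := hcomm r hr
    show r⁻¹ * d = d * r⁻¹
    calc r⁻¹ * d = r⁻¹ * (d * r) * r⁻¹ := by group
      _ = r⁻¹ * (r * d) * r⁻¹ := by rw [this]
      _ = d * r⁻¹ := by group
  have h3 : (r⁻¹ * d) ^ (p ^ k) = d ^ (p ^ k) := by
    rw [hc.mul_pow, inv_pow, hk', inv_one, one_mul]
  have h4 : d ^ (p ^ k) ∈ normalizer (K : Set Y) := by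
    rw [← h3]; exact pow_mem h2 _
  have hcop : (p ^ k).Coprime (orderOf d) := Nat.Coprime.pow_left k hdp.symm
  obtain ⟨m, hm⟩ := exists_pow_eq_self_of_coprime hcop
  have h5 : d ∈ normalizer (K : Set Y) := by
    rw [← hm]; exact pow_mem h4 m
  exact cj_eq_of_mem_normalizer h5

omit [Finite Y] [Fact p.Prime] in
/-- if `d` moves `K` inside its `R`-orbit, then `d` fixes `K` -/
theorem cj_eq_self_of_cj_eq_cj {R D : Subgroup Y} (hR : IsPGroup p R)
    (hD : (Nat.card D).Coprime p)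
    (hcomm : ∀ r ∈ R, ∀ d ∈ D, r * d = d * r) (K : Subgroup Y) {r d : Y} (hr : r ∈ R)
    (hd : d ∈ D) (h : cj d K = cj r K) : cj d K = K :=
  cj_eq_self_of_cj_eq_cj' hR
    (Nat.Coprime.coprime_dvd_left (Subgroup.orderOf_dvd_natCard D hd) hD)
    (fun r hr => hcomm r hr d hd) K hr h

end basic

section orbit
variable {Y : Type*} [Group Y]

/-- the product of the `R`-conjugates of `K` -/
def orb (R K : Subgroup Y) : Subgroup Y := ⨆ r : R, cj (r : Y) K

theorem cj_le_orb {R K : Subgroup Y} {r : Y} (hr : r ∈ R) : cj r K ≤ orb R K :=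
  le_iSup (fun r : R => cj (r : Y) K) ⟨r, hr⟩

theorem le_orb (R K : Subgroup Y) : K ≤ orb R K := by
  have h := cj_le_orb (K := K) (one_mem R)
  rwa [cj_one] at h

theorem cj_orb_le {R K : Subgroup Y} {r : Y} (hr : r ∈ R) : cj r (orb R K) ≤ orb R K := by
  unfold orb
  rw [cj_iSup]
  apply iSup_le
  intro s
  rw [cj_mul]
  exact cj_le_orb (mul_mem hr s.2)

theorem cj_orb_of_mem {R K : Subgroup Y} {r : Y} (hr : r ∈ R) : cj r (orb R K) = orb R K := by
  apply le_antisymm (cj_orb_le hr)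
  have h := cj_mono r (cj_orb_le (K := K) (inv_mem hr))
  rwa [cj_cj_inv] at h

theorem le_normalizer_orb (R K : Subgroup Y) : R ≤ normalizer ((orb R K : Subgroup Y) : Set Y) :=
  fun _ hr => mem_normalizer_of_cj_eq (cj_orb_of_mem hr)

theorem cj_orb_comm {R K : Subgroup Y} {d : Y} (hd : ∀ r ∈ R, r * d = d * r) :
    cj d (orb R K) = orb R (cj d K) := by
  unfold orb
  rw [cj_iSup]
  congr 1
  funext r
  rw [cj_mul, cj_mul, hd r r.2]

theorem commutator_orb_eq_bot {R K L : Subgroup Y} (hK : Cfsg.IsComponent K)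
    (hL : Cfsg.IsComponent L) (h : ∀ r ∈ R, cj r K ≠ L) : ⁅orb R K, L⁆ = ⊥ := by
  rw [Subgroup.commutator_eq_bot_iff_le_centralizer]
  unfold orb
  apply iSup_le
  intro r
  rw [← Subgroup.commutator_eq_bot_iff_le_centralizer]
  exact Cfsg.Agent.Lib.Helper9.components_commute _ _ (isComponent_cj _ hK) hL (h r r.2)

theorem commutator_orb_orb_eq_bot {R K L : Subgroup Y} (hK : Cfsg.IsComponent K)
    (hL : Cfsg.IsComponent L) (h : ∀ r ∈ R, ∀ s ∈ R, cj r K ≠ cj s L) :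
    ⁅orb R K, orb R L⁆ = ⊥ := by
  rw [Subgroup.commutator_comm, Subgroup.commutator_eq_bot_iff_le_centralizer]
  unfold orb
  apply iSup_le
  intro s
  rw [← Subgroup.commutator_eq_bot_iff_le_centralizer, Subgroup.commutator_comm]
  exact commutator_orb_eq_bot hK (isComponent_cj _ hL) (fun r hr => h r hr s s.2)

end orbit

section exist
variable {Y : Type*} [Group Y] [Finite Y] {p : ℕ} [Fact p.Prime]

/-- a Sylow `p`-subgroup of a component is not central in it, when `O_{p'}(Y) = 1` -/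
theorem sylow_inf_component_not_le_centralizer (hO : Cfsg.pPrimeCore p Y = ⊥) {K : Subgroup Y}
    (hK : Cfsg.IsComponent K) (S : Sylow p Y) :
    ¬ ((S : Subgroup Y) ⊓ K ≤ centralizer (K : Set Y)) := by
  intro hle
  have hidx : ¬ p ∣ (((S : Subgroup Y) ⊓ K).subgroupOf K).index := by
    have h1 := Cfsg.Agent.Lib.Helper4.not_dvd_relIndex_of_isSubnormal hK.1 S
    rw [← Subgroup.inf_relIndex_right] at h1
    exact h1
  have hP : IsPGroup p (((S : Subgroup Y) ⊓ K).subgroupOf K) :=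
    (S.isPGroup'.to_le inf_le_left).comap_subtype
  let P : Sylow p ↥K := hP.toSylow hidx
  have hcen : ∀ x ∈ (P : Subgroup ↥K), ∀ c : ↥K, c * x = x * c := by
    intro x hx c
    have hx' : (x : Y) ∈ (S : Subgroup Y) ⊓ K := hx
    have := Subgroup.mem_centralizer_iff.mp (hle hx') (c : Y) c.2
    exact Subtype.ext this
  have hcop := Cfsg.Agent.Lib.Helper9.coprime_card_of_perfect_of_central_sylow p hK.2.1 P hcen
  have hKbot : K ≤ Cfsg.pPrimeCore p Y :=
    Cfsg.Agent.Lib.Helper9.subnormal_le_pPrimeCore p hK.1 hcop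
  rw [hO, le_bot_iff] at hKbot
  haveI := hK.2.2
  obtain ⟨a, b, hab⟩ := exists_pair_ne (↥K ⧸ Subgroup.center ↥K)
  apply hab
  induction a using QuotientGroup.induction_on with
  | H a =>
    induction b using QuotientGroup.induction_on with
    | H b =>
      have ha : (a : Y) ∈ (⊥ : Subgroup Y) := hKbot ▸ a.2
      have hb : (b : Y) ∈ (⊥ : Subgroup Y) := hKbot ▸ b.2
      rw [Subgroup.mem_bot] at ha hb
      have : a = b := Subtype.ext (ha.trans hb.symm)
      rw [this]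

/-- existence of a noncentral `p`-element of `N` that is fixed by `R` modulo `Z(N)` -/
theorem exists_noncentral_quasifixed (hO : Cfsg.pPrimeCore p Y = ⊥) {R : Subgroup Y}
    (hR : IsPGroup p R) {K : Subgroup Y} (hK : Cfsg.IsComponent K) (N : Subgroup Y) (hKN : K ≤ N)
    (hRN : R ≤ normalizer (N : Set Y)) :
    ∃ t ∈ N, (∃ k : ℕ, t ^ (p ^ k) = 1) ∧ t ∉ centralizer (N : Set Y) ∧
      ∀ r ∈ R, r * t * r⁻¹ * t⁻¹ ∈ N ⊓ centralizer (N : Set Y) ∧
        ∃ k : ℕ, (r * t * r⁻¹ * t⁻¹) ^ (p ^ k) = 1 := by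
  obtain ⟨S, hRS⟩ := hR.exists_le_sylow
  set W : Subgroup Y := (S : Subgroup Y) ⊓ normalizer (N : Set Y) with hW
  set T : Subgroup Y := (S : Subgroup Y) ⊓ N with hT
  have hWp : IsPGroup p W := S.isPGroup'.to_le inf_le_left
  have hpow : ∀ x ∈ (S : Subgroup Y), ∃ k : ℕ, x ^ (p ^ k) = 1 := by
    intro x hx
    obtain ⟨k, hk⟩ := S.isPGroup' ⟨x, hx⟩
    exact ⟨k, by simpa using congrArg Subtype.val hk⟩
  have hRW : R ≤ W := le_inf hRS hRN
  have hTN : ¬ T ≤ centralizer (N : Set Y) := by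
    intro h
    apply sylow_inf_component_not_le_centralizer hO hK S
    exact ((inf_le_inf_left _ hKN).trans h).trans (Subgroup.centralizer_le hKN)
  obtain ⟨m, hm⟩ := exists_zs_eq hWp
  have hex : ∃ i : ℕ, T ⊓ zs W i ≤ centralizer (N : Set Y) ∧
      ¬ T ⊓ zs W (i + 1) ≤ centralizer (N : Set Y) := by
    by_contra hcon
    push Not at hcon
    have hall : ∀ i : ℕ, T ⊓ zs W i ≤ centralizer (N : Set Y) := by
      intro i
      induction i with
      | zero => rw [zs_zero, inf_bot_eq]; exact bot_le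
      | succ i ih => exact hcon i ih
    apply hTN
    have := hall m
    rw [hm] at this
    refine le_trans ?_ this
    exact le_inf le_rfl (inf_le_inf_left _ Subgroup.le_normalizer)
  obtain ⟨i, hi, hi1⟩ := hex
  obtain ⟨t, ht, htC⟩ := SetLike.not_le_iff_exists.mp hi1
  obtain ⟨htT, htz⟩ := Subgroup.mem_inf.mp ht
  obtain ⟨htS, htN⟩ := Subgroup.mem_inf.mp htT
  refine ⟨t, htN, hpow t htS, htC, ?_⟩
  intro r hr
  have hrW : r ∈ W := hRW hr
  obtain ⟨hrS, hrN⟩ := Subgroup.mem_inf.mp hrW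
  have h1 : t * r * t⁻¹ * r⁻¹ ∈ zs W i := ((mem_zs_succ W i t).mp htz).2 r hrW
  have h2 : r * t * r⁻¹ * t⁻¹ ∈ zs W i := by
    have := inv_mem h1
    have e : (t * r * t⁻¹ * r⁻¹)⁻¹ = r * t * r⁻¹ * t⁻¹ := by group
    rwa [e] at this
  have h3 : r * t * r⁻¹ ∈ N := (Subgroup.mem_normalizer_iff.mp hrN t).mp htN
  have h4 : r * t * r⁻¹ * t⁻¹ ∈ N := mul_mem h3 (inv_mem htN)
  have h5 : r * t * r⁻¹ * t⁻¹ ∈ (S : Subgroup Y) :=
    mul_mem (mul_mem (mul_mem hrS htS) (inv_mem hrS)) (inv_mem htS)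
  have h6 : r * t * r⁻¹ * t⁻¹ ∈ T := Subgroup.mem_inf.mpr ⟨h5, h4⟩
  exact ⟨Subgroup.mem_inf.mpr ⟨h4, hi (Subgroup.mem_inf.mpr ⟨h6, h2⟩)⟩, hpow _ h5⟩

omit [Finite Y] in
/-- a `p`-element of `Z(E(Y))` lies in `O_p(Y)` -/
theorem mem_pCore_of_mem_center_layer {z : Y} (hz1 : z ∈ Cfsg.layer Y)
    (hz2 : z ∈ centralizer ((Cfsg.layer Y : Subgroup Y) : Set Y)) (hzp : ∃ k : ℕ, z ^ (p ^ k) = 1) :
    z ∈ Cfsg.pCore p Y := by
  haveI : (Cfsg.layer Y).Normal := Cfsg.Agent.Lib.Helper9.layer_normal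
  set Z : Subgroup Y := Cfsg.layer Y ⊓ centralizer ((Cfsg.layer Y : Subgroup Y) : Set Y) with hZ
  haveI hZn : Z.Normal := Subgroup.normal_inf_normal _ _
  have hzZ : z ∈ Z := Subgroup.mem_inf.mpr ⟨hz1, hz2⟩
  have hle : zpowers z ≤ Z := by rw [Subgroup.zpowers_le]; exact hzZ
  have hsn : (zpowers z).IsSubnormal := by
    refine Subgroup.IsSubnormal.step (zpowers z) Z hle hZn.isSubnormal ?_
    rw [Subgroup.normal_subgroupOf_iff_le_normalizer hle]
    refine le_trans ?_ (Subgroup.centralizer_le_normalizer _)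
    intro x hx
    rw [Subgroup.mem_centralizer_iff]
    intro y hy
    obtain ⟨hx1, hx2⟩ := Subgroup.mem_inf.mp hx
    have hy1 : y ∈ Cfsg.layer Y := (Subgroup.mem_inf.mp (hle hy)).1
    exact Subgroup.mem_centralizer_iff.mp hx2 y hy1
  have hp : IsPGroup p (zpowers z) := by
    obtain ⟨k, hk⟩ := hzp
    rintro ⟨x, hx⟩
    obtain ⟨n, rfl⟩ := Subgroup.mem_zpowers_iff.mp hx
    refine ⟨k, Subtype.ext ?_⟩
    show (z ^ n) ^ (p ^ k) = 1
    rw [← zpow_natCast, ← zpow_mul, mul_comm, zpow_mul, zpow_natCast, hk, one_zpow]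
  exact Cfsg.Agent.Lib.Helper16.le_pCore_of_subnormal _ hsn hp (Subgroup.mem_zpowers z)

end exist

section main
variable {Y : Type*} [Group Y] [Finite Y] {p : ℕ} [Fact p.Prime]

omit [Finite Y] [Fact p.Prime] in
theorem mem_centralizer_of_pow_mem {C : Subgroup Y} {t : Y} {k n : ℕ} (ht : t ^ (p ^ k) = 1)
    (hn : n.Coprime p) (h : t ^ n ∈ C) : t ∈ C := by
  have h1 : orderOf t ∣ p ^ k := orderOf_dvd_of_pow_eq_one ht
  have h2 : n.Coprime (orderOf t) :=
    Nat.Coprime.coprime_dvd_right h1 (Nat.Coprime.pow_right k hn)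
  obtain ⟨m, hm⟩ := exists_pow_eq_self_of_coprime h2
  rw [← hm]; exact pow_mem h m

/-- **Key lemma**, elementwise form: if `O_{p'}(Y) = 1`, `R` is a `p`-subgroup, `d` is a
`p'`-element commuting with `R` and centralizing `O_p(Y)`, and the commutators `[y, d]` with
`y ∈ C_{E(Y)}(R)` lie in a subgroup `D` of order prime to `p`, then `d` normalizes every component
of `Y`. -/
theorem cj_component_eq_of_elem (hO : Cfsg.pPrimeCore p Y = ⊥) {R D : Subgroup Y}
    (hR : IsPGroup p R) (hD : (Nat.card D).Coprime p) {d : Y} (hdp : (orderOf d).Coprime p)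
    (hcomm : ∀ r ∈ R, r * d = d * r) (hdP : ∀ z ∈ Cfsg.pCore p Y, d * z = z * d)
    (hdD : ∀ y ∈ Cfsg.layer Y, y ∈ centralizer (R : Set Y) → y * d * y⁻¹ * d⁻¹ ∈ D)
    {K : Subgroup Y} (hK : Cfsg.IsComponent K) : cj d K = K := by
  by_contra hne
  have hK₁ : Cfsg.IsComponent (cj d K) := isComponent_cj d hK
  have hK₂ : Cfsg.IsComponent (cj d (cj d K)) := isComponent_cj d hK₁
  have key : ∀ (L : Subgroup Y), cj d L ≠ L →
      ∀ r ∈ R, ∀ s ∈ R, cj r L ≠ cj s (cj d L) := by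
    intro L hneL r hr s hs h
    apply hneL
    apply cj_eq_self_of_cj_eq_cj' hR hdp hcomm L (mul_mem (inv_mem hs) hr)
    rw [← cj_mul, h, cj_inv_cj]
  have h12 : ⁅orb R K, orb R (cj d K)⁆ = ⊥ :=
    commutator_orb_orb_eq_bot hK hK₁ (key K hne)
  have hN₂ : cj d (orb R K) = orb R (cj d K) := cj_orb_comm hcomm
  have hN₃ : cj d (orb R (cj d K)) = orb R (cj d (cj d K)) := cj_orb_comm hcomm
  obtain ⟨t, htN, ⟨k, htk⟩, htC, htR⟩ := exists_noncentral_quasifixed hO hR hK (orb R K)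
    (le_orb R K) (le_normalizer_orb R K)
  have ht₁ : d * t * d⁻¹ ∈ orb R (cj d K) := by rw [← hN₂]; exact conj_mem_cj htN
  have ht₂ : d * (d * t * d⁻¹) * d⁻¹ ∈ orb R (cj d (cj d K)) := by
    rw [← hN₃]; exact conj_mem_cj ht₁
  have hle21 : orb R (cj d K) ≤ centralizer ((orb R K : Subgroup Y) : Set Y) := by
    rw [← Subgroup.commutator_eq_bot_iff_le_centralizer, Subgroup.commutator_comm]; exact h12
  have hle12 : orb R K ≤ centralizer ((orb R (cj d K) : Subgroup Y) : Set Y) := by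
    rw [← Subgroup.commutator_eq_bot_iff_le_centralizer]; exact h12
  -- the elements `[r, t]` are centralized by `d`
  have hz : ∀ r ∈ R, d * (r * t * r⁻¹ * t⁻¹) = (r * t * r⁻¹ * t⁻¹) * d := by
    intro r hr
    obtain ⟨hz1, hzp⟩ := htR r hr
    obtain ⟨hzN, hzC⟩ := Subgroup.mem_inf.mp hz1
    have horb : orb R K ≤ Cfsg.layer Y := by
      unfold orb
      apply iSup_le
      intro s
      exact le_sSup (isComponent_cj _ hK)
    have hzl : r * t * r⁻¹ * t⁻¹ ∈ centralizer ((Cfsg.layer Y : Subgroup Y) : Set Y) := by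
      have : zpowers (r * t * r⁻¹ * t⁻¹) ≤ centralizer ((Cfsg.layer Y : Subgroup Y) : Set Y) := by
        rw [Subgroup.le_centralizer_iff]
        unfold Cfsg.layer
        apply sSup_le
        intro L hL
        rw [Subgroup.le_centralizer_iff, Subgroup.zpowers_le]
        by_cases hex : ∃ s ∈ R, cj s K = L
        · obtain ⟨s, hs, rfl⟩ := hex
          exact Subgroup.centralizer_le (cj_le_orb hs) hzC
        · push Not at hex
          have h1 : ⁅orb R K, L⁆ = ⊥ := commutator_orb_eq_bot hK hL hex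
          rw [Subgroup.commutator_eq_bot_iff_le_centralizer] at h1
          exact h1 hzN
      exact this (Subgroup.mem_zpowers _)
    have hzP : r * t * r⁻¹ * t⁻¹ ∈ Cfsg.pCore p Y :=
      mem_pCore_of_mem_center_layer (horb hzN) hzl hzp
    exact hdP _ hzP
  -- `y = t⁻¹ t₁` centralizes `R`
  have hyC : ∀ r ∈ R, r * (t⁻¹ * (d * t * d⁻¹)) = (t⁻¹ * (d * t * d⁻¹)) * r := by
    intro r hr
    have h1 := hz r hr
    have h2 := hcomm r hr
    have h3 : r * d⁻¹ = d⁻¹ * r := by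
      calc r * d⁻¹ = d⁻¹ * (d * r) * d⁻¹ := by group
        _ = d⁻¹ * (r * d) * d⁻¹ := by rw [h2]
        _ = d⁻¹ * r := by group
    set z := r * t * r⁻¹ * t⁻¹ with hzdef
    calc r * (t⁻¹ * (d * t * d⁻¹))
        = t⁻¹ * z⁻¹ * ((r * d) * t * d⁻¹) := by rw [hzdef]; group
      _ = t⁻¹ * z⁻¹ * ((d * r) * t * d⁻¹) := by rw [h2]
      _ = t⁻¹ * z⁻¹ * (d * z * t * (r * d⁻¹)) := by rw [hzdef]; group
      _ = t⁻¹ * z⁻¹ * (d * z * t * (d⁻¹ * r)) := by rw [h3]
      _ = t⁻¹ * z⁻¹ * ((d * z) * t * d⁻¹) * r := by group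
      _ = t⁻¹ * z⁻¹ * ((z * d) * t * d⁻¹) * r := by rw [h1]
      _ = (t⁻¹ * (d * t * d⁻¹)) * r := by group
  have hyN : t⁻¹ * (d * t * d⁻¹) ∈ centralizer (R : Set Y) := by
    rw [Subgroup.mem_centralizer_iff]
    exact hyC
  have horb : ∀ L : Subgroup Y, Cfsg.IsComponent L → orb R L ≤ Cfsg.layer Y := by
    intro L hL
    unfold orb
    apply iSup_le
    intro s
    exact le_sSup (isComponent_cj _ hL)
  have hyE : t⁻¹ * (d * t * d⁻¹) ∈ Cfsg.layer Y :=
    mul_mem (inv_mem (horb K hK htN)) (horb _ hK₁ ht₁)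
  have hw : t⁻¹ * (d * t * d⁻¹) * d * (t⁻¹ * (d * t * d⁻¹))⁻¹ * d⁻¹ ∈ D := hdD _ hyE hyN
  have hwe : t⁻¹ * (d * t * d⁻¹) * d * (t⁻¹ * (d * t * d⁻¹))⁻¹ * d⁻¹ =
      t⁻¹ * (d * t * d⁻¹) * (d * (d * t * d⁻¹) * d⁻¹)⁻¹ * (d * t * d⁻¹) := by group
  rw [hwe] at hw
  have hwm : (t⁻¹ * (d * t * d⁻¹) * (d * (d * t * d⁻¹) * d⁻¹)⁻¹ * (d * t * d⁻¹)) ^ (Nat.card D)
      = 1 := by
    have h' := congrArg Subtype.val (pow_card_eq_one' (G := ↥D) (x := ⟨_, hw⟩))
    rw [Subgroup.coe_pow, Subgroup.coe_one] at h'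
    exact h'
  by_cases h02 : ∀ r ∈ R, ∀ s ∈ R, cj r K ≠ cj s (cj d (cj d K))
  · -- the three orbits are distinct
    have h13 : ⁅orb R K, orb R (cj d (cj d K))⁆ = ⊥ := commutator_orb_orb_eq_bot hK hK₂ h02
    have hle31 : orb R (cj d (cj d K)) ≤ centralizer ((orb R K : Subgroup Y) : Set Y) := by
      rw [← Subgroup.commutator_eq_bot_iff_le_centralizer, Subgroup.commutator_comm]; exact h13
    have hu : (d * t * d⁻¹) * (d * (d * t * d⁻¹) * d⁻¹)⁻¹ * (d * t * d⁻¹) ∈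
        centralizer ((orb R K : Subgroup Y) : Set Y) :=
      mul_mem (mul_mem (hle21 ht₁) (inv_mem (hle31 ht₂))) (hle21 ht₁)
    have hcu : Commute t⁻¹ ((d * t * d⁻¹) * (d * (d * t * d⁻¹) * d⁻¹)⁻¹ * (d * t * d⁻¹)) :=
      Subgroup.mem_centralizer_iff.mp hu t⁻¹ (inv_mem htN)
    have e : t⁻¹ * (d * t * d⁻¹) * (d * (d * t * d⁻¹) * d⁻¹)⁻¹ * (d * t * d⁻¹) =
        t⁻¹ * ((d * t * d⁻¹) * (d * (d * t * d⁻¹) * d⁻¹)⁻¹ * (d * t * d⁻¹)) := by group
    rw [e, hcu.mul_pow] at hwm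
    have h5 : t ^ (Nat.card D) =
        ((d * t * d⁻¹) * (d * (d * t * d⁻¹) * d⁻¹)⁻¹ * (d * t * d⁻¹)) ^ (Nat.card D) := by
      rw [inv_pow] at hwm
      exact (inv_mul_eq_one.mp hwm)
    have h6 : t ^ (Nat.card D) ∈ centralizer ((orb R K : Subgroup Y) : Set Y) := by
      rw [h5]; exact pow_mem hu _
    exact htC (mem_centralizer_of_pow_mem htk hD h6)
  · -- `d²` fixes `K`
    push Not at h02
    obtain ⟨r, hr, s, hs, hrs⟩ := h02
    have hdd : cj (d * d) K = K := by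
      have hdd1 : (orderOf (d * d)).Coprime p := by
        rw [← pow_two]
        exact Nat.Coprime.coprime_dvd_left (orderOf_pow_dvd 2) hdp
      have hdd2 : ∀ r ∈ R, r * (d * d) = (d * d) * r := by
        intro r hr
        rw [← mul_assoc, hcomm r hr, mul_assoc, hcomm r hr, mul_assoc]
      apply cj_eq_self_of_cj_eq_cj' hR hdd1 hdd2 K (mul_mem (inv_mem hs) hr)
      rw [← cj_mul s⁻¹ r, hrs, cj_inv_cj, cj_mul]
    have hK₂' : cj d (cj d K) = K := by rw [cj_mul]; exact hdd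
    have hp2 : (2 * Nat.card D).Coprime p := by
      apply Nat.Coprime.mul_left _ hD
      by_contra h2
      have hp2 : p = 2 := by
        have hpp : p.Prime := Fact.out
        have := (Nat.coprime_primes Nat.prime_two hpp).not.mp h2
        push Not at this
        exact this.symm
      have hcop : (2 : ℕ).Coprime (orderOf d) := (hp2 ▸ hdp).symm
      obtain ⟨m, hm⟩ := exists_pow_eq_self_of_coprime hcop
      have h4 : d ^ 2 ∈ normalizer (K : Set Y) := by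
        rw [pow_two]; exact mem_normalizer_of_cj_eq hdd
      have h5 : d ∈ normalizer (K : Set Y) := by rw [← hm]; exact pow_mem h4 m
      exact hne (cj_eq_of_mem_normalizer h5)
    rw [hK₂'] at ht₂
    have hc1 : Commute (d * t * d⁻¹) (d * (d * t * d⁻¹) * d⁻¹)⁻¹ :=
      (Subgroup.mem_centralizer_iff.mp (hle21 ht₁) _ (inv_mem ht₂)).symm
    have e : t⁻¹ * (d * t * d⁻¹) * (d * (d * t * d⁻¹) * d⁻¹)⁻¹ * (d * t * d⁻¹) =
        (t⁻¹ * (d * (d * t * d⁻¹) * d⁻¹)⁻¹) * ((d * t * d⁻¹) * (d * t * d⁻¹)) := by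
      calc t⁻¹ * (d * t * d⁻¹) * (d * (d * t * d⁻¹) * d⁻¹)⁻¹ * (d * t * d⁻¹)
          = t⁻¹ * ((d * t * d⁻¹) * (d * (d * t * d⁻¹) * d⁻¹)⁻¹) * (d * t * d⁻¹) := by group
        _ = t⁻¹ * ((d * (d * t * d⁻¹) * d⁻¹)⁻¹ * (d * t * d⁻¹)) * (d * t * d⁻¹) := by
            rw [hc1.eq]
        _ = _ := by group
    have hv : t⁻¹ * (d * (d * t * d⁻¹) * d⁻¹)⁻¹ ∈ orb R K := mul_mem (inv_mem htN) (inv_mem ht₂)
    have ht11 : (d * t * d⁻¹) * (d * t * d⁻¹) ∈ orb R (cj d K) := mul_mem ht₁ ht₁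
    have hcv : Commute (t⁻¹ * (d * (d * t * d⁻¹) * d⁻¹)⁻¹) ((d * t * d⁻¹) * (d * t * d⁻¹)) :=
      Subgroup.mem_centralizer_iff.mp (hle21 ht11) _ hv
    rw [e, hcv.mul_pow] at hwm
    have h5 : ((d * t * d⁻¹) * (d * t * d⁻¹)) ^ (Nat.card D) =
        ((t⁻¹ * (d * (d * t * d⁻¹) * d⁻¹)⁻¹) ^ (Nat.card D))⁻¹ :=
      eq_inv_of_mul_eq_one_right hwm
    have h6 : (d * t * d⁻¹) ^ (2 * Nat.card D) ∈
        centralizer ((orb R (cj d K) : Subgroup Y) : Set Y) := by
      rw [pow_mul, pow_two, h5]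
      exact hle12 (inv_mem (pow_mem hv _))
    have h7 : (d * t * d⁻¹) ^ (p ^ k) = 1 := by
      rw [conj_pow, htk, mul_one, mul_inv_cancel]
    have h8 : d * t * d⁻¹ ∈ centralizer ((orb R (cj d K) : Subgroup Y) : Set Y) :=
      mem_centralizer_of_pow_mem h7 hp2 h6
    rw [← hN₂, ← cj_centralizer, mem_cj] at h8
    have e2 : d⁻¹ * (d * t * d⁻¹) * d = t := by group
    rw [e2] at h8
    exact htC h8

/-- **Key lemma**: if `O_{p'}(Y) = 1`, `R` is a `p`-subgroup and `D` is a `p'`-subgroup of `N(R)`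
normalized by `N(R)`, then `D` normalizes every component of `Y`. -/
theorem cj_component_eq_of_normalizer_le (hO : Cfsg.pPrimeCore p Y = ⊥) {R D : Subgroup Y}
    (hR : IsPGroup p R) (hD : (Nat.card D).Coprime p) (hDR : D ≤ normalizer (R : Set Y))
    (hND : normalizer (R : Set Y) ≤ normalizer (D : Set Y))
    {K : Subgroup Y} (hK : Cfsg.IsComponent K) {d : Y} (hd : d ∈ D) : cj d K = K := by
  have hPD := commutator_pCore_eq_bot_of_normalizer_le hR hD hDR hND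
  rw [Subgroup.commutator_eq_bot_iff_le_centralizer] at hPD
  apply cj_component_eq_of_elem hO hR hD
    (Nat.Coprime.coprime_dvd_left (Subgroup.orderOf_dvd_natCard D hd) hD)
    (fun r hr => commute_of_normalizer_le hR hD hDR hND hr hd)
    (fun z hz => Subgroup.mem_centralizer_iff.mp (hPD hz) d hd) _ hK
  intro y _ hyC
  have hyN : y ∈ normalizer (D : Set Y) := hND (Subgroup.centralizer_le_normalizer _ hyC)
  exact mul_mem ((Subgroup.mem_normalizer_iff.mp hyN d).mp hd) (inv_mem hd)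

end main

end Cfsg.Agent.Lib.Helper12
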