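import Mathlib
import Cfsg.Agent.Lib.Helper12.HatLayer
import Cfsg.Agent.Lib.Helper9.NormalizerChain3
import Cfsg.Agent.Lib.Helper9.FStar3
import Cfsg.Agent.Lib.Helper8.PResidual

/-!
Helper lemmas (helper12): the `p`-components of `N_G(P)` (and hence `L_{p'}(N_G(P)) O_{p'}(N_G(P))`)
normalize every component of `G`, when `O_{p'}(G) = 1`.
-/

set_option autoImplicit false
set_option linter.style.haveILetI false
open Subgroup
open scoped commutatorElement
namespace Cfsg.Agent.Lib.Helper12

section pcoreN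
variable {G : Type*} [Group G] [Finite G] {p : ℕ} [Fact p.Prime]

omit [Fact p.Prime] in
theorem card_map_pPrimeCore_coprime (N : Subgroup G) :
    (Nat.card ((Cfsg.pPrimeCore p ↥N).map N.subtype)).Coprime p := by
  rw [Subgroup.card_map_of_injective N.subtype_injective]
  exact pPrimeCore_coprime p

omit [Finite G] [Fact p.Prime] in
theorem le_normalizer_map_pPrimeCore (N : Subgroup G) :
    N ≤ normalizer (((Cfsg.pPrimeCore p ↥N).map N.subtype : Subgroup G) : Set G) := by
  intro n hn
  rw [Subgroup.mem_normalizer_iff]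
  have hconj : ∀ m ∈ N, ∀ x ∈ (Cfsg.pPrimeCore p ↥N).map N.subtype,
      m * x * m⁻¹ ∈ (Cfsg.pPrimeCore p ↥N).map N.subtype := by
    rintro m hm _ ⟨y, hy, rfl⟩
    refine ⟨⟨m, hm⟩ * y * ⟨m, hm⟩⁻¹, ?_, rfl⟩
    exact (pPrimeCore_normal' (G := ↥N) p).conj_mem y hy ⟨m, hm⟩
  intro x
  constructor
  · exact hconj n hn x
  · intro h
    have := hconj n⁻¹ (inv_mem hn) _ h
    have e : n⁻¹ * (n * x * n⁻¹) * n⁻¹⁻¹ = x := by group
    rwa [e] at this

/-- `O_{p'}(N_G(P))` normalizes every component of `G` when `O_{p'}(G) = 1` -/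
theorem map_pPrimeCore_normalizer_le_normalizer_component (hO : Cfsg.pPrimeCore p G = ⊥)
    {P : Subgroup G} (hP : IsPGroup p P) {L : Subgroup G} (hL : Cfsg.IsComponent L) :
    (Cfsg.pPrimeCore p ↥(normalizer (P : Set G))).map (normalizer (P : Set G)).subtype ≤
      normalizer (L : Set G) := by
  intro d hd
  apply mem_normalizer_of_cj_eq
  exact cj_component_eq_of_normalizer_le hO hP (card_map_pPrimeCore_coprime _)
    (Subgroup.map_subtype_le _) (le_normalizer_map_pPrimeCore _) hL hd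

end pcoreN

section pcomp
variable {G : Type*} [Group G] [Finite G] {p : ℕ} [Fact p.Prime]

/-- a `p`-component of `N_G(P)` normalizes every component of `G` when `O_{p'}(G) = 1` -/
theorem pComponent_normalizer_le_normalizer_component (hO : Cfsg.pPrimeCore p G = ⊥)
    {P : Subgroup G} (hP : IsPGroup p P) (N : Subgroup G) (hN : N = normalizer (P : Set G))
    {J : Subgroup ↥N}
    (hJ : Cfsg.IsPComponent p J) {L : Subgroup G} (hL : Cfsg.IsComponent L) :
    J ≤ (normalizer (L : Set G)).subgroupOf N := by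
  classical
  set O : Subgroup ↥N := Cfsg.pPrimeCore p ↥N with hOdef
  set D : Subgroup G := O.map N.subtype with hDdef
  set SL : Subgroup ↥N := (normalizer (L : Set G)).subgroupOf N with hSL
  have hDcard : (Nat.card D).Coprime p := card_map_pPrimeCore_coprime N
  have hOSL : O ≤ SL := by
    intro o ho
    rw [hSL, Subgroup.mem_subgroupOf]
    have := map_pPrimeCore_normalizer_le_normalizer_component hO hP hL
    rw [← hN] at this
    exact this ⟨o, ho, rfl⟩
  -- `P` as a normal `p`-subgroup of `N`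
  have hPN : P ≤ N := hN ▸ Subgroup.le_normalizer
  haveI hPnorm : (P.subgroupOf N).Normal := Subgroup.normal_subgroupOf_of_le_normalizer hN.le
  have hPcore : P.subgroupOf N ≤ Cfsg.pCore p ↥N :=
    le_pCore' p _ hPnorm (hP.comap_subtype)
  have hcoreJ := Cfsg.Agent.Lib.Helper9.commutator_pCore_pComponent hJ
  rw [Subgroup.commutator_eq_bot_iff_le_centralizer] at hcoreJ
  -- `J` commutes with `P`
  have hJP : ∀ j ∈ J, ∀ r ∈ P, r * (j : G) = (j : G) * r := by
    intro j hj r hr
    have h1 : (⟨r, hPN hr⟩ : ↥N) ∈ Cfsg.pCore p ↥N := hPcore (Subgroup.mem_subgroupOf.mpr hr)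
    have h2 := Subgroup.mem_centralizer_iff.mp (hcoreJ h1) j hj
    have h3 := congrArg Subtype.val h2
    simpa using h3.symm
  -- `J` centralizes `O_p(G)`
  set J' : Subgroup G := J.map N.subtype with hJ'
  have hJ'N : J' ≤ N := Subgroup.map_subtype_le _
  have hJ'perf : ⁅J', J'⁆ = J' := by
    rw [hJ', ← Subgroup.map_commutator, Cfsg.Agent.Lib.Helper9.IsPComponent_commutator_eq hJ]
  haveI hPn : (Cfsg.pCore p G).Normal := pCore_normal'' p
  have hQ : IsPGroup p ↥(P ⊔ Cfsg.pCore p G) :=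
    IsPGroup.to_sup_of_normal_right hP (pCore_isPGroup' p)
  have hNQ : N ≤ normalizer ((P ⊔ Cfsg.pCore p G : Subgroup G) : Set G) := by
    intro n hn
    have h1 : n ∈ normalizer ((Cfsg.pCore p G : Subgroup G) : Set G) := by
      rw [Subgroup.normalizer_eq_top]; exact Subgroup.mem_top n
    exact Cfsg.Agent.Lib.Helper9.mem_normalizer_sup (hN.le hn) h1
  haveI hQnorm : ((P ⊔ Cfsg.pCore p G).subgroupOf N).Normal :=
    Subgroup.normal_subgroupOf_of_le_normalizer hNQ
  have hQcore : (P ⊔ Cfsg.pCore p G).subgroupOf N ≤ Cfsg.pCore p ↥N :=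
    le_pCore' p _ hQnorm (hQ.comap_subtype)
  have hcent : ⁅(P ⊔ Cfsg.pCore p G) ⊓ normalizer (P : Set G), J'⁆ = ⊥ := by
    rw [Subgroup.commutator_eq_bot_iff_le_centralizer]
    rintro x ⟨hxQ, hxN'⟩
    have hxN : x ∈ N := hN.ge hxN'
    rw [Subgroup.mem_centralizer_iff]
    rintro _ ⟨j, hj, rfl⟩
    have hxQ' : x ∈ P ⊔ Cfsg.pCore p G := hxQ
    have h1 : (⟨x, hxN⟩ : ↥N) ∈ Cfsg.pCore p ↥N := hQcore (Subgroup.mem_subgroupOf.mpr hxQ')
    have h2 := Subgroup.mem_centralizer_iff.mp (hcoreJ h1) j hj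
    exact congrArg Subtype.val h2
  have hQJ := Cfsg.Agent.Lib.Helper9.commutator_eq_bot_of_normalizer_chain hQ
    (le_sup_left : P ≤ P ⊔ Cfsg.pCore p G) (hJ'N.trans hN.le) (hJ'N.trans hNQ) hcent
    (Cfsg.Agent.Lib.Helper9.pStable_of_perfect p hJ'perf)
  rw [Subgroup.commutator_eq_bot_iff_le_centralizer] at hQJ
  have hJcore : ∀ j ∈ J, ∀ z ∈ Cfsg.pCore p G, (j : G) * z = z * (j : G) := by
    intro j hj z hz
    exact Subgroup.mem_centralizer_iff.mp (hQJ (le_sup_right (a := P) hz)) _ ⟨j, hj, rfl⟩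
  -- the dichotomy
  haveI hEn : (Cfsg.layer G).Normal := Cfsg.Agent.Lib.Helper9.layer_normal
  set A : Subgroup ↥N := (Cfsg.layer G).subgroupOf N with hA
  haveI hAn : A.Normal := Subgroup.Normal.subgroupOf hEn N
  have hASL : A ≤ SL := by
    intro a ha
    rw [hSL, Subgroup.mem_subgroupOf]
    exact Cfsg.Agent.Lib.Helper9.layer_le_normalizer_of_isSubnormal hL.1
      (Subgroup.mem_subgroupOf.mp ha)
  have hAbn : (A.map (QuotientGroup.mk' O)).Normal :=
    Subgroup.Normal.map hAn _ (QuotientGroup.mk'_surjective O)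
  rcases Cfsg.Agent.Lib.Helper9.component_le_or_commutator_eq_bot _ _ hJ.2.1 hAbn.isSubnormal
    with h | h
  · -- `J ≤ A O`
    have h1 := Subgroup.comap_mono (f := QuotientGroup.mk' O) h
    rw [Subgroup.comap_map_eq, Subgroup.comap_map_eq, QuotientGroup.ker_mk'] at h1
    exact (le_sup_left.trans h1).trans (sup_le hASL hOSL)
  · -- `[J, A] ≤ O`
    rw [Subgroup.commutator_eq_bot_iff_le_centralizer] at h
    have hJA : ∀ j ∈ J, ∀ a ∈ A, a * j * a⁻¹ * j⁻¹ ∈ O := by
      intro j hj a ha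
      rw [← QuotientGroup.ker_mk' O, MonoidHom.mem_ker]
      have h1 : (QuotientGroup.mk' O) a * (QuotientGroup.mk' O) j =
          (QuotientGroup.mk' O) j * (QuotientGroup.mk' O) a :=
        Subgroup.mem_centralizer_iff.mp (h (Subgroup.mem_map_of_mem _ hj)) _
          (Subgroup.mem_map_of_mem (QuotientGroup.mk' O) ha)
      simp only [map_mul, map_inv]
      rw [h1]
      group
    -- `J` is generated by its `p'`-elements
    have hres : Cfsg.pResidual p ↥J = ⊤ := by
      apply Cfsg.Agent.Lib.Helper8.pResidual_eq_top_of_sup_commutator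
      have hJperf := Cfsg.Agent.Lib.Helper9.IsPComponent_commutator_eq hJ
      have : commutator ↥J = ⊤ := by
        apply Subgroup.map_injective J.subtype_injective
        rw [Subgroup.map_subtype_commutator, hJperf, ← MonoidHom.range_eq_map,
          Subgroup.range_subtype]
      rw [this, sup_top_eq]
    have hcl : Cfsg.pResidual p ↥J ≤ SL.subgroupOf J := by
      unfold Cfsg.pResidual
      rw [Subgroup.closure_le]
      intro g hg
      have hg' : (orderOf g).Coprime p := hg
      show (g : ↥N) ∈ SL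
      rw [hSL, Subgroup.mem_subgroupOf]
      apply mem_normalizer_of_cj_eq
      have hdp : (orderOf (((g : ↥N) : G))).Coprime p := by
        rw [Subgroup.orderOf_coe, Subgroup.orderOf_coe]; exact hg'
      refine cj_component_eq_of_elem hO hP hDcard hdp (fun r hr => hJP g.1 g.2 r hr)
        (fun z hz => hJcore g.1 g.2 z hz) ?_ hL
      intro y hyE hyC
      have hyN : y ∈ N := hN.ge (Subgroup.centralizer_le_normalizer _ hyC)
      have ha : (⟨y, hyN⟩ : ↥N) ∈ A := Subgroup.mem_subgroupOf.mpr hyE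
      exact ⟨_, hJA g.1 g.2 _ ha, rfl⟩
    intro j hj
    have h1 : (⟨j, hj⟩ : ↥J) ∈ Cfsg.pResidual p ↥J := by rw [hres]; exact Subgroup.mem_top _
    exact hcl h1

end pcomp

end Cfsg.Agent.Lib.Helper12
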