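import Mathlib
import Cfsg.Prelude.Def_ClassicalGeometry
import Cfsg.Prelude.Def_GeometricClasses
import Cfsg.Agent.Lib.Helper5.SpMax
import Cfsg.Agent.Lib.Helper22.C3Defs

/-! S5665 leaf C3A1: the product of a plane involution and the `K`-line involution is a Siegel
element. -/

set_option autoImplicit false
set_option linter.unusedSectionVars false
set_option linter.unusedVariables false
set_option linter.unusedSimpArgs false

namespace Cfsg.Agent.Lib.Helper12.C3Leaf
open Cfsg Matrix Cfsg.Agent.Lib.Helper5 Cfsg.Agent.Lib.Helper5.SpMax Cfsg.Agent.Lib.Helper22.C3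

variable {F : Type*} [Field F] {m : ℕ}

local notation "𝕍" => (Fin m ⊕ Fin m → F)
local notation "𝕄" => Matrix (Fin m ⊕ Fin m) (Fin m ⊕ Fin m) F

/-- A1. `z_P z_{Kx}` is the Siegel element `u ↦ u + 2 (f(u,w) x + f(u,x) w)`. -/
theorem zpl_mul_zK (S : CS m F) (x y : 𝕍) (hxy : sympForm m F x y = 1) (hx : S.N x ≠ 0) (u : 𝕍) :
    ((zpl x y hxy * S.zK x hx : GL (Fin m ⊕ Fin m) F) : 𝕄) *ᵥ u
      = u + (2 : F) • (sympForm m F u ((S.N x)⁻¹ • (S.J *ᵥ x) - y - ((S.N x)⁻¹ * sympForm m F (S.J *ᵥ x) y) • x) • x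
          + sympForm m F u x • ((S.N x)⁻¹ • (S.J *ᵥ x) - y - ((S.N x)⁻¹ * sympForm m F (S.J *ᵥ x) y) • x)) := by
  rw [Units.val_mul, ← Matrix.mulVec_mulVec, CS.zK_mulVec, zpl_mulVec]
  have hJxx : sympForm m F (S.J *ᵥ x) x = - S.N x := S.form_J_self x
  simp only [sympForm_sub_left, sympForm_sub_right, sympForm_smul_left, sympForm_smul_right,
    sympForm_self, hxy, hJxx]
  ext i
  simp only [Pi.add_apply, Pi.sub_apply, Pi.smul_apply, smul_eq_mul]
  field_simp
  ring

end Cfsg.Agent.Lib.Helper12.C3Leaf
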