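import Mathlib
import Cfsg.Prelude.Def_ClassicalGeometry
import Cfsg.Prelude.Def_GeometricClasses
import Cfsg.Agent.Lib.Helper5.SpMax
import Cfsg.Agent.Lib.Helper22.C3Defs

/-! S5665 leaf C3A2: the commutator of two Siegel elements with a common vector is a
transvection. -/

set_option autoImplicit false
set_option linter.unusedSectionVars false
set_option linter.unusedVariables false
set_option linter.unusedSimpArgs false

namespace Cfsg.Agent.Lib.Helper12.C3Leaf
open Cfsg Matrix Cfsg.Agent.Lib.Helper5 Cfsg.Agent.Lib.Helper5.SpMax Cfsg.Agent.Lib.Helper22.C3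

variable {F : Type*} [Field F] {m : ℕ}

local notation "𝕍" => (Fin m ⊕ Fin m → F)
local notation "𝕄" => Matrix (Fin m ⊕ Fin m) (Fin m ⊕ Fin m) F

/-- A2. Commutator of two Siegel elements with a common vector `x`: a transvection. -/
theorem comm_siegel (x w w' : 𝕍) (c c' : F) (hw : sympForm m F x w = 0) (hw' : sympForm m F x w' = 0)
    (g₁ g₂ : GL (Fin m ⊕ Fin m) F)
    (h₁ : ∀ u, (g₁ : 𝕄) *ᵥ u = u + c • (sympForm m F u w • x + sympForm m F u x • w))
    (h₂ : ∀ u, (g₂ : 𝕄) *ᵥ u = u + c' • (sympForm m F u w' • x + sympForm m F u x • w')) :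
    g₁ * g₂ * g₁⁻¹ * g₂⁻¹ = tvc x (2 * c * c' * sympForm m F w' w) := by
  have hwx : sympForm m F w x = 0 := by rw [sympForm_swap, hw, neg_zero]
  have hwx' : sympForm m F w' x = 0 := by rw [sympForm_swap, hw', neg_zero]
  have hww : sympForm m F w w' = - sympForm m F w' w := sympForm_swap m w w'
  have key : g₁ * g₂ = tvc x (2 * c * c' * sympForm m F w' w) * g₂ * g₁ := by
    apply Units.ext
    apply mat_eq_of_mulVec
    intro u
    simp only [Units.val_mul, ← Matrix.mulVec_mulVec, h₁, h₂, tvc_mulVec]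
    simp only [sympForm_add_left, sympForm_smul_left, sympForm_self, hw, hw', hwx, hwx', hww]
    ext i
    simp only [Pi.add_apply, Pi.smul_apply, smul_eq_mul]
    ring
  rw [key]
  group

end Cfsg.Agent.Lib.Helper12.C3Leaf
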