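import Mathlib
import Cfsg.Prelude.Def_ClassicalGeometry
import Cfsg.Prelude.Def_GeometricClasses
import Cfsg.Agent.Lib.Helper5.SpMax
import Cfsg.Agent.Lib.Helper22.C3Defs
import Cfsg.Agent.Lib.Helper22.C3Tool
import Cfsg.Agent.Lib.Helper12.C3A1
import Cfsg.Agent.Lib.Helper12.C3A2

/-! S5665 leaf C3A (core, with leaf E3 as a hypothesis): a plane involution through a non-singular
vector `x` whose plane does not contain `J x` gives all transvections with centre `x`. -/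

set_option autoImplicit false
set_option linter.unusedSectionVars false
set_option linter.unusedVariables false
set_option linter.unusedSimpArgs false

namespace Cfsg.Agent.Lib.Helper12.C3Leaf
open Cfsg Matrix Cfsg.Agent.Lib.Helper5 Cfsg.Agent.Lib.Helper5.SpMax Cfsg.Agent.Lib.Helper22.C3
open Cfsg.Agent.Lib.Helper22.C3Leaf

variable {F : Type*} [Field F] {m : ℕ}

local notation "𝕍" => (Fin m ⊕ Fin m → F)
local notation "𝕄" => Matrix (Fin m ⊕ Fin m) (Fin m ⊕ Fin m) F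

/-- conjugating a Siegel element by a symplectic matrix -/
theorem conj_siegel_mulVec {g Y : GL (Fin m ⊕ Fin m) F} (hg : g ∈ spGL m F) (x w : 𝕍) (c : F)
    (hY : ∀ u, (Y : 𝕄) *ᵥ u = u + c • (sympForm m F u w • x + sympForm m F u x • w)) (u : 𝕍) :
    ((g * Y * g⁻¹ : GL (Fin m ⊕ Fin m) F) : 𝕄) *ᵥ u
      = u + c • (sympForm m F u ((g : 𝕄) *ᵥ w) • ((g : 𝕄) *ᵥ x)
          + sympForm m F u ((g : 𝕄) *ᵥ x) • ((g : 𝕄) *ᵥ w)) := by
  rw [Units.val_mul, Units.val_mul, ← Matrix.mulVec_mulVec, ← Matrix.mulVec_mulVec, hY]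
  have e1 : ∀ z : 𝕍, sympForm m F (((g⁻¹ : GL (Fin m ⊕ Fin m) F) : 𝕄) *ᵥ u) z
      = sympForm m F u ((g : 𝕄) *ᵥ z) := by
    intro z
    rw [← mem_spGL.mp hg _ z, mul_inv_mulVec]
  rw [e1, e1, Matrix.mulVec_add, Matrix.mulVec_smul, Matrix.mulVec_add, Matrix.mulVec_smul,
    Matrix.mulVec_smul, mul_inv_mulVec]

/-- A (core). -/
theorem mem_Sset_of_plane_core (S : CS m F) (h2 : (2 : F) ≠ 0)
    (hE3 : ∀ (x w : 𝕍), S.N x ≠ 0 → w ≠ 0 → sympForm m F w x = 0 →
      sympForm m F w (S.J *ᵥ x) = 0 →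
      ∃ a : 𝕍, S.N a = 0 ∧ sympForm m F a x = 0 ∧ sympForm m F a (S.J *ᵥ x) = 0 ∧
        sympForm m F w a ≠ 0)
    (M : Subgroup (GL (Fin m ⊕ Fin m) F)) (hMS : M ≤ spGL m F)
    (hM : ∀ g ∈ spGL m F, (g : 𝕄) * S.J = S.J * (g : 𝕄) → g ∈ M)
    (x y : 𝕍) (hxy : sympForm m F x y = 1) (hz : zpl x y hxy ∈ M) (hx : S.N x ≠ 0)
    (hJx : S.J *ᵥ x ∉ Submodule.span F {x, y}) : x ∈ Sset M := by
  classical
  have hδ := S.δ_ne_zero
  -- the vector `w`
  set w : 𝕍 := (S.N x)⁻¹ • (S.J *ᵥ x) - y - ((S.N x)⁻¹ * sympForm m F (S.J *ᵥ x) y) • x with hwdef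
  have hJxx : sympForm m F (S.J *ᵥ x) x = - S.N x := S.form_J_self x
  have hxJx : sympForm m F x (S.J *ᵥ x) = S.N x := rfl
  have hyx : sympForm m F y x = -1 := by rw [sympForm_swap, hxy]
  have hJJ : sympForm m F (S.J *ᵥ x) (S.J *ᵥ x) = 0 := sympForm_self m _
  have hyJx : sympForm m F y (S.J *ᵥ x) = - sympForm m F (S.J *ᵥ x) y := sympForm_swap m _ _
  have hw0 : w ≠ 0 := by
    intro h0
    apply hJx
    have e : S.J *ᵥ x = (sympForm m F (S.J *ᵥ x) y) • x + S.N x • y := by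
      have h1 : S.N x • w = 0 := by rw [h0, smul_zero]
      rw [hwdef] at h1
      have h3 : S.N x • ((S.N x)⁻¹ • (S.J *ᵥ x) - y
          - ((S.N x)⁻¹ * sympForm m F (S.J *ᵥ x) y) • x)
          = S.J *ᵥ x - (sympForm m F (S.J *ᵥ x) y • x + S.N x • y) := by
        ext i
        simp only [Pi.add_apply, Pi.sub_apply, Pi.smul_apply, smul_eq_mul]
        field_simp
        ring
      rw [h3] at h1
      exact sub_eq_zero.mp h1
    rw [e]
    exact Submodule.add_mem _ (Submodule.smul_mem _ _ (Submodule.subset_span (by simp)))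
      (Submodule.smul_mem _ _ (Submodule.subset_span (by simp)))
  have hxw : sympForm m F x w = 0 := by
    rw [hwdef]
    simp only [sympForm_sub_right, sympForm_smul_right, sympForm_self, hxy, hxJx]
    field_simp
    ring
  have hwx : sympForm m F w x = 0 := by rw [sympForm_swap, hxw, neg_zero]
  have hwJx : sympForm m F w (S.J *ᵥ x) = 0 := by
    rw [hwdef]
    simp only [sympForm_sub_left, sympForm_smul_left, hJJ, hxJx, hyJx]
    field_simp
    ring
  obtain ⟨a, hNa, hax, haJx, hwa⟩ := hE3 x w hx hw0 hwx hwJx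
  -- the Siegel element `Y`
  have hzK : S.zK x hx ∈ M := hM _ (S.zK_mem x hx) (zK_comm S x hx)
  set Y : GL (Fin m ⊕ Fin m) F := zpl x y hxy * S.zK x hx with hYdef
  have hYM : Y ∈ M := M.mul_mem hz hzK
  have hY : ∀ u, (Y : 𝕄) *ᵥ u = u + (2 : F) • (sympForm m F u w • x + sympForm m F u x • w) :=
    fun u => zpl_mul_zK S x y hxy hx u
  -- facts about `a`
  have hxa : sympForm m F x a = 0 := by rw [sympForm_swap, hax, neg_zero]
  have hxJa : sympForm m F x (S.J *ᵥ a) = 0 := by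
    have h1 := S.skew x a
    have h3 : sympForm m F (S.J *ᵥ x) a = 0 := by rw [sympForm_swap, haJx, neg_zero]
    rw [h3] at h1
    exact neg_eq_zero.mp h1.symm
  -- the non-zero constant `κ`
  set κ : F := sympForm m F w a * sympForm m F w a
      - S.δ⁻¹ * (sympForm m F w (S.J *ᵥ a) * sympForm m F w (S.J *ᵥ a)) with hκdef
  have hκ : κ ≠ 0 := by
    intro h0
    apply S.nsq (sympForm m F w (S.J *ᵥ a) / sympForm m F w a)
    rw [hκdef] at h0
    field_simp
    field_simp at h0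
    linear_combination -h0
  have h8 : (8 : F) ≠ 0 := by
    have : (8 : F) = 2 * 2 * 2 := by norm_num
    rw [this]
    exact mul_ne_zero (mul_ne_zero h2 h2) h2
  intro c
  -- the unitary transvection `h`
  set μ : F := -c / (8 * κ) with hμdef
  set h : GL (Fin m ⊕ Fin m) F := S.Ua a μ with hhdef
  have hhSp : h ∈ spGL m F := S.Ua_mem a μ
  have hhM : h ∈ M := hM _ hhSp (Ua_comm S a μ hNa)
  have hhx : (h : 𝕄) *ᵥ x = x := by
    rw [hhdef, Ua_mulVec S a x μ hNa, hxa, hxJa]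
    simp
  have hhw : (h : 𝕄) *ᵥ w = w + μ • (sympForm m F w a • a
      - (S.δ⁻¹ * sympForm m F w (S.J *ᵥ a)) • (S.J *ᵥ a)) := by
    rw [hhdef, Ua_mulVec S a w μ hNa]
  set Y' : GL (Fin m ⊕ Fin m) F := h * Y * h⁻¹ with hY'def
  have hY'M : Y' ∈ M := M.mul_mem (M.mul_mem hhM hYM) (M.inv_mem hhM)
  have hY' : ∀ u, (Y' : 𝕄) *ᵥ u = u + (2 : F) • (sympForm m F u ((h : 𝕄) *ᵥ w) • x
      + sympForm m F u x • ((h : 𝕄) *ᵥ w)) := by
    intro u
    have := conj_siegel_mulVec hhSp x w 2 hY u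
    rw [hhx] at this
    exact this
  have hxhw : sympForm m F x ((h : 𝕄) *ᵥ w) = 0 := by
    have := mem_spGL.mp hhSp x w
    rw [hhx] at this
    rw [this, hxw]
  have hcomm := comm_siegel x w ((h : 𝕄) *ᵥ w) 2 2 hxw hxhw Y Y' hY hY'
  have hval : 2 * 2 * 2 * sympForm m F ((h : 𝕄) *ᵥ w) w = c := by
    rw [hhw]
    have haw : sympForm m F a w = - sympForm m F w a := sympForm_swap m a w
    have hJaw : sympForm m F (S.J *ᵥ a) w = - sympForm m F w (S.J *ᵥ a) := sympForm_swap m _ w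
    simp only [sympForm_add_left, sympForm_sub_left, sympForm_smul_left, sympForm_self, haw, hJaw]
    have e : 2 * 2 * 2 * (0 + μ * (sympForm m F w a * -sympForm m F w a
        - S.δ⁻¹ * sympForm m F w (S.J *ᵥ a) * -sympForm m F w (S.J *ᵥ a))) = -(8 * κ) * μ := by
      rw [hκdef]; ring
    rw [e, hμdef]
    field_simp
  rw [← hval, ← hcomm]
  exact M.mul_mem (M.mul_mem (M.mul_mem hYM hY'M) (M.inv_mem hYM)) (M.inv_mem hY'M)

end Cfsg.Agent.Lib.Helper12.C3Leaf
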