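import Mathlib
import Cfsg.Prelude.Def_ClassicalGeometry
import Cfsg.Prelude.Def_GeometricClasses
import Cfsg.Agent.Lib.Helper5.SpMax
import Cfsg.Agent.Lib.Helper22.C3Defs
import Cfsg.Agent.Lib.Helper23.C3E
import Cfsg.Agent.Lib.Helper12.C3Acore

/-! S5665 leaf C3A with the exact signature of `notes/S5665_leaves.lean`. -/

set_option autoImplicit false
set_option linter.unusedSectionVars false
set_option linter.unusedVariables false
set_option linter.unusedSimpArgs false

namespace Cfsg.Agent.Lib.Helper12.C3Leaf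
open Cfsg Matrix Cfsg.Agent.Lib.Helper5 Cfsg.Agent.Lib.Helper5.SpMax Cfsg.Agent.Lib.Helper22.C3

variable {F : Type*} [Field F] {m : ℕ}

local notation "𝕍" => (Fin m ⊕ Fin m → F)
local notation "𝕄" => Matrix (Fin m ⊕ Fin m) (Fin m ⊕ Fin m) F

/-- A. If `M` contains the commuting part of `H` and the involution of a plane `P = ⟨x, y⟩` which
contains the non-singular `x` but not `J x`, then all transvections with centre `x` are in `M`. -/
theorem mem_Sset_of_plane [Fintype F] (S : CS m F) (hm : 7 ≤ m) (h2 : (2 : F) ≠ 0)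
    (M : Subgroup (GL (Fin m ⊕ Fin m) F)) (hMS : M ≤ spGL m F)
    (hM : ∀ g ∈ spGL m F, (g : 𝕄) * S.J = S.J * (g : 𝕄) → g ∈ M)
    (x y : 𝕍) (hxy : sympForm m F x y = 1) (hz : zpl x y hxy ∈ M) (hx : S.N x ≠ 0)
    (hJx : S.J *ᵥ x ∉ Submodule.span F {x, y}) : x ∈ Sset M :=
  mem_Sset_of_plane_core S h2
    (fun x w hx hw hwx hwJx =>
      Cfsg.Agent.Lib.Helper23.C3Leaf.exists_sing S hm h2 x w hx hw hwx hwJx)
    M hMS hM x y hxy hz hx hJx

end Cfsg.Agent.Lib.Helper12.C3Leaf
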