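import Mathlib
import Cfsg.Prelude.Def_ClassicalGeometry
import Cfsg.Prelude.Def_GeometricClasses
import Cfsg.Agent.Lib.Helper5.NDMax
import Cfsg.Agent.Lib.Helper25.OmegaNonMax
import Cfsg.Agent.Lib.Helper1.C3ODefs
import Cfsg.Agent.Lib.Helper1.C3OCalc
import Cfsg.Agent.Lib.Helper12.C3OC
import Cfsg.Agent.Lib.Lead.C3OG123

/-!
helper12, S5700 (helper1's market), leaf **C** `eq_comb_of_line_invariant`, EXACT signature
(core form of `C3OC` + the lead's real G1).
-/

set_option autoImplicit false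
set_option linter.unusedSectionVars false
set_option linter.unusedVariables false

namespace Cfsg.Agent.Lib.Helper12.C3OLeaf
open Module QuadraticMap Matrix Cfsg.Agent.Lib.Helper25.CD Cfsg.Agent.Lib.Helper25.Spin
  Cfsg.Agent.Lib.Helper25.Fam Cfsg.Agent.Lib.Helper25.Siegel
  Cfsg.Agent.Lib.Helper25.PS Cfsg.Agent.Lib.Helper25.OGeom Cfsg.Agent.Lib.Helper15
  Cfsg.Agent.Lib.Helper5.TSMax Cfsg.Agent.Lib.Helper5.NSMax Cfsg.Agent.Lib.Helper5.PairMax
  Cfsg.Agent.Lib.Helper5.NDMax Cfsg.Agent.Lib.Helper1.C3O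

variable {ι : Type} [Fintype ι] [DecidableEq ι] {F : Type*} [Field F] [Fintype F]
  {Q : QuadraticForm F (ι → F)}

/-- the lead's G1 in the packaged form -/
theorem hypPerpList (hQ : (polarBilin Q).Nondegenerate) : HypPerpList Q :=
  fun l hl => Cfsg.Agent.Lib.Lead.C3OLeaf.exists_hyp_perp_list hQ l hl

/-- **C** (Lemma C), exact signature -/
theorem eq_comb_of_line_invariant (hQ : (polarBilin Q).Nondegenerate)
    (hn : 13 ≤ Fintype.card ι) {t ν : F} {J : Matrix ι ι F} (hJ : CS Q t ν J)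
    (J₁ : Matrix ι ι F) (h : ∀ a : ι → F, Q a = 0 → KL J a (J₁ *ᵥ a)) :
    ∃ s r : F, J₁ = s • (1 : Matrix ι ι F) + r • J :=
  eq_comb_of_line_invariant_core hQ hn (hypPerpList hQ) hJ J₁ h

end Cfsg.Agent.Lib.Helper12.C3OLeaf
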