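import Mathlib
import Cfsg.Prelude.Def_ClassicalGeometry
import Cfsg.Prelude.Def_GeometricClasses
import Cfsg.Agent.Lib.Helper5.NDMax
import Cfsg.Agent.Lib.Helper25.OmegaNonMax
import Cfsg.Agent.Lib.Helper1.C3ODefs
import Cfsg.Agent.Lib.Helper1.C3OCalc
import Cfsg.Agent.Lib.Helper12.C3OGS
import Cfsg.Agent.Lib.Helper12.C3OCX
import Cfsg.Agent.Lib.Lead.C3OG123
import Cfsg.Agent.Lib.Helper20.C3OSC
import Cfsg.Agent.Lib.Helper20.C3OF4
import Cfsg.Agent.Lib.Helper20.C3OG45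
import Cfsg.Agent.Lib.Helper27.C3OCore

/-!
helper12, S5700 (helper1's market), leaf **GS** `good_spread`, EXACT signature
(core form of `C3OGS` + real G1 (lead), SC / F4 / G4 / G5 (helper20), G3 (lead), core CG (helper27)).
-/

set_option autoImplicit false
set_option linter.unusedSectionVars false
set_option linter.unusedVariables false

namespace Cfsg.Agent.Lib.Helper12.C3OLeaf
open Module QuadraticMap Matrix Cfsg.Agent.Lib.Helper25.CD Cfsg.Agent.Lib.Helper25.Spin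
  Cfsg.Agent.Lib.Helper25.Fam Cfsg.Agent.Lib.Helper25.Siegel
  Cfsg.Agent.Lib.Helper25.PS Cfsg.Agent.Lib.Helper25.OGeom Cfsg.Agent.Lib.Helper15
  Cfsg.Agent.Lib.Helper5.TSMax Cfsg.Agent.Lib.Helper5.NSMax Cfsg.Agent.Lib.Helper5.PairMax
  Cfsg.Agent.Lib.Helper5.NDMax Cfsg.Agent.Lib.Helper1.C3O

variable {ι : Type} [Fintype ι] [DecidableEq ι] {F : Type*} [Field F] [Fintype F]
  {Q : QuadraticForm F (ι → F)}

/-- leaf **CG** `core_good` with its exact signature, from helper27's core form and the real F4, G3, G4, G5 -/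
theorem core_good_real (hQ : (polarBilin Q).Nondegenerate) (hn : 13 ≤ Fintype.card ι) {t ν : F}
    {J J' : Matrix ι ι F} (hJ : CS Q t ν J) (hJ' : CS Q t ν J')
    {M : Subgroup ↥(Cfsg.isometryGroup F ⇑Q)} (hA : Adm Q M J) (hA' : Adm Q M J') {u : ι → F}
    (hu0 : u ≠ 0) (hu : Q u = 0) (hnot : ¬ KL J u (J' *ᵥ u)) : Good Q M (mk' Q u hu0 hu) :=
  Cfsg.Agent.Lib.Helper27.C3OCore.core_good_of
    (fun hu hu' huu' h h' huy hu'y' hyu' hy'u hyy' =>
      Cfsg.Agent.Lib.Helper20.C3OLeaf.inA_comm hu hu' huu' h h' huy hu'y' hyu' hy'u hyy')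
    (fun l hl N hN _ hx =>
      Cfsg.Agent.Lib.Lead.C3OLeaf.mem_span_sing_perp_not_mem hQ hn l hl N hN hx)
    (fun l _ hz => Cfsg.Agent.Lib.Helper20.C3OLeaf.exists_perp_list_ne hQ l hz)
    (fun l N h => Cfsg.Agent.Lib.Helper20.C3OLeaf.exists_perp_list_not_mem hQ l N h)
    hn hJ hJ' hA hA' hu0 hu hnot

/-- **GS**, exact signature -/
theorem good_spread (hQ : (polarBilin Q).Nondegenerate) (hn : 13 ≤ Fintype.card ι) {t ν : F}
    {J : Matrix ι ι F} (hJ : CS Q t ν J) {M : Subgroup ↥(Cfsg.isometryGroup F ⇑Q)}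
    (hA : Adm Q M J) {u v : ι → F} (hu0 : u ≠ 0) (hu : Q u = 0) (hv0 : v ≠ 0) (hv : Q v = 0)
    (hG : Good Q M (mk' Q u hu0 hu)) (hb : polar Q u v ≠ 0) : Good Q M (mk' Q v hv0 hv) :=
  good_spread_core hn (hypPerpList hQ) hJ
    (fun hu hy hy0 hb h1 h2 h3 h4 m hm =>
      Cfsg.Agent.Lib.Helper20.C3OLeaf.spread_calc hJ hu hy hy0 hb h1 h2 h3 h4 m hm)
    (fun hJ' hA' _ hu0 hu hnot => core_good_real hQ hn hJ hJ' hA hA' hu0 hu hnot)
    hA hu0 hu hv0 hv hG hb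

end Cfsg.Agent.Lib.Helper12.C3OLeaf
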