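import Mathlib
import Cfsg.Agent.Lib.Helper12.SpA
import Cfsg.Agent.Lib.Helper15.SymIso

/-! Helper12 library (C3Sp, part A): an alternating `F`-bilinear form `B` on a space `V` which is
also a vector space over an extension field `E` of `F`, all of whose scalars are self-adjoint for
`B`, is the trace of an alternating `E`-bilinear form. -/

set_option autoImplicit false

namespace Cfsg.Agent.Lib.Helper12.C3Sp

open Module

section trform

variable {F E V : Type*} [Field F] [Field E] [Algebra F E] [FiniteDimensional F E]
  [Algebra.IsSeparable F E]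
  [AddCommGroup V] [Module F V] [Module E V] [IsScalarTower F E V]
  (B : LinearMap.BilinForm F V)

/-- the functional `a ↦ B (a • u) v` -/
def ell (u v : V) : E →ₗ[F] F where
  toFun a := B (a • u) v
  map_add' a b := by rw [add_smul, map_add, LinearMap.add_apply]
  map_smul' c a := by
    rw [smul_assoc, map_smul, LinearMap.smul_apply]
    rfl

omit [FiniteDimensional F E] [Algebra.IsSeparable F E] in
theorem ell_apply (u v : V) (a : E) : ell B u v a = B (a • u) v := rfl

/-- the value of the `E`-form: the element representing `ell B u v` through the trace form -/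
noncomputable def trVal (u v : V) : E :=
  ((Algebra.traceForm F E).toDual (traceForm_nondegenerate F E)).symm (ell B u v)

theorem trace_mul_trVal (u v : V) (a : E) :
    Algebra.trace F E (a * trVal B u v) = B (a • u) v := by
  have h := LinearMap.BilinForm.apply_toDual_symm_apply (B := Algebra.traceForm F E)
    (hB := traceForm_nondegenerate F E) (ell B u v) a
  rw [Algebra.traceForm_apply] at h
  rw [mul_comm]
  exact h

theorem trVal_unique (u v : V) (c : E) (h : ∀ a : E, Algebra.trace F E (a * c) = B (a • u) v) :
    trVal B u v = c := by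
  have hnd := traceForm_nondegenerate F E
  have h1 : ∀ a : E, Algebra.traceForm F E (trVal B u v - c) a = 0 := by
    intro a
    rw [Algebra.traceForm_apply, sub_mul, map_sub, mul_comm, trace_mul_trVal, mul_comm, h,
      sub_self]
  have h2 := hnd.1 (trVal B u v - c) h1
  exact sub_eq_zero.1 h2

/-- the `E`-bilinear form with trace `B` -/
noncomputable def trForm (hsa : ∀ (a : E) (u v : V), B (a • u) v = B u (a • v)) :
    LinearMap.BilinForm E V :=
  LinearMap.mk₂ E (trVal B)
    (fun u u' v => by
      apply trVal_unique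
      intro a
      rw [mul_add, map_add, trace_mul_trVal, trace_mul_trVal, smul_add, map_add,
        LinearMap.add_apply])
    (fun b u v => by
      apply trVal_unique
      intro a
      rw [smul_eq_mul, ← mul_assoc, trace_mul_trVal, mul_smul])
    (fun u v v' => by
      apply trVal_unique
      intro a
      rw [mul_add, map_add, trace_mul_trVal, trace_mul_trVal, map_add])
    (fun b u v => by
      apply trVal_unique
      intro a
      rw [smul_eq_mul, ← mul_assoc, trace_mul_trVal, mul_smul, ← hsa, smul_comm])

theorem trForm_apply (hsa : ∀ (a : E) (u v : V), B (a • u) v = B u (a • v)) (u v : V) :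
    trForm B hsa u v = trVal B u v := rfl

theorem trace_mul_trForm (hsa : ∀ (a : E) (u v : V), B (a • u) v = B u (a • v)) (u v : V)
    (a : E) : Algebra.trace F E (a * trForm B hsa u v) = B (a • u) v :=
  trace_mul_trVal B u v a

theorem trace_trForm (hsa : ∀ (a : E) (u v : V), B (a • u) v = B u (a • v)) (u v : V) :
    Algebra.trace F E (trForm B hsa u v) = B u v := by
  have h := trace_mul_trForm B hsa u v 1
  rwa [one_mul, one_smul] at h

theorem trForm_alt (hsa : ∀ (a : E) (u v : V), B (a • u) v = B u (a • v))
    (halt : ∀ (a : E) (v : V), B (a • v) v = 0) (v : V) : trForm B hsa v v = 0 := by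
  rw [trForm_apply]
  apply trVal_unique
  intro a
  rw [mul_zero, map_zero, halt]

theorem trForm_nd (hsa : ∀ (a : E) (u v : V), B (a • u) v = B u (a • v))
    (hnd : ∀ x, (∀ y, B x y = 0) → x = 0) (x : V) (hx : ∀ y, trForm B hsa x y = 0) : x = 0 := by
  apply hnd
  intro y
  rw [← trace_trForm B hsa, hx, map_zero]

theorem trForm_eq_zero_iff (hsa : ∀ (a : E) (u v : V), B (a • u) v = B u (a • v)) (u v : V) :
    trForm B hsa u v = 0 ↔ ∀ a : E, B (a • u) v = 0 := by
  constructor
  · intro h a
    rw [← trace_mul_trForm B hsa, h, mul_zero, map_zero]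
  · intro h
    rw [trForm_apply]
    apply trVal_unique
    intro a
    rw [mul_zero, map_zero, h]

/-- the `F`-isometries of `B` commuting with the scalars of `E` -/
def CIso : Set (V ≃ₗ[F] V) :=
  {g | (∀ u v, B (g u) (g v) = B u v) ∧ ∀ (a : E) (v : V), g (a • v) = a • g v}

/-- `E`-isometries of the trace form are the `F`-isometries commuting with `E` -/
noncomputable def ogEquiv (hsa : ∀ (a : E) (u v : V), B (a • u) v = B u (a • v)) :
    Cfsg.Agent.Lib.Helper15.SymIso.Og (trForm B hsa) ≃ CIso (E := E) B where
  toFun h := ⟨h.1.restrictScalars F, by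
    constructor
    · intro u v
      show B (h.1 u) (h.1 v) = B u v
      rw [← trace_trForm B hsa, h.2, trace_trForm]
    · intro a v
      exact h.1.map_smul a v⟩
  invFun g :=
    ⟨{ g.1 with
        map_smul' := fun a v => g.2.2 a v }, by
      intro u v
      show trForm B hsa (g.1 u) (g.1 v) = trForm B hsa u v
      rw [trForm_apply, trForm_apply]
      apply trVal_unique
      intro a
      rw [trace_mul_trVal, ← g.2.2, g.2.1]⟩
  left_inv h := by
    apply Subtype.ext
    apply LinearEquiv.ext
    intro v
    rfl
  right_inv g := by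
    apply Subtype.ext
    apply LinearEquiv.ext
    intro v
    rfl

theorem card_cIso [Fintype E] [FiniteDimensional E V]
    (hsa : ∀ (a : E) (u v : V), B (a • u) v = B u (a • v))
    (halt : ∀ (a : E) (v : V), B (a • v) v = 0) (hnd : ∀ x, (∀ y, B x y = 0) → x = 0)
    (n : ℕ) (hn : 2 * n = finrank E V) :
    Nat.card (CIso (E := E) B) =
      Fintype.card E ^ (n ^ 2) * ∏ i ∈ Finset.range n, (Fintype.card E ^ (2 * (i + 1)) - 1) := by
  rw [← Nat.card_congr (ogEquiv B hsa),
    Cfsg.Agent.Lib.Helper15.SymIso.card_Og_alt V (trForm B hsa) (trForm_alt B hsa halt)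
      (trForm_nd B hsa hnd) n hn, Cfsg.Agent.Lib.Helper14.card_symplectic]

end trform

section inv

variable {F E V : Type*} [Field F] [Field E] [Algebra F E]
  [AddCommGroup V] [Module F V] [Module E V] [IsScalarTower F E V]

/-- an `F`-subspace closed under the scalars of `E`, as an `E`-subspace -/
def eSub (U : Submodule F V) (hU : ∀ (a : E), ∀ u ∈ U, a • u ∈ U) : Submodule E V where
  carrier := U
  add_mem' := U.add_mem
  zero_mem' := U.zero_mem
  smul_mem' a u hu := hU a u hu

omit [Algebra F E] [IsScalarTower F E V] in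
theorem mem_eSub (U : Submodule F V) (hU : ∀ (a : E), ∀ u ∈ U, a • u ∈ U) (v : V) :
    v ∈ eSub U hU ↔ v ∈ U := Iff.rfl

theorem finrank_eSub (U : Submodule F V) (hU : ∀ (a : E), ∀ u ∈ U, a • u ∈ U) :
    finrank F U = finrank F E * finrank E (eSub U hU) := by
  rw [Module.finrank_mul_finrank F E (eSub U hU)]
  let e : U ≃ₗ[F] (eSub U hU) :=
    { toFun := fun x => ⟨x.1, x.2⟩
      invFun := fun x => ⟨x.1, x.2⟩
      map_add' := fun _ _ => rfl
      map_smul' := fun _ _ => rfl
      left_inv := fun _ => rfl
      right_inv := fun _ => rfl }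
  exact e.finrank_eq

theorem dvd_finrank_of_invariant (U : Submodule F V) (hU : ∀ (a : E), ∀ u ∈ U, a • u ∈ U) :
    finrank F E ∣ finrank F U := by
  rw [finrank_eSub U hU]
  exact dvd_mul_right _ _

theorem finrank_top_eq : finrank F V = finrank F E * finrank E V :=
  (Module.finrank_mul_finrank F E V).symm

end inv

section inv2

variable {F E V : Type*} [Field F] [Field E] [Algebra F E] [FiniteDimensional F E]
  [Algebra.IsSeparable F E]
  [AddCommGroup V] [Module F V] [Module E V] [IsScalarTower F E V] [FiniteDimensional E V]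
  (B : LinearMap.BilinForm F V)

theorem two_mul_dvd_finrank_of_ndOn (hsa : ∀ (a : E) (u v : V), B (a • u) v = B u (a • v))
    (halt : ∀ (a : E) (v : V), B (a • v) v = 0)
    (U : Submodule F V) (hU : ∀ (a : E), ∀ u ∈ U, a • u ∈ U)
    (hnd : Cfsg.Agent.Lib.Helper12.Sp.NdOn B U) : 2 * finrank F E ∣ finrank F U := by
  have h1 : Cfsg.Agent.Lib.Helper12.Sp.NdOn (trForm B hsa) (eSub U hU) := by
    intro u hu hu0
    obtain ⟨v, hv, hne⟩ := hnd u hu hu0
    refine ⟨v, hv, fun h0 => hne ?_⟩
    rw [← trace_trForm B hsa, h0, map_zero]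
  obtain ⟨m, hm⟩ := Cfsg.Agent.Lib.Helper12.Sp.even_finrank_of_ndOn (trForm B hsa)
    (trForm_alt B hsa halt) (eSub U hU) h1
  rw [finrank_eSub U hU, hm]
  exact ⟨m, by ring⟩

end inv2

end Cfsg.Agent.Lib.Helper12.C3Sp
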