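import Mathlib
import Cfsg.Agent.Lib.Helper12.C3SpA

/-! Helper12 library (C3Sp, part B): semilinear maps over an extension of prime degree: the fixed
space of a properly semilinear map is small; automorphisms of order prime to the degree are
trivial. -/

set_option autoImplicit false

namespace Cfsg.Agent.Lib.Helper12.C3Sp

open Module Cfsg.Agent.Lib.Helper12.Elus

section semilinear

variable {F E V : Type*} [Field F] [Field E] [Algebra F E]
  [AddCommGroup V] [Module F V] [Module E V] [IsScalarTower F E V]

/-- elements fixed by a nontrivial automorphism of an extension of prime degree are in the base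
field -/
theorem fixed_mem_range (hp : (finrank F E).Prime) (σ : E →ₐ[F] E) (hσ : ∃ a, σ a ≠ a) (a : E)
    (ha : σ a = a) : ∃ c : F, algebraMap F E c = a := by
  have := Subalgebra.isSimpleOrder_of_finrank_prime F E hp
  rcases eq_bot_or_eq_top (AlgHom.equalizer σ (AlgHom.id F E)) with h | h
  · have h1 : a ∈ AlgHom.equalizer σ (AlgHom.id F E) := by
      rw [AlgHom.mem_equalizer]
      exact ha
    rw [h, Algebra.mem_bot] at h1
    exact h1
  · exfalso
    obtain ⟨b, hb⟩ := hσ
    apply hb
    have h1 : b ∈ AlgHom.equalizer σ (AlgHom.id F E) := by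
      rw [h]
      exact Algebra.mem_top
    rw [AlgHom.mem_equalizer] at h1
    exact h1

/-- fixed vectors of a properly semilinear map which are independent over `F` are independent
over `E` -/
theorem li_of_fixed (hp : (finrank F E).Prime) (σ : E →ₐ[F] E) (hσ : ∃ a, σ a ≠ a)
    (g : V →ₗ[F] V) (hg : ∀ (a : E) (v : V), g (a • v) = σ a • g v) :
    ∀ (n : ℕ) (w : Fin n → V), (∀ i, g (w i) = w i) → LinearIndependent F w →
      LinearIndependent E w := by
  intro n
  induction n with
  | zero =>
    intro w _ _
    exact linearIndependent_empty_type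
  | succ n ih =>
    intro w hw hli
    rw [linearIndependent_finSucc] at hli ⊢
    obtain ⟨hli1, hli2⟩ := hli
    have hE := ih (Fin.tail w) (fun i => hw i.succ) hli1
    refine ⟨hE, fun hmem => hli2 ?_⟩
    rw [Submodule.mem_span_range_iff_exists_fun] at hmem ⊢
    obtain ⟨c, hc⟩ := hmem
    have h1 : ∑ i, σ (c i) • Fin.tail w i = w 0 := by
      have := congrArg g hc
      rw [map_sum, hw 0] at this
      rw [← this]
      apply Finset.sum_congr rfl
      intro i _
      rw [hg]
      show _ = σ (c i) • g (w i.succ)
      rw [hw]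
      rfl
    have h2 : ∑ i, (σ (c i) - c i) • Fin.tail w i = 0 := by
      simp only [sub_smul, Finset.sum_sub_distrib]
      rw [h1, hc, sub_self]
    have h3 := (Fintype.linearIndependent_iff.1 hE) _ h2
    have h4 : ∀ i, ∃ c' : F, algebraMap F E c' = c i := fun i =>
      fixed_mem_range hp σ hσ (c i) (sub_eq_zero.1 (h3 i))
    choose c' hc' using h4
    refine ⟨c', ?_⟩
    rw [← hc]
    apply Finset.sum_congr rfl
    intro i _
    rw [← hc', algebraMap_smul]

/-- the fixed space of a properly semilinear map has `F`-dimension at most `dim_E V` -/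
theorem finrank_fix_le [FiniteDimensional F V] [FiniteDimensional E V]
    (hp : (finrank F E).Prime) (σ : E →ₐ[F] E)
    (hσ : ∃ a, σ a ≠ a) (g : V →ₗ[F] V) (hg : ∀ (a : E) (v : V), g (a • v) = σ a • g v) :
    finrank F (fixE g) ≤ finrank E V := by
  let b := Module.finBasis F (fixE g)
  have h1 : LinearIndependent F (fun i => ((b i : fixE g) : V)) := by
    have := b.linearIndependent
    exact this.map' (fixE g).subtype (Submodule.ker_subtype _)
  have h2 := li_of_fixed hp σ hσ g hg _ (fun i => ((b i : fixE g) : V))
    (fun i => (mem_fixE g _).1 (b i).2) h1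
  have h3 := h2.fintype_card_le_finrank
  rwa [Fintype.card_fin] at h3

end semilinear

section aut

variable {F E : Type*} [Field F] [Field E] [Finite E] [Algebra F E]

/-- an automorphism of order dividing `r` of an extension of degree prime to `r` is trivial -/
theorem aut_eq_one (r : ℕ) (hr : (finrank F E).Coprime r) (σ : E ≃ₐ[F] E) (hσ : σ ^ r = 1) :
    σ = 1 := by
  have h1 : orderOf σ ∣ r := orderOf_dvd_of_pow_eq_one hσ
  have h2 : orderOf σ ∣ finrank F E := by
    rw [← IsGalois.card_aut_eq_finrank F E]
    exact orderOf_dvd_natCard σ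
  have h3 : orderOf σ = 1 := Nat.eq_one_of_dvd_coprimes hr h2 h1
  exact orderOf_eq_one_iff.1 h3

end aut

end Cfsg.Agent.Lib.Helper12.C3Sp
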