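import Mathlib
import Cfsg.Prelude.Def_GeometricClasses
import Cfsg.Agent.Lib.Helper12.C3SpB
import Cfsg.Agent.Lib.Helper12.SpG

/-! Helper12 library (C3Sp, part C): a field subalgebra of a matrix algebra as an abstract field
acting on the column space; the centralizer of a self-adjoint field subalgebra in the symplectic
group and its order. -/

set_option autoImplicit false
set_option linter.style.haveILetI false

namespace Cfsg.Agent.Lib.Helper12.C3Sp

open Module Matrix Cfsg.Agent.Lib.Helper12.Elus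

section model

universe u

variable {F : Type u} [Field F] {ι : Type} [Fintype ι] [DecidableEq ι]

theorem isField_of_sub (k : ℕ) (hk : 0 < k) (K : Subalgebra F (Matrix ι ι F))
    (hK : Cfsg.Geo.IsFieldSubalgebra k K) : IsField ↥K := by
  refine ⟨⟨0, 1, ?_⟩, ?_, ?_⟩
  · intro h
    have h1 : Subsingleton ↥K := by
      refine ⟨fun a b => ?_⟩
      rw [← mul_one a, ← mul_one b, ← h, mul_zero, mul_zero]
    have h2 : finrank F ↥K = 0 := Module.finrank_zero_of_subsingleton
    rw [hK.finrank_eq] at h2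
    omega
  · intro a b
    exact Subtype.ext (hK.comm a.1 a.2 b.1 b.2)
  · intro a ha
    obtain ⟨y, hy, hxy⟩ := hK.inv a.1 a.2 (fun h => ha (Subtype.ext h))
    exact ⟨⟨y, hy⟩, Subtype.ext hxy⟩

/-- a field subalgebra is the image of an abstract extension field -/
theorem exists_field_model (k : ℕ) (hk : 0 < k) (K : Subalgebra F (Matrix ι ι F))
    (hK : Cfsg.Geo.IsFieldSubalgebra k K) :
    ∃ (E : Type u) (_ : Field E) (_ : Algebra F E) (ρ : E →ₐ[F] Matrix ι ι F),
      ρ.range = K ∧ finrank F E = k := by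
  let fE : Field ↥K := (isField_of_sub k hk K hK).toField
  refine ⟨↥K, fE, (Subalgebra.algebra K : @Algebra F ↥K _ fE.toSemiring), ?_, ?_, ?_⟩
  · exact K.val
  · exact K.range_val
  · exact hK.finrank_eq

variable {E : Type*} [Field E] [Algebra F E]

/-- The ring hom `E → End_F(F^ι)` induced by an algebra hom into matrices. -/
noncomputable def endHom (ρ : E →ₐ[F] Matrix ι ι F) : E →+* Module.End F (ι → F) :=
  ((Matrix.toLinAlgEquiv' : Matrix ι ι F ≃ₐ[F] Module.End F (ι → F)).toAlgHom.comp ρ).toRingHom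

theorem endHom_apply (ρ : E →ₐ[F] Matrix ι ι F) (x : E) (v : ι → F) :
    endHom ρ x v = (ρ x) *ᵥ v := by
  simp [endHom, Matrix.toLinAlgEquiv'_apply]

/-- The `E`-module structure on `F^ι`. -/
@[reducible] noncomputable def modOf (ρ : E →ₐ[F] Matrix ι ι F) : Module E (ι → F) :=
  Module.compHom (ι → F) (endHom ρ)

theorem smul_def (ρ : E →ₐ[F] Matrix ι ι F) (x : E) (v : ι → F) :
    (letI := modOf ρ; x • v) = (ρ x) *ᵥ v := by
  letI := modOf ρ
  change endHom ρ x v = _
  exact endHom_apply ρ x v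

theorem isScalarTower (ρ : E →ₐ[F] Matrix ι ι F) :
    letI := modOf ρ; IsScalarTower F E (ι → F) := by
  letI := modOf ρ
  refine ⟨fun c x v => ?_⟩
  rw [smul_def, smul_def, map_smul, Matrix.smul_mulVec]

/-- `GL` as linear equivalences of the column space -/
noncomputable def glLin : GL ι F ≃* ((ι → F) ≃ₗ[F] (ι → F)) :=
  Matrix.GeneralLinearGroup.toLin.trans (LinearMap.GeneralLinearGroup.generalLinearEquiv F (ι → F))

theorem glLin_apply (g : GL ι F) (v : ι → F) : glLin g v = (g : Matrix ι ι F) *ᵥ v := by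
  simp [glLin]

theorem glLin_coe (g : GL ι F) :
    ((glLin g : (ι → F) ≃ₗ[F] (ι → F)) : (ι → F) →ₗ[F] (ι → F)) =
      Matrix.toLin' (g : Matrix ι ι F) := by
  apply LinearMap.ext
  intro v
  rw [Matrix.toLin'_apply]
  exact glLin_apply g v

/-- the centralizer of a subalgebra in `GL` -/
def centK (K : Subalgebra F (Matrix ι ι F)) : Subgroup (GL ι F) where
  carrier := {g | ∀ a ∈ K, (g : Matrix ι ι F) * a = a * (g : Matrix ι ι F)}
  mul_mem' := by
    intro g h hg hh a ha
    rw [Units.val_mul, mul_assoc, hh a ha, ← mul_assoc, hg a ha, mul_assoc]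
  one_mem' := by
    intro a _
    rw [Units.val_one, one_mul, mul_one]
  inv_mem' := by
    intro g hg a ha
    have h1 := hg a ha
    have h2 : ((g⁻¹ : GL ι F) : Matrix ι ι F) * (g : Matrix ι ι F) = 1 := by
      rw [← Units.val_mul, inv_mul_cancel, Units.val_one]
    have h3 : (g : Matrix ι ι F) * ((g⁻¹ : GL ι F) : Matrix ι ι F) = 1 := by
      rw [← Units.val_mul, mul_inv_cancel, Units.val_one]
    calc ((g⁻¹ : GL ι F) : Matrix ι ι F) * a
        = ((g⁻¹ : GL ι F) : Matrix ι ι F) * a * ((g : Matrix ι ι F) *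
            ((g⁻¹ : GL ι F) : Matrix ι ι F)) := by rw [h3, mul_one]
      _ = ((g⁻¹ : GL ι F) : Matrix ι ι F) * (a * (g : Matrix ι ι F)) *
            ((g⁻¹ : GL ι F) : Matrix ι ι F) := by simp only [mul_assoc]
      _ = ((g⁻¹ : GL ι F) : Matrix ι ι F) * ((g : Matrix ι ι F) * a) *
            ((g⁻¹ : GL ι F) : Matrix ι ι F) := by rw [h1]
      _ = (((g⁻¹ : GL ι F) : Matrix ι ι F) * (g : Matrix ι ι F)) * a *
            ((g⁻¹ : GL ι F) : Matrix ι ι F) := by simp only [mul_assoc]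
      _ = a * ((g⁻¹ : GL ι F) : Matrix ι ι F) := by rw [h2, one_mul]

theorem mem_centK (K : Subalgebra F (Matrix ι ι F)) (g : GL ι F) :
    g ∈ centK K ↔ ∀ a ∈ K, (g : Matrix ι ι F) * a = a * (g : Matrix ι ι F) := Iff.rfl

theorem centK_le (K : Subalgebra F (Matrix ι ι F)) :
    centK K ≤ Cfsg.Geo.subalgebraNormalizer K := by
  intro g hg a
  have h3 : (g : Matrix ι ι F) * ((g⁻¹ : GL ι F) : Matrix ι ι F) = 1 := by
    rw [← Units.val_mul, mul_inv_cancel, Units.val_one]
  have h2 : ((g⁻¹ : GL ι F) : Matrix ι ι F) * (g : Matrix ι ι F) = 1 := by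
    rw [← Units.val_mul, inv_mul_cancel, Units.val_one]
  constructor
  · intro ha
    rw [hg a ha, mul_assoc, h3, mul_one]
    exact ha
  · intro ha
    have h1 := (centK K).inv_mem hg _ ha
    have h4 : a = ((g⁻¹ : GL ι F) : Matrix ι ι F) *
        ((g : Matrix ι ι F) * a * ((g⁻¹ : GL ι F) : Matrix ι ι F)) * (g : Matrix ι ι F) := by
      simp only [mul_assoc]
      rw [h2, mul_one, ← mul_assoc, h2, one_mul]
    rw [h4, h1, mul_assoc, h2, mul_one]
    exact ha

end model

section card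

universe u

variable {F : Type u} [Field F] [Fintype F] (d : ℕ) {E : Type*} [Field E] [Algebra F E]
  [FiniteDimensional F E]

omit [Fintype F] in
theorem mem_spGL' (g : GL (Fin d ⊕ Fin d) F) : g ∈ Cfsg.spGL d F ↔
    ∀ u v, Cfsg.sympForm d F ((g : Matrix (Fin d ⊕ Fin d) (Fin d ⊕ Fin d) F) *ᵥ u)
      ((g : Matrix (Fin d ⊕ Fin d) (Fin d ⊕ Fin d) F) *ᵥ v) = Cfsg.sympForm d F u v := Iff.rfl

omit [Fintype F] [FiniteDimensional F E] in
theorem hsa_of (ρ : E →ₐ[F] Matrix (Fin d ⊕ Fin d) (Fin d ⊕ Fin d) F)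
    (hsa : ∀ (a : E) (u v : Fin d ⊕ Fin d → F),
      Cfsg.sympForm d F (ρ a *ᵥ u) v = Cfsg.sympForm d F u (ρ a *ᵥ v)) :
    letI := modOf ρ
    ∀ (a : E) (u v : Fin d ⊕ Fin d → F),
      Cfsg.Agent.Lib.Helper15.sympBilin d (a • u) v =
        Cfsg.Agent.Lib.Helper15.sympBilin d u (a • v) := by
  letI := modOf ρ
  intro a u v
  rw [Cfsg.Agent.Lib.Helper15.sympBilin_apply, Cfsg.Agent.Lib.Helper15.sympBilin_apply, smul_def,
    smul_def]
  exact hsa a u v

omit [Fintype F] [FiniteDimensional F E] in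
theorem halt_of (ρ : E →ₐ[F] Matrix (Fin d ⊕ Fin d) (Fin d ⊕ Fin d) F)
    (halt : ∀ (a : E) (v : Fin d ⊕ Fin d → F), Cfsg.sympForm d F (ρ a *ᵥ v) v = 0) :
    letI := modOf ρ
    ∀ (a : E) (v : Fin d ⊕ Fin d → F),
      Cfsg.Agent.Lib.Helper15.sympBilin d (a • v) v = 0 := by
  letI := modOf ρ
  intro a v
  rw [Cfsg.Agent.Lib.Helper15.sympBilin_apply, smul_def]
  exact halt a v

omit [Fintype F] in
theorem finrank_E_eq (ρ : E →ₐ[F] Matrix (Fin d ⊕ Fin d) (Fin d ⊕ Fin d) F) (n : ℕ)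
    (hn : d = finrank F E * n) :
    letI := modOf ρ
    2 * n = finrank E (Fin d ⊕ Fin d → F) := by
  letI := modOf ρ
  haveI := isScalarTower ρ
  have h1 := finrank_top_eq (F := F) (E := E) (V := Fin d ⊕ Fin d → F)
  rw [Cfsg.Agent.Lib.Helper12.Sp.std_finrank] at h1
  have hk : 0 < finrank F E := Module.finrank_pos
  have h2 : finrank F E * (2 * n) = finrank F E * finrank E (Fin d ⊕ Fin d → F) := by
    rw [← h1]
    have h3 : 2 * d = 2 * (finrank F E * n) := by rw [← hn]
    rw [h3]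
    ring
  exact Nat.eq_of_mul_eq_mul_left hk h2

omit [Fintype F] [FiniteDimensional F E] in
theorem mem_cent_iff (ρ : E →ₐ[F] Matrix (Fin d ⊕ Fin d) (Fin d ⊕ Fin d) F)
    (g : GL (Fin d ⊕ Fin d) F) :
    letI := modOf ρ
    g ∈ centK ρ.range ⊓ Cfsg.spGL d F ↔
      glLin g ∈ CIso (E := E) (Cfsg.Agent.Lib.Helper15.sympBilin d (F := F)) := by
  letI := modOf ρ
  rw [Subgroup.mem_inf, mem_centK, mem_spGL']
  constructor
  · rintro ⟨h1, h2⟩
    constructor
    · intro u v
      rw [Cfsg.Agent.Lib.Helper15.sympBilin_apply, Cfsg.Agent.Lib.Helper15.sympBilin_apply,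
        glLin_apply, glLin_apply]
      exact h2 u v
    · intro a v
      rw [glLin_apply, glLin_apply, smul_def, smul_def, Matrix.mulVec_mulVec, Matrix.mulVec_mulVec,
        h1 (ρ a) ⟨a, rfl⟩]
  · rintro ⟨h1, h2⟩
    constructor
    · rintro _ ⟨a, rfl⟩
      apply Matrix.toLin'.injective
      apply LinearMap.ext
      intro v
      have := h2 a v
      rw [glLin_apply, glLin_apply, smul_def, smul_def, Matrix.mulVec_mulVec,
        Matrix.mulVec_mulVec] at this
      rw [Matrix.toLin'_apply, Matrix.toLin'_apply]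
      exact this
    · intro u v
      have := h1 u v
      rw [Cfsg.Agent.Lib.Helper15.sympBilin_apply, Cfsg.Agent.Lib.Helper15.sympBilin_apply,
        glLin_apply, glLin_apply] at this
      exact this

/-- the order of the centralizer of a self-adjoint extension field in the symplectic group -/
theorem card_cent [Fintype E] (ρ : E →ₐ[F] Matrix (Fin d ⊕ Fin d) (Fin d ⊕ Fin d) F)
    (hsa : ∀ (a : E) (u v : Fin d ⊕ Fin d → F),
      Cfsg.sympForm d F (ρ a *ᵥ u) v = Cfsg.sympForm d F u (ρ a *ᵥ v))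
    (halt : ∀ (a : E) (v : Fin d ⊕ Fin d → F), Cfsg.sympForm d F (ρ a *ᵥ v) v = 0)
    (n : ℕ) (hn : d = finrank F E * n) :
    Nat.card ↥(centK ρ.range ⊓ Cfsg.spGL d F) =
      Fintype.card E ^ (n ^ 2) * ∏ i ∈ Finset.range n, (Fintype.card E ^ (2 * (i + 1)) - 1) := by
  letI := modOf ρ
  haveI := isScalarTower ρ
  rw [← card_cIso (E := E) (Cfsg.Agent.Lib.Helper15.sympBilin d (F := F)) (hsa_of d ρ hsa)
    (halt_of d ρ halt) (Cfsg.Agent.Lib.Helper12.Sp.stdB_nd d) n (finrank_E_eq d ρ n hn)]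
  exact Nat.card_congr (Equiv.subtypeEquiv glLin.toEquiv (fun g => mem_cent_iff d ρ g))

end card

end Cfsg.Agent.Lib.Helper12.C3Sp
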