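import Mathlib
import Cfsg.Prelude.Def_GeometricClasses
import Cfsg.Agent.Lib.Helper12.C3SpC
import Cfsg.Agent.Lib.Helper15.FieldExt

/-! Helper12 library (C3Sp, part D): the order of `spGL`, and the primes dividing the index of the
normalizer of a self-adjoint extension field in the symplectic group. -/

set_option autoImplicit false
set_option linter.style.haveILetI false

namespace Cfsg.Agent.Lib.Helper12.C3Sp

open Module Matrix Cfsg.Agent.Lib.Helper12.Elus

theorem prod_split (q k n : ℕ) (hk : 0 < k) :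
    ∏ i ∈ Finset.range (k * n), (q ^ (2 * (i + 1)) - 1) =
      (∏ i ∈ Finset.range n, ((q ^ k) ^ (2 * (i + 1)) - 1)) *
        ∏ i ∈ (Finset.range (k * n)).filter (fun i => ¬ k ∣ i + 1), (q ^ (2 * (i + 1)) - 1) := by
  rw [← Finset.prod_filter_mul_prod_filter_not (Finset.range (k * n)) (fun i => k ∣ i + 1)]
  congr 1
  symm
  apply Finset.prod_nbij' (fun t => k * (t + 1) - 1) (fun i => (i + 1) / k - 1)
  · intro t ht
    rw [Finset.mem_range] at ht
    rw [Finset.mem_filter, Finset.mem_range]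
    have h1 : k * (t + 1) ≤ k * n := Nat.mul_le_mul_left k (by omega)
    have h2 : 0 < k * (t + 1) := Nat.mul_pos hk (by omega)
    refine ⟨by omega, ?_⟩
    rw [Nat.sub_add_cancel h2]
    exact dvd_mul_right _ _
  · intro i hi
    rw [Finset.mem_filter, Finset.mem_range] at hi
    obtain ⟨h1, c, hc⟩ := hi
    rw [Finset.mem_range, hc, Nat.mul_div_cancel_left _ hk]
    have hc0 : 0 < c := by
      rcases Nat.eq_zero_or_pos c with h | h
      · rw [h, mul_zero] at hc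
        omega
      · exact h
    have h2 : k * c ≤ k * n := by omega
    have h3 : c ≤ n := Nat.le_of_mul_le_mul_left h2 hk
    omega
  · intro t ht
    have h2 : 0 < k * (t + 1) := Nat.mul_pos hk (by omega)
    show (k * (t + 1) - 1 + 1) / k - 1 = t
    rw [Nat.sub_add_cancel h2, Nat.mul_div_cancel_left _ hk]
    omega
  · intro i hi
    rw [Finset.mem_filter, Finset.mem_range] at hi
    obtain ⟨h1, c, hc⟩ := hi
    show k * ((i + 1) / k - 1 + 1) - 1 = i
    rw [hc, Nat.mul_div_cancel_left _ hk]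
    have hc0 : 0 < c := by
      rcases Nat.eq_zero_or_pos c with h | h
      · rw [h, mul_zero] at hc
        omega
      · exact h
    rw [Nat.sub_add_cancel hc0, ← hc]
    omega
  · intro t ht
    have h2 : 0 < k * (t + 1) := Nat.mul_pos hk (by omega)
    show (q ^ k) ^ (2 * (t + 1)) - 1 = q ^ (2 * (k * (t + 1) - 1 + 1)) - 1
    rw [Nat.sub_add_cancel h2, ← pow_mul]
    congr 2
    ring

/-- the arithmetic of the index -/
theorem index_arith (q k n r R M : ℕ) (hq : 2 ≤ q) (hk : 0 < k) (hr : r.Prime) (hrR : r ∣ R)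
    (h : R * (M * ((q ^ k) ^ (n ^ 2) * ∏ i ∈ Finset.range n, ((q ^ k) ^ (2 * (i + 1)) - 1))) =
      q ^ ((k * n) ^ 2) * ∏ i ∈ Finset.range (k * n), (q ^ (2 * (i + 1)) - 1)) :
    r ∣ q ∨ ∃ j, 1 ≤ j ∧ j ≤ k * n ∧ ¬ k ∣ j ∧ r ∣ q ^ (2 * j) - 1 := by
  rw [prod_split q k n hk] at h
  have hle : k * n ^ 2 ≤ (k * n) ^ 2 := by
    rw [mul_pow]
    exact Nat.mul_le_mul_right _ (Nat.le_self_pow (by norm_num) k)
  have hpos : 0 < (q ^ k) ^ (n ^ 2) * ∏ i ∈ Finset.range n, ((q ^ k) ^ (2 * (i + 1)) - 1) := by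
    apply Nat.mul_pos (pow_pos (pow_pos (by omega) _) _)
    apply Finset.prod_pos
    intro i _
    have h1 : 2 ≤ (q ^ k) ^ (2 * (i + 1)) := by
      calc 2 ≤ q := hq
        _ = q ^ 1 := (pow_one q).symm
        _ ≤ q ^ (k * (2 * (i + 1))) := Nat.pow_le_pow_right (by omega)
            (Nat.mul_pos hk (by omega))
        _ = (q ^ k) ^ (2 * (i + 1)) := pow_mul q k _
    omega
  have h2 : q ^ ((k * n) ^ 2) = (q ^ k) ^ (n ^ 2) * q ^ ((k * n) ^ 2 - k * n ^ 2) := by
    rw [← pow_mul, ← pow_add, Nat.add_sub_cancel' hle]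
  have h3 : R * M * ((q ^ k) ^ (n ^ 2) * ∏ i ∈ Finset.range n, ((q ^ k) ^ (2 * (i + 1)) - 1)) =
      (q ^ ((k * n) ^ 2 - k * n ^ 2) * ∏ i ∈ (Finset.range (k * n)).filter (fun i => ¬ k ∣ i + 1),
        (q ^ (2 * (i + 1)) - 1)) *
        ((q ^ k) ^ (n ^ 2) * ∏ i ∈ Finset.range n, ((q ^ k) ^ (2 * (i + 1)) - 1)) := by
    rw [mul_assoc, h, h2]
    ring
  have h4 := Nat.eq_of_mul_eq_mul_right hpos h3
  have h5 : r ∣ q ^ ((k * n) ^ 2 - k * n ^ 2) *
      ∏ i ∈ (Finset.range (k * n)).filter (fun i => ¬ k ∣ i + 1), (q ^ (2 * (i + 1)) - 1) := by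
    rw [← h4]
    exact Dvd.dvd.mul_right hrR M
  rcases (Nat.Prime.dvd_mul hr).1 h5 with h6 | h6
  · exact Or.inl (hr.dvd_of_dvd_pow h6)
  · right
    obtain ⟨i, hi, hdvd⟩ := (Prime.dvd_finsetProd_iff hr.prime _).1 h6
    rw [Finset.mem_filter, Finset.mem_range] at hi
    exact ⟨i + 1, by omega, by omega, hi.2, hdvd⟩

section card

universe u

variable {F : Type u} [Field F] [Fintype F] (d : ℕ)

/-- the order of `spGL` -/
theorem card_spGL : Nat.card ↥(Cfsg.spGL d F) =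
    Fintype.card F ^ (d ^ 2) * ∏ i ∈ Finset.range d, (Fintype.card F ^ (2 * (i + 1)) - 1) := by
  rw [← Cfsg.Agent.Lib.Helper14.card_symplectic]
  let f : ↥(Cfsg.spGL d F) → Matrix.symplecticGroup (Fin d) F := fun g =>
    ⟨(g.1 : Matrix (Fin d ⊕ Fin d) (Fin d ⊕ Fin d) F),
      Cfsg.Agent.Lib.Helper15.mem_symplectic_of_preserves _ ((mem_spGL' d g.1).1 g.2)⟩
  apply Nat.card_congr (Equiv.ofBijective f ⟨?_, ?_⟩)
  · intro g h hgh
    apply Subtype.ext
    apply Units.ext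
    exact congrArg Subtype.val hgh
  · intro A
    refine ⟨⟨⟨A.1, (A⁻¹).1, Cfsg.Agent.Lib.Helper15.SymIso.sp_val_mul_inv A,
      Cfsg.Agent.Lib.Helper15.SymIso.sp_val_inv_mul A⟩, ?_⟩, ?_⟩
    · rw [mem_spGL']
      intro u v
      exact Cfsg.Agent.Lib.Helper15.sympForm_invariant d A u v
    · apply Subtype.ext
      rfl

variable {E : Type*} [Field E] [Algebra F E] [FiniteDimensional F E]

/-- the primes dividing the index of the normalizer of a self-adjoint extension field -/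
theorem dvd_of_dvd_relIndex (ρ : E →ₐ[F] Matrix (Fin d ⊕ Fin d) (Fin d ⊕ Fin d) F)
    (hsa : ∀ (a : E) (u v : Fin d ⊕ Fin d → F),
      Cfsg.sympForm d F (ρ a *ᵥ u) v = Cfsg.sympForm d F u (ρ a *ᵥ v))
    (halt : ∀ (a : E) (v : Fin d ⊕ Fin d → F), Cfsg.sympForm d F (ρ a *ᵥ v) v = 0)
    (n : ℕ) (hn : d = finrank F E * n) (r : ℕ) (hr : r.Prime)
    (hΩ : r ∣ (Cfsg.Geo.subalgebraNormalizer ρ.range).relIndex (Cfsg.spGL d F)) :
    r ∣ Fintype.card F ∨ ∃ j, 1 ≤ j ∧ j ≤ d ∧ ¬ finrank F E ∣ j ∧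
      r ∣ Fintype.card F ^ (2 * j) - 1 := by
  haveI : Finite E := Module.finite_of_finite F
  letI : Fintype E := Fintype.ofFinite E
  have hk : 0 < finrank F E := Module.finrank_pos
  have hcE : Fintype.card E = Fintype.card F ^ finrank F E := Module.card_eq_pow_finrank
  have h1 : (⊥ : Subgroup (GL (Fin d ⊕ Fin d) F)).relIndex
      (Cfsg.Geo.subalgebraNormalizer ρ.range ⊓ Cfsg.spGL d F) *
      (Cfsg.Geo.subalgebraNormalizer ρ.range ⊓ Cfsg.spGL d F).relIndex (Cfsg.spGL d F) =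
      (⊥ : Subgroup (GL (Fin d ⊕ Fin d) F)).relIndex (Cfsg.spGL d F) :=
    Subgroup.relIndex_mul_relIndex _ _ _ bot_le inf_le_right
  rw [Subgroup.relIndex_bot_left, Subgroup.relIndex_bot_left, Subgroup.inf_relIndex_right,
    card_spGL] at h1
  have h2 : Nat.card ↥(centK ρ.range ⊓ Cfsg.spGL d F) ∣
      Nat.card ↥(Cfsg.Geo.subalgebraNormalizer ρ.range ⊓ Cfsg.spGL d F) :=
    Subgroup.card_dvd_of_le (inf_le_inf_right _ (centK_le ρ.range))
  rw [card_cent d ρ hsa halt n hn, hcE] at h2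
  obtain ⟨M, hM⟩ := h2
  rw [hM] at h1
  have hq : 2 ≤ Fintype.card F := Fintype.one_lt_card
  have h3 := index_arith (Fintype.card F) (finrank F E) n r _ M hq hk hr hΩ (by
    rw [← hn, ← h1]
    ring)
  rw [← hn] at h3
  exact h3

end card

end Cfsg.Agent.Lib.Helper12.C3Sp
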