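import Mathlib
import Cfsg.Prelude.Def_GeometricClasses
import Cfsg.Agent.Lib.Helper12.C3SpC

/-! Helper12 library (C3Sp, part E): the action of the normalizer of an extension field on the
field; elements of the normalizer are linear or properly semilinear. -/

set_option autoImplicit false
set_option linter.style.haveILetI false

namespace Cfsg.Agent.Lib.Helper12.C3Sp

open Module Matrix Cfsg.Agent.Lib.Helper12.Elus

section norm

universe u

variable {F : Type u} [Field F] {ι : Type} [Fintype ι] [DecidableEq ι] [Nonempty ι]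
  {E : Type*} [Field E] [Algebra F E] (ρ : E →ₐ[F] Matrix ι ι F)

theorem rho_injective : Function.Injective ρ := ρ.toRingHom.injective

omit [Nonempty ι] in
theorem gl_mul_inv (g : GL ι F) : (g : Matrix ι ι F) * ((g⁻¹ : GL ι F) : Matrix ι ι F) = 1 := by
  rw [← Units.val_mul, mul_inv_cancel, Units.val_one]

omit [Nonempty ι] in
theorem gl_inv_mul (g : GL ι F) : ((g⁻¹ : GL ι F) : Matrix ι ι F) * (g : Matrix ι ι F) = 1 := by
  rw [← Units.val_mul, inv_mul_cancel, Units.val_one]

omit [Nonempty ι] in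
theorem exists_conj (g : GL ι F) (hg : g ∈ Cfsg.Geo.subalgebraNormalizer ρ.range) (a : E) :
    ∃ a' : E, ρ a' = (g : Matrix ι ι F) * ρ a * ((g⁻¹ : GL ι F) : Matrix ι ι F) :=
  (hg (ρ a)).1 ⟨a, rfl⟩

/-- the conjugation action of a normalizing element on the field -/
noncomputable def conjFun (g : GL ι F) (hg : g ∈ Cfsg.Geo.subalgebraNormalizer ρ.range) (a : E) :
    E := Classical.choose (exists_conj ρ g hg a)

omit [Nonempty ι] in
theorem rho_conjFun (g : GL ι F) (hg : g ∈ Cfsg.Geo.subalgebraNormalizer ρ.range) (a : E) :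
    ρ (conjFun ρ g hg a) = (g : Matrix ι ι F) * ρ a * ((g⁻¹ : GL ι F) : Matrix ι ι F) :=
  Classical.choose_spec (exists_conj ρ g hg a)

/-- the conjugation action as an algebra endomorphism -/
noncomputable def conjHom (g : GL ι F) (hg : g ∈ Cfsg.Geo.subalgebraNormalizer ρ.range) :
    E →ₐ[F] E where
  toFun := conjFun ρ g hg
  map_one' := by
    apply rho_injective ρ
    rw [rho_conjFun, map_one, mul_one, gl_mul_inv]
  map_mul' a b := by
    apply rho_injective ρ
    rw [rho_conjFun, map_mul, map_mul, rho_conjFun, rho_conjFun]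
    have h := gl_inv_mul g
    calc (g : Matrix ι ι F) * (ρ a * ρ b) * ((g⁻¹ : GL ι F) : Matrix ι ι F)
        = (g : Matrix ι ι F) * ρ a * (1 : Matrix ι ι F) * ρ b *
            ((g⁻¹ : GL ι F) : Matrix ι ι F) := by
          rw [mul_one]
          simp only [mul_assoc]
      _ = _ := by
          rw [← h]
          simp only [mul_assoc]
  map_zero' := by
    apply rho_injective ρ
    rw [rho_conjFun, map_zero, mul_zero, zero_mul]
  map_add' a b := by
    apply rho_injective ρ
    rw [rho_conjFun, map_add, map_add, rho_conjFun, rho_conjFun, mul_add, add_mul]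
  commutes' c := by
    apply rho_injective ρ
    rw [rho_conjFun, AlgHom.commutes, Algebra.algebraMap_eq_smul_one, mul_smul_comm, mul_one,
      smul_mul_assoc, gl_mul_inv]

theorem rho_conjHom (g : GL ι F) (hg : g ∈ Cfsg.Geo.subalgebraNormalizer ρ.range) (a : E) :
    ρ (conjHom ρ g hg a) = (g : Matrix ι ι F) * ρ a * ((g⁻¹ : GL ι F) : Matrix ι ι F) :=
  rho_conjFun ρ g hg a

theorem conjHom_one (h1 : (1 : GL ι F) ∈ Cfsg.Geo.subalgebraNormalizer ρ.range) (a : E) :
    conjHom ρ 1 h1 a = a := by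
  apply rho_injective ρ
  rw [rho_conjHom, inv_one, Units.val_one, one_mul, mul_one]

theorem conjHom_mul (g h : GL ι F) (hg : g ∈ Cfsg.Geo.subalgebraNormalizer ρ.range)
    (hh : h ∈ Cfsg.Geo.subalgebraNormalizer ρ.range)
    (hgh : g * h ∈ Cfsg.Geo.subalgebraNormalizer ρ.range) (a : E) :
    conjHom ρ (g * h) hgh a = conjHom ρ g hg (conjHom ρ h hh a) := by
  apply rho_injective ρ
  rw [rho_conjHom, rho_conjHom, rho_conjHom, _root_.mul_inv_rev, Units.val_mul, Units.val_mul]
  simp only [mul_assoc]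

/-- the conjugation action as an algebra automorphism -/
noncomputable def conjEquiv (g : ↥(Cfsg.Geo.subalgebraNormalizer ρ.range)) : E ≃ₐ[F] E :=
  AlgEquiv.ofAlgHom (conjHom ρ g.1 g.2) (conjHom ρ (g⁻¹).1 (g⁻¹).2)
    (by
      apply AlgHom.ext
      intro a
      rw [AlgHom.comp_apply, AlgHom.id_apply,
        ← conjHom_mul ρ g.1 (g⁻¹).1 g.2 (g⁻¹).2 (by
          rw [← Subgroup.coe_mul, mul_inv_cancel]
          exact Subgroup.one_mem _)]
      have h1 : (g.1 * (g⁻¹).1 : GL ι F) = 1 := by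
        rw [← Subgroup.coe_mul, mul_inv_cancel]
        rfl
      have h2 : ∀ (x : GL ι F) (hx : x ∈ Cfsg.Geo.subalgebraNormalizer ρ.range), x = 1 →
          conjHom ρ x hx a = a := by
        intro x hx hx1
        subst hx1
        exact conjHom_one ρ hx a
      exact h2 _ _ h1)
    (by
      apply AlgHom.ext
      intro a
      rw [AlgHom.comp_apply, AlgHom.id_apply,
        ← conjHom_mul ρ (g⁻¹).1 g.1 (g⁻¹).2 g.2 (by
          rw [← Subgroup.coe_mul, inv_mul_cancel]
          exact Subgroup.one_mem _)]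
      have h1 : ((g⁻¹).1 * g.1 : GL ι F) = 1 := by
        rw [← Subgroup.coe_mul, inv_mul_cancel]
        rfl
      have h2 : ∀ (x : GL ι F) (hx : x ∈ Cfsg.Geo.subalgebraNormalizer ρ.range), x = 1 →
          conjHom ρ x hx a = a := by
        intro x hx hx1
        subst hx1
        exact conjHom_one ρ hx a
      exact h2 _ _ h1)

theorem conjEquiv_apply (g : ↥(Cfsg.Geo.subalgebraNormalizer ρ.range)) (a : E) :
    conjEquiv ρ g a = conjHom ρ g.1 g.2 a := rfl

/-- the conjugation action as a group homomorphism -/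
noncomputable def normAut : ↥(Cfsg.Geo.subalgebraNormalizer ρ.range) →* (E ≃ₐ[F] E) where
  toFun := conjEquiv ρ
  map_one' := by
    apply AlgEquiv.ext
    intro a
    rw [conjEquiv_apply]
    exact conjHom_one ρ _ a
  map_mul' g h := by
    apply AlgEquiv.ext
    intro a
    rw [AlgEquiv.mul_apply, conjEquiv_apply, conjEquiv_apply, conjEquiv_apply]
    exact conjHom_mul ρ g.1 h.1 g.2 h.2 _ a

theorem rho_normAut (g : ↥(Cfsg.Geo.subalgebraNormalizer ρ.range)) (a : E) :
    ρ (normAut ρ g a) = (g.1 : Matrix ι ι F) * ρ a * ((g.1⁻¹ : GL ι F) : Matrix ι ι F) :=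
  rho_conjFun ρ g.1 g.2 a

/-- a normalizing element acting trivially on the field centralizes it -/
theorem mem_centK_of_normAut (g : ↥(Cfsg.Geo.subalgebraNormalizer ρ.range))
    (h : normAut ρ g = 1) : g.1 ∈ centK ρ.range := by
  rw [mem_centK]
  rintro _ ⟨a, rfl⟩
  have h1 := rho_normAut ρ g a
  rw [h, AlgEquiv.one_apply] at h1
  calc (g.1 : Matrix ι ι F) * ρ a
      = (g.1 : Matrix ι ι F) * ρ a * (((g.1⁻¹ : GL ι F) : Matrix ι ι F) *
          (g.1 : Matrix ι ι F)) := by rw [gl_inv_mul, mul_one]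
    _ = ((g.1 : Matrix ι ι F) * ρ a * ((g.1⁻¹ : GL ι F) : Matrix ι ι F)) *
          (g.1 : Matrix ι ι F) := by simp only [mul_assoc]
    _ = ρ a * (g.1 : Matrix ι ι F) := by rw [← h1]

/-- semilinearity of a normalizing element -/
theorem semilinear (g : ↥(Cfsg.Geo.subalgebraNormalizer ρ.range)) (a : E) (v : ι → F) :
    letI := modOf ρ
    Matrix.toLin' (g.1 : Matrix ι ι F) (a • v) =
      normAut ρ g a • Matrix.toLin' (g.1 : Matrix ι ι F) v := by
  letI := modOf ρ
  rw [smul_def, smul_def, Matrix.toLin'_apply, Matrix.toLin'_apply, rho_normAut,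
    Matrix.mulVec_mulVec, Matrix.mulVec_mulVec]
  congr 1
  simp only [mul_assoc]
  rw [gl_inv_mul, mul_one]

/-- an element of the normalizer with a scalar `r`-th power, `r` prime to the degree, centralizes
the field -/
theorem mem_centK_of_pow [Finite E] (r : ℕ) (hkr : (finrank F E).Coprime r) (g : GL ι F)
    (hg : g ∈ Cfsg.Geo.subalgebraNormalizer ρ.range) (z : F)
    (hz : ((g ^ r : GL ι F) : Matrix ι ι F) = z • (1 : Matrix ι ι F)) : g ∈ centK ρ.range := by
  have h1 : (normAut ρ ⟨g, hg⟩) ^ r = 1 := by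
    rw [← map_pow]
    apply AlgEquiv.ext
    intro a
    apply rho_injective ρ
    rw [rho_normAut, AlgEquiv.one_apply]
    show ((g ^ r : GL ι F) : Matrix ι ι F) * ρ a * (((g ^ r)⁻¹ : GL ι F) : Matrix ι ι F) = ρ a
    have h2 : ((g ^ r : GL ι F) : Matrix ι ι F) * ρ a = ρ a * ((g ^ r : GL ι F) : Matrix ι ι F) := by
      rw [hz, smul_mul_assoc, one_mul, mul_smul_comm, mul_one]
    rw [h2, mul_assoc, gl_mul_inv, mul_one]
  exact mem_centK_of_normAut ρ ⟨g, hg⟩ (aut_eq_one r hkr _ h1)

/-- the fixed space of an element of the normalizer outside the centralizer is small -/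
theorem finrank_fix_le_of_not_cent [FiniteDimensional F E] (hp : (finrank F E).Prime) (g : GL ι F)
    (hg : g ∈ Cfsg.Geo.subalgebraNormalizer ρ.range) (hnc : g ∉ centK ρ.range) :
    finrank F E * finrank F (fixE (Matrix.toLin' (g : Matrix ι ι F))) ≤ Fintype.card ι := by
  letI := modOf ρ
  haveI := isScalarTower ρ
  haveI : FiniteDimensional E (ι → F) := Module.Finite.of_restrictScalars_finite F E (ι → F)
  have hσ : ∃ a, ((normAut ρ ⟨g, hg⟩ : E ≃ₐ[F] E) : E →ₐ[F] E) a ≠ a := by
    by_contra hcon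
    push Not at hcon
    apply hnc
    apply mem_centK_of_normAut ρ ⟨g, hg⟩
    apply AlgEquiv.ext
    intro a
    exact hcon a
  have h1 := finrank_fix_le hp ((normAut ρ ⟨g, hg⟩ : E ≃ₐ[F] E) : E →ₐ[F] E) hσ
    (Matrix.toLin' (g : Matrix ι ι F)) (fun a v => semilinear ρ ⟨g, hg⟩ a v)
  have h2 := finrank_top_eq (F := F) (E := E) (V := ι → F)
  rw [Module.finrank_fintype_fun_eq_card] at h2
  rw [h2]
  exact Nat.mul_le_mul_left _ h1

omit [Nonempty ι] in
/-- the fixed space of a centralizing element is a subspace over the field -/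
theorem fix_invariant (g : GL ι F) (hg : g ∈ centK ρ.range) :
    letI := modOf ρ
    ∀ (a : E), ∀ u ∈ fixE (Matrix.toLin' (g : Matrix ι ι F)), a • u ∈
      fixE (Matrix.toLin' (g : Matrix ι ι F)) := by
  letI := modOf ρ
  intro a u hu
  rw [mem_fixE] at hu ⊢
  rw [Matrix.toLin'_apply] at hu ⊢
  rw [smul_def, Matrix.mulVec_mulVec, (mem_centK _ g).1 hg (ρ a) ⟨a, rfl⟩, ← Matrix.mulVec_mulVec,
    hu]

omit [Nonempty ι] in
theorem dvd_fix_of_cent (g : GL ι F) (hg : g ∈ centK ρ.range) :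
    finrank F E ∣ finrank F (fixE (Matrix.toLin' (g : Matrix ι ι F))) := by
  letI := modOf ρ
  haveI := isScalarTower ρ
  exact dvd_finrank_of_invariant _ (fix_invariant ρ g hg)

end norm

section norm2

universe u

variable {F : Type u} [Field F] [Fintype F] (d : ℕ)
  {E : Type*} [Field E] [Algebra F E] [FiniteDimensional F E]
  (ρ : E →ₐ[F] Matrix (Fin d ⊕ Fin d) (Fin d ⊕ Fin d) F)

theorem two_mul_dvd_fix_of_cent
    (hsa : ∀ (a : E) (u v : Fin d ⊕ Fin d → F),
      Cfsg.sympForm d F (ρ a *ᵥ u) v = Cfsg.sympForm d F u (ρ a *ᵥ v))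
    (halt : ∀ (a : E) (v : Fin d ⊕ Fin d → F), Cfsg.sympForm d F (ρ a *ᵥ v) v = 0)
    (g : GL (Fin d ⊕ Fin d) F) (hg : g ∈ centK ρ.range)
    (hnd : Cfsg.Agent.Lib.Helper12.Sp.NdOn (Cfsg.Agent.Lib.Helper15.sympBilin d (F := F))
      (fixE (Matrix.toLin' (g : Matrix (Fin d ⊕ Fin d) (Fin d ⊕ Fin d) F)))) :
    2 * finrank F E ∣
      finrank F (fixE (Matrix.toLin' (g : Matrix (Fin d ⊕ Fin d) (Fin d ⊕ Fin d) F))) := by
  letI := modOf ρ
  haveI := isScalarTower ρ
  haveI : FiniteDimensional E (Fin d ⊕ Fin d → F) :=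
    Module.Finite.of_restrictScalars_finite F E (Fin d ⊕ Fin d → F)
  exact two_mul_dvd_finrank_of_ndOn (Cfsg.Agent.Lib.Helper15.sympBilin d (F := F))
    (hsa_of d ρ hsa) (halt_of d ρ halt) _ (fix_invariant ρ g hg) hnd

end norm2

end Cfsg.Agent.Lib.Helper12.C3Sp
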