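import Mathlib
import Cfsg.Prelude.Def_GeometricClasses
import Cfsg.Agent.Lib.Helper12.C3SpD
import Cfsg.Agent.Lib.Helper12.C3SpE
import Cfsg.Agent.Lib.Helper12.SpK
import Cfsg.Agent.Lib.Helper5.Symp

/-! Helper12 library (C3Sp, part F): elements of prime order of the symplectic group which are not
conjugate into the normalizer of a self-adjoint extension field. -/

set_option autoImplicit false
set_option linter.style.haveILetI false

namespace Cfsg.Agent.Lib.Helper12.C3Sp

open Module Matrix Polynomial Cfsg.Agent.Lib.Helper12.Elus Cfsg.Agent.Lib.Helper12.Sp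
open Cfsg.Agent.Lib.Helper15

section kneg

universe u

variable {F : Type u} [Field F]

open Classical in
/-- kernel dimensions of minus the identity on an `e`-dimensional space -/
noncomputable def kNeg (e : ℕ) : F[X] → ℕ := fun P => if P.eval (-1) = 0 then e else 0

theorem kReal_neg (k : ℕ) : KReal (F := F) 2 (kNeg (2 * k)) := by
  refine ⟨(Fin k ⊕ Fin k → F), inferInstance, inferInstance, inferInstance, -1, sympBilin k,
    stdB_alt k, stdB_nd k, fun u v => ?_, by rw [neg_one_sq], ?_⟩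
  · rw [LinearMap.neg_apply, LinearMap.neg_apply, Module.End.one_apply, Module.End.one_apply,
      map_neg, map_neg, LinearMap.neg_apply, neg_neg]
  intro P
  have h1 : aeval (-1 : Module.End F (Fin k ⊕ Fin k → F)) P =
      algebraMap F (Module.End F (Fin k ⊕ Fin k → F)) (P.eval (-1)) := by
    have : (-1 : Module.End F (Fin k ⊕ Fin k → F)) = algebraMap F _ (-1) := by
      rw [map_neg, map_one]
    rw [this, aeval_algebraMap_apply_eq_algebraMap_eval]
  unfold kNeg
  split_ifs with h0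
  · rw [h1, h0, map_zero, LinearMap.ker_zero, finrank_top, std_finrank]
  · have : LinearMap.ker (aeval (-1 : Module.End F (Fin k ⊕ Fin k → F)) P) = ⊥ := by
      rw [eq_bot_iff]
      intro v hv
      rw [LinearMap.mem_ker, h1, Module.algebraMap_end_apply] at hv
      rw [Submodule.mem_bot]
      rcases smul_eq_zero.1 hv with h | h
      · exact absurd h h0
      · exact h
    rw [this, finrank_bot]

/-- an involution with a fixed space of codimension two -/
theorem exists_invol (h2 : (2 : F) ≠ 0) (d : ℕ) (hd : 1 ≤ d) :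
    ∃ A : Matrix (Fin d ⊕ Fin d) (Fin d ⊕ Fin d) F, A ∈ Matrix.symplecticGroup (Fin d) F ∧
      A ^ 2 = 1 ∧ finrank F (fixE (Matrix.toLin' A)) = 2 * d - 2 := by
  have hK : KReal (F := F) 2 (fun P => kOne (2 * (d - 1)) P + kNeg (2 * 1) P) :=
    (kReal_one 2 (d - 1)).add (kReal_neg 1)
  obtain ⟨A, hA, hA2, hAκ⟩ := exists_sp_of_kReal hK d (by
    show kOne (2 * (d - 1)) (0 : F[X]) + kNeg (2 * 1) (0 : F[X]) = 2 * d
    unfold kOne kNeg
    rw [if_pos (by simp), if_pos (by simp)]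
    omega)
  refine ⟨A, hA, hA2, ?_⟩
  have hfix : fixE (Matrix.toLin' A) = LinearMap.ker (aeval (Matrix.toLin' A) (X - 1 : F[X])) := by
    rw [map_sub, aeval_X, map_one]
    rfl
  rw [hfix, hAκ]
  show kOne (2 * (d - 1)) (X - 1 : F[X]) + kNeg (2 * 1) (X - 1 : F[X]) = 2 * d - 2
  unfold kOne kNeg
  rw [if_pos (by simp), if_neg]
  · omega
  · rw [eval_sub, eval_X, eval_one]
    intro h
    apply h2
    have : (2 : F) = -(-1 - 1) := by ring
    rw [this, h, neg_zero]

/-- a transvection: order `p`, fixed space a hyperplane -/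
theorem exists_transv {p : ℕ} [Fact p.Prime] [CharP F p] (d : ℕ) (hd : 1 ≤ d) :
    ∃ A : Matrix (Fin d ⊕ Fin d) (Fin d ⊕ Fin d) F, A ∈ Matrix.symplecticGroup (Fin d) F ∧
      A ^ p = 1 ∧ finrank F (fixE (Matrix.toLin' A)) = 2 * d - 1 := by
  classical
  let a : Fin d ⊕ Fin d → F := Pi.single (Sum.inl ⟨0, by omega⟩) 1
  have ha : a ≠ 0 := by
    intro h
    have := congrFun h (Sum.inl ⟨0, by omega⟩)
    simp [a] at this
  have hpow : ∀ n : ℕ, (Cfsg.sympTransvection d a (1 : F)) ^ n =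
      Cfsg.sympTransvection d a ((n : F)) := by
    intro n
    induction n with
    | zero =>
      rw [pow_zero, Nat.cast_zero]
      unfold Cfsg.sympTransvection
      rw [zero_smul, add_zero]
    | succ n ih =>
      rw [pow_succ, ih, Cfsg.Agent.Lib.Helper5.sympTransvection_mul, Nat.cast_succ]
  refine ⟨Cfsg.sympTransvection d a 1, Cfsg.Agent.Lib.Helper5.sympTransvection_mem d a 1, ?_, ?_⟩
  · rw [hpow, CharP.cast_eq_zero]
    unfold Cfsg.sympTransvection
    rw [zero_smul, add_zero]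
  · let φ : Module.Dual F (Fin d ⊕ Fin d → F) := (sympBilin d (F := F)).flip a
    have hφ : ∀ x, φ x = Cfsg.sympForm d F x a := by
      intro x
      show sympBilin d (F := F) x a = _
      rw [sympBilin_apply]
    have hφ0 : φ ≠ 0 := by
      obtain ⟨x, hx⟩ := Cfsg.Agent.Lib.Helper5.sympForm_nondeg (m := d) a ha
      intro h0
      apply hx
      rw [Cfsg.Agent.Lib.Helper5.sympForm_swap, ← hφ, h0, LinearMap.zero_apply, neg_zero]
    have hker : fixE (Matrix.toLin' (Cfsg.sympTransvection d a (1 : F))) = LinearMap.ker φ := by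
      ext x
      rw [mem_fixE, Matrix.toLin'_apply, Cfsg.Agent.Lib.Helper5.sympTransvection_mulVec,
        LinearMap.mem_ker, hφ, one_mul]
      constructor
      · intro h
        have h1 : Cfsg.sympForm d F x a • a = 0 := by
          have := congrArg (fun y => y - x) h
          simpa using this
        rcases smul_eq_zero.1 h1 with h2 | h2
        · exact h2
        · exact absurd h2 ha
      · intro h
        rw [h, zero_smul, add_zero]
    rw [hker]
    have := Module.Dual.finrank_ker_add_one_of_ne_zero hφ0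
    rw [std_finrank] at this
    omega

end kneg

section conj

universe u

variable {F : Type u} [Field F] {ι : Type} [Fintype ι] [DecidableEq ι]

theorem finrank_fix_conj (x g : GL ι F) :
    finrank F (fixE (Matrix.toLin' ((g⁻¹ * x * g : GL ι F) : Matrix ι ι F))) =
      finrank F (fixE (Matrix.toLin' (x : Matrix ι ι F))) := by
  have h : (fixE (Matrix.toLin' (x : Matrix ι ι F))).map
      ((glLin (g⁻¹ : GL ι F) : (ι → F) ≃ₗ[F] (ι → F)) : (ι → F) →ₗ[F] (ι → F)) =
      fixE (Matrix.toLin' ((g⁻¹ * x * g : GL ι F) : Matrix ι ι F)) := by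
    ext w
    rw [Submodule.mem_map_equiv, mem_fixE, mem_fixE, Matrix.toLin'_apply, Matrix.toLin'_apply]
    have hs : ∀ v, (glLin (g⁻¹ : GL ι F)).symm v = (g : Matrix ι ι F) *ᵥ v := by
      intro v
      rw [LinearEquiv.symm_apply_eq, glLin_apply, Matrix.mulVec_mulVec, gl_inv_mul,
        Matrix.one_mulVec]
    rw [hs, Units.val_mul, Units.val_mul, Matrix.mulVec_mulVec]
    constructor
    · intro h1
      rw [mul_assoc, ← Matrix.mulVec_mulVec, h1, Matrix.mulVec_mulVec, gl_inv_mul,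
        Matrix.one_mulVec]
    · intro h1
      have h2 : (g : Matrix ι ι F) *ᵥ ((((g⁻¹ : GL ι F) : Matrix ι ι F) * (x : Matrix ι ι F) *
          (g : Matrix ι ι F)) *ᵥ w) = (g : Matrix ι ι F) *ᵥ w := by rw [h1]
      rw [Matrix.mulVec_mulVec, ← mul_assoc, ← mul_assoc, gl_mul_inv, one_mul] at h2
      exact h2
  rw [← h, LinearEquiv.finrank_map_eq]

end conj

section fwd

universe u

variable {F : Type u} [Field F] [Fintype F] (d : ℕ)

/-- a symplectic matrix as an element of `GL` -/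
noncomputable def glOfSp (A : Matrix (Fin d ⊕ Fin d) (Fin d ⊕ Fin d) F)
    (hA : A ∈ Matrix.symplecticGroup (Fin d) F) : GL (Fin d ⊕ Fin d) F :=
  ⟨A, ((⟨A, hA⟩ : Matrix.symplecticGroup (Fin d) F)⁻¹).1, SymIso.sp_val_mul_inv ⟨A, hA⟩,
    SymIso.sp_val_inv_mul ⟨A, hA⟩⟩

omit [Fintype F] in
theorem glOfSp_mem (A : Matrix (Fin d ⊕ Fin d) (Fin d ⊕ Fin d) F)
    (hA : A ∈ Matrix.symplecticGroup (Fin d) F) : glOfSp d A hA ∈ Cfsg.spGL d F := by
  rw [mem_spGL']
  intro u v
  exact sympForm_invariant d ⟨A, hA⟩ u v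

omit [Fintype F] in
theorem val_mem_sp (y : GL (Fin d ⊕ Fin d) F) (hy : y ∈ Cfsg.spGL d F) :
    (y : Matrix (Fin d ⊕ Fin d) (Fin d ⊕ Fin d) F) ∈ Matrix.symplecticGroup (Fin d) F :=
  mem_symplectic_of_preserves _ ((mem_spGL' d y).1 hy)

omit [Fintype F] in
/-- the fixed space of a symplectic element of order prime to the characteristic is
nondegenerate -/
theorem ndOn_fix (y : GL (Fin d ⊕ Fin d) F) (hy : y ∈ Cfsg.spGL d F) (r : ℕ) [Fact r.Prime]
    (hyr : y ^ r = 1) (hr0 : (r : F) ≠ 0) :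
    NdOn (sympBilin d (F := F))
      (fixE (Matrix.toLin' (y : Matrix (Fin d ⊕ Fin d) (Fin d ⊕ Fin d) F))) := by
  have htop : NdOn (sympBilin d (F := F)) (⊤ : Submodule F (Fin d ⊕ Fin d → F)) := by
    intro u _ hu0
    by_contra hcon
    push Not at hcon
    exact hu0 (stdB_nd d u (fun z => hcon z Submodule.mem_top))
  have hpow : (Matrix.toLin' (y : Matrix (Fin d ⊕ Fin d) (Fin d ⊕ Fin d) F)) ^ r = 1 := by
    rw [← Matrix.toLin'_pow, ← Units.val_pow_eq_pow_val, hyr, Units.val_one, Matrix.toLin'_one]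
    rfl
  have := ndOn_inf_fix (sympBilin d (F := F))
    (Matrix.toLin' (y : Matrix (Fin d ⊕ Fin d) (Fin d ⊕ Fin d) F))
    (std_iso d _ (val_mem_sp d y hy)) r hpow hr0 ⊤ (fun _ _ => Submodule.mem_top) htop
  rwa [top_inf_eq] at this

variable {E : Type*} [Field E] [Algebra F E] [FiniteDimensional F E]
  (ρ : E →ₐ[F] Matrix (Fin d ⊕ Fin d) (Fin d ⊕ Fin d) F)

/-- the degree divides half the dimension -/
theorem exists_mul
    (hsa : ∀ (a : E) (u v : Fin d ⊕ Fin d → F),
      Cfsg.sympForm d F (ρ a *ᵥ u) v = Cfsg.sympForm d F u (ρ a *ᵥ v))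
    (halt : ∀ (a : E) (v : Fin d ⊕ Fin d → F), Cfsg.sympForm d F (ρ a *ᵥ v) v = 0) :
    ∃ n, d = finrank F E * n := by
  letI := modOf ρ
  haveI := isScalarTower ρ
  haveI : FiniteDimensional E (Fin d ⊕ Fin d → F) :=
    Module.Finite.of_restrictScalars_finite F E (Fin d ⊕ Fin d → F)
  have htop : NdOn (trForm (sympBilin d (F := F)) (hsa_of d ρ hsa))
      (⊤ : Submodule E (Fin d ⊕ Fin d → F)) := by
    intro u _ hu0
    by_contra hcon
    push Not at hcon
    exact hu0 (trForm_nd _ (hsa_of d ρ hsa) (stdB_nd d) u (fun z => hcon z Submodule.mem_top))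
  obtain ⟨m, hm⟩ := even_finrank_of_ndOn (trForm (sympBilin d (F := F)) (hsa_of d ρ hsa))
    (trForm_alt _ (hsa_of d ρ hsa) (halt_of d ρ halt)) ⊤ htop
  rw [finrank_top] at hm
  have h1 := finrank_top_eq (F := F) (E := E) (V := Fin d ⊕ Fin d → F)
  rw [std_finrank, hm] at h1
  refine ⟨m, ?_⟩
  have h2 : 2 * d = 2 * (finrank F E * m) := by
    rw [h1]
    ring
  omega

omit [Fintype F] [FiniteDimensional F E] in
/-- applying the conjugacy hypothesis to a symplectic matrix of order `r` -/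
theorem apply_hyp (r : ℕ)
    (H : ∀ x ∈ Cfsg.spGL d F,
      (∃ z : F, ((x ^ r : GL (Fin d ⊕ Fin d) F) : Matrix (Fin d ⊕ Fin d) (Fin d ⊕ Fin d) F) =
        z • (1 : Matrix (Fin d ⊕ Fin d) (Fin d ⊕ Fin d) F)) →
      (∀ z : F, (x : Matrix (Fin d ⊕ Fin d) (Fin d ⊕ Fin d) F) ≠
        z • (1 : Matrix (Fin d ⊕ Fin d) (Fin d ⊕ Fin d) F)) →
      ∃ g ∈ Cfsg.spGL d F, g⁻¹ * x * g ∈ Cfsg.Geo.subalgebraNormalizer ρ.range)
    (A : Matrix (Fin d ⊕ Fin d) (Fin d ⊕ Fin d) F) (hA : A ∈ Matrix.symplecticGroup (Fin d) F)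
    (hAr : A ^ r = 1) (hns : ∀ z : F, A ≠ z • (1 : Matrix (Fin d ⊕ Fin d) (Fin d ⊕ Fin d) F)) :
    ∃ y : GL (Fin d ⊕ Fin d) F, y ∈ Cfsg.Geo.subalgebraNormalizer ρ.range ∧ y ∈ Cfsg.spGL d F ∧
      y ^ r = 1 ∧ finrank F (fixE (Matrix.toLin'
        (y : Matrix (Fin d ⊕ Fin d) (Fin d ⊕ Fin d) F))) = finrank F (fixE (Matrix.toLin' A)) := by
  have hxr : (glOfSp d A hA) ^ r = 1 := by
    apply Units.ext
    rw [Units.val_pow_eq_pow_val, Units.val_one]
    exact hAr
  obtain ⟨g, hg, hgN⟩ := H (glOfSp d A hA) (glOfSp_mem d A hA) ⟨1, by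
    rw [hxr, Units.val_one, one_smul]⟩ hns
  refine ⟨g⁻¹ * glOfSp d A hA * g, hgN, ?_, ?_, ?_⟩
  · exact (Cfsg.spGL d F).mul_mem ((Cfsg.spGL d F).mul_mem ((Cfsg.spGL d F).inv_mem hg)
      (glOfSp_mem d A hA)) hg
  · have h1 : g⁻¹ * glOfSp d A hA * g = g⁻¹ * glOfSp d A hA * g⁻¹⁻¹ := by rw [inv_inv]
    rw [h1, conj_pow, hxr, mul_one, mul_inv_cancel]
  · exact finrank_fix_conj (glOfSp d A hA) g

/-- an element of the normalizer of order `r` is linear with fixed space of dimension divisible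
by the degree, or properly semilinear with a small fixed space and `r` equal to the degree -/
theorem dichotomy (hp : (finrank F E).Prime)
    (hsa : ∀ (a : E) (u v : Fin d ⊕ Fin d → F),
      Cfsg.sympForm d F (ρ a *ᵥ u) v = Cfsg.sympForm d F u (ρ a *ᵥ v))
    (halt : ∀ (a : E) (v : Fin d ⊕ Fin d → F), Cfsg.sympForm d F (ρ a *ᵥ v) v = 0)
    (hd : 1 ≤ d) (r : ℕ) [Fact r.Prime] (y : GL (Fin d ⊕ Fin d) F)
    (hyN : y ∈ Cfsg.Geo.subalgebraNormalizer ρ.range) (hyS : y ∈ Cfsg.spGL d F)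
    (hyr : y ^ r = 1) :
    (finrank F E ∣ finrank F (fixE (Matrix.toLin'
        (y : Matrix (Fin d ⊕ Fin d) (Fin d ⊕ Fin d) F))) ∧
      ((r : F) ≠ 0 → 2 * finrank F E ∣ finrank F (fixE (Matrix.toLin'
        (y : Matrix (Fin d ⊕ Fin d) (Fin d ⊕ Fin d) F))))) ∨
    (finrank F E * finrank F (fixE (Matrix.toLin'
        (y : Matrix (Fin d ⊕ Fin d) (Fin d ⊕ Fin d) F))) ≤ 2 * d ∧ finrank F E = r) := by
  haveI : Nonempty (Fin d ⊕ Fin d) := ⟨Sum.inl ⟨0, by omega⟩⟩
  haveI : Finite E := Module.finite_of_finite F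
  by_cases hc : y ∈ centK ρ.range
  · left
    exact ⟨dvd_fix_of_cent ρ y hc, fun hr0 =>
      two_mul_dvd_fix_of_cent d ρ hsa halt y hc (ndOn_fix d y hyS r hyr hr0)⟩
  · right
    constructor
    · have := finrank_fix_le_of_not_cent ρ hp y hyN hc
      rw [Fintype.card_sum, Fintype.card_fin] at this
      omega
    · by_contra hne
      apply hc
      apply mem_centK_of_pow ρ r ((Nat.coprime_primes hp Fact.out).2 hne) y hyN 1
      rw [hyr, Units.val_one, one_smul]

end fwd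

end Cfsg.Agent.Lib.Helper12.C3Sp
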