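import Mathlib
import Cfsg.Prelude.Def_GeometricClasses
import Cfsg.Agent.Lib.Helper12.C3SpF

/-! Helper12 library (C3Sp, part G): if every element of order `r` of the symplectic group is
conjugate into the normalizer of a self-adjoint extension field of prime degree `k`, and `r` divides
the index of this normalizer, then `r = 2`, the dimension is `4`, `k = 2` and `q` is odd. -/

set_option autoImplicit false
set_option linter.style.haveILetI false

namespace Cfsg.Agent.Lib.Helper12.C3Sp

open Module Matrix Polynomial Cfsg.Agent.Lib.Helper12.Elus Cfsg.Agent.Lib.Helper12.Sp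
open Cfsg.Agent.Lib.Helper15

section fwd

universe u

variable {F : Type u} [Field F] [Fintype F] (d : ℕ)

omit [Fintype F] in
theorem nonscalar_of_finrank_fix (A : Matrix (Fin d ⊕ Fin d) (Fin d ⊕ Fin d) F)
    (h0 : 0 < finrank F (fixE (Matrix.toLin' A))) (h1 : finrank F (fixE (Matrix.toLin' A)) < 2 * d) :
    ∀ z : F, A ≠ z • (1 : Matrix (Fin d ⊕ Fin d) (Fin d ⊕ Fin d) F) := by
  intro z hz
  by_cases hz1 : z = 1
  · have : fixE (Matrix.toLin' A) = ⊤ := by
      rw [eq_top_iff]
      intro v _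
      rw [mem_fixE, hz, hz1, one_smul, Matrix.toLin'_one]
      rfl
    rw [this, finrank_top, std_finrank] at h1
    omega
  · have : fixE (Matrix.toLin' A) = ⊥ := by
      rw [eq_bot_iff]
      intro v hv
      rw [mem_fixE, hz, Matrix.toLin'_apply, Matrix.smul_mulVec, Matrix.one_mulVec] at hv
      rw [Submodule.mem_bot]
      have h2 : (z - 1) • v = 0 := by rw [sub_smul, hv, one_smul, sub_self]
      rcases smul_eq_zero.1 h2 with h3 | h3
      · exact absurd (sub_eq_zero.1 h3) hz1
      · exact h3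
    rw [this, finrank_bot] at h0
    omega

variable {E : Type*} [Field E] [Algebra F E] [FiniteDimensional F E]
  (ρ : E →ₐ[F] Matrix (Fin d ⊕ Fin d) (Fin d ⊕ Fin d) F)

theorem fwd {p : ℕ} [Fact p.Prime] [CharP F p] (hd : 2 ≤ d) (hp : (finrank F E).Prime)
    (hsa : ∀ (a : E) (u v : Fin d ⊕ Fin d → F),
      Cfsg.sympForm d F (ρ a *ᵥ u) v = Cfsg.sympForm d F u (ρ a *ᵥ v))
    (halt : ∀ (a : E) (v : Fin d ⊕ Fin d → F), Cfsg.sympForm d F (ρ a *ᵥ v) v = 0)
    (r : ℕ) [Fact r.Prime]
    (hΩ : r ∣ (Cfsg.Geo.subalgebraNormalizer ρ.range).relIndex (Cfsg.spGL d F))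
    (H : ∀ x ∈ Cfsg.spGL d F,
      (∃ z : F, ((x ^ r : GL (Fin d ⊕ Fin d) F) : Matrix (Fin d ⊕ Fin d) (Fin d ⊕ Fin d) F) =
        z • (1 : Matrix (Fin d ⊕ Fin d) (Fin d ⊕ Fin d) F)) →
      (∀ z : F, (x : Matrix (Fin d ⊕ Fin d) (Fin d ⊕ Fin d) F) ≠
        z • (1 : Matrix (Fin d ⊕ Fin d) (Fin d ⊕ Fin d) F)) →
      ∃ g ∈ Cfsg.spGL d F, g⁻¹ * x * g ∈ Cfsg.Geo.subalgebraNormalizer ρ.range) :
    r = 2 ∧ d = 2 ∧ finrank F E = 2 ∧ Odd (Fintype.card F) := by
  have hr : r.Prime := Fact.out
  have hpp : p.Prime := Fact.out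
  obtain ⟨n, hn⟩ := exists_mul d ρ hsa halt
  have hk2 : 2 ≤ finrank F E := hp.two_le
  have hn1 : 1 ≤ n := by
    rcases Nat.eq_zero_or_pos n with h | h
    · rw [h, mul_zero] at hn
      omega
    · exact h
  have hkd : finrank F E ∣ 2 * d := ⟨2 * n, by rw [hn]; ring⟩
  have h2kd : 2 * finrank F E ∣ 2 * d := ⟨n, by rw [hn]; ring⟩
  obtain ⟨f, -, hcard⟩ := FiniteField.card F p
  rcases dvd_of_dvd_relIndex d ρ hsa halt n hn r hr hΩ with hrq | ⟨j, hj1, hjd, hkj, hrj⟩
  · -- `r = p`: a transvection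
    exfalso
    have hrp : r = p := by
      rw [hcard] at hrq
      exact (Nat.prime_dvd_prime_iff_eq hr hpp).1 (hr.dvd_of_dvd_pow hrq)
    subst hrp
    obtain ⟨A, hA, hAr, hAfix⟩ := exists_transv (F := F) (p := r) d (by omega)
    obtain ⟨y, hyN, hyS, hyr, hyfix⟩ := apply_hyp d ρ r H A hA hAr
      (nonscalar_of_finrank_fix d A (by omega) (by omega))
    rw [hAfix] at hyfix
    rcases dichotomy d ρ hp hsa halt (by omega) r y hyN hyS hyr with ⟨h1, -⟩ | ⟨h1, -⟩
    · rw [hyfix] at h1
      have h2 : finrank F E ∣ 2 * d - (2 * d - 1) := Nat.dvd_sub hkd h1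
      have h3 : 2 * d - (2 * d - 1) = 1 := by omega
      rw [h3, Nat.dvd_one] at h2
      omega
    · rw [hyfix] at h1
      have h2 : 2 * (2 * d - 1) ≤ finrank F E * (2 * d - 1) := Nat.mul_le_mul_right _ hk2
      omega
  · have hq1 : 1 ≤ Fintype.card F ^ (2 * j) := Nat.one_le_pow _ _ Fintype.card_pos
    have hrq : ¬ r ∣ Fintype.card F := by
      intro h
      have h1 : r ∣ Fintype.card F ^ (2 * j) := dvd_pow h (by omega)
      have h2 : r ∣ Fintype.card F ^ (2 * j) - (Fintype.card F ^ (2 * j) - 1) := Nat.dvd_sub h1 hrj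
      have h3 : Fintype.card F ^ (2 * j) - (Fintype.card F ^ (2 * j) - 1) = 1 := by omega
      rw [h3, Nat.dvd_one] at h2
      exact hr.one_lt.ne' h2
    have hrp : r ≠ p := by
      intro h
      apply hrq
      rw [hcard, h]
      exact dvd_pow_self p f.ne_zero
    have hr0 : (r : F) ≠ 0 := by
      rw [Ne, CharP.cast_eq_zero_iff F p]
      intro hdvd
      exact hrp ((Nat.prime_dvd_prime_iff_eq hpp hr).1 hdvd).symm
    by_cases hr2 : r = 2
    · subst hr2
      have h2F : (2 : F) ≠ 0 := by exact_mod_cast hr0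
      have hodd : Odd (Fintype.card F) := by
        rw [← Nat.not_even_iff_odd, even_iff_two_dvd]
        exact hrq
      obtain ⟨A, hA, hAr, hAfix⟩ := exists_invol (F := F) h2F d (by omega)
      obtain ⟨y, hyN, hyS, hyr, hyfix⟩ := apply_hyp d ρ 2 H A hA hAr
        (nonscalar_of_finrank_fix d A (by omega) (by omega))
      rw [hAfix] at hyfix
      rcases dichotomy d ρ hp hsa halt (by omega) 2 y hyN hyS hyr with ⟨-, h1⟩ | ⟨h1, h2⟩
      · exfalso
        have h1' := h1 hr0
        rw [hyfix] at h1'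
        have h2 : 2 * finrank F E ∣ 2 * d - (2 * d - 2) := Nat.dvd_sub h2kd h1'
        have h3 : 2 * d - (2 * d - 2) = 2 := by omega
        rw [h3] at h2
        have := Nat.le_of_dvd (by norm_num) h2
        omega
      · rw [hyfix, h2] at h1
        exact ⟨rfl, by omega, h2, hodd⟩
    · exfalso
      have hord : orderOf ((Fintype.card F : ℕ) : ZMod r) ∣ 2 * j := by
        apply orderOf_dvd_of_pow_eq_one
        have h1 := (ZMod.natCast_eq_zero_iff _ r).2 hrj
        rw [Nat.cast_sub hq1, Nat.cast_pow, Nat.cast_one, sub_eq_zero] at h1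
        exact h1
      have hcj := blockDim_dvd_of_dvd_two_mul (Fintype.card F) r j hord
      have hcpos : 0 < blockDim (Fintype.card F) r := blockDim_pos (F := F) r hrp
      have hcle : blockDim (Fintype.card F) r ≤ 2 * j := Nat.le_of_dvd (by omega) hcj
      obtain ⟨A, hA, hAr, hAfix, -⟩ := exists_sp_model (F := F) r hr2 hrp d
        (2 * d - blockDim (Fintype.card F) r) 1 (by omega)
      obtain ⟨y, hyN, hyS, hyr, hyfix⟩ := apply_hyp d ρ r H A hA hAr
        (nonscalar_of_fix d (by omega) r hr2 A hA hAr (by omega))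
      rw [hAfix] at hyfix
      rcases dichotomy d ρ hp hsa halt (by omega) r y hyN hyS hyr with ⟨-, h1⟩ | ⟨h1, h2⟩
      · have h1' := h1 hr0
        rw [hyfix] at h1'
        have h2 : 2 * finrank F E ∣ 2 * d - (2 * d - blockDim (Fintype.card F) r) :=
          Nat.dvd_sub h2kd h1'
        have h3 : 2 * d - (2 * d - blockDim (Fintype.card F) r) = blockDim (Fintype.card F) r := by
          omega
        rw [h3] at h2
        have h4 : 2 * finrank F E ∣ 2 * j := h2.trans hcj
        exact hkj (Nat.dvd_of_mul_dvd_mul_left (by norm_num) h4)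
      · rw [hyfix] at h1
        have hcr : blockDim (Fintype.card F) r ∣ r - 1 := blockDim_dvd_pred (F := F) r hrp hr2
        have hcr' : blockDim (Fintype.card F) r ≤ r - 1 :=
          Nat.le_of_dvd (by have := hr.two_le; omega) hcr
        rw [h2] at hn
        have h3 : r * (2 * (r * n) - blockDim (Fintype.card F) r) ≤ r * (2 * n) := by
          rw [h2, hn] at h1
          calc r * (2 * (r * n) - blockDim (Fintype.card F) r) ≤ 2 * (r * n) := h1
            _ = r * (2 * n) := by ring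
        have h4 := Nat.le_of_mul_le_mul_left h3 hr.pos
        have h5 : r ≤ r * n := Nat.le_mul_of_pos_right r hn1
        have h6 : 2 * n ≤ r * n := Nat.mul_le_mul_right n hr.two_le
        have := hr.two_le
        omega

end fwd

end Cfsg.Agent.Lib.Helper12.C3Sp
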