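import Mathlib
import Cfsg.Agent.Lib.Helper12.SpF
import Cfsg.Agent.Lib.Helper12.SpM

/-! Helper12 library (C3Sp, part H): in a four-dimensional symplectic space over a field of odd
characteristic, two nonscalar isometric involutions are conjugate by an isometry. -/

set_option autoImplicit false
set_option linter.style.haveILetI false

namespace Cfsg.Agent.Lib.Helper12.C3Sp

open Module Cfsg.Agent.Lib.Helper12.Elus Cfsg.Agent.Lib.Helper12.Sp

section invol

universe u v

variable {F : Type u} [Field F] {V : Type v} [AddCommGroup V] [Module F V]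
  [FiniteDimensional F V] (B : LinearMap.BilinForm F V)

omit [FiniteDimensional F V] in
theorem iSup_fin_two' (D : Fin 2 → Submodule F V) : iSup D = D 0 ⊔ D 1 :=
  le_antisymm (iSup_le (Fin.forall_fin_two.2 ⟨le_sup_left, le_sup_right⟩))
    (sup_le (le_iSup D 0) (le_iSup D 1))

omit [FiniteDimensional F V] in
theorem movR_neg (x : V →ₗ[F] V) (hx : x ^ 2 = 1) : ∀ v ∈ movR x, x v = -v := by
  rintro _ ⟨w, rfl⟩
  have h1 : x (x w) = w := by
    have := congrArg (fun g : V →ₗ[F] V => g w) hx
    simpa [pow_two] using this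
  rw [LinearMap.sub_apply, Module.End.one_apply, map_sub, h1]
  abel

/-- the decomposition of a four-dimensional space by a nonscalar involution -/
theorem isODec_invol (halt : ∀ v, B v v = 0) (hnd : ∀ a, (∀ z, B a z = 0) → a = 0)
    (h2 : ((2 : ℕ) : F) ≠ 0) (hdim : finrank F V = 4) (x : V →ₗ[F] V)
    (hiso : ∀ u v, B (x u) (x v) = B u v) (hx : x ^ 2 = 1) (hx1 : x ≠ 1) (hx2 : x ≠ -1) :
    IsODec B 2 ![fixE x, movR x] := by
  haveI : Fact (Nat.Prime 2) := ⟨Nat.prime_two⟩
  have htop : NdOn B (⊤ : Submodule F V) := by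
    intro u _ hu0
    by_contra hcon
    push Not at hcon
    exact hu0 (hnd u (fun z => hcon z Submodule.mem_top))
  have htinv : ∀ v ∈ (⊤ : Submodule F V), x v ∈ (⊤ : Submodule F V) := fun _ _ => Submodule.mem_top
  have hEnd : NdOn B (fixE x) := by
    have := ndOn_inf_fix B x hiso 2 hx h2 ⊤ htinv htop
    rwa [top_inf_eq] at this
  have hRnd : NdOn B (movR x) := by
    have := ndOn_inf_mov B x halt hiso 2 hx h2 ⊤ htinv htop
    rwa [top_inf_eq] at this
  have hdisj : fixE x ⊓ movR x = ⊥ := fix_inf_mov x 2 hx h2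
  have hsplit : fixE x ⊔ movR x = ⊤ := by
    have := inv_split x 2 hx h2 ⊤ htinv
    rwa [top_inf_eq, top_inf_eq] at this
  have hen : finrank F (fixE x) + finrank F (movR x) = 4 := by
    have := Submodule.finrank_sup_add_finrank_inf_eq (fixE x) (movR x)
    rw [hsplit, hdisj, finrank_bot, add_zero, finrank_top, hdim] at this
    exact this.symm
  obtain ⟨e', he'⟩ := even_finrank_of_ndOn B halt _ hEnd
  obtain ⟨n', hn'⟩ := even_finrank_of_ndOn B halt _ hRnd
  have hneg := movR_neg x hx
  have hE4 : finrank F (fixE x) ≠ 4 := by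
    intro h4
    apply hx1
    have : fixE x = ⊤ := Submodule.eq_top_of_finrank_eq (by rw [h4, hdim])
    apply LinearMap.ext
    intro v
    rw [Module.End.one_apply]
    exact (mem_fixE x v).1 (by rw [this]; exact Submodule.mem_top)
  have hR4 : finrank F (movR x) ≠ 4 := by
    intro h4
    apply hx2
    have : movR x = ⊤ := Submodule.eq_top_of_finrank_eq (by rw [h4, hdim])
    apply LinearMap.ext
    intro v
    rw [LinearMap.neg_apply, Module.End.one_apply]
    exact hneg v (by rw [this]; exact Submodule.mem_top)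
  have hE2 : finrank F (fixE x) = 2 := by omega
  have hR2 : finrank F (movR x) = 2 := by omega
  refine ⟨?_, ?_, ?_, ?_, ?_⟩
  · intro i
    fin_cases i
    · exact hE2
    · exact hR2
  · rw [iSupIndep_pair (i := (0 : Fin 2)) (j := 1) (by decide) (by decide)]
    exact disjoint_iff.2 hdisj
  · rw [iSup_fin_two']
    exact hsplit
  · intro j
    fin_cases j
    · exact hEnd
    · exact hRnd
  · intro j j' hjj' u hu w hw
    fin_cases j <;> fin_cases j'
    · exact absurd rfl hjj'
    · exact fix_orth_mov B x hiso u w hu hw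
    · rw [alt_swap B halt]
      rw [fix_orth_mov B x hiso w u hw hu, neg_zero]
    · exact absurd rfl hjj'

/-- nonscalar isometric involutions of a four-dimensional symplectic space are conjugate -/
theorem invol_conj (halt : ∀ v, B v v = 0) (hnd : ∀ a, (∀ z, B a z = 0) → a = 0)
    (h2 : ((2 : ℕ) : F) ≠ 0) (hdim : finrank F V = 4) (x y : V →ₗ[F] V)
    (hxiso : ∀ u v, B (x u) (x v) = B u v) (hx : x ^ 2 = 1) (hx1 : x ≠ 1) (hx2 : x ≠ -1)
    (hyiso : ∀ u v, B (y u) (y v) = B u v) (hy : y ^ 2 = 1) (hy1 : y ≠ 1) (hy2 : y ≠ -1) :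
    ∃ g : V ≃ₗ[F] V, (∀ u v, B (g u) (g v) = B u v) ∧ ∀ v, g (x v) = y (g v) := by
  have hDx := isODec_invol B halt hnd h2 hdim x hxiso hx hx1 hx2
  have hDy := isODec_invol B halt hnd h2 hdim y hyiso hy hy1 hy2
  obtain ⟨g, hgiso, hg⟩ := exists_iso_of_odec B halt _ _ hDx hDy
  refine ⟨g, hgiso, ?_⟩
  have hg0 : ∀ v ∈ fixE x, g v ∈ fixE y := by
    intro v hv
    have h1 : g v ∈ (fixE x).map (g : V →ₗ[F] V) := ⟨v, hv, rfl⟩
    have h3 : (fixE x).map (g : V →ₗ[F] V) = fixE y := hg 0
    rw [h3] at h1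
    exact h1
  have hg1 : ∀ v ∈ movR x, g v ∈ movR y := by
    intro v hv
    have h1 : g v ∈ (movR x).map (g : V →ₗ[F] V) := ⟨v, hv, rfl⟩
    have h3 : (movR x).map (g : V →ₗ[F] V) = movR y := hg 1
    rw [h3] at h1
    exact h1
  have hsplit : fixE x ⊔ movR x = ⊤ := by
    have := hDx.2.2.1
    rwa [iSup_fin_two'] at this
  intro v
  have hv : v ∈ fixE x ⊔ movR x := by rw [hsplit]; exact Submodule.mem_top
  obtain ⟨a, ha, c, hc, rfl⟩ := Submodule.mem_sup.1 hv
  rw [map_add, map_add, map_add, map_add, (mem_fixE x a).1 ha, (mem_fixE y _).1 (hg0 a ha),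
    movR_neg x hx c hc, movR_neg y hy _ (hg1 c hc), map_neg]

end invol

end Cfsg.Agent.Lib.Helper12.C3Sp
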