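import Mathlib
import Cfsg.Agent.Lib.Helper12.SpF
import Cfsg.Agent.Lib.Helper12.SpM

/-! Helper12 library (C3Sp, part I): in a four-dimensional symplectic space over a finite field of
odd characteristic, two isometries with square `-1` are conjugate by an isometry. -/

set_option autoImplicit false
set_option linter.style.haveILetI false

namespace Cfsg.Agent.Lib.Helper12.C3Sp

open Module Cfsg.Agent.Lib.Helper12.Elus Cfsg.Agent.Lib.Helper12.Sp Cfsg.Agent.Lib.Helper15

section hypequiv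

universe u

variable {F : Type*} [Field F]

/-- the coordinate isomorphism of a hyperbolic system of full size -/
theorem hyp_equiv (W : Type u) [AddCommGroup W] [Module F W] [FiniteDimensional F W]
    (γ : LinearMap.BilinForm F W) (halt : ∀ x, γ x x = 0) (k : ℕ) (e f : Fin k → W)
    (hyp : SymIso.Hyp γ k e f) (hk : 2 * k = finrank F W) :
    ∃ Ψ : (Fin k ⊕ Fin k → F) ≃ₗ[F] W, (∀ u v, γ (Ψ u) (Ψ v) = Cfsg.sympForm k F u v) ∧
      ∀ u, Ψ u = ∑ a, u a • Sum.elim f e a := by
  let ψ : (Fin k ⊕ Fin k → F) →ₗ[F] W := Fintype.linearCombination F (Sum.elim f e)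
  have hψ : ∀ u v, γ (ψ u) (ψ v) = Cfsg.sympForm k F u v := by
    intro u v
    show γ (Fintype.linearCombination F (Sum.elim f e) u)
      (Fintype.linearCombination F (Sum.elim f e) v) = _
    rw [Fintype.linearCombination_apply, Fintype.linearCombination_apply,
      LinearMap.BilinForm.sum_left]
    unfold Cfsg.sympForm
    rw [dotProduct]
    apply Finset.sum_congr rfl
    intro a _
    rw [LinearMap.BilinForm.smul_left, LinearMap.BilinForm.sum_right, Matrix.mulVec, dotProduct]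
    congr 1
    apply Finset.sum_congr rfl
    intro b _
    rw [LinearMap.BilinForm.smul_right, SymIso.gram_J γ halt hyp, mul_comm]
  have hinj : Function.Injective ψ := by
    rw [← LinearMap.ker_eq_bot, LinearMap.ker_eq_bot']
    intro u hu
    have h1 : ∀ v, Cfsg.Agent.Lib.Helper15.sympBilin k u v = 0 := by
      intro v
      rw [Cfsg.Agent.Lib.Helper15.sympBilin_apply, ← hψ, hu, map_zero, LinearMap.zero_apply]
    exact (Cfsg.Agent.Lib.Helper15.sympBilin_nondegenerate (F := F) k).1 u h1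
  have hfr : finrank F (Fin k ⊕ Fin k → F) = finrank F W := by
    rw [Module.finrank_fintype_fun_eq_card, Fintype.card_sum, Fintype.card_fin]
    omega
  have hsurj : Function.Surjective ψ :=
    (LinearMap.injective_iff_surjective_of_finrank_eq_finrank hfr).1 hinj
  refine ⟨LinearEquiv.ofBijective ψ ⟨hinj, hsurj⟩, hψ, fun u => ?_⟩
  show Fintype.linearCombination F (Sum.elim f e) u = _
  rw [Fintype.linearCombination_apply]

end hypequiv

section sqneg

universe u v

variable {F : Type u} [Field F] {V : Type v} [AddCommGroup V] [Module F V]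
  (B : LinearMap.BilinForm F V) (x : V →ₗ[F] V)

/-- a vector `v` of an invariant nondegenerate subspace with `B v (x v) ≠ 0` -/
theorem exists_ne_vec (halt : ∀ v, B v v = 0) (hiso : ∀ u v, B (x u) (x v) = B u v)
    (h2 : (2 : F) ≠ 0) (hx : ∀ v, x (x v) = -v) (U : Submodule F V) (hU : ∀ u ∈ U, x u ∈ U)
    (hnd : NdOn B U) (hU0 : U ≠ ⊥) : ∃ v ∈ U, B v (x v) ≠ 0 := by
  by_contra hcon
  push Not at hcon
  obtain ⟨u, hu, hu0⟩ := Submodule.exists_mem_ne_zero_of_ne_bot hU0
  obtain ⟨w, hw, hne⟩ := hnd u hu hu0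
  apply hne
  -- `w = x (-(x w))`
  have hw' : w = x (-(x w)) := by rw [map_neg, hx, neg_neg]
  have hxw : -(x w) ∈ U := Submodule.neg_mem _ (hU w hw)
  set t := -(x w) with ht
  have h1 := hcon (u + t) (Submodule.add_mem _ hu hxw)
  simp only [map_add, LinearMap.add_apply] at h1
  rw [hcon u hu, hcon t hxw, zero_add, add_zero] at h1
  -- `B t (x u) = B u (x t)`
  have h3 : B t (x u) = B u (x t) := by
    have := hiso t (x u)
    rw [hx, map_neg, alt_swap B halt] at this
    rw [← this]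
    simp
  rw [h3] at h1
  have h4 : (2 : F) * B u (x t) = 0 := by linear_combination h1
  rcases mul_eq_zero.1 h4 with h5 | h5
  · exact absurd h5 h2
  · rw [hw']
    exact h5

/-- a vector `v` of an invariant nondegenerate subspace with `B v (x v) = 1` -/
theorem exists_unit_vec [Fintype F] (hodd : Fintype.card F % 2 = 1) (halt : ∀ v, B v v = 0)
    (hiso : ∀ u v, B (x u) (x v) = B u v)
    (h2 : (2 : F) ≠ 0) (hx : ∀ v, x (x v) = -v) (U : Submodule F V) (hU : ∀ u ∈ U, x u ∈ U)
    (hnd : NdOn B U) (hU0 : U ≠ ⊥) : ∃ v ∈ U, B v (x v) = 1 := by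
  obtain ⟨v, hv, hc⟩ := exists_ne_vec B x halt hiso h2 hx U hU hnd hU0
  set c := B v (x v) with hcdef
  obtain ⟨a, b, hab⟩ := FiniteField.exists_root_sum_quadratic (R := F)
    (f := Polynomial.X ^ 2) (g := Polynomial.X ^ 2 - Polynomial.C c⁻¹)
    (Polynomial.degree_X_pow 2) (Polynomial.degree_X_pow_sub_C (by norm_num) _) hodd
  simp only [Polynomial.eval_pow, Polynomial.eval_X, Polynomial.eval_sub, Polynomial.eval_C] at hab
  have hab' : a ^ 2 + b ^ 2 = c⁻¹ := by linear_combination hab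
  refine ⟨a • v + b • x v, Submodule.add_mem _ (Submodule.smul_mem _ _ hv)
    (Submodule.smul_mem _ _ (hU v hv)), ?_⟩
  have h1 : B (x v) v = -c := by rw [alt_swap B halt]
  have h3 : B (x v) (x v) = 0 := halt _
  have hxx : x (a • v + b • x v) = a • x v - b • v := by
    rw [map_add, map_smul, map_smul, hx, smul_neg, sub_eq_add_neg]
  rw [hxx]
  simp only [map_add, map_sub, map_smul, LinearMap.add_apply,
    LinearMap.smul_apply, smul_eq_mul, halt, h1]
  rw [← hcdef]
  have : (a ^ 2 + b ^ 2) * c = 1 := by rw [hab', inv_mul_cancel₀ hc]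
  linear_combination this

/-- a normalized hyperbolic system adapted to `x` -/
theorem exists_ns [Fintype F] [FiniteDimensional F V] (hodd : Fintype.card F % 2 = 1)
    (halt : ∀ v, B v v = 0) (hnd : ∀ a, (∀ z, B a z = 0) → a = 0)
    (hiso : ∀ u v, B (x u) (x v) = B u v) (h2 : (2 : F) ≠ 0) (hx : ∀ v, x (x v) = -v)
    (hdim : finrank F V = 4) :
    ∃ v₁ v₂ : V, SymIso.Hyp B 2 ![v₁, v₂] ![x v₁, x v₂] := by
  have htop : NdOn B (⊤ : Submodule F V) := by
    intro u _ hu0
    by_contra hcon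
    push Not at hcon
    exact hu0 (hnd u (fun z => hcon z Submodule.mem_top))
  have htop0 : (⊤ : Submodule F V) ≠ ⊥ := by
    intro h
    have := finrank_top F V
    rw [h, finrank_bot, hdim] at this
    omega
  obtain ⟨v₁, -, hv₁⟩ := exists_unit_vec B x hodd halt hiso h2 hx ⊤
    (fun _ _ => Submodule.mem_top) htop htop0
  obtain ⟨hW₁nd, hW₁dim⟩ := ndOn_span_pair B halt v₁ (x v₁) (by rw [hv₁]; exact one_ne_zero)
  set W₁ := Submodule.span F {v₁, x v₁} with hW₁
  have hW₁inv : ∀ w ∈ W₁, x w ∈ W₁ := by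
    intro w hw
    obtain ⟨α, β, rfl⟩ := Submodule.mem_span_pair.1 hw
    rw [map_add, map_smul, map_smul, hx]
    apply Submodule.mem_span_pair.2
    exact ⟨-β, α, by rw [neg_smul, smul_neg]; abel⟩
  have hx4 : x ^ 4 = 1 := by
    apply LinearMap.ext
    intro v
    have : x ^ 4 = x * x * (x * x) := by
      rw [show (4 : ℕ) = 2 + 2 from rfl, pow_add, pow_two]
    rw [this, Module.End.mul_apply, Module.End.mul_apply, Module.End.mul_apply, hx, hx, neg_neg,
      Module.End.one_apply]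
  have hU₂nd : NdOn B (⊤ ⊓ B.orthogonal W₁) := ndOn_inf_orth B halt ⊤ W₁ htop le_top hW₁nd
  have hU₂dim := finrank_inf_orth B halt ⊤ W₁ le_top hW₁nd
  rw [finrank_top, hdim, hW₁dim] at hU₂dim
  have hU₂0 : (⊤ ⊓ B.orthogonal W₁ : Submodule F V) ≠ ⊥ := by
    intro h
    rw [h, finrank_bot] at hU₂dim
    omega
  have hU₂inv : ∀ u ∈ (⊤ ⊓ B.orthogonal W₁ : Submodule F V), x u ∈
      (⊤ ⊓ B.orthogonal W₁ : Submodule F V) := by
    intro u hu
    exact ⟨Submodule.mem_top, orth_invariant B x hiso 4 (by norm_num) hx4 W₁ hW₁inv u hu.2⟩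
  obtain ⟨v₂, hv₂U, hv₂⟩ := exists_unit_vec B x hodd halt hiso h2 hx _ hU₂inv hU₂nd hU₂0
  have horth := (mem_orth B W₁ v₂).1 hv₂U.2
  have h12 : B v₁ v₂ = 0 := horth v₁ (Submodule.subset_span (by simp))
  have hx12 : B (x v₁) v₂ = 0 := horth (x v₁) (Submodule.subset_span (by simp))
  have h21 : B v₂ v₁ = 0 := by rw [alt_swap B halt, h12, neg_zero]
  have h1x2 : B v₁ (x v₂) = 0 := by
    have := hiso v₁ (x v₂)
    rw [hx, map_neg, hx12, neg_zero] at this
    exact this.symm
  have h2x1 : B v₂ (x v₁) = 0 := by rw [alt_swap B halt, hx12, neg_zero]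
  refine ⟨v₁, v₂, ?_, ?_, ?_⟩
  · intro i j
    fin_cases i <;> fin_cases j
    · exact halt v₁
    · exact h12
    · exact h21
    · exact halt v₂
  · intro i j
    fin_cases i <;> fin_cases j
    · exact halt _
    · show B (x v₁) (x v₂) = 0
      rw [hiso, h12]
    · show B (x v₂) (x v₁) = 0
      rw [hiso, h21]
    · exact halt _
  · intro i j
    fin_cases i <;> fin_cases j
    · exact hv₁
    · exact h1x2
    · exact h2x1
    · exact hv₂

/-- the standard complex structure in coordinates -/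
def jstd (k : ℕ) (u : Fin k ⊕ Fin k → F) : Fin k ⊕ Fin k → F :=
  Sum.elim (fun i => u (Sum.inr i)) (fun i => - u (Sum.inl i))

theorem x_comb (hx : ∀ v, x (x v) = -v) (k : ℕ) (e : Fin k → V) (u : Fin k ⊕ Fin k → F) :
    x (∑ a, u a • Sum.elim (fun i => x (e i)) e a) =
      ∑ a, jstd k u a • Sum.elim (fun i => x (e i)) e a := by
  rw [Fintype.sum_sum_type, Fintype.sum_sum_type, map_add, map_sum, map_sum, add_comm]
  congr 1
  · apply Finset.sum_congr rfl
    intro i _
    rw [map_smul]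
    rfl
  · apply Finset.sum_congr rfl
    intro i _
    rw [map_smul]
    show u (Sum.inl i) • x (x (e i)) = (- u (Sum.inl i)) • e i
    rw [hx, smul_neg, neg_smul]

/-- isometries with square `-1` of a four-dimensional symplectic space are conjugate -/
theorem sqneg_conj [Fintype F] [FiniteDimensional F V] (hodd : Fintype.card F % 2 = 1)
    (halt : ∀ v, B v v = 0) (hnd : ∀ a, (∀ z, B a z = 0) → a = 0) (h2 : (2 : F) ≠ 0)
    (hdim : finrank F V = 4) (y : V →ₗ[F] V)
    (hxiso : ∀ u v, B (x u) (x v) = B u v) (hx : ∀ v, x (x v) = -v)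
    (hyiso : ∀ u v, B (y u) (y v) = B u v) (hy : ∀ v, y (y v) = -v) :
    ∃ g : V ≃ₗ[F] V, (∀ u v, B (g u) (g v) = B u v) ∧ ∀ v, g (x v) = y (g v) := by
  obtain ⟨v₁, v₂, hyp⟩ := exists_ns B x hodd halt hnd hxiso h2 hx hdim
  obtain ⟨w₁, w₂, hyp'⟩ := exists_ns B y hodd halt hnd hyiso h2 hy hdim
  have hf : (![x v₁, x v₂] : Fin 2 → V) = fun i => x (![v₁, v₂] i) := by
    funext i
    fin_cases i <;> rfl
  have hf' : (![y w₁, y w₂] : Fin 2 → V) = fun i => y (![w₁, w₂] i) := by
    funext i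
    fin_cases i <;> rfl
  rw [hf] at hyp
  rw [hf'] at hyp'
  obtain ⟨Ψ, hΨiso, hΨ⟩ := hyp_equiv V B halt 2 _ _ hyp (by rw [hdim])
  obtain ⟨Ψ', hΨ'iso, hΨ'⟩ := hyp_equiv V B halt 2 _ _ hyp' (by rw [hdim])
  refine ⟨Ψ.symm.trans Ψ', ?_, ?_⟩
  · intro u v
    rw [LinearEquiv.trans_apply, LinearEquiv.trans_apply, hΨ'iso, ← hΨiso,
      LinearEquiv.apply_symm_apply, LinearEquiv.apply_symm_apply]
  · intro v
    obtain ⟨u, rfl⟩ := Ψ.surjective v
    have h1 : x (Ψ u) = Ψ (jstd 2 u) := by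
      rw [hΨ, hΨ, x_comb x hx]
    have h3 : y (Ψ' u) = Ψ' (jstd 2 u) := by
      rw [hΨ', hΨ', x_comb y hy]
    rw [h1, LinearEquiv.trans_apply, LinearEquiv.trans_apply, LinearEquiv.symm_apply_apply,
      LinearEquiv.symm_apply_apply, h3]

end sqneg

end Cfsg.Agent.Lib.Helper12.C3Sp
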