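import Mathlib
import Cfsg.Agent.Lib.Helper12.C3SpA

/-! Helper12 library (C3Sp, part J): a two-dimensional symplectic space over a quadratic extension
`E` of `F`: an `E`-linear isometry with square `-1`, and a semilinear involution preserving the
trace of the form. -/

set_option autoImplicit false
set_option linter.style.haveILetI false

namespace Cfsg.Agent.Lib.Helper12.C3Sp

open Module Cfsg.Agent.Lib.Helper15

section models

universe u

variable {E : Type*} [Field E] {V : Type u} [AddCommGroup V] [Module E V]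
  (Φ : LinearMap.BilinForm E V)

theorem exists_pair [FiniteDimensional E V] (hnd : ∀ x, (∀ y, Φ x y = 0) → x = 0)
    (hdim : finrank E V = 2) : ∃ e₁ e₂ : V, Φ e₁ e₂ = 1 := by
  have hpos : 0 < finrank E V := by omega
  obtain ⟨e₁, he₁⟩ := Module.finrank_pos_iff_exists_ne_zero.1 hpos
  have h1 : ∃ y', Φ e₁ y' ≠ 0 := by
    by_contra hcon
    push Not at hcon
    exact he₁ (hnd e₁ hcon)
  obtain ⟨y', hy'⟩ := h1
  refine ⟨e₁, (Φ e₁ y')⁻¹ • y', ?_⟩
  rw [map_smul, smul_eq_mul, inv_mul_cancel₀ hy']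

theorem expand [FiniteDimensional E V] (halt : ∀ v, Φ v v = 0) (hdim : finrank E V = 2)
    (e₁ e₂ : V) (h : Φ e₁ e₂ = 1) (v : V) : v = Φ v e₂ • e₁ - Φ v e₁ • e₂ := by
  have h1 := SymIso.proj_mem Φ halt e₁ e₂ h v
  have h2 := SymIso.finrank_pairPerp Φ halt e₁ e₂ h
  have h3 : SymIso.pairPerp Φ e₁ e₂ = ⊥ := by
    apply Submodule.finrank_eq_zero.1
    omega
  rw [h3, Submodule.mem_bot] at h1
  have h4 : Φ e₂ v = - Φ v e₂ := SymIso.alt_swap Φ halt v e₂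
  have h5 : Φ e₁ v = - Φ v e₁ := SymIso.alt_swap Φ halt v e₁
  rw [h4, h5] at h1
  generalize Φ v e₂ = a at h1 ⊢
  generalize Φ v e₁ = b at h1 ⊢
  have h6 : v = v + -a • e₁ - -b • e₂ + (a • e₁ - b • e₂) := by
    rw [neg_smul, neg_smul]
    abel
  rw [h1, zero_add] at h6
  exact h6

/-- the `E`-linear model with square `-1` -/
noncomputable def m1 (e₁ e₂ : V) : V →ₗ[E] V where
  toFun v := Φ v e₂ • e₂ + Φ v e₁ • e₁
  map_add' u v := by
    simp only [map_add, LinearMap.add_apply, add_smul]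
    abel
  map_smul' a v := by
    simp only [map_smul, LinearMap.smul_apply, smul_eq_mul, mul_smul, smul_add, RingHom.id_apply]

theorem m1_apply (e₁ e₂ v : V) : m1 Φ e₁ e₂ v = Φ v e₂ • e₂ + Φ v e₁ • e₁ := rfl

theorem m1_sq [FiniteDimensional E V] (halt : ∀ v, Φ v v = 0) (hdim : finrank E V = 2)
    (e₁ e₂ : V) (h : Φ e₁ e₂ = 1) (v : V) : m1 Φ e₁ e₂ (m1 Φ e₁ e₂ v) = -v := by
  have h21 : Φ e₂ e₁ = -1 := by rw [SymIso.alt_swap Φ halt e₁ e₂, h]
  have hv := expand Φ halt hdim e₁ e₂ h v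
  rw [m1_apply, m1_apply]
  simp only [map_add, map_smul, LinearMap.add_apply, LinearMap.smul_apply, smul_eq_mul, halt, h,
    h21, mul_zero, mul_one, zero_add, add_zero, mul_neg, neg_smul]
  generalize Φ v e₂ = a at hv ⊢
  generalize Φ v e₁ = b at hv ⊢
  rw [hv]
  abel

theorem m1_iso [FiniteDimensional E V] (halt : ∀ v, Φ v v = 0) (hdim : finrank E V = 2)
    (e₁ e₂ : V) (h : Φ e₁ e₂ = 1) (u v : V) :
    Φ (m1 Φ e₁ e₂ u) (m1 Φ e₁ e₂ v) = Φ u v := by
  have h21 : Φ e₂ e₁ = -1 := by rw [SymIso.alt_swap Φ halt e₁ e₂, h]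
  have hu := expand Φ halt hdim e₁ e₂ h u
  have hv := expand Φ halt hdim e₁ e₂ h v
  have key : Φ u v = Φ (Φ u e₂ • e₁ - Φ u e₁ • e₂) (Φ v e₂ • e₁ - Φ v e₁ • e₂) := by
    rw [← hu, ← hv]
  rw [m1_apply, m1_apply, key]
  simp only [map_add, map_sub, map_smul, LinearMap.add_apply, LinearMap.sub_apply,
    LinearMap.smul_apply, smul_eq_mul, halt, h, h21]
  ring

end models

section semimodel

universe u

variable {F E : Type*} [Field F] [Field E] [Algebra F E] {V : Type u} [AddCommGroup V]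
  [Module F V] [Module E V] [IsScalarTower F E V] (Φ : LinearMap.BilinForm E V) (σ : E ≃ₐ[F] E)

/-- the semilinear model -/
noncomputable def m2 (e₁ e₂ : V) : V →ₗ[F] V where
  toFun v := σ (Φ v e₂) • e₁ - σ (Φ v e₁) • e₂
  map_add' u v := by
    simp only [map_add, LinearMap.add_apply, add_smul]
    abel
  map_smul' c v := by
    have h1 : ∀ w : V, Φ (c • v) w = c • Φ v w := by
      intro w
      rw [← algebraMap_smul E c v, map_smul, LinearMap.smul_apply, smul_eq_mul, Algebra.smul_def]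
    simp only [h1, map_smul, RingHom.id_apply, smul_sub, smul_assoc]

theorem m2_apply (e₁ e₂ v : V) : m2 Φ σ e₁ e₂ v = σ (Φ v e₂) • e₁ - σ (Φ v e₁) • e₂ := rfl

theorem m2_semilinear (e₁ e₂ : V) (a : E) (v : V) :
    m2 Φ σ e₁ e₂ (a • v) = σ a • m2 Φ σ e₁ e₂ v := by
  rw [m2_apply, m2_apply]
  simp only [map_smul, LinearMap.smul_apply, smul_eq_mul, map_mul, mul_smul, smul_sub]

theorem m2_form (halt : ∀ v, Φ v v = 0) (e₁ e₂ : V) (h : Φ e₁ e₂ = 1) (v : V) :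
    Φ (m2 Φ σ e₁ e₂ v) e₂ = σ (Φ v e₂) ∧ Φ (m2 Φ σ e₁ e₂ v) e₁ = σ (Φ v e₁) := by
  have h21 : Φ e₂ e₁ = -1 := by rw [SymIso.alt_swap Φ halt e₁ e₂, h]
  rw [m2_apply]
  simp only [map_sub, map_smul, LinearMap.sub_apply, LinearMap.smul_apply, smul_eq_mul, halt, h,
    h21]
  constructor <;> ring

theorem m2_sq [FiniteDimensional E V] (halt : ∀ v, Φ v v = 0) (hdim : finrank E V = 2)
    (hσ : ∀ a, σ (σ a) = a) (e₁ e₂ : V) (h : Φ e₁ e₂ = 1) (v : V) :
    m2 Φ σ e₁ e₂ (m2 Φ σ e₁ e₂ v) = v := by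
  obtain ⟨h1, h2⟩ := m2_form Φ σ halt e₁ e₂ h v
  have hv := expand Φ halt hdim e₁ e₂ h v
  rw [m2_apply, h1, h2, hσ, hσ]
  exact hv.symm

theorem m2_iso [FiniteDimensional E V] (halt : ∀ v, Φ v v = 0) (hdim : finrank E V = 2)
    (e₁ e₂ : V) (h : Φ e₁ e₂ = 1) (u v : V) :
    Φ (m2 Φ σ e₁ e₂ u) (m2 Φ σ e₁ e₂ v) = σ (Φ u v) := by
  have h21 : Φ e₂ e₁ = -1 := by rw [SymIso.alt_swap Φ halt e₁ e₂, h]
  have hu := expand Φ halt hdim e₁ e₂ h u
  have hv := expand Φ halt hdim e₁ e₂ h v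
  have key : Φ u v = Φ (Φ u e₂ • e₁ - Φ u e₁ • e₂) (Φ v e₂ • e₁ - Φ v e₁ • e₂) := by
    rw [← hu, ← hv]
  rw [m2_apply, m2_apply, key]
  simp only [map_sub, map_smul, LinearMap.sub_apply,
    LinearMap.smul_apply, smul_eq_mul, halt, h, h21, map_mul, map_neg, map_one, map_zero]

theorem m2_fix (halt : ∀ v, Φ v v = 0) (e₁ e₂ : V) (h : Φ e₁ e₂ = 1) :
    m2 Φ σ e₁ e₂ e₁ = e₁ := by
  rw [m2_apply, halt, h, map_one, map_zero, one_smul, zero_smul, sub_zero]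

end semimodel

end Cfsg.Agent.Lib.Helper12.C3Sp
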