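import Mathlib
import Cfsg.Prelude.Def_GeometricClasses
import Cfsg.Agent.Lib.Helper12.C3SpE
import Cfsg.Agent.Lib.Helper12.C3SpH
import Cfsg.Agent.Lib.Helper12.C3SpI
import Cfsg.Agent.Lib.Helper12.C3SpJ

/-! Helper12 library (C3Sp, part K): in `Sp_4(q)`, `q` odd, every element with scalar square is
conjugate into the normalizer of a self-adjoint quadratic extension field. -/

set_option autoImplicit false
set_option linter.style.haveILetI false

namespace Cfsg.Agent.Lib.Helper12.C3Sp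

open Module Matrix Cfsg.Agent.Lib.Helper12.Elus Cfsg.Agent.Lib.Helper12.Sp
open Cfsg.Agent.Lib.Helper15

section bwd

universe u

variable {F : Type u} [Field F] {ι : Type} [Fintype ι] [DecidableEq ι]
  {E : Type*} [Field E] [Algebra F E] (ρ : E →ₐ[F] Matrix ι ι F)

/-- an invertible matrix intertwining the field with a twist by a bijection normalizes it -/
theorem mem_normalizer_of_twist (G : GL ι F) (τ : E ≃ E)
    (h : ∀ a, (G : Matrix ι ι F) * ρ a = ρ (τ a) * (G : Matrix ι ι F)) :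
    G ∈ Cfsg.Geo.subalgebraNormalizer ρ.range := by
  intro k
  constructor
  · intro hk
    obtain ⟨a, rfl⟩ := (AlgHom.mem_range ρ).1 hk
    apply (AlgHom.mem_range ρ).2
    refine ⟨τ a, ?_⟩
    rw [h, mul_assoc, gl_mul_inv, mul_one]
  · intro hk
    obtain ⟨b, hb⟩ := (AlgHom.mem_range ρ).1 hk
    apply (AlgHom.mem_range ρ).2
    refine ⟨τ.symm b, ?_⟩
    have h1 := h (τ.symm b)
    rw [Equiv.apply_symm_apply, hb] at h1
    have h2 : (G : Matrix ι ι F) * ρ (τ.symm b) = (G : Matrix ι ι F) * k := by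
      rw [h1, mul_assoc, mul_assoc, gl_inv_mul, mul_one]
    calc ρ (τ.symm b) = ((G⁻¹ : GL ι F) : Matrix ι ι F) * ((G : Matrix ι ι F) * ρ (τ.symm b)) := by
          rw [← mul_assoc, gl_inv_mul, one_mul]
      _ = k := by rw [h2, ← mul_assoc, gl_inv_mul, one_mul]

/-- conjugacy of linear equivalences gives conjugacy in `GL` -/
theorem gl_conj (x : GL ι F) (g y : (ι → F) ≃ₗ[F] (ι → F))
    (h : ∀ v, g ((x : Matrix ι ι F) *ᵥ v) = y (g v)) :
    ((glLin.symm g)⁻¹)⁻¹ * x * (glLin.symm g)⁻¹ = glLin.symm y := by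
  rw [inv_inv]
  apply glLin.injective
  rw [map_mul, map_mul, map_inv, MulEquiv.apply_symm_apply, MulEquiv.apply_symm_apply]
  rw [mul_inv_eq_iff_eq_mul]
  apply LinearEquiv.ext
  intro v
  rw [LinearEquiv.mul_apply, LinearEquiv.mul_apply, glLin_apply]
  exact h v

omit [Field E] [Algebra F E] in
theorem matrix_eq_of_mulVec (A B : Matrix ι ι F) (h : ∀ v, A *ᵥ v = B *ᵥ v) : A = B := by
  apply Matrix.toLin'.injective
  apply LinearMap.ext
  intro v
  rw [Matrix.toLin'_apply, Matrix.toLin'_apply]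
  exact h v

/-- a linear equivalence which is semilinear for a bijection of the field normalizes the field -/
theorem mem_normalizer_of_semilinear (y : (ι → F) ≃ₗ[F] (ι → F)) (τ : E ≃ E)
    (h : letI := modOf ρ; ∀ (a : E) (v : ι → F), y (a • v) = τ a • y v) :
    glLin.symm y ∈ Cfsg.Geo.subalgebraNormalizer ρ.range := by
  letI := modOf ρ
  apply mem_normalizer_of_twist ρ _ τ
  intro a
  apply matrix_eq_of_mulVec
  intro v
  have h1 : ∀ w, ((glLin.symm y : GL ι F) : Matrix ι ι F) *ᵥ w = y w := by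
    intro w
    rw [← glLin_apply, MulEquiv.apply_symm_apply]
  rw [← Matrix.mulVec_mulVec, ← Matrix.mulVec_mulVec, h1, h1, ← smul_def, ← smul_def]
  exact h a v

end bwd

section bwd2

universe u

variable {F : Type u} [Field F] [Fintype F]
  {E : Type*} [Field E] [Algebra F E] [FiniteDimensional F E]
  (ρ : E →ₐ[F] Matrix (Fin 2 ⊕ Fin 2) (Fin 2 ⊕ Fin 2) F)

omit [Fintype F] in
theorem symm_mem_spGL (g : (Fin 2 ⊕ Fin 2 → F) ≃ₗ[F] (Fin 2 ⊕ Fin 2 → F))
    (hg : ∀ u v, sympBilin 2 (F := F) (g u) (g v) = sympBilin 2 u v) :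
    glLin.symm g ∈ Cfsg.spGL 2 F := by
  rw [mem_spGL']
  intro u v
  have h1 : ∀ w, ((glLin.symm g : GL (Fin 2 ⊕ Fin 2) F) :
      Matrix (Fin 2 ⊕ Fin 2) (Fin 2 ⊕ Fin 2) F) *ᵥ w = g w := by
    intro w
    rw [← glLin_apply, MulEquiv.apply_symm_apply]
  rw [h1, h1, ← sympBilin_apply, ← sympBilin_apply]
  exact hg u v

theorem two_ne_zero_of_odd (hodd : Odd (Fintype.card F)) : (2 : F) ≠ 0 := by
  intro h2
  haveI : CharP F 2 := CharTwo.of_one_ne_zero_of_two_eq_zero one_ne_zero h2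
  haveI : Fact (Nat.Prime 2) := ⟨Nat.prime_two⟩
  obtain ⟨n, -, hn⟩ := FiniteField.card F 2
  rw [hn] at hodd
  have : Even (2 ^ (n : ℕ)) := (Nat.even_pow' n.ne_zero).2 even_two
  exact (Nat.not_even_iff_odd.2 hodd) this

/-- a nontrivial automorphism of order two of a quadratic extension of finite fields -/
theorem exists_sigma (hk : finrank F E = 2) :
    ∃ σ : E ≃ₐ[F] E, (∃ a, σ a ≠ a) ∧ ∀ a, σ (σ a) = a := by
  haveI : Finite E := Module.finite_of_finite F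
  have hcard : Nat.card (E ≃ₐ[F] E) = 2 := by rw [IsGalois.card_aut_eq_finrank F E, hk]
  haveI : Finite (E ≃ₐ[F] E) := Nat.finite_of_card_ne_zero (by rw [hcard]; norm_num)
  have hnt : Nontrivial (E ≃ₐ[F] E) := by
    rw [← Finite.one_lt_card_iff_nontrivial, hcard]
    norm_num
  obtain ⟨σ, hσ⟩ := exists_ne (1 : E ≃ₐ[F] E)
  refine ⟨σ, ?_, ?_⟩
  · by_contra hcon
    push Not at hcon
    apply hσ
    apply AlgEquiv.ext
    intro a
    rw [AlgEquiv.one_apply]
    exact hcon a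
  · intro a
    have h1 : σ ^ 2 = 1 := by
      have := pow_card_eq_one' (G := E ≃ₐ[F] E) (x := σ)
      rwa [hcard] at this
    have h2 := congrArg (fun τ : E ≃ₐ[F] E => τ a) h1
    simpa [pow_two, AlgEquiv.mul_apply] using h2

theorem bwd (hodd : Odd (Fintype.card F)) (hk : finrank F E = 2)
    (hsa : ∀ (a : E) (u v : Fin 2 ⊕ Fin 2 → F),
      Cfsg.sympForm 2 F (ρ a *ᵥ u) v = Cfsg.sympForm 2 F u (ρ a *ᵥ v))
    (halt : ∀ (a : E) (v : Fin 2 ⊕ Fin 2 → F), Cfsg.sympForm 2 F (ρ a *ᵥ v) v = 0)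
    (x : GL (Fin 2 ⊕ Fin 2) F) (hx : x ∈ Cfsg.spGL 2 F) (z : F)
    (hz : ((x ^ 2 : GL (Fin 2 ⊕ Fin 2) F) : Matrix (Fin 2 ⊕ Fin 2) (Fin 2 ⊕ Fin 2) F) =
      z • (1 : Matrix (Fin 2 ⊕ Fin 2) (Fin 2 ⊕ Fin 2) F))
    (hns : ∀ z : F, (x : Matrix (Fin 2 ⊕ Fin 2) (Fin 2 ⊕ Fin 2) F) ≠
      z • (1 : Matrix (Fin 2 ⊕ Fin 2) (Fin 2 ⊕ Fin 2) F)) :
    ∃ g ∈ Cfsg.spGL 2 F, g⁻¹ * x * g ∈ Cfsg.Geo.subalgebraNormalizer ρ.range := by
  letI := modOf ρ
  haveI := isScalarTower ρ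
  haveI : FiniteDimensional E (Fin 2 ⊕ Fin 2 → F) :=
    Module.Finite.of_restrictScalars_finite F E (Fin 2 ⊕ Fin 2 → F)
  have h2F : (2 : F) ≠ 0 := two_ne_zero_of_odd hodd
  have h2F' : ((2 : ℕ) : F) ≠ 0 := by exact_mod_cast h2F
  have hoddc : Fintype.card F % 2 = 1 := Nat.odd_iff.1 hodd
  set B := sympBilin 2 (F := F) with hB
  have hsa' := hsa_of 2 ρ hsa
  have halt' := halt_of 2 ρ halt
  have hBalt : ∀ v, B v v = 0 := stdB_alt 2
  have hBnd : ∀ a, (∀ w, B a w = 0) → a = 0 := stdB_nd 2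
  have hdim : finrank F (Fin 2 ⊕ Fin 2 → F) = 4 := by rw [std_finrank]
  have hΦalt := trForm_alt B hsa' halt'
  have hΦnd := trForm_nd B hsa' hBnd
  have hdimE : finrank E (Fin 2 ⊕ Fin 2 → F) = 2 := by
    have := finrank_E_eq 2 ρ 1 (by rw [hk])
    omega
  obtain ⟨e₁, e₂, he⟩ := exists_pair (trForm B hsa') hΦnd hdimE
  have he₁0 : e₁ ≠ 0 := by
    rintro rfl
    rw [map_zero, LinearMap.zero_apply] at he
    exact zero_ne_one he
  -- the element `x`
  set X := Matrix.toLin' (x : Matrix (Fin 2 ⊕ Fin 2) (Fin 2 ⊕ Fin 2) F) with hX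
  have hXiso : ∀ u v, B (X u) (X v) = B u v := std_iso 2 _ (mem_symplectic_of_preserves _ ((mem_spGL' 2 x).1 hx))
  have hXX : ∀ v, X (X v) = z • v := by
    intro v
    rw [hX, Matrix.toLin'_apply, Matrix.toLin'_apply, Matrix.mulVec_mulVec, ← pow_two,
      ← Units.val_pow_eq_pow_val, hz, Matrix.smul_mulVec, Matrix.one_mulVec]
  have hXv : ∀ v, X v = (x : Matrix (Fin 2 ⊕ Fin 2) (Fin 2 ⊕ Fin 2) F) *ᵥ v := fun v =>
    Matrix.toLin'_apply _ v
  haveI : Nontrivial (Fin 2 ⊕ Fin 2 → F) := inferInstance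
  have hzz : z * z = 1 := by
    apply scalar_sq_eq_one B hBnd z
    intro u v
    rw [← hXX, ← hXX, hXiso, hXiso]
  have hz' : z = 1 ∨ z = -1 := by
    have : (z - 1) * (z + 1) = 0 := by linear_combination hzz
    rcases mul_eq_zero.1 this with h | h
    · left; exact sub_eq_zero.1 h
    · right; exact eq_neg_of_add_eq_zero_left h
  -- reduction to a conjugacy statement for linear maps
  have key : ∀ (y : (Fin 2 ⊕ Fin 2 → F) ≃ₗ[F] (Fin 2 ⊕ Fin 2 → F)) (τ : E ≃ E),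
      (∀ (a : E) (v : Fin 2 ⊕ Fin 2 → F), y (a • v) = τ a • y v) →
      (∃ g : (Fin 2 ⊕ Fin 2 → F) ≃ₗ[F] (Fin 2 ⊕ Fin 2 → F), (∀ u v, B (g u) (g v) = B u v) ∧
        ∀ v, g (X v) = y (g v)) →
      ∃ g ∈ Cfsg.spGL 2 F, g⁻¹ * x * g ∈ Cfsg.Geo.subalgebraNormalizer ρ.range := by
    rintro y τ hy ⟨g, hgiso, hg⟩
    refine ⟨(glLin.symm g)⁻¹, (Cfsg.spGL 2 F).inv_mem (symm_mem_spGL g hgiso), ?_⟩
    rw [gl_conj x g y (fun v => by rw [← hXv]; exact hg v)]
    exact mem_normalizer_of_semilinear ρ y τ hy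
  rcases hz' with rfl | rfl
  · -- involutions
    have hX2 : X ^ 2 = 1 := by
      apply LinearMap.ext
      intro v
      rw [pow_two, Module.End.mul_apply, hXX, one_smul, Module.End.one_apply]
    have hX1 : X ≠ 1 := by
      intro h
      apply hns 1
      apply matrix_eq_of_mulVec
      intro v
      rw [← hXv, h, one_smul, Matrix.one_mulVec, Module.End.one_apply]
    have hXm1 : X ≠ -1 := by
      intro h
      apply hns (-1)
      apply matrix_eq_of_mulVec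
      intro v
      rw [← hXv, h, Matrix.smul_mulVec, Matrix.one_mulVec, LinearMap.neg_apply,
        Module.End.one_apply, neg_smul, one_smul]
    obtain ⟨σ, ⟨ε, hε⟩, hσσ⟩ := exists_sigma (F := F) (E := E) hk
    set y₂ := m2 (trForm B hsa') σ e₁ e₂ with hy₂
    have hy₂sq : ∀ v, y₂ (y₂ v) = v := m2_sq _ σ hΦalt hdimE hσσ e₁ e₂ he
    have hy₂iso : ∀ u v, B (y₂ u) (y₂ v) = B u v := by
      intro u v
      rw [← trace_trForm B hsa', m2_iso _ σ hΦalt hdimE e₁ e₂ he, Algebra.trace_eq_of_algEquiv,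
        trace_trForm]
    have hy₂2 : y₂ ^ 2 = 1 := by
      apply LinearMap.ext
      intro v
      rw [pow_two, Module.End.mul_apply, hy₂sq, Module.End.one_apply]
    have hy₂fix : y₂ e₁ = e₁ := m2_fix _ σ hΦalt e₁ e₂ he
    have hy₂1 : y₂ ≠ 1 := by
      intro h
      have h1 := m2_semilinear (trForm B hsa') σ e₁ e₂ ε e₁
      rw [← hy₂, hy₂fix, h, Module.End.one_apply] at h1
      have h3 : (ε - σ ε) • e₁ = 0 := by rw [sub_smul, h1, sub_self]
      rcases smul_eq_zero.1 h3 with h4 | h4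
      · exact hε (sub_eq_zero.1 h4).symm
      · exact he₁0 h4
    have hy₂m1 : y₂ ≠ -1 := by
      intro h
      have h1 := hy₂fix
      rw [h, LinearMap.neg_apply, Module.End.one_apply] at h1
      have h3 : (2 : F) • e₁ = 0 := by
        rw [two_smul]
        nth_rewrite 1 [← h1]
        exact neg_add_cancel e₁
      rcases smul_eq_zero.1 h3 with h4 | h4
      · exact h2F h4
      · exact he₁0 h4
    apply key (LinearEquiv.ofLinearMap y₂ y₂ (LinearMap.ext hy₂sq) (LinearMap.ext hy₂sq))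
      σ.toEquiv (fun a v => m2_semilinear _ σ e₁ e₂ a v)
    obtain ⟨g, hgiso, hg⟩ := invol_conj B hBalt hBnd h2F' hdim X y₂ hXiso hX2 hX1 hXm1 hy₂iso
      hy₂2 hy₂1 hy₂m1
    exact ⟨g, hgiso, hg⟩
  · -- square `-1`
    have hXX' : ∀ v, X (X v) = -v := by
      intro v
      rw [hXX, neg_smul, one_smul]
    set y₁ : (Fin 2 ⊕ Fin 2 → F) →ₗ[F] (Fin 2 ⊕ Fin 2 → F) :=
      (m1 (trForm B hsa') e₁ e₂).restrictScalars F with hy₁
    have hy₁sq : ∀ v, y₁ (y₁ v) = -v := m1_sq _ hΦalt hdimE e₁ e₂ he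
    have hy₁iso : ∀ u v, B (y₁ u) (y₁ v) = B u v := by
      intro u v
      rw [← trace_trForm B hsa']
      show Algebra.trace F E (trForm B hsa' (m1 (trForm B hsa') e₁ e₂ u)
        (m1 (trForm B hsa') e₁ e₂ v)) = _
      rw [m1_iso _ hΦalt hdimE e₁ e₂ he, trace_trForm]
    apply key (LinearEquiv.ofLinearMap y₁ (-y₁)
      (LinearMap.ext (fun v => by
        rw [LinearMap.comp_apply, LinearMap.neg_apply, map_neg, hy₁sq, neg_neg]
        rfl))
      (LinearMap.ext (fun v => by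
        rw [LinearMap.comp_apply, LinearMap.neg_apply, hy₁sq, neg_neg]
        rfl)))
      (Equiv.refl E) (fun a v => (m1 (trForm B hsa') e₁ e₂).map_smul a v)
    obtain ⟨g, hgiso, hg⟩ := sqneg_conj B X hoddc hBalt hBnd h2F hdim y₁ hXiso hXX' hy₁iso hy₁sq
    exact ⟨g, hgiso, hg⟩

end bwd2

end Cfsg.Agent.Lib.Helper12.C3Sp
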