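import Mathlib
import Cfsg.Prelude.Def_Classical
import Cfsg.Prelude.Def_ClassicalGeometry
import Cfsg.Prelude.Def_GeometricClasses
import Cfsg.Agent.Lib.Helper5.SUMax
import Cfsg.Agent.Lib.Helper5.UForm
import Cfsg.Agent.Lib.Helper16.C3uDefs
import Cfsg.Agent.Lib.Helper13.C3qDefs
import Cfsg.Agent.Lib.Helper13.C3qMDefs
import Cfsg.Agent.Lib.Helper12.C3uF

/-!
S5840 conjunct (7), module theorem MOD (planner helper13), leaves **M2a `rk1_expand`** and **M2b `sym2_expand`**
(helper12): the expansions of the rank-one map `c • rk1 S π` and of the rank-two map `c • sym2 S π π'` into twisted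
multiplications `tw a i : x ↦ a * φ^i x`, given `τ = Tr(δ ·)` in the form `algebraMap (τ e) = ∑ i, φ^i (δ e)`.
-/

set_option autoImplicit false
set_option linter.unusedSectionVars false
set_option linter.unusedVariables false

namespace Cfsg.Agent.Lib.Helper12.C3qModLeaf
open Cfsg Matrix Module Cfsg.Agent.Lib.Helper16.C3u Cfsg.Agent.Lib.Helper13.C3q

universe u
variable {F : Type u} [Field F] [Fintype F] {n q : ℕ} {E : Type u} [Field E] [Algebra F E]

/-- the common computation: a single "rank-one" summand `e ↦ c • τ (st π' * e) • π` -/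
lemma rk_sum_aux (S : KU n q F E) {δ : E}
    (hδ : ∀ e : E, algebraMap F E (S.τ e) =
      ∑ i ∈ Finset.range (finrank F E), (fr F E ^ i) (δ * e)) (c : F) (π π' e : E) :
    c • (S.τ (S.st π' * e) • π) =
      ∑ i ∈ Finset.range (finrank F E), (c • (π * (fr F E ^ i) (δ * S.st π'))) * (fr F E ^ i) e := by
  have h1 : ∀ i ∈ Finset.range (finrank F E),
      (c • (π * (fr F E ^ i) (δ * S.st π'))) * (fr F E ^ i) e =
        c • (π * (fr F E ^ i) (δ * (S.st π' * e))) := by
    intro i _
    rw [smul_mul_assoc, mul_assoc, ← map_mul, mul_assoc]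
  rw [Finset.sum_congr rfl h1, ← Finset.smul_sum, ← Finset.mul_sum, ← hδ, Algebra.smul_def (S.τ _) π,
    mul_comm π]

/-- **M2a** [S-M] expansion of the rank-one map -/
theorem rk1_expand (S : KU n q F E) {δ : E}
    (hδ : ∀ e : E, algebraMap F E (S.τ e) =
      ∑ i ∈ Finset.range (finrank F E), (fr F E ^ i) (δ * e)) (c : F) (π : E) :
    c • rk1 S π =
      ∑ i ∈ Finset.range (finrank F E), tw (c • (π * (fr F E ^ i) (δ * S.st π))) i := by
  ext e
  rw [LinearMap.smul_apply, rk1_apply, LinearMap.sum_apply, rk_sum_aux S hδ c π π e]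
  rfl

/-- **M2b** [S-M] expansion of the rank-two map -/
theorem sym2_expand (S : KU n q F E) {δ : E}
    (hδ : ∀ e : E, algebraMap F E (S.τ e) =
      ∑ i ∈ Finset.range (finrank F E), (fr F E ^ i) (δ * e)) (c : F) (π π' : E) :
    c • sym2 S π π' =
      ∑ i ∈ Finset.range (finrank F E),
        tw (c • (π * (fr F E ^ i) (δ * S.st π') + π' * (fr F E ^ i) (δ * S.st π))) i := by
  ext e
  rw [LinearMap.smul_apply, sym2_apply, smul_add, LinearMap.sum_apply, rk_sum_aux S hδ c π π' e,
    rk_sum_aux S hδ c π' π e, ← Finset.sum_add_distrib]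
  refine Finset.sum_congr rfl (fun i _ => ?_)
  rw [tw_apply, smul_add, add_mul]

end Cfsg.Agent.Lib.Helper12.C3qModLeaf
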