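import Mathlib
import Cfsg.Agent.Lib.Helper12.CNMinF
import Cfsg.Agent.Lib.Helper10.CNConj

/-!
Helper lemmas (helper12): minimal simple CN-groups of odd order, part G:
every maximal nilpotent subgroup is a TI-subgroup containing the centralizers of its non-identity elements.
-/

set_option autoImplicit false
open Subgroup
open scoped commutatorElement

namespace Cfsg.Agent.Lib.Helper12.CNMin

open Cfsg.Agent.Lib.Helper8.SolvCN

universe u
variable {G : Type u} [Group G]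

/-- `H` is a maximal nilpotent subgroup of `G` -/
def MaxNilp (H : Subgroup G) : Prop :=
  Group.IsNilpotent ↥H ∧ ∀ L : Subgroup G, Group.IsNilpotent ↥L → H ≤ L → L = H

theorem isNilpotent_map_conj (H : Subgroup G) (hH : Group.IsNilpotent ↥H) (g : G) :
    Group.IsNilpotent ↥(H.map (MulAut.conj g).toMonoidHom) := by
  haveI := hH
  exact Group.nilpotent_of_mulEquiv
    (H.equivMapOfInjective (MulAut.conj g).toMonoidHom (MulAut.conj g).injective)

theorem MaxNilp.map_conj {H : Subgroup G} (h : MaxNilp H) (g : G) :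
    MaxNilp (H.map (MulAut.conj g).toMonoidHom) := by
  refine ⟨isNilpotent_map_conj H h.1 g, ?_⟩
  intro L hL hle
  have h1 : H ≤ L.map (MulAut.conj g⁻¹).toMonoidHom := by
    have := Subgroup.map_mono (f := (MulAut.conj g⁻¹).toMonoidHom) hle
    have e : (H.map (MulAut.conj g).toMonoidHom).map (MulAut.conj g⁻¹).toMonoidHom = H :=
      cj_inv_cj g H
    rwa [e] at this
  have h2 := h.2 _ (isNilpotent_map_conj L hL g⁻¹) h1
  have e : (L.map (MulAut.conj g⁻¹).toMonoidHom).map (MulAut.conj g).toMonoidHom = L :=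
    cj_cj_inv g L
  rw [← e, h2]

theorem MaxNilp.ne_bot [Nontrivial G] (hCN : Cfsg.IsCNGroup G) {H : Subgroup G} (h : MaxNilp H) :
    H ≠ ⊥ := by
  rintro rfl
  obtain ⟨x, hx1⟩ := exists_ne (1 : G)
  have h1 := h.2 _ (hCN x hx1) bot_le
  have h2 : x ∈ centralizer ({x} : Set G) := mem_centralizer_singleton_iff.mpr rfl
  rw [h1, Subgroup.mem_bot] at h2
  exact hx1 h2

section main
variable [Finite G] {p : ℕ} [hp : Fact p.Prime]

theorem nontrivial_of_minSimple (hG : Cfsg.IsMinSimpleOddOrder G) : Nontrivial G :=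
  hG.2.1.toNontrivial

/-- a conjugate of a central element of the Sylow subgroup `P` lying in `P` is conjugate by the normalizer -/
theorem mem_normalizer_of_central_conj (hG : Cfsg.IsMinSimpleOddOrder G) (hCN : Cfsg.IsCNGroup G)
    (hp2 : p ≠ 2) (P : Sylow p G) (hP1 : (P : Subgroup G) ≠ ⊥) (hmax : MaxNilp (P : Subgroup G))
    (z : G) (hz : z ∈ (P : Subgroup G)) (hz1 : z ≠ 1) (hzc : ∀ y ∈ (P : Subgroup G), y * z = z * y)
    (k : G) (hk : k⁻¹ * z * k ∈ (P : Subgroup G)) :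
    k ∈ Subgroup.normalizer ((P : Subgroup G) : Set G) := by
  have hNS : Cfsg.Agent.Lib.Helper10.IsNilpSylow p (P : Subgroup G) (P : Subgroup G) :=
    ⟨le_rfl, P.2, fun Q hQ _ => hQ⟩
  have hcent : centralizer {z} = (P : Subgroup G) :=
    Cfsg.Agent.Lib.Helper10.cn_maxnilp_eq_centralizer hCN _ hmax.1 hmax.2 hNS z hz hz1 hzc
  have hA : ({k⁻¹ * z * k} : Set G) ⊆ (P : Subgroup G) := by
    intro a ha
    rw [Set.mem_singleton_iff] at ha
    rw [ha]; exact hk
  have hxA : (fun a => k * a * k⁻¹) '' ({k⁻¹ * z * k} : Set G) ⊆ (P : Subgroup G) := by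
    rintro _ ⟨a, ha, rfl⟩
    rw [Set.mem_singleton_iff] at ha
    subst ha
    have e : k * (k⁻¹ * z * k) * k⁻¹ = z := by group
    show k * (k⁻¹ * z * k) * k⁻¹ ∈ (P : Subgroup G)
    rw [e]; exact hz
  obtain ⟨y, hyN, hy⟩ := control hG.1 hp2 P _ k hA hxA
  have hy' : y * (k⁻¹ * z * k) * y⁻¹ = z := by
    rw [hy _ rfl]; group
  have hyP : y ∈ Subgroup.normalizer ((P : Subgroup G) : Set G) :=
    normalizer_zj_le hG hCN hp2 P hP1 hyN
  have hkyc : k * y⁻¹ ∈ centralizer ({z} : Set G) := by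
    rw [mem_centralizer_singleton_iff]
    calc k * y⁻¹ * z = k * y⁻¹ * (y * (k⁻¹ * z * k) * y⁻¹) := by rw [hy']
      _ = z * (k * y⁻¹) := by group
  rw [hcent] at hkyc
  have e : k = k * y⁻¹ * y := by group
  rw [e]
  exact Subgroup.mul_mem _ (Subgroup.le_normalizer hkyc) hyP

/-- a maximal nilpotent subgroup of prime power order is the only maximal nilpotent subgroup
containing the centralizer of any of its non-identity elements -/
theorem maxnilp_eq_of_centralizer_le_pgroup (hG : Cfsg.IsMinSimpleOddOrder G)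
    (hCN : Cfsg.IsCNGroup G) {H L : Subgroup G} (hH : MaxNilp H) (hHp : IsPGroup p H)
    (hL : MaxNilp L) (x : G) (hxH : x ∈ H) (hx1 : x ≠ 1) (hxL : centralizer ({x} : Set G) ≤ L) :
    L = H := by
  have hH1 : H ≠ ⊥ := by
    rintro rfl
    exact hx1 (Subgroup.mem_bot.mp hxH)
  have hNS : Cfsg.Agent.Lib.Helper10.IsNilpSylow p H H := ⟨le_rfl, hHp, fun Q hQ _ => hQ⟩
  obtain ⟨P, hPH⟩ := Cfsg.Agent.Lib.Helper10.cn_exists_sylow_eq hCN H hH.1 hH.2 hNS hH1
  subst hPH
  have hpH : p ∣ Nat.card (P : Subgroup G) := by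
    rcases hHp.card_eq_or_dvd with h | h
    · exact absurd (Subgroup.card_eq_one.mp h) hH1
    · exact h
  have hp2 : p ≠ 2 := by
    rintro rfl
    have h2 : 2 ∣ Nat.card G := dvd_trans hpH (Subgroup.card_subgroup_dvd_card _)
    exact hG.1.not_two_dvd_nat h2
  have hxL' : x ∈ L := hxL (mem_centralizer_singleton_iff.mpr rfl)
  have hpL : p ∣ Nat.card L :=
    Cfsg.Agent.Lib.Helper10.prime_dvd_card_of_mem hp.out L x hxL' hx1
      (hHp.to_le (zpowers_le.mpr hxH))
  obtain ⟨k, hk⟩ := Cfsg.Agent.Lib.Helper10.cn_maxnilp_conj_of_dvd hCN _ L hH.1 hL.1 hH.2 hL.2 p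
    hpH hpL
  obtain ⟨z, hzH, hzc, hz1⟩ := Cfsg.Agent.Lib.Helper10.exists_central_of_pgroup hHp hH1
  have hzL : z ∈ L := hxL (mem_centralizer_singleton_iff.mpr (hzc x hxH).symm)
  rw [hk, mem_map_conj_iff] at hzL
  have hkN := mem_normalizer_of_central_conj hG hCN hp2 P hH1 hH z hzH hz1 hzc k hzL
  rw [hk]
  exact cj_eq_of_mem_normalizer hkN

/-- every maximal nilpotent subgroup is a TI-subgroup -/
theorem maxnilp_ti (hG : Cfsg.IsMinSimpleOddOrder G) (hCN : Cfsg.IsCNGroup G) {H : Subgroup G}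
    (hH : MaxNilp H) (g : G) (hg : H.map (MulAut.conj g).toMonoidHom ≠ H) :
    H ⊓ H.map (MulAut.conj g).toMonoidHom = ⊥ := by
  by_cases hpp : IsPrimePow (Nat.card H)
  · obtain ⟨q, n, hq, -, heq⟩ := (isPrimePow_nat_iff _).mp hpp
    haveI : Fact q.Prime := ⟨hq⟩
    have hHq : IsPGroup q H := IsPGroup.of_card heq.symm
    rw [eq_bot_iff]
    intro x hx
    rw [Subgroup.mem_bot]
    by_contra hx1
    apply hg
    obtain ⟨L, hCL, hLn, hLmax⟩ :=
      Cfsg.Agent.Lib.Helper10.exists_maxnilp_ge (centralizer ({x} : Set G)) (hCN x hx1)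
    have hL : MaxNilp L := ⟨hLn, hLmax⟩
    have e1 : L = H := maxnilp_eq_of_centralizer_le_pgroup hG hCN hH hHq hL x hx.1 hx1 hCL
    have e2 : L = H.map (MulAut.conj g).toMonoidHom :=
      maxnilp_eq_of_centralizer_le_pgroup hG hCN (hH.map_conj g) (hHq.map _) hL x hx.2 hx1 hCL
    rw [← e2, e1]
  · by_cases h1 : Nat.card H = 1
    · rw [Subgroup.card_eq_one.mp h1, bot_inf_eq]
    · exact Cfsg.Agent.Lib.Helper10.cn_maxnilp_ti hCN H hH.1 hH.2 hpp h1 g hg

theorem maxnilp_centralizer_le (hG : Cfsg.IsMinSimpleOddOrder G) (hCN : Cfsg.IsCNGroup G)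
    {H : Subgroup G} (hH : MaxNilp H) (x : G) (hxH : x ∈ H) (hx1 : x ≠ 1) :
    centralizer ({x} : Set G) ≤ H :=
  Cfsg.Agent.Lib.Helper10.cn_maxnilp_centralizer_le hCN H hH.1 hH.2 (maxnilp_ti hG hCN hH) x hxH hx1

theorem maxnilp_hall (hCN : Cfsg.IsCNGroup G) {H : Subgroup G} (hH : MaxNilp H) :
    (Nat.card H).Coprime H.index :=
  Cfsg.Agent.Lib.Helper10.cn_maxnilp_hall hCN H hH.1 hH.2

/-- distinct maximal nilpotent subgroups meet trivially -/
theorem maxnilp_eq_of_mem (hG : Cfsg.IsMinSimpleOddOrder G) (hCN : Cfsg.IsCNGroup G)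
    {H L : Subgroup G} (hH : MaxNilp H) (hL : MaxNilp L) (x : G) (hxH : x ∈ H) (hxL : x ∈ L)
    (hx1 : x ≠ 1) : L = H := by
  have hord : orderOf x ≠ 1 := by rwa [Ne, orderOf_eq_one_iff]
  obtain ⟨q, hq, hqx⟩ := Nat.exists_prime_and_dvd hord
  haveI : Fact q.Prime := ⟨hq⟩
  have hqH : q ∣ Nat.card H := dvd_trans hqx (Subgroup.orderOf_dvd_natCard H hxH)
  have hqL : q ∣ Nat.card L := dvd_trans hqx (Subgroup.orderOf_dvd_natCard L hxL)
  obtain ⟨k, hk⟩ := Cfsg.Agent.Lib.Helper10.cn_maxnilp_conj_of_dvd hCN H L hH.1 hL.1 hH.2 hL.2 q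
    hqH hqL
  by_contra hne
  have hne' : H.map (MulAut.conj k).toMonoidHom ≠ H := by rw [← hk]; exact hne
  have h0 := maxnilp_ti hG hCN hH k hne'
  have hx : x ∈ H ⊓ H.map (MulAut.conj k).toMonoidHom := ⟨hxH, by rw [← hk]; exact hxL⟩
  rw [h0, Subgroup.mem_bot] at hx
  exact hx1 hx

end main

end Cfsg.Agent.Lib.Helper12.CNMin
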