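import Mathlib
import Cfsg.Agent.Lib.Helper12.CNMinG
import Cfsg.Agent.Lib.Helper29.HallTransfer

/-!
Helper lemmas (helper12): minimal simple CN-groups of odd order, part H:
normalizers of maximal nilpotent subgroups are Frobenius groups and are exactly the maximal subgroups.
-/

set_option autoImplicit false
open Subgroup
open scoped commutatorElement

namespace Cfsg.Agent.Lib.Helper12.CNMin

open Cfsg.Agent.Lib.Helper8.SolvCN

universe u
variable {G : Type u} [Group G] [Finite G]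

theorem not_isNilpotent_top (hG : Cfsg.IsMinSimpleOddOrder G) (L : Subgroup G)
    (hL : Group.IsNilpotent ↥L) : L ≠ ⊤ := by
  rintro rfl
  apply not_solvable hG
  haveI := hL
  haveI : Group.IsNilpotent G := Group.nilpotent_of_mulEquiv Subgroup.topEquiv
  infer_instance

/-- a maximal nilpotent subgroup is not self-normalizing -/
theorem normalizer_ne_self (hG : Cfsg.IsMinSimpleOddOrder G) (hCN : Cfsg.IsCNGroup G)
    {H : Subgroup G} (hH : MaxNilp H) : Subgroup.normalizer (H : Set G) ≠ H := by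
  intro hNH
  haveI := nontrivial_of_minSimple hG
  have hH1 := hH.ne_bot hCN
  have hTI := maxnilp_ti hG hCN hH
  obtain ⟨N, hNn, hNc⟩ := Cfsg.Agent.Lib.Helper29.exists_normal_complement_of_control_fusion H hH.1
    (maxnilp_hall hCN hH) (by
      intro x hx g hgx
      by_cases hx1 : x = 1
      · refine ⟨1, H.one_mem, ?_⟩
        rw [hx1]; group
      · have hmem : x ∈ H ⊓ H.map (MulAut.conj g).toMonoidHom :=
          ⟨hx, (mem_map_conj_iff H g x).mpr hgx⟩
        have heq : H.map (MulAut.conj g).toMonoidHom = H := by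
          by_contra hne
          rw [hTI g hne, Subgroup.mem_bot] at hmem
          exact hx1 hmem
        have hgN : g ∈ Subgroup.normalizer (H : Set G) := mem_normalizer_of_cj_eq heq
        rw [hNH] at hgN
        exact ⟨g, hgN, rfl⟩)
  rcases normal_eq hG N hNn with h | h
  · subst h
    exact not_isNilpotent_top hG H hH.1 (Subgroup.isComplement'_bot_left.mp hNc)
  · subst h
    exact hH1 (Subgroup.isComplement'_top_left.mp hNc)

theorem normalizer_not_nilpotent (hG : Cfsg.IsMinSimpleOddOrder G) (hCN : Cfsg.IsCNGroup G)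
    {H : Subgroup G} (hH : MaxNilp H) :
    ¬ Group.IsNilpotent ↥(Subgroup.normalizer (H : Set G)) :=
  fun h => normalizer_ne_self hG hCN hH (hH.2 _ h Subgroup.le_normalizer)

theorem normalizer_maxnilp_ne_top (hG : Cfsg.IsMinSimpleOddOrder G) (hCN : Cfsg.IsCNGroup G)
    {H : Subgroup G} (hH : MaxNilp H) : Subgroup.normalizer (H : Set G) ≠ ⊤ := by
  haveI := nontrivial_of_minSimple hG
  haveI := hH.1
  exact normalizer_ne_top hG H (hH.ne_bot hCN) inferInstance

theorem fittingHallOf_normalizer (hCN : Cfsg.IsCNGroup G)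
    {H : Subgroup G} (hH : MaxNilp H) :
    Cfsg.fittingHallOf (Subgroup.normalizer (H : Set G)) = H := by
  have h1 : H ≤ Cfsg.fittingHallOf (Subgroup.normalizer (H : Set G)) :=
    le_fittingHallOf _ H Subgroup.le_normalizer le_rfl hH.1
      (relIndex_coprime_of_hall H _ Subgroup.le_normalizer (maxnilp_hall hCN hH))
  exact hH.2 _ (fittingHallOf_isNilpotent _) h1

/-- the normalizer of a maximal nilpotent subgroup `H` is a Frobenius group with kernel `H` -/
theorem exists_compl_normalizer (hG : Cfsg.IsMinSimpleOddOrder G) (hCN : Cfsg.IsCNGroup G)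
    {H : Subgroup G} (hH : MaxNilp H) :
    ∃ E : Subgroup G, Cfsg.IsComplIn H E (Subgroup.normalizer (H : Set G)) ∧ E ≠ ⊥ ∧
      ∀ e ∈ E, e ≠ 1 → H ⊓ Subgroup.centralizer ({e} : Set G) = ⊥ := by
  obtain ⟨E, h1, -, h3, h4, -⟩ := frob_data hG hCN _ (normalizer_maxnilp_ne_top hG hCN hH)
    (normalizer_not_nilpotent hG hCN hH)
  rw [fittingHallOf_normalizer hCN hH] at h1 h4
  exact ⟨E, h1, h3, h4⟩

/-- the normalizer of a maximal nilpotent subgroup is a maximal subgroup -/
theorem normalizer_isCoatom (hG : Cfsg.IsMinSimpleOddOrder G) (hCN : Cfsg.IsCNGroup G)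
    {H : Subgroup G} (hH : MaxNilp H) : IsCoatom (Subgroup.normalizer (H : Set G)) := by
  haveI := nontrivial_of_minSimple hG
  have hH1 := hH.ne_bot hCN
  refine ⟨normalizer_maxnilp_ne_top hG hCN hH, fun M hNM => ?_⟩
  by_contra hMtop
  have hMnil : ¬ Group.IsNilpotent ↥M := fun h =>
    normalizer_not_nilpotent hG hCN hH (Cfsg.Agent.Lib.Helper9.isNilpotent_of_le hNM.le h)
  obtain ⟨E, -, hF1, -, -, hcomm⟩ := frob_data hG hCN M hMtop hMnil
  have hFM := le_normalizer_fittingHallOf M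
  have hHM : H ≤ M := Subgroup.le_normalizer.trans hNM.le
  by_cases hHF : H ⊓ Cfsg.fittingHallOf M = ⊥
  · -- then the normalizer of `H` meets `F` trivially and is abelian
    obtain ⟨h₀, hh₀, hh₀1⟩ : ∃ h₀ ∈ H, h₀ ≠ 1 := by
      obtain ⟨⟨a, ha⟩, hne⟩ := (Subgroup.ne_bot_iff_exists_ne_one).mp hH1
      exact ⟨a, ha, fun h => hne (Subtype.ext h)⟩
    have hNF : ∀ y ∈ Subgroup.normalizer (H : Set G), y ∈ Cfsg.fittingHallOf M → y = 1 := by
      intro y hyN hyF
      have hc1 : y * h₀ * y⁻¹ * h₀⁻¹ ∈ H :=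
        H.mul_mem ((Subgroup.mem_normalizer_iff.mp hyN h₀).mp hh₀) (H.inv_mem hh₀)
      have hc2 : y * h₀ * y⁻¹ * h₀⁻¹ ∈ Cfsg.fittingHallOf M := by
        have h1 : h₀ * y⁻¹ * h₀⁻¹ ∈ Cfsg.fittingHallOf M :=
          (Subgroup.mem_normalizer_iff.mp (hFM (hHM hh₀)) y⁻¹).mp (Subgroup.inv_mem _ hyF)
        have e : y * h₀ * y⁻¹ * h₀⁻¹ = y * (h₀ * y⁻¹ * h₀⁻¹) := by group
        rw [e]
        exact Subgroup.mul_mem _ hyF h1
      have hc : y * h₀ * y⁻¹ * h₀⁻¹ ∈ H ⊓ Cfsg.fittingHallOf M := ⟨hc1, hc2⟩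
      rw [hHF, Subgroup.mem_bot] at hc
      have hyc : y ∈ centralizer ({h₀} : Set G) := by
        rw [mem_centralizer_singleton_iff]
        calc y * h₀ = (y * h₀ * y⁻¹ * h₀⁻¹) * (h₀ * y) := by group
          _ = h₀ * y := by rw [hc, one_mul]
      have hyH : y ∈ H := maxnilp_centralizer_le hG hCN hH h₀ hh₀ hh₀1 hyc
      have : y ∈ H ⊓ Cfsg.fittingHallOf M := ⟨hyH, hyF⟩
      rwa [hHF, Subgroup.mem_bot] at this
    have hab : ∀ a b : ↥(Subgroup.normalizer (H : Set G)), a * b = b * a := by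
      rintro ⟨a, ha⟩ ⟨b, hb⟩
      apply Subtype.ext
      have h1 : a * b * a⁻¹ * b⁻¹ ∈ Subgroup.normalizer (H : Set G) :=
        Subgroup.mul_mem _ (Subgroup.mul_mem _ (Subgroup.mul_mem _ ha hb) (Subgroup.inv_mem _ ha))
          (Subgroup.inv_mem _ hb)
      have h2 := hNF _ h1 (hcomm a (hNM.le ha) b (hNM.le hb))
      show a * b = b * a
      calc a * b = (a * b * a⁻¹ * b⁻¹) * (b * a) := by group
        _ = b * a := by rw [h2, one_mul]
    apply normalizer_not_nilpotent hG hCN hH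
    let _i : CommGroup ↥(Subgroup.normalizer (H : Set G)) :=
      { (inferInstance : Group ↥(Subgroup.normalizer (H : Set G))) with mul_comm := hab }
    exact CommGroup.isNilpotent
  · -- then `F ≤ H` and `M` normalizes `H`
    obtain ⟨x, hxHF, hx1⟩ : ∃ x ∈ H ⊓ Cfsg.fittingHallOf M, x ≠ 1 := by
      obtain ⟨⟨a, ha⟩, hne⟩ := (Subgroup.ne_bot_iff_exists_ne_one).mp hHF
      exact ⟨a, ha, fun h => hne (Subtype.ext h)⟩
    obtain ⟨L, hFL, hLn, hLmax⟩ :=
      Cfsg.Agent.Lib.Helper10.exists_maxnilp_ge (Cfsg.fittingHallOf M) (fittingHallOf_isNilpotent M)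
    have hL : MaxNilp L := ⟨hLn, hLmax⟩
    have hLH : L = H := maxnilp_eq_of_mem hG hCN hH hL x hxHF.1 (hFL hxHF.2) hx1
    have hFH : Cfsg.fittingHallOf M ≤ H := hLH ▸ hFL
    apply hNM.not_ge
    intro m hm
    apply mem_normalizer_of_cj_eq
    show H.map (MulAut.conj m).toMonoidHom = H
    by_contra hne
    have h0 := maxnilp_ti hG hCN hH m hne
    have hxm : m⁻¹ * x * m ∈ Cfsg.fittingHallOf M :=
      (Subgroup.mem_normalizer_iff''.mp (hFM hm) x).mp hxHF.2
    have hx : x ∈ H ⊓ H.map (MulAut.conj m).toMonoidHom :=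
      ⟨hxHF.1, (mem_map_conj_iff H m x).mpr (hFH hxm)⟩
    rw [h0, Subgroup.mem_bot] at hx
    exact hx1 hx

/-- a maximal subgroup `M` is the normalizer of the maximal nilpotent subgroup `fittingHallOf M` -/
theorem coatom_data (hG : Cfsg.IsMinSimpleOddOrder G) (hCN : Cfsg.IsCNGroup G)
    (M : Subgroup G) (hM : IsCoatom M) :
    MaxNilp (Cfsg.fittingHallOf M) ∧ M = Subgroup.normalizer ((Cfsg.fittingHallOf M : Subgroup G) : Set G) ∧
      ¬ Group.IsNilpotent ↥M := by
  haveI := nontrivial_of_minSimple hG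
  have hMnil : ¬ Group.IsNilpotent ↥M := by
    intro hn
    have hMax : MaxNilp M := by
      refine ⟨hn, fun L hL hML => ?_⟩
      rcases hML.eq_or_lt with h | h
      · exact h.symm
      · exact absurd (hM.2 L h) (not_isNilpotent_top hG L hL)
    have h1 := normalizer_ne_self hG hCN hMax
    have h2 : M < Subgroup.normalizer (M : Set G) := lt_of_le_of_ne Subgroup.le_normalizer (Ne.symm h1)
    exact normalizer_maxnilp_ne_top hG hCN hMax (hM.2 _ h2)
  obtain ⟨E, -, hF1, -, -, -⟩ := frob_data hG hCN M hM.1 hMnil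
  have hFM := le_normalizer_fittingHallOf M
  obtain ⟨L, hFL, hLn, hLmax⟩ :=
    Cfsg.Agent.Lib.Helper10.exists_maxnilp_ge (Cfsg.fittingHallOf M) (fittingHallOf_isNilpotent M)
  have hL : MaxNilp L := ⟨hLn, hLmax⟩
  obtain ⟨x, hxF, hx1⟩ : ∃ x ∈ Cfsg.fittingHallOf M, x ≠ 1 := by
    obtain ⟨⟨a, ha⟩, hne⟩ := (Subgroup.ne_bot_iff_exists_ne_one).mp hF1
    exact ⟨a, ha, fun h => hne (Subtype.ext h)⟩
  have hML : M ≤ Subgroup.normalizer (L : Set G) := by
    intro m hm
    apply mem_normalizer_of_cj_eq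
    show L.map (MulAut.conj m).toMonoidHom = L
    by_contra hne
    have h0 := maxnilp_ti hG hCN hL m hne
    have hxm : m⁻¹ * x * m ∈ Cfsg.fittingHallOf M :=
      (Subgroup.mem_normalizer_iff''.mp (hFM hm) x).mp hxF
    have hx : x ∈ L ⊓ L.map (MulAut.conj m).toMonoidHom :=
      ⟨hFL hxF, (mem_map_conj_iff L m x).mpr (hFL hxm)⟩
    rw [h0, Subgroup.mem_bot] at hx
    exact hx1 hx
  have hMeq : M = Subgroup.normalizer (L : Set G) := by
    rcases hML.eq_or_lt with h | h
    · exact h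
    · exact absurd (hM.2 _ h) (normalizer_maxnilp_ne_top hG hCN hL)
  have hFeq : Cfsg.fittingHallOf M = L := by
    rw [hMeq]; exact fittingHallOf_normalizer hCN hL
  rw [hFeq]
  exact ⟨hL, hMeq, hMnil⟩

end Cfsg.Agent.Lib.Helper12.CNMin
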