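import Mathlib
import Cfsg.Agent.Lib.Helper12.CNMinH

/-!
Helper lemmas (helper12): minimal simple CN-groups of odd order, part I:
the Frobenius kernels of representatives of the classes of maximal subgroups (order formula).
-/

set_option autoImplicit false
open Subgroup
open scoped commutatorElement

namespace Cfsg.Agent.Lib.Helper12.CNMin

open Cfsg.Agent.Lib.Helper8.SolvCN

theorem prod_dvd_of_pairwise_coprime {ι : Type*} [DecidableEq ι] (s : Finset ι) (f : ι → ℕ) (z : ℕ)
    (hc : ∀ i ∈ s, ∀ j ∈ s, i ≠ j → (f i).Coprime (f j)) (hd : ∀ i ∈ s, f i ∣ z) :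
    ∏ i ∈ s, f i ∣ z := by
  induction s using Finset.induction_on with
  | empty => simp
  | insert a s ha ih =>
    rw [Finset.prod_insert ha]
    apply Nat.Coprime.mul_dvd_of_dvd_of_dvd
    · rw [Nat.coprime_prod_right_iff]
      intro i hi
      exact hc a (Finset.mem_insert_self a s) i (Finset.mem_insert_of_mem hi)
        (fun h => ha (h ▸ hi))
    · exact hd a (Finset.mem_insert_self a s)
    · exact ih (fun i hi j hj hij => hc i (Finset.mem_insert_of_mem hi) j (Finset.mem_insert_of_mem hj) hij)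
        (fun i hi => hd i (Finset.mem_insert_of_mem hi))

universe u
variable {G : Type u} [Group G] [Finite G]

/-- non-conjugate maximal subgroups have Frobenius kernels of coprime orders -/
theorem coatom_coprime (hG : Cfsg.IsMinSimpleOddOrder G) (hCN : Cfsg.IsCNGroup G)
    (M₁ M₂ : Subgroup G) (h₁ : IsCoatom M₁) (h₂ : IsCoatom M₂)
    (hnc : ∀ g : G, M₂ ≠ M₁.map (MulAut.conj g).toMonoidHom) :
    (Nat.card (Cfsg.fittingHallOf M₁)).Coprime (Nat.card (Cfsg.fittingHallOf M₂)) := by
  obtain ⟨hF₁, hM₁, -⟩ := coatom_data hG hCN M₁ h₁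
  obtain ⟨hF₂, hM₂, -⟩ := coatom_data hG hCN M₂ h₂
  rcases Cfsg.Agent.Lib.Helper10.cn_maxnilp_conj_or_coprime hCN _ _ hF₁.1 hF₂.1 hF₁.2 hF₂.2 with
    ⟨g, hg⟩ | h
  · exfalso
    apply hnc g
    have e := cj_normalizer g (Cfsg.fittingHallOf M₁)
    rw [cj_def, cj_def] at e
    rw [hM₂, hg, ← e, ← hM₁]
  · exact h

/-- every maximal nilpotent subgroup is conjugate to the Frobenius kernel of one of the representatives -/
theorem maxnilp_conj_rep (hG : Cfsg.IsMinSimpleOddOrder G) (hCN : Cfsg.IsCNGroup G)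
    {ι : Type*} (Mrep : ι → Subgroup G)
    (hall : ∀ M : Subgroup G, IsCoatom M → ∃ i, ∃ g : G, M = (Mrep i).map (MulAut.conj g).toMonoidHom)
    {L : Subgroup G} (hL : MaxNilp L) :
    ∃ i, ∃ g : G, L.map (MulAut.conj g).toMonoidHom = Cfsg.fittingHallOf (Mrep i) := by
  obtain ⟨i, g, hg⟩ := hall _ (normalizer_isCoatom hG hCN hL)
  refine ⟨i, g⁻¹, ?_⟩
  have hL' := hL.map_conj g⁻¹
  have e1 := cj_normalizer g⁻¹ L
  rw [cj_def, cj_def] at e1
  have e2 : ((Mrep i).map (MulAut.conj g).toMonoidHom).map (MulAut.conj g⁻¹).toMonoidHom = Mrep i :=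
    cj_inv_cj g (Mrep i)
  have e3 : Subgroup.normalizer ((L.map (MulAut.conj g⁻¹).toMonoidHom : Subgroup G) : Set G) = Mrep i := by
    rw [← e1, hg, e2]
  have e4 := fittingHallOf_normalizer hCN hL'
  rw [e3] at e4
  exact e4.symm

theorem exists_coatom (hG : Cfsg.IsMinSimpleOddOrder G) : ∃ M : Subgroup G, IsCoatom M := by
  haveI := nontrivial_of_minSimple hG
  rcases eq_top_or_exists_le_coatom (⊥ : Subgroup G) with h | ⟨M, hM, -⟩
  · exact absurd h bot_ne_top
  · exact ⟨M, hM⟩

/-- the order formula -/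
theorem frobenius_kernels (hG : Cfsg.IsMinSimpleOddOrder G) (hCN : Cfsg.IsCNGroup G)
    (k : ℕ) (Mrep : Fin k → Subgroup G) (hmax : ∀ i, IsCoatom (Mrep i))
    (hnc : ∀ i j, i ≠ j → ∀ g : G, Mrep j ≠ (Mrep i).map (MulAut.conj g).toMonoidHom)
    (hall : ∀ M : Subgroup G, IsCoatom M → ∃ i, ∃ g : G, M = (Mrep i).map (MulAut.conj g).toMonoidHom) :
    (∀ i j, i ≠ j → (Nat.card (Cfsg.fittingHallOf (Mrep i))).Coprime (Nat.card (Cfsg.fittingHallOf (Mrep j)))) ∧
      ∏ i, Nat.card (Cfsg.fittingHallOf (Mrep i)) = Nat.card G ∧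
      ∀ x : G, ∃ i, ∃ g : G, g * x * g⁻¹ ∈ Cfsg.fittingHallOf (Mrep i) := by
  classical
  have hcop : ∀ i j, i ≠ j →
      (Nat.card (Cfsg.fittingHallOf (Mrep i))).Coprime (Nat.card (Cfsg.fittingHallOf (Mrep j))) :=
    fun i j hij => coatom_coprime hG hCN _ _ (hmax i) (hmax j) (hnc i j hij)
  -- every non-identity element lies in a maximal nilpotent subgroup
  have hex : ∀ x : G, x ≠ 1 → ∃ L : Subgroup G, MaxNilp L ∧ x ∈ L := by
    intro x hx1
    obtain ⟨L, hCL, hLn, hLmax⟩ :=
      Cfsg.Agent.Lib.Helper10.exists_maxnilp_ge (centralizer ({x} : Set G)) (hCN x hx1)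
    exact ⟨L, ⟨hLn, hLmax⟩, hCL (mem_centralizer_singleton_iff.mpr rfl)⟩
  refine ⟨hcop, ?_, ?_⟩
  · apply Nat.dvd_antisymm
    · apply prod_dvd_of_pairwise_coprime
      · intro i _ j _ hij
        exact hcop i j hij
      · intro i _
        exact Subgroup.card_subgroup_dvd_card _
    · have hn0 : Nat.card G ≠ 0 := Nat.card_pos.ne'
      have hP0 : ∏ i, Nat.card (Cfsg.fittingHallOf (Mrep i)) ≠ 0 := by
        rw [Finset.prod_ne_zero_iff]
        intro i _
        exact Nat.card_pos.ne'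
      rw [← Nat.factorization_prime_le_iff_dvd hn0 hP0]
      intro p hp
      by_cases hpn : p ∣ Nat.card G
      · haveI : Fact p.Prime := ⟨hp⟩
        obtain ⟨x, hx⟩ := exists_prime_orderOf_dvd_card' (G := G) p hpn
        have hx1 : x ≠ 1 := by
          rintro rfl
          rw [orderOf_one] at hx
          exact hp.ne_one hx.symm
        obtain ⟨L, hL, hxL⟩ := hex x hx1
        have hpL : p ∣ Nat.card L := hx ▸ Subgroup.orderOf_dvd_natCard L hxL
        have hHall := maxnilp_hall hCN hL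
        have hpi : Nat.Coprime p L.index := Nat.Coprime.coprime_dvd_left hpL hHall
        have h1 : p ^ (Nat.card G).factorization p ∣ Nat.card L * L.index := by
          rw [Subgroup.card_mul_index]
          exact Nat.ordProj_dvd _ _
        have h2 : p ^ (Nat.card G).factorization p ∣ Nat.card L :=
          Nat.Coprime.dvd_of_dvd_mul_right (Nat.Coprime.pow_left _ hpi) h1
        obtain ⟨i, g, hg⟩ := maxnilp_conj_rep hG hCN Mrep hall hL
        have h3 : Nat.card L = Nat.card (Cfsg.fittingHallOf (Mrep i)) := by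
          rw [← hg]
          exact (Subgroup.card_map_of_injective (MulAut.conj g).injective).symm
        have h4 : p ^ (Nat.card G).factorization p ∣ ∏ i, Nat.card (Cfsg.fittingHallOf (Mrep i)) :=
          dvd_trans (h3 ▸ h2) (Finset.dvd_prod_of_mem _ (Finset.mem_univ i))
        exact (hp.pow_dvd_iff_le_factorization hP0).mp h4
      · rw [Nat.factorization_eq_zero_of_not_dvd hpn]
        exact Nat.zero_le _
  · intro x
    by_cases hx1 : x = 1
    · obtain ⟨M, hM⟩ := exists_coatom hG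
      obtain ⟨i, -, -⟩ := hall M hM
      refine ⟨i, 1, ?_⟩
      rw [hx1]
      simp
    · obtain ⟨L, hL, hxL⟩ := hex x hx1
      obtain ⟨i, g, hg⟩ := maxnilp_conj_rep hG hCN Mrep hall hL
      refine ⟨i, g, ?_⟩
      rw [← hg]
      exact conj_mem_map_conj L g x hxL

end Cfsg.Agent.Lib.Helper12.CNMin
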