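import Mathlib

/-!
Helper lemmas (helper12): a crossed homomorphism into an abelian normal `p`-subgroup that vanishes on a
subgroup of index prime to `p` is principal (injectivity of restriction to a Sylow subgroup on `H¹`).
-/

set_option autoImplicit false
namespace Cfsg.Agent.Lib.Helper12

theorem cocycle_trivial {G : Type*} [Group G] [Finite G] {p : ℕ} [Fact p.Prime] (Z T : Subgroup G)
    [hZn : Z.Normal] (hZcomm : ∀ a ∈ Z, ∀ b ∈ Z, a * b = b * a) (hZp : IsPGroup p Z)
    (hT : ¬ p ∣ T.index) (δ : G → G) (hδZ : ∀ g, δ g ∈ Z)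
    (hδmul : ∀ g h, δ (g * h) = δ g * (g * δ h * g⁻¹)) (hδT : ∀ t ∈ T, δ t = 1) :
    ∃ z ∈ Z, ∀ g, δ g = z * g * z⁻¹ * g⁻¹ := by
  classical
  have hp : p.Prime := Fact.out
  letI : CommGroup ↥Z :=
    { (inferInstance : Group ↥Z) with
      mul_comm := fun a b => Subtype.ext (hZcomm a a.2 b b.2) }
  letI : Fintype (G ⧸ T) := Fintype.ofFinite _
  let d : G → ↥Z := fun g => ⟨δ g, hδZ g⟩
  let c : G →* MulAut ↥Z := MulAut.conjNormal
  have hc : ∀ (g : G) (z : ↥Z), ((c g z : ↥Z) : G) = g * z * g⁻¹ := fun g z => rfl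
  have hd : ∀ g h, d (g * h) = d g * c g (d h) := by
    intro g h
    apply Subtype.ext
    exact hδmul g h
  have hd1 : ∀ t ∈ T, d t = 1 := fun t ht => Subtype.ext (hδT t ht)
  have hconst : ∀ g, ∀ t ∈ T, d (g * t) = d g := by
    intro g t ht
    rw [hd, hd1 t ht, map_one, mul_one]
  set w : ↥Z := ∏ q : G ⧸ T, d (Quotient.out q) with hw
  have hcardn : Fintype.card (G ⧸ T) = T.index := by
    rw [Subgroup.index, Nat.card_eq_fintype_card]
  have key : ∀ g, w = d g ^ T.index * c g w := by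
    intro g
    have h1 : ∏ q : G ⧸ T, d (g * Quotient.out q) = d g ^ T.index * c g w := by
      have : ∀ q : G ⧸ T, d (g * Quotient.out q) = d g * c g (d (Quotient.out q)) := fun q => hd g _
      rw [Finset.prod_congr rfl (fun q _ => this q), Finset.prod_mul_distrib, Finset.prod_const,
        Finset.card_univ, hcardn, hw, map_prod]
    have h2 : ∏ q : G ⧸ T, d (g * Quotient.out q) = ∏ q : G ⧸ T, d (Quotient.out (g • q)) := by
      apply Finset.prod_congr rfl
      intro q _
      have hmk : ((g * Quotient.out q : G) : G ⧸ T) = g • q := by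
        conv_rhs => rw [← QuotientGroup.out_eq' q]
        rfl
      have hmem : (g * Quotient.out q)⁻¹ * Quotient.out (g • q) ∈ T := by
        rw [← QuotientGroup.eq, hmk, QuotientGroup.out_eq']
      have e : Quotient.out (g • q) = (g * Quotient.out q) * ((g * Quotient.out q)⁻¹ * Quotient.out (g • q)) := by
        group
      rw [e, hconst _ _ hmem]
    have h3 : ∏ q : G ⧸ T, d (Quotient.out (g • q)) = w := by
      rw [hw]
      exact Fintype.prod_equiv (MulAction.toPerm g) _ _ (fun q => rfl)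
    calc w = ∏ q : G ⧸ T, d (Quotient.out (g • q)) := h3.symm
      _ = ∏ q : G ⧸ T, d (g * Quotient.out q) := h2.symm
      _ = d g ^ T.index * c g w := h1
  -- the exponent
  have hcop : (T.index).Coprime (Nat.card ↥Z) := by
    obtain ⟨k, hk⟩ := (IsPGroup.iff_card (p := p)).mp hZp
    rw [hk]
    exact Nat.Coprime.pow_right k ((Nat.Prime.coprime_iff_not_dvd hp).mpr hT).symm
  have hm : ∃ m : ℕ, ∀ x : ↥Z, (x ^ T.index) ^ m = x := by
    by_cases h1 : Nat.card ↥Z = 1
    · refine ⟨0, fun x => ?_⟩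
      have : Subsingleton ↥Z := (Nat.card_eq_one_iff_unique.mp h1).1
      exact Subsingleton.elim _ _
    · have hpos : 0 < Nat.card ↥Z := Nat.card_pos
      obtain ⟨m, -, hm⟩ := Nat.exists_mul_mod_eq_one_of_coprime hcop (by omega)
      refine ⟨m, fun x => ?_⟩
      rw [← pow_mul, ← pow_mod_natCard, hm, pow_one]
  obtain ⟨m, hm⟩ := hm
  refine ⟨(w ^ m : ↥Z), (w ^ m : ↥Z).2, fun g => ?_⟩
  have h1 : d g ^ T.index = w * (c g w)⁻¹ := by
    exact eq_mul_inv_of_mul_eq (key g).symm
  have h2 : d g = w ^ m * (c g (w ^ m))⁻¹ := by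
    rw [← hm (d g), h1, mul_pow, inv_pow, map_pow]
  have h3 := congrArg Subtype.val h2
  have h4 : δ g = (w ^ m : ↥Z) * (g * (w ^ m : ↥Z) * g⁻¹)⁻¹ := h3
  rw [h4]
  group

end Cfsg.Agent.Lib.Helper12
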