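/-
helper12: S4481 market (planner helper6), leaf CARD2 `factorization_centralizer_pow`: the 2-part of the order
of the centralizer of `σ^k` in a group with dihedral Sylow 2-subgroup of order `2^n ≥ 8`, `σ` of order
`2^(n-1)`.  Also small facts on `DihedralGroup N` (`dihAux_*`) used by leaf FUS.
-/
import Mathlib
import Cfsg.Prelude.Def_Blocks
import Cfsg.Agent.Lib.Helper6.DihBlkDefs
import Cfsg.Agent.Lib.Lead.BrLeo12
import Cfsg.Agent.S0514

set_option autoImplicit false

namespace Cfsg.Agent.Lib.Helper12.DIHCARD2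

open Cfsg Cfsg.Agent.CharLib
open Cfsg.Agent.Lib.Helper6.DihBlk
open scoped ComplexConjugate

section dihaux

open DihedralGroup

/-- an element of a dihedral group whose square is not one is a rotation -/
theorem dihAux_eq_r {N : ℕ} (a : DihedralGroup N) (ha : a * a ≠ 1) : ∃ c : ZMod N, a = r c := by
  cases a with
  | r c => exact ⟨c, rfl⟩
  | sr c => exact absurd (sr_mul_self c) ha

/-- conjugation acts on the rotations by `±1` -/
theorem dihAux_conj_r {N : ℕ} (b : DihedralGroup N) (c : ZMod N) :
    b * r c * b⁻¹ = r c ∨ b * r c * b⁻¹ = (r c)⁻¹ := by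
  cases b with
  | r j =>
    left
    rw [inv_r, r_mul_r, r_mul_r]
    congr 1
    ring
  | sr j =>
    right
    rw [inv_sr, sr_mul_r, sr_mul_sr, inv_r]
    congr 1
    ring

/-- an element commuting with a rotation `r c`, `2c ≠ 0`, is a rotation -/
theorem dihAux_commute_r {N : ℕ} (b : DihedralGroup N) (c : ZMod N) (hc : r c * r c ≠ (1 : DihedralGroup N))
    (hb : b * r c = r c * b) : ∃ j : ZMod N, b = r j := by
  cases b with
  | r j => exact ⟨j, rfl⟩
  | sr j =>
    exfalso
    rw [sr_mul_r, r_mul_sr] at hb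
    have h1 : j + c = j - c := by
      have := hb
      injection this
    apply hc
    rw [r_mul_r, ← r_zero]
    congr 1
    linear_combination h1

/-- every rotation is a power of `r 1` -/
theorem dihAux_r_mem {N : ℕ} (j : ZMod N) : (r j : DihedralGroup N) ∈ Subgroup.zpowers (r 1 : DihedralGroup N) := by
  refine ⟨(ZMod.cast j : ℤ), ?_⟩
  show r (1 : ZMod N) ^ (ZMod.cast j : ℤ) = r j
  rw [r_one_zpow]
  congr 1
  exact ZMod.intCast_zmod_cast j

end dihaux

section group_part

variable {G : Type*} [Group G] [Finite G]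

/-- the 2-part of `|G|` when the Sylow 2-subgroup is dihedral of order `2^n` -/
theorem factorization_card_of_dihedral (n : ℕ) (hn : 3 ≤ n) (P : Sylow 2 G)
    (hP : Nonempty ((P : Subgroup G) ≃* DihedralGroup (2 ^ (n - 1)))) :
    Nat.card (P : Subgroup G) = 2 ^ n ∧ (Nat.card G).factorization 2 = n := by
  obtain ⟨e⟩ := hP
  have hc : Nat.card (P : Subgroup G) = 2 ^ n := by
    rw [Nat.card_congr e.toEquiv, DihedralGroup.nat_card]
    have : n = (n - 1) + 1 := by omega
    conv_rhs => rw [this, pow_succ]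
    ring
  refine ⟨hc, ?_⟩
  have h1 := Sylow.card_eq_multiplicity P
  rw [hc] at h1
  exact (Nat.pow_right_injective (le_refl 2) h1).symm

/-- **CARD2** the 2-part of the order of the centralizer of `σ^k`. -/
theorem factorization_centralizer_pow (n : ℕ) (hn : 3 ≤ n) (P : Sylow 2 G)
    (hP : Nonempty ((P : Subgroup G) ≃* DihedralGroup (2 ^ (n - 1)))) (σ : G) (hσ : σ ∈ (P : Subgroup G))
    (hσo : orderOf σ = 2 ^ (n - 1)) (k : ℕ) (hk0 : 0 < k) (hk : k < 2 ^ (n - 1)) :
    (Nat.card (Subgroup.centralizer ({σ ^ k} : Set G))).factorization 2 =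
      if k = 2 ^ (n - 2) then n else n - 1 := by
  classical
  obtain ⟨hcardP, hfacG⟩ := factorization_card_of_dihedral n hn P hP
  set C := Subgroup.centralizer ({σ ^ k} : Set G) with hC
  have hCne : Nat.card C ≠ 0 := Nat.card_pos.ne'
  have hGne : Nat.card G ≠ 0 := Nat.card_pos.ne'
  have hmemC : ∀ x : G, x ∈ C ↔ x * σ ^ k = σ ^ k * x := by
    intro x
    rw [hC, Subgroup.mem_centralizer_iff]
    constructor
    · intro h
      exact (h (σ ^ k) (Set.mem_singleton _)).symm
    · intro h y hy
      rw [Set.mem_singleton_iff] at hy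
      rw [hy]; exact h.symm
  -- general upper bound
  have hle : (Nat.card C).factorization 2 ≤ n := by
    rw [← hfacG]
    exact (Nat.factorization_le_iff_dvd hCne hGne).mpr (Subgroup.card_subgroup_dvd_card C) 2
  have hN2 : (2 : ℕ) ^ (n - 1) = 2 * 2 ^ (n - 2) := by
    have : n - 1 = (n - 2) + 1 := by omega
    rw [this, pow_succ]; ring
  obtain ⟨e⟩ := hP
  by_cases hkz : k = 2 ^ (n - 2)
  · rw [if_pos hkz]
    apply le_antisymm hle
    -- P ≤ C
    have hPC : (P : Subgroup G) ≤ C := by
      intro x hx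
      rw [hmemC]
      -- transport to the dihedral group
      set s' := e ⟨σ, hσ⟩ with hs'
      set x' := e ⟨x, hx⟩ with hx'
      have hs'sq : s' * s' ≠ 1 := by
        intro h
        have h2 : (⟨σ, hσ⟩ : (P : Subgroup G)) * ⟨σ, hσ⟩ = 1 := by
          apply e.injective
          rw [map_mul, map_one]; exact h
        have h3 : σ * σ = 1 := by
          have := congrArg (fun y : (P : Subgroup G) => (y : G)) h2
          simpa using this
        have h4 : orderOf σ ∣ 2 := orderOf_dvd_of_pow_eq_one (by rw [pow_two]; exact h3)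
        rw [hσo, hN2] at h4
        have h5 : 2 * 2 ^ (n - 2) ≤ 2 := Nat.le_of_dvd (by norm_num) h4
        have h6 : 2 ≤ 2 ^ (n - 2) := by
          calc 2 = 2 ^ 1 := by norm_num
            _ ≤ 2 ^ (n - 2) := Nat.pow_le_pow_right (by norm_num) (by omega)
        omega
      obtain ⟨c, hc⟩ := dihAux_eq_r s' hs'sq
      have hz' : e ⟨σ ^ k, (P : Subgroup G).pow_mem hσ k⟩ = DihedralGroup.r (c * (k : ZMod (2 ^ (n - 1)))) := by
        have : (⟨σ ^ k, (P : Subgroup G).pow_mem hσ k⟩ : (P : Subgroup G)) = ⟨σ, hσ⟩ ^ k := by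
          apply Subtype.ext; simp
        rw [this, map_pow, ← hs', hc, DihedralGroup.r_pow]
      set d : ZMod (2 ^ (n - 1)) := c * (k : ZMod (2 ^ (n - 1))) with hd
      have h2d : d + d = 0 := by
        rw [hd, hkz]
        have : ((2 ^ (n - 2) : ℕ) : ZMod (2 ^ (n - 1))) + ((2 ^ (n - 2) : ℕ) : ZMod (2 ^ (n - 1))) = 0 := by
          rw [← Nat.cast_add, ← two_mul, ← hN2]
          exact ZMod.natCast_self _
        push_cast at this ⊢
        linear_combination c * this
      have hcomm : x' * DihedralGroup.r d = DihedralGroup.r d * x' := by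
        cases hx'' : x' with
        | r j => rw [DihedralGroup.r_mul_r, DihedralGroup.r_mul_r, add_comm]
        | sr j =>
          rw [DihedralGroup.sr_mul_r, DihedralGroup.r_mul_sr]
          congr 1
          linear_combination h2d
      have h7 : (⟨x, hx⟩ : (P : Subgroup G)) * ⟨σ ^ k, (P : Subgroup G).pow_mem hσ k⟩ =
          ⟨σ ^ k, (P : Subgroup G).pow_mem hσ k⟩ * ⟨x, hx⟩ := by
        apply e.injective
        rw [map_mul, map_mul, hz', ← hx']
        exact hcomm
      have := congrArg (fun y : (P : Subgroup G) => (y : G)) h7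
      simpa using this
    have hdvd : 2 ^ n ∣ Nat.card C := by
      rw [← hcardP]
      exact Subgroup.card_dvd_of_le hPC
    exact (Nat.Prime.pow_dvd_iff_le_factorization Nat.prime_two hCne).mp hdvd
  · rw [if_neg hkz]
    -- (σ^k)^2 ≠ 1
    have hsq : σ ^ k * σ ^ k ≠ 1 := by
      intro h
      have h1 : σ ^ (2 * k) = 1 := by rw [two_mul, pow_add]; exact h
      have h2 : orderOf σ ∣ 2 * k := orderOf_dvd_of_pow_eq_one h1
      rw [hσo, hN2] at h2
      obtain ⟨q, hq⟩ := h2
      have hk' : k < 2 * 2 ^ (n - 2) := by rw [← hN2]; exact hk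
      have hq1 : q = 1 := by
        rcases q with _ | _ | q
        · omega
        · rfl
        · exfalso
          have : 2 * 2 ^ (n - 2) * (q + 1 + 1) ≥ 2 * 2 ^ (n - 2) * 2 := Nat.mul_le_mul_left _ (by omega)
          omega
      rw [hq1] at hq
      omega
    apply le_antisymm
    · -- upper bound
      have hσkC : σ ^ k ∈ C := by rw [hmemC]
      set uC : ↥C := ⟨σ ^ k, hσkC⟩ with huC
      have hpz : IsPGroup 2 (Subgroup.zpowers uC) := by
        intro g
        obtain ⟨g, hg⟩ := g
        obtain ⟨a, rfl⟩ := Subgroup.mem_zpowers_iff.mp hg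
        refine ⟨n - 1, ?_⟩
        apply Subtype.ext
        apply Subtype.ext
        simp only [Subgroup.coe_pow, Subgroup.coe_zpow, Subgroup.coe_one, huC]
        rw [← zpow_natCast, ← zpow_mul, mul_comm, zpow_mul, zpow_natCast, ← pow_mul, mul_comm, pow_mul, ← hσo,
          pow_orderOf_eq_one, one_pow, one_zpow]
      obtain ⟨Q, hQ⟩ := hpz.exists_le_sylow
      have hQcard := Sylow.card_eq_multiplicity Q
      set Q' : Subgroup G := (Q : Subgroup ↥C).map C.subtype with hQ'
      have hQ'p : IsPGroup 2 Q' := Q.2.map _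
      have hQ'card : Nat.card Q' = Nat.card (Q : Subgroup ↥C) :=
        Subgroup.card_map_of_injective C.subtype_injective
      have hQ'C : Q' ≤ C := by
        rintro _ ⟨y, _, rfl⟩
        exact y.2
      have huQ' : σ ^ k ∈ Q' := ⟨uC, hQ (Subgroup.mem_zpowers uC), rfl⟩
      obtain ⟨R, hR⟩ := hQ'p.exists_le_sylow
      obtain ⟨g, hg⟩ := MulAction.exists_smul_eq G P R
      subst hg
      let e' : ((g • P : Sylow 2 G) : Subgroup G) ≃* DihedralGroup (2 ^ (n - 1)) :=
        (P.equivSMul g).symm.trans e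
      have huR : σ ^ k ∈ ((g • P : Sylow 2 G) : Subgroup G) := hR huQ'
      have hu'sq : e' ⟨σ ^ k, huR⟩ * e' ⟨σ ^ k, huR⟩ ≠ 1 := by
        intro h
        apply hsq
        have h2 : (⟨σ ^ k, huR⟩ : ((g • P : Sylow 2 G) : Subgroup G)) * ⟨σ ^ k, huR⟩ = 1 := by
          apply e'.injective
          rw [map_mul, map_one]; exact h
        have := congrArg (fun y : ((g • P : Sylow 2 G) : Subgroup G) => (y : G)) h2
        simpa using this
      obtain ⟨c, hc⟩ := dihAux_eq_r _ hu'sq
      rw [hc] at hu'sq
      -- the injection of Q' into the rotations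
      let ψ : ↥Q' → ↥(Subgroup.zpowers (DihedralGroup.r 1 : DihedralGroup (2 ^ (n - 1)))) := fun x =>
        ⟨e' ⟨(x : G), hR x.2⟩, by
          have hxC : (x : G) ∈ C := hQ'C x.2
          rw [hmemC] at hxC
          have hcomm : e' ⟨(x : G), hR x.2⟩ * DihedralGroup.r c = DihedralGroup.r c * e' ⟨(x : G), hR x.2⟩ := by
            rw [← hc, ← map_mul, ← map_mul]
            congr 1
            apply Subtype.ext
            simpa using hxC
          obtain ⟨j, hj⟩ := dihAux_commute_r _ c hu'sq hcomm
          rw [hj]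
          exact dihAux_r_mem j⟩
      have hψ : Function.Injective ψ := by
        intro x y hxy
        have h1 : e' ⟨(x : G), hR x.2⟩ = e' ⟨(y : G), hR y.2⟩ := congrArg Subtype.val hxy
        have h2 := e'.injective h1
        apply Subtype.ext
        exact congrArg (fun z : ((g • P : Sylow 2 G) : Subgroup G) => (z : G)) h2
      have hcard_le : Nat.card ↥Q' ≤ Nat.card ↥(Subgroup.zpowers (DihedralGroup.r 1 : DihedralGroup (2 ^ (n - 1)))) :=
        Nat.card_le_card_of_injective ψ hψ
      rw [Nat.card_zpowers, DihedralGroup.orderOf_r_one, hQ'card, hQcard] at hcard_le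
      exact (Nat.pow_le_pow_iff_right (by norm_num : 1 < 2)).mp hcard_le
    · -- lower bound
      have hZC : Subgroup.zpowers σ ≤ C := by
        rw [Subgroup.zpowers_le, hmemC, ← pow_succ', ← pow_succ]
      have hdvd : 2 ^ (n - 1) ∣ Nat.card C := by
        rw [← hσo, ← Nat.card_zpowers]
        exact Subgroup.card_dvd_of_le hZC
      exact (Nat.Prime.pow_dvd_iff_le_factorization Nat.prime_two hCne).mp hdvd

end group_part

end Cfsg.Agent.Lib.Helper12.DIHCARD2
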