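/-
helper12: S4481 market (planner helper6), leaf FUS `fusion_pow`: in a group with dihedral Sylow 2-subgroup of
order `2^n ≥ 8` and `σ` of order `2^(n-1)` in it, `σ^k ~ σ^l` (0 < k, l < 2^(n-1)) forces `l = k` or
`l + k = 2^(n-1)`.  Proof: `g (σ^k) g⁻¹ = σ^l ∈ ⟨σ^k⟩`, so `g` normalizes the cyclic 2-group `⟨σ^k⟩`; the 2-part
`w = g^r` of `g` generates with `σ^k` a 2-group, which lies in a dihedral Sylow subgroup, so `w` acts by `±1`;
`x ↦ x^r` is injective on the units of `ZMod (2^j)` (`r` odd), so `g` acts by `±1` as well.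
-/
import Mathlib
import Cfsg.Prelude.Def_Blocks
import Cfsg.Agent.Lib.Helper6.DihBlkDefs
import Cfsg.Agent.Lib.Lead.BrLeo12
import Cfsg.Agent.S0514
import Cfsg.Agent.Lib.Helper12.DIHCARD2

set_option autoImplicit false

namespace Cfsg.Agent.Lib.Helper12.DIHFUS

open Cfsg Cfsg.Agent.CharLib
open Cfsg.Agent.Lib.Helper6.DihBlk
open Cfsg.Agent.Lib.Helper12.DIHCARD2
open scoped ComplexConjugate

/-- `x ↦ x^r`, `r` odd, has trivial kernel on `ZMod (2^j)` -/
theorem zmod_two_pow_eq_one_of_odd_pow (t j : ℕ) (ht : t = 2 ^ j) (x : ZMod t) (r : ℕ) (hr : Odd r)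
    (hx : x ^ r = 1) : x = 1 := by
  subst ht
  rcases j with _ | j
  · have : Subsingleton (ZMod (2 ^ 0)) := by
      rw [pow_zero]; infer_instance
    exact Subsingleton.elim _ _
  · have hr0 : r ≠ 0 := by
      rintro rfl
      exact (Nat.not_odd_iff_even.mpr Even.zero) hr
    have hu : IsUnit x := IsUnit.of_pow_eq_one hx hr0
    obtain ⟨y, rfl⟩ := hu
    have hy : y ^ r = 1 := by
      apply Units.ext
      rw [Units.val_pow_eq_pow_val, hx, Units.val_one]
    have h2 := ZMod.pow_totient y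
    rw [Nat.totient_prime_pow_succ Nat.prime_two] at h2
    have hcop : Nat.gcd r (2 ^ j * (2 - 1)) = 1 := by
      have : Nat.Coprime r (2 ^ j) := Nat.Coprime.pow_right j hr.coprime_two_right
      simpa using this
    have h3 : y ^ Nat.gcd r (2 ^ j * (2 - 1)) = 1 := pow_gcd_eq_one.mpr ⟨hy, h2⟩
    rw [hcop, pow_one] at h3
    rw [h3, Units.val_one]

section group_part

variable {G : Type*} [Group G] [Finite G]

/-- if `N ∣ 2k` with `0 < k < N` then `2k = N` -/
theorem two_mul_eq_of_dvd (N k : ℕ) (hk0 : 0 < k) (hk : k < N) (h : N ∣ 2 * k) : 2 * k = N := by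
  obtain ⟨q, hq⟩ := h
  have hq1 : q = 1 := by
    rcases q with _ | _ | q
    · omega
    · rfl
    · exfalso
      have : N * (q + 1 + 1) ≥ N * 2 := Nat.mul_le_mul_left _ (by omega)
      omega
  rw [hq1] at hq
  omega

/-- the key step: an element `g` with `g u g⁻¹ ∈ ⟨u⟩`, `u` a 2-element with `u^2 ≠ 1` lying in a dihedral
Sylow 2-subgroup, acts on `u` by `±1`. -/
theorem conj_eq_or_inv_of_dihedral (n : ℕ) (P : Sylow 2 G)
    (hP : Nonempty ((P : Subgroup G) ≃* DihedralGroup (2 ^ (n - 1)))) (u g : G)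
    (hu2 : u ^ (2 ^ (n - 1)) = 1) (hsq : u * u ≠ 1) (m : ℤ) (hm : g * u * g⁻¹ = u ^ m) :
    g * u * g⁻¹ = u ∨ g * u * g⁻¹ = u⁻¹ := by
  classical
  obtain ⟨e⟩ := hP
  -- iterate
  have hiter : ∀ i : ℕ, g ^ i * u * (g ^ i)⁻¹ = u ^ (m ^ i) := by
    intro i
    induction i with
    | zero => simp
    | succ i ih =>
      have : g ^ (i + 1) * u * (g ^ (i + 1))⁻¹ = g * (g ^ i * u * (g ^ i)⁻¹) * g⁻¹ := by
        rw [pow_succ']; group
      rw [this, ih, ← conj_zpow, hm, ← zpow_mul, pow_succ']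
  -- the 2-part of g
  have hog : orderOf g ≠ 0 := (orderOf_pos g).ne'
  obtain ⟨a, r, hr, hor⟩ := Nat.exists_eq_two_pow_mul_odd hog
  set w := g ^ r with hw
  have hw2 : w ^ (2 ^ a) = 1 := by
    rw [hw, ← pow_mul, mul_comm, ← hor, pow_orderOf_eq_one]
  have hwu : w * u * w⁻¹ = u ^ (m ^ r) := hiter r
  -- p-groups
  have hpu : IsPGroup 2 (Subgroup.zpowers u) := by
    rintro ⟨x, hx⟩
    obtain ⟨b, rfl⟩ := Subgroup.mem_zpowers_iff.mp hx
    refine ⟨n - 1, ?_⟩
    apply Subtype.ext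
    simp only [Subgroup.coe_pow, Subgroup.coe_one]
    rw [← zpow_natCast, ← zpow_mul, mul_comm, zpow_mul, zpow_natCast, hu2, one_zpow]
  have hpw : IsPGroup 2 (Subgroup.zpowers w) := by
    rintro ⟨x, hx⟩
    obtain ⟨b, rfl⟩ := Subgroup.mem_zpowers_iff.mp hx
    refine ⟨a, ?_⟩
    apply Subtype.ext
    simp only [Subgroup.coe_pow, Subgroup.coe_one]
    rw [← zpow_natCast, ← zpow_mul, mul_comm, zpow_mul, zpow_natCast, hw2, one_zpow]
  have hnorm : Subgroup.zpowers w ≤ Subgroup.normalizer (Subgroup.zpowers u : Set G) := by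
    rw [Subgroup.zpowers_le]
    apply Subgroup.mem_normalizer_fintype
    intro y hy
    obtain ⟨b, rfl⟩ := Subgroup.mem_zpowers_iff.mp hy
    show w * u ^ b * w⁻¹ ∈ Subgroup.zpowers u
    rw [← conj_zpow, hwu, ← zpow_mul]
    exact Subgroup.zpow_mem_zpowers u _
  have hK : IsPGroup 2 (Subgroup.zpowers u ⊔ Subgroup.zpowers w : Subgroup G) :=
    IsPGroup.to_sup_of_normal_left' hpu hpw hnorm
  obtain ⟨R, hR⟩ := hK.exists_le_sylow
  obtain ⟨g', hg'⟩ := MulAction.exists_smul_eq G P R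
  subst hg'
  let e' : ((g' • P : Sylow 2 G) : Subgroup G) ≃* DihedralGroup (2 ^ (n - 1)) :=
    (P.equivSMul g').symm.trans e
  have huR : u ∈ ((g' • P : Sylow 2 G) : Subgroup G) :=
    hR (le_sup_left (a := Subgroup.zpowers u) (Subgroup.mem_zpowers u))
  have hwR : w ∈ ((g' • P : Sylow 2 G) : Subgroup G) :=
    hR (le_sup_right (b := Subgroup.zpowers w) (Subgroup.mem_zpowers w))
  have hu'sq : e' ⟨u, huR⟩ * e' ⟨u, huR⟩ ≠ 1 := by
    intro h
    apply hsq
    have h2 : (⟨u, huR⟩ : ((g' • P : Sylow 2 G) : Subgroup G)) * ⟨u, huR⟩ = 1 := by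
      apply e'.injective
      rw [map_mul, map_one]; exact h
    have := congrArg (fun y : ((g' • P : Sylow 2 G) : Subgroup G) => (y : G)) h2
    simpa using this
  obtain ⟨c, hc⟩ := dihAux_eq_r _ hu'sq
  have hwconj : w * u * w⁻¹ = u ∨ w * u * w⁻¹ = u⁻¹ := by
    rcases dihAux_conj_r (e' ⟨w, hwR⟩) c with h | h
    · left
      rw [← hc, ← map_inv, ← map_mul, ← map_mul] at h
      have h2 := e'.injective h
      have := congrArg (fun y : ((g' • P : Sylow 2 G) : Subgroup G) => (y : G)) h2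
      simpa using this
    · right
      rw [← hc, ← map_inv, ← map_inv, ← map_mul, ← map_mul] at h
      have h2 := e'.injective h
      have := congrArg (fun y : ((g' • P : Sylow 2 G) : Subgroup G) => (y : G)) h2
      simpa using this
  -- number theory
  set t := orderOf u with ht
  have htdvd : t ∣ 2 ^ (n - 1) := orderOf_dvd_of_pow_eq_one hu2
  obtain ⟨j, _, htj⟩ := (Nat.dvd_prime_pow Nat.prime_two).mp htdvd
  set x : ZMod t := ((m : ℤ) : ZMod t) with hx
  rw [hm]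
  rcases hwconj with h | h
  · left
    have h1 : u ^ (m ^ r) = u ^ (1 : ℤ) := by rw [← hwu, h, zpow_one]
    have h2 : (m ^ r : ℤ) ≡ 1 [ZMOD (t : ℤ)] := zpow_eq_zpow_iff_modEq.mp h1
    have h3 : x ^ r = 1 := by
      have := (ZMod.intCast_eq_intCast_iff _ _ t).mpr h2
      rw [hx]
      push_cast at this
      exact this
    have h4 : x = 1 := zmod_two_pow_eq_one_of_odd_pow t j htj x r hr h3
    have h5 : (m : ℤ) ≡ 1 [ZMOD (t : ℤ)] := by
      apply (ZMod.intCast_eq_intCast_iff _ _ t).mp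
      rw [← hx, h4]; simp
    have h6 : u ^ m = u ^ (1 : ℤ) := zpow_eq_zpow_iff_modEq.mpr h5
    rw [h6, zpow_one]
  · right
    have h1 : u ^ (m ^ r) = u ^ (-1 : ℤ) := by rw [← hwu, h, zpow_neg_one]
    have h2 : (m ^ r : ℤ) ≡ -1 [ZMOD (t : ℤ)] := zpow_eq_zpow_iff_modEq.mp h1
    have h3 : (-x) ^ r = 1 := by
      have := (ZMod.intCast_eq_intCast_iff _ _ t).mpr h2
      rw [hr.neg_pow, hx]
      push_cast at this
      rw [this]; simp
    have h4 : -x = 1 := zmod_two_pow_eq_one_of_odd_pow t j htj (-x) r hr h3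
    have h5 : (m : ℤ) ≡ -1 [ZMOD (t : ℤ)] := by
      apply (ZMod.intCast_eq_intCast_iff _ _ t).mp
      rw [← hx]
      have : x = -1 := by rw [← h4]; simp
      rw [this]; simp
    have h6 : u ^ m = u ^ (-1 : ℤ) := zpow_eq_zpow_iff_modEq.mpr h5
    rw [h6, zpow_neg_one]

/-- **FUS** fusion of the powers of `σ`. -/
theorem fusion_pow (n : ℕ) (hn : 3 ≤ n) (P : Sylow 2 G)
    (hP : Nonempty ((P : Subgroup G) ≃* DihedralGroup (2 ^ (n - 1)))) (σ : G) (hσ : σ ∈ (P : Subgroup G))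
    (hσo : orderOf σ = 2 ^ (n - 1)) (k l : ℕ) (hk0 : 0 < k) (hk : k < 2 ^ (n - 1)) (hl0 : 0 < l)
    (hl : l < 2 ^ (n - 1)) (hc : IsConj (σ ^ k) (σ ^ l)) : l = k ∨ l + k = 2 ^ (n - 1) := by
  classical
  obtain ⟨g, hg⟩ := isConj_iff.mp hc
  set N := 2 ^ (n - 1) with hN
  have hNpos : 0 < N := by positivity
  -- the key claim
  have key : σ ^ l = σ ^ k ∨ σ ^ l = (σ ^ k)⁻¹ := by
    by_cases hsq : σ ^ k * σ ^ k = 1
    · left
      have hsq' : σ ^ l * σ ^ l = 1 := by
        rw [← hg]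
        calc g * σ ^ k * g⁻¹ * (g * σ ^ k * g⁻¹) = g * (σ ^ k * σ ^ k) * g⁻¹ := by group
          _ = 1 := by rw [hsq]; group
      have h1 : orderOf σ ∣ 2 * k := orderOf_dvd_of_pow_eq_one (by rw [two_mul, pow_add]; exact hsq)
      have h2 : orderOf σ ∣ 2 * l := orderOf_dvd_of_pow_eq_one (by rw [two_mul, pow_add]; exact hsq')
      rw [hσo] at h1 h2
      have e1 := two_mul_eq_of_dvd N k hk0 hk h1
      have e2 := two_mul_eq_of_dvd N l hl0 hl h2
      have : l = k := by omega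
      rw [this]
    · -- σ^l ∈ zpowers (σ^k)
      have hord : orderOf (σ ^ l) = orderOf (σ ^ k) := by
        rw [← hg]
        have := orderOf_injective (MulAut.conj g).toMonoidHom (MulAut.conj g).injective (σ ^ k)
        simpa [MulAut.conj_apply] using this
      rw [orderOf_pow' σ hl0.ne', orderOf_pow' σ hk0.ne', hσo] at hord
      have hdk : Nat.gcd N k ∣ N := Nat.gcd_dvd_left _ _
      have hdl : Nat.gcd N l ∣ N := Nat.gcd_dvd_left _ _
      have hgcd : Nat.gcd N l = Nat.gcd N k := by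
        have h1 : Nat.gcd N l * (N / Nat.gcd N l) = N := Nat.mul_div_cancel' hdl
        have h2 : Nat.gcd N k * (N / Nat.gcd N k) = N := Nat.mul_div_cancel' hdk
        have hpos : 0 < N / Nat.gcd N k := Nat.div_pos (Nat.le_of_dvd hNpos hdk) (Nat.gcd_pos_of_pos_left _ hNpos)
        rw [hord] at h1
        exact Nat.eq_of_mul_eq_mul_right hpos (h1.trans h2.symm)
      obtain ⟨q, hq⟩ : Nat.gcd N k ∣ l := hgcd ▸ Nat.gcd_dvd_right N l
      have hbez := Nat.gcd_eq_gcd_ab N k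
      have hσd : σ ^ (Nat.gcd N k) = (σ ^ k) ^ (Nat.gcdB N k) := by
        rw [← zpow_natCast σ (Nat.gcd N k), hbez, zpow_add, zpow_mul, zpow_natCast, ← hσo, pow_orderOf_eq_one,
          one_zpow, one_mul, zpow_mul, zpow_natCast]
      have hm : g * σ ^ k * g⁻¹ = (σ ^ k) ^ (Nat.gcdB N k * (q : ℤ)) := by
        rw [hg, hq, pow_mul, hσd, zpow_mul, zpow_natCast]
      have hu2 : (σ ^ k) ^ (2 ^ (n - 1)) = 1 := by
        rw [← pow_mul, mul_comm, pow_mul, ← hN, ← hσo, pow_orderOf_eq_one, one_pow]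
      have := conj_eq_or_inv_of_dihedral n P hP (σ ^ k) g hu2 hsq _ hm
      rw [hg] at this
      exact this
  rcases key with h | h
  · left
    have h1 : l ≡ k [MOD orderOf σ] := pow_eq_pow_iff_modEq.mp h
    rw [hσo] at h1
    exact Nat.ModEq.eq_of_lt_of_lt h1 hl hk
  · right
    have h1 : σ ^ (l + k) = 1 := by rw [pow_add, h, inv_mul_cancel]
    have h2 : orderOf σ ∣ l + k := orderOf_dvd_of_pow_eq_one h1
    rw [hσo] at h2
    obtain ⟨q, hq⟩ := h2
    have hq1 : q = 1 := by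
      rcases q with _ | _ | q
      · omega
      · rfl
      · exfalso
        have : N * (q + 1 + 1) ≥ N * 2 := Nat.mul_le_mul_left _ (by omega)
        omega
    rw [hq1, mul_one] at hq
    exact hq

end group_part

end Cfsg.Agent.Lib.Helper12.DIHFUS
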