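/-
helper12: DEFECT-ONE CLUSTER, PART O, leaf VAL `val_main` (frozen statement in
`notes/S4442_O_leaves.lean`), EXACT: `DOVALc.val_main_of` over the landed leaves
LOC1, LOC3 (helper23), LOC2, MULT (helper14), CONJ (helper16), ROOTCONJ (helper13),
SMT0 `_of` (helper27), DPOW (helper29).
-/
import Mathlib
import Cfsg.Prelude.Def_BlockRank
import Cfsg.Agent.Lib.Helper27.DODefs
import Cfsg.Agent.Lib.Helper27.BlkAlgDefs2
import Cfsg.Agent.Lib.Helper12.DOVALc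
import Cfsg.Agent.Lib.Helper23.DOLOC1
import Cfsg.Agent.Lib.Helper23.DOLOC3
import Cfsg.Agent.Lib.Helper14.DOLOC2
import Cfsg.Agent.Lib.Helper14.DOMULT
import Cfsg.Agent.Lib.Helper16.DOCONJ
import Cfsg.Agent.Lib.Helper13.DOROOTCONJ
import Cfsg.Agent.Lib.Helper27.DOSMT0
import Cfsg.Agent.Lib.Helper29.DODPOW

set_option autoImplicit false

namespace Cfsg.Agent.Lib.Helper12.DOVAL

open Cfsg Cfsg.Agent.Lib.Helper8.DOM Cfsg.Agent.Lib.Helper27.DO Cfsg.Agent.Lib.Helper27.BlkAlg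
open scoped ComplexConjugate

universe u

section gs

variable {G : Type u} [Group G] [Finite G] {p : ℕ} [Fact p.Prime] {M : Ideal AlgInt}
  {P : Subgroup G} {B : Set (IrrCharacter G)} {θ : IrrCharacter (Cz P)} {T : Subgroup G} {x0 : G}

/-- VAL : the values on the `p`-singular elements. -/
theorem val_main (c : Ctx p M P B θ T x0) :
    ∀ χ ∈ B, ∀ x ∈ P, x ≠ 1 → ∀ y ∈ Cz P, ¬ p ∣ orderOf y →
      (χ : G → ℂ) (x * y) = (Nat.card T : ℂ)⁻¹ *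
        ∑ᶠ n : Nz P, Dfun p x0 (muZ p M P θ x0 χ) ((n : G) * x * (n : G)⁻¹) *
          extendByZero (Cz P) (θ : Cz P → ℂ) ((n : G) * y * (n : G)⁻¹) := by
  have hLOC1 := Cfsg.Agent.Lib.Helper23.DOLOC1.exists_unique_hasIdx P c.hP x0 c.gen
  have hLOC2 := fun θ' hθ' =>
    Cfsg.Agent.Lib.Helper14.DOLOC2.block_of_pTriv c.hM P c.hP c.hSyl x0 c.gen θ' hθ'
  refine val_main_of c hLOC1 hLOC2
    (Cfsg.Agent.Lib.Helper23.DOLOC3.exists_pTriv_mem c.hM P c.hP c.hSyl)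
    (Cfsg.Agent.Lib.Helper16.DOCONJ.isIrrCharacter_conjC P)
    (fun n u hu φ i h => Cfsg.Agent.Lib.Helper16.DOCONJ.hasIdx_conjC P x0 c.gen n u hu φ i h)
    (Cfsg.Agent.Lib.Helper16.DOCONJ.pTriv_conjC P)
    (fun n φ φ' h _ => Cfsg.Agent.Lib.Helper16.DOCONJ.mem_blockOf_conjC P n φ φ' h)
    (Cfsg.Agent.Lib.Helper16.DOCONJ.isInducedBlock_conjC P)
    (Cfsg.Agent.Lib.Helper16.DOCONJ.mult_conjC P)
    (fun θ₁ θ₂ h₁ h₂ hi₁ hi₂ =>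
      Cfsg.Agent.Lib.Helper13.DOROOTCONJ.exists_conj_of_roots c.hM P c.hP c.hSyl B c.hB c.hBP
        θ₁ θ₂ h₁ h₂ hi₁ hi₂)
    ?_
    (fun χ i => Cfsg.Agent.Lib.Helper14.DOMULT.muZ_cast c.hM P c.hP c.hSyl x0 c.gen θ c.hθP χ i)
    (fun μ k => Cfsg.Agent.Lib.Helper29.DODPOW.Dfun_pow x0 (orderOf_x0 c.hP c.gen) μ k)
  intro θ' hθ' χ hnot i
  refine Cfsg.Agent.Lib.Helper27.DOSMT0.muC_const_of c.hM P c.hP x0 c.gen θ' χ hnot hLOC1 ?_ i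
  intro φ hφ
  refine (hLOC2 θ' hθ').2.1 φ hφ 1 ?_
  rw [orderOf_one]
  exact (Fact.out : p.Prime).one_lt.ne' ∘ Nat.dvd_one.mp

end gs

end Cfsg.Agent.Lib.Helper12.DOVAL
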