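/-
helper12: DEFECT-ONE CLUSTER, PART O, leaf VAL `val_main` -- part (a): roots of unity, the cyclic
group `P = ⟨x0⟩`, central indices, restriction to a subgroup.
-/
import Mathlib
import Cfsg.Prelude.Def_BlockRank
import Cfsg.Agent.Lib.Helper27.DODefs
import Cfsg.Agent.Lib.Lead.CharMain
import Cfsg.Agent.Lib.Helper6.FirstMain

set_option autoImplicit false

namespace Cfsg.Agent.Lib.Helper12.DOVAL

open Cfsg Cfsg.Agent.Lib.Helper8.DOM Cfsg.Agent.Lib.Helper27.DO Cfsg.Agent.CharLib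
open scoped ComplexConjugate

universe u

/-! ### roots of unity -/

section zeta

variable (p : ℕ) [hp : Fact p.Prime]

theorem zetaP_isPrimitiveRoot : IsPrimitiveRoot (zetaP p) p :=
  Complex.isPrimitiveRoot_exp p hp.out.ne_zero

theorem zetaP_pow_eq_of_modEq {a b : ℕ} (h : a ≡ b [MOD p]) : zetaP p ^ a = zetaP p ^ b := by
  have h1 := (zetaP_isPrimitiveRoot p).eq_orderOf
  rw [← pow_mod_orderOf (zetaP p) a, ← pow_mod_orderOf (zetaP p) b, ← h1]
  exact congrArg _ h

theorem sum_zetaP_pow_eq_zero {k : ℕ} (hk : ¬ p ∣ k) :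
    ∑ i : ZMod p, zetaP p ^ (i.val * k) = 0 := by
  have : NeZero p := ⟨hp.out.ne_zero⟩
  have hprim : IsPrimitiveRoot (zetaP p ^ k) p :=
    (zetaP_isPrimitiveRoot p).pow_of_coprime k
      ((Nat.Prime.coprime_iff_not_dvd hp.out).mpr hk).symm
  have h0 := hprim.geom_sum_eq_zero hp.out.one_lt
  rw [← h0]
  refine Finset.sum_nbij (fun i : ZMod p => i.val) ?_ ?_ ?_ ?_
  · intro i _
    exact Finset.mem_range.mpr (ZMod.val_lt i)
  · intro i _ j _ hij
    exact ZMod.val_injective p hij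
  · intro n hn
    have hn' : n < p := Finset.mem_range.mp hn
    exact ⟨(n : ZMod p), Finset.mem_coe.mpr (Finset.mem_univ _), ZMod.val_natCast_of_lt hn'⟩
  · intro i _
    rw [← pow_mul, mul_comm]

end zeta

section grp

variable {G : Type u} [Group G] [Finite G] {p : ℕ} [hp : Fact p.Prime]

omit [Finite G] in
theorem x0_mem_P {P : Subgroup G} {x0 : G} (hx0 : P = Subgroup.zpowers x0) : x0 ∈ P := by
  rw [hx0]
  exact Subgroup.mem_zpowers x0

omit [Finite G] in
theorem P_le_Cz {P : Subgroup G} {x0 : G} (hx0 : P = Subgroup.zpowers x0) : P ≤ Cz P := by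
  intro a ha
  rw [Subgroup.mem_centralizer_iff]
  intro b hb
  rw [hx0] at ha
  have hb' : b ∈ Subgroup.zpowers x0 := by
    have : b ∈ P := hb
    rwa [hx0] at this
  obtain ⟨m, rfl⟩ := Subgroup.mem_zpowers_iff.mp ha
  obtain ⟨m', rfl⟩ := Subgroup.mem_zpowers_iff.mp hb'
  rw [← zpow_add, ← zpow_add, add_comm]

theorem orderOf_x0 {P : Subgroup G} {x0 : G} (hP : Nat.card P = p)
    (hx0 : P = Subgroup.zpowers x0) : orderOf x0 = p := by
  rw [← hP, hx0, Nat.card_zpowers]

theorem exists_pow_of_mem_P {P : Subgroup G} {x0 : G} (hP : Nat.card P = p)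
    (hx0 : P = Subgroup.zpowers x0) {x : G} (hx : x ∈ P) (hx1 : x ≠ 1) :
    ∃ k : ℕ, ¬ p ∣ k ∧ x = x0 ^ k := by
  rw [hx0] at hx
  have hfin : IsOfFinOrder x0 := isOfFinOrder_of_finite x0
  rw [← mem_powers_iff_mem_zpowers] at hx
  obtain ⟨k, rfl⟩ := (Submonoid.mem_powers_iff _ _).mp hx
  refine ⟨k, ?_, rfl⟩
  intro hk
  apply hx1
  rw [← orderOf_x0 hP hx0] at hk
  exact orderOf_dvd_iff_pow_eq_one.mp hk

theorem exists_unit_conj {P : Subgroup G} {x0 : G} (hP : Nat.card P = p)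
    (hx0 : P = Subgroup.zpowers x0) (n : Nz P) :
    ∃ u : (ZMod p)ˣ, (n : G) * x0 * (n : G)⁻¹ = x0 ^ (u : ZMod p).val := by
  have : NeZero p := ⟨hp.out.ne_zero⟩
  have hmem : (n : G) * x0 * (n : G)⁻¹ ∈ P :=
    (Subgroup.mem_normalizer_iff.mp n.2 x0).mp (x0_mem_P hx0)
  have hne : (n : G) * x0 * (n : G)⁻¹ ≠ 1 := by
    intro h
    have h1 : x0 = 1 := by
      have := congrArg (fun z => (n : G)⁻¹ * z * (n : G)) h
      simpa [mul_assoc] using this
    have h2 := orderOf_x0 hP hx0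
    rw [h1, orderOf_one] at h2
    exact hp.out.one_lt.ne h2
  obtain ⟨k, hk, hk2⟩ := exists_pow_of_mem_P hP hx0 hmem hne
  have hk0 : (k : ZMod p) ≠ 0 := by
    intro h
    exact hk ((ZMod.natCast_eq_zero_iff k p).mp h)
  refine ⟨Units.mk0 (k : ZMod p) hk0, ?_⟩
  rw [hk2, Units.val_mk0, ZMod.val_natCast]
  have h2 := orderOf_x0 hP hx0
  rw [← h2, pow_mod_orderOf]

end grp

section chars

variable {G : Type u} [Group G] [Finite G] {p : ℕ} [hp : Fact p.Prime]

omit [Finite G] hp in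
theorem hasIdx_pow {P : Subgroup G} {x0 : G} {φ : Cz P → ℂ} {i : ZMod p}
    (h : HasIdx p P x0 φ i) (hx0C : x0 ∈ Cz P) (k : ℕ) :
    ∀ c c' : Cz P, (c' : G) = x0 ^ k * (c : G) → φ c' = zetaP p ^ (i.val * k) * φ c := by
  induction k with
  | zero =>
    intro c c' hc
    rw [pow_zero, one_mul] at hc
    rw [Subtype.ext hc, mul_zero, pow_zero, one_mul]
  | succ k ih =>
    intro c c' hc
    have hmem : x0 ^ k * (c : G) ∈ Cz P := (Cz P).mul_mem ((Cz P).pow_mem hx0C k) c.2
    have h1 := ih c ⟨x0 ^ k * (c : G), hmem⟩ rfl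
    have h2 := h ⟨x0 ^ k * (c : G), hmem⟩ c' (by
      rw [hc, pow_succ', mul_assoc])
    rw [h2, h1, ← mul_assoc, ← pow_add]
    congr 2
    ring

omit [Finite G] in
theorem mult_eq_classInner (H : Subgroup G) [Fintype H] (χ : G → ℂ) (φ : H → ℂ) :
    mult H χ φ = classInner (fun h : H => χ (h : G)) φ := by
  unfold mult classInner
  rw [finsum_eq_sum_of_fintype]

/-- the restriction of an irreducible character to a subgroup, expanded in `Irr H` -/
theorem apply_eq_sum_mult (H : Subgroup G) [Fintype H] [Fintype (IrrCharacter H)]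
    (χ : IrrCharacter G) (c : H) :
    (χ : G → ℂ) (c : G) = ∑ φ : IrrCharacter H, mult H (χ : G → ℂ) (φ : H → ℂ) * (φ : H → ℂ) c := by
  have hcl : IsClassFunction H (fun h : H => (χ : G → ℂ) (h : G)) := by
    intro g h
    have := IsCharacter.isClassFunction (IsIrrCharacter.isCharacter χ.2) (g : G) (h : G)
    simpa using this
  have h1 := congrFun (classFunction_eq_sum hcl) c
  rw [Finset.sum_apply] at h1
  simp only [Pi.smul_apply, smul_eq_mul] at h1
  rw [h1]
  refine Finset.sum_congr rfl fun φ _ => ?_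
  rw [mult_eq_classInner]

end chars

end Cfsg.Agent.Lib.Helper12.DOVAL
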