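/-
helper12: DEFECT-ONE CLUSTER, PART O, leaf VAL `val_main` -- part (b): sums over the block of a
`P`-trivial character, the partition of `Irr C` by `P`-trivial characters, the orbit sum.
-/
import Mathlib
import Cfsg.Prelude.Def_BlockRank
import Cfsg.Agent.Lib.Helper27.DODefs
import Cfsg.Agent.Lib.Lead.CharMain
import Cfsg.Agent.Lib.Helper6.FirstMain
import Cfsg.Agent.Lib.Helper12.DOVALa

set_option autoImplicit false

namespace Cfsg.Agent.Lib.Helper12.DOVAL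

open Cfsg Cfsg.Agent.Lib.Helper8.DOM Cfsg.Agent.Lib.Helper27.DO Cfsg.Agent.CharLib
  Cfsg.Agent.Lib.Helper6
open scoped ComplexConjugate

universe u

section blocksum

variable {G : Type u} [Group G] [Finite G] {p : ℕ} [hp : Fact p.Prime] {M : Ideal AlgInt}

/-- the multiplicity `muC` is the multiplicity of the unique member with the given index -/
theorem muC_eq_mult {P : Subgroup G} {x0 : G} (θ' : IrrCharacter (Cz P)) (χ : IrrCharacter G)
    (j : ZMod p) (φ : IrrCharacter (Cz P))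
    (hφ : φ ∈ blockOf M (θ' : Cz P → ℂ) ∧ HasIdx p P x0 (φ : Cz P → ℂ) j)
    (huniq : ∀ ψ : IrrCharacter (Cz P),
      ψ ∈ blockOf M (θ' : Cz P → ℂ) ∧ HasIdx p P x0 (ψ : Cz P → ℂ) j → ψ = φ) :
    muC p M P θ' x0 χ j = mult (Cz P) (χ : G → ℂ) (φ : Cz P → ℂ) := by
  unfold muC
  have hset : {ψ : IrrCharacter (Cz P) | ψ ∈ blockOf M (θ' : Cz P → ℂ) ∧
      HasIdx p P x0 (ψ : Cz P → ℂ) j} = {φ} := by
    ext ψ
    constructor
    · intro h
      exact huniq ψ h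
    · intro h
      rw [Set.mem_singleton_iff] at h
      rw [h]
      exact hφ
  rw [hset, finsum_mem_singleton]

open scoped Classical in
/-- the sum over the block of a `P`-trivial `θ'` at `x0^k y`, `y` `p`-regular -/
theorem sum_block_eq {P : Subgroup G} [Fintype (IrrCharacter (Cz P))] {x0 : G} (hx0C : x0 ∈ Cz P)
    (hLOC1 : ∀ φ : IrrCharacter (Cz P), ∃! i : ZMod p, HasIdx p P x0 (φ : Cz P → ℂ) i)
    (θ' : IrrCharacter (Cz P))
    (h1 : ∀ i : ZMod p, ∃! φ : IrrCharacter (Cz P),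
      φ ∈ blockOf M (θ' : Cz P → ℂ) ∧ HasIdx p P x0 (φ : Cz P → ℂ) i)
    (h2 : ∀ φ ∈ blockOf M (θ' : Cz P → ℂ), ∀ y : Cz P, ¬ p ∣ orderOf y →
      (φ : Cz P → ℂ) y = (θ' : Cz P → ℂ) y)
    (χ : IrrCharacter G) (k : ℕ) (y c : Cz P) (hy : ¬ p ∣ orderOf y)
    (hc : (c : G) = x0 ^ k * (y : G)) :
    ∑ φ ∈ Finset.univ.filter (fun φ : IrrCharacter (Cz P) => φ ∈ blockOf M (θ' : Cz P → ℂ)),
      mult (Cz P) (χ : G → ℂ) (φ : Cz P → ℂ) * (φ : Cz P → ℂ) c =
    (∑ j : ZMod p, muC p M P θ' x0 χ j * zetaP p ^ (j.val * k)) * (θ' : Cz P → ℂ) y := by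
  classical
  have : NeZero p := ⟨hp.out.ne_zero⟩
  choose φ' hφ' huniq using h1
  rw [Finset.sum_mul]
  symm
  refine Finset.sum_bij (fun j _ => φ' j) ?_ ?_ ?_ ?_
  · intro j _
    exact Finset.mem_filter.mpr ⟨Finset.mem_univ _, (hφ' j).1⟩
  · intro j _ j' _ hjj'
    have hj := (hφ' j).2
    have hj' := (hφ' j').2
    rw [← hjj'] at hj'
    exact (hLOC1 (φ' j)).unique hj hj'
  · intro φ hφ
    have hφb := (Finset.mem_filter.mp hφ).2
    obtain ⟨j, hj, -⟩ := hLOC1 φ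
    exact ⟨j, Finset.mem_univ _, (huniq j φ ⟨hφb, hj⟩).symm⟩
  · intro j _
    rw [muC_eq_mult θ' χ j (φ' j) (hφ' j) (huniq j)]
    rw [hasIdx_pow (hφ' j).2 hx0C k y c hc, h2 (φ' j) (hφ' j).1 y hy]
    ring

end blocksum

section partition

variable {G : Type u} [Group G] [Finite G] {p : ℕ} [hp : Fact p.Prime] {M : Ideal AlgInt}

open scoped Classical in
/-- every irreducible character of `C` lies in the block of exactly one `P`-trivial character -/
theorem sum_eq_sum_pTriv {P : Subgroup G} [Fintype (IrrCharacter (Cz P))] [hprime : M.IsPrime]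
    (hLOC3 : ∀ φ : IrrCharacter (Cz P), ∃ θ' : IrrCharacter (Cz P),
      θ' ∈ blockOf M (φ : Cz P → ℂ) ∧ PTriv P (θ' : Cz P → ℂ))
    (hLOC23 : ∀ θ' : IrrCharacter (Cz P), PTriv P (θ' : Cz P → ℂ) →
      ∀ φ ∈ blockOf M (θ' : Cz P → ℂ), PTriv P (φ : Cz P → ℂ) → φ = θ')
    (F : IrrCharacter (Cz P) → ℂ) :
    ∑ φ : IrrCharacter (Cz P), F φ =
      ∑ θ' ∈ Finset.univ.filter (fun θ' : IrrCharacter (Cz P) => PTriv P (θ' : Cz P → ℂ)),
        ∑ φ ∈ Finset.univ.filter (fun φ : IrrCharacter (Cz P) => φ ∈ blockOf M (θ' : Cz P → ℂ)),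
          F φ := by
  rw [Finset.sum_comm' (t' := Finset.univ)
    (s' := fun φ => Finset.univ.filter (fun θ' : IrrCharacter (Cz P) =>
      PTriv P (θ' : Cz P → ℂ) ∧ φ ∈ blockOf M (θ' : Cz P → ℂ)))]
  · refine Finset.sum_congr rfl fun φ _ => ?_
    obtain ⟨θ₀, hθ₀b, hθ₀P⟩ := hLOC3 φ
    have hφθ₀ : φ ∈ blockOf M (θ₀ : Cz P → ℂ) := sameBlock_symm hθ₀b
    have hs : Finset.univ.filter (fun θ' : IrrCharacter (Cz P) =>
        PTriv P (θ' : Cz P → ℂ) ∧ φ ∈ blockOf M (θ' : Cz P → ℂ)) = {θ₀} := by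
      ext θ'
      rw [Finset.mem_filter, Finset.mem_singleton]
      constructor
      · rintro ⟨-, hθ'P, hφθ'⟩
        have h1 : θ' ∈ blockOf M (θ₀ : Cz P → ℂ) :=
          sameBlock_trans hφθ₀ (sameBlock_symm hφθ')
        exact hLOC23 θ₀ hθ₀P θ' h1 hθ'P
      · rintro rfl
        exact ⟨Finset.mem_univ _, hθ₀P, hφθ₀⟩
    rw [hs, Finset.sum_singleton]
  · intro θ' φ
    simp only [Finset.mem_filter, Finset.mem_univ, true_and, and_true]

end partition

section orbit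

variable {G : Type u} [Group G] [Finite G]

omit [Finite G] in
/-- `θ^n = θ^m` iff `n m⁻¹` lies in the inertia group -/
theorem conjC_eq_iff {P : Subgroup G} (θ : Cz P → ℂ) (T : Subgroup G) (hT : IsInertia P θ T)
    (n m : Nz P) : conjC P n θ = conjC P m θ ↔ (n : G) * (m : G)⁻¹ ∈ T := by
  rw [hT]
  constructor
  · intro h
    refine ⟨(Nz P).mul_mem n.2 ((Nz P).inv_mem m.2), ?_⟩
    intro c c' hc
    have hm' : (m : G)⁻¹ ∈ Nz P := (Nz P).inv_mem m.2
    have hc0 : (m : G)⁻¹ * (c : G) * ((m : G)⁻¹)⁻¹ ∈ Cz P := conj_mem_Cz P hm' c.2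
    have h1 := congrFun h ⟨(m : G)⁻¹ * (c : G) * ((m : G)⁻¹)⁻¹, hc0⟩
    unfold conjC at h1
    have e1 : (⟨(n : G) * ((m : G)⁻¹ * (c : G) * ((m : G)⁻¹)⁻¹) * (n : G)⁻¹,
        conj_mem_Cz P n.2 hc0⟩ : Cz P) = c' := by
      apply Subtype.ext
      rw [hc]
      simp only [mul_inv_rev, inv_inv]
      group
    have e2 : (⟨(m : G) * ((m : G)⁻¹ * (c : G) * ((m : G)⁻¹)⁻¹) * (m : G)⁻¹,
        conj_mem_Cz P m.2 hc0⟩ : Cz P) = c := by
      apply Subtype.ext
      simp only [inv_inv]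
      group
    simp only at h1
    rw [e1, e2] at h1
    exact h1
  · rintro ⟨-, h⟩
    funext c
    unfold conjC
    have hc1 : (m : G) * (c : G) * (m : G)⁻¹ ∈ Cz P := conj_mem_Cz P m.2 c.2
    apply h ⟨(m : G) * (c : G) * (m : G)⁻¹, hc1⟩
    simp only [mul_inv_rev, inv_inv]
    group

open scoped Classical in
/-- summing over the `N`-orbit of `θ` -/
theorem sum_orbit {P : Subgroup G} [Fintype (Nz P)] (θ : IrrCharacter (Cz P)) (T : Subgroup G)
    (hT : IsInertia P (θ : Cz P → ℂ) T) (S : Finset (IrrCharacter (Cz P)))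
    (r : Nz P → IrrCharacter (Cz P))
    (hr : ∀ n, (r n : Cz P → ℂ) = conjC P n (θ : Cz P → ℂ)) (hrS : ∀ n, r n ∈ S)
    (hsurj : ∀ θ' ∈ S, ∃ n, θ' = r n) (Q : IrrCharacter (Cz P) → ℂ) :
    ∑ θ' ∈ S, Q θ' = (Nat.card T : ℂ)⁻¹ * ∑ n : Nz P, Q (r n) := by
  have hTN : T ≤ Nz P := fun g hg => ((hT g).mp hg).1
  have hfib : ∀ m : Nz P,
      (Finset.univ.filter (fun n : Nz P => r n = r m)).card = Nat.card T := by
    intro m
    rw [← Fintype.card_subtype, ← Nat.card_eq_fintype_card]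
    have hiff : ∀ n : Nz P, r n = r m ↔ (n : G) * (m : G)⁻¹ ∈ T := by
      intro n
      rw [← conjC_eq_iff (θ : Cz P → ℂ) T hT n m, ← hr n, ← hr m]
      exact Subtype.ext_iff
    refine Nat.card_congr
      { toFun := fun n => ⟨(n.1 : G) * (m : G)⁻¹, (hiff n.1).mp n.2⟩
        invFun := fun t => ⟨⟨(t : G) * (m : G), (Nz P).mul_mem (hTN t.2) m.2⟩, by
          rw [hiff]
          simp only [mul_inv_cancel_right]
          exact t.2⟩
        left_inv := fun n => by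
          apply Subtype.ext
          apply Subtype.ext
          simp
        right_inv := fun t => by
          apply Subtype.ext
          simp }
  have hTpos : (Nat.card T : ℂ) ≠ 0 := by
    have : 0 < Nat.card T := Nat.card_pos
    exact_mod_cast this.ne'
  have h1 : ∑ n : Nz P, Q (r n) = ∑ θ' ∈ S, (Nat.card T : ℂ) * Q θ' := by
    rw [← Finset.sum_fiberwise_of_maps_to (s := Finset.univ) (t := S) (g := r)
      (fun n _ => hrS n) (fun n => Q (r n))]
    refine Finset.sum_congr rfl fun θ' hθ' => ?_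
    obtain ⟨m, rfl⟩ := hsurj θ' hθ'
    rw [Finset.sum_congr rfl (fun n hn => by rw [(Finset.mem_filter.mp hn).2] :
      ∀ n ∈ Finset.univ.filter (fun n : Nz P => r n = r m), Q (r n) = Q (r m))]
    rw [Finset.sum_const, hfib m, nsmul_eq_mul]
  rw [h1, ← Finset.mul_sum, ← mul_assoc, inv_mul_cancel₀ hTpos, one_mul]

end orbit

end Cfsg.Agent.Lib.Helper12.DOVAL
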