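/-
helper12: DEFECT-ONE CLUSTER, PART O, leaf VAL `val_main` -- part (c): conjugate roots, and
`val_main_of` = VAL over the frozen statements of LOC1 / LOC2 / LOC3 / CONJ / ROOTCONJ / SMT0 /
MULT / DPOW as hypotheses.
-/
import Mathlib
import Cfsg.Prelude.Def_BlockRank
import Cfsg.Agent.Lib.Helper27.DODefs
import Cfsg.Agent.Lib.Lead.CharMain
import Cfsg.Agent.Lib.Helper6.FirstMain
import Cfsg.Agent.Lib.Helper12.DOVALa
import Cfsg.Agent.Lib.Helper12.DOVALb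

set_option autoImplicit false

namespace Cfsg.Agent.Lib.Helper12.DOVAL

open Cfsg Cfsg.Agent.Lib.Helper8.DOM Cfsg.Agent.Lib.Helper27.DO Cfsg.Agent.CharLib
  Cfsg.Agent.Lib.Helper6
open scoped ComplexConjugate

universe u

section conjpart

variable {G : Type u} [Group G] [Finite G] {p : ℕ} [hp : Fact p.Prime] {M : Ideal AlgInt}

/-- the multiplicities of the conjugate root -/
theorem muC_conj {P : Subgroup G} {x0 : G} (θ θn : IrrCharacter (Cz P)) (n : Nz P)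
    (hθn : (θn : Cz P → ℂ) = conjC P n (θ : Cz P → ℂ)) (u : (ZMod p)ˣ)
    (h1 : ∀ i : ZMod p, ∃! φ : IrrCharacter (Cz P),
      φ ∈ blockOf M (θ : Cz P → ℂ) ∧ HasIdx p P x0 (φ : Cz P → ℂ) i)
    (h1n : ∀ i : ZMod p, ∃! φ : IrrCharacter (Cz P),
      φ ∈ blockOf M (θn : Cz P → ℂ) ∧ HasIdx p P x0 (φ : Cz P → ℂ) i)
    (hCONJidx : ∀ (φ : Cz P → ℂ) (i : ZMod p), HasIdx p P x0 φ i →
      HasIdx p P x0 (conjC P n φ) ((u : ZMod p) * i))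
    (hCONJblk : ∀ (φ' : IrrCharacter (Cz P)), φ' ∈ blockOf M (θ : Cz P → ℂ) →
      ∀ hirr : IsIrrCharacter (Cz P) (conjC P n (φ' : Cz P → ℂ)),
      (⟨conjC P n (φ' : Cz P → ℂ), hirr⟩ : IrrCharacter (Cz P)) ∈
        blockOf M (conjC P n (θ : Cz P → ℂ)))
    (hCONJirr : ∀ φ : IrrCharacter (Cz P), IsIrrCharacter (Cz P) (conjC P n (φ : Cz P → ℂ)))
    (hCONJmult : ∀ (χ : IrrCharacter G) (φ : Cz P → ℂ),
      mult (Cz P) (χ : G → ℂ) (conjC P n φ) = mult (Cz P) (χ : G → ℂ) φ)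
    (χ : IrrCharacter G) (i : ZMod p) :
    muC p M P θn x0 χ ((u : ZMod p) * i) = muC p M P θ x0 χ i := by
  obtain ⟨φi, hφi, hφiu⟩ := h1 i
  rw [muC_eq_mult θ χ i φi hφi hφiu]
  have hψ : (⟨conjC P n (φi : Cz P → ℂ), hCONJirr φi⟩ : IrrCharacter (Cz P)) ∈
      blockOf M (θn : Cz P → ℂ) ∧
      HasIdx p P x0 ((⟨conjC P n (φi : Cz P → ℂ), hCONJirr φi⟩ : IrrCharacter (Cz P)) : Cz P → ℂ)
        ((u : ZMod p) * i) := by
    refine ⟨?_, hCONJidx _ i hφi.2⟩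
    rw [hθn]
    exact hCONJblk φi hφi.1 _
  obtain ⟨ψ', -, hψ'u⟩ := h1n ((u : ZMod p) * i)
  have huniq : ∀ ψ : IrrCharacter (Cz P),
      ψ ∈ blockOf M (θn : Cz P → ℂ) ∧ HasIdx p P x0 (ψ : Cz P → ℂ) ((u : ZMod p) * i) →
      ψ = ⟨conjC P n (φi : Cz P → ℂ), hCONJirr φi⟩ := by
    intro ψ hψ2
    rw [hψ'u ψ hψ2, hψ'u _ hψ]
  rw [muC_eq_mult θn χ _ _ hψ huniq]
  exact hCONJmult χ _

/-- the Fourier sum of the conjugate root is `Dfun` at the conjugate element -/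
theorem sum_muC_conj {P : Subgroup G} {x0 : G} (θ θn : IrrCharacter (Cz P)) (u : (ZMod p)ˣ)
    (χ : IrrCharacter G) (μ : ZMod p → ℤ)
    (hμ : ∀ i, ((μ i : ℤ) : ℂ) = muC p M P θ x0 χ i)
    (hmu : ∀ i : ZMod p, muC p M P θn x0 χ ((u : ZMod p) * i) = muC p M P θ x0 χ i)
    (hDPOW : ∀ k : ℕ, Dfun p x0 μ (x0 ^ k) = ∑ᶠ i : ZMod p, (μ i : ℂ) * zetaP p ^ (i.val * k))
    (k : ℕ) :
    ∑ j : ZMod p, muC p M P θn x0 χ j * zetaP p ^ (j.val * k) =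
      Dfun p x0 μ (x0 ^ ((u : ZMod p).val * k)) := by
  have : NeZero p := ⟨hp.out.ne_zero⟩
  rw [hDPOW, finsum_eq_sum_of_fintype]
  rw [← Equiv.sum_comp (Units.mulLeft u)
    (fun j : ZMod p => muC p M P θn x0 χ j * zetaP p ^ (j.val * k))]
  refine Finset.sum_congr rfl fun i _ => ?_
  rw [Units.mulLeft_apply, hmu i, hμ i]
  congr 1
  apply zetaP_pow_eq_of_modEq
  rw [ZMod.val_mul]
  have h1 : (u : ZMod p).val * i.val % p ≡ (u : ZMod p).val * i.val [MOD p] := Nat.mod_modEq _ _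
  have h2 := Nat.ModEq.mul_right k h1
  have h3 : (u : ZMod p).val * i.val * k = i.val * ((u : ZMod p).val * k) := by ring
  rw [h3] at h2
  exact h2

end conjpart

section main

variable {G : Type u} [Group G] [Finite G] {p : ℕ} [hp : Fact p.Prime] {M : Ideal AlgInt}
  {P : Subgroup G} {B : Set (IrrCharacter G)} {θ : IrrCharacter (Cz P)} {T : Subgroup G} {x0 : G}

/-- VAL over the frozen statements of the leaves it uses -/
theorem val_main_of (c : Ctx p M P B θ T x0)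
    (hLOC1 : ∀ φ : IrrCharacter (Cz P), ∃! i : ZMod p, HasIdx p P x0 (φ : Cz P → ℂ) i)
    (hLOC2 : ∀ θ' : IrrCharacter (Cz P), PTriv P (θ' : Cz P → ℂ) →
      (∀ i : ZMod p, ∃! φ : IrrCharacter (Cz P),
        φ ∈ blockOf M (θ' : Cz P → ℂ) ∧ HasIdx p P x0 (φ : Cz P → ℂ) i) ∧
      (∀ φ ∈ blockOf M (θ' : Cz P → ℂ), ∀ y : Cz P, ¬ p ∣ orderOf y →
        (φ : Cz P → ℂ) y = (θ' : Cz P → ℂ) y) ∧
      (∀ φ ∈ blockOf M (θ' : Cz P → ℂ), PTriv P (φ : Cz P → ℂ) → φ = θ'))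
    (hLOC3 : ∀ φ : IrrCharacter (Cz P), ∃ θ' : IrrCharacter (Cz P),
      θ' ∈ blockOf M (φ : Cz P → ℂ) ∧ PTriv P (θ' : Cz P → ℂ))
    (hCONJirr : ∀ (n : Nz P) (φ : IrrCharacter (Cz P)),
      IsIrrCharacter (Cz P) (conjC P n (φ : Cz P → ℂ)))
    (hCONJidx : ∀ (n : Nz P) (u : (ZMod p)ˣ),
      (n : G) * x0 * (n : G)⁻¹ = x0 ^ (u : ZMod p).val → ∀ (φ : Cz P → ℂ) (i : ZMod p),
      HasIdx p P x0 φ i → HasIdx p P x0 (conjC P n φ) ((u : ZMod p) * i))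
    (hCONJtriv : ∀ (n : Nz P) (φ : Cz P → ℂ), PTriv P φ → PTriv P (conjC P n φ))
    (hCONJblk : ∀ (n : Nz P) (φ φ' : IrrCharacter (Cz P)), φ' ∈ blockOf M (φ : Cz P → ℂ) →
      ∀ hirr : IsIrrCharacter (Cz P) (conjC P n (φ' : Cz P → ℂ)),
      (⟨conjC P n (φ' : Cz P → ℂ), hirr⟩ : IrrCharacter (Cz P)) ∈
        blockOf M (conjC P n (φ : Cz P → ℂ)))
    (hCONJind : ∀ (n : Nz P) (φ : IrrCharacter (Cz P)) (B' : Set (IrrCharacter G)),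
      IsInducedBlock M (Cz P) (blockOf M (φ : Cz P → ℂ)) B' →
      IsInducedBlock M (Cz P) (blockOf M (conjC P n (φ : Cz P → ℂ))) B')
    (hCONJmult : ∀ (n : Nz P) (χ : IrrCharacter G) (φ : Cz P → ℂ),
      mult (Cz P) (χ : G → ℂ) (conjC P n φ) = mult (Cz P) (χ : G → ℂ) φ)
    (hROOTCONJ : ∀ θ₁ θ₂ : IrrCharacter (Cz P), PTriv P (θ₁ : Cz P → ℂ) →
      PTriv P (θ₂ : Cz P → ℂ) → IsInducedBlock M (Cz P) (blockOf M (θ₁ : Cz P → ℂ)) B →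
      IsInducedBlock M (Cz P) (blockOf M (θ₂ : Cz P → ℂ)) B →
      ∃ n : Nz P, (θ₂ : Cz P → ℂ) = conjC P n (θ₁ : Cz P → ℂ))
    (hSMT0 : ∀ θ' : IrrCharacter (Cz P), PTriv P (θ' : Cz P → ℂ) → ∀ χ : IrrCharacter G,
      ¬ IsInducedBlock M (Cz P) (blockOf M (θ' : Cz P → ℂ)) (blockOf M (χ : G → ℂ)) →
      ∀ i : ZMod p, muC p M P θ' x0 χ i = muC p M P θ' x0 χ 0)
    (hMULT : ∀ (χ : IrrCharacter G) (i : ZMod p),
      ((muZ p M P θ x0 χ i : ℤ) : ℂ) = muC p M P θ x0 χ i)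
    (hDPOW : ∀ (μ : ZMod p → ℤ) (k : ℕ),
      Dfun p x0 μ (x0 ^ k) = ∑ᶠ i : ZMod p, (μ i : ℂ) * zetaP p ^ (i.val * k)) :
    ∀ χ ∈ B, ∀ x ∈ P, x ≠ 1 → ∀ y ∈ Cz P, ¬ p ∣ orderOf y →
      (χ : G → ℂ) (x * y) = (Nat.card T : ℂ)⁻¹ *
        ∑ᶠ n : Nz P, Dfun p x0 (muZ p M P θ x0 χ) ((n : G) * x * (n : G)⁻¹) *
          extendByZero (Cz P) (θ : Cz P → ℂ) ((n : G) * y * (n : G)⁻¹) := by
  classical
  intro χ hχ x hx hx1 y hy hyreg
  have hprime : M.IsPrime := Cfsg.Agent.Lib.Helper24.isPrime_of_isPModular c.hM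
  let _ : Fintype (Cz P) := Fintype.ofFinite _
  let _ : Fintype (IrrCharacter (Cz P)) := Fintype.ofFinite _
  let _ : Fintype (Nz P) := Fintype.ofFinite _
  obtain ⟨k, hk, rfl⟩ := exists_pow_of_mem_P c.hP c.gen hx hx1
  have hx0C : x0 ∈ Cz P := P_le_Cz c.gen (x0_mem_P c.gen)
  have hBχ : B = blockOf M (χ : G → ℂ) :=
    isPBlock_eq_of_mem c.hB ⟨χ, rfl⟩ hχ (mem_blockOf_self χ)
  have hcC : x0 ^ k * y ∈ Cz P := (Cz P).mul_mem ((Cz P).pow_mem hx0C k) hy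
  have hyreg' : ¬ p ∣ orderOf (⟨y, hy⟩ : Cz P) := by
    rw [← Subgroup.orderOf_coe]
    exact hyreg
  -- the sum over the block of `θ'`
  set Q : IrrCharacter (Cz P) → ℂ := fun θ' =>
    ∑ φ ∈ Finset.univ.filter (fun φ : IrrCharacter (Cz P) => φ ∈ blockOf M (θ' : Cz P → ℂ)),
      mult (Cz P) (χ : G → ℂ) (φ : Cz P → ℂ) * (φ : Cz P → ℂ) ⟨x0 ^ k * y, hcC⟩ with hQ
  have hQeq : ∀ θ' : IrrCharacter (Cz P), PTriv P (θ' : Cz P → ℂ) →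
      Q θ' = (∑ j : ZMod p, muC p M P θ' x0 χ j * zetaP p ^ (j.val * k)) *
        (θ' : Cz P → ℂ) ⟨y, hy⟩ := by
    intro θ' hθ'
    obtain ⟨h1, h2, -⟩ := hLOC2 θ' hθ'
    exact sum_block_eq hx0C hLOC1 θ' h1 h2 χ k ⟨y, hy⟩ ⟨x0 ^ k * y, hcC⟩ hyreg' rfl
  -- expansion of `χ|_C` and the partition by `P`-trivial characters
  have hA : (χ : G → ℂ) (x0 ^ k * y) =
      ∑ θ' ∈ Finset.univ.filter (fun θ' : IrrCharacter (Cz P) => PTriv P (θ' : Cz P → ℂ)),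
        Q θ' := by
    have h := apply_eq_sum_mult (Cz P) χ ⟨x0 ^ k * y, hcC⟩
    rw [sum_eq_sum_pTriv hLOC3 (fun θ' hθ' => (hLOC2 θ' hθ').2.2)] at h
    exact h
  -- the blocks not inducing `B` do not contribute
  set S : Finset (IrrCharacter (Cz P)) := Finset.univ.filter (fun θ' : IrrCharacter (Cz P) =>
    PTriv P (θ' : Cz P → ℂ) ∧ IsInducedBlock M (Cz P) (blockOf M (θ' : Cz P → ℂ)) B) with hS
  have hC : ∑ θ' ∈ Finset.univ.filter (fun θ' : IrrCharacter (Cz P) =>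
      PTriv P (θ' : Cz P → ℂ)), Q θ' = ∑ θ' ∈ S, Q θ' := by
    have hS' : S = (Finset.univ.filter (fun θ' : IrrCharacter (Cz P) =>
        PTriv P (θ' : Cz P → ℂ))).filter
        (fun θ' : IrrCharacter (Cz P) =>
          IsInducedBlock M (Cz P) (blockOf M (θ' : Cz P → ℂ)) B) := by
      rw [hS, Finset.filter_filter]
    rw [hS']
    symm
    apply Finset.sum_filter_of_ne
    intro θ' hθ' hne
    by_contra hnot
    apply hne
    have hθ'P := (Finset.mem_filter.mp hθ').2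
    rw [hQeq θ' hθ'P]
    have hconst : ∀ j, muC p M P θ' x0 χ j = muC p M P θ' x0 χ 0 :=
      hSMT0 θ' hθ'P χ (by rwa [← hBχ])
    rw [Finset.sum_congr rfl (fun j _ => by rw [hconst j]), ← Finset.mul_sum,
      sum_zetaP_pow_eq_zero p hk, mul_zero, zero_mul]
  -- the inducing ones are the `N`-orbit of `θ`
  let r : Nz P → IrrCharacter (Cz P) := fun n => ⟨conjC P n (θ : Cz P → ℂ), hCONJirr n θ⟩
  have hrS : ∀ n, r n ∈ S := by
    intro n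
    rw [hS, Finset.mem_filter]
    exact ⟨Finset.mem_univ _, hCONJtriv n _ c.hθP, hCONJind n θ B c.hind⟩
  have hsurj : ∀ θ' ∈ S, ∃ n, θ' = r n := by
    intro θ' hθ'
    obtain ⟨-, hθ'P, hθ'ind⟩ := Finset.mem_filter.mp hθ'
    obtain ⟨n, hn⟩ := hROOTCONJ θ θ' c.hθP hθ'P c.hind hθ'ind
    exact ⟨n, Subtype.ext hn⟩
  have hE := sum_orbit θ T c.hT S r (fun n => rfl) hrS hsurj Q
  rw [hA, hC, hE, finsum_eq_sum_of_fintype]
  congr 1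
  refine Finset.sum_congr rfl fun n _ => ?_
  obtain ⟨u, hu⟩ := exists_unit_conj c.hP c.gen n
  have hrP : PTriv P ((r n : IrrCharacter (Cz P)) : Cz P → ℂ) := hCONJtriv n _ c.hθP
  rw [hQeq (r n) hrP]
  have hmu : ∀ i : ZMod p,
      muC p M P (r n) x0 χ ((u : ZMod p) * i) = muC p M P θ x0 χ i := fun i =>
    muC_conj θ (r n) n rfl u (hLOC2 θ c.hθP).1 (hLOC2 (r n) hrP).1 (hCONJidx n u hu)
      (fun φ' hφ' hirr => hCONJblk n θ φ' hφ' hirr) (hCONJirr n) (hCONJmult n) χ i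
  rw [sum_muC_conj θ (r n) u χ (muZ p M P θ x0 χ) (hMULT χ) hmu (hDPOW _) k]
  have hconj : (n : G) * x0 ^ k * (n : G)⁻¹ = x0 ^ ((u : ZMod p).val * k) := by
    rw [pow_mul, ← hu, conj_pow]
  rw [hconj]
  congr 1
  show conjC P n (θ : Cz P → ℂ) ⟨y, hy⟩ = _
  unfold conjC extendByZero
  have hmem : (n : G) * y * (n : G)⁻¹ ∈ Cz P := conj_mem_Cz P n.2 hy
  exact (Function.Injective.extend_apply Subtype.val_injective _ _ (⟨_, hmem⟩ : Cz P)).symm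

end main

end Cfsg.Agent.Lib.Helper12.DOVAL
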