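import Mathlib
import Cfsg.Agent.Lib.Helper13.PSL2
import Cfsg.Agent.Lib.Helper5.DWAREC
import Cfsg.Agent.Lib.Helper12.DWAPSL
import Cfsg.Agent.Lib.Helper12.DWAFIX
import Cfsg.Agent.Lib.Helper12.DWAREG3

/-!
helper12: spine leaf DW-A of the S3616 market (part A): a 2-transitive subgroup `L ≃* PSL₂(p)` of
`X` on `p + 1` points has a point stabilizer `L_a` of order `p(p-1)/2` normalizing a subgroup `Q` of
order `p`, and for `p ≡ 3 (mod 4)` a dihedral subgroup `D` of order `p - 1` which is the setwise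
stabilizer of a pair `{a, b}` and acts semiregularly on the other points.
From DW-APSL, DW-AFIX, DW-AREG3 (helper12), DW-AREC (helper5) and `Helper13.card_PSL2_mul_two`.
-/

set_option autoImplicit false

namespace Cfsg.Agent.Lib.Helper12.DWA

open MulAction

/-- The abstract form, inside `L`. -/
theorem core {L Ω : Type*} [Group L] [Finite L] [MulAction L Ω] [FaithfulSMul L Ω] [Finite Ω]
    (p : ℕ) (hp : p.Prime) (hΩ : Nat.card Ω = p + 1) (htr : IsPretransitive L Ω)
    (hL : 2 * Nat.card L = p * (p ^ 2 - 1))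
    (U B T : Subgroup L) (w : L) (hU : Nat.card U = p)
    (hUB : ∀ b ∈ B, ∀ u ∈ U, b * u * b⁻¹ ∈ U)
    (hB : 2 * Nat.card B = p * (p - 1)) (hTB : T ≤ B) (hTc : IsCyclic T)
    (hT : 2 * Nat.card T = p - 1)
    (hwB : w ∉ B) (hww : w * w = 1) (hwT : ∀ t ∈ T, w * t * w⁻¹ = t⁻¹) :
    ∃ a : Ω, stabilizer L a = B ∧ (∀ u ∈ U, u • a = a) ∧
      (p % 4 = 3 → ∃ (b : Ω) (D : Subgroup L), a ≠ b ∧
        Nonempty (↥D ≃* DihedralGroup ((p - 1) / 2)) ∧
        (∀ d ∈ D, (d • a = a ∧ d • b = b) ∨ (d • a = b ∧ d • b = a)) ∧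
        (∀ ω : Ω, ω ≠ a → ω ≠ b → ∀ d ∈ D, d • ω = ω → d = 1)) := by
  classical
  obtain ⟨a, hstab, hUa⟩ := DWAFIX.DWAFIX p hp hΩ htr hL U B hU hUB hB
  refine ⟨a, hstab, (hUa a).mpr rfl, ?_⟩
  intro hp4
  have hp3 : 3 ≤ p := by omega
  have hwinv : w⁻¹ = w := inv_eq_of_mul_eq_one_left hww
  have hBa : ∀ x ∈ B, x • a = a := by
    intro x hx
    rw [← hstab] at hx
    exact hx
  have hTa : ∀ t ∈ T, t • a = a := fun t ht => hBa t (hTB ht)
  have hwa : w • a ≠ a := by
    intro h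
    apply hwB
    rw [← hstab]
    exact h
  have hTb : ∀ t ∈ T, t • (w • a) = w • a := by
    intro t ht
    have h1 : w * t * w⁻¹ ∈ T := by
      rw [hwT t ht]
      exact T.inv_mem ht
    have h2 : t * w = w * (w * t * w⁻¹) := by
      rw [hwinv]
      calc t * w = (w * w) * t * w := by rw [hww, one_mul]
        _ = w * (w * t * w) := by group
    rw [← mul_smul, h2, mul_smul, hTa _ h1]
  have hn : (p - 1) / 2 ≠ 0 := by omega
  have hcardT : Nat.card T = (p - 1) / 2 := by omega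
  obtain ⟨D, hTD, hwD, hD, hiso⟩ :=
    Cfsg.Agent.Lib.Helper5.DWAREC.DWAREC hn T hTc hcardT w (fun h => hwB (hTB h)) hww hwT
  refine ⟨w • a, D, fun h => hwa h.symm, hiso, ?_, ?_⟩
  · intro d hd
    rcases hD d hd with ht | ⟨t, ht, rfl⟩
    · exact Or.inl ⟨hTa d ht, hTb d ht⟩
    · right
      constructor
      · rw [mul_smul, hTa t ht]
      · rw [mul_smul, hTb t ht, ← mul_smul, hww, one_smul]
  · intro ω hωa hωb d hd hdω
    rcases hD d hd with ht | ⟨t, ht, rfl⟩
    · exact DWAREG3.DWAREG3 p hp hΩ U hU a hUa d (hUB d (hTB ht)) (w • a) ω hwa hωa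
        (fun h => hωb h.symm) (hTb d ht) hdω
    · exfalso
      -- `w * t` is an involution in the stabilizer of `ω`, which has odd order
      have hsq : (w * t) * (w * t) = 1 := by
        have h1 := hwT t ht
        rw [hwinv] at h1
        calc (w * t) * (w * t) = (w * t * w) * t := by group
          _ = 1 := by rw [h1, inv_mul_cancel]
      have hne : w * t ≠ 1 := by
        intro h
        apply hwa
        have : (w * t) • a = w • a := by rw [mul_smul, hTa t ht]
        rw [← this, h, one_smul]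
      have hord : orderOf (w * t) = 2 := by
        apply orderOf_eq_prime
        · rw [pow_two]; exact hsq
        · exact hne
      have hmem : w * t ∈ stabilizer L ω := hdω
      have hdvd : 2 ∣ Nat.card (stabilizer L ω) := by
        rw [← hord]
        have := Subgroup.orderOf_dvd_natCard (stabilizer L ω) hmem
        exact this
      have hidx : (stabilizer L ω).index = p + 1 := by
        rw [index_stabilizer_of_transitive, hΩ]
      have hcard := Subgroup.card_mul_index (stabilizer L ω)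
      rw [hidx] at hcard
      obtain ⟨m, hm⟩ := hdvd
      rw [hm] at hcard
      -- `2 * (2 * m * (p + 1)) = p * (p ^ 2 - 1) = p * (p - 1) * (p + 1)`
      have h3 : p ^ 2 - 1 = (p - 1) * (p + 1) := by
        obtain ⟨k, rfl⟩ : ∃ k, p = k + 1 := ⟨p - 1, by omega⟩
        simp only [Nat.add_sub_cancel]
        apply Nat.sub_eq_of_eq_add
        ring
      have h4 : 4 * m * (p + 1) = p * (p - 1) * (p + 1) := by
        have : 2 * (2 * m * (p + 1)) = p * (p ^ 2 - 1) := by rw [hcard, hL]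
        rw [h3] at this
        rw [← mul_assoc p] at this
        rw [← this]
        ring
      have h5 : 4 * m = p * (p - 1) := Nat.eq_of_mul_eq_mul_right (by omega) h4
      have h6 : (p * (p - 1)) % 4 = 2 := by
        rw [Nat.mul_mod, hp4]
        have : (p - 1) % 4 = 2 := by omega
        rw [this]
      rw [← h5] at h6
      omega

set_option linter.dupNamespace false in
/-- **DW-A** (spine of part A). -/
theorem DWA {X Ω : Type*} [Group X] [Finite X] [MulAction X Ω] [FaithfulSMul X Ω] [Fintype Ω]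
    [DecidableEq Ω] (p : ℕ) (hp : p.Prime) (hp2 : p ≠ 2) (hΩ : Fintype.card Ω = p + 1)
    (L : Subgroup X)
    (hL : Nonempty (↥L ≃* Matrix.ProjectiveSpecialLinearGroup (Fin 2) (ZMod p)))
    (hLt : IsMultiplyPretransitive ↥L Ω 2) :
    ∃ (a : Ω) (Q : Subgroup X),
      2 * Nat.card ↥(L ⊓ stabilizer X a) = p * (p - 1) ∧
      Q ≤ L ⊓ stabilizer X a ∧ Nat.card Q = p ∧
      (∀ m ∈ L ⊓ stabilizer X a, ∀ q ∈ Q, m * q * m⁻¹ ∈ Q) ∧
      (p % 4 = 3 → ∃ (b : Ω) (D : Subgroup X), a ≠ b ∧ D ≤ L ∧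
        Nonempty (↥D ≃* DihedralGroup ((p - 1) / 2)) ∧
        (∀ d ∈ D, (d • a = a ∧ d • b = b) ∨ (d • a = b ∧ d • b = a)) ∧
        (∀ ω : Ω, ω ≠ a → ω ≠ b → ∀ d ∈ D, d • ω = ω → d = 1)) := by
  classical
  have : Fact p.Prime := ⟨hp⟩
  obtain ⟨e⟩ := hL
  have h2 : (2 : ZMod p) ≠ 0 := by
    intro h
    have h' : ((2 : ℕ) : ZMod p) = 0 := by exact_mod_cast h
    rw [ZMod.natCast_eq_zero_iff] at h'
    exact hp2 ((Nat.prime_dvd_prime_iff_eq hp Nat.prime_two).mp h')
  have hcardL : 2 * Nat.card ↥L = p * (p ^ 2 - 1) := by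
    have h := Cfsg.Agent.Lib.Helper13.card_PSL2_mul_two (F := ZMod p) h2
    rw [ZMod.card, ← Nat.card_congr e.toEquiv] at h
    rw [← h, mul_comm]
  have hΩ' : Nat.card Ω = p + 1 := by rw [Nat.card_eq_fintype_card, hΩ]
  have htr : IsPretransitive ↥L Ω := isPretransitive_of_is_two_pretransitive (h2 := hLt)
  obtain ⟨U₀, B₀, T₀, w₀, hU₀, hUB₀, hB₀, hTB₀, hTc₀, hT₀, hwB₀, hww₀, hwT₀⟩ :=
    DWAPSL.DWAPSL p hp2
  -- transport to `L` along `e.symm`
  let f : Matrix.ProjectiveSpecialLinearGroup (Fin 2) (ZMod p) ≃* ↥L := e.symm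
  have hmem : ∀ (K : Subgroup (Matrix.ProjectiveSpecialLinearGroup (Fin 2) (ZMod p))) (x : ↥L),
      x ∈ K.map f.toMonoidHom ↔ e x ∈ K := by
    intro K x
    rw [Subgroup.mem_map_equiv]
    rfl
  have hcardmap : ∀ K : Subgroup (Matrix.ProjectiveSpecialLinearGroup (Fin 2) (ZMod p)),
      Nat.card (K.map f.toMonoidHom) = Nat.card K := by
    intro K
    exact Subgroup.card_map_of_injective f.injective
  obtain ⟨a, hstab, hUa, hD⟩ := core p hp hΩ' htr hcardL (U₀.map f.toMonoidHom)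
    (B₀.map f.toMonoidHom) (T₀.map f.toMonoidHom) (f w₀)
    (by rw [hcardmap, hU₀])
    (by
      intro b hb u hu
      rw [hmem] at hb hu ⊢
      rw [map_mul, map_mul, map_inv]
      exact hUB₀ _ hb _ hu)
    (by rw [hcardmap, hB₀])
    (Subgroup.map_mono hTB₀)
    (by
      have := hTc₀
      exact isCyclic_of_surjective (f.subgroupMap T₀) (f.subgroupMap T₀).surjective)
    (by rw [hcardmap, hT₀])
    (by
      rw [hmem]
      change e (e.symm w₀) ∉ B₀
      rw [e.apply_symm_apply]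
      exact hwB₀)
    (by rw [← map_mul, hww₀, map_one])
    (by
      intro t ht
      rw [hmem] at ht
      apply e.injective
      rw [map_mul, map_mul, map_inv, map_inv]
      change e (e.symm w₀) * e t * (e (e.symm w₀))⁻¹ = (e t)⁻¹
      rw [e.apply_symm_apply]
      exact hwT₀ _ ht)
  -- back to `X`
  have hstabX : ∀ x : X, x ∈ L ⊓ stabilizer X a ↔
      ∃ l : ↥L, l ∈ B₀.map f.toMonoidHom ∧ (l : X) = x := by
    intro x
    constructor
    · rintro ⟨hxL, hxa⟩
      refine ⟨⟨x, hxL⟩, ?_, rfl⟩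
      rw [← hstab]
      exact hxa
    · rintro ⟨l, hl, rfl⟩
      rw [← hstab] at hl
      exact ⟨l.2, hl⟩
  have hstabmap : L ⊓ stabilizer X a = (B₀.map f.toMonoidHom).map L.subtype := by
    ext x
    rw [hstabX, Subgroup.mem_map]
    rfl
  refine ⟨a, (U₀.map f.toMonoidHom).map L.subtype, ?_, ?_, ?_, ?_, ?_⟩
  · rw [hstabmap, Subgroup.card_map_of_injective L.subtype_injective, hcardmap, hB₀]
  · rintro _ ⟨u, hu, rfl⟩
    exact ⟨u.2, hUa u hu⟩
  · rw [Subgroup.card_map_of_injective L.subtype_injective, hcardmap, hU₀]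
  · intro m hm q hq
    rw [hstabX] at hm
    obtain ⟨l, hl, rfl⟩ := hm
    obtain ⟨u, hu, rfl⟩ := hq
    refine ⟨l * u * l⁻¹, ?_, rfl⟩
    change u ∈ U₀.map f.toMonoidHom at hu
    change l * u * l⁻¹ ∈ U₀.map f.toMonoidHom
    rw [hmem] at hl hu ⊢
    rw [map_mul, map_mul, map_inv]
    exact hUB₀ _ hl _ hu
  · intro hp4
    obtain ⟨b, D, hab, ⟨φ⟩, hD1, hD2⟩ := hD hp4
    refine ⟨b, D.map L.subtype, hab, Subgroup.map_subtype_le D,
      ⟨(Subgroup.equivMapOfInjective D L.subtype L.subtype_injective).symm.trans φ⟩, ?_, ?_⟩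
    · rintro _ ⟨d, hd, rfl⟩
      exact hD1 d hd
    · rintro ω hωa hωb _ ⟨d, hd, rfl⟩ hdω
      have := hD2 ω hωa hωb d hd hdω
      rw [this]
      rfl

end Cfsg.Agent.Lib.Helper12.DWA
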