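import Mathlib
import Cfsg.Agent.Lib.Helper12.ElusA

set_option autoImplicit false

namespace Cfsg.Agent.Lib.Helper12.Elus

open Module

section flagcount

variable {F V : Type*} [Field F] [Fintype F] [AddCommGroup V] [Module F V] [Finite V]

/-- flags `U ≤ W` with `dim U = a`, `dim W = b` -/
abbrev Flag (F V : Type*) [Field F] [AddCommGroup V] [Module F V] (a b : ℕ) : Type _ :=
  {P : Submodule F V × Submodule F V // P.1 ≤ P.2 ∧ finrank F ↥P.1 = a ∧ finrank F ↥P.2 = b}

/-- the larger member of a flag -/
def flagTop (a b : ℕ) (P : Flag F V a b) : {W : Submodule F V // finrank F W = b} :=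
  ⟨P.1.2, P.2.2.2⟩

/-- the fibre of `flagTop` over `W` is the set of `a`-subspaces of `W` -/
noncomputable def flagFibreEquiv (a b : ℕ) (W : {W : Submodule F V // finrank F W = b}) :
    {P : Flag F V a b // flagTop a b P = W} ≃ {U : Submodule F W.1 // finrank F U = a} where
  toFun P := ⟨P.1.1.1.comap W.1.subtype, by
    have hW : P.1.1.2 = W.1 := congrArg Subtype.val P.2
    have hle : P.1.1.1 ≤ W.1 := hW ▸ P.1.2.1
    rw [(Submodule.comapSubtypeEquivOfLe hle).finrank_eq]
    exact P.1.2.2.1⟩
  invFun U := ⟨⟨(U.1.map W.1.subtype, W.1), ⟨Submodule.map_subtype_le _ _, by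
      rw [(Submodule.equivSubtypeMap W.1 U.1).symm.finrank_eq]; exact U.2, W.2⟩⟩, by
    apply Subtype.ext
    rfl⟩
  left_inv P := by
    have hW : P.1.1.2 = W.1 := congrArg Subtype.val P.2
    have hle : P.1.1.1 ≤ W.1 := hW ▸ P.1.2.1
    apply Subtype.ext
    apply Subtype.ext
    apply Prod.ext
    · show (P.1.1.1.comap W.1.subtype).map W.1.subtype = P.1.1.1
      rw [Submodule.map_comap_subtype]
      exact inf_eq_right.2 hle
    · exact hW.symm
  right_inv U := by
    apply Subtype.ext
    show (U.1.map W.1.subtype).comap W.1.subtype = U.1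
    exact Submodule.comap_map_eq_of_injective W.1.subtype_injective _

theorem prod_pow_sub_pow_pos (q m : ℕ) (hq : 2 ≤ q) :
    0 < ∏ i : Fin m, (q ^ m - q ^ (i : ℕ)) := by
  apply Finset.prod_pos
  intro i _
  have : q ^ (i : ℕ) < q ^ m := Nat.pow_lt_pow_right (by omega) i.2
  omega

theorem card_flags (a b : ℕ) (ha : a ≤ b) :
    ∃ N₂ : ℕ, N₂ * ∏ i : Fin a, (Fintype.card F ^ a - Fintype.card F ^ (i : ℕ)) =
        ∏ i : Fin a, (Fintype.card F ^ b - Fintype.card F ^ (i : ℕ)) ∧
      Nat.card (Flag F V a b) = Nat.card {W : Submodule F V // finrank F W = b} * N₂ := by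
  classical
  haveI : Module.Finite F V := Module.Finite.of_finite
  have hq : 2 ≤ Fintype.card F := Fintype.one_lt_card
  have hApos := prod_pow_sub_pow_pos (Fintype.card F) a hq
  have hfib : ∀ W : {W : Submodule F V // finrank F W = b},
      Nat.card {P : Flag F V a b // flagTop a b P = W} *
        ∏ i : Fin a, (Fintype.card F ^ a - Fintype.card F ^ (i : ℕ)) =
      ∏ i : Fin a, (Fintype.card F ^ b - Fintype.card F ^ (i : ℕ)) := by
    intro W
    rw [Nat.card_congr (flagFibreEquiv a b W)]
    have := card_subspaces_mul (F := F) (V := W.1) a (by rw [W.2]; exact ha)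
    rwa [W.2] at this
  refine ⟨(∏ i : Fin a, (Fintype.card F ^ b - Fintype.card F ^ (i : ℕ))) /
    ∏ i : Fin a, (Fintype.card F ^ a - Fintype.card F ^ (i : ℕ)), ?_, ?_⟩
  · by_cases hne : Nonempty {W : Submodule F V // finrank F W = b}
    · obtain ⟨W⟩ := hne
      rw [← hfib W, Nat.mul_div_cancel _ hApos]
    · -- no subspace of dimension b: still need the identity; use a model space
      have := card_subspaces_mul (F := F) (V := Fin b → F) a (by rw [Module.finrank_fin_fun]; exact ha)
      rw [Module.finrank_fin_fun] at this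
      rw [← this, Nat.mul_div_cancel _ hApos]
  · have e := Equiv.sigmaFiberEquiv (flagTop (F := F) (V := V) a b)
    rw [← Nat.card_congr e]
    haveI : Finite {W : Submodule F V // finrank F W = b} := inferInstance
    haveI : Fintype {W : Submodule F V // finrank F W = b} := Fintype.ofFinite _
    have hFlagFin : Finite (Flag F V a b) := inferInstance
    rw [Nat.card_sigma]
    have h : ∀ W : {W : Submodule F V // finrank F W = b},
        Nat.card {P : Flag F V a b // flagTop a b P = W} =
          (∏ i : Fin a, (Fintype.card F ^ b - Fintype.card F ^ (i : ℕ))) /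
            ∏ i : Fin a, (Fintype.card F ^ a - Fintype.card F ^ (i : ℕ)) := by
      intro W
      rw [← hfib W, Nat.mul_div_cancel _ hApos]
    rw [Finset.sum_congr rfl (fun W _ => h W), Finset.sum_const, smul_eq_mul, Finset.card_univ,
      Nat.card_eq_fintype_card]

end flagcount


section flagdiv

variable {F V : Type*} [Field F] [Fintype F] [AddCommGroup V] [Module F V]
  [FiniteDimensional F V]

omit [Fintype F] in
theorem card_subspaces_dual (k : ℕ) (hk : k ≤ finrank F V) :
    Nat.card {W : Submodule F V // finrank F W = k} =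
      Nat.card {Φ : Submodule F (Dual F V) // finrank F Φ = finrank F V - k} := by
  apply Nat.card_congr
  refine
    { toFun := fun W => ⟨W.1.dualAnnihilator, by
        have := Subspace.finrank_add_finrank_dualAnnihilator_eq W.1
        have := W.2
        omega⟩
      invFun := fun Φ => ⟨Φ.1.dualCoannihilator, by
        have := Subspace.finrank_add_finrank_dualCoannihilator_eq Φ.1
        have := Φ.2
        omega⟩
      left_inv := fun W => Subtype.ext Subspace.dualAnnihilator_dualCoannihilator_eq
      right_inv := fun Φ => Subtype.ext Subspace.dualCoannihilator_dualAnnihilator_eq }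

theorem exists_dvd_of_dvd_card_subspaces_compl {p : ℕ} [Fact p.Prime] [CharP F p] (r : ℕ)
    (hr : r.Prime) (hrp : r ≠ p) (m : ℕ) (hm : m ≤ finrank F V)
    (h : r ∣ Nat.card {W : Submodule F V // finrank F W = finrank F V - m}) :
    ∃ j, finrank F V - m < j ∧ j ≤ finrank F V ∧ r ∣ Fintype.card F ^ j - 1 := by
  haveI : Finite (Dual F V) := Module.finite_of_finite F
  rw [card_subspaces_dual (finrank F V - m) (Nat.sub_le _ _)] at h
  have h1 : finrank F V - (finrank F V - m) = m := by omega
  rw [h1] at h
  have h2 := exists_dvd_of_dvd_card_subspaces (F := F) (V := Dual F V) r hr hrp m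
    (by rw [Subspace.dual_finrank_eq]; exact hm) h
  rwa [Subspace.dual_finrank_eq] at h2

theorem not_dvd_card_flags {p : ℕ} [Fact p.Prime] [CharP F p] (m : ℕ)
    (hm : 2 * m ≤ finrank F V) : ¬ p ∣ Nat.card (Flag F V m (finrank F V - m)) := by
  haveI : Finite V := Module.finite_of_finite F
  obtain ⟨N₂, hN₂, hcard⟩ := card_flags (F := F) (V := V) m (finrank F V - m) (by omega)
  rw [hcard]
  have hpq : p ∣ Fintype.card F := by
    obtain ⟨k, -, hk⟩ := FiniteField.card F p
    rw [hk]
    exact dvd_pow_self p k.ne_zero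
  intro hd
  rcases (Nat.Prime.dvd_mul Fact.out).1 hd with h | h
  · exact not_dvd_card_subspaces (F := F) (V := V) (finrank F V - m) (Nat.sub_le _ _) h
  · exact gauss_not_dvd p (Fintype.card F) (finrank F V - m) m N₂ Fact.out hpq Fintype.card_pos
      (by omega) hN₂ h

theorem exists_dvd_of_dvd_card_flags {p : ℕ} [Fact p.Prime] [CharP F p] (r : ℕ) (hr : r.Prime)
    (hrp : r ≠ p) (m : ℕ) (hm : 2 * m ≤ finrank F V)
    (h : r ∣ Nat.card (Flag F V m (finrank F V - m))) :
    ∃ j, finrank F V - 2 * m < j ∧ j ≤ finrank F V ∧ r ∣ Fintype.card F ^ j - 1 := by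
  haveI : Finite V := Module.finite_of_finite F
  obtain ⟨N₂, hN₂, hcard⟩ := card_flags (F := F) (V := V) m (finrank F V - m) (by omega)
  rw [hcard] at h
  have hrq : ¬ r ∣ Fintype.card F := by
    obtain ⟨k, -, hk⟩ := FiniteField.card F p
    rw [hk]
    intro hd
    exact hrp ((Nat.prime_dvd_prime_iff_eq hr Fact.out).1 (hr.dvd_of_dvd_pow hd))
  rcases (Nat.Prime.dvd_mul hr).1 h with h1 | h1
  · obtain ⟨j, hj1, hj2, hj3⟩ := exists_dvd_of_dvd_card_subspaces_compl r hr hrp m (by omega) h1
    exact ⟨j, by omega, hj2, hj3⟩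
  · obtain ⟨j, hj1, hj2, hj3⟩ := gauss_exists_dvd r (Fintype.card F) (finrank F V - m) m N₂ hr hrq
      (by omega) hN₂ h1
    exact ⟨j, by omega, by omega, hj3⟩

end flagdiv

end Cfsg.Agent.Lib.Helper12.Elus
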