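import Mathlib
import Cfsg.Agent.Lib.Helper12.ElusH
import Cfsg.Agent.Lib.Helper12.ElusI

set_option autoImplicit false

namespace Cfsg.Agent.Lib.Helper12.Elus

open Module Polynomial

section flags

variable {F V : Type*} [Field F] [Fintype F] [AddCommGroup V] [Module F V]
  [FiniteDimensional F V]

omit [Fintype F] [FiniteDimensional F V] in
/-- two-step construction of an invariant flag -/
theorem flag_of_two_step (f : V →ₗ[F] V) (m k : ℕ)
    (h1 : ∃ W : Submodule F V, finrank F W = k ∧ ∀ v ∈ W, f v ∈ W)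
    (h2 : ∀ (W : Submodule F V) (hW : ∀ v ∈ W, f v ∈ W), finrank F W = k →
      ∃ U' : Submodule F W, finrank F U' = m ∧ ∀ u ∈ U', (f.restrict hW) u ∈ U') :
    ∃ U W : Submodule F V, U ≤ W ∧ finrank F U = m ∧ finrank F W = k ∧
      (∀ v ∈ U, f v ∈ U) ∧ (∀ v ∈ W, f v ∈ W) := by
  obtain ⟨W, hWk, hW⟩ := h1
  obtain ⟨U', hU'm, hU'⟩ := h2 W hW hWk
  refine ⟨U'.map W.subtype, W, Submodule.map_subtype_le _ _, ?_, hWk, ?_, hW⟩
  · rw [(Submodule.equivSubtypeMap W U').symm.finrank_eq]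
    exact hU'm
  · rintro _ ⟨u, hu, rfl⟩
    exact ⟨f.restrict hW u, hU' u hu, rfl⟩

theorem fwd_split_flag (f : V →ₗ[F] V) (r : ℕ) [Fact r.Prime] (hrq : r ∣ Fintype.card F - 1)
    (m : ℕ) (hm : 2 * m ≤ finrank F V) (hV : 0 < finrank F V)
    (hcond : r ∣ m ∨ (padicValNat r (finrank F V) ≤ padicValNat r (Fintype.card F - 1) ∧
      (r = 2 → Even (finrank F V) → Fintype.card F % 4 = 1)))
    (c : F) (hdet : LinearMap.det f = 1) (hfc : f ^ r = c • 1) :
    ∃ U W : Submodule F V, U ≤ W ∧ finrank F U = m ∧ finrank F W = finrank F V - m ∧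
      (∀ v ∈ U, f v ∈ U) ∧ (∀ v ∈ W, f v ∈ W) := by
  have hr : r.Prime := Fact.out
  have hc0 : c ≠ 0 := scalar_ne_zero f r c hV hdet hfc
  by_cases hc1 : c ^ ((Fintype.card F - 1) / r) = 1
  · -- split case
    have hpow : ∀ {V' : Type _} [AddCommGroup V'] [Module F V'] (g : V' →ₗ[F] V'),
        g ^ r = c • 1 → g ^ Fintype.card F = g := by
      intro V' _ _ g hg
      have h1 : g ^ (Fintype.card F - 1) = 1 := by
        rw [← Nat.mul_div_cancel' hrq, pow_mul, hg, _root_.smul_pow, one_pow, hc1, one_smul]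
      have : Fintype.card F = (Fintype.card F - 1) + 1 := by
        have := Fintype.card_pos (α := F)
        omega
      conv_lhs => rw [this, pow_succ, h1, one_mul]
    apply flag_of_two_step
    · obtain ⟨W, hW, hWm⟩ := split_all f (hpow f hfc) (finrank F V - m) (Nat.sub_le _ _)
      exact ⟨W, hWm, hW⟩
    · intro W hW hWk
      obtain ⟨U', hU', hU'm⟩ := split_all (f.restrict hW)
        (hpow _ (restrict_pow_eq f W hW r c hfc)) m (by omega)
      exact ⟨U', hU'm, hU'⟩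
  · have hc : ∀ d : F, d ^ r ≠ c := not_pow_of_pow_div_ne_one r hrq c hc0 hc1
    have hrn : r ∣ finrank F V := by
      have := t2_dvd_finrank f r hr c hfc hc ⊤ (fun _ _ => Submodule.mem_top)
      rwa [finrank_top] at this
    rcases hcond with hrm | ⟨hv, h2⟩
    · have hrnm : r ∣ finrank F V - m := Nat.dvd_sub hrn hrm
      obtain ⟨k, hk⟩ := hrm
      obtain ⟨k', hk'⟩ := hrnm
      apply flag_of_two_step
      · obtain ⟨W, hW, hWm⟩ := t2_exists_invariant f r hr c hfc hc k' (by omega)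
        exact ⟨W, by rw [hWm, hk'], hW⟩
      · intro W hW hWk
        obtain ⟨U', hU', hU'm⟩ := t2_exists_invariant (f.restrict hW) r hr c
          (restrict_pow_eq f W hW r c hfc) hc k (by omega)
        exact ⟨U', by rw [hU'm, hk], hU'⟩
    · exfalso
      have hd := t2_det f r hr c hfc hc
      rw [hdet] at hd
      exact hc1 (t2_bad r (finrank F V) hr hV hrn hv h2 c hc0 hd.symm)

theorem fwd_nonsplit_flag {p : ℕ} [Fact p.Prime] [CharP F p] (f : V →ₗ[F] V) (r : ℕ)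
    [Fact r.Prime] (hrp : r ≠ p) (hrq : ¬ r ∣ Fintype.card F - 1) (m : ℕ)
    (hm : 2 * m ≤ finrank F V)
    (hmod : 2 * (m % orderOf (Fintype.card F : ZMod r)) ≤
      finrank F V % orderOf (Fintype.card F : ZMod r))
    (c : F) (hc0 : c ≠ 0) (hfc : f ^ r = c • 1) :
    ∃ U W : Submodule F V, U ≤ W ∧ finrank F U = m ∧ finrank F W = finrank F V - m ∧
      (∀ v ∈ U, f v ∈ U) ∧ (∀ v ∈ W, f v ∈ W) := by
  set c₀ := orderOf (Fintype.card F : ZMod r) with hc₀
  have hc₀pos : 0 < c₀ := orderOf_card_pos r hrp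
  -- (n - m) % c₀ = n % c₀ - m % c₀
  have hsub : (finrank F V - m) % c₀ = finrank F V % c₀ - m % c₀ := by
    have h1 : finrank F V = finrank F V % c₀ + c₀ * (finrank F V / c₀) :=
      (Nat.mod_add_div _ _).symm
    have h2 : m = m % c₀ + c₀ * (m / c₀) := (Nat.mod_add_div _ _).symm
    have h3 : m / c₀ ≤ finrank F V / c₀ := Nat.div_le_div_right (by omega)
    have h4 : finrank F V - m =
        (finrank F V % c₀ - m % c₀) + c₀ * (finrank F V / c₀ - m / c₀) := by
      have h5 : c₀ * (finrank F V / c₀ - m / c₀) = c₀ * (finrank F V / c₀) - c₀ * (m / c₀) :=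
        Nat.mul_sub _ _ _
      have h6 : c₀ * (m / c₀) ≤ c₀ * (finrank F V / c₀) := Nat.mul_le_mul_left _ h3
      omega
    have h7 : finrank F V % c₀ < c₀ := Nat.mod_lt _ hc₀pos
    rw [h4, Nat.add_mul_mod_self_left, Nat.mod_eq_of_lt (by omega)]
  apply flag_of_two_step
  · have hmod' : (finrank F V - m) % c₀ ≤ finrank F V % c₀ := by
      rw [hsub]; exact Nat.sub_le _ _
    exact fwd_nonsplit f r hrp hrq (finrank F V - m) (Nat.sub_le _ _) hmod' c hc0 hfc
  · intro W hW hWk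
    have hmod' : m % c₀ ≤ finrank F W % c₀ := by rw [hWk, hsub]; omega
    obtain ⟨U', hU'm, hU'⟩ := fwd_nonsplit (f.restrict hW) r hrp hrq m (by omega)
      hmod' c hc0 (restrict_pow_eq f W hW r c hfc)
    exact ⟨U', hU'm, hU'⟩

end flags


section flags2

variable {F : Type*} [Field F] [Fintype F]

theorem bwd_nonsplit_flag {p : ℕ} [Fact p.Prime] [CharP F p] (n m r : ℕ) [Fact r.Prime]
    (hrp : r ≠ p) (hrq : ¬ r ∣ Fintype.card F - 1) (hmn : 2 * m ≤ n)
    (hj : ∃ j, n - 2 * m < j ∧ j ≤ n ∧ r ∣ Fintype.card F ^ j - 1)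
    (H : ∀ f : (Fin n → F) →ₗ[F] (Fin n → F), LinearMap.det f = 1 →
      (∃ c : F, f ^ r = c • 1) → (∀ c : F, f ≠ c • 1) →
      ∃ U W : Submodule F (Fin n → F), U ≤ W ∧ finrank F U = m ∧ finrank F W = n - m ∧
        (∀ v ∈ U, f v ∈ U) ∧ (∀ v ∈ W, f v ∈ W)) :
    orderOf (Fintype.card F : ZMod r) ≤ m ∧
      2 * (m % orderOf (Fintype.card F : ZMod r)) ≤ n % orderOf (Fintype.card F : ZMod r) := by
  have hr : r.Prime := Fact.out
  have hr0 : (r : F) ≠ 0 := by
    rw [Ne, CharP.cast_eq_zero_iff F p]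
    intro hd
    exact hrp ((Nat.prime_dvd_prime_iff_eq Fact.out Fact.out).1 hd).symm
  set c₀ := orderOf (Fintype.card F : ZMod r) with hc₀
  have hc₀pos : 0 < c₀ := orderOf_card_pos r hrp
  obtain ⟨j, hj1, hj2, hj3⟩ := hj
  obtain ⟨j', rfl⟩ : c₀ ∣ j := orderOf_dvd_of_dvd_pow_sub_one r _ j Fintype.card_pos hj3
  have hdecomp : n = n % c₀ + c₀ * (n / c₀) := (Nat.mod_add_div n c₀).symm
  have hj'b : j' ≤ n / c₀ := (Nat.le_div_iff_mul_le hc₀pos).2 (by rw [mul_comm]; exact hj2)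
  have hj'1 : 1 ≤ j' := by
    rcases Nat.eq_zero_or_pos j' with h | h
    · rw [h, mul_zero] at hj1; omega
    · exact h
  have hc₀n : c₀ ≤ n := by
    have : c₀ * 1 ≤ c₀ * j' := Nat.mul_le_mul_left _ hj'1
    omega
  have hνm : n % c₀ < 2 * m := by
    have := Nat.mul_le_mul_left c₀ hj'b
    omega
  have hνc : n % c₀ < c₀ := Nat.mod_lt _ hc₀pos
  obtain ⟨f, hf, hfix⟩ := exists_order_r (F := F) r hrp n (n % c₀) (n / c₀) hdecomp
  have hfin : finrank F (Fin n → F) = n := Module.finrank_fin_fun F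
  have hnpos : 0 < n := by omega
  have hdf : LinearMap.det f = 1 :=
    eq_one_of_pow_eq_one_of_coprime r hr hrq _ (by rw [← map_pow, hf, map_one])
  have hns : ∀ d : F, f ≠ d • 1 := by
    intro d hd
    have h1 : d ^ r • (1 : (Fin n → F) →ₗ[F] (Fin n → F)) = (1 : F) • 1 := by
      rw [one_smul]
      calc d ^ r • (1 : (Fin n → F) →ₗ[F] (Fin n → F)) = (d • 1) ^ r := by
            rw [_root_.smul_pow, one_pow]
        _ = f ^ r := by rw [hd]
        _ = 1 := hf
    have h2 : d ^ r = 1 := smul_one_inj (by rw [hfin]; exact hnpos) _ _ h1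
    have h3 : d = 1 := eq_one_of_pow_eq_one_of_coprime r hr hrq d h2
    rw [h3, one_smul] at hd
    have h4 : fixE f = ⊤ := by
      rw [eq_top_iff]
      intro v _
      rw [mem_fixE, hd, Module.End.one_apply]
    rw [h4, finrank_top, hfin] at hfix
    omega
  obtain ⟨U, W, hUW, hUm, hWm, hU, hW⟩ := H f hdf ⟨1, by rw [hf, one_smul]⟩ hns
  have h1 := finrank_eq_fix_add_map f U
  have h1' := finrank_eq_fix_add_map f W
  have h2 : finrank F ↥(W ⊓ fixE f) ≤ n % c₀ :=
    (Submodule.finrank_mono inf_le_right).trans hfix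
  have h3 : finrank F ↥(U ⊓ fixE f) ≤ finrank F ↥(W ⊓ fixE f) :=
    Submodule.finrank_mono (inf_le_inf_right _ hUW)
  obtain ⟨k₁, hk₁⟩ : c₀ ∣ finrank F ↥(U.map (f - 1)) :=
    orderOf_dvd_finrank_of_le_movR f r hf hr0 _ (map_sub_one_invariant f U hU)
      (map_sub_one_le_movR f U)
  obtain ⟨k₂, hk₂⟩ : c₀ ∣ finrank F ↥(W.map (f - 1)) :=
    orderOf_dvd_finrank_of_le_movR f r hf hr0 _ (map_sub_one_invariant f W hW)
      (map_sub_one_le_movR f W)
  rw [hUm, hk₁] at h1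
  rw [hWm, hk₂] at h1'
  set j₁ := finrank F ↥(U ⊓ fixE f) with hj₁
  set j₂ := finrank F ↥(W ⊓ fixE f) with hj₂
  -- j₁ + j₂ ≡ n % c₀
  have hsum : (j₁ + j₂) % c₀ = n % c₀ := by
    have h5 : n = (j₁ + j₂) + c₀ * (k₁ + k₂) := by
      rw [mul_add]; omega
    conv_rhs => rw [h5, Nat.add_mul_mod_self_left]
  have hsum2 : j₁ + j₂ = n % c₀ := by
    by_cases hlt : j₁ + j₂ < c₀
    · rwa [Nat.mod_eq_of_lt hlt] at hsum
    · push Not at hlt
      have h6 : (j₁ + j₂) % c₀ = j₁ + j₂ - c₀ := by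
        rw [Nat.mod_eq_sub_mod hlt, Nat.mod_eq_of_lt (by omega)]
      omega
  have hmmod : m % c₀ = j₁ := by
    rw [h1, Nat.add_mul_mod_self_left, Nat.mod_eq_of_lt (by omega)]
  have hk1 : 1 ≤ k₁ := by
    rcases Nat.eq_zero_or_pos k₁ with h | h
    · rw [h, mul_zero] at h1
      omega
    · exact h
  constructor
  · have : c₀ * 1 ≤ c₀ * k₁ := Nat.mul_le_mul_left _ hk1
    omega
  · rw [hmmod]
    omega

theorem elusive_flag_iff {p : ℕ} [Fact p.Prime] [CharP F p] (n m : ℕ) (hm : 1 ≤ m)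
    (hmn : 2 * m < n) (r : ℕ) [Fact r.Prime]
    (hrΩ : r ∣ Nat.card {P : Submodule F (Fin n → F) × Submodule F (Fin n → F) //
        P.1 ≤ P.2 ∧ finrank F ↥P.1 = m ∧ finrank F ↥P.2 = n - m}) :
    (∀ f : (Fin n → F) →ₗ[F] (Fin n → F), LinearMap.det f = 1 →
      (∃ c : F, f ^ r = c • 1) → (∀ c : F, f ≠ c • 1) →
      ∃ U W : Submodule F (Fin n → F), U ≤ W ∧ finrank F U = m ∧ finrank F W = n - m ∧
        (∀ v ∈ U, f v ∈ U) ∧ (∀ v ∈ W, f v ∈ W)) ↔
    (r ≠ p ∧
      ((orderOf (Fintype.card F : ZMod r) = 1 ∧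
          (r ∣ m ∨ (padicValNat r n ≤ padicValNat r (Fintype.card F - 1) ∧
            (r = 2 → Even n → Fintype.card F % 4 = 1)))) ∨
       (2 ≤ orderOf (Fintype.card F : ZMod r) ∧ orderOf (Fintype.card F : ZMod r) ≤ m ∧
          2 * (m % orderOf (Fintype.card F : ZMod r)) ≤
            n % orderOf (Fintype.card F : ZMod r)))) := by
  have hr : r.Prime := Fact.out
  have hfin : finrank F (Fin n → F) = n := Module.finrank_fin_fun F
  have hmn' : 2 * m ≤ finrank F (Fin n → F) := by rw [hfin]; omega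
  have hnpos : 0 < n := by omega
  have hrΩ' : r ∣ Nat.card (Flag F (Fin n → F) m (finrank F (Fin n → F) - m)) := by
    rw [hfin]; exact hrΩ
  have hrp : r ≠ p := by
    rintro rfl
    exact not_dvd_card_flags (F := F) (V := Fin n → F) (p := r) m hmn' hrΩ'
  have hc₀pos : 0 < orderOf (Fintype.card F : ZMod r) := orderOf_card_pos r hrp
  constructor
  · intro H
    refine ⟨hrp, ?_⟩
    by_cases hc1 : orderOf (Fintype.card F : ZMod r) = 1
    · left
      refine ⟨hc1, bwd_split n m r hnpos ((orderOf_card_eq_one_iff r).1 hc1) ?_⟩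
      intro f hdet hfc hns
      obtain ⟨U, W, -, hUm, -, hU, -⟩ := H f hdet hfc hns
      exact ⟨U, hUm, hU⟩
    · right
      have hrq : ¬ r ∣ Fintype.card F - 1 := fun h => hc1 ((orderOf_card_eq_one_iff r).2 h)
      have hj := exists_dvd_of_dvd_card_flags (F := F) (V := Fin n → F) r hr hrp m hmn' hrΩ'
      rw [hfin] at hj
      obtain ⟨h1, h2⟩ := bwd_nonsplit_flag n m r hrp hrq (by omega) hj H
      exact ⟨by omega, h1, h2⟩
  · rintro ⟨-, hcases⟩ f hdet ⟨c, hfc⟩ -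
    rcases hcases with ⟨hc1, hcond⟩ | ⟨hc2, -, hmod⟩
    · have hrq := (orderOf_card_eq_one_iff (F := F) r).1 hc1
      have := fwd_split_flag f r hrq m hmn' (by rw [hfin]; exact hnpos)
        (by rw [hfin]; exact hcond) c hdet hfc
      rwa [hfin] at this
    · have hrq : ¬ r ∣ Fintype.card F - 1 := by
        intro h
        have := (orderOf_card_eq_one_iff (F := F) r).2 h
        omega
      have hc0 : c ≠ 0 := scalar_ne_zero f r c (by rw [hfin]; exact hnpos) hdet hfc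
      have := fwd_nonsplit_flag f r hrp hrq m hmn' (by rw [hfin]; exact hmod) c hc0 hfc
      rwa [hfin] at this

end flags2

end Cfsg.Agent.Lib.Helper12.Elus
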