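import Mathlib
import Cfsg.Agent.Lib.Helper12.ElusM

set_option autoImplicit false

namespace Cfsg.Agent.Lib.Helper12.Elus

open Module Polynomial

universe u

section cpair

variable {F : Type u} [Field F] [Fintype F]

theorem exists_pow_char_eq {p : ℕ} [Fact p.Prime] [CharP F p] (c : F) : ∃ d : F, d ^ p = c := by
  obtain ⟨d, hd⟩ := surjective_frobenius F p c
  exact ⟨d, by rw [← hd, frobenius_def]⟩

theorem elusive_cpair_iff {p : ℕ} [Fact p.Prime] [CharP F p] (n m : ℕ) (hm : 1 ≤ m)
    (hmn : 2 * m < n) (r : ℕ) [Fact r.Prime]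
    (hrΩ : r ∣ Nat.card {P : Submodule F (Fin n → F) × Submodule F (Fin n → F) //
        IsCompl P.1 P.2 ∧ finrank F ↥P.1 = m}) :
    (∀ f : (Fin n → F) →ₗ[F] (Fin n → F), LinearMap.det f = 1 →
      (∃ c : F, f ^ r = c • 1) → (∀ c : F, f ≠ c • 1) →
      ∃ U W : Submodule F (Fin n → F), IsCompl U W ∧ finrank F U = m ∧
        (∀ v ∈ U, f v ∈ U) ∧ (∀ v ∈ W, f v ∈ W)) ↔
    ((r = p ∧ 2 < p ∧ (∀ μ : Multiset ℕ, (∀ a ∈ μ, 0 < a ∧ a ≤ p) → μ.sum = n →
        ∃ ν : Multiset ℕ, ν ≤ μ ∧ ν.sum = m)) ∨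
     (r = p ∧ p = 2 ∧ (Odd n ∨ Even m)) ∨
     (r ≠ p ∧
      ((orderOf (Fintype.card F : ZMod r) = 1 ∧
          (r ∣ m ∨ (padicValNat r n ≤ padicValNat r (Fintype.card F - 1) ∧
            (r = 2 → Even n → Fintype.card F % 4 = 1)))) ∨
       (2 ≤ orderOf (Fintype.card F : ZMod r) ∧ orderOf (Fintype.card F : ZMod r) ≤ m ∧
          m % orderOf (Fintype.card F : ZMod r) ≤ n % orderOf (Fintype.card F : ZMod r))))) := by
  have hr : r.Prime := Fact.out
  have hp : p.Prime := Fact.out
  have hfin : finrank F (Fin n → F) = n := Module.finrank_fin_fun F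
  have hmn' : m ≤ finrank F (Fin n → F) := by rw [hfin]; omega
  have hnpos : 0 < n := by omega
  by_cases hrp : r = p
  · subst hrp
    constructor
    · intro H
      have hpart := unip_bwd (F := F) (p := r) n m (by omega) H
      rcases hp.eq_two_or_odd' with h2 | hodd
      · right; left
        refine ⟨rfl, h2, part_two_only n m ?_⟩
        intro μ hμ hsum
        exact hpart μ (by rw [h2]; exact hμ) hsum
      · left
        refine ⟨rfl, ?_, hpart⟩
        have := hp.two_le
        rcases hodd with ⟨k, hk⟩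
        omega
    · intro hR f hdet ⟨c, hfc⟩ _
      have hpart : ∀ μ : Multiset ℕ, (∀ a ∈ μ, 0 < a ∧ a ≤ r) → μ.sum = n →
          ∃ ν : Multiset ℕ, ν ≤ μ ∧ ν.sum = m := by
        rcases hR with ⟨-, -, h⟩ | ⟨-, h2, h⟩ | ⟨hne, -⟩
        · exact h
        · intro μ hμ hsum
          exact part_two_of n m (by omega) h μ (by rw [← h2]; exact hμ) hsum
        · exact absurd rfl hne
      have hc0 : c ≠ 0 := scalar_ne_zero f r c (by rw [hfin]; exact hnpos) hdet hfc
      obtain ⟨d, hd⟩ := exists_pow_char_eq (F := F) (p := r) c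
      have hd0 : d ≠ 0 := by
        rintro rfl
        rw [zero_pow hp.ne_zero] at hd
        exact hc0 hd.symm
      exact unip_fwd f d hd0 (by rw [hd]; exact hfc) m hmn' (by rw [hfin]; exact hpart)
  · have hr0 : (r : F) ≠ 0 := by
      rw [Ne, CharP.cast_eq_zero_iff F p]
      intro hd
      exact hrp ((Nat.prime_dvd_prime_iff_eq hp hr).1 hd).symm
    have hc₀pos : 0 < orderOf (Fintype.card F : ZMod r) := orderOf_card_pos r hrp
    constructor
    · intro H
      right; right
      refine ⟨hrp, ?_⟩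
      have H' : ∀ f : (Fin n → F) →ₗ[F] (Fin n → F), LinearMap.det f = 1 →
          (∃ c : F, f ^ r = c • 1) → (∀ c : F, f ≠ c • 1) →
          ∃ W : Submodule F (Fin n → F), finrank F W = m ∧ ∀ v ∈ W, f v ∈ W := by
        intro f hdet hfc hns
        obtain ⟨U, W, -, hUm, hU, -⟩ := H f hdet hfc hns
        exact ⟨U, hUm, hU⟩
      by_cases hc1 : orderOf (Fintype.card F : ZMod r) = 1
      · left
        exact ⟨hc1, bwd_split n m r hnpos ((orderOf_card_eq_one_iff r).1 hc1) H'⟩
      · right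
        have hrq : ¬ r ∣ Fintype.card F - 1 := fun h => hc1 ((orderOf_card_eq_one_iff r).2 h)
        have hj := exists_dvd_of_dvd_card_cpair (F := F) (V := Fin n → F) r hr hrp m hmn' hrΩ
        rw [hfin] at hj
        obtain ⟨h1, h2⟩ := bwd_nonsplit n m r hrp hrq (by omega) hj H'
        exact ⟨by omega, h1, h2⟩
    · intro hR f hdet ⟨c, hfc⟩ _
      rcases hR with ⟨h, -⟩ | ⟨h, -⟩ | ⟨-, hcases⟩
      · exact absurd h hrp
      · exact absurd h hrp
      · have hc0 : c ≠ 0 := scalar_ne_zero f r c (by rw [hfin]; exact hnpos) hdet hfc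
        have hU : ∃ U : Submodule F (Fin n → F), finrank F U = m ∧ ∀ v ∈ U, f v ∈ U := by
          rcases hcases with ⟨hc1, hcond⟩ | ⟨hc2, -, hmod⟩
          · have hrq := (orderOf_card_eq_one_iff (F := F) r).1 hc1
            exact fwd_split f r hrq m hmn' (by rw [hfin]; exact hnpos)
              (by rw [hfin]; exact hcond) c hdet hfc
          · have hrq : ¬ r ∣ Fintype.card F - 1 := by
              intro h
              have := (orderOf_card_eq_one_iff (F := F) r).2 h
              omega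
            exact fwd_nonsplit f r hrp hrq m hmn' (by rw [hfin]; exact hmod) c hc0 hfc
        obtain ⟨U, hUm, hU⟩ := hU
        obtain ⟨W, hc, hW⟩ := exists_invariant_compl f r hr0 c hc0 hfc U hU
        exact ⟨U, W, hc, hUm, hU, hW⟩

end cpair

end Cfsg.Agent.Lib.Helper12.Elus
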