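import Mathlib
import Cfsg.Prelude.Def_GeometricClasses

/-! Helper12 library (Ex32, part A): an absolutely irreducible finite matrix group `R` of order
`2 n²` in dimension `n` containing `-1`: Schur averaging, Burnside's spanning theorem, and the
consequence that every element of `R` other than `±1` is conjugate in `R` to its negative. -/

set_option autoImplicit false
set_option linter.unusedSectionVars false
set_option linter.unusedVariables false

namespace Cfsg.Agent.Lib.Helper12.Ex32

open Matrix Module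
open scoped MatrixGroups

section schur

variable {ι : Type} [Fintype ι] [DecidableEq ι] {F : Type*} [Field F]

variable (R : Subgroup (GL ι F))

/-- the matrix of an element of `R` -/
def mat (g : R) : Matrix ι ι F := ((g : GL ι F) : Matrix ι ι F)

theorem mat_mul (g h : R) : mat R (g * h) = mat R g * mat R h := by
  simp [mat]

theorem mat_one : mat R 1 = 1 := by
  simp [mat]

theorem mat_mul_inv (g : R) : mat R g * mat R g⁻¹ = 1 := by
  rw [← mat_mul, mul_inv_cancel, mat_one]

theorem mat_inv_mul (g : R) : mat R g⁻¹ * mat R g = 1 := by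
  rw [← mat_mul, inv_mul_cancel, mat_one]

theorem mat_injective : Function.Injective (mat R) := by
  intro g h hgh
  apply Subtype.ext
  apply Units.ext
  exact hgh

theorem mat_mem (g : R) : mat R g ∈ Cfsg.Geo.matrixSet R :=
  ⟨(g : GL ι F), g.2, rfl⟩

variable [Fintype R]

/-- Schur averaging -/
theorem schur_avg
    (hc : ∀ M : Matrix ι ι F, (∀ s ∈ Cfsg.Geo.matrixSet R, M * s = s * M) →
      ∃ c : F, M = c • (1 : Matrix ι ι F))
    (A : Matrix ι ι F) :
    ∃ c : F, ∑ g : R, mat R g * A * mat R g⁻¹ = c • (1 : Matrix ι ι F) := by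
  apply hc
  rintro s ⟨h, hh, rfl⟩
  obtain ⟨h', rfl⟩ : ∃ h' : R, (h' : GL ι F) = h := ⟨⟨h, hh⟩, rfl⟩
  show (∑ g : R, mat R g * A * mat R g⁻¹) * mat R h' = mat R h' * ∑ g : R, mat R g * A * mat R g⁻¹
  have h1 : mat R h'⁻¹ * (∑ g : R, mat R g * A * mat R g⁻¹) * mat R h' =
      ∑ g : R, mat R g * A * mat R g⁻¹ := by
    rw [Finset.mul_sum, Finset.sum_mul]
    apply Fintype.sum_equiv (Equiv.mulLeft h'⁻¹)
    intro g
    show _ = mat R (h'⁻¹ * g) * A * mat R (h'⁻¹ * g)⁻¹
    rw [_root_.mul_inv_rev, inv_inv, mat_mul, mat_mul]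
    simp only [Matrix.mul_assoc]
  calc (∑ g : R, mat R g * A * mat R g⁻¹) * mat R h'
      = (mat R h' * mat R h'⁻¹) * (∑ g : R, mat R g * A * mat R g⁻¹) * mat R h' := by
        rw [mat_mul_inv, Matrix.one_mul]
    _ = mat R h' * (mat R h'⁻¹ * (∑ g : R, mat R g * A * mat R g⁻¹) * mat R h') := by
        simp only [Matrix.mul_assoc]
    _ = _ := by rw [h1]

/-- the constant in Schur averaging -/
theorem schur_avg_const
    (hc : ∀ M : Matrix ι ι F, (∀ s ∈ Cfsg.Geo.matrixSet R, M * s = s * M) →
      ∃ c : F, M = c • (1 : Matrix ι ι F))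
    (hn : (Fintype.card ι : F) ≠ 0) (A : Matrix ι ι F) :
    ∑ g : R, mat R g * A * mat R g⁻¹ =
      ((Fintype.card R : F) * A.trace / (Fintype.card ι : F)) • (1 : Matrix ι ι F) := by
  obtain ⟨c, hcc⟩ := schur_avg R hc A
  have h1 : (∑ g : R, mat R g * A * mat R g⁻¹).trace = (Fintype.card R : F) * A.trace := by
    rw [Matrix.trace_sum]
    have h2 : ∀ g : R, (mat R g * A * mat R g⁻¹).trace = A.trace := by
      intro g
      rw [Matrix.trace_mul_cycle, mat_inv_mul, Matrix.one_mul]
    simp only [h2]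
    rw [Finset.sum_const, Finset.card_univ, nsmul_eq_mul]
  rw [hcc, Matrix.trace_smul, Matrix.trace_one, smul_eq_mul] at h1
  rw [hcc, ← h1, mul_div_assoc, div_self hn, mul_one]

/-- orthogonality of matrix entries -/
theorem entry_orth
    (hc : ∀ M : Matrix ι ι F, (∀ s ∈ Cfsg.Geo.matrixSet R, M * s = s * M) →
      ∃ c : F, M = c • (1 : Matrix ι ι F))
    (hn : (Fintype.card ι : F) ≠ 0) (i a b j : ι) :
    ∑ g : R, mat R g i a * mat R g⁻¹ b j =
      if a = b ∧ i = j then (Fintype.card R : F) / (Fintype.card ι : F) else 0 := by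
  have h1 := schur_avg_const R hc hn (Matrix.single a b (1 : F))
  have h2 := congrFun (congrFun h1 i) j
  rw [Matrix.sum_apply] at h2
  have h3 : ∀ g : R, (mat R g * Matrix.single a b (1 : F) * mat R g⁻¹) i j =
      mat R g i a * mat R g⁻¹ b j := by
    intro g
    rw [Matrix.mul_apply]
    rw [Finset.sum_eq_single b]
    · rw [Matrix.mul_single_apply_same, mul_one]
    · intro k _ hk
      rw [Matrix.mul_single_apply_of_ne (hbj := hk), zero_mul]
    · intro h
      exact absurd (Finset.mem_univ _) h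
  simp only [h3] at h2
  rw [h2, Matrix.smul_apply, Matrix.one_apply]
  by_cases hab : a = b
  · subst hab
    rw [Matrix.trace_single_eq_same]
    by_cases hij : i = j
    · simp [hij]
    · simp [hij]
  · rw [Matrix.trace_single_eq_of_ne _ _ _ hab]
    simp [hab]

/-- Fourier inversion -/
theorem fourier
    (hc : ∀ M : Matrix ι ι F, (∀ s ∈ Cfsg.Geo.matrixSet R, M * s = s * M) →
      ∃ c : F, M = c • (1 : Matrix ι ι F))
    (hn : (Fintype.card ι : F) ≠ 0) (y : Matrix ι ι F) :
    ∑ g : R, (mat R g * y).trace • mat R g⁻¹ =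
      ((Fintype.card R : F) / (Fintype.card ι : F)) • y := by
  ext b j
  rw [Matrix.sum_apply, Matrix.smul_apply]
  have h1 : ∀ g : R, ((mat R g * y).trace • mat R g⁻¹) b j =
      ∑ i, ∑ a, y a i * (mat R g i a * mat R g⁻¹ b j) := by
    intro g
    rw [Matrix.smul_apply, Matrix.trace, smul_eq_mul, Finset.sum_mul]
    apply Finset.sum_congr rfl
    intro i _
    rw [Matrix.diag_apply, Matrix.mul_apply, Finset.sum_mul]
    apply Finset.sum_congr rfl
    intro a _
    ring
  simp only [h1]
  rw [Finset.sum_comm]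
  have h2 : ∀ i : ι, ∑ g : R, ∑ a, y a i * (mat R g i a * mat R g⁻¹ b j) =
      if i = j then y b j * ((Fintype.card R : F) / (Fintype.card ι : F)) else 0 := by
    intro i
    rw [Finset.sum_comm]
    simp only [← Finset.mul_sum, entry_orth R hc hn]
    by_cases hij : i = j
    · simp [hij]
    · simp [hij]
  simp only [h2]
  rw [Finset.sum_ite_eq' Finset.univ j]
  simp [mul_comm]

/-- Burnside: the matrices of `R` span the matrix algebra -/
theorem span_eq_top
    (hc : ∀ M : Matrix ι ι F, (∀ s ∈ Cfsg.Geo.matrixSet R, M * s = s * M) →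
      ∃ c : F, M = c • (1 : Matrix ι ι F))
    (hn : (Fintype.card ι : F) ≠ 0) (hR : (Fintype.card R : F) ≠ 0) :
    Submodule.span F (Set.range (mat R)) = ⊤ := by
  rw [eq_top_iff]
  intro y _
  have h1 := fourier R hc hn y
  have h2 : y = ((Fintype.card ι : F) / (Fintype.card R : F)) •
      ∑ g : R, (mat R g * y).trace • mat R g⁻¹ := by
    rw [h1, smul_smul]
    have : (Fintype.card ι : F) / (Fintype.card R : F) *
        ((Fintype.card R : F) / (Fintype.card ι : F)) = 1 := by
      field_simp
    rw [this, one_smul]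
  rw [h2]
  apply Submodule.smul_mem
  apply Submodule.sum_mem
  intro g _
  apply Submodule.smul_mem
  exact Submodule.subset_span ⟨g⁻¹, rfl⟩

end schur

end Cfsg.Agent.Lib.Helper12.Ex32
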