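import Mathlib
import Cfsg.Prelude.Def_GeometricClasses
import Cfsg.Agent.Lib.Helper12.Ex32A

/-! Helper12 library (Ex32, part B): linear relations among the matrices of `R` (order `2 n²`,
absolutely irreducible in dimension `n`, containing `-1`) and conjugacy of `x` and `-x`. -/

set_option autoImplicit false
set_option linter.unusedSectionVars false
set_option linter.unusedVariables false
set_option linter.style.haveILetI false

namespace Cfsg.Agent.Lib.Helper12.Ex32

open Matrix Module
open scoped MatrixGroups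

section ker

variable {ι : Type} [Fintype ι] [DecidableEq ι] {F : Type*} [Field F]

variable (R : Subgroup (GL ι F)) [Fintype R]

theorem orderOf_z0 (h2 : (2 : F) ≠ 0) [Nonempty ι] (z0 : R) (hz0 : mat R z0 = -1) :
    orderOf z0 = 2 := by
  apply orderOf_eq_prime
  · apply mat_injective R
    rw [pow_two, mat_mul, hz0, mat_one]
    simp
  · intro h
    rw [h, mat_one] at hz0
    obtain ⟨i⟩ := ‹Nonempty ι›
    have := congrFun (congrFun hz0 i) i
    rw [Matrix.neg_apply, Matrix.one_apply_eq] at this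
    apply h2
    linear_combination this

/-- the linear relations among the matrices of `R` -/
theorem ker_lemma
    (hc : ∀ M : Matrix ι ι F, (∀ s ∈ Cfsg.Geo.matrixSet R, M * s = s * M) →
      ∃ c : F, M = c • (1 : Matrix ι ι F))
    (h2 : (2 : F) ≠ 0) (hn : (Fintype.card ι : F) ≠ 0) (hR : (Fintype.card R : F) ≠ 0)
    (z0 : R) (hz0 : mat R z0 = -1) (hcard : Fintype.card R = 2 * Fintype.card ι ^ 2)
    (c : R → F) (hsum : ∑ g : R, c g • mat R g = 0) (g : R) : c (g * z0) = c g := by
  classical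
  haveI : Nonempty ι := by
    by_contra h
    rw [not_nonempty_iff] at h
    apply hn
    rw [Fintype.card_eq_zero]
    simp
  have ho := orderOf_z0 R h2 z0 hz0
  obtain ⟨Z, hZ⟩ : ∃ Z : Subgroup R, Z = Subgroup.zpowers z0 := ⟨_, rfl⟩
  have hZc : Nat.card Z = 2 := by rw [hZ, Nat.card_zpowers, ho]
  letI : Fintype (R ⧸ Z) := Fintype.ofFinite _
  have hq : Fintype.card (R ⧸ Z) = Fintype.card ι ^ 2 := by
    have h1 := Subgroup.card_eq_card_quotient_mul_card_subgroup Z
    rw [hZc, Nat.card_eq_fintype_card, Nat.card_eq_fintype_card, hcard] at h1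
    omega
  -- the two maps
  let Φ : (R → F) →ₗ[F] Matrix ι ι F := Fintype.linearCombination F (mat R)
  let P : ((R ⧸ Z) → F) →ₗ[F] (R → F) := LinearMap.funLeft F F (QuotientGroup.mk : R → R ⧸ Z)
  have hΦr : LinearMap.range Φ = ⊤ := by
    rw [Fintype.range_linearCombination]
    exact span_eq_top R hc hn hR
  have hker : finrank F (LinearMap.ker Φ) = Fintype.card ι ^ 2 := by
    have h1 := LinearMap.finrank_range_add_finrank_ker Φ
    rw [hΦr, finrank_top, Module.finrank_matrix, Module.finrank_self, mul_one,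
      Module.finrank_fintype_fun_eq_card, hcard] at h1
    rw [pow_two]
    rw [pow_two] at h1
    omega
  have hPinj : Function.Injective P :=
    LinearMap.funLeft_injective_of_surjective _ _ _ QuotientGroup.mk_surjective
  have hPr : finrank F (LinearMap.range P) = Fintype.card ι ^ 2 := by
    rw [LinearMap.finrank_range_of_inj hPinj, Module.finrank_fintype_fun_eq_card, hq]
  have hz0Z : z0 ∈ Z := by
    rw [hZ]
    exact Subgroup.mem_zpowers z0
  have hmk : ∀ g : R, (QuotientGroup.mk (g * z0) : R ⧸ Z) = QuotientGroup.mk g := by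
    intro g
    rw [QuotientGroup.eq]
    rw [_root_.mul_inv_rev, mul_assoc, inv_mul_cancel, mul_one]
    exact Z.inv_mem hz0Z
  have hle : LinearMap.range P ≤ LinearMap.ker Φ := by
    rintro _ ⟨c', rfl⟩
    rw [LinearMap.mem_ker]
    show ∑ g : R, (P c') g • mat R g = 0
    have h1 : ∑ g : R, (P c') g • mat R g = ∑ g : R, (P c') (g * z0) • mat R (g * z0) :=
      (Equiv.sum_comp (Equiv.mulRight z0) (fun g => (P c') g • mat R g)).symm
    have h3 : ∑ g : R, (P c') (g * z0) • mat R (g * z0) = - ∑ g : R, (P c') g • mat R g := by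
      rw [← Finset.sum_neg_distrib]
      apply Finset.sum_congr rfl
      intro g _
      show c' (QuotientGroup.mk (g * z0)) • mat R (g * z0) = - (c' (QuotientGroup.mk g) • mat R g)
      rw [hmk, mat_mul, hz0]
      simp
    rw [h3] at h1
    have h4 : (2 : F) • ∑ g : R, (P c') g • mat R g = 0 := by
      rw [two_smul]
      nth_rewrite 1 [h1]
      exact neg_add_cancel _
    rcases smul_eq_zero.1 h4 with h5 | h5
    · exact absurd h5 h2
    · exact h5
  have heq : LinearMap.range P = LinearMap.ker Φ :=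
    Submodule.eq_of_le_of_finrank_eq hle (by rw [hPr, hker])
  have hcm : c ∈ LinearMap.ker Φ := by
    rw [LinearMap.mem_ker]
    exact hsum
  rw [← heq] at hcm
  obtain ⟨c', rfl⟩ := hcm
  show c' (QuotientGroup.mk (g * z0)) = c' (QuotientGroup.mk g)
  rw [hmk]

/-- every element other than `±1` is conjugate to its negative -/
theorem exists_conj_neg
    (hc : ∀ M : Matrix ι ι F, (∀ s ∈ Cfsg.Geo.matrixSet R, M * s = s * M) →
      ∃ c : F, M = c • (1 : Matrix ι ι F))
    (h2 : (2 : F) ≠ 0) (hn : (Fintype.card ι : F) ≠ 0) (hR : (Fintype.card R : F) ≠ 0)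
    (z0 : R) (hz0 : mat R z0 = -1) (hcard : Fintype.card R = 2 * Fintype.card ι ^ 2)
    (x : R) (hx1 : x ≠ 1) (hxz : x ≠ z0) : ∃ g : R, g * x * g⁻¹ = x * z0 := by
  classical
  haveI : Nonempty ι := by
    by_contra h
    rw [not_nonempty_iff] at h
    apply hn
    rw [Fintype.card_eq_zero]
    simp
  have ho := orderOf_z0 R h2 z0 hz0
  obtain ⟨Cl, hCl⟩ : ∃ Cl : Finset R, Cl = Finset.univ.image (fun g : R => g * x * g⁻¹) := ⟨_, rfl⟩
  have hmemCl : ∀ y : R, y ∈ Cl ↔ ∃ g : R, g * x * g⁻¹ = y := by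
    intro y
    rw [hCl]
    simp
  -- the class sum is scalar
  have hK : ∃ c0 : F, ∑ y ∈ Cl, mat R y = c0 • (1 : Matrix ι ι F) := by
    apply hc
    rintro s ⟨h, hh, rfl⟩
    obtain ⟨h', rfl⟩ : ∃ h' : R, (h' : GL ι F) = h := ⟨⟨h, hh⟩, rfl⟩
    show (∑ y ∈ Cl, mat R y) * mat R h' = mat R h' * ∑ y ∈ Cl, mat R y
    have h1 : mat R h'⁻¹ * (∑ y ∈ Cl, mat R y) * mat R h' = ∑ y ∈ Cl, mat R y := by
      rw [Finset.mul_sum, Finset.sum_mul]
      apply Finset.sum_bij (fun y _ => h'⁻¹ * y * h')
      · intro y hy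
        rw [hmemCl] at hy ⊢
        obtain ⟨g, rfl⟩ := hy
        refine ⟨h'⁻¹ * g, ?_⟩
        rw [_root_.mul_inv_rev, inv_inv]
        simp only [mul_assoc]
      · intro y₁ _ y₂ _ h12
        have := congrArg (fun t => h' * t * h'⁻¹) h12
        simpa [mul_assoc] using this
      · intro y hy
        rw [hmemCl] at hy
        obtain ⟨g, rfl⟩ := hy
        refine ⟨h' * (g * x * g⁻¹) * h'⁻¹, ?_, ?_⟩
        · rw [hmemCl]
          refine ⟨h' * g, ?_⟩
          rw [_root_.mul_inv_rev]
          simp only [mul_assoc]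
        · simp [mul_assoc]
      · intro y _
        rw [mat_mul, mat_mul]
    calc (∑ y ∈ Cl, mat R y) * mat R h'
        = (mat R h' * mat R h'⁻¹) * (∑ y ∈ Cl, mat R y) * mat R h' := by
          rw [mat_mul_inv, Matrix.one_mul]
      _ = mat R h' * (mat R h'⁻¹ * (∑ y ∈ Cl, mat R y) * mat R h') := by
          simp only [Matrix.mul_assoc]
      _ = _ := by rw [h1]
  obtain ⟨c0, hc0⟩ := hK
  have hsum : ∑ g : R, ((if g ∈ Cl then (1 : F) else 0) - (if g = 1 then c0 else 0)) • mat R g
      = 0 := by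
    simp only [sub_smul, Finset.sum_sub_distrib, ite_smul, one_smul, zero_smul]
    rw [Finset.sum_ite_mem, Finset.univ_inter, hc0, Finset.sum_ite_eq' Finset.univ (1 : R)]
    simp [mat_one]
  have hk := ker_lemma R hc h2 hn hR z0 hz0 hcard _ hsum x
  have hxCl : x ∈ Cl := by
    rw [hmemCl]
    exact ⟨1, by simp⟩
  have hxz1 : x * z0 ≠ 1 := by
    intro h
    apply hxz
    have hz2 : z0 * z0 = 1 := by
      have := pow_orderOf_eq_one z0
      rw [ho, pow_two] at this
      exact this
    calc x = x * (z0 * z0) := by rw [hz2, mul_one]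
      _ = (x * z0) * z0 := by rw [mul_assoc]
      _ = z0 := by rw [h, one_mul]
  rw [if_pos hxCl, if_neg hx1, if_neg hxz1, sub_zero, sub_zero] at hk
  by_cases hmem : x * z0 ∈ Cl
  · exact (hmemCl _).1 hmem
  · rw [if_neg hmem] at hk
    exact absurd hk.symm one_ne_zero

end ker

end Cfsg.Agent.Lib.Helper12.Ex32
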