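import Mathlib
import Cfsg.Agent.Lib.Helper12.SpM

/-! Helper12 library (Ex32, part C): an isometry `y` of a 4-dimensional symplectic space with
`y^4 = 1` that is conjugate to `-y` satisfies `y^2 = ±1`. -/

set_option autoImplicit false
set_option linter.unusedSectionVars false
set_option linter.unusedVariables false
set_option linter.style.haveILetI false

namespace Cfsg.Agent.Lib.Helper12.Ex32

open Module Cfsg.Agent.Lib.Helper12.Elus Cfsg.Agent.Lib.Helper12.Sp

section sq

variable {F V : Type*} [Field F] [AddCommGroup V] [Module F V] [FiniteDimensional F V]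

theorem sq_central_abstract (B : LinearMap.BilinForm F V) (halt : ∀ v, B v v = 0)
    (hnd : ∀ a, (∀ z, B a z = 0) → a = 0) (h2 : (2 : F) ≠ 0) (hdim : finrank F V = 4)
    (y : V →ₗ[F] V) (hiso : ∀ u v, B (y u) (y v) = B u v) (hy4 : y ^ 4 = 1)
    (h : V ≃ₗ[F] V) (hconj : ∀ v, h (y v) = - y (h v)) :
    (∀ v, y (y v) = v) ∨ (∀ v, y (y v) = -v) := by
  haveI : Fact (Nat.Prime 2) := ⟨Nat.prime_two⟩
  have h2' : ((2 : ℕ) : F) ≠ 0 := by exact_mod_cast h2
  obtain ⟨s, hs⟩ : ∃ s : V →ₗ[F] V, s = y ^ 2 := ⟨_, rfl⟩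
  have hsv : ∀ v, s v = y (y v) := by
    intro v
    rw [hs, pow_two, Module.End.mul_apply]
  have hs2 : s ^ 2 = 1 := by
    rw [hs, ← pow_mul]
    exact hy4
  have hssv : ∀ v, s (s v) = v := by
    intro v
    have := congrArg (fun g : V →ₗ[F] V => g v) hs2
    simpa [pow_two] using this
  have hisos : ∀ u v, B (s u) (s v) = B u v := by
    intro u v
    rw [hs]
    exact iso_pow B y hiso 2 u v
  have htop : NdOn B (⊤ : Submodule F V) := by
    intro u _ hu0
    by_contra hcon
    push Not at hcon
    exact hu0 (hnd u (fun z => hcon z Submodule.mem_top))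
  have hE : NdOn B (fixE s) := by
    have := ndOn_inf_fix B s hisos 2 hs2 h2' ⊤ (fun _ _ => Submodule.mem_top) htop
    rwa [top_inf_eq] at this
  obtain ⟨Ep, hEp⟩ : ∃ Ep : Submodule F V, Ep = fixE y := ⟨_, rfl⟩
  obtain ⟨Em, hEm⟩ : ∃ Em : Submodule F V, Em = LinearMap.ker (y + 1) := ⟨_, rfl⟩
  have hmemp : ∀ v, v ∈ Ep ↔ y v = v := by
    intro v
    rw [hEp, mem_fixE]
  have hmemm : ∀ v, v ∈ Em ↔ y v = -v := by
    intro v
    rw [hEm, LinearMap.mem_ker, LinearMap.add_apply, Module.End.one_apply, add_eq_zero_iff_eq_neg]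
  have hmemE : ∀ v, v ∈ fixE s ↔ y (y v) = v := by
    intro v
    rw [mem_fixE, hsv]
  have hsum : Ep ⊔ Em = fixE s := by
    apply le_antisymm
    · apply sup_le
      · intro v hv
        rw [hmemE, (hmemp v).1 hv, (hmemp v).1 hv]
      · intro v hv
        rw [hmemE, (hmemm v).1 hv, map_neg, (hmemm v).1 hv, neg_neg]
    · intro v hv
      rw [hmemE] at hv
      have hv' : v = (2 : F)⁻¹ • (v + y v) + (2 : F)⁻¹ • (v - y v) := by
        rw [← smul_add]
        have : v + y v + (v - y v) = (2 : F) • v := by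
          rw [two_smul]
          abel
        rw [this, smul_smul, inv_mul_cancel₀ h2, one_smul]
      rw [hv']
      apply Submodule.add_mem
      · apply (le_sup_left : Ep ≤ Ep ⊔ Em)
        apply Submodule.smul_mem
        rw [hmemp, map_add, hv]
        abel
      · apply (le_sup_right : Em ≤ Ep ⊔ Em)
        apply Submodule.smul_mem
        rw [hmemm, map_sub, hv]
        abel
  have horth : ∀ a ∈ Ep, ∀ c ∈ Em, B a c = 0 := by
    intro a ha c hc
    have h1 := hiso a c
    rw [(hmemp a).1 ha, (hmemm c).1 hc, map_neg] at h1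
    have h3 : (2 : F) * B a c = 0 := by linear_combination -h1
    rcases mul_eq_zero.1 h3 with h4 | h4
    · exact absurd h4 h2
    · exact h4
  have hEpnd : NdOn B Ep := ndOn_of_orth_sum B Ep Em _ hsum horth hE
  have hEmnd : NdOn B Em := by
    apply ndOn_of_orth_sum B Em Ep _ (by rw [sup_comm]; exact hsum) _ hE
    intro a ha c hc
    rw [alt_swap B halt, horth c hc a ha, neg_zero]
  obtain ⟨kp, hkp⟩ := even_finrank_of_ndOn B halt _ hEpnd
  have hdisj : Ep ⊓ Em = ⊥ := by
    rw [eq_bot_iff]
    rintro v ⟨hv1, hv2⟩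
    rw [Submodule.mem_bot]
    have h1 := (hmemp v).1 hv1
    have h3 := (hmemm v).1 hv2
    rw [h1] at h3
    have h4 : (2 : F) • v = 0 := by
      rw [two_smul]
      nth_rewrite 1 [h3]
      exact neg_add_cancel v
    rcases smul_eq_zero.1 h4 with h5 | h5
    · exact absurd h5 h2
    · exact h5
  have hdimE : finrank F (fixE s) = finrank F Ep + finrank F Em := by
    have := Submodule.finrank_sup_add_finrank_inf_eq Ep Em
    rw [hsum, hdisj, finrank_bot, add_zero] at this
    exact this
  have hmap : Ep.map (h : V →ₗ[F] V) = Em := by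
    apply le_antisymm
    · rintro _ ⟨v, hv, rfl⟩
      rw [hmemm]
      show y (h v) = - h v
      have h1 := hconj v
      rw [(hmemp v).1 hv] at h1
      exact neg_eq_iff_eq_neg.1 h1.symm
    · intro w hw
      refine ⟨h.symm w, ?_, by simp⟩
      rw [SetLike.mem_coe, hmemp]
      apply h.injective
      rw [hconj, LinearEquiv.apply_symm_apply, (hmemm w).1 hw, neg_neg]
  have hdimm : finrank F Em = finrank F Ep := by
    rw [← hmap]
    exact LinearEquiv.finrank_map_eq h Ep
  have hle : finrank F (fixE s) ≤ 4 := by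
    rw [← hdim]
    exact Submodule.finrank_le _
  have hcases : finrank F (fixE s) = 0 ∨ finrank F (fixE s) = 4 := by omega
  rcases hcases with h0 | h4
  · right
    intro v
    have hbot : fixE s = ⊥ := Submodule.finrank_eq_zero.1 h0
    have h1 : v + y (y v) ∈ fixE s := by
      rw [hmemE, map_add, map_add, ← hsv (y (y v)), ← hsv v, hssv]
      abel
    rw [hbot, Submodule.mem_bot] at h1
    exact (eq_neg_of_add_eq_zero_right h1)
  · left
    intro v
    have htop' : fixE s = ⊤ := by
      apply Submodule.eq_top_of_finrank_eq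
      rw [h4, hdim]
    have : v ∈ fixE s := by rw [htop']; exact Submodule.mem_top
    exact (hmemE v).1 this

end sq

end Cfsg.Agent.Lib.Helper12.Ex32
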