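import Mathlib

/-! Helper12 library (Ex32, part D): abstract structure of a group of order 32 with a central
involution `z`, centre `{1, z}`, all squares in `{1, z}`, and no elementary abelian subgroup of
order 8: it is generated by `t1, t2, c1, c2` with the relations of `Q8 ∘ D8`. (Part 1: basic
commutation facts, the involutions `t1, t2`.) -/

set_option autoImplicit false
set_option linter.unusedSectionVars false
set_option linter.unusedVariables false
set_option linter.unusedSimpArgs false
set_option linter.unusedTactic false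
set_option linter.unreachableTactic false

namespace Cfsg.Agent.Lib.Helper12.Ex32

section grp

variable {G : Type*} [Group G]

/-- a central involution `z` such that every square is `1` or `z` and the centre is `{1, z}` -/
structure Hyp (z : G) : Prop where
  z1 : z ≠ 1
  zz : z * z = 1
  zc : ∀ g, g * z = z * g
  sq : ∀ x : G, x * x = 1 ∨ x * x = z
  cen : ∀ x : G, (∀ g, g * x = x * g) → x = 1 ∨ x = z

variable {z : G}

theorem Hyp.zinv (h : Hyp z) : z⁻¹ = z := inv_eq_of_mul_eq_one_left h.zz

theorem zz_rules (h : Hyp z) : z * z = 1 ∧ ∀ w, z * (z * w) = w :=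
  ⟨h.zz, fun w => by rw [← mul_assoc, h.zz, one_mul]⟩

theorem cen_rules (h : Hyp z) (a : G) : a * z = z * a ∧ ∀ w, a * (z * w) = z * (a * w) :=
  ⟨h.zc a, fun w => by rw [← mul_assoc, h.zc, mul_assoc]⟩

theorem pair_rules {a b κ : G} (hba : b * a = κ * (a * b)) :
    b * a = κ * (a * b) ∧ ∀ w, b * (a * w) = κ * (a * (b * w)) :=
  ⟨hba, fun w => by rw [← mul_assoc, hba, mul_assoc, mul_assoc]⟩

theorem sq_rules {a e : G} (haa : a * a = e) : a * a = e ∧ ∀ w, a * (a * w) = e * w :=
  ⟨haa, fun w => by rw [← mul_assoc, haa]⟩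

theorem Hyp.ne_z_mul (h : Hyp z) (x : G) : x ≠ z * x := by
  intro hx
  apply h.z1
  have : z * x = 1 * x := by rw [one_mul]; exact hx.symm
  exact mul_right_cancel this

theorem Hyp.comm (h : Hyp z) (x y : G) : y * x = x * y ∨ y * x = z * (x * y) := by
  have h1 : y * x = x⁻¹ * ((x * y) * (x * y)) * y⁻¹ := by group
  have hx : x⁻¹ = x * (x * x)⁻¹ := by group
  have hy : y⁻¹ = (y * y)⁻¹ * y := by group
  rw [hx, hy] at h1
  have hxz := cen_rules h x
  have hyz := cen_rules h y
  have hzz := zz_rules h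
  rcases h.sq x with ha | ha <;> rcases h.sq y with hb | hb <;> rcases h.sq (x * y) with he | he <;>
    rw [ha, hb, he] at h1 <;> rw [h1] <;>
    first
    | (left; simp only [inv_one, mul_one, one_mul, h.zinv, mul_assoc, hxz, hyz, hzz]; done)
    | (right; simp only [inv_one, mul_one, one_mul, h.zinv, mul_assoc, hxz, hyz, hzz]; done)

/-- commuting or anticommuting, with the sign as an element -/
theorem Hyp.comm' (h : Hyp z) (x y : G) : ∃ κ : G, (κ = 1 ∨ κ = z) ∧ y * x = κ * (x * y) := by
  rcases h.comm x y with h1 | h1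
  · exact ⟨1, Or.inl rfl, by rw [one_mul]; exact h1⟩
  · exact ⟨z, Or.inr rfl, h1⟩

theorem Hyp.anti_of_sq (h : Hyp z) (x y : G) (hx : x * x = z) (hy : y * y = z)
    (hxy : (x * y) * (x * y) = z) : y * x = z * (x * y) := by
  rcases h.comm x y with h1 | h1
  · exfalso
    apply h.z1
    have h1' : y * x = 1 * (x * y) := by rw [one_mul]; exact h1
    have h2 : (x * y) * (x * y) = 1 := by
      simp only [mul_assoc, pair_rules h1', sq_rules hx,
        sq_rules hy, cen_rules h x, cen_rules h y, zz_rules h, one_mul, mul_one]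
    rw [← hxy, h2]
  · exact h1

theorem Hyp.mul_ne_of (h : Hyp z) (x y : G) (hx : x * x = z) (hy1 : y ≠ x) (hy2 : y ≠ z * x) :
    x * y ≠ 1 ∧ x * y ≠ z := by
  constructor
  · intro h1
    apply hy2
    have h2 : x * (z * x) = 1 := by
      simp only [mul_assoc, sq_rules hx, cen_rules h x, zz_rules h]
    exact mul_left_cancel (h1.trans h2.symm)
  · intro h1
    apply hy1
    exact mul_left_cancel (h1.trans hx.symm)

theorem exists_notMem [Fintype G] (l : List G) (hl : l.length < Fintype.card G) :
    ∃ g : G, g ∉ l := by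
  classical
  by_contra hcon
  push Not at hcon
  have h1 : (Finset.univ : Finset G) ⊆ l.toFinset := by
    intro g _
    rw [List.mem_toFinset]
    exact hcon g
  have h2 := Finset.card_le_card h1
  rw [Finset.card_univ] at h2
  have h3 := List.toFinset_card_le l
  omega

/-- there is a non-central involution -/
theorem Hyp.exists_invol (h : Hyp z) [Fintype G] (hcard : 8 < Fintype.card G) :
    ∃ t : G, t * t = 1 ∧ t ≠ 1 ∧ t ≠ z := by
  by_contra hno
  push Not at hno
  have hsq' : ∀ x : G, x ≠ 1 → x ≠ z → x * x = z := by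
    intro x hx1 hxz
    rcases h.sq x with h1 | h1
    · exact absurd (hno x h1 hx1) hxz
    · exact h1
  obtain ⟨x, hx⟩ := exists_notMem [1, z] (by simp; omega)
  obtain ⟨y, hy⟩ := exists_notMem [1, z, x, z * x] (by simp; omega)
  obtain ⟨w, hw⟩ := exists_notMem [1, z, x, z * x, y, z * y, x * y, z * (x * y)] (by simp; omega)
  simp only [List.mem_cons, List.not_mem_nil, or_false, not_or] at hx hy hw
  have hxx := hsq' x hx.1 hx.2
  have hyy := hsq' y hy.1 hy.2.1
  have hww := hsq' w hw.1 hw.2.1
  have hu := h.mul_ne_of x y hxx hy.2.2.1 hy.2.2.2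
  have huu := hsq' (x * y) hu.1 hu.2
  have h1 := h.mul_ne_of x w hxx hw.2.2.1 hw.2.2.2.1
  have h2 := h.mul_ne_of y w hyy hw.2.2.2.2.1 hw.2.2.2.2.2.1
  have h3 := h.mul_ne_of (x * y) w huu hw.2.2.2.2.2.2.1 hw.2.2.2.2.2.2.2
  have a1 := h.anti_of_sq x w hxx hww (hsq' _ h1.1 h1.2)
  have a2 := h.anti_of_sq y w hyy hww (hsq' _ h2.1 h2.2)
  have a3 := h.anti_of_sq (x * y) w huu hww (hsq' _ h3.1 h3.2)
  have h4 : w * (x * y) = (x * y) * w := by
    simp only [mul_assoc, pair_rules a1, pair_rules a2, cen_rules h x, cen_rules h y,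
      cen_rules h w, zz_rules h]
  rw [h4] at a3
  apply h.z1
  have : z * (x * y * w) = 1 * (x * y * w) := by rw [one_mul]; exact a3.symm
  exact mul_right_cancel this

/-- a second involution anticommuting with the first -/
theorem Hyp.exists_anti (h : Hyp z) (t1 : G) (ht1 : t1 * t1 = 1) (hne1 : t1 ≠ 1) (hnez : t1 ≠ z) :
    ∃ t2 : G, t2 * t2 = 1 ∧ t2 * t1 = z * (t1 * t2) := by
  have h1 : ∃ g : G, g * t1 ≠ t1 * g := by
    by_contra hcon
    push Not at hcon
    rcases h.cen t1 hcon with h2 | h2
    · exact hne1 h2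
    · exact hnez h2
  obtain ⟨g, hg⟩ := h1
  have hg' : g * t1 = z * (t1 * g) := by
    rcases h.comm t1 g with h2 | h2
    · exact absurd h2 hg
    · exact h2
  rcases h.sq g with hgg | hgg
  · exact ⟨g, hgg, hg'⟩
  · refine ⟨g * t1, ?_, ?_⟩
    · simp only [mul_assoc, pair_rules hg', sq_rules ht1, sq_rules hgg, cen_rules h t1,
        cen_rules h g, zz_rules h, one_mul, mul_one]
    · simp only [mul_assoc, pair_rules hg', sq_rules ht1, sq_rules hgg, cen_rules h t1,
        cen_rules h g, zz_rules h, one_mul, mul_one]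

end grp

end Cfsg.Agent.Lib.Helper12.Ex32
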