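import Mathlib
import Cfsg.Agent.Lib.Helper12.Ex32D

/-! Helper12 library (Ex32, part E): abstract structure of the extraspecial group `2^{1+4}_-`
(part 2): the centralizer of the dihedral pair, the quaternion pair `c1, c2`, relations and the
normal form. -/

set_option autoImplicit false
set_option linter.unusedSectionVars false
set_option linter.unusedVariables false
set_option linter.unusedSimpArgs false
set_option linter.unusedTactic false
set_option linter.unreachableTactic false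

namespace Cfsg.Agent.Lib.Helper12.Ex32

section grp

variable {G : Type*} [Group G] {z : G}

/-- the relations of `Q8 ∘ D8` -/
structure Rel (z t1 t2 c1 c2 : G) : Prop where
  zz : z * z = 1
  zc : ∀ g, g * z = z * g
  t1t1 : t1 * t1 = 1
  t2t2 : t2 * t2 = 1
  t2t1 : t2 * t1 = z * (t1 * t2)
  c1c1 : c1 * c1 = z
  c2c2 : c2 * c2 = z
  c2c1 : c2 * c1 = z * (c1 * c2)
  t1c1 : t1 * c1 = c1 * t1
  t1c2 : t1 * c2 = c2 * t1
  t2c1 : t2 * c1 = c1 * t2
  t2c2 : t2 * c2 = c2 * t2

theorem Rel.rules {z t1 t2 c1 c2 : G} (r : Rel z t1 t2 c1 c2) :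
    (z * z = 1 ∧ ∀ w, z * (z * w) = w) ∧
    (c1 * z = z * c1 ∧ ∀ w, c1 * (z * w) = z * (c1 * w)) ∧
    (c2 * z = z * c2 ∧ ∀ w, c2 * (z * w) = z * (c2 * w)) ∧
    (t1 * z = z * t1 ∧ ∀ w, t1 * (z * w) = z * (t1 * w)) ∧
    (t2 * z = z * t2 ∧ ∀ w, t2 * (z * w) = z * (t2 * w)) ∧
    (t1 * t1 = 1 ∧ ∀ w, t1 * (t1 * w) = w) ∧
    (t2 * t2 = 1 ∧ ∀ w, t2 * (t2 * w) = w) ∧
    (c1 * c1 = z ∧ ∀ w, c1 * (c1 * w) = z * w) ∧
    (c2 * c2 = z ∧ ∀ w, c2 * (c2 * w) = z * w) ∧
    (t2 * t1 = z * (t1 * t2) ∧ ∀ w, t2 * (t1 * w) = z * (t1 * (t2 * w))) ∧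
    (c2 * c1 = z * (c1 * c2) ∧ ∀ w, c2 * (c1 * w) = z * (c1 * (c2 * w))) ∧
    (t1 * c1 = c1 * t1 ∧ ∀ w, t1 * (c1 * w) = c1 * (t1 * w)) ∧
    (t1 * c2 = c2 * t1 ∧ ∀ w, t1 * (c2 * w) = c2 * (t1 * w)) ∧
    (t2 * c1 = c1 * t2 ∧ ∀ w, t2 * (c1 * w) = c1 * (t2 * w)) ∧
    (t2 * c2 = c2 * t2 ∧ ∀ w, t2 * (c2 * w) = c2 * (t2 * w)) := by
  have key : ∀ a b c : G, a * b = c → ∀ w, a * (b * w) = c * w := by
    intro a b c h w
    rw [← mul_assoc, h]
  refine ⟨⟨r.zz, fun w => by rw [key _ _ _ r.zz, one_mul]⟩,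
    ⟨r.zc c1, fun w => by rw [key _ _ _ (r.zc c1), mul_assoc]⟩,
    ⟨r.zc c2, fun w => by rw [key _ _ _ (r.zc c2), mul_assoc]⟩,
    ⟨r.zc t1, fun w => by rw [key _ _ _ (r.zc t1), mul_assoc]⟩,
    ⟨r.zc t2, fun w => by rw [key _ _ _ (r.zc t2), mul_assoc]⟩,
    ⟨r.t1t1, fun w => by rw [key _ _ _ r.t1t1, one_mul]⟩,
    ⟨r.t2t2, fun w => by rw [key _ _ _ r.t2t2, one_mul]⟩,
    ⟨r.c1c1, fun w => by rw [key _ _ _ r.c1c1]⟩,
    ⟨r.c2c2, fun w => by rw [key _ _ _ r.c2c2]⟩,
    ⟨r.t2t1, fun w => by rw [key _ _ _ r.t2t1, mul_assoc, mul_assoc]⟩,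
    ⟨r.c2c1, fun w => by rw [key _ _ _ r.c2c1, mul_assoc, mul_assoc]⟩,
    ⟨r.t1c1, fun w => by rw [key _ _ _ r.t1c1, mul_assoc]⟩,
    ⟨r.t1c2, fun w => by rw [key _ _ _ r.t1c2, mul_assoc]⟩,
    ⟨r.t2c1, fun w => by rw [key _ _ _ r.t2c1, mul_assoc]⟩,
    ⟨r.t2c2, fun w => by rw [key _ _ _ r.t2c2, mul_assoc]⟩⟩

/-- centralizing the dihedral pair -/
def InC (t1 t2 c : G) : Prop := c * t1 = t1 * c ∧ c * t2 = t2 * c

theorem inC_mul {t1 t2 a b : G} (ha : InC t1 t2 a) (hb : InC t1 t2 b) : InC t1 t2 (a * b) := by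
  constructor
  · rw [mul_assoc, hb.1, ← mul_assoc, ha.1, mul_assoc]
  · rw [mul_assoc, hb.2, ← mul_assoc, ha.2, mul_assoc]

theorem Hyp.inC_z (h : Hyp z) (t1 t2 : G) : InC t1 t2 z := ⟨(h.zc t1).symm, (h.zc t2).symm⟩

/-- decomposition of an element relative to the dihedral pair -/
theorem Hyp.exists_decomp (h : Hyp z) {t1 t2 : G} (ht1 : t1 * t1 = 1) (ht2 : t2 * t2 = 1)
    (h21 : t2 * t1 = z * (t1 * t2)) (g : G) :
    ∃ c d : G, InC t1 t2 c ∧ (d = 1 ∨ d = t1 ∨ d = t2 ∨ d = t1 * t2) ∧ g = c * d := by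
  obtain ⟨κ1, hκ1, hg1⟩ := h.comm' t1 g
  obtain ⟨κ2, hκ2, hg2⟩ := h.comm' t2 g
  have R1 := pair_rules hg1
  have R2 := pair_rules hg2
  have R3 := pair_rules h21
  have S1 := sq_rules ht1
  have S2 := sq_rules ht2
  have Z1 := cen_rules h t1
  have Z2 := cen_rules h t2
  have Z3 := cen_rules h g
  have ZZ := zz_rules h
  rcases hκ1 with rfl | rfl <;> rcases hκ2 with rfl | rfl
  · refine ⟨g, 1, ⟨?_, ?_⟩, Or.inl rfl, (mul_one g).symm⟩
    · rw [hg1, one_mul]
    · rw [hg2, one_mul]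
  · refine ⟨g * t1, t1, ⟨?_, ?_⟩, Or.inr (Or.inl rfl), ?_⟩ <;>
      simp only [mul_assoc, R1, R2, R3, S1, S2, Z1, Z2, Z3, ZZ, one_mul, mul_one]
  · refine ⟨g * t2, t2, ⟨?_, ?_⟩, Or.inr (Or.inr (Or.inl rfl)), ?_⟩ <;>
      simp only [mul_assoc, R1, R2, R3, S1, S2, Z1, Z2, Z3, ZZ, one_mul, mul_one]
  · refine ⟨g * (t2 * t1), t1 * t2, ⟨?_, ?_⟩, Or.inr (Or.inr (Or.inr rfl)), ?_⟩ <;>
      simp only [mul_assoc, R1, R2, R3, S1, S2, Z1, Z2, Z3, ZZ, one_mul, mul_one]

/-- three commuting involutions, independent, generate an elementary abelian group of order at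
least 8 -/
theorem card_closure_ge_eight [Finite G] {a b c : G} (haa : a * a = 1) (hbb : b * b = 1) (hcc : c * c = 1)
    (hba : b * a = a * b) (hca : c * a = a * c) (hcb : c * b = b * c)
    (ha : a ≠ 1) (hb1 : b ≠ 1) (hb2 : b ≠ a) (hc1 : c ≠ 1) (hc2 : c ≠ a) (hc3 : c ≠ b)
    (hc4 : c ≠ a * b) :
    ∃ A : Subgroup G, IsMulCommutative A ∧ (∀ x ∈ A, x * x = 1) ∧ 8 ≤ Nat.card A := by
  have hba' : b * a = 1 * (a * b) := by rw [one_mul]; exact hba
  have hca' : c * a = 1 * (a * c) := by rw [one_mul]; exact hca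
  have hcb' : c * b = 1 * (b * c) := by rw [one_mul]; exact hcb
  have R1 := pair_rules hba'
  have R2 := pair_rules hca'
  have R3 := pair_rules hcb'
  have S1 := sq_rules haa
  have S2 := sq_rules hbb
  have S3 := sq_rules hcc
  obtain ⟨A, hA⟩ : ∃ A : Subgroup G, A = Subgroup.closure {a, b, c} := ⟨_, rfl⟩
  have haA : a ∈ A := by rw [hA]; exact Subgroup.subset_closure (by simp)
  have hbA : b ∈ A := by rw [hA]; exact Subgroup.subset_closure (by simp)
  have hcA : c ∈ A := by rw [hA]; exact Subgroup.subset_closure (by simp)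
  have hcomm : ∀ x ∈ A, ∀ y ∈ A, x * y = y * x := by
    intro x hx y hy
    rw [hA] at hx hy
    have hS : ∀ u ∈ ({a, b, c} : Set G), ∀ v ∈ ({a, b, c} : Set G), u * v = v * u := by
      intro u hu v hv
      simp only [Set.mem_insert_iff, Set.mem_singleton_iff] at hu hv
      rcases hu with rfl | rfl | rfl <;> rcases hv with rfl | rfl | rfl <;>
        first
        | rfl
        | exact hba
        | exact hba.symm
        | exact hca
        | exact hca.symm
        | exact hcb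
        | exact hcb.symm
    exact Subgroup.closure_induction₂ (p := fun x y _ _ => x * y = y * x)
      (fun u v hu hv => hS u hu v hv)
      (fun u _ => by rw [one_mul, mul_one]) (fun u _ => by rw [one_mul, mul_one])
      (fun u v w _ _ _ h1 h2 => by rw [mul_assoc, h2, ← mul_assoc, h1, mul_assoc])
      (fun u v w _ _ _ h1 h2 => by rw [← mul_assoc, h1, mul_assoc, h2, mul_assoc])
      (fun u v _ _ h1 => by
        have : u⁻¹ * v = u⁻¹ * (v * u) * u⁻¹ := by group
        rw [this, ← h1]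
        group)
      (fun u v _ _ h1 => by
        have : u * v⁻¹ = v⁻¹ * (v * u) * v⁻¹ := by group
        rw [this, ← h1]
        group) hx hy
  have hsq : ∀ x ∈ A, x * x = 1 := by
    intro x hx
    have hx' := hx
    rw [hA] at hx'
    induction hx' using Subgroup.closure_induction with
    | mem u hu =>
      simp only [Set.mem_insert_iff, Set.mem_singleton_iff] at hu
      rcases hu with rfl | rfl | rfl
      · exact haa
      · exact hbb
      · exact hcc
    | one => exact one_mul 1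
    | mul u v hu hv ihu ihv =>
      have huA : u ∈ A := by rw [hA]; exact hu
      have hvA : v ∈ A := by rw [hA]; exact hv
      have h1 := hcomm u huA v hvA
      calc u * v * (u * v) = u * (v * u) * v := by simp only [mul_assoc]
        _ = u * (u * v) * v := by rw [h1]
        _ = (u * u) * (v * v) := by simp only [mul_assoc]
        _ = 1 := by rw [ihu huA, ihv hvA, one_mul]
    | inv u hu ihu =>
      have huA : u ∈ A := by rw [hA]; exact hu
      have h1 := ihu huA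
      have : u⁻¹ = u := inv_eq_of_mul_eq_one_left h1
      rw [this]
      exact h1
  refine ⟨A, ⟨⟨fun x y => Subtype.ext (hcomm x x.2 y y.2)⟩⟩, hsq, ?_⟩
  -- eight distinct elements
  let f : Fin 2 × Fin 2 × Fin 2 → A := fun p =>
    ⟨a ^ (p.1 : ℕ) * (b ^ (p.2.1 : ℕ) * c ^ (p.2.2 : ℕ)),
      A.mul_mem (A.pow_mem haA _) (A.mul_mem (A.pow_mem hbA _) (A.pow_mem hcA _))⟩
  have hab1 : a * b ≠ 1 := by
    intro h1
    apply hb2
    have : a * b = a * a := by rw [h1, haa]
    exact mul_left_cancel this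
  have hac1 : a * c ≠ 1 := by
    intro h1
    apply hc2
    have : a * c = a * a := by rw [h1, haa]
    exact mul_left_cancel this
  have hbc1 : b * c ≠ 1 := by
    intro h1
    apply hc3
    have : b * c = b * b := by rw [h1, hbb]
    exact mul_left_cancel this
  have habc1 : a * (b * c) ≠ 1 := by
    intro h1
    apply hc4
    have : a * (b * c) = a * (b * (a * b)) := by
      rw [h1]
      simp only [mul_assoc, R1, S1, S2, one_mul, mul_one]
    exact mul_left_cancel (mul_left_cancel this)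
  have hne : ∀ p : Fin 2 × Fin 2 × Fin 2, p ≠ (0, 0, 0) → (f p : G) ≠ 1 := by
    rintro ⟨i, j, k⟩ hp
    fin_cases i <;> fin_cases j <;> fin_cases k <;>
      simp only [f, Fin.zero_eta, Fin.mk_one, Fin.isValue, Fin.val_zero, Fin.val_one, pow_zero,
        pow_one, one_mul, mul_one, ne_eq, not_true_eq_false] at hp ⊢ <;>
      first
      | exact hp rfl
      | exact ha
      | exact hb1
      | exact hc1
      | exact hab1
      | exact hac1
      | exact hbc1
      | exact habc1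
  have hmul : ∀ p q : Fin 2 × Fin 2 × Fin 2,
      (f p : G) * (f q : G) = (f (p.1 + q.1, p.2.1 + q.2.1, p.2.2 + q.2.2) : G) := by
    rintro ⟨i, j, k⟩ ⟨i', j', k'⟩
    fin_cases i <;> fin_cases j <;> fin_cases k <;> fin_cases i' <;> fin_cases j' <;>
      fin_cases k' <;>
      simp only [f, Fin.zero_eta, Fin.mk_one, Fin.isValue, Fin.val_zero, Fin.val_one, pow_zero,
        pow_one, one_mul, mul_one, add_zero, zero_add, mul_assoc, R1, R2, R3, S1, S2, S3,
        (by decide : (1 : Fin 2) + 1 = 0)]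
  have hinj : Function.Injective f := by
    intro p q hpq
    have h1 : (f p : G) * (f q : G) = 1 := by
      rw [hpq]
      exact hsq _ (f q).2
    rw [hmul] at h1
    by_contra hne'
    apply hne _ _ h1
    intro h2
    apply hne'
    obtain ⟨i, j, k⟩ := p
    obtain ⟨i', j', k'⟩ := q
    simp only [Prod.mk.injEq] at h2 ⊢
    refine ⟨?_, ?_, ?_⟩
    · have := h2.1
      revert this
      fin_cases i <;> fin_cases i' <;> decide
    · have := h2.2.1
      revert this
      fin_cases j <;> fin_cases j' <;> decide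
    · have := h2.2.2
      revert this
      fin_cases k <;> fin_cases k' <;> decide
  have := Nat.card_le_card_of_injective f hinj
  simpa using this

end grp

end Cfsg.Agent.Lib.Helper12.Ex32
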