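import Mathlib
import Cfsg.Agent.Lib.Helper12.Ex32E

/-! Helper12 library (Ex32, part F): abstract structure of the extraspecial group `2^{1+4}_-`
(part 3): the structure theorem. -/

set_option autoImplicit false
set_option linter.unusedSectionVars false
set_option linter.unusedVariables false
set_option linter.unusedSimpArgs false
set_option linter.unusedTactic false
set_option linter.unreachableTactic false

namespace Cfsg.Agent.Lib.Helper12.Ex32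

section grp

variable {G : Type*} [Group G] {z : G}

theorem Hyp.sq_of_inC (h : Hyp z) [Finite G]
    (hminus : ∀ A : Subgroup G, IsMulCommutative A → (∀ x ∈ A, x * x = 1) → Nat.card A < 8)
    {t1 t2 : G} (ht1 : t1 * t1 = 1) (hne1 : t1 ≠ 1) (hnez : t1 ≠ z)
    (h21 : t2 * t1 = z * (t1 * t2))
    (c : G) (hc : InC t1 t2 c) (hc1 : c ≠ 1) (hcz : c ≠ z) : c * c = z := by
  rcases h.sq c with hcc | hcc
  · exfalso
    have hc3 : c ≠ t1 := by
      rintro rfl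
      have h1 := hc.2
      rw [h21] at h1
      exact h.ne_z_mul _ h1
    have hc4 : c ≠ z * t1 := by
      rintro rfl
      have h1 := hc.2
      have h2 : z * t1 * t2 = z * (t1 * t2) := mul_assoc _ _ _
      have h3 : t2 * (z * t1) = t1 * t2 := by
        simp only [mul_assoc, pair_rules h21, cen_rules h t1, cen_rules h t2, zz_rules h]
      rw [h2, h3] at h1
      exact h.ne_z_mul _ h1.symm
    obtain ⟨A, hA1, hA2, hA3⟩ := card_closure_ge_eight h.zz ht1 hcc (h.zc t1) (h.zc c) hc.1 h.z1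
      hne1 hnez hc1 hcz hc3 hc4
    have := hminus A hA1 hA2
    omega
  · exact hcc

theorem Hyp.exists_c1 (h : Hyp z) [Fintype G] (hcard : 8 < Fintype.card G) {t1 t2 : G}
    (ht1 : t1 * t1 = 1) (ht2 : t2 * t2 = 1) (h21 : t2 * t1 = z * (t1 * t2)) :
    ∃ c1 : G, InC t1 t2 c1 ∧ c1 ≠ 1 ∧ c1 ≠ z := by
  obtain ⟨g, hg⟩ := exists_notMem [1, z, t1, z * t1, t2, z * t2, t1 * t2, z * (t1 * t2)]
    (by simp; omega)
  simp only [List.mem_cons, List.not_mem_nil, or_false, not_or] at hg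
  obtain ⟨c, d, hc, hd, rfl⟩ := h.exists_decomp ht1 ht2 h21 g
  refine ⟨c, hc, ?_, ?_⟩
  · rintro rfl
    simp only [one_mul] at hg
    rcases hd with rfl | rfl | rfl | rfl
    · exact hg.1 rfl
    · exact hg.2.2.1 rfl
    · exact hg.2.2.2.2.1 rfl
    · exact hg.2.2.2.2.2.2.1 rfl
  · rintro rfl
    rcases hd with rfl | rfl | rfl | rfl
    · exact hg.2.1 (mul_one _)
    · exact hg.2.2.2.1 rfl
    · exact hg.2.2.2.2.2.1 rfl
    · exact hg.2.2.2.2.2.2.2 rfl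

theorem Hyp.exists_c2 (h : Hyp z) [Fintype G] (hcard : 16 < Fintype.card G) {t1 t2 : G}
    (ht1 : t1 * t1 = 1) (ht2 : t2 * t2 = 1) (h21 : t2 * t1 = z * (t1 * t2)) (c1 : G) :
    ∃ c2 : G, InC t1 t2 c2 ∧ c2 ≠ 1 ∧ c2 ≠ z ∧ c2 ≠ c1 ∧ c2 ≠ z * c1 := by
  obtain ⟨g, hg⟩ := exists_notMem [1, z, t1, z * t1, t2, z * t2, t1 * t2, z * (t1 * t2),
    c1, z * c1, c1 * t1, z * c1 * t1, c1 * t2, z * c1 * t2, c1 * (t1 * t2), z * c1 * (t1 * t2)]
    (by simp; omega)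
  simp only [List.mem_cons, List.not_mem_nil, or_false, not_or] at hg
  obtain ⟨c, d, hc, hd, rfl⟩ := h.exists_decomp ht1 ht2 h21 g
  refine ⟨c, hc, ?_, ?_, ?_, ?_⟩
  · rintro rfl
    simp only [one_mul] at hg
    rcases hd with rfl | rfl | rfl | rfl
    · exact hg.1 rfl
    · exact hg.2.2.1 rfl
    · exact hg.2.2.2.2.1 rfl
    · exact hg.2.2.2.2.2.2.1 rfl
  · rintro rfl
    rcases hd with rfl | rfl | rfl | rfl
    · exact hg.2.1 (mul_one _)
    · exact hg.2.2.2.1 rfl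
    · exact hg.2.2.2.2.2.1 rfl
    · exact hg.2.2.2.2.2.2.2.1 rfl
  · rintro rfl
    rcases hd with rfl | rfl | rfl | rfl
    · exact hg.2.2.2.2.2.2.2.2.1 (mul_one _)
    · exact hg.2.2.2.2.2.2.2.2.2.2.1 rfl
    · exact hg.2.2.2.2.2.2.2.2.2.2.2.2.1 rfl
    · exact hg.2.2.2.2.2.2.2.2.2.2.2.2.2.2.1 rfl
  · rintro rfl
    rcases hd with rfl | rfl | rfl | rfl
    · exact hg.2.2.2.2.2.2.2.2.2.1 (mul_one _)
    · exact hg.2.2.2.2.2.2.2.2.2.2.2.1 rfl
    · exact hg.2.2.2.2.2.2.2.2.2.2.2.2.2.1 rfl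
    · exact hg.2.2.2.2.2.2.2.2.2.2.2.2.2.2.2 rfl


/-- decomposition of an element relative to the quaternion pair -/
theorem Hyp.exists_decomp' (h : Hyp z) {c1 c2 : G} (hc1 : c1 * c1 = z) (hc2 : c2 * c2 = z)
    (h21 : c2 * c1 = z * (c1 * c2)) (g : G) :
    ∃ e q : G, InC c1 c2 e ∧ (q = 1 ∨ q = c1 ∨ q = c2 ∨ q = c1 * c2) ∧ (e⁻¹ * g = q) ∧
      g = e * q := by
  obtain ⟨κ1, hκ1, hg1⟩ := h.comm' c1 g
  obtain ⟨κ2, hκ2, hg2⟩ := h.comm' c2 g
  have R3 := pair_rules h21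
  have S1 := sq_rules hc1
  have S2 := sq_rules hc2
  have Z1 := cen_rules h c1
  have Z2 := cen_rules h c2
  have Z3 := cen_rules h g
  have ZZ := zz_rules h
  have key : ∀ e q : G, g = e * q → e⁻¹ * g = q := by
    intro e q hq
    rw [hq]
    group
  rcases hκ1 with h1 | h1 <;> rcases hκ2 with h2 | h2 <;> rw [h1] at hg1 <;> rw [h2] at hg2 <;>
    have R1 := pair_rules hg1 <;> have R2 := pair_rules hg2
  · have h3 : g = g * 1 := (mul_one g).symm
    refine ⟨g, 1, ⟨?_, ?_⟩, Or.inl rfl, key _ _ h3, h3⟩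
    · rw [hg1, one_mul]
    · rw [hg2, one_mul]
  · have h3 : g = (z * (g * c1)) * c1 := by
      simp only [mul_assoc, R1, R2, R3, S1, S2, Z1, Z2, Z3, ZZ, one_mul, mul_one]
    refine ⟨z * (g * c1), c1, ⟨?_, ?_⟩, Or.inr (Or.inl rfl), key _ _ h3, h3⟩ <;>
      simp only [mul_assoc, R1, R2, R3, S1, S2, Z1, Z2, Z3, ZZ, one_mul, mul_one]
  · have h3 : g = (z * (g * c2)) * c2 := by
      simp only [mul_assoc, R1, R2, R3, S1, S2, Z1, Z2, Z3, ZZ, one_mul, mul_one]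
    refine ⟨z * (g * c2), c2, ⟨?_, ?_⟩, Or.inr (Or.inr (Or.inl rfl)), key _ _ h3, h3⟩ <;>
      simp only [mul_assoc, R1, R2, R3, S1, S2, Z1, Z2, Z3, ZZ, one_mul, mul_one]
  · have h3 : g = (g * (c2 * c1)) * (c1 * c2) := by
      simp only [mul_assoc, R1, R2, R3, S1, S2, Z1, Z2, Z3, ZZ, one_mul, mul_one]
    refine ⟨g * (c2 * c1), c1 * c2, ⟨?_, ?_⟩, Or.inr (Or.inr (Or.inr rfl)), key _ _ h3, h3⟩ <;>
      simp only [mul_assoc, R1, R2, R3, S1, S2, Z1, Z2, Z3, ZZ, one_mul, mul_one]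

end grp

end Cfsg.Agent.Lib.Helper12.Ex32
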