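import Mathlib
import Cfsg.Agent.Lib.Helper12.Ex32F

/-! Helper12 library (Ex32, part G): abstract structure of the extraspecial group `2^{1+4}_-`
(part 4): the structure theorem (generators, relations, normal form). -/

set_option autoImplicit false
set_option linter.unusedSectionVars false
set_option linter.unusedVariables false
set_option linter.unusedSimpArgs false
set_option linter.unusedTactic false
set_option linter.unreachableTactic false

namespace Cfsg.Agent.Lib.Helper12.Ex32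

section grp

variable {G : Type*} [Group G] {z : G}

/-- an element commuting with all four generators is `1` or `z` -/
theorem Hyp.central_of_comm (h : Hyp z) [Finite G]
    (hminus : ∀ A : Subgroup G, IsMulCommutative A → (∀ x ∈ A, x * x = 1) → Nat.card A < 8)
    {t1 t2 c1 c2 : G} (ht1 : t1 * t1 = 1) (hne1 : t1 ≠ 1) (hnez : t1 ≠ z)
    (h21 : t2 * t1 = z * (t1 * t2)) (hc1 : c1 * c1 = z)
    (hC1 : InC t1 t2 c1) (hc21 : c2 * c1 = z * (c1 * c2))
    (e : G) (he : InC t1 t2 e) (he' : InC c1 c2 e) : e = 1 ∨ e = z := by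
  by_contra hcon
  push Not at hcon
  have hee := h.sq_of_inC hminus ht1 hne1 hnez h21 e he hcon.1 hcon.2
  -- now `e * c1` is an involution commuting with `t1`, `t2`
  have hec : InC t1 t2 (e * c1) := inC_mul he hC1
  have h1 : (e * c1) * (e * c1) = 1 := by
    have h2 : c1 * e = 1 * (e * c1) := by rw [one_mul]; exact he'.1.symm
    simp only [mul_assoc, pair_rules h2, sq_rules hee, sq_rules hc1, zz_rules h, cen_rules h e,
      cen_rules h c1, one_mul, mul_one]
  have h3 : e * c1 = 1 ∨ e * c1 = z := by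
    by_contra hcon2
    push Not at hcon2
    have := h.sq_of_inC hminus ht1 hne1 hnez h21 (e * c1) hec hcon2.1 hcon2.2
    rw [h1] at this
    exact h.z1 this.symm
  -- so `e = c1⁻¹` or `e = z c1⁻¹`, which do not commute with `c2`
  have h4 : e = z * c1 ∨ e = c1 := by
    rcases h3 with h3 | h3
    · left
      have : e * c1 = (z * c1) * c1 := by
        rw [h3]
        simp only [mul_assoc, sq_rules hc1, zz_rules h]
      exact mul_right_cancel this
    · right
      have : e * c1 = c1 * c1 := by rw [h3, hc1]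
      exact mul_right_cancel this
  have h5 := he'.2
  rcases h4 with rfl | rfl
  · have h6 : c2 * (z * c1) = c1 * c2 := by
      simp only [mul_assoc, pair_rules hc21, cen_rules h c1, cen_rules h c2, zz_rules h]
    rw [h6, mul_assoc] at h5
    exact h.ne_z_mul _ h5.symm
  · rw [hc21] at h5
    exact h.ne_z_mul _ h5

/-- **Structure theorem** for `2^{1+4}_-`. -/
theorem Hyp.structure_thm (h : Hyp z) [Fintype G] (hcard : 16 < Fintype.card G)
    (hminus : ∀ A : Subgroup G, IsMulCommutative A → (∀ x ∈ A, x * x = 1) → Nat.card A < 8) :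
    ∃ t1 t2 c1 c2 : G, Rel z t1 t2 c1 c2 ∧ t1 ≠ 1 ∧ t1 ≠ z ∧
      ∀ g : G, ∃ ε q d : G, (ε = 1 ∨ ε = z) ∧ (q = 1 ∨ q = c1 ∨ q = c2 ∨ q = c1 * c2) ∧
        (d = 1 ∨ d = t1 ∨ d = t2 ∨ d = t1 * t2) ∧ g = ε * (q * d) := by
  obtain ⟨t1, ht1, hne1, hnez⟩ := h.exists_invol (by omega)
  obtain ⟨t2, ht2, h21⟩ := h.exists_anti t1 ht1 hne1 hnez
  obtain ⟨c1, hC1, hc11, hc1z⟩ := h.exists_c1 (by omega) ht1 ht2 h21
  have hc1 := h.sq_of_inC hminus ht1 hne1 hnez h21 c1 hC1 hc11 hc1z
  obtain ⟨c2, hC2, hc21, hc2z, hc2a, hc2b⟩ := h.exists_c2 hcard ht1 ht2 h21 c1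
  have hc2 := h.sq_of_inC hminus ht1 hne1 hnez h21 c2 hC2 hc21 hc2z
  have hC12 : InC t1 t2 (c1 * c2) := inC_mul hC1 hC2
  have hne12 := h.mul_ne_of c1 c2 hc1 hc2a hc2b
  have hc12 := h.sq_of_inC hminus ht1 hne1 hnez h21 (c1 * c2) hC12 hne12.1 hne12.2
  have hanti := h.anti_of_sq c1 c2 hc1 hc2 hc12
  refine ⟨t1, t2, c1, c2, ⟨h.zz, h.zc, ht1, ht2, h21, hc1, hc2, hanti, hC1.1.symm, hC2.1.symm,
    hC1.2.symm, hC2.2.symm⟩, hne1, hnez, ?_⟩
  intro g
  obtain ⟨c, d, hc, hd, rfl⟩ := h.exists_decomp ht1 ht2 h21 g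
  obtain ⟨e, q, he, hq, heq, rfl⟩ := h.exists_decomp' hc1 hc2 hanti c
  have hqC : InC t1 t2 q := by
    rcases hq with rfl | rfl | rfl | rfl
    · exact ⟨by rw [one_mul, mul_one], by rw [one_mul, mul_one]⟩
    · exact hC1
    · exact hC2
    · exact hC12
  have heC : InC t1 t2 e := by
    have h1 : e = (e * q) * q⁻¹ := by group
    have hqi : InC t1 t2 q⁻¹ := by
      constructor
      · have := hqC.1
        calc q⁻¹ * t1 = q⁻¹ * (t1 * q) * q⁻¹ := by group
          _ = q⁻¹ * (q * t1) * q⁻¹ := by rw [this]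
          _ = t1 * q⁻¹ := by group
      · have := hqC.2
        calc q⁻¹ * t2 = q⁻¹ * (t2 * q) * q⁻¹ := by group
          _ = q⁻¹ * (q * t2) * q⁻¹ := by rw [this]
          _ = t2 * q⁻¹ := by group
    rw [h1]
    exact inC_mul hc hqi
  have hez := h.central_of_comm hminus ht1 hne1 hnez h21 hc1 hC1 hanti e heC he
  exact ⟨e, q, d, hez, hq, hd, by rw [mul_assoc]⟩

end grp

end Cfsg.Agent.Lib.Helper12.Ex32
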