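import Mathlib
import Cfsg.Agent.Lib.Helper12.Ex32G

/-! Helper12 library (Ex32, part H): abstract structure of the extraspecial group `2^{1+4}_-`
(part 5): five pairwise anticommuting involutions, classification of the involutions. -/

set_option autoImplicit false
set_option linter.unusedSectionVars false
set_option linter.unusedVariables false
set_option linter.unusedSimpArgs false
set_option linter.unusedTactic false
set_option linter.unreachableTactic false

namespace Cfsg.Agent.Lib.Helper12.Ex32

section grp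

variable {G : Type*} [Group G] {z : G}

/-- five pairwise anticommuting involutions generating the group, every involution being one of
them up to the central sign -/
structure Five (z : G) (T : Fin 5 → G) : Prop where
  sq : ∀ i, T i * T i = 1
  anti : ∀ i j, i ≠ j → T j * T i = z * (T i * T j)
  invol : ∀ g : G, g * g = 1 → g = 1 ∨ g = z ∨ ∃ i, g = T i ∨ g = z * T i
  gen : Subgroup.closure (Set.range T) = ⊤
  exsq : (T 0 * T 1) * (T 0 * T 1) = z

theorem Hyp.exists_five (h : Hyp z) [Fintype G] (hcard : 16 < Fintype.card G)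
    (hminus : ∀ A : Subgroup G, IsMulCommutative A → (∀ x ∈ A, x * x = 1) → Nat.card A < 8) :
    ∃ T : Fin 5 → G, Five z T := by
  obtain ⟨t1, t2, c1, c2, r, hne1, hnez, hnf⟩ := h.structure_thm hcard hminus
  have R := r.rules
  obtain ⟨R1, R2, R3, R4, R5, R6, R7, R8, R9, R10, R11, R12, R13, R14, R15⟩ := R
  refine ⟨![t1, t2, c1 * (t1 * t2), c2 * (t1 * t2), c1 * (c2 * (t1 * t2))], ?_, ?_, ?_, ?_, ?_⟩
  · intro i
    fin_cases i <;>
      simp only [Fin.zero_eta, Fin.mk_one, Fin.reduceFinMk, Matrix.cons_val_zero,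
        Matrix.cons_val_one, Matrix.cons_val, Fin.isValue,
        mul_assoc, R1, R2, R3, R4, R5, R6, R7, R8, R9, R10, R11, R12, R13, R14, R15, one_mul,
        mul_one]
  · intro i j hij
    fin_cases i <;> fin_cases j <;>
      first
      | exact absurd rfl hij
      | simp only [Fin.zero_eta, Fin.mk_one, Fin.reduceFinMk, Matrix.cons_val_zero,
          Matrix.cons_val_one, Matrix.cons_val, Fin.isValue,
          mul_assoc, R1, R2, R3, R4, R5, R6, R7, R8, R9, R10, R11, R12, R13, R14, R15, one_mul,
          mul_one]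
  · intro g hg
    obtain ⟨ε, q, d, hε, hq, hd, rfl⟩ := hnf g
    have hz1 := h.z1
    rcases hε with rfl | rfl <;> rcases hq with rfl | rfl | rfl | rfl <;>
      rcases hd with rfl | rfl | rfl | rfl <;>
      simp only [mul_assoc, R1, R2, R3, R4, R5, R6, R7, R8, R9, R10, R11, R12, R13, R14, R15,
        one_mul, mul_one] at hg ⊢ <;>
      first
      | (left; rfl)
      | (right; left; rfl)
      | (right; right; exact ⟨0, Or.inl rfl⟩)
      | (right; right; exact ⟨0, Or.inr rfl⟩)
      | (right; right; exact ⟨1, Or.inl rfl⟩)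
      | (right; right; exact ⟨1, Or.inr rfl⟩)
      | (right; right; exact ⟨2, Or.inl rfl⟩)
      | (right; right; exact ⟨2, Or.inr rfl⟩)
      | (right; right; exact ⟨3, Or.inl rfl⟩)
      | (right; right; exact ⟨3, Or.inr rfl⟩)
      | (right; right; exact ⟨4, Or.inl rfl⟩)
      | (right; right; exact ⟨4, Or.inr rfl⟩)
      | exact absurd hg hz1
      | exact absurd hg.symm hz1
      | (left; trivial)
      | (right; left; trivial)
  · rw [eq_top_iff]
    intro g _
    obtain ⟨S, hS⟩ : ∃ S : Subgroup G, S = Subgroup.closure (Set.range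
      ![t1, t2, c1 * (t1 * t2), c2 * (t1 * t2), c1 * (c2 * (t1 * t2))]) := ⟨_, rfl⟩
    rw [← hS]
    have hmem : ∀ i, ![t1, t2, c1 * (t1 * t2), c2 * (t1 * t2), c1 * (c2 * (t1 * t2))] i ∈ S := by
      intro i
      rw [hS]
      exact Subgroup.subset_closure ⟨i, rfl⟩
    have m1 : t1 ∈ S := hmem 0
    have m2 : t2 ∈ S := hmem 1
    have m3 : c1 * (t1 * t2) ∈ S := hmem 2
    have m4 : c2 * (t1 * t2) ∈ S := hmem 3
    have m12 : t1 * t2 ∈ S := S.mul_mem m1 m2
    have mz : z ∈ S := by
      have : z = (t1 * t2) * (t1 * t2) := by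
        simp only [mul_assoc, R1, R2, R3, R4, R5, R6, R7, R8, R9, R10, R11, R12, R13, R14, R15,
          one_mul, mul_one]
      rw [this]
      exact S.mul_mem m12 m12
    have mc1 : c1 ∈ S := by
      have : c1 = (c1 * (t1 * t2)) * (t1 * t2)⁻¹ := by group
      rw [this]
      exact S.mul_mem m3 (S.inv_mem m12)
    have mc2 : c2 ∈ S := by
      have : c2 = (c2 * (t1 * t2)) * (t1 * t2)⁻¹ := by group
      rw [this]
      exact S.mul_mem m4 (S.inv_mem m12)
    obtain ⟨ε, q, d, hε, hq, hd, rfl⟩ := hnf g
    refine S.mul_mem ?_ (S.mul_mem ?_ ?_)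
    · rcases hε with rfl | rfl
      · exact S.one_mem
      · exact mz
    · rcases hq with rfl | rfl | rfl | rfl
      · exact S.one_mem
      · exact mc1
      · exact mc2
      · exact S.mul_mem mc1 mc2
    · rcases hd with rfl | rfl | rfl | rfl
      · exact S.one_mem
      · exact m1
      · exact m2
      · exact m12
  · simp only [Fin.zero_eta, Fin.mk_one, Fin.reduceFinMk, Matrix.cons_val_zero,
        Matrix.cons_val_one, Matrix.cons_val, Fin.isValue,
        mul_assoc, R1, R2, R3, R4, R5, R6, R7, R8, R9, R10, R11, R12, R13, R14, R15, one_mul,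
        mul_one]

end grp

end Cfsg.Agent.Lib.Helper12.Ex32
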