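import Mathlib
import Cfsg.Agent.Lib.Helper12.Ex32B
import Cfsg.Agent.Lib.Helper12.Ex32C
import Cfsg.Agent.Lib.Helper12.Ex32H
import Cfsg.Agent.Lib.Helper12.C3SpC

/-! Helper12 library (Ex32, part I): the bridge from the matrix hypotheses of the extraspecial
normalizer statement in `Sp₄(p)` to the abstract hypotheses `Hyp`. -/

set_option autoImplicit false
set_option linter.unusedSectionVars false
set_option linter.unusedVariables false
set_option linter.style.haveILetI false

namespace Cfsg.Agent.Lib.Helper12.Ex32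

open Matrix Module Cfsg.Agent.Lib.Helper12.Sp Cfsg.Agent.Lib.Helper15
open scoped MatrixGroups

section bridge

variable {F : Type*} [Field F]

/-- a scalar matrix in the symplectic group is `±1` -/
theorem scalar_of_sp (c : F)
    (h : ∀ u v : Fin 2 ⊕ Fin 2 → F, Cfsg.sympForm 2 F ((c • (1 : Matrix (Fin 2 ⊕ Fin 2)
      (Fin 2 ⊕ Fin 2) F)) *ᵥ u) ((c • (1 : Matrix (Fin 2 ⊕ Fin 2) (Fin 2 ⊕ Fin 2) F)) *ᵥ v) =
      Cfsg.sympForm 2 F u v) : c = 1 ∨ c = -1 := by
  haveI : Nontrivial (Fin 2 ⊕ Fin 2 → F) := Function.nontrivial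
  have h1 : c * c = 1 := by
    apply scalar_sq_eq_one (sympBilin 2 (F := F)) (stdB_nd 2) c
    intro u v
    rw [sympBilin_apply, sympBilin_apply]
    have := h u v
    rwa [Matrix.smul_mulVec, Matrix.smul_mulVec, Matrix.one_mulVec, Matrix.one_mulVec] at this
  have h2 : (c - 1) * (c + 1) = 0 := by linear_combination h1
  rcases mul_eq_zero.1 h2 with h3 | h3
  · left; exact sub_eq_zero.1 h3
  · right; exact eq_neg_of_add_eq_zero_left h3

variable (R : Subgroup (GL (Fin 2 ⊕ Fin 2) F))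

theorem sp_of_mem (hRf : R ≤ Cfsg.spGL 2 F) (x : R) (u v : Fin 2 ⊕ Fin 2 → F) :
    Cfsg.sympForm 2 F (mat R x *ᵥ u) (mat R x *ᵥ v) = Cfsg.sympForm 2 F u v :=
  (C3Sp.mem_spGL' 2 (x : GL (Fin 2 ⊕ Fin 2) F)).1 (hRf x.2) u v

/-- the central element `-1` -/
theorem exists_z0 (hRi : Cfsg.Geo.ActsAbsolutelyIrreducibly (Cfsg.Geo.matrixSet R))
    (hRf : R ≤ Cfsg.spGL 2 F) (hRZ : Nat.card (Subgroup.center R) = 2) :
    ∃ z0 : R, mat R z0 = -1 ∧ (∀ g : R, g * z0 = z0 * g) ∧
      ∀ x : R, (∀ g : R, g * x = x * g) → x = 1 ∨ x = z0 := by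
  obtain ⟨a, b, hab, huniv⟩ := Nat.card_eq_two_iff.1 hRZ
  -- a non-identity central element
  obtain ⟨w, hw1⟩ : ∃ w : Subgroup.center R, w ≠ 1 := by
    by_cases ha : a = 1
    · exact ⟨b, fun hb => hab (ha.trans hb.symm)⟩
    · exact ⟨a, ha⟩
  have hall : ∀ y : Subgroup.center R, y = 1 ∨ y = w := by
    intro y
    have hy : y ∈ ({a, b} : Set (Subgroup.center R)) := by rw [huniv]; exact Set.mem_univ _
    have h1 : (1 : Subgroup.center R) ∈ ({a, b} : Set (Subgroup.center R)) := by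
      rw [huniv]; exact Set.mem_univ _
    have hw : w ∈ ({a, b} : Set (Subgroup.center R)) := by rw [huniv]; exact Set.mem_univ _
    simp only [Set.mem_insert_iff, Set.mem_singleton_iff] at hy h1 hw
    rcases hy with rfl | rfl <;> rcases h1 with h1 | h1 <;> rcases hw with hw | hw
    · left; exact h1.symm
    · left; exact h1.symm
    · right; exact hw.symm
    · exact absurd (hw.trans h1.symm) hw1
    · exact absurd (hw.trans h1.symm) hw1
    · right; exact hw.symm
    · left; exact h1.symm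
    · left; exact h1.symm
  have hwc : ∀ g : R, g * (w : R) = (w : R) * g := by
    intro g
    exact Subgroup.mem_center_iff.1 w.2 g
  have hscal : ∃ c : F, mat R (w : R) = c • (1 : Matrix (Fin 2 ⊕ Fin 2) (Fin 2 ⊕ Fin 2) F) := by
    apply hRi.2
    rintro s ⟨g, hg, rfl⟩
    have := hwc ⟨g, hg⟩
    have h2 := congrArg (mat R) this
    rw [mat_mul, mat_mul] at h2
    exact h2.symm
  obtain ⟨c, hc⟩ := hscal
  have hc' : c = 1 ∨ c = -1 := by
    apply scalar_of_sp
    intro u v
    rw [← hc]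
    exact sp_of_mem R hRf _ u v
  have hcne : c ≠ 1 := by
    rintro rfl
    apply hw1
    apply Subtype.ext
    apply mat_injective R
    rw [hc, one_smul]
    exact (mat_one R).symm
  have hcm : c = -1 := by
    rcases hc' with h | h
    · exact absurd h hcne
    · exact h
  refine ⟨(w : R), ?_, hwc, ?_⟩
  · rw [hc, hcm, neg_smul, one_smul]
  · intro x hx
    have hxc : x ∈ Subgroup.center R := Subgroup.mem_center_iff.2 hx
    rcases hall ⟨x, hxc⟩ with h | h
    · left
      exact congrArg Subtype.val h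
    · right
      exact congrArg Subtype.val h


/-- the squares of `R` are `±1` -/
theorem sq_of_mem [Fintype F] {p : ℕ} [Fact p.Prime] [CharP F p] (hodd : Odd p) [Fintype R]
    (hRs : Cfsg.Geo.IsSymplecticTypeGroup 2 R)
    (hRi : Cfsg.Geo.ActsAbsolutelyIrreducibly (Cfsg.Geo.matrixSet R))
    (hRf : R ≤ Cfsg.spGL 2 F) (hR5 : Fintype.card R = 2 ^ 5)
    (z0 : R) (hz0 : mat R z0 = -1) (x : R) : x * x = 1 ∨ x * x = z0 := by
  have hp2 : p ≠ 2 := by
    rintro rfl
    exact absurd hodd (by decide)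
  have h2 : (2 : F) ≠ 0 := by
    intro h
    have h3 : ((2 : ℕ) : F) = 0 := by exact_mod_cast h
    rw [CharP.cast_eq_zero_iff F p] at h3
    have := (Nat.prime_dvd_prime_iff_eq (Fact.out : p.Prime) Nat.prime_two).1 h3
    exact hp2 this
  have hn : ((Fintype.card (Fin 2 ⊕ Fin 2) : ℕ) : F) ≠ 0 := by
    have : Fintype.card (Fin 2 ⊕ Fin 2) = 4 := by simp
    rw [this]
    have h4 : ((4 : ℕ) : F) = 2 * 2 := by norm_num
    rw [h4]
    exact mul_ne_zero h2 h2
  have hR : ((Fintype.card R : ℕ) : F) ≠ 0 := by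
    rw [hR5]
    have h32 : ((2 ^ 5 : ℕ) : F) = 2 ^ 5 := by norm_num
    rw [h32]
    exact pow_ne_zero _ h2
  have hcard : Fintype.card R = 2 * Fintype.card (Fin 2 ⊕ Fin 2) ^ 2 := by
    rw [hR5]
    simp
  by_cases hx1 : x = 1
  · left; rw [hx1, one_mul]
  by_cases hxz : x = z0
  · left
    apply mat_injective R
    rw [hxz, mat_mul, hz0, mat_one]
    simp
  obtain ⟨g, hg⟩ := exists_conj_neg R hRi.2 h2 hn hR z0 hz0 hcard x hx1 hxz
  have hx4 : x ^ 4 = 1 := by
    have h1 := Monoid.pow_exponent_eq_one x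
    rw [hRs.exponent_eq] at h1
    exact h1
  -- linear maps
  have hy4 : (Matrix.toLin' (mat R x)) ^ 4 = 1 := by
    rw [← Matrix.toLin'_pow]
    have h3 : mat R x ^ 4 = 1 := by
      have h4 : mat R (x ^ 4) = mat R x ^ 4 := by
        simp [mat]
      rw [← h4, hx4, mat_one]
    rw [h3, Matrix.toLin'_one]
    rfl
  have hiso : ∀ u v, sympBilin 2 (F := F) (Matrix.toLin' (mat R x) u) (Matrix.toLin' (mat R x) v) =
      sympBilin 2 u v := by
    intro u v
    rw [sympBilin_apply, sympBilin_apply, Matrix.toLin'_apply, Matrix.toLin'_apply]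
    exact sp_of_mem R hRf x u v
  let hE : (Fin 2 ⊕ Fin 2 → F) ≃ₗ[F] (Fin 2 ⊕ Fin 2 → F) :=
    LinearEquiv.ofLinearMap (Matrix.toLin' (mat R g)) (Matrix.toLin' (mat R g⁻¹))
      (by rw [← Matrix.toLin'_mul, mat_mul_inv, Matrix.toLin'_one])
      (by rw [← Matrix.toLin'_mul, mat_inv_mul, Matrix.toLin'_one])
  have hconj : ∀ v, hE (Matrix.toLin' (mat R x) v) = - Matrix.toLin' (mat R x) (hE v) := by
    intro v
    show Matrix.toLin' (mat R g) (Matrix.toLin' (mat R x) v) =
      - Matrix.toLin' (mat R x) (Matrix.toLin' (mat R g) v)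
    have h5 : g * x = x * z0 * g := by
      rw [← hg]
      group
    have h6 : mat R g * mat R x = - (mat R x * mat R g) := by
      rw [← mat_mul, h5, mat_mul, mat_mul, hz0]
      simp
    rw [← LinearMap.comp_apply, ← Matrix.toLin'_mul, h6, ← LinearMap.comp_apply,
      ← Matrix.toLin'_mul, map_neg, LinearMap.neg_apply]
  have hfr : finrank F (Fin 2 ⊕ Fin 2 → F) = 4 := by
    rw [std_finrank]
  have key := sq_central_abstract (sympBilin 2 (F := F)) (stdB_alt 2) (stdB_nd 2) h2 hfr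
    (Matrix.toLin' (mat R x)) hiso hy4 hE hconj
  rcases key with h7 | h7
  · left
    apply mat_injective R
    rw [mat_mul, mat_one]
    apply Matrix.toLin'.injective
    apply LinearMap.ext
    intro v
    rw [Matrix.toLin'_mul, LinearMap.comp_apply, h7, Matrix.toLin'_one, LinearMap.id_apply]
  · right
    apply mat_injective R
    rw [mat_mul, hz0]
    apply Matrix.toLin'.injective
    apply LinearMap.ext
    intro v
    rw [Matrix.toLin'_mul, LinearMap.comp_apply, h7, map_neg, Matrix.toLin'_one,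
      LinearMap.neg_apply, LinearMap.id_apply]

/-- the abstract hypotheses hold for `R` -/
theorem exists_hyp [Fintype F] {p : ℕ} [Fact p.Prime] [CharP F p] (hodd : Odd p) [Fintype R]
    (hRs : Cfsg.Geo.IsSymplecticTypeGroup 2 R)
    (hRi : Cfsg.Geo.ActsAbsolutelyIrreducibly (Cfsg.Geo.matrixSet R))
    (hRf : R ≤ Cfsg.spGL 2 F) (hR5 : Fintype.card R = 2 ^ 5)
    (hRZ : Nat.card (Subgroup.center R) = 2) :
    ∃ z0 : R, mat R z0 = -1 ∧ Hyp z0 := by
  obtain ⟨z0, hz0, hzc, hcen⟩ := exists_z0 R hRi hRf hRZ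
  have hp2 : p ≠ 2 := by
    rintro rfl
    exact absurd hodd (by decide)
  have h2 : (2 : F) ≠ 0 := by
    intro h
    have h3 : ((2 : ℕ) : F) = 0 := by exact_mod_cast h
    rw [CharP.cast_eq_zero_iff F p] at h3
    have := (Nat.prime_dvd_prime_iff_eq (Fact.out : p.Prime) Nat.prime_two).1 h3
    exact hp2 this
  refine ⟨z0, hz0, ⟨?_, ?_, hzc, sq_of_mem R hodd hRs hRi hRf hR5 z0 hz0, hcen⟩⟩
  · intro h
    have h1 : mat R z0 = 1 := by rw [h, mat_one]
    rw [hz0] at h1
    have h3 := congrFun (congrFun h1 (Sum.inl 0)) (Sum.inl 0)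
    simp only [Matrix.neg_apply, Matrix.one_apply_eq] at h3
    apply h2
    linear_combination -h3
  · apply mat_injective R
    rw [mat_mul, hz0, mat_one]
    simp

end bridge

end Cfsg.Agent.Lib.Helper12.Ex32
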