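import Mathlib

/-! Helper12 library (Ex32, part J): a subgroup `R` of a group `G` carrying five pairwise
anticommuting involutions `T i` (with respect to a central involution `z` of `G`), every
involution of `R` being `1, z, T i` or `z T i`: the normalizer of `R` permutes the five pairs
`{T i, z T i}`; the kernel of this action squares into the centralizer of `R`. -/

set_option autoImplicit false
set_option linter.unusedSectionVars false
set_option linter.unusedVariables false
set_option linter.style.haveILetI false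

namespace Cfsg.Agent.Lib.Helper12.Ex32

section act

variable {G : Type*} [Group G]

structure FiveIn (R : Subgroup G) (z : G) (T : Fin 5 → G) : Prop where
  zc : ∀ g : G, g * z = z * g
  z1 : z ≠ 1
  zz : z * z = 1
  zmem : z ∈ R
  mem : ∀ i, T i ∈ R
  sq : ∀ i, T i * T i = 1
  anti : ∀ i j, i ≠ j → T j * T i = z * (T i * T j)
  invol : ∀ x ∈ R, x * x = 1 → x = 1 ∨ x = z ∨ ∃ i, x = T i ∨ x = z * T i
  gen : R ≤ Subgroup.closure (Set.range T)

variable {R : Subgroup G} {z : G} {T : Fin 5 → G}

theorem FiveIn.exists_ne (i : Fin 5) : ∃ j : Fin 5, j ≠ i := by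
  by_cases h : i = 0
  · exact ⟨1, by rw [h]; decide⟩
  · exact ⟨0, fun h' => h h'.symm⟩

theorem FiveIn.not_comm (h : FiveIn R z T) (i j : Fin 5) (hij : i ≠ j) :
    T j * T i ≠ T i * T j := by
  intro hc
  have h1 := h.anti i j hij
  rw [hc] at h1
  apply h.z1
  have : z * (T i * T j) = 1 * (T i * T j) := by rw [one_mul]; exact h1.symm
  exact mul_right_cancel this

theorem FiveIn.ne_one (h : FiveIn R z T) (i : Fin 5) : T i ≠ 1 := by
  intro hi
  obtain ⟨j, hj⟩ := FiveIn.exists_ne i
  apply h.not_comm i j hj.symm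
  rw [hi, one_mul, mul_one]

theorem FiveIn.ne_z (h : FiveIn R z T) (i : Fin 5) : T i ≠ z := by
  intro hi
  obtain ⟨j, hj⟩ := FiveIn.exists_ne i
  apply h.not_comm i j hj.symm
  rw [hi]
  exact h.zc _

theorem FiveIn.inj (h : FiveIn R z T) (i j : Fin 5) (hij : T i = T j ∨ T i = z * T j) :
    i = j := by
  by_contra hne
  apply h.not_comm i j hne
  rcases hij with hij | hij
  · rw [hij]
  · rw [hij, ← mul_assoc, h.zc]

/-- the relation defining the action -/
def Moves (z : G) (T : Fin 5 → G) (g : G) (i j : Fin 5) : Prop :=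
  g * T i * g⁻¹ = T j ∨ g * T i * g⁻¹ = z * T j

theorem FiveIn.exists_moves (h : FiveIn R z T) (g : G)
    (hg : g ∈ Subgroup.normalizer (R : Set G)) (i : Fin 5) : ∃ j, Moves z T g i j := by
  have h1 : g * T i * g⁻¹ ∈ R := (Subgroup.mem_normalizer_iff.1 hg (T i)).1 (h.mem i)
  have h2 : (g * T i * g⁻¹) * (g * T i * g⁻¹) = 1 := by
    have : (g * T i * g⁻¹) * (g * T i * g⁻¹) = g * (T i * T i) * g⁻¹ := by group
    rw [this, h.sq, mul_one, mul_inv_cancel]
  rcases h.invol _ h1 h2 with h3 | h3 | ⟨j, hj⟩
  · exfalso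
    apply h.ne_one i
    have : T i = g⁻¹ * (g * T i * g⁻¹) * g := by group
    rw [this, h3]
    group
  · exfalso
    apply h.ne_z i
    have : T i = g⁻¹ * (g * T i * g⁻¹) * g := by group
    rw [this, h3, mul_assoc, ← h.zc, ← mul_assoc, inv_mul_cancel, one_mul]
  · exact ⟨j, hj⟩

theorem FiveIn.moves_unique (h : FiveIn R z T) (g : G) (i j j' : Fin 5)
    (hj : Moves z T g i j) (hj' : Moves z T g i j') : j = j' := by
  apply h.inj
  rcases hj with hj | hj <;> rcases hj' with hj' | hj'
  · left; rw [← hj, hj']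
  · right; rw [← hj, hj']
  · right
    have : z * T j = z * (z * T j') := by rw [← hj, hj', ← mul_assoc, h.zz, one_mul]
    exact mul_left_cancel this
  · left
    have : z * T j = z * T j' := by rw [← hj, hj']
    exact mul_left_cancel this

theorem FiveIn.moves_one (h : FiveIn R z T) (i : Fin 5) : Moves z T 1 i i := by
  left
  rw [one_mul, inv_one, mul_one]

theorem FiveIn.moves_mul (h : FiveIn R z T) (g g' : G) (i j k : Fin 5)
    (h1 : Moves z T g' i j) (h2 : Moves z T g j k) : Moves z T (g * g') i k := by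
  have h3 : g * g' * T i * (g * g')⁻¹ = g * (g' * T i * g'⁻¹) * g⁻¹ := by group
  unfold Moves
  rw [h3]
  rcases h1 with h1 | h1 <;> rcases h2 with h2 | h2
  · left; rw [h1, h2]
  · right; rw [h1, h2]
  · right
    rw [h1, ← mul_assoc, h.zc, mul_assoc, mul_assoc, ← mul_assoc g, h2]
  · left
    rw [h1, ← mul_assoc, h.zc, mul_assoc, mul_assoc, ← mul_assoc g, h2, ← mul_assoc, h.zz, one_mul]

/-- the image of `i` under `g` -/
noncomputable def sig (h : FiveIn R z T) (g : Subgroup.normalizer (R : Set G)) (i : Fin 5) :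
    Fin 5 := Classical.choose (h.exists_moves g g.2 i)

theorem sig_spec (h : FiveIn R z T) (g : Subgroup.normalizer (R : Set G)) (i : Fin 5) :
    Moves z T (g : G) i (sig h g i) := Classical.choose_spec (h.exists_moves g g.2 i)

theorem sig_eq (h : FiveIn R z T) (g : Subgroup.normalizer (R : Set G)) (i j : Fin 5)
    (hj : Moves z T (g : G) i j) : sig h g i = j :=
  h.moves_unique g i _ _ (sig_spec h g i) hj

theorem sig_one (h : FiveIn R z T) (i : Fin 5) : sig h 1 i = i :=
  sig_eq h 1 i i (h.moves_one i)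

theorem sig_mul (h : FiveIn R z T) (g g' : Subgroup.normalizer (R : Set G)) (i : Fin 5) :
    sig h (g * g') i = sig h g (sig h g' i) :=
  sig_eq h (g * g') i _ (h.moves_mul g g' i _ _ (sig_spec h g' i) (sig_spec h g _))

/-- the action as a homomorphism to the symmetric group of degree five -/
noncomputable def actHom (h : FiveIn R z T) :
    Subgroup.normalizer (R : Set G) →* Equiv.Perm (Fin 5) :=
  MonoidHom.mk' (fun g =>
    { toFun := sig h g
      invFun := sig h g⁻¹
      left_inv := fun i => by rw [← sig_mul, inv_mul_cancel, sig_one]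
      right_inv := fun i => by rw [← sig_mul, mul_inv_cancel, sig_one] })
    (fun g g' => by
      apply Equiv.ext
      intro i
      exact sig_mul h g g' i)

theorem actHom_apply (h : FiveIn R z T) (g : Subgroup.normalizer (R : Set G)) (i : Fin 5) :
    actHom h g i = sig h g i := rfl

theorem actHom_spec (h : FiveIn R z T) (g : Subgroup.normalizer (R : Set G)) (i : Fin 5) :
    Moves z T (g : G) i (actHom h g i) := sig_spec h g i

/-- an element of the kernel squares into the centralizer of `R` -/
theorem sq_comm_of_ker (h : FiveIn R z T) (g : Subgroup.normalizer (R : Set G))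
    (hg : actHom h g = 1) (x : G) (hx : x ∈ R) : (g : G) * (g : G) * x = x * ((g : G) * (g : G)) := by
  have hT : ∀ i, (g : G) * (g : G) * T i = T i * ((g : G) * (g : G)) := by
    intro i
    have h1 := actHom_spec h g i
    rw [hg, Equiv.Perm.one_apply] at h1
    have h2 : (g : G) * (g : G) * T i * ((g : G) * (g : G))⁻¹ = T i := by
      have h3 : (g : G) * (g : G) * T i * ((g : G) * (g : G))⁻¹ =
          (g : G) * ((g : G) * T i * (g : G)⁻¹) * (g : G)⁻¹ := by group
      rw [h3]
      rcases h1 with h1 | h1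
      · rw [h1, h1]
      · rw [h1, ← mul_assoc, h.zc, mul_assoc, mul_assoc, ← mul_assoc (g : G), h1, ← mul_assoc,
          h.zz, one_mul]
    calc (g : G) * (g : G) * T i
        = ((g : G) * (g : G) * T i * ((g : G) * (g : G))⁻¹) * ((g : G) * (g : G)) := by group
      _ = T i * ((g : G) * (g : G)) := by rw [h2]
  have hx' := h.gen hx
  clear hx
  induction hx' using Subgroup.closure_induction with
  | mem u hu =>
    obtain ⟨i, rfl⟩ := hu
    exact hT i
  | one => rw [mul_one, one_mul]
  | mul u v _ _ ihu ihv =>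
    rw [← mul_assoc, ihu, mul_assoc, ihv, mul_assoc]
  | inv u _ ihu =>
    calc (g : G) * (g : G) * u⁻¹ = u⁻¹ * (u * ((g : G) * (g : G))) * u⁻¹ := by group
      _ = u⁻¹ * ((g : G) * (g : G) * u) * u⁻¹ := by rw [ihu]
      _ = u⁻¹ * ((g : G) * (g : G)) := by group

/-- an element moving each `T i` to some `T j` up to sign normalizes `R` -/
theorem FiveIn.mem_normalizer_of_moves (h : FiveIn R z T) [Finite R] (g : G)
    (hg : ∀ i, ∃ j, Moves z T g i j) : g ∈ Subgroup.normalizer (R : Set G) := by
  haveI : Finite (R : Set G) := ‹Finite R›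
  apply Subgroup.mem_normalizer_fintype
  intro x hx
  have hx' := h.gen hx
  clear hx
  induction hx' using Subgroup.closure_induction with
  | mem u hu =>
    obtain ⟨i, rfl⟩ := hu
    obtain ⟨j, hj⟩ := hg i
    rcases hj with hj | hj
    · rw [hj]
      exact h.mem j
    · rw [hj]
      exact R.mul_mem h.zmem (h.mem j)
  | one =>
    rw [mul_one, mul_inv_cancel]
    exact R.one_mem
  | mul u v _ _ ihu ihv =>
    have : g * (u * v) * g⁻¹ = (g * u * g⁻¹) * (g * v * g⁻¹) := by group
    rw [this]
    exact R.mul_mem ihu ihv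
  | inv u _ ihu =>
    have : g * u⁻¹ * g⁻¹ = (g * u * g⁻¹)⁻¹ := by group
    rw [this]
    exact R.inv_mem ihu

theorem sig_eq_swap (h : FiveIn R z T) (g : Subgroup.normalizer (R : Set G)) (i j : Fin 5)
    (hij : Moves z T (g : G) i j) (hji : Moves z T (g : G) j i)
    (hk : ∀ k, k ≠ i → k ≠ j → Moves z T (g : G) k k) : actHom h g = Equiv.swap i j := by
  apply Equiv.ext
  intro k
  rw [actHom_apply]
  by_cases hki : k = i
  · rw [hki, Equiv.swap_apply_left]
    exact sig_eq h g i j hij
  by_cases hkj : k = j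
  · rw [hkj, Equiv.swap_apply_right]
    exact sig_eq h g j i hji
  rw [Equiv.swap_apply_of_ne_of_ne hki hkj]
  exact sig_eq h g k k (hk k hki hkj)

end act

end Cfsg.Agent.Lib.Helper12.Ex32
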