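import Mathlib
import Cfsg.Agent.Lib.Helper12.Ex32I
import Cfsg.Agent.Lib.Helper12.Ex32J

/-! Helper12 library (Ex32, part K): the five anticommuting involutions of the extraspecial group
`R = 2^{1+4}_- ≤ Sp₄(p)` as elements of `GL₄(p)`; the order of `N(R) ∩ Sp₄(p)` divides
`2^n · 120`. -/

set_option autoImplicit false
set_option linter.unusedSectionVars false
set_option linter.unusedVariables false
set_option linter.style.haveILetI false

namespace Cfsg.Agent.Lib.Helper12.Ex32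

open Matrix Module Cfsg.Agent.Lib.Helper12.Sp Cfsg.Agent.Lib.Helper15
open scoped MatrixGroups

section conc

variable {F : Type*} [Field F] [Fintype F]

variable (R : Subgroup (GL (Fin 2 ⊕ Fin 2) F))

/-- the five involutions -/
theorem exists_fiveIn {p : ℕ} [Fact p.Prime] [CharP F p] (hodd : Odd p)
    (hRs : Cfsg.Geo.IsSymplecticTypeGroup 2 R)
    (hRi : Cfsg.Geo.ActsAbsolutelyIrreducibly (Cfsg.Geo.matrixSet R))
    (hRf : R ≤ Cfsg.spGL 2 F) (hR5 : Nat.card R = 2 ^ 5)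
    (hRZ : Nat.card (Subgroup.center R) = 2) (hRm : Cfsg.Geo.IsOfMinusType 2 R) :
    ∃ (z : GL (Fin 2 ⊕ Fin 2) F) (T : Fin 5 → GL (Fin 2 ⊕ Fin 2) F),
      ((z : GL (Fin 2 ⊕ Fin 2) F) : Matrix (Fin 2 ⊕ Fin 2) (Fin 2 ⊕ Fin 2) F) = -1 ∧
      FiveIn R z T ∧ (T 0 * T 1) * (T 0 * T 1) = z := by
  classical
  haveI : Fintype R := Fintype.ofFinite R
  have hR5' : Fintype.card R = 2 ^ 5 := by rw [← Nat.card_eq_fintype_card]; exact hR5
  obtain ⟨z0, hz0, hyp⟩ := exists_hyp R hodd hRs hRi hRf hR5' hRZ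
  have hminus : ∀ A : Subgroup R, IsMulCommutative A → (∀ x ∈ A, x * x = 1) → Nat.card A < 8 := by
    intro A hA hA2
    have h8 : (2 : ℕ) ^ (2 + 1) = 8 := by norm_num
    have := hRm A hA hA2
    rw [h8] at this
    exact this
  obtain ⟨T', hT'⟩ := hyp.exists_five (by rw [hR5']; norm_num) hminus
  have hzc : ∀ g : GL (Fin 2 ⊕ Fin 2) F, g * (z0 : GL (Fin 2 ⊕ Fin 2) F) =
      (z0 : GL (Fin 2 ⊕ Fin 2) F) * g := by
    intro g
    apply Units.ext
    rw [Units.val_mul, Units.val_mul]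
    have : ((z0 : GL (Fin 2 ⊕ Fin 2) F) : Matrix (Fin 2 ⊕ Fin 2) (Fin 2 ⊕ Fin 2) F) = -1 := hz0
    rw [this]
    simp
  refine ⟨(z0 : GL (Fin 2 ⊕ Fin 2) F), fun i => (T' i : GL (Fin 2 ⊕ Fin 2) F), hz0, ⟨hzc, ?_, ?_,
    z0.2, fun i => (T' i).2, ?_, ?_, ?_, ?_⟩, ?_⟩
  · intro h
    apply hyp.z1
    exact Subtype.ext h
  · have := congrArg Subtype.val hyp.zz
    exact this
  · intro i
    exact congrArg Subtype.val (hT'.sq i)
  · intro i j hij
    exact congrArg Subtype.val (hT'.anti i j hij)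
  · intro x hx hxx
    have h1 : (⟨x, hx⟩ : R) * ⟨x, hx⟩ = 1 := Subtype.ext hxx
    rcases hT'.invol _ h1 with h2 | h2 | ⟨i, h2 | h2⟩
    · left; exact congrArg Subtype.val h2
    · right; left; exact congrArg Subtype.val h2
    · right; right; exact ⟨i, Or.inl (congrArg Subtype.val h2)⟩
    · right; right; exact ⟨i, Or.inr (congrArg Subtype.val h2)⟩
  · intro x hx
    have h1 : (⟨x, hx⟩ : R) ∈ Subgroup.closure (Set.range T') := by
      rw [hT'.gen]
      exact Subgroup.mem_top _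
    have h2 : (Subgroup.closure (Set.range T')).map R.subtype =
        Subgroup.closure (Set.range fun i => (T' i : GL (Fin 2 ⊕ Fin 2) F)) := by
      rw [MonoidHom.map_closure]
      congr 1
      ext y
      constructor
      · rintro ⟨w, ⟨i, rfl⟩, rfl⟩
        exact ⟨i, rfl⟩
      · rintro ⟨i, rfl⟩
        exact ⟨T' i, ⟨i, rfl⟩, rfl⟩
    rw [← h2]
    exact ⟨⟨x, hx⟩, h1, rfl⟩
  · exact congrArg Subtype.val hT'.exsq

/-- the order of `N(R) ∩ Sp₄` divides `2^n · 120` -/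
theorem card_normalizer_dvd
    (hRi : Cfsg.Geo.ActsAbsolutelyIrreducibly (Cfsg.Geo.matrixSet R))
    (z : GL (Fin 2 ⊕ Fin 2) F) (T : Fin 5 → GL (Fin 2 ⊕ Fin 2) F) (h5 : FiveIn R z T) :
    ∃ n : ℕ, Nat.card ↥(Cfsg.Geo.subgroupNormalizer R ⊓ Cfsg.spGL 2 F) ∣ 2 ^ n * 120 := by
  classical
  haveI : Fact (Nat.Prime 2) := ⟨Nat.prime_two⟩
  have hle : Cfsg.Geo.subgroupNormalizer R ⊓ Cfsg.spGL 2 F ≤
      Subgroup.normalizer (R : Set (GL (Fin 2 ⊕ Fin 2) F)) := inf_le_left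
  let ψ : ↥(Cfsg.Geo.subgroupNormalizer R ⊓ Cfsg.spGL 2 F) →* Equiv.Perm (Fin 5) :=
    (actHom h5).comp (Subgroup.inclusion hle)
  have hker : ∀ m : ψ.ker, m ^ 2 ^ 2 = 1 := by
    intro m
    have hm : actHom h5 (Subgroup.inclusion hle (m : ↥(Cfsg.Geo.subgroupNormalizer R ⊓
        Cfsg.spGL 2 F))) = 1 := m.2
    have h1 := sq_comm_of_ker h5 _ hm
    obtain ⟨g, hg⟩ : ∃ g : GL (Fin 2 ⊕ Fin 2) F, g = ((m : ↥(Cfsg.Geo.subgroupNormalizer R ⊓
        Cfsg.spGL 2 F)) : GL (Fin 2 ⊕ Fin 2) F) := ⟨_, rfl⟩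
    have h1' : ∀ x ∈ R, g * g * x = x * (g * g) := by
      intro x hx
      rw [hg]
      exact h1 x hx
    have hgSp : g ∈ Cfsg.spGL 2 F := by
      rw [hg]
      exact (m : ↥(Cfsg.Geo.subgroupNormalizer R ⊓ Cfsg.spGL 2 F)).2.2
    have hggSp : g * g ∈ Cfsg.spGL 2 F := (Cfsg.spGL 2 F).mul_mem hgSp hgSp
    obtain ⟨c, hc⟩ : ∃ c : F, ((g * g : GL (Fin 2 ⊕ Fin 2) F) :
        Matrix (Fin 2 ⊕ Fin 2) (Fin 2 ⊕ Fin 2) F) = c • 1 := by
      apply hRi.2
      rintro s ⟨x, hx, rfl⟩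
      have := congrArg (fun y : GL (Fin 2 ⊕ Fin 2) F =>
        (y : Matrix (Fin 2 ⊕ Fin 2) (Fin 2 ⊕ Fin 2) F)) (h1' x hx)
      simpa using this
    have hc' : c = 1 ∨ c = -1 := by
      apply scalar_of_sp
      intro u v
      rw [← hc]
      exact (C3Sp.mem_spGL' 2 (g * g)).1 hggSp u v
    have hgg : (g * g) * (g * g) = 1 := by
      apply Units.ext
      rw [Units.val_mul, hc, Units.val_one]
      rcases hc' with rfl | rfl <;> simp
    apply Subtype.ext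
    apply Subtype.ext
    have h4 : g ^ 2 ^ 2 = 1 := by
      have : g ^ 2 ^ 2 = (g * g) * (g * g) := by
        norm_num
        rw [show (4 : ℕ) = 2 + 2 from rfl, pow_add, pow_two]
      rw [this, hgg]
    rw [hg] at h4
    simpa using h4
  have hp : IsPGroup 2 ψ.ker := fun m => ⟨2, hker m⟩
  obtain ⟨n, hn⟩ := IsPGroup.iff_card.1 hp
  refine ⟨n, ?_⟩
  have h1 := Subgroup.card_mul_index ψ.ker
  have h2 := Subgroup.index_ker ψ
  have h3 := Subgroup.card_subgroup_dvd_card ψ.range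
  have h4 : Nat.card (Equiv.Perm (Fin 5)) = 120 := by
    rw [Nat.card_perm, Nat.card_eq_fintype_card, Fintype.card_fin]
    rfl
  rw [h4] at h3
  rw [← h1, hn, h2]
  exact Nat.mul_dvd_mul_left _ h3

end conc

end Cfsg.Agent.Lib.Helper12.Ex32
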