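import Mathlib
import Cfsg.Agent.Lib.Helper12.Ex32K
import Cfsg.Agent.Lib.Helper12.C3SpF

/-! Helper12 library (Ex32, part L): the forward direction tools for the extraspecial normalizer
statement in `Sp₄(p)`: elements of odd prime order in a group `M` with `|M| ∣ 2^n · 120`. -/

set_option autoImplicit false
set_option linter.unusedSectionVars false
set_option linter.unusedVariables false
set_option linter.style.haveILetI false

namespace Cfsg.Agent.Lib.Helper12.Ex32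

open Matrix Module Cfsg.Agent.Lib.Helper12.Sp Cfsg.Agent.Lib.Helper15
  Cfsg.Agent.Lib.Helper12.Elus Cfsg.Agent.Lib.Helper12.C3Sp
open scoped MatrixGroups Pointwise

section grp

variable {G : Type*} [Group G] [Finite G]

/-- elements of prime order `r` of a group whose order is not divisible by `r²` generate conjugate
subgroups -/
theorem conj_of_prime_order (r : ℕ) [Fact r.Prime] (hr : ¬ r ^ 2 ∣ Nat.card G) (x y : G)
    (hx : orderOf x = r) (hy : orderOf y = r) : ∃ g : G, ∃ k : ℕ, g * x * g⁻¹ = y ^ k := by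
  have hrp : r.Prime := Fact.out
  have hdvd : r ∣ Nat.card G := by
    rw [← hx]
    exact orderOf_dvd_natCard x
  have hfac : (Nat.card G).factorization r = 1 := by
    have h0 : Nat.card G ≠ 0 := Nat.card_pos.ne'
    have h1 : 1 ≤ (Nat.card G).factorization r :=
      (hrp.dvd_iff_one_le_factorization h0).1 hdvd
    have h2 : ¬ 2 ≤ (Nat.card G).factorization r := by
      intro h2
      apply hr
      exact (hrp.pow_dvd_iff_le_factorization h0).2 h2
    omega
  have hcx : Nat.card (Subgroup.zpowers x) = r ^ (Nat.card G).factorization r := by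
    rw [hfac, pow_one, Nat.card_zpowers, hx]
  have hcy : Nat.card (Subgroup.zpowers y) = r ^ (Nat.card G).factorization r := by
    rw [hfac, pow_one, Nat.card_zpowers, hy]
  let P : Sylow r G := Sylow.ofCard (Subgroup.zpowers x) hcx
  let Q : Sylow r G := Sylow.ofCard (Subgroup.zpowers y) hcy
  obtain ⟨g, hg⟩ := MulAction.exists_smul_eq G P Q
  have hxP : x ∈ (P : Subgroup G) := by
    show x ∈ Subgroup.zpowers x
    exact Subgroup.mem_zpowers x
  have h1 : g * x * g⁻¹ ∈ ((g • P : Sylow r G) : Subgroup G) := by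
    rw [Sylow.coe_subgroup_smul, Subgroup.mem_pointwise_smul_iff_inv_smul_mem]
    have : (MulAut.conj g)⁻¹ • (g * x * g⁻¹) = x := by
      rw [← map_inv, MulAut.smul_def, MulAut.conj_apply]
      group
    rw [this]
    exact hxP
  rw [hg] at h1
  have h2 : g * x * g⁻¹ ∈ Subgroup.zpowers y := h1
  have hfo : IsOfFinOrder y := isOfFinOrder_of_finite y
  rw [← mem_powers_iff_mem_zpowers] at h2
  obtain ⟨k, hk⟩ := h2
  exact ⟨g, k, hk.symm⟩

end grp

section mats

universe u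

variable {F : Type u} [Field F] {ι : Type} [Fintype ι] [DecidableEq ι]

theorem fix_le_fix_pow (x : GL ι F) (k : ℕ) :
    fixE (Matrix.toLin' (x : Matrix ι ι F)) ≤
      fixE (Matrix.toLin' ((x ^ k : GL ι F) : Matrix ι ι F)) := by
  intro v hv
  rw [mem_fixE] at hv ⊢
  induction k with
  | zero =>
    rw [pow_zero, Units.val_one, Matrix.toLin'_one]
    rfl
  | succ k ih =>
    rw [pow_succ, Units.val_mul, Matrix.toLin'_mul, LinearMap.comp_apply, hv, ih]

theorem finrank_fix_le_of_conj (x y g : GL ι F) (k : ℕ) (h : g * x * g⁻¹ = y ^ k) :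
    finrank F (fixE (Matrix.toLin' (y : Matrix ι ι F))) ≤
      finrank F (fixE (Matrix.toLin' (x : Matrix ι ι F))) := by
  have h1 := finrank_fix_conj x g⁻¹
  rw [inv_inv, h] at h1
  rw [← h1]
  exact Submodule.finrank_mono (fix_le_fix_pow y k)

end mats

section main

variable {F : Type*} [Field F] [Fintype F]

variable (R : Subgroup (GL (Fin 2 ⊕ Fin 2) F))

/-- an odd prime dividing `2^n · 120` is `3` or `5`, and its square does not divide -/
theorem prime_of_dvd (r : ℕ) (hr : r.Prime) (hr2 : r ≠ 2) (n : ℕ) (h : r ∣ 2 ^ n * 120) :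
    (r = 3 ∨ r = 5) ∧ ¬ r ^ 2 ∣ 2 ^ n * 120 := by
  have hc : Nat.Coprime r (2 ^ n) := by
    apply Nat.Coprime.pow_right
    exact (Nat.coprime_primes hr Nat.prime_two).2 hr2
  have h1 : r ∣ 120 := hc.dvd_of_dvd_mul_left h
  have h2 : r = 3 ∨ r = 5 := by
    have h120 : (120 : ℕ) = 2 ^ 3 * (3 * 5) := by norm_num
    rw [h120] at h1
    have hc3 : Nat.Coprime r (2 ^ 3) := by
      apply Nat.Coprime.pow_right
      exact (Nat.coprime_primes hr Nat.prime_two).2 hr2
    have h3 := hc3.dvd_of_dvd_mul_left h1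
    rcases (Nat.Prime.dvd_mul hr).1 h3 with h4 | h4
    · left; exact (Nat.prime_dvd_prime_iff_eq hr Nat.prime_three).1 h4
    · right; exact (Nat.prime_dvd_prime_iff_eq hr Nat.prime_five).1 h4
  refine ⟨h2, ?_⟩
  intro h3
  have hc2 : Nat.Coprime (r ^ 2) (2 ^ n) := by
    apply Nat.Coprime.pow_left
    exact hc
  have h4 := hc2.dvd_of_dvd_mul_left h3
  rcases h2 with rfl | rfl
  · norm_num at h4
  · norm_num at h4

/-- an element of odd prime order of `N(R) ∩ Sp₄` has order `3` or `5` -/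
theorem order_three_or_five (n : ℕ)
    (hn : Nat.card ↥(Cfsg.Geo.subgroupNormalizer R ⊓ Cfsg.spGL 2 F) ∣ 2 ^ n * 120)
    (r : ℕ) [Fact r.Prime] (hr2 : r ≠ 2) (m : GL (Fin 2 ⊕ Fin 2) F)
    (hmN : m ∈ Cfsg.Geo.subgroupNormalizer R) (hmS : m ∈ Cfsg.spGL 2 F) (hm : orderOf m = r) :
    r = 3 ∨ r = 5 := by
  have hr : r.Prime := Fact.out
  have h1 : orderOf (⟨m, hmN, hmS⟩ : ↥(Cfsg.Geo.subgroupNormalizer R ⊓ Cfsg.spGL 2 F)) = r := by
    rw [← hm]
    exact Subgroup.orderOf_mk m _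
  have h2 : r ∣ Nat.card ↥(Cfsg.Geo.subgroupNormalizer R ⊓ Cfsg.spGL 2 F) := by
    rw [← h1]
    exact orderOf_dvd_natCard _
  exact (prime_of_dvd r hr hr2 n (h2.trans hn)).1

/-- two elements of the same odd prime order of `N(R) ∩ Sp₄` have fixed spaces of the same
dimension -/
theorem finrank_fix_eq (n : ℕ)
    (hn : Nat.card ↥(Cfsg.Geo.subgroupNormalizer R ⊓ Cfsg.spGL 2 F) ∣ 2 ^ n * 120)
    (r : ℕ) [Fact r.Prime] (hr2 : r ≠ 2) (m m' : GL (Fin 2 ⊕ Fin 2) F)
    (hmN : m ∈ Cfsg.Geo.subgroupNormalizer R) (hmS : m ∈ Cfsg.spGL 2 F) (hm : orderOf m = r)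
    (hmN' : m' ∈ Cfsg.Geo.subgroupNormalizer R) (hmS' : m' ∈ Cfsg.spGL 2 F)
    (hm' : orderOf m' = r) :
    finrank F (fixE (Matrix.toLin' (m : Matrix (Fin 2 ⊕ Fin 2) (Fin 2 ⊕ Fin 2) F))) =
      finrank F (fixE (Matrix.toLin' (m' : Matrix (Fin 2 ⊕ Fin 2) (Fin 2 ⊕ Fin 2) F))) := by
  classical
  have hr : r.Prime := Fact.out
  have h1 : orderOf (⟨m, hmN, hmS⟩ : ↥(Cfsg.Geo.subgroupNormalizer R ⊓ Cfsg.spGL 2 F)) = r := by
    rw [← hm]
    exact Subgroup.orderOf_mk m _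
  have h1' : orderOf (⟨m', hmN', hmS'⟩ : ↥(Cfsg.Geo.subgroupNormalizer R ⊓ Cfsg.spGL 2 F)) = r := by
    rw [← hm']
    exact Subgroup.orderOf_mk m' _
  have h2 : r ∣ Nat.card ↥(Cfsg.Geo.subgroupNormalizer R ⊓ Cfsg.spGL 2 F) := by
    rw [← h1]
    exact orderOf_dvd_natCard _
  have h3 := (prime_of_dvd r hr hr2 n (h2.trans hn)).2
  have h4 : ¬ r ^ 2 ∣ Nat.card ↥(Cfsg.Geo.subgroupNormalizer R ⊓ Cfsg.spGL 2 F) :=
    fun h => h3 (h.trans hn)
  haveI : Finite ↥(Cfsg.Geo.subgroupNormalizer R ⊓ Cfsg.spGL 2 F) := inferInstance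
  obtain ⟨g, k, hgk⟩ := conj_of_prime_order r h4 _ _ h1 h1'
  obtain ⟨g', k', hgk'⟩ := conj_of_prime_order r h4 _ _ h1' h1
  have e1 : (g : GL (Fin 2 ⊕ Fin 2) F) * m * (g : GL (Fin 2 ⊕ Fin 2) F)⁻¹ = m' ^ k := by
    have := congrArg (fun y : ↥(Cfsg.Geo.subgroupNormalizer R ⊓ Cfsg.spGL 2 F) =>
      (y : GL (Fin 2 ⊕ Fin 2) F)) hgk
    simpa using this
  have e2 : (g' : GL (Fin 2 ⊕ Fin 2) F) * m' * (g' : GL (Fin 2 ⊕ Fin 2) F)⁻¹ = m ^ k' := by
    have := congrArg (fun y : ↥(Cfsg.Geo.subgroupNormalizer R ⊓ Cfsg.spGL 2 F) =>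
      (y : GL (Fin 2 ⊕ Fin 2) F)) hgk'
    simpa using this
  exact le_antisymm (finrank_fix_le_of_conj m' m _ k' e2) (finrank_fix_le_of_conj m m' _ k e1)

end main

end Cfsg.Agent.Lib.Helper12.Ex32
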