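import Mathlib
import Cfsg.Agent.Lib.Helper12.Ex32L
import Cfsg.Agent.Lib.Helper12.SpK
import Cfsg.Agent.Lib.Helper12.C3SpG

/-! Helper12 library (Ex32, part M): the forward direction of the extraspecial normalizer
statement in `Sp₄(p)`: `r ∈ {2, 3, 5}`, and the models excluding `r = 3` and most of `r = 5`. -/

set_option autoImplicit false
set_option linter.unusedSectionVars false
set_option linter.unusedVariables false
set_option linter.style.haveILetI false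
set_option linter.unusedSimpArgs false

namespace Cfsg.Agent.Lib.Helper12.Ex32

open Matrix Module Cfsg.Agent.Lib.Helper12.Sp Cfsg.Agent.Lib.Helper15
  Cfsg.Agent.Lib.Helper12.Elus Cfsg.Agent.Lib.Helper12.C3Sp
open scoped MatrixGroups

section unip

variable {F : Type*} [Field F]

/-- the unipotent block matrix -/
def ublock (F : Type*) [Field F] : Matrix (Fin 2 ⊕ Fin 2) (Fin 2 ⊕ Fin 2) F :=
  Matrix.fromBlocks 1 1 0 1

theorem ublock_mem : ublock F ∈ Matrix.symplecticGroup (Fin 2) F := by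
  rw [SymplecticGroup.mem_iff]
  unfold ublock Matrix.J
  rw [Matrix.fromBlocks_transpose, Matrix.fromBlocks_multiply, Matrix.fromBlocks_multiply]
  simp

theorem ublock_pow (n : ℕ) : ublock F ^ n = Matrix.fromBlocks 1 ((n : F) • 1) 0 1 := by
  induction n with
  | zero =>
    rw [pow_zero, Nat.cast_zero, zero_smul, Matrix.fromBlocks_one]
  | succ n ih =>
    rw [pow_succ, ih]
    unfold ublock
    rw [Matrix.fromBlocks_multiply]
    simp only [mul_one, mul_zero, add_zero, zero_add, Matrix.one_mul, Matrix.zero_mul]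
    congr 1
    rw [Nat.cast_succ, add_smul, one_smul, add_comm]

theorem ublock_pow_char {p : ℕ} [CharP F p] : ublock F ^ p = 1 := by
  rw [ublock_pow, CharP.cast_eq_zero, zero_smul, Matrix.fromBlocks_one]

theorem ublock_nonscalar (z : F) :
    ublock F ≠ z • (1 : Matrix (Fin 2 ⊕ Fin 2) (Fin 2 ⊕ Fin 2) F) := by
  intro h
  have := congrFun (congrFun h (Sum.inl 0)) (Sum.inr 0)
  simp [ublock] at this

theorem ublock_fix : finrank F (fixE (Matrix.toLin' (ublock F))) ≤ 2 := by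
  let φ : fixE (Matrix.toLin' (ublock F)) →ₗ[F] (Fin 2 → F) :=
    { toFun := fun v i => (v : Fin 2 ⊕ Fin 2 → F) (Sum.inl i)
      map_add' := fun v w => rfl
      map_smul' := fun c v => rfl }
  have hφ : Function.Injective φ := by
    intro v w hvw
    have hv := (mem_fixE _ _).1 v.2
    have hw := (mem_fixE _ _).1 w.2
    rw [Matrix.toLin'_apply] at hv hw
    have hr : ∀ (u : Fin 2 ⊕ Fin 2 → F), ublock F *ᵥ u = u → ∀ i, u (Sum.inr i) = 0 := by
      intro u hu i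
      have h1 := congrFun hu (Sum.inl i)
      unfold ublock at h1
      rw [Matrix.mulVec, dotProduct] at h1
      simp only [Fintype.sum_sum_type, Matrix.fromBlocks_apply₁₁, Matrix.fromBlocks_apply₁₂,
        Matrix.one_apply, ite_mul, one_mul, zero_mul, Finset.sum_ite_eq, Finset.mem_univ,
        if_true] at h1
      linear_combination h1
    apply Subtype.ext
    funext j
    rcases j with i | i
    · exact congrFun hvw i
    · rw [hr _ hv i, hr _ hw i]
  have := LinearMap.finrank_le_finrank_of_injective hφ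
  rw [Module.finrank_fintype_fun_eq_card, Fintype.card_fin] at this
  exact this

end unip

section fwd

universe u

variable {F : Type u} [Field F] [Fintype F] {p : ℕ} [Fact p.Prime] [CharP F p]

variable (R : Subgroup (GL (Fin 2 ⊕ Fin 2) F))

omit [Fintype F] [Fact p.Prime] [CharP F p] in
/-- applying the conjugacy hypothesis to a symplectic matrix of order `r` -/
theorem apply_hyp' (r : ℕ) [Fact r.Prime]
    (H : ∀ x ∈ Cfsg.spGL 2 F,
      (∃ z : F, ((x ^ r : GL (Fin 2 ⊕ Fin 2) F) : Matrix (Fin 2 ⊕ Fin 2) (Fin 2 ⊕ Fin 2) F) =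
        z • (1 : Matrix (Fin 2 ⊕ Fin 2) (Fin 2 ⊕ Fin 2) F)) →
      (∀ z : F, (x : Matrix (Fin 2 ⊕ Fin 2) (Fin 2 ⊕ Fin 2) F) ≠
        z • (1 : Matrix (Fin 2 ⊕ Fin 2) (Fin 2 ⊕ Fin 2) F)) →
      ∃ g ∈ Cfsg.spGL 2 F, g⁻¹ * x * g ∈ Cfsg.Geo.subgroupNormalizer R)
    (A : Matrix (Fin 2 ⊕ Fin 2) (Fin 2 ⊕ Fin 2) F) (hA : A ∈ Matrix.symplecticGroup (Fin 2) F)
    (hAr : A ^ r = 1) (hns : ∀ z : F, A ≠ z • (1 : Matrix (Fin 2 ⊕ Fin 2) (Fin 2 ⊕ Fin 2) F)) :
    ∃ y : GL (Fin 2 ⊕ Fin 2) F, y ∈ Cfsg.Geo.subgroupNormalizer R ∧ y ∈ Cfsg.spGL 2 F ∧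
      orderOf y = r ∧ finrank F (fixE (Matrix.toLin'
        (y : Matrix (Fin 2 ⊕ Fin 2) (Fin 2 ⊕ Fin 2) F))) = finrank F (fixE (Matrix.toLin' A)) := by
  have hxr : (glOfSp 2 A hA) ^ r = 1 := by
    apply Units.ext
    rw [Units.val_pow_eq_pow_val, Units.val_one]
    exact hAr
  obtain ⟨g, hg, hgN⟩ := H (glOfSp 2 A hA) (glOfSp_mem 2 A hA) ⟨1, by
    rw [hxr, Units.val_one, one_smul]⟩ hns
  refine ⟨g⁻¹ * glOfSp 2 A hA * g, hgN, ?_, ?_, ?_⟩
  · exact (Cfsg.spGL 2 F).mul_mem ((Cfsg.spGL 2 F).mul_mem ((Cfsg.spGL 2 F).inv_mem hg)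
      (glOfSp_mem 2 A hA)) hg
  · apply orderOf_eq_prime
    · have h1 : g⁻¹ * glOfSp 2 A hA * g = g⁻¹ * glOfSp 2 A hA * g⁻¹⁻¹ := by rw [inv_inv]
      rw [h1, conj_pow, hxr, mul_one, mul_inv_cancel]
    · intro h1
      have h2 : glOfSp 2 A hA = 1 := by
        have : glOfSp 2 A hA = g * (g⁻¹ * glOfSp 2 A hA * g) * g⁻¹ := by group
        rw [this, h1]
        group
      apply hns 1
      rw [one_smul]
      have h3 := congrArg (fun y : GL (Fin 2 ⊕ Fin 2) F =>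
        (y : Matrix (Fin 2 ⊕ Fin 2) (Fin 2 ⊕ Fin 2) F)) h2
      exact h3
  · exact finrank_fix_conj (glOfSp 2 A hA) g

/-- the forward direction -/
theorem fwd_main (n : ℕ)
    (hn : Nat.card ↥(Cfsg.Geo.subgroupNormalizer R ⊓ Cfsg.spGL 2 F) ∣ 2 ^ n * 120)
    (hF : Fintype.card F = p) (r : ℕ) [Fact r.Prime]
    (hΩ : r ∣ Nat.card ↥(Cfsg.spGL 2 F))
    (H : ∀ x ∈ Cfsg.spGL 2 F,
      (∃ z : F, ((x ^ r : GL (Fin 2 ⊕ Fin 2) F) : Matrix (Fin 2 ⊕ Fin 2) (Fin 2 ⊕ Fin 2) F) =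
        z • (1 : Matrix (Fin 2 ⊕ Fin 2) (Fin 2 ⊕ Fin 2) F)) →
      (∀ z : F, (x : Matrix (Fin 2 ⊕ Fin 2) (Fin 2 ⊕ Fin 2) F) ≠
        z • (1 : Matrix (Fin 2 ⊕ Fin 2) (Fin 2 ⊕ Fin 2) F)) →
      ∃ g ∈ Cfsg.spGL 2 F, g⁻¹ * x * g ∈ Cfsg.Geo.subgroupNormalizer R) :
    r = 2 ∨ (r = 5 ∧ orderOf (p : ZMod 5) = 4) := by
  classical
  have hr : r.Prime := Fact.out
  have hpp : p.Prime := Fact.out
  by_cases hr2 : r = 2
  · left; exact hr2
  right
  -- an element of order `r`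
  haveI : Finite ↥(Cfsg.spGL 2 F) := inferInstance
  obtain ⟨x, hx⟩ := exists_prime_orderOf_dvd_card' r hΩ
  have hxns : ∀ z : F, ((x : GL (Fin 2 ⊕ Fin 2) F) : Matrix (Fin 2 ⊕ Fin 2) (Fin 2 ⊕ Fin 2) F) ≠
      z • (1 : Matrix (Fin 2 ⊕ Fin 2) (Fin 2 ⊕ Fin 2) F) := by
    intro z hz
    have hz' : z = 1 ∨ z = -1 := by
      apply scalar_of_sp
      intro u v
      rw [← hz]
      exact (mem_spGL' 2 (x : GL (Fin 2 ⊕ Fin 2) F)).1 x.2 u v
    have hx2 : x ^ 2 = 1 := by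
      apply Subtype.ext
      apply Units.ext
      rw [Subgroup.coe_pow, Units.val_pow_eq_pow_val, hz]
      rcases hz' with rfl | rfl <;> simp
    have h1 := orderOf_dvd_of_pow_eq_one hx2
    rw [hx] at h1
    exact hr2 ((Nat.prime_dvd_prime_iff_eq hr Nat.prime_two).1 h1)
  have hxr : (x : GL (Fin 2 ⊕ Fin 2) F) ^ r = 1 := by
    have := pow_orderOf_eq_one x
    rw [hx] at this
    have h2 := congrArg (fun y : ↥(Cfsg.spGL 2 F) => (y : GL (Fin 2 ⊕ Fin 2) F)) this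
    simpa using h2
  obtain ⟨g, hg, hgN⟩ := H (x : GL (Fin 2 ⊕ Fin 2) F) x.2 ⟨1, by
    rw [hxr, Units.val_one, one_smul]⟩ hxns
  have hr35 : r = 3 ∨ r = 5 := by
    apply order_three_or_five R n hn r hr2 (g⁻¹ * (x : GL (Fin 2 ⊕ Fin 2) F) * g) hgN
    · exact (Cfsg.spGL 2 F).mul_mem ((Cfsg.spGL 2 F).mul_mem ((Cfsg.spGL 2 F).inv_mem hg) x.2) hg
    · have h1 : g⁻¹ * (x : GL (Fin 2 ⊕ Fin 2) F) * g =
          MulAut.conj g⁻¹ (x : GL (Fin 2 ⊕ Fin 2) F) := by
        rw [MulAut.conj_apply, inv_inv]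
      rw [h1, MulEquiv.orderOf_eq, Subgroup.orderOf_coe, hx]
  -- the two models
  have key : ∀ (A A' : Matrix (Fin 2 ⊕ Fin 2) (Fin 2 ⊕ Fin 2) F)
      (hA : A ∈ Matrix.symplecticGroup (Fin 2) F) (hA' : A' ∈ Matrix.symplecticGroup (Fin 2) F),
      A ^ r = 1 → A' ^ r = 1 →
      (∀ z : F, A ≠ z • (1 : Matrix (Fin 2 ⊕ Fin 2) (Fin 2 ⊕ Fin 2) F)) →
      (∀ z : F, A' ≠ z • (1 : Matrix (Fin 2 ⊕ Fin 2) (Fin 2 ⊕ Fin 2) F)) →
      finrank F (fixE (Matrix.toLin' A)) ≠ finrank F (fixE (Matrix.toLin' A')) → False := by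
    intro A A' hA hA' hAr hAr' hns hns' hne
    obtain ⟨y, hyN, hyS, hyr, hyfix⟩ := apply_hyp' R r H A hA hAr hns
    obtain ⟨y', hyN', hyS', hyr', hyfix'⟩ := apply_hyp' R r H A' hA' hAr' hns'
    apply hne
    rw [← hyfix, ← hyfix']
    exact finrank_fix_eq R n hn r hr2 y y' hyN hyS hyr hyN' hyS' hyr'
  by_contra hcon
  by_cases hrp : r = p
  · -- unipotent elements
    subst hrp
    obtain ⟨A, hA, hAr, hAfix⟩ := exists_transv (F := F) (p := r) 2 (by omega)
    apply key A (ublock F) hA ublock_mem hAr ublock_pow_char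
      (nonscalar_of_finrank_fix 2 A (by omega) (by omega)) ublock_nonscalar
    have := ublock_fix (F := F)
    omega
  · -- semisimple elements
    have hp0 : ((p : ℕ) : ZMod r) ≠ 0 := by
      intro h
      rw [ZMod.natCast_eq_zero_iff] at h
      exact hrp ((Nat.prime_dvd_prime_iff_eq hr hpp).1 h)
    have hord : orderOf ((p : ℕ) : ZMod r) ∣ r - 1 :=
      orderOf_dvd_of_pow_eq_one (ZMod.pow_card_sub_one_eq_one hp0)
    have hordpos : 0 < orderOf ((p : ℕ) : ZMod r) := by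
      apply Nat.pos_of_ne_zero
      intro h0
      rw [h0] at hord
      have : r - 1 = 0 := Nat.eq_zero_of_zero_dvd hord
      have := hr.two_le
      omega
    have hbd : blockDim (Fintype.card F) r = 2 := by
      rw [hF]
      unfold blockDim
      rcases hr35 with rfl | rfl
      · have h1 : orderOf ((p : ℕ) : ZMod 3) ≤ 2 := Nat.le_of_dvd (by norm_num) hord
        have h2 : orderOf ((p : ℕ) : ZMod 3) = 1 ∨ orderOf ((p : ℕ) : ZMod 3) = 2 := by omega
        rcases h2 with h2 | h2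
        · rw [h2, if_neg (by decide)]
        · rw [h2, if_pos (by decide)]
      · have h1 : orderOf ((p : ℕ) : ZMod 5) ≤ 4 := Nat.le_of_dvd (by norm_num) hord
        have h4 : orderOf ((p : ℕ) : ZMod 5) ≠ 4 := fun h => hcon ⟨rfl, h⟩
        have h3 : orderOf ((p : ℕ) : ZMod 5) ≠ 3 := by
          intro h
          rw [h] at hord
          norm_num at hord
        have h2 : orderOf ((p : ℕ) : ZMod 5) = 1 ∨ orderOf ((p : ℕ) : ZMod 5) = 2 := by omega
        rcases h2 with h2 | h2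
        · rw [h2, if_neg (by decide)]
        · rw [h2, if_pos (by decide)]
    obtain ⟨A, hA, hAr, hAfix, -⟩ := exists_sp_model (F := F) (p := p) r hr2 hrp 2 2 1
      (by rw [hbd])
    obtain ⟨A', hA', hAr', hAfix', -⟩ := exists_sp_model (F := F) (p := p) r hr2 hrp 2 0 2
      (by rw [hbd])
    apply key A A' hA hA' hAr hAr'
      (nonscalar_of_fix 2 (by omega) r hr2 A hA hAr (by omega))
      (nonscalar_of_fix 2 (by omega) r hr2 A' hA' hAr' (by omega))
    omega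

end fwd

end Cfsg.Agent.Lib.Helper12.Ex32
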