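import Mathlib
import Cfsg.Agent.Lib.Helper12.Ex32K
import Cfsg.Agent.Lib.Helper12.C3SpK

/-! Helper12 library (Ex32, part N): the backward direction for `r = 2` of the extraspecial
normalizer statement in `Sp₄(p)`: every non-scalar symplectic element with scalar square is
conjugate into `R`. -/

set_option autoImplicit false
set_option linter.unusedSectionVars false
set_option linter.unusedVariables false
set_option linter.style.haveILetI false

namespace Cfsg.Agent.Lib.Helper12.Ex32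

open Matrix Module Cfsg.Agent.Lib.Helper12.Sp Cfsg.Agent.Lib.Helper15
  Cfsg.Agent.Lib.Helper12.Elus Cfsg.Agent.Lib.Helper12.C3Sp
open scoped MatrixGroups

section bwd

universe u

variable {F : Type u} [Field F] [Fintype F]

variable (R : Subgroup (GL (Fin 2 ⊕ Fin 2) F))

theorem bwd_two (hodd : Odd (Fintype.card F)) (hRf : R ≤ Cfsg.spGL 2 F)
    (z : GL (Fin 2 ⊕ Fin 2) F) (T : Fin 5 → GL (Fin 2 ⊕ Fin 2) F)
    (hz : ((z : GL (Fin 2 ⊕ Fin 2) F) : Matrix (Fin 2 ⊕ Fin 2) (Fin 2 ⊕ Fin 2) F) = -1)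
    (h5 : FiveIn R z T) (hex : (T 0 * T 1) * (T 0 * T 1) = z)
    (x : GL (Fin 2 ⊕ Fin 2) F) (hx : x ∈ Cfsg.spGL 2 F)
    (hsq : ∃ c : F, ((x ^ 2 : GL (Fin 2 ⊕ Fin 2) F) :
      Matrix (Fin 2 ⊕ Fin 2) (Fin 2 ⊕ Fin 2) F) = c • 1)
    (hns : ∀ c : F, (x : Matrix (Fin 2 ⊕ Fin 2) (Fin 2 ⊕ Fin 2) F) ≠ c • 1) :
    ∃ g ∈ Cfsg.spGL 2 F, g⁻¹ * x * g ∈ Cfsg.Geo.subgroupNormalizer R := by
  classical
  obtain ⟨c, hc⟩ := hsq
  have h2F : (2 : F) ≠ 0 := two_ne_zero_of_odd hodd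
  have h2F' : ((2 : ℕ) : F) ≠ 0 := by exact_mod_cast h2F
  have hoddc : Fintype.card F % 2 = 1 := Nat.odd_iff.1 hodd
  set B := sympBilin 2 (F := F) with hB
  have hBalt : ∀ v, B v v = 0 := stdB_alt 2
  have hBnd : ∀ a, (∀ w, B a w = 0) → a = 0 := stdB_nd 2
  have hdim : finrank F (Fin 2 ⊕ Fin 2 → F) = 4 := by rw [std_finrank]
  set X := Matrix.toLin' (x : Matrix (Fin 2 ⊕ Fin 2) (Fin 2 ⊕ Fin 2) F) with hX
  have hXiso : ∀ u v, B (X u) (X v) = B u v :=
    std_iso 2 _ (mem_symplectic_of_preserves _ ((mem_spGL' 2 x).1 hx))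
  have hXX : ∀ v, X (X v) = c • v := by
    intro v
    rw [hX, Matrix.toLin'_apply, Matrix.toLin'_apply, Matrix.mulVec_mulVec, ← pow_two,
      ← Units.val_pow_eq_pow_val, hc, Matrix.smul_mulVec, Matrix.one_mulVec]
  have hXv : ∀ v, X v = (x : Matrix (Fin 2 ⊕ Fin 2) (Fin 2 ⊕ Fin 2) F) *ᵥ v := fun v =>
    Matrix.toLin'_apply _ v
  haveI : Nontrivial (Fin 2 ⊕ Fin 2 → F) := inferInstance
  have hcc : c * c = 1 := by
    apply scalar_sq_eq_one B hBnd c
    intro u v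
    rw [← hXX, ← hXX, hXiso, hXiso]
  have hc' : c = 1 ∨ c = -1 := by
    have : (c - 1) * (c + 1) = 0 := by linear_combination hcc
    rcases mul_eq_zero.1 this with h | h
    · left; exact sub_eq_zero.1 h
    · right; exact eq_neg_of_add_eq_zero_left h
  -- reduction to a conjugacy statement for linear maps
  have key : ∀ y : GL (Fin 2 ⊕ Fin 2) F, y ∈ R →
      (∃ g : (Fin 2 ⊕ Fin 2 → F) ≃ₗ[F] (Fin 2 ⊕ Fin 2 → F), (∀ u v, B (g u) (g v) = B u v) ∧
        ∀ v, g (X v) = Matrix.toLin' (y : Matrix (Fin 2 ⊕ Fin 2) (Fin 2 ⊕ Fin 2) F) (g v)) →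
      ∃ g ∈ Cfsg.spGL 2 F, g⁻¹ * x * g ∈ Cfsg.Geo.subgroupNormalizer R := by
    rintro y hy ⟨g, hgiso, hg⟩
    refine ⟨(glLin.symm g)⁻¹, (Cfsg.spGL 2 F).inv_mem (symm_mem_spGL g hgiso), ?_⟩
    rw [gl_conj x g (glLin y) (fun v => by
      rw [← hXv, glLin_apply, ← Matrix.toLin'_apply]; exact hg v)]
    rw [MulEquiv.symm_apply_apply]
    exact Subgroup.le_normalizer hy
  have hTiso : ∀ y : GL (Fin 2 ⊕ Fin 2) F, y ∈ R → ∀ u v,
      B (Matrix.toLin' (y : Matrix (Fin 2 ⊕ Fin 2) (Fin 2 ⊕ Fin 2) F) u)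
        (Matrix.toLin' (y : Matrix (Fin 2 ⊕ Fin 2) (Fin 2 ⊕ Fin 2) F) v) = B u v := by
    intro y hy
    exact std_iso 2 _ (mem_symplectic_of_preserves _ ((mem_spGL' 2 y).1 (hRf hy)))
  rcases hc' with rfl | rfl
  · -- involutions
    have hX2 : X ^ 2 = 1 := by
      apply LinearMap.ext
      intro v
      rw [pow_two, Module.End.mul_apply, hXX, one_smul, Module.End.one_apply]
    have hX1 : X ≠ 1 := by
      intro h
      apply hns 1
      apply matrix_eq_of_mulVec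
      intro v
      rw [← hXv, h, one_smul, Matrix.one_mulVec, Module.End.one_apply]
    have hXm1 : X ≠ -1 := by
      intro h
      apply hns (-1)
      apply matrix_eq_of_mulVec
      intro v
      rw [← hXv, h, Matrix.smul_mulVec, Matrix.one_mulVec, LinearMap.neg_apply,
        Module.End.one_apply, neg_smul, one_smul]
    set Y := Matrix.toLin' ((T 0 : GL (Fin 2 ⊕ Fin 2) F) :
      Matrix (Fin 2 ⊕ Fin 2) (Fin 2 ⊕ Fin 2) F) with hY
    have hY2 : Y ^ 2 = 1 := by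
      rw [hY, ← Matrix.toLin'_pow, pow_two, ← Units.val_mul, h5.sq, Units.val_one,
        Matrix.toLin'_one]
      rfl
    have hY1 : Y ≠ 1 := by
      intro h
      apply h5.ne_one 0
      apply Units.ext
      apply Matrix.toLin'.injective
      rw [Units.val_one, Matrix.toLin'_one]
      exact h
    have hYm1 : Y ≠ -1 := by
      intro h
      apply h5.ne_z 0
      apply Units.ext
      apply Matrix.toLin'.injective
      rw [hz, map_neg, Matrix.toLin'_one]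
      exact h
    apply key (T 0) (h5.mem 0)
    exact invol_conj B hBalt hBnd h2F' hdim X Y hXiso hX2 hX1 hXm1 (hTiso _ (h5.mem 0)) hY2 hY1
      hYm1
  · -- square `-1`
    have hXX' : ∀ v, X (X v) = -v := by
      intro v
      rw [hXX, neg_smul, one_smul]
    set Y := Matrix.toLin' ((T 0 * T 1 : GL (Fin 2 ⊕ Fin 2) F) :
      Matrix (Fin 2 ⊕ Fin 2) (Fin 2 ⊕ Fin 2) F) with hY
    have hmem : T 0 * T 1 ∈ R := R.mul_mem (h5.mem 0) (h5.mem 1)
    have hYY : ∀ v, Y (Y v) = -v := by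
      intro v
      rw [hY, ← LinearMap.comp_apply, ← Matrix.toLin'_mul, ← Units.val_mul, hex, hz, map_neg,
        Matrix.toLin'_one]
      rfl
    apply key (T 0 * T 1) hmem
    exact sqneg_conj B X hoddc hBalt hBnd h2F hdim Y hXiso hXX' (hTiso _ hmem) hYY

end bwd

end Cfsg.Agent.Lib.Helper12.Ex32
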