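import Mathlib
import Cfsg.Agent.Lib.Helper12.Ex32K

/-! Helper12 library (Ex32, part O): the rotations `1 + T_i T_j` attached to two anticommuting
involutions; they are similitudes of multiplier `2` and act on the five involutions as
transpositions up to sign. -/

set_option autoImplicit false
set_option linter.unusedSectionVars false
set_option linter.unusedVariables false
set_option linter.style.haveILetI false

namespace Cfsg.Agent.Lib.Helper12.Ex32

open Matrix Module Cfsg.Agent.Lib.Helper12.Sp Cfsg.Agent.Lib.Helper15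
open scoped MatrixGroups

section ring

variable {A : Type*} [Ring A]

theorem rot_sq (a b : A) (haa : a * a = 1) (hbb : b * b = 1) (hba : b * a = -(a * b)) :
    (a * b) * (a * b) = -1 := by
  have h1 : (a * b) * (a * b) = a * (b * a) * b := by noncomm_ring
  rw [h1, hba]
  have h2 : a * -(a * b) * b = -((a * a) * (b * b)) := by noncomm_ring
  rw [h2, haa, hbb, mul_one]

theorem rot_a (a b : A) (haa : a * a = 1) (hbb : b * b = 1) (hba : b * a = -(a * b)) :
    (1 + a * b) * a = (-b) * (1 + a * b) := by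
  have h1 : (1 + a * b) * a = a + a * (b * a) := by noncomm_ring
  have h2 : (-b) * (1 + a * b) = -b - (b * a) * b := by noncomm_ring
  rw [h1, h2, hba]
  have h3 : a + a * -(a * b) = a - (a * a) * b := by noncomm_ring
  have h4 : -b - -(a * b) * b = -b + a * (b * b) := by noncomm_ring
  rw [h3, h4, haa, hbb]
  noncomm_ring

theorem rot_b (a b : A) (haa : a * a = 1) (hbb : b * b = 1) (hba : b * a = -(a * b)) :
    (1 + a * b) * b = a * (1 + a * b) := by
  have h1 : (1 + a * b) * b = b + a * (b * b) := by noncomm_ring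
  have h2 : a * (1 + a * b) = a + (a * a) * b := by noncomm_ring
  rw [h1, h2, haa, hbb]
  noncomm_ring

theorem rot_c (a b c : A) (hca : c * a = -(a * c)) (hcb : c * b = -(b * c)) :
    (1 + a * b) * c = c * (1 + a * b) := by
  have h1 : c * (1 + a * b) = c + (c * a) * b := by noncomm_ring
  rw [h1, hca]
  have h2 : c + -(a * c) * b = c - a * (c * b) := by noncomm_ring
  rw [h2, hcb]
  noncomm_ring

theorem rot_inv (a b : A) (haa : a * a = 1) (hbb : b * b = 1) (hba : b * a = -(a * b)) :
    (1 + a * b) * (1 - a * b) = 2 ∧ (1 - a * b) * (1 + a * b) = 2 := by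
  have h := rot_sq a b haa hbb hba
  constructor
  · have h1 : (1 + a * b) * (1 - a * b) = 1 - (a * b) * (a * b) := by noncomm_ring
    rw [h1, h, sub_neg_eq_add, one_add_one_eq_two]
  · have h1 : (1 - a * b) * (1 + a * b) = 1 - (a * b) * (a * b) := by noncomm_ring
    rw [h1, h, sub_neg_eq_add, one_add_one_eq_two]

end ring

section sim

variable {F : Type*} [Field F]

/-- similitudes of the standard symplectic form -/
def Sim (M : Matrix (Fin 2 ⊕ Fin 2) (Fin 2 ⊕ Fin 2) F) (μ : F) : Prop :=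
  ∀ u v : Fin 2 ⊕ Fin 2 → F, sympBilin 2 (F := F) (M *ᵥ u) (M *ᵥ v) = μ * sympBilin 2 u v

theorem Sim.mul {M M' : Matrix (Fin 2 ⊕ Fin 2) (Fin 2 ⊕ Fin 2) F} {μ μ' : F} (h : Sim M μ)
    (h' : Sim M' μ') : Sim (M * M') (μ * μ') := by
  intro u v
  rw [← Matrix.mulVec_mulVec, ← Matrix.mulVec_mulVec, h, h', mul_assoc]

theorem sim_scalar (c : F) : Sim (c • (1 : Matrix (Fin 2 ⊕ Fin 2) (Fin 2 ⊕ Fin 2) F)) (c * c) := by
  intro u v
  rw [Matrix.smul_mulVec, Matrix.smul_mulVec, Matrix.one_mulVec, Matrix.one_mulVec, map_smul,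
    map_smul, LinearMap.smul_apply, smul_eq_mul, smul_eq_mul, mul_assoc]

theorem sim_rot (J : Matrix (Fin 2 ⊕ Fin 2) (Fin 2 ⊕ Fin 2) F) (hJ : Sim J 1) (hJJ : J * J = -1) :
    Sim (1 + J) 2 := by
  intro u v
  rw [Matrix.add_mulVec, Matrix.add_mulVec, Matrix.one_mulVec, Matrix.one_mulVec, map_add,
    map_add, LinearMap.add_apply, LinearMap.add_apply]
  have h1 : sympBilin 2 (F := F) (J *ᵥ u) (J *ᵥ v) = sympBilin 2 u v := by rw [hJ, one_mul]
  have h2 : sympBilin 2 (F := F) (J *ᵥ u) v = - sympBilin 2 u (J *ᵥ v) := by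
    have h3 := hJ (J *ᵥ u) v
    rw [one_mul, Matrix.mulVec_mulVec, hJJ, Matrix.neg_mulVec, Matrix.one_mulVec, map_neg,
      LinearMap.neg_apply] at h3
    rw [← h3]
  rw [h1, h2]
  ring

end sim

end Cfsg.Agent.Lib.Helper12.Ex32
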