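import Mathlib
import Cfsg.Agent.Lib.Helper12.Ex32O

/-! Helper12 library (Ex32, part P): an element of `N(R) ∩ Sp₄(p)` inducing a 5-cycle on the
five involution pairs of `R = 2^{1+4}_-`; hence `5` divides the order of `N(R) ∩ Sp₄(p)`. -/

set_option autoImplicit false
set_option linter.unusedSectionVars false
set_option linter.unusedVariables false
set_option linter.style.haveILetI false

namespace Cfsg.Agent.Lib.Helper12.Ex32

open Matrix Module Cfsg.Agent.Lib.Helper12.Sp Cfsg.Agent.Lib.Helper15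
open scoped MatrixGroups

section rotGL

variable {F : Type*} [Field F]

theorem conj_eq_of_val (g X Y : GL (Fin 2 ⊕ Fin 2) F)
    (h : (g : Matrix (Fin 2 ⊕ Fin 2) (Fin 2 ⊕ Fin 2) F) * (X : Matrix (Fin 2 ⊕ Fin 2) (Fin 2 ⊕ Fin 2) F)
      = (Y : Matrix (Fin 2 ⊕ Fin 2) (Fin 2 ⊕ Fin 2) F) * (g : Matrix (Fin 2 ⊕ Fin 2) (Fin 2 ⊕ Fin 2) F)) :
    g * X * g⁻¹ = Y := by
  have h1 : g * X = Y * g := by
    apply Units.ext
    rw [Units.val_mul, Units.val_mul]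
    exact h
  rw [h1, mul_assoc, mul_inv_cancel, mul_one]

variable (R : Subgroup (GL (Fin 2 ⊕ Fin 2) F))
  (z : GL (Fin 2 ⊕ Fin 2) F) (T : Fin 5 → GL (Fin 2 ⊕ Fin 2) F)

theorem mat_sq (h5 : FiveIn R z T) (i : Fin 5) :
    (T i : Matrix (Fin 2 ⊕ Fin 2) (Fin 2 ⊕ Fin 2) F) * (T i : Matrix (Fin 2 ⊕ Fin 2) (Fin 2 ⊕ Fin 2) F)
      = 1 := by
  rw [← Units.val_mul, h5.sq, Units.val_one]

theorem mat_anti (hz : (z : Matrix (Fin 2 ⊕ Fin 2) (Fin 2 ⊕ Fin 2) F) = -1) (h5 : FiveIn R z T)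
    (i j : Fin 5) (hij : i ≠ j) :
    (T j : Matrix (Fin 2 ⊕ Fin 2) (Fin 2 ⊕ Fin 2) F) * (T i : Matrix (Fin 2 ⊕ Fin 2) (Fin 2 ⊕ Fin 2) F)
      = -((T i : Matrix (Fin 2 ⊕ Fin 2) (Fin 2 ⊕ Fin 2) F) *
        (T j : Matrix (Fin 2 ⊕ Fin 2) (Fin 2 ⊕ Fin 2) F)) := by
  rw [← Units.val_mul, h5.anti i j hij, Units.val_mul, hz, Units.val_mul, neg_mul, one_mul]

theorem sim_of_mem (hRf : R ≤ Cfsg.spGL 2 F) (y : GL (Fin 2 ⊕ Fin 2) F) (hy : y ∈ R) :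
    Sim (y : Matrix (Fin 2 ⊕ Fin 2) (Fin 2 ⊕ Fin 2) F) 1 := by
  intro u v
  rw [sympBilin_apply, sympBilin_apply, one_mul]
  exact (C3Sp.mem_spGL' 2 y).1 (hRf hy) u v

/-- the rotation attached to `T i`, `T j` -/
theorem exists_rot (h2 : (2 : F) ≠ 0) (hRf : R ≤ Cfsg.spGL 2 F)
    (hz : (z : Matrix (Fin 2 ⊕ Fin 2) (Fin 2 ⊕ Fin 2) F) = -1) (h5 : FiveIn R z T)
    (i j : Fin 5) (hij : i ≠ j) :
    ∃ g : GL (Fin 2 ⊕ Fin 2) F, Sim (g : Matrix (Fin 2 ⊕ Fin 2) (Fin 2 ⊕ Fin 2) F) 2 ∧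
      Moves z T g i j ∧ Moves z T g j i ∧ ∀ k, k ≠ i → k ≠ j → Moves z T g k k := by
  obtain ⟨a, ha⟩ : ∃ a : Matrix (Fin 2 ⊕ Fin 2) (Fin 2 ⊕ Fin 2) F, a = (T i : Matrix _ _ F) :=
    ⟨_, rfl⟩
  obtain ⟨b, hb⟩ : ∃ b : Matrix (Fin 2 ⊕ Fin 2) (Fin 2 ⊕ Fin 2) F, b = (T j : Matrix _ _ F) :=
    ⟨_, rfl⟩
  have haa : a * a = 1 := by rw [ha]; exact mat_sq R z T h5 i
  have hbb : b * b = 1 := by rw [hb]; exact mat_sq R z T h5 j
  have hba : b * a = -(a * b) := by rw [ha, hb]; exact mat_anti R z T hz h5 i j hij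
  obtain ⟨hi1, hi2⟩ := rot_inv a b haa hbb hba
  have h2' : (2 : Matrix (Fin 2 ⊕ Fin 2) (Fin 2 ⊕ Fin 2) F) = (2 : F) • 1 := by
    rw [two_smul, one_add_one_eq_two]
  have e1 : (1 + a * b) * ((2 : F)⁻¹ • (1 - a * b)) = 1 := by
    rw [Matrix.mul_smul, hi1, h2', smul_smul, inv_mul_cancel₀ h2, one_smul]
  have e2 : ((2 : F)⁻¹ • (1 - a * b)) * (1 + a * b) = 1 := by
    rw [Matrix.smul_mul, hi2, h2', smul_smul, inv_mul_cancel₀ h2, one_smul]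
  refine ⟨⟨1 + a * b, (2 : F)⁻¹ • (1 - a * b), e1, e2⟩, ?_, ?_, ?_, ?_⟩
  · show Sim (1 + a * b) 2
    apply sim_rot
    · have := (sim_of_mem R hRf (T i) (h5.mem i)).mul (sim_of_mem R hRf (T j) (h5.mem j))
      rw [one_mul] at this
      rw [ha, hb]
      exact this
    · exact rot_sq a b haa hbb hba
  · right
    apply conj_eq_of_val
    show (1 + a * b) * (T i : Matrix _ _ F) = ((z * T j : GL (Fin 2 ⊕ Fin 2) F) : Matrix _ _ F) *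
      (1 + a * b)
    rw [Units.val_mul, hz, ← ha, ← hb, neg_mul, one_mul]
    exact rot_a a b haa hbb hba
  · left
    apply conj_eq_of_val
    show (1 + a * b) * (T j : Matrix _ _ F) = (T i : Matrix _ _ F) * (1 + a * b)
    rw [← ha, ← hb]
    exact rot_b a b haa hbb hba
  · intro k hki hkj
    left
    apply conj_eq_of_val
    show (1 + a * b) * (T k : Matrix _ _ F) = (T k : Matrix _ _ F) * (1 + a * b)
    apply rot_c
    · rw [ha]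
      exact mat_anti R z T hz h5 i k (Ne.symm hki)
    · rw [hb]
      exact mat_anti R z T hz h5 j k (Ne.symm hkj)

/-- the 5-cycle -/
theorem cyc_order : orderOf ((Equiv.swap (0 : Fin 5) 1) * (Equiv.swap 1 2) * (Equiv.swap 2 3) *
    (Equiv.swap 3 4)) = 5 := by
  haveI : Fact (Nat.Prime 5) := ⟨by norm_num⟩
  apply orderOf_eq_prime
  · decide
  · decide

theorem five_dvd_card [Finite R] (h2 : (2 : F) ≠ 0) (hRf : R ≤ Cfsg.spGL 2 F)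
    (hz : (z : Matrix (Fin 2 ⊕ Fin 2) (Fin 2 ⊕ Fin 2) F) = -1) (h5 : FiveIn R z T)
    [Finite ↥(Cfsg.Geo.subgroupNormalizer R ⊓ Cfsg.spGL 2 F)] :
    5 ∣ Nat.card ↥(Cfsg.Geo.subgroupNormalizer R ⊓ Cfsg.spGL 2 F) := by
  classical
  obtain ⟨g01, s01, a01, b01, c01⟩ := exists_rot R z T h2 hRf hz h5 0 1 (by decide)
  obtain ⟨g12, s12, a12, b12, c12⟩ := exists_rot R z T h2 hRf hz h5 1 2 (by decide)
  obtain ⟨g23, s23, a23, b23, c23⟩ := exists_rot R z T h2 hRf hz h5 2 3 (by decide)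
  obtain ⟨g34, s34, a34, b34, c34⟩ := exists_rot R z T h2 hRf hz h5 3 4 (by decide)
  have hmemN : ∀ (g : GL (Fin 2 ⊕ Fin 2) F) (i j : Fin 5), Moves z T g i j → Moves z T g j i →
      (∀ k, k ≠ i → k ≠ j → Moves z T g k k) →
      g ∈ Subgroup.normalizer (R : Set (GL (Fin 2 ⊕ Fin 2) F)) := by
    intro g i j hij hji hk
    apply h5.mem_normalizer_of_moves
    intro k
    by_cases hki : k = i
    · exact ⟨j, by rw [hki]; exact hij⟩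
    by_cases hkj : k = j
    · exact ⟨i, by rw [hkj]; exact hji⟩
    exact ⟨k, hk k hki hkj⟩
  have n01 := hmemN g01 0 1 a01 b01 c01
  have n12 := hmemN g12 1 2 a12 b12 c12
  have n23 := hmemN g23 2 3 a23 b23 c23
  have n34 := hmemN g34 3 4 a34 b34 c34
  -- the scalar
  have h4 : (4 : F) ≠ 0 := by
    have : (4 : F) = 2 * 2 := by norm_num
    rw [this]
    exact mul_ne_zero h2 h2
  obtain ⟨s, hs⟩ : ∃ s : GL (Fin 2 ⊕ Fin 2) F,
      (s : Matrix (Fin 2 ⊕ Fin 2) (Fin 2 ⊕ Fin 2) F) = (4 : F)⁻¹ • 1 := by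
    refine ⟨⟨(4 : F)⁻¹ • 1, (4 : F) • 1, ?_, ?_⟩, rfl⟩
    · rw [Matrix.smul_mul, Matrix.mul_smul, Matrix.one_mul, smul_smul, inv_mul_cancel₀ h4,
        one_smul]
    · rw [Matrix.smul_mul, Matrix.mul_smul, Matrix.one_mul, smul_smul, mul_inv_cancel₀ h4,
        one_smul]
  have hsc : ∀ x : GL (Fin 2 ⊕ Fin 2) F, s * x * s⁻¹ = x := by
    intro x
    apply conj_eq_of_val
    rw [hs, Matrix.smul_mul, Matrix.mul_smul, Matrix.one_mul, Matrix.mul_one]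
  have ns : s ∈ Subgroup.normalizer (R : Set (GL (Fin 2 ⊕ Fin 2) F)) := by
    rw [Subgroup.mem_normalizer_iff]
    intro x
    rw [hsc]
  have hs1 : actHom h5 ⟨s, ns⟩ = 1 := by
    apply Equiv.ext
    intro k
    rw [actHom_apply, Equiv.Perm.one_apply]
    apply sig_eq
    left
    exact hsc _
  -- the element
  obtain ⟨hN, hhN⟩ : ∃ hN : Subgroup.normalizer (R : Set (GL (Fin 2 ⊕ Fin 2) F)),
      hN = ⟨s, ns⟩ * ⟨g01, n01⟩ * ⟨g12, n12⟩ * ⟨g23, n23⟩ * ⟨g34, n34⟩ := ⟨_, rfl⟩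
  have hact : actHom h5 hN = (Equiv.swap (0 : Fin 5) 1) * (Equiv.swap 1 2) * (Equiv.swap 2 3) *
      (Equiv.swap 3 4) := by
    rw [hhN, map_mul, map_mul, map_mul, map_mul, hs1, one_mul,
      sig_eq_swap h5 ⟨g01, n01⟩ 0 1 a01 b01 c01, sig_eq_swap h5 ⟨g12, n12⟩ 1 2 a12 b12 c12,
      sig_eq_swap h5 ⟨g23, n23⟩ 2 3 a23 b23 c23, sig_eq_swap h5 ⟨g34, n34⟩ 3 4 a34 b34 c34]
  have hSp : (hN : GL (Fin 2 ⊕ Fin 2) F) ∈ Cfsg.spGL 2 F := by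
    rw [C3Sp.mem_spGL']
    intro u v
    have hval : ((hN : GL (Fin 2 ⊕ Fin 2) F) : Matrix (Fin 2 ⊕ Fin 2) (Fin 2 ⊕ Fin 2) F) =
        (s : Matrix (Fin 2 ⊕ Fin 2) (Fin 2 ⊕ Fin 2) F) * (g01 : Matrix _ _ F) * (g12 : Matrix _ _ F) *
          (g23 : Matrix _ _ F) * (g34 : Matrix _ _ F) := by
      rw [hhN]
      rfl
    have hsim : Sim ((hN : GL (Fin 2 ⊕ Fin 2) F) : Matrix (Fin 2 ⊕ Fin 2) (Fin 2 ⊕ Fin 2) F)
        ((4 : F)⁻¹ * (4 : F)⁻¹ * 2 * 2 * 2 * 2) := by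
      rw [hval, hs]
      exact ((((sim_scalar (4 : F)⁻¹).mul s01).mul s12).mul s23).mul s34
    have h1 : (4 : F)⁻¹ * (4 : F)⁻¹ * 2 * 2 * 2 * 2 = 1 := by
      have h44 : (4 : F)⁻¹ * 4 = 1 := inv_mul_cancel₀ h4
      linear_combination (4 * (4 : F)⁻¹ + 1) * h44
    rw [h1] at hsim
    have := hsim u v
    rw [sympBilin_apply, sympBilin_apply, one_mul] at this
    exact this
  have hle : Cfsg.Geo.subgroupNormalizer R ⊓ Cfsg.spGL 2 F ≤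
      Subgroup.normalizer (R : Set (GL (Fin 2 ⊕ Fin 2) F)) := inf_le_left
  let ψ : ↥(Cfsg.Geo.subgroupNormalizer R ⊓ Cfsg.spGL 2 F) →* Equiv.Perm (Fin 5) :=
    (actHom h5).comp (Subgroup.inclusion hle)
  let h' : ↥(Cfsg.Geo.subgroupNormalizer R ⊓ Cfsg.spGL 2 F) :=
    ⟨(hN : GL (Fin 2 ⊕ Fin 2) F), hN.2, hSp⟩
  have hψ : ψ h' = actHom h5 hN := by
    show actHom h5 (Subgroup.inclusion hle h') = actHom h5 hN
    congr 1
  have h5o : orderOf (ψ h') = 5 := by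
    rw [hψ, hact]
    exact cyc_order
  have h6 : orderOf (ψ h') ∣ orderOf h' := orderOf_map_dvd ψ h'
  rw [h5o] at h6
  exact h6.trans (orderOf_dvd_natCard h')

end rotGL

end Cfsg.Agent.Lib.Helper12.Ex32
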