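import Mathlib
import Cfsg.Agent.S2638
import Cfsg.Agent.Lib.Helper12.ElusE

/-! Helper12 library (Ex32, part Q): elements of order `5` of `GL₄(p)` when `p` has order `4`
modulo `5`: they act irreducibly, an element of order dividing `5` commuting with one of them is a
power of it, and any two subgroups of order `5` of a subgroup of `GL₄(p)` are conjugate in it. -/

set_option autoImplicit false
set_option linter.unusedSectionVars false
set_option linter.unusedVariables false
set_option linter.style.haveILetI false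

namespace Cfsg.Agent.Lib.Helper12.Ex32

open Matrix Module Cfsg.Agent.Lib.Helper12.Elus
open scoped MatrixGroups

section irr

variable {F : Type*} [Field F] [Fintype F] {ι : Type} [Fintype ι] [DecidableEq ι]

theorem five_ne_zero (hq : orderOf ((Fintype.card F : ℕ) : ZMod 5) = 4) : ((5 : ℕ) : F) ≠ 0 := by
  intro h5
  obtain ⟨p, hp⟩ := CharP.exists F
  haveI := hp
  haveI : Fact p.Prime := ⟨CharP.char_is_prime F p⟩
  have h1 : p ∣ 5 := (CharP.cast_eq_zero_iff F p 5).1 h5
  have h2 : p = 5 := (Nat.prime_dvd_prime_iff_eq (Fact.out : p.Prime) (by norm_num)).1 h1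
  obtain ⟨n, hn⟩ := FiniteField.card F p
  have h3 : ((Fintype.card F : ℕ) : ZMod 5) = 0 := by
    rw [hn.2, h2]
    rw [ZMod.natCast_eq_zero_iff]
    exact dvd_pow_self 5 n.ne_zero
  rw [h3] at hq
  have h4 : orderOf (0 : ZMod 5) = 0 := by
    rw [orderOf_eq_zero_iff]
    intro hfin
    obtain ⟨k, hk, hk1⟩ := hfin.exists_pow_eq_one
    rw [zero_pow hk.ne'] at hk1
    exact absurd hk1 (by decide)
  omega

/-- an element of order `5` of `GL₄(p)` acts irreducibly if `p` has order `4` modulo `5` -/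
theorem irred_of_order_five (hι : Fintype.card ι = 4)
    (hq : orderOf ((Fintype.card F : ℕ) : ZMod 5) = 4) (x : GL ι F) (hx : orderOf x = 5)
    (U : Submodule F (ι → F)) (hU : ∀ u ∈ U, Matrix.toLin' (x : Matrix ι ι F) u ∈ U) :
    U = ⊥ ∨ U = ⊤ := by
  haveI : Fact (Nat.Prime 5) := ⟨by norm_num⟩
  have h50 := five_ne_zero hq
  set f := Matrix.toLin' (x : Matrix ι ι F) with hf
  have hf5 : f ^ 5 = 1 := by
    rw [hf, ← Matrix.toLin'_pow, ← Units.val_pow_eq_pow_val, ← hx, pow_orderOf_eq_one,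
      Units.val_one, Matrix.toLin'_one]
    rfl
  have hdim : finrank F (ι → F) = 4 := by
    rw [Module.finrank_fintype_fun_eq_card, hι]
  -- the moved space is everything
  have h1 : orderOf ((Fintype.card F : ℕ) : ZMod 5) ∣ finrank F (movR f) :=
    orderOf_dvd_finrank_of_le_movR f 5 hf5 h50 (movR f) (movR_invariant f) le_rfl
  rw [hq] at h1
  have h2 : finrank F (movR f) + finrank F (fixE f) = 4 := by
    rw [← hdim]
    exact LinearMap.finrank_range_add_finrank_ker (f - 1)
  have h3 : finrank F (movR f) ≠ 0 := by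
    intro h0
    have h4 : movR f = ⊥ := Submodule.finrank_eq_zero.1 h0
    have h5 : f - 1 = 0 := LinearMap.range_eq_bot.1 h4
    have h6 : f = 1 := sub_eq_zero.1 h5
    have h7 : x = 1 := by
      apply Units.ext
      apply Matrix.toLin'.injective
      rw [Units.val_one, Matrix.toLin'_one]
      exact h6
    rw [h7, orderOf_one] at hx
    omega
  have h4 : finrank F (fixE f) = 0 := by
    obtain ⟨k, hk⟩ := h1
    rcases Nat.eq_zero_or_pos k with h | h
    · rw [h, mul_zero] at hk
      exact absurd hk h3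
    · omega
  have h5 : fixE f = ⊥ := Submodule.finrank_eq_zero.1 h4
  have h6 : orderOf ((Fintype.card F : ℕ) : ZMod 5) ∣ finrank F U := by
    apply orderOf_dvd_finrank f 5 hf5 U hU
    intro u hu hfu
    have : u ∈ fixE f := (mem_fixE f u).2 hfu
    rw [h5] at this
    exact (Submodule.mem_bot F).1 this
  rw [hq] at h6
  have h7 : finrank F U ≤ 4 := by
    rw [← hdim]
    exact Submodule.finrank_le U
  obtain ⟨k, hk⟩ := h6
  rcases Nat.eq_zero_or_pos k with h | h
  · left
    rw [h, mul_zero] at hk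
    exact Submodule.finrank_eq_zero.1 hk
  · right
    apply Submodule.eq_top_of_finrank_eq
    rw [hdim]
    omega

/-- an element of order dividing `5` commuting with an element of order `5` is a power of it -/
theorem mem_zpowers_of_comm (hι : Fintype.card ι = 4)
    (hq : orderOf ((Fintype.card F : ℕ) : ZMod 5) = 4) (z a : GL ι F) (hz : orderOf z = 5)
    (hc : a * z = z * a) (ha : a ^ 5 = 1) : a ∈ Subgroup.zpowers z := by
  classical
  haveI : Nonempty ι := by
    rw [← Fintype.card_pos_iff, hι]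
    norm_num
  haveI : Nontrivial (ι → F) := Function.nontrivial
  let e : GL ι F ≃* (Module.End F (ι → F))ˣ := Matrix.GeneralLinearGroup.toLin
  have hirr : ∀ U : Submodule F (ι → F), (∀ u ∈ U, ((e z : (Module.End F (ι → F))ˣ) :
      Module.End F (ι → F)) u ∈ U) → U = ⊥ ∨ U = ⊤ := by
    intro U hU
    apply irred_of_order_five hι hq z hz U
    intro u hu
    have := hU u hu
    rw [Matrix.GeneralLinearGroup.coe_toLin] at this
    rw [Matrix.toLin'_apply']
    exact this
  obtain ⟨hcyc, -⟩ := Cfsg.Agent.S2638.simple_centralizer (e z) hirr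
  set C := Subgroup.centralizer ({e z} : Set (Module.End F (ι → F))ˣ) with hC
  have hzC : e z ∈ C := by
    rw [hC, Subgroup.mem_centralizer_iff]
    intro y hy
    rw [Set.mem_singleton_iff.1 hy]
  have haC : e a ∈ C := by
    rw [hC, Subgroup.mem_centralizer_iff]
    intro y hy
    rw [Set.mem_singleton_iff.1 hy, ← map_mul, ← map_mul, hc]
  haveI : Finite (ι → F) := inferInstance
  haveI : Finite (Module.End F (ι → F)) :=
    Finite.of_injective (fun g : Module.End F (ι → F) => (g : (ι → F) → (ι → F)))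
      DFunLike.coe_injective
  haveI : Finite (Module.End F (ι → F))ˣ := inferInstance
  haveI : Fintype C := Fintype.ofFinite C
  haveI : IsCyclic C := hcyc
  let z' : C := ⟨e z, hzC⟩
  let a' : C := ⟨e a, haC⟩
  have hz' : orderOf z' = 5 := by
    rw [Subgroup.orderOf_mk, MulEquiv.orderOf_eq, hz]
  have ha' : a' ^ 5 = 1 := by
    apply Subtype.ext
    show (e a) ^ 5 = 1
    rw [← map_pow, ha, map_one]
  have hle := IsCyclic.card_pow_eq_one_le (α := C) (n := 5) (by norm_num)
  have hZsub : (Subgroup.zpowers z' : Set C).toFinset ⊆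
      Finset.univ.filter (fun c : C => c ^ 5 = 1) := by
    intro c hc'
    rw [Set.mem_toFinset] at hc'
    rw [Finset.mem_filter]
    refine ⟨Finset.mem_univ _, ?_⟩
    obtain ⟨k, rfl⟩ := Subgroup.mem_zpowers_iff.1 hc'
    rw [← zpow_natCast, ← _root_.zpow_mul, mul_comm, _root_.zpow_mul, zpow_natCast, ← hz', pow_orderOf_eq_one,
      _root_.one_zpow]
  have hZcard : (Subgroup.zpowers z' : Set C).toFinset.card = 5 := by
    rw [Set.toFinset_card]
    rw [← hz']
    exact Fintype.card_zpowers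
  have ha'mem : a' ∈ Subgroup.zpowers z' := by
    by_contra hnot
    have h1 : insert a' (Subgroup.zpowers z' : Set C).toFinset ⊆
        Finset.univ.filter (fun c : C => c ^ 5 = 1) := by
      apply Finset.insert_subset
      · rw [Finset.mem_filter]
        exact ⟨Finset.mem_univ _, ha'⟩
      · exact hZsub
    have h2 := Finset.card_le_card h1
    rw [Finset.card_insert_of_notMem (by rw [Set.mem_toFinset]; exact hnot), hZcard] at h2
    omega
  obtain ⟨k, hk⟩ := Subgroup.mem_zpowers_iff.1 ha'mem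
  rw [Subgroup.mem_zpowers_iff]
  refine ⟨k, ?_⟩
  apply e.injective
  rw [map_zpow]
  have := congrArg (fun c : C => (c : (Module.End F (ι → F))ˣ)) hk
  simpa using this

/-- two elements of order `5` of a subgroup of `GL₄(p)` generate conjugate subgroups -/
theorem conj_order_five (hι : Fintype.card ι = 4)
    (hq : orderOf ((Fintype.card F : ℕ) : ZMod 5) = 4) (S : Subgroup (GL ι F))
    (x h : GL ι F) (hxS : x ∈ S) (hhS : h ∈ S) (hx : orderOf x = 5) (hh : orderOf h = 5) :
    ∃ g ∈ S, ∃ k : ℤ, g⁻¹ * x * g = h ^ k := by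
  classical
  haveI : Fact (Nat.Prime 5) := ⟨by norm_num⟩
  haveI : Finite (GL ι F) := inferInstance
  haveI : Finite S := inferInstance
  obtain ⟨x', hx'⟩ : ∃ x' : S, (x' : GL ι F) = x := ⟨⟨x, hxS⟩, rfl⟩
  obtain ⟨h', hh'⟩ : ∃ h' : S, (h' : GL ι F) = h := ⟨⟨h, hhS⟩, rfl⟩
  have hox : orderOf x' = 5 := by rw [← Subgroup.orderOf_coe, hx', hx]
  have hoh : orderOf h' = 5 := by rw [← Subgroup.orderOf_coe, hh', hh]
  have hpx : IsPGroup 5 (Subgroup.zpowers x') := by
    apply IsPGroup.of_card (n := 1)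
    rw [Nat.card_zpowers, hox, pow_one]
  have hph : IsPGroup 5 (Subgroup.zpowers h') := by
    apply IsPGroup.of_card (n := 1)
    rw [Nat.card_zpowers, hoh, pow_one]
  obtain ⟨P, hP⟩ := hpx.exists_le_sylow
  obtain ⟨Q, hQ⟩ := hph.exists_le_sylow
  obtain ⟨c, hc⟩ := MulAction.exists_smul_eq S Q P
  have hxP : x' ∈ (P : Subgroup S) := hP (Subgroup.mem_zpowers x')
  have hhQ : h' ∈ (Q : Subgroup S) := hQ (Subgroup.mem_zpowers h')
  have hcP : c * h' * c⁻¹ ∈ (P : Subgroup S) := by
    rw [← hc, Sylow.coe_subgroup_smul, Subgroup.mem_pointwise_smul_iff_inv_smul_mem]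
    have : (MulAut.conj c)⁻¹ • (c * h' * c⁻¹) = h' := by
      rw [← map_inv, MulAut.smul_def, MulAut.conj_apply]
      group
    rw [this]
    exact hhQ
  -- a central element of order five of `P`
  haveI : Nontrivial (P : Subgroup S) := by
    refine ⟨⟨⟨x', hxP⟩, 1, ?_⟩⟩
    intro h1
    have h2 : x' = 1 := congrArg Subtype.val h1
    rw [h2, orderOf_one] at hox
    omega
  have hPp : IsPGroup 5 (P : Subgroup S) := P.2
  haveI := hPp.center_nontrivial
  have hcp : IsPGroup 5 (Subgroup.center (P : Subgroup S)) := hPp.to_subgroup _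
  obtain ⟨n, hn⟩ := IsPGroup.iff_card.1 hcp
  have hn0 : n ≠ 0 := by
    rintro rfl
    rw [pow_zero] at hn
    have := Finite.one_lt_card (α := Subgroup.center (P : Subgroup S))
    omega
  have h5dvd : 5 ∣ Nat.card (Subgroup.center (P : Subgroup S)) := by
    rw [hn]
    exact dvd_pow_self 5 hn0
  obtain ⟨w, hw⟩ := exists_prime_orderOf_dvd_card' 5 h5dvd
  obtain ⟨wG, hwG⟩ : ∃ wG : GL ι F, wG = (((w : (P : Subgroup S)) : S) : GL ι F) := ⟨_, rfl⟩
  have hwo : orderOf wG = 5 := by
    rw [hwG, Subgroup.orderOf_coe, Subgroup.orderOf_coe, Subgroup.orderOf_coe, hw]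
  have hcomm : ∀ y : S, y ∈ (P : Subgroup S) → (y : GL ι F) * wG = wG * (y : GL ι F) := by
    intro y hy
    have h1 := Subgroup.mem_center_iff.1 w.2 ⟨y, hy⟩
    have h2 := congrArg (fun u : (P : Subgroup S) => ((u : S) : GL ι F)) h1
    rw [hwG]
    exact h2
  have hxw : x ∈ Subgroup.zpowers wG := by
    apply mem_zpowers_of_comm hι hq wG x hwo
    · rw [← hx']
      exact hcomm x' hxP
    · rw [← hx, pow_orderOf_eq_one]
  obtain ⟨y, hy⟩ : ∃ y : GL ι F, y = ((c * h' * c⁻¹ : S) : GL ι F) := ⟨_, rfl⟩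
  have hyo : orderOf y = 5 := by
    rw [hy, Subgroup.orderOf_coe]
    have : c * h' * c⁻¹ = MulAut.conj c h' := by rw [MulAut.conj_apply]
    rw [this, MulEquiv.orderOf_eq, hoh]
  have hyw : y ∈ Subgroup.zpowers wG := by
    apply mem_zpowers_of_comm hι hq wG y hwo
    · rw [hy]
      exact hcomm _ hcP
    · rw [← hyo, pow_orderOf_eq_one]
  have hxy : x ∈ Subgroup.zpowers y := by
    apply mem_zpowers_of_comm hι hq y x hyo
    · obtain ⟨i, hi⟩ := Subgroup.mem_zpowers_iff.1 hxw
      obtain ⟨j, hj⟩ := Subgroup.mem_zpowers_iff.1 hyw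
      rw [← hi, ← hj, ← _root_.zpow_add, ← _root_.zpow_add, add_comm]
    · rw [← hx, pow_orderOf_eq_one]
  obtain ⟨k, hk⟩ := Subgroup.mem_zpowers_iff.1 hxy
  refine ⟨(c : GL ι F), c.2, k, ?_⟩
  rw [← hk, hy]
  have h1 : ((c * h' * c⁻¹ : S) : GL ι F) = (c : GL ι F) * h * (c : GL ι F)⁻¹ := by
    rw [← hh']
    rfl
  rw [h1]
  have h2 : ((c : GL ι F) * h * (c : GL ι F)⁻¹) ^ k = (c : GL ι F) * h ^ k * (c : GL ι F)⁻¹ := by
    have : (c : GL ι F) * h * (c : GL ι F)⁻¹ = MulAut.conj (c : GL ι F) h := by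
      rw [MulAut.conj_apply]
    rw [this, ← map_zpow, MulAut.conj_apply]
  rw [h2]
  group

end irr

end Cfsg.Agent.Lib.Helper12.Ex32
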