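import Mathlib
import Cfsg.Agent.Lib.Helper12.Ex32P
import Cfsg.Agent.Lib.Helper12.Ex32Q

/-! Helper12 library (Ex32, part R): the backward direction for `r = 5` of the extraspecial
normalizer statement in `Sp₄(p)`, `p` of order `4` modulo `5`. -/

set_option autoImplicit false
set_option linter.unusedSectionVars false
set_option linter.unusedVariables false
set_option linter.style.haveILetI false

namespace Cfsg.Agent.Lib.Helper12.Ex32

open Matrix Module Cfsg.Agent.Lib.Helper12.Sp Cfsg.Agent.Lib.Helper15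
open scoped MatrixGroups

section bwd5

variable {F : Type*} [Field F] [Fintype F]

variable (R : Subgroup (GL (Fin 2 ⊕ Fin 2) F))

theorem bwd_five (h2 : (2 : F) ≠ 0) (hq : orderOf ((Fintype.card F : ℕ) : ZMod 5) = 4)
    (hRf : R ≤ Cfsg.spGL 2 F)
    (z : GL (Fin 2 ⊕ Fin 2) F) (T : Fin 5 → GL (Fin 2 ⊕ Fin 2) F)
    (hz : ((z : GL (Fin 2 ⊕ Fin 2) F) : Matrix (Fin 2 ⊕ Fin 2) (Fin 2 ⊕ Fin 2) F) = -1)
    (h5 : FiveIn R z T)
    (x : GL (Fin 2 ⊕ Fin 2) F) (hx : x ∈ Cfsg.spGL 2 F)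
    (hpow : ∃ c : F, ((x ^ 5 : GL (Fin 2 ⊕ Fin 2) F) :
      Matrix (Fin 2 ⊕ Fin 2) (Fin 2 ⊕ Fin 2) F) = c • 1)
    (hns : ∀ c : F, (x : Matrix (Fin 2 ⊕ Fin 2) (Fin 2 ⊕ Fin 2) F) ≠ c • 1) :
    ∃ g ∈ Cfsg.spGL 2 F, g⁻¹ * x * g ∈ Cfsg.Geo.subgroupNormalizer R := by
  classical
  haveI : Fact (Nat.Prime 5) := ⟨by norm_num⟩
  haveI : Finite (GL (Fin 2 ⊕ Fin 2) F) := inferInstance
  haveI : Finite R := inferInstance
  haveI : Finite ↥(Cfsg.Geo.subgroupNormalizer R ⊓ Cfsg.spGL 2 F) := inferInstance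
  obtain ⟨c, hc⟩ := hpow
  have hc' : c = 1 ∨ c = -1 := by
    apply scalar_of_sp
    intro u v
    rw [← hc]
    exact (C3Sp.mem_spGL' 2 (x ^ 5)).1 ((Cfsg.spGL 2 F).pow_mem hx 5) u v
  -- an element of order five of the normalizer
  have hdvd := five_dvd_card R z T h2 hRf hz h5
  obtain ⟨h, hh⟩ := exists_prime_orderOf_dvd_card' 5 hdvd
  have hhN : (h : GL (Fin 2 ⊕ Fin 2) F) ∈ Cfsg.Geo.subgroupNormalizer R := h.2.1
  have hhS : (h : GL (Fin 2 ⊕ Fin 2) F) ∈ Cfsg.spGL 2 F := h.2.2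
  have hho : orderOf (h : GL (Fin 2 ⊕ Fin 2) F) = 5 := by
    rw [Subgroup.orderOf_coe, hh]
  have hzS : z ∈ Cfsg.spGL 2 F := hRf h5.zmem
  -- the sign
  obtain ⟨ε, hεc, hεN, hεS, hεx⟩ : ∃ ε : GL (Fin 2 ⊕ Fin 2) F,
      (∀ g : GL (Fin 2 ⊕ Fin 2) F, g * ε = ε * g) ∧ ε ∈ Cfsg.Geo.subgroupNormalizer R ∧
      ε ∈ Cfsg.spGL 2 F ∧ (ε * x) ^ 5 = 1 := by
    rcases hc' with rfl | rfl
    · refine ⟨1, fun g => by rw [mul_one, one_mul], Subgroup.one_mem _, Subgroup.one_mem _, ?_⟩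
      rw [one_mul]
      apply Units.ext
      rw [hc, one_smul, Units.val_one]
    · refine ⟨z, h5.zc, Subgroup.le_normalizer h5.zmem, hzS, ?_⟩
      have hcomm : Commute z x := (h5.zc x).symm
      rw [hcomm.mul_pow]
      apply Units.ext
      rw [Units.val_mul, hc, Units.val_pow_eq_pow_val, hz, Units.val_one]
      simp
      norm_num [pow_succ]
  have hεx1 : ε * x ≠ 1 := by
    intro h1
    have h3 : x = ε⁻¹ := eq_inv_of_mul_eq_one_right h1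
    -- `ε⁻¹` is scalar
    have hεs : ∃ d : F, ((ε⁻¹ : GL (Fin 2 ⊕ Fin 2) F) :
        Matrix (Fin 2 ⊕ Fin 2) (Fin 2 ⊕ Fin 2) F) = d • 1 := by
      have hεi : ∀ g : GL (Fin 2 ⊕ Fin 2) F, g * ε⁻¹ = ε⁻¹ * g := by
        intro g
        have := hεc g
        calc g * ε⁻¹ = ε⁻¹ * (ε * g) * ε⁻¹ := by group
          _ = ε⁻¹ * (g * ε) * ε⁻¹ := by rw [this]
          _ = ε⁻¹ * g := by group
      -- central elements of `GL` commute with `R`, hence are scalar... use the statement for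
      -- matrix units instead: a matrix commuting with all transvections is scalar
      have hcen : (ε⁻¹ : GL (Fin 2 ⊕ Fin 2) F) ∈ Subgroup.center (GL (Fin 2 ⊕ Fin 2) F) :=
        Subgroup.mem_center_iff.2 hεi
      rw [Matrix.GeneralLinearGroup.center_eq_range_scalar] at hcen
      obtain ⟨u, hu⟩ := hcen
      refine ⟨(u : F), ?_⟩
      rw [← hu]
      simp [Matrix.GeneralLinearGroup.scalar, Matrix.smul_one_eq_diagonal]
    obtain ⟨d, hd⟩ := hεs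
    apply hns d
    rw [h3, hd]
  have hεxo : orderOf (ε * x) = 5 := orderOf_eq_prime hεx hεx1
  have hι : Fintype.card (Fin 2 ⊕ Fin 2) = 4 := by simp
  obtain ⟨g, hg, k, hgk⟩ := conj_order_five hι hq (Cfsg.spGL 2 F) (ε * x)
    (h : GL (Fin 2 ⊕ Fin 2) F) ((Cfsg.spGL 2 F).mul_mem hεS hx) hhS hεxo hho
  refine ⟨g, hg, ?_⟩
  have h1 : g⁻¹ * x * g = ε⁻¹ * (g⁻¹ * (ε * x) * g) := by
    have := hεc g⁻¹
    calc g⁻¹ * x * g = ε⁻¹ * (ε * g⁻¹) * x * g := by group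
      _ = ε⁻¹ * (g⁻¹ * ε) * x * g := by rw [this]
      _ = ε⁻¹ * (g⁻¹ * (ε * x) * g) := by group
  rw [h1, hgk]
  exact Subgroup.mul_mem _ (Subgroup.inv_mem _ hεN) (Subgroup.zpow_mem _ hhN k)

end bwd5

end Cfsg.Agent.Lib.Helper12.Ex32
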