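import Mathlib
import Cfsg.Agent.S4216
import Cfsg.Agent.Lib.Helper26.F2Defs

/-!
# F2-IDX2 (S3390 market "F2", planner helper26)

Transfer into `S/T`: a normal subgroup of index 2 meeting `S` in `T`.
-/

set_option autoImplicit false

namespace Cfsg.Agent.Lib.Helper12.F2IDX2

open Cfsg.Agent.Lib.Helper26.F2 MulAction Subgroup

/-- the homomorphism to `ℤˣ` with kernel a given subgroup of index 2 -/
noncomputable def signHom {S : Type*} [Group S] (K : Subgroup S) (hK : K.index = 2) : S →* ℤˣ := by
  classical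
  exact
  { toFun := fun s => if s ∈ K then 1 else -1
    map_one' := by simp [K.one_mem]
    map_mul' := by
      intro a b
      have := Subgroup.mul_mem_iff_of_index_two hK (a := a) (b := b)
      by_cases ha : a ∈ K <;> by_cases hb : b ∈ K <;> simp [ha, hb, this] }

theorem signHom_of_mem {S : Type*} [Group S] (K : Subgroup S) (hK : K.index = 2) {s : S}
    (hs : s ∈ K) : signHom K hK s = 1 := by
  classical
  simp [signHom, hs]

theorem signHom_of_not_mem {S : Type*} [Group S] (K : Subgroup S) (hK : K.index = 2) {s : S}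
    (hs : s ∉ K) : signHom K hK s = -1 := by
  classical
  simp [signHom, hs]

variable {G : Type*} [Group G] [Finite G] {Ω : Type*} [Finite Ω] [MulAction G Ω]

/-- **F2-IDX2** transfer into `S/T`: a normal subgroup of index 2 meeting `S` in `T`. -/
theorem exists_normal_index_two (S : Sylow 2 G) (α : Ω)
    (hidx : ((S : Subgroup G) ⊓ stabilizer G α).relIndex (S : Subgroup G) = 2)
    (hst : ∀ ω : Ω, (S : Subgroup G) ⊓ stabilizer G ω = (S : Subgroup G) ⊓ stabilizer G α ∨
      (S : Subgroup G) ⊓ stabilizer G ω = ⊥) :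
    ∃ N : Subgroup G, N.Normal ∧ N.index = 2 ∧
      N ⊓ (S : Subgroup G) = (S : Subgroup G) ⊓ stabilizer G α := by
  classical
  have : Fact (Nat.Prime 2) := ⟨Nat.prime_two⟩
  set T := (S : Subgroup G) ⊓ stabilizer G α with hT
  have hK : (T.subgroupOf (S : Subgroup G)).index = 2 := hidx
  set ϕ : ↥(S : Subgroup G) →* ℤˣ := signHom (T.subgroupOf (S : Subgroup G)) hK with hϕ
  have hF1 : ∀ s ∈ (S : Subgroup G), ∀ ω : Ω, s • ω = ω → s ∈ T := by
    intro s hs ω hω
    have hmem : s ∈ (S : Subgroup G) ⊓ stabilizer G ω := ⟨hs, hω⟩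
    rcases hst ω with h | h
    · rw [h] at hmem; exact hmem
    · rw [h, Subgroup.mem_bot] at hmem; rw [hmem]; exact T.one_mem
  have hϕ1 : ∀ (s : G) (hs : s ∈ (S : Subgroup G)), s ∈ T → ϕ ⟨s, hs⟩ = 1 := by
    intro s hs hsT
    apply signHom_of_mem
    rw [Subgroup.mem_subgroupOf]; exact hsT
  have hϕ2 : ∀ (s : G) (hs : s ∈ (S : Subgroup G)), s ∉ T → ϕ ⟨s, hs⟩ = -1 := by
    intro s hs hsT
    apply signHom_of_not_mem
    rw [Subgroup.mem_subgroupOf]; exact hsT
  have hconj : ∀ (k v : G) (ω : Ω), v • ω = ω → ∀ h : k⁻¹ * v * k ∈ (S : Subgroup G),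
      ϕ ⟨_, h⟩ = 1 := by
    intro k v ω hω h
    apply hϕ1
    apply hF1 _ h (k⁻¹ • ω)
    rw [mul_smul, mul_smul, smul_inv_smul, hω]
  -- the transfer is trivial on `T`
  have htT : ∀ u ∈ T, MonoidHom.transfer ϕ u = 1 := by
    intro u hu
    have huα : u ∈ stabilizer G α := hu.2
    rw [Cfsg.Agent.S4216.transfer_eq_prod_fixed (S : Subgroup G) ϕ u ?_]
    · apply Finset.prod_eq_one
      intro c hc
      have hc' : u • c = c := (Finset.mem_filter.1 hc).2
      have hmem := Cfsg.Agent.S4216.out_conj_mem_of_fixed (S : Subgroup G) u c hc'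
      rw [Cfsg.Agent.S4216.ext1_of_mem _ _ _ hmem]
      exact hconj c.out u α huα hmem
    · intro k n _ _ h
      exact hconj k (u ^ n) α ((stabilizer G α).pow_mem huα n) h
  -- the transfer is `-1` on `S \ T`
  have htS : ∀ x ∈ (S : Subgroup G), x ∉ T → MonoidHom.transfer ϕ x = -1 := by
    intro x hx hxT
    have hx2 : x ^ 2 ∈ T := by
      have := Subgroup.sq_mem_of_index_two hK ⟨x, hx⟩
      rw [Subgroup.mem_subgroupOf] at this
      simpa using this
    have hZ : IsPGroup 2 ↥(zpowers x) := S.isPGroup'.to_le ((zpowers_le).2 hx)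
    rw [Cfsg.Agent.S4216.transfer_eq_prod_fixed (S : Subgroup G) ϕ x ?_]
    · rw [Finset.prod_eq_pow_card (b := (-1 : ℤˣ))]
      · apply Odd.neg_one_pow
        -- the number of fixed cosets is odd
        have h1 := hZ.card_modEq_card_fixedPoints (G ⧸ (S : Subgroup G))
        have hcard : Nat.card (fixedPoints (↥(zpowers x)) (G ⧸ (S : Subgroup G))) =
            ((Fintype.ofFinite (G ⧸ (S : Subgroup G))).elems.filter
              (fun c : G ⧸ (S : Subgroup G) => x • c = c)).card := by
          rw [← Nat.card_eq_finsetCard]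
          apply Nat.card_congr
          refine Equiv.subtypeEquivRight ?_
          intro c
          rw [Finset.mem_filter]
          constructor
          · intro hc
            exact ⟨(Fintype.ofFinite (G ⧸ (S : Subgroup G))).complete c, hc ⟨x, mem_zpowers x⟩⟩
          · rintro ⟨_, hc⟩ ⟨z, hz⟩
            obtain ⟨i, rfl⟩ := Subgroup.mem_zpowers_iff.mp hz
            change x ^ i • c = c
            exact MulAction.mem_fixedBy.mp ((MulAction.stabilizer G c).zpow_mem hc i)
        rw [← hcard]
        have hodd : ¬ 2 ∣ Nat.card (G ⧸ (S : Subgroup G)) := S.not_dvd_index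
        have h2 : ¬ 2 ∣ Nat.card (fixedPoints (↥(zpowers x)) (G ⧸ (S : Subgroup G))) := by
          intro hd
          apply hodd
          exact (Nat.modEq_zero_iff_dvd.mp (h1.trans (Nat.modEq_zero_iff_dvd.mpr hd)))
        exact Nat.odd_iff.2 (Nat.two_dvd_ne_zero.1 h2)
      · intro c hc
        have hc' : x • c = c := (Finset.mem_filter.1 hc).2
        have hmem := Cfsg.Agent.S4216.out_conj_mem_of_fixed (S : Subgroup G) x c hc'
        rw [Cfsg.Agent.S4216.ext1_of_mem _ _ _ hmem]
        apply hϕ2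
        intro hyT
        apply hxT
        apply hF1 x hx (c.out • α)
        have h3 : (c.out⁻¹ * x * c.out) • α = α := hyT.2
        rw [mul_smul, mul_smul, inv_smul_eq_iff] at h3
        exact h3
    · intro k n hn1 hnd h
      obtain ⟨j, hj⟩ := S.isPGroup' ⟨x, hx⟩
      have hj' : x ^ (2 ^ j) = 1 := by
        have := congrArg Subtype.val hj
        simpa using this
      have hdvd : n ∣ 2 ^ j := hnd.trans (orderOf_dvd_of_pow_eq_one hj')
      obtain ⟨b, _, rfl⟩ := (Nat.dvd_prime_pow Nat.prime_two).1 hdvd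
      have hb : b ≠ 0 := by
        rintro rfl
        exact hn1 (pow_zero 2)
      obtain ⟨b', rfl⟩ := Nat.exists_eq_succ_of_ne_zero hb
      have hxn : x ^ 2 ^ (b' + 1) ∈ stabilizer G α := by
        rw [pow_succ', pow_mul]
        exact (T.pow_mem hx2 _).2
      exact hconj k _ α hxn h
  -- an element of `S \ T`
  obtain ⟨x, hx, hxT⟩ : ∃ x ∈ (S : Subgroup G), x ∉ T := by
    by_contra hcon
    push Not at hcon
    have hle : (S : Subgroup G) ≤ T := hcon
    have h1 : T.relIndex (S : Subgroup G) = 1 := Subgroup.relIndex_eq_one.2 hle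
    rw [h1] at hidx
    exact absurd hidx (by norm_num)
  refine ⟨(MonoidHom.transfer ϕ).ker, inferInstance, ?_, ?_⟩
  · rw [Subgroup.index_ker]
    have hsurj : Function.Surjective (MonoidHom.transfer ϕ) := by
      intro e
      rcases Int.units_eq_one_or e with rfl | rfl
      · exact ⟨1, map_one _⟩
      · exact ⟨x, htS x hx hxT⟩
    rw [MonoidHom.range_eq_top.2 hsurj, Nat.card_congr Subgroup.topEquiv.toEquiv]
    simp
  · ext s
    rw [Subgroup.mem_inf, MonoidHom.mem_ker]
    constructor
    · rintro ⟨h1, hs⟩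
      by_contra hsT
      rw [htS s hs hsT] at h1
      exact absurd h1 (by decide)
    · intro hsT
      exact ⟨htT s hsT, hsT.1⟩

end Cfsg.Agent.Lib.Helper12.F2IDX2
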