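/-
helper12: leaf FRB-AVG of helper9's S4427 market (`notes/S4427_leaves.lean`): basic facts on `avg`, `tot`.
-/
import Mathlib
import Cfsg.Prelude.Def_Blocks
import Cfsg.Agent.Lib.Helper24.LocalRing
import Cfsg.Agent.Lib.Helper9.FRBDefs

set_option autoImplicit false

namespace Cfsg.Agent.Lib.Helper12.FRBAVG

open Cfsg Cfsg.Agent.Lib.Helper9.FRB

variable {G : Type*} [Group G]

/-- coefficient of a product as a sum over the whole group (left form) -/
theorem coeff_mul_left [Fintype G] (x y : MonoidAlgebra ℝ G) (g : G) :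
    (x * y).coeff g = ∑ h : G, x.coeff h * y.coeff (h⁻¹ * g) := by
  rw [MonoidAlgebra.coeff_mul_apply_left, Finsupp.sum_fintype]
  intro i; simp

/-- coefficient of a product as a sum over the whole group (right form) -/
theorem coeff_mul_right [Fintype G] (x y : MonoidAlgebra ℝ G) (g : G) :
    (x * y).coeff g = ∑ h : G, x.coeff (g * h⁻¹) * y.coeff h := by
  rw [MonoidAlgebra.coeff_mul_apply_right, Finsupp.sum_fintype]
  intro i; simp

omit [Group G] in
/-- extensionality by coefficients -/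
theorem ext_coeff {x y : MonoidAlgebra ℝ G} (h : ∀ g, x.coeff g = y.coeff g) : x = y :=
  MonoidAlgebra.ext (Finsupp.ext h)

open Classical in
/-- the number of elements of a subgroup as a sum of indicators -/
theorem sum_indicator [Fintype G] (H : Subgroup G) (c : ℝ) :
    ∑ a : G, (if a ∈ H then c else 0) = (Nat.card H : ℝ) * c := by
  rw [Finset.sum_ite, Finset.sum_const_zero, add_zero, Finset.sum_const, nsmul_eq_mul,
    Nat.card_eq_fintype_card, Fintype.card_subtype]

theorem card_mul_inv [Finite G] (H : Subgroup G) : (Nat.card H : ℝ) * ((Nat.card H : ℝ))⁻¹ = 1 := by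
  have h : (Nat.card H : ℝ) ≠ 0 := by
    have := Nat.card_pos (α := H)
    positivity
  exact mul_inv_cancel₀ h

theorem avg_mul_self [Finite G] (H : Subgroup G) : avg H * avg H = avg H := by
  classical
  have := Fintype.ofFinite G
  apply ext_coeff
  intro g
  rw [coeff_mul_left]
  simp only [avg_coeff]
  by_cases hg : g ∈ H
  · have h1 : ∀ a : G, ((if a ∈ H then ((Nat.card H : ℝ))⁻¹ else 0) *
        (if a⁻¹ * g ∈ H then ((Nat.card H : ℝ))⁻¹ else 0)) =
        if a ∈ H then ((Nat.card H : ℝ))⁻¹ * ((Nat.card H : ℝ))⁻¹ else 0 := by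
      intro a
      by_cases ha : a ∈ H
      · have : a⁻¹ * g ∈ H := H.mul_mem (H.inv_mem ha) hg
        simp [ha, this]
      · simp [ha]
    rw [Finset.sum_congr rfl (fun a _ => h1 a), sum_indicator, ← mul_assoc, card_mul_inv, one_mul,
      if_pos hg]
  · have h1 : ∀ a : G, ((if a ∈ H then ((Nat.card H : ℝ))⁻¹ else 0) *
        (if a⁻¹ * g ∈ H then ((Nat.card H : ℝ))⁻¹ else 0)) = 0 := by
      intro a
      by_cases ha : a ∈ H
      · have : a⁻¹ * g ∉ H := by
          intro h2
          apply hg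
          have := H.mul_mem ha h2
          rwa [mul_inv_cancel_left] at this
        simp [this]
      · simp [ha]
    rw [Finset.sum_congr rfl (fun a _ => h1 a), Finset.sum_const_zero, if_neg hg]

theorem rev_avg [Finite G] (H : Subgroup G) : rev (avg H) = avg H := by
  classical
  apply ext_coeff
  intro g
  rw [rev_coeff, avg_coeff, avg_coeff]
  simp only [inv_mem_iff]

theorem avg_mul_tot [Finite G] (H : Subgroup G) :
    avg H * (tot : MonoidAlgebra ℝ G) = tot := by
  classical
  have := Fintype.ofFinite G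
  apply ext_coeff
  intro g
  rw [coeff_mul_left]
  simp only [tot_coeff, mul_one, avg_coeff]
  rw [sum_indicator, card_mul_inv]

theorem tot_ne_zero [Finite G] : (tot : MonoidAlgebra ℝ G) ≠ 0 := by
  intro h
  have h1 := tot_coeff (G := G) (1 : G)
  rw [h] at h1
  simp at h1

theorem mul_tot_coeff_one [Fintype G] (w : MonoidAlgebra ℝ G) :
    (w * tot).coeff 1 = ∑ k : G, w.coeff k := by
  rw [coeff_mul_left]
  simp only [tot_coeff, mul_one]

/-- all coefficients are integer multiples of `α` -/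
def IntMul (α : ℝ) (w : MonoidAlgebra ℝ G) : Prop := ∀ k, ∃ m : ℤ, w.coeff k = (m : ℝ) * α

theorem intMul_avg [Finite G] (H : Subgroup G) : IntMul ((Nat.card H : ℝ))⁻¹ (avg H) := by
  classical
  intro k
  rw [avg_coeff]
  by_cases hk : k ∈ H
  · exact ⟨1, by simp [hk]⟩
  · exact ⟨0, by simp [hk]⟩

theorem intMul_mul [Finite G] {α β : ℝ} {u v : MonoidAlgebra ℝ G} (hu : IntMul α u)
    (hv : IntMul β v) : IntMul (α * β) (u * v) := by
  classical
  have := Fintype.ofFinite G
  intro k
  choose m hm using hu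
  choose n hn using hv
  refine ⟨∑ a : G, m a * n (a⁻¹ * k), ?_⟩
  rw [coeff_mul_left]
  push_cast
  rw [Finset.sum_mul]
  apply Finset.sum_congr rfl
  intro a _
  rw [hm, hn]
  ring

/-- `|Q|² |R| · (e_Q e_R e_Q)` has integer coefficients. -/
theorem triple_int [Finite G] (Q R : Subgroup G) (k : G) :
    ∃ m : ℤ, (((Nat.card Q) ^ 2 * Nat.card R : ℕ) : ℝ) * (avg Q * avg R * avg Q).coeff k = (m : ℝ) := by
  obtain ⟨m, hm⟩ := intMul_mul (intMul_mul (intMul_avg Q) (intMul_avg R)) (intMul_avg Q) k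
  refine ⟨m, ?_⟩
  rw [hm]
  have hQ := card_mul_inv Q
  have hR := card_mul_inv R
  push_cast
  have : (Nat.card Q : ℝ) ^ 2 * (Nat.card R : ℝ) *
      ((m : ℝ) * (((Nat.card Q : ℝ))⁻¹ * ((Nat.card R : ℝ))⁻¹ * ((Nat.card Q : ℝ))⁻¹)) =
      (m : ℝ) * ((Nat.card Q : ℝ) * ((Nat.card Q : ℝ))⁻¹) ^ 2 *
        ((Nat.card R : ℝ) * ((Nat.card R : ℝ))⁻¹) := by ring
  rw [this, hQ, hR]
  ring

end Cfsg.Agent.Lib.Helper12.FRBAVG
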