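/-
helper12: leaf FRB-CTRLIN of helper9's S4427 market (`notes/S4427_leaves.lean`): linearity, traciality and
class-function property of `ctr`.
-/
import Mathlib
import Cfsg.Prelude.Def_Blocks
import Cfsg.Agent.Lib.Helper24.LocalRing
import Cfsg.Agent.Lib.Helper9.FRBDefs
import Cfsg.Agent.Lib.Helper12.FRBAVG

set_option autoImplicit false

namespace Cfsg.Agent.Lib.Helper12.FRBCTRLIN

open Cfsg Cfsg.Agent.Lib.Helper9.FRB Cfsg.Agent.Lib.Helper12.FRBAVG

variable {G : Type*} [Group G]

theorem ctr_add [Fintype G] (g : G) (u v : MonoidAlgebra ℝ G) :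
    ctr g (u + v) = ctr g u + ctr g v := by
  unfold ctr
  rw [← Finset.sum_add_distrib]
  apply Finset.sum_congr rfl
  intro h _
  simp only [MonoidAlgebra.coeff_add, Finsupp.add_apply]

theorem ctr_smul [Fintype G] (g : G) (c : ℝ) (u : MonoidAlgebra ℝ G) :
    ctr g (c • u) = c * ctr g u := by
  unfold ctr
  rw [Finset.mul_sum]
  apply Finset.sum_congr rfl
  intro h _
  simp only [MonoidAlgebra.coeff_smul, Finsupp.smul_apply, smul_eq_mul]

theorem ctr_zero [Fintype G] (g : G) : ctr g (0 : MonoidAlgebra ℝ G) = 0 := by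
  unfold ctr
  simp only [MonoidAlgebra.coeff_zero, Finsupp.zero_apply, Finset.sum_const_zero]

theorem ctr_sum [Fintype G] (g : G) {ι : Type*} (s : Finset ι) (u : ι → MonoidAlgebra ℝ G) :
    ctr g (∑ i ∈ s, u i) = ∑ i ∈ s, ctr g (u i) := by
  classical
  induction s using Finset.induction_on with
  | empty => simp [ctr_zero]
  | insert a s ha ih => rw [Finset.sum_insert ha, Finset.sum_insert ha, ctr_add, ih]

theorem ctr_one_of_ne [Fintype G] (g : G) (hg : g ≠ 1) : ctr g (1 : MonoidAlgebra ℝ G) = 0 := by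
  classical
  unfold ctr
  apply Finset.sum_eq_zero
  intro h _
  rw [MonoidAlgebra.one_def, MonoidAlgebra.coeff_single, Finsupp.single_apply, if_neg]
  intro h1
  apply hg
  have h2 : h * (h⁻¹ * g * h) * h⁻¹ = g := by group
  rw [← h2, ← h1]
  group

theorem ctr_mul_comm [Fintype G] (g : G) (u v : MonoidAlgebra ℝ G) :
    ctr g (u * v) = ctr g (v * u) := by
  unfold ctr
  simp only [coeff_mul_left u v, coeff_mul_right v u]
  rw [Finset.sum_comm]
  conv_rhs => rw [Finset.sum_comm]
  apply Finset.sum_congr rfl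
  intro a _
  -- `∑ h, u a * v (a⁻¹ (h⁻¹ g h)) = ∑ h, v (h⁻¹ g h a⁻¹) * u a`, with `h ↦ h a⁻¹`
  apply Fintype.sum_equiv (Equiv.mulRight a)
  intro h
  simp only [Equiv.coe_mulRight, mul_inv_rev]
  rw [mul_comm]
  congr 2
  group

theorem sum_ctr [Fintype G] (w : MonoidAlgebra ℝ G) :
    ∑ g : G, ctr g w = (Fintype.card G : ℝ) * ∑ k : G, w.coeff k := by
  unfold ctr
  rw [Finset.sum_comm]
  have h1 : ∀ h : G, ∑ g : G, w.coeff (h⁻¹ * g * h) = ∑ k : G, w.coeff k := by
    intro h
    apply Fintype.sum_equiv ((Equiv.mulLeft h⁻¹).trans (Equiv.mulRight h))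
    intro g
    simp
  rw [Finset.sum_congr rfl (fun h _ => h1 h), Finset.sum_const, Finset.card_univ, nsmul_eq_mul]

/-- a power (with positive exponent) of an element ending in an idempotent absorbs it -/
theorem pow_mul_idem {A : Type*} [Monoid A] (a e : A) (he : e * e = e) (n : ℕ) (hn : 0 < n) :
    (a * e) ^ n * e = (a * e) ^ n := by
  obtain ⟨k, rfl⟩ : ∃ k, n = k + 1 := ⟨n - 1, by omega⟩
  rw [pow_succ, mul_assoc, mul_assoc, he]

/-- `(e a e)^n = e (a e)^n` for an idempotent `e` and `n ≥ 1` -/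
theorem triple_pow {A : Type*} [Monoid A] (a e : A) (he : e * e = e) (n : ℕ) (hn : 0 < n) :
    (e * a * e) ^ n = e * (a * e) ^ n := by
  induction n with
  | zero => omega
  | succ k ih =>
    rcases Nat.eq_zero_or_pos k with hk | hk
    · subst hk
      rw [zero_add, pow_one, pow_one, mul_assoc]
    · rw [pow_succ, ih hk, pow_succ]
      have h1 := pow_mul_idem a e he k hk
      calc e * (a * e) ^ k * (e * a * e) = e * ((a * e) ^ k * e) * (a * e) := by
            simp only [mul_assoc]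
        _ = e * (a * e) ^ k * (a * e) := by rw [h1]
        _ = e * ((a * e) ^ k * (a * e)) := by rw [mul_assoc]

/-- `ctr g ((e_Q e_R e_Q)^n) = ctr g ((e_R e_Q)^n)` for `n ≥ 1`. -/
theorem ctr_triple_pow [Fintype G] (Q R : Subgroup G) (g : G) (n : ℕ) (hn : 0 < n) :
    ctr g ((avg Q * avg R * avg Q) ^ n) = ctr g ((avg R * avg Q) ^ n) := by
  rw [triple_pow (avg R) (avg Q) (avg_mul_self Q) n hn, ctr_mul_comm,
    pow_mul_idem (avg R) (avg Q) (avg_mul_self Q) n hn]

end Cfsg.Agent.Lib.Helper12.FRBCTRLIN
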