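/-
helper12: leaf FRB-POLY (`unit_poly`) of helper9's S4427 market (`notes/S4427_leaves.lean`):
the separating polynomial with local-integer coefficients.
-/
import Mathlib
import Cfsg.Prelude.Def_Blocks
import Cfsg.Agent.Lib.Helper24.LocalRing
import Cfsg.Agent.Lib.Helper9.FRBDefs

set_option autoImplicit false

namespace Cfsg.Agent.Lib.Helper12.FRBPOLY

open Cfsg Cfsg.Agent.Lib.Helper9.FRB Cfsg.Agent.Lib.Helper24

variable {M : Ideal AlgInt}

/-- the real numbers lying in the local ring `O_M` -/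
def localReal (M : Ideal AlgInt) [hp : M.IsPrime] : Subring ℝ where
  carrier := {z | MemLocalRing M ((z : ℝ) : ℂ)}
  mul_mem' := by
    intro a b ha hb
    show MemLocalRing M (((a * b : ℝ)) : ℂ)
    rw [Complex.ofReal_mul]
    exact memLocalRing_mul ha hb
  one_mem' := by
    show MemLocalRing M (((1 : ℝ)) : ℂ)
    have := memLocalRing_of_algInt (M := M) 1 hp.one_notMem
    simpa using this
  add_mem' := by
    intro a b ha hb
    show MemLocalRing M (((a + b : ℝ)) : ℂ)
    rw [Complex.ofReal_add]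
    exact memLocalRing_add ha hb
  zero_mem' := by
    show MemLocalRing M (((0 : ℝ)) : ℂ)
    have := memLocalRing_of_algInt (M := M) 0 hp.one_notMem
    simpa using this
  neg_mem' := by
    intro a ha
    show MemLocalRing M (((-a : ℝ)) : ℂ)
    rw [Complex.ofReal_neg]
    exact memLocalRing_neg ha

theorem mem_localReal [hp : M.IsPrime] {z : ℝ} :
    z ∈ localReal M ↔ MemLocalRing M ((z : ℝ) : ℂ) := Iff.rfl

/-- a unit of the local ring has its inverse in the local ring -/
theorem memLocalRing_inv {z : ℂ} (hz : MemLocalRing M z) (hnz : ¬ MemLocalIdeal M z) :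
    MemLocalRing M z⁻¹ := by
  obtain ⟨a, b, hb, h⟩ := hz
  have ha : a ∉ M := fun ha => hnz ⟨a, b, ha, hb, h⟩
  refine ⟨b, a, ha, ?_⟩
  rw [← h, inv_div]

/-- powers in the local ring -/
theorem memLocalRing_pow [hp : M.IsPrime] {z : ℂ} (hz : MemLocalRing M z) (n : ℕ) :
    MemLocalRing M (z ^ n) := by
  induction n with
  | zero =>
    rw [pow_zero]
    have := memLocalRing_of_algInt (M := M) 1 hp.one_notMem
    simpa using this
  | succ n ih =>
    rw [pow_succ]
    exact memLocalRing_mul ih hz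

/-- a positive power of a non-unit is a non-unit -/
theorem memLocalIdeal_pow [hp : M.IsPrime] {z : ℂ} (hz : MemLocalIdeal M z) {n : ℕ} (hn : 0 < n) :
    MemLocalIdeal M (z ^ n) := by
  obtain ⟨k, rfl⟩ : ∃ k, n = k + 1 := ⟨n - 1, by omega⟩
  rw [pow_succ]
  exact memLocalIdeal_mul_left (memLocalRing_pow (memLocalRing_of_memLocalIdeal hz) k) hz

/-- a power of a unit is a unit -/
theorem not_memLocalIdeal_pow [hp : M.IsPrime] {z : ℂ} (hz : MemLocalRing M z)
    (hnz : ¬ MemLocalIdeal M z) (n : ℕ) : ¬ MemLocalIdeal M (z ^ n) := by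
  intro h
  have hz0 : z ≠ 0 := by
    rintro rfl
    exact hnz (memLocalIdeal_zero hp.one_notMem)
  have h1 : MemLocalIdeal M (z ^ n * (z⁻¹) ^ n) :=
    memLocalIdeal_mul_right h (memLocalRing_pow (memLocalRing_inv hz hnz) n)
  rw [← mul_pow, mul_inv_cancel₀ hz0, one_pow] at h1
  exact not_memLocalIdeal_one h1

/-- unit minus non-unit is a unit -/
theorem not_memLocalIdeal_sub [hp : M.IsPrime] {a b : ℂ} (ha : ¬ MemLocalIdeal M a)
    (hb : MemLocalIdeal M b) : ¬ MemLocalIdeal M (a - b) := by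
  intro h
  apply ha
  have := memLocalIdeal_add h hb
  rwa [sub_add_cancel] at this

open Classical in
theorem unit_poly {p : ℕ} {M : Ideal AlgInt} (hM : IsPModular p M) (S : Finset ℝ)
    (hS : ∀ l ∈ S, MemLocalRing M ((l : ℝ) : ℂ)) (N : ℕ) (hN : 0 < N) :
    ∃ h : Polynomial ℝ, (∀ i, MemLocalRing M ((h.coeff i : ℝ) : ℂ)) ∧
      ∀ l ∈ S, h.eval (l ^ N) = if MemLocalIdeal M ((l : ℝ) : ℂ) then 0 else 1 := by
  have hp : M.IsPrime := isPrime_of_isPModular hM
  -- the nodes
  set A : Finset ℝ := (S.filter (fun l => ¬ MemLocalIdeal M ((l : ℝ) : ℂ))).image (fun l => l ^ N)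
    with hA
  set B : Finset ℝ := (S.filter (fun l => MemLocalIdeal M ((l : ℝ) : ℂ))).image (fun l => l ^ N)
    with hB
  have hAunit : ∀ α ∈ A, MemLocalRing M ((α : ℝ) : ℂ) ∧ ¬ MemLocalIdeal M ((α : ℝ) : ℂ) := by
    intro α hα
    rw [hA, Finset.mem_image] at hα
    obtain ⟨l, hl, rfl⟩ := hα
    rw [Finset.mem_filter] at hl
    rw [Complex.ofReal_pow]
    exact ⟨memLocalRing_pow (hS l hl.1) N, not_memLocalIdeal_pow (hS l hl.1) hl.2 N⟩
  have hBnon : ∀ β ∈ B, MemLocalIdeal M ((β : ℝ) : ℂ) := by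
    intro β hβ
    rw [hB, Finset.mem_image] at hβ
    obtain ⟨l, hl, rfl⟩ := hβ
    rw [Finset.mem_filter] at hl
    rw [Complex.ofReal_pow]
    exact memLocalIdeal_pow hl.2 hN
  have hsub : ∀ α ∈ A, ∀ β ∈ B, α - β ≠ 0 ∧ MemLocalRing M (((α - β)⁻¹ : ℝ) : ℂ) := by
    intro α hα β hβ
    have h1 : ¬ MemLocalIdeal M (((α - β : ℝ)) : ℂ) := by
      rw [Complex.ofReal_sub]
      exact not_memLocalIdeal_sub (hAunit α hα).2 (hBnon β hβ)
    have h2 : MemLocalRing M (((α - β : ℝ)) : ℂ) := by
      rw [Complex.ofReal_sub]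
      exact memLocalRing_sub (hAunit α hα).1 (memLocalRing_of_memLocalIdeal (hBnon β hβ))
    refine ⟨?_, ?_⟩
    · intro h0
      rw [h0] at h1
      exact h1 (by simpa using memLocalIdeal_zero (M := M) hp.one_notMem)
    · rw [Complex.ofReal_inv]
      exact memLocalRing_inv h2 h1
  -- the polynomial
  refine ⟨∏ β ∈ B, (1 - ∏ α ∈ A, (1 - Polynomial.C ((α - β)⁻¹) * (Polynomial.X - Polynomial.C β))),
    ?_, ?_⟩
  · -- coefficients
    have hmem : (∏ β ∈ B, (1 - ∏ α ∈ A,
        (1 - Polynomial.C ((α - β)⁻¹) * (Polynomial.X - Polynomial.C β)))) ∈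
        Polynomial.liftsRing (localReal M).subtype := by
      apply Subring.prod_mem
      intro β hβ
      apply Subring.sub_mem _ (Subring.one_mem _)
      apply Subring.prod_mem
      intro α hα
      apply Subring.sub_mem _ (Subring.one_mem _)
      apply Subring.mul_mem
      · rw [← Polynomial.lifts_iff_liftsRing]
        exact Polynomial.C_mem_lifts (localReal M).subtype ⟨(α - β)⁻¹, (hsub α hα β hβ).2⟩
      · apply Subring.sub_mem
        · rw [← Polynomial.lifts_iff_liftsRing]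
          exact Polynomial.X_mem_lifts _
        · rw [← Polynomial.lifts_iff_liftsRing]
          exact Polynomial.C_mem_lifts (localReal M).subtype
            ⟨β, memLocalRing_of_memLocalIdeal (hBnon β hβ)⟩
    rw [← Polynomial.lifts_iff_liftsRing, Polynomial.lifts_iff_coeff_lifts] at hmem
    intro i
    obtain ⟨y, hy⟩ := hmem i
    rw [← hy]
    exact y.2
  · -- values
    intro l hl
    rw [Polynomial.eval_prod]
    simp only [Polynomial.eval_sub, Polynomial.eval_one, Polynomial.eval_prod, Polynomial.eval_mul,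
      Polynomial.eval_C, Polynomial.eval_X]
    by_cases hlI : MemLocalIdeal M ((l : ℝ) : ℂ)
    · rw [if_pos hlI]
      have hmemB : l ^ N ∈ B := by
        rw [hB, Finset.mem_image]
        exact ⟨l, Finset.mem_filter.mpr ⟨hl, hlI⟩, rfl⟩
      apply Finset.prod_eq_zero hmemB
      rw [sub_self]
      simp
    · rw [if_neg hlI]
      have hmemA : l ^ N ∈ A := by
        rw [hA, Finset.mem_image]
        exact ⟨l, Finset.mem_filter.mpr ⟨hl, hlI⟩, rfl⟩
      apply Finset.prod_eq_one
      intro β hβ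
      have h0 : ∏ α ∈ A, (1 - (α - β)⁻¹ * (l ^ N - β)) = 0 := by
        apply Finset.prod_eq_zero hmemA
        rw [inv_mul_cancel₀ (hsub _ hmemA β hβ).1, sub_self]
      rw [h0, sub_zero]

end Cfsg.Agent.Lib.Helper12.FRBPOLY
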