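/-
helper12: leaf FRB-REV of helper9's S4427 market (`notes/S4427_leaves.lean`): `rev` is an anti-automorphism.
-/
import Mathlib
import Cfsg.Prelude.Def_Blocks
import Cfsg.Agent.Lib.Helper24.LocalRing
import Cfsg.Agent.Lib.Helper9.FRBDefs
import Cfsg.Agent.Lib.Helper12.FRBAVG

set_option autoImplicit false

namespace Cfsg.Agent.Lib.Helper12.FRBREV

open Cfsg Cfsg.Agent.Lib.Helper9.FRB Cfsg.Agent.Lib.Helper12.FRBAVG

variable {G : Type*} [Group G]

theorem rev_add [Finite G] (u v : MonoidAlgebra ℝ G) : rev (u + v) = rev u + rev v := by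
  apply ext_coeff
  intro g
  simp only [rev_coeff, MonoidAlgebra.coeff_add, Finsupp.add_apply]

theorem rev_smul [Finite G] (c : ℝ) (u : MonoidAlgebra ℝ G) : rev (c • u) = c • rev u := by
  apply ext_coeff
  intro g
  simp only [rev_coeff, MonoidAlgebra.coeff_smul, Finsupp.smul_apply]

theorem rev_zero [Finite G] : rev (0 : MonoidAlgebra ℝ G) = 0 := by
  apply ext_coeff
  intro g
  simp only [rev_coeff, MonoidAlgebra.coeff_zero, Finsupp.zero_apply]

theorem rev_sum [Finite G] {ι : Type*} (s : Finset ι) (u : ι → MonoidAlgebra ℝ G) :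
    rev (∑ i ∈ s, u i) = ∑ i ∈ s, rev (u i) := by
  classical
  induction s using Finset.induction_on with
  | empty => simp [rev_zero]
  | insert a s ha ih => rw [Finset.sum_insert ha, Finset.sum_insert ha, rev_add, ih]

theorem rev_one [Finite G] : rev (1 : MonoidAlgebra ℝ G) = 1 := by
  classical
  apply ext_coeff
  intro g
  rw [rev_coeff, MonoidAlgebra.one_def, MonoidAlgebra.coeff_single, Finsupp.single_apply,
    Finsupp.single_apply]
  simp only [eq_comm (a := (1 : G)), inv_eq_one]

theorem rev_mul [Finite G] (u v : MonoidAlgebra ℝ G) : rev (u * v) = rev v * rev u := by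
  classical
  have := Fintype.ofFinite G
  apply ext_coeff
  intro g
  rw [rev_coeff, coeff_mul_left, coeff_mul_left]
  simp only [rev_coeff]
  -- `∑ a, u a * v (a⁻¹ g⁻¹) = ∑ b, v b⁻¹ * u ((b⁻¹ g)⁻¹)`, with `b = g a`
  apply Fintype.sum_equiv (Equiv.mulLeft g)
  intro a
  simp only [Equiv.coe_mulLeft, mul_inv_rev, inv_inv, inv_mul_cancel_left]
  rw [mul_comm]

theorem rev_pow [Finite G] (x : MonoidAlgebra ℝ G) (n : ℕ) : rev (x ^ n) = (rev x) ^ n := by
  induction n with
  | zero => rw [pow_zero, pow_zero, rev_one]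
  | succ n ih => rw [pow_succ, rev_mul, ih, pow_succ']

theorem rev_aeval [Finite G] (x : MonoidAlgebra ℝ G) (hx : rev x = x) (P : Polynomial ℝ) :
    rev (Polynomial.aeval x P) = Polynomial.aeval x P := by
  rw [Polynomial.aeval_eq_sum_range, rev_sum]
  apply Finset.sum_congr rfl
  intro i _
  rw [rev_smul, rev_pow, hx]

end Cfsg.Agent.Lib.Helper12.FRBREV
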