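import Cfsg.Agent.Lib.Helper29.FrCDickson
import Cfsg.Agent.Lib.Helper12.DkPFinal

/-!
# CORE13 (S5679 + S5696), leaf D1 `dickson_bridge`, exact signature (helper12)

helper29's core form `dickson_bridge_of_tri` fed with the prime-field trichotomy
`Cfsg.Agent.Lib.Helper12.DkP.pgl2_prime_trichotomy`.
-/

set_option autoImplicit false
set_option linter.unusedSectionVars false
set_option linter.unusedVariables false

namespace Cfsg.Agent.Lib.Helper12.FrCLeaf

open Module QuadraticMap Matrix Cfsg.Agent.Lib.Helper25.CD Cfsg.Agent.Lib.Helper25.Spin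
  Cfsg.Agent.Lib.Helper5.NSMax Cfsg.Agent.Lib.Helper5.PairMax Cfsg.Agent.Lib.Helper17.OC2
  Cfsg.Agent.Lib.Helper29.FrStd Cfsg.Agent.Lib.Helper11.Mono Cfsg.Agent.Lib.Helper17.FrC

variable {κ : Type} [Fintype κ] [DecidableEq κ] {F : Type*} [Field F] [Fintype F]
  {c : F} {M : Subgroup ↥(Cfsg.isometryGroup F ⇑(stdQ κ F c))}

/-- the trichotomy in the form of helper29's `FrDB.Tri` -/
theorem tri_all (hp : (Fintype.card F).Prime) (h5 : 5 ≤ Fintype.card F)
    (X : Subgroup (GL (Fin 2) F)) : Cfsg.Agent.Lib.Helper29.FrDB.Tri (Fintype.card F) X := by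
  have hpF : Fact (Fintype.card F).Prime := ⟨hp⟩
  have hch : CharP F (Fintype.card F) := Cfsg.Agent.Lib.Helper29.FrCLeaf.charP_of_card_prime' hp
  exact Cfsg.Agent.Lib.Helper12.DkP.pgl2_prime_trichotomy rfl h5 X

/-- D1, exact signature of `notes/S5679_core_leaves.lean`. -/
theorem dickson_bridge (h : Ctx c M) (h5 : 5 ≤ Fintype.card F) (R : Set (κ → F))
    (hR : ∀ x ∈ R, Rt c M x) (U : Submodule F (κ → F)) (hU : U = Submodule.span F R)
    (h3 : finrank F U = 3) (hnd : ∀ u ∈ U, (∀ v ∈ U, u ⬝ᵥ v = 0) → u = 0)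
    (hirr : ∀ w ∈ U, w ≠ 0 → ∃ x ∈ R, x ⬝ᵥ w ≠ 0 ∧ w ∉ Submodule.span F {x}) :
    TransU c M U ∨ Small c R U :=
  Cfsg.Agent.Lib.Helper29.FrCLeaf.dickson_bridge_of_tri h h5 (fun X => tri_all h.prime h5 X)
    R hR U hU h3 hnd hirr

end Cfsg.Agent.Lib.Helper12.FrCLeaf
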