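import Mathlib
import Cfsg.Agent.Lib.Helper27.GGDefs
import Cfsg.Agent.Lib.Helper6.BNRedB
import Cfsg.Agent.Lib.Helper6.ChevStX1

/-!
# S2318 (helper27), leaf C5 `chev_hrank1` (helper12)

The rank-one identity `n x_α(t) n⁻¹ = x_{-α}(-t) = x_α(-c) h_α(c) n x_α(-c)`, `c = t⁻¹`, inside `D.group F`.
`C5aux.rank1_core` exposes the witnesses (used again for C6 and C7).
-/

set_option autoImplicit false

namespace Cfsg.Agent.Lib.Helper12.GG

open Cfsg Cfsg.Agent.Lib.Helper3.BN Cfsg.Agent.Lib.Helper3.WordLen Cfsg.Agent.Lib.Helper6.BNSt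
open Cfsg.Agent.Lib.Helper6.CoxRed Cfsg.Agent.Lib.Helper27.GG
open Cfsg.Lie Cfsg.Agent.Lib.Helper7 Cfsg.Agent.Lib.Helper6.ChevSt Cfsg.Agent.Lib.Helper6.ChevStX1

variable (D : ChevalleyDatum) (hD : D ∈ [chevG2, chevB2, chevD4, chevF4, chevE6, chevE7, chevE8])
variable (F : Type*) [Field F]

namespace C5aux

include hD

/-- `x_α(t)` as an element of `D.group F` -/
noncomputable def xEl (i : ℕ) (t : F) : ↥(D.group F) :=
  ⟨xGL D hD F (D.simple i) t, xGL_mem_group D hD F _ t⟩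

/-- `h_α(c)` as an element of `D.group F` -/
noncomputable def hEl (i : ℕ) (c : F) : ↥(D.group F) :=
  ⟨wordGL D hD F (D.hWord (D.simple i) c), wordGL_mem_group D hD F _⟩

theorem xEl_mem_Uc (i : ℕ) (hi : i < D.rank) (t : F) : xEl D hD F i t ∈ Uc D F := by
  have hpos := (parFacts_of_mem D hD).simplePos i hi
  rw [Subgroup.mem_subgroupOf]
  apply Subgroup.subset_closure
  exact ⟨_, t, hpos, coe_xGL D hD F _ t⟩

theorem hEl_mem_H (i : ℕ) (hi : i < D.rank) (c : F) (hc : c ≠ 0) :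
    hEl D hD F i c ∈ (chevBNPair D hD F).B ⊓ (chevBNPair D hD F).N := by
  have hF := fundFacts_of_mem D hD i hi
  rw [B_inf_N D hD F, Subgroup.mem_subgroupOf]
  exact hGL_mem_diagonalSubgroup D hD F _ hF.hp c hc

theorem hEl_one (i : ℕ) : hEl D hD F i 1 = 1 := by
  apply Subtype.ext
  show wordGL D hD F (D.hWord (D.simple i) 1) = 1
  unfold ChevalleyDatum.hWord
  rw [wordGL_append]
  have := nGL_neg_one_mul D hD F (D.simple i)
  exact mul_eq_one_comm.1 this

/-- the rank-one identity with explicit witnesses -/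
theorem rank1_core (i : ℕ) (hi : i < D.rank) (t : F) (_ht : t ≠ 0) :
    sEl D hD F i * xEl D hD F i t * (sEl D hD F i)⁻¹ =
      xEl D hD F i (-t⁻¹) * hEl D hD F i t⁻¹ * sEl D hD F i * xEl D hD F i (-t⁻¹) := by
  have hF := fundFacts_of_mem D hD i hi
  apply Subtype.ext
  show (sEl D hD F i : GL D.Idx F) * xGL D hD F (D.simple i) t * (sEl D hD F i : GL D.Idx F)⁻¹ =
    xGL D hD F (D.simple i) (-t⁻¹) * wordGL D hD F (D.hWord (D.simple i) t⁻¹) *
      (sEl D hD F i : GL D.Idx F) * xGL D hD F (D.simple i) (-t⁻¹)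
  rw [sEl_coe D hD F i hi]
  -- conjugation
  have h3 : nFund D hD F i * xGL D hD F (D.simple i) t * (nFund D hD F i)⁻¹ =
      xGL D hD F (D.neg (D.simple i)) (-t) := by
    have := nGL_conj_xGL D hD F i hi (D.simple i) hF.hp t
    rw [reflectRoot_simple] at this
    have he : etaFn D i (D.simple i) = -1 := by
      unfold etaFn
      rw [if_pos (Or.inl rfl)]
    rw [he] at this
    have e2 : (((-1 : ℤ) : F)) * t = -t := by push_cast; ring
    rw [e2] at this
    exact this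
  rw [h3]
  -- `h_α(c) n = x_α(c) x_{-α}(-c⁻¹) x_α(c)`, `c = t⁻¹`
  set c : F := t⁻¹ with hc
  have hct : -c⁻¹ = -t := by rw [hc, inv_inv]
  have h1 := nGL_eq D hD F (D.simple i) c
  rw [nGL_eq_hGL_mul D hD F (D.simple i) c, hct] at h1
  have e : xGL D hD F (D.simple i) (-c) * wordGL D hD F (D.hWord (D.simple i) c) * nFund D hD F i *
      xGL D hD F (D.simple i) (-c) =
      xGL D hD F (D.simple i) (-c) * (wordGL D hD F (D.hWord (D.simple i) c) *
        wordGL D hD F (D.nWord (D.simple i) 1)) * xGL D hD F (D.simple i) (-c) := by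
    unfold nFund; group
  rw [e, h1]
  have e2 : xGL D hD F (D.simple i) (-c) * (xGL D hD F (D.simple i) c *
      xGL D hD F (D.neg (D.simple i)) (-t) * xGL D hD F (D.simple i) c) * xGL D hD F (D.simple i) (-c) =
      (xGL D hD F (D.simple i) (-c) * xGL D hD F (D.simple i) c) *
      xGL D hD F (D.neg (D.simple i)) (-t) * (xGL D hD F (D.simple i) c * xGL D hD F (D.simple i) (-c)) := by
    group
  rw [e2, xGL_mul, xGL_mul, neg_add_cancel, add_neg_cancel, xGL_zero, one_mul, mul_one]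

/-- elements of the fundamental root subgroup -/
theorem mem_Xc_iff (i : ℕ) (x : ↥(D.group F)) :
    x ∈ (D.rootSubgroup F (D.simple i)).subgroupOf (D.group F) ↔ ∃ t : F, x = xEl D hD F i t := by
  rw [Subgroup.mem_subgroupOf, mem_rootSubgroup_iff D hD F]
  constructor
  · rintro ⟨t, ht⟩
    exact ⟨t, Subtype.ext ht⟩
  · rintro ⟨t, rfl⟩
    exact ⟨t, rfl⟩

theorem xEl_zero (i : ℕ) : xEl D hD F i 0 = 1 := by
  apply Subtype.ext
  show xGL D hD F (D.simple i) 0 = 1
  exact xGL_zero D hD F _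

end C5aux

open C5aux

variable [Fintype F]
include hD

/-- **C5** -/
theorem chev_hrank1 (i : Fin D.rank) :
    ∀ x ∈ (D.rootSubgroup F (D.simple i)).subgroupOf (D.group F), x ≠ 1 → ∃ u₁ ∈ Uc D F,
    ∃ h ∈ (chevBNPair D hD F).B ⊓ (chevBNPair D hD F).N, ∃ u₂ ∈ Uc D F,
      sEl D hD F i * x * (sEl D hD F i)⁻¹ = u₁ * h * sEl D hD F i * u₂ := by
  intro x hx hx1
  obtain ⟨t, rfl⟩ := (mem_Xc_iff D hD F i x).1 hx
  have ht : t ≠ 0 := by
    rintro rfl
    exact hx1 (xEl_zero D hD F i)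
  exact ⟨xEl D hD F i (-t⁻¹), xEl_mem_Uc D hD F i i.2 _, hEl D hD F i t⁻¹,
    hEl_mem_H D hD F i i.2 _ (inv_ne_zero ht), xEl D hD F i (-t⁻¹), xEl_mem_Uc D hD F i i.2 _,
    rank1_core D hD F i i.2 t ht⟩

end Cfsg.Agent.Lib.Helper12.GG
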