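import Mathlib
import Cfsg.Agent.Lib.Helper12.GGC5
import Cfsg.Agent.Lib.Helper7.ChevCanon

/-!
# S2318 (helper27), leaf C6 `chev_hrank1_one` (helper12)

`t = 1` in the rank-one identity: `h_α(1) = 1`, so `n x_α(1) n⁻¹ = x_α(-1) n x_α(-1)`.
-/

set_option autoImplicit false

namespace Cfsg.Agent.Lib.Helper12.GG

open Cfsg Cfsg.Agent.Lib.Helper3.BN Cfsg.Agent.Lib.Helper3.WordLen Cfsg.Agent.Lib.Helper6.BNSt
open Cfsg.Agent.Lib.Helper6.CoxRed Cfsg.Agent.Lib.Helper27.GG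
open Cfsg.Lie Cfsg.Agent.Lib.Helper7 Cfsg.Agent.Lib.Helper6.ChevSt Cfsg.Agent.Lib.Helper6.ChevStX1

variable (D : ChevalleyDatum) (hD : D ∈ [chevG2, chevB2, chevD4, chevF4, chevE6, chevE7, chevE8])
variable (F : Type*) [Field F]

open C5aux

variable [Fintype F]
include hD

/-- **C6** (`h_α(1) = 1`) -/
theorem chev_hrank1_one (i : Fin D.rank) :
    ∃ x ∈ (D.rootSubgroup F (D.simple i)).subgroupOf (D.group F), x ≠ 1 ∧ ∃ u₁ ∈ Uc D F, ∃ u₂ ∈ Uc D F,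
    sEl D hD F i * x * (sEl D hD F i)⁻¹ = u₁ * sEl D hD F i * u₂ := by
  refine ⟨xEl D hD F i 1, (mem_Xc_iff D hD F i _).2 ⟨1, rfl⟩, ?_, xEl D hD F i (-1),
    xEl_mem_Uc D hD F i i.2 _, xEl D hD F i (-1), xEl_mem_Uc D hD F i i.2 _, ?_⟩
  · intro h
    have hF := fundFacts_of_mem D hD i i.2
    exact xGL_one_ne_one D hD F _ hF.hp (congrArg Subtype.val h)
  · have := rank1_core D hD F i i.2 1 one_ne_zero
    rw [inv_one, hEl_one, mul_one] at this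
    exact this

end Cfsg.Agent.Lib.Helper12.GG
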