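import Mathlib
import Cfsg.Agent.Lib.Helper12.GGC5
import Cfsg.Agent.Lib.Helper7.ChevCanon
import Cfsg.Agent.Lib.Helper7.ChevHWord

/-!
# S2318 (helper27), leaf C7 `chev_hHgen` (helper12)

`H = B ⊓ N` is generated by the `h_{α_i}(c)`, each of which occurs in a rank-one identity
`s_i x s_i⁻¹ = u₁ h s_i u₂` (`x = x_{α_i}(c⁻¹)`).
-/

set_option autoImplicit false

namespace Cfsg.Agent.Lib.Helper12.GG

open Cfsg Cfsg.Agent.Lib.Helper3.BN Cfsg.Agent.Lib.Helper3.WordLen Cfsg.Agent.Lib.Helper6.BNSt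
open Cfsg.Agent.Lib.Helper6.CoxRed Cfsg.Agent.Lib.Helper27.GG
open Cfsg.Lie Cfsg.Agent.Lib.Helper7 Cfsg.Agent.Lib.Helper6.ChevSt Cfsg.Agent.Lib.Helper6.ChevStX1

variable (D : ChevalleyDatum) (hD : D ∈ [chevG2, chevB2, chevD4, chevF4, chevE6, chevE7, chevE8])
variable (F : Type*) [Field F]

namespace C7aux
open C5aux
include hD

theorem xEl_ne_one (i : ℕ) (hi : i < D.rank) (t : F) (ht : t ≠ 0) : xEl D hD F i t ≠ 1 := by
  intro h
  have hF := fundFacts_of_mem D hD i hi
  have h1 : xGL D hD F (D.simple i) t = 1 := congrArg Subtype.val h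
  have h2 : D.x F (D.simple i) t = 1 := by
    rw [← coe_xGL D hD F, h1]; rfl
  have hN := negOK_of_mem D hD (D.simple i) hF.hp
  exact ht (eq_zero_of_x_eq_one D F _ hF.hp hN.1 hN.2 _ h2)

/-- a product of `h_{α_i}(c_i)` lies in the closure of any set containing them -/
theorem word_mem (c : ℕ → F) (S : Set ↥(D.group F))
    (hS : ∀ i, i < D.rank → hEl D hD F i (c i) ∈ S) (l : List ℕ) (hl : ∀ i ∈ l, i < D.rank) :
    (⟨wordGL D hD F (l.flatMap fun i => D.hWord (D.simple i) (c i)), wordGL_mem_group D hD F _⟩ :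
      ↥(D.group F)) ∈ Subgroup.closure S := by
  induction l with
  | nil =>
    have : (⟨wordGL D hD F (([] : List ℕ).flatMap fun i => D.hWord (D.simple i) (c i)),
        wordGL_mem_group D hD F _⟩ : ↥(D.group F)) = 1 := by
      apply Subtype.ext
      show wordGL D hD F [] = 1
      unfold wordGL
      simp
    rw [this]
    exact Subgroup.one_mem _
  | cons i l ih =>
    have e : (⟨wordGL D hD F ((i :: l).flatMap fun i => D.hWord (D.simple i) (c i)),
        wordGL_mem_group D hD F _⟩ : ↥(D.group F)) =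
        hEl D hD F i (c i) * ⟨wordGL D hD F (l.flatMap fun i => D.hWord (D.simple i) (c i)),
          wordGL_mem_group D hD F _⟩ := by
      apply Subtype.ext
      show wordGL D hD F ((i :: l).flatMap fun i => D.hWord (D.simple i) (c i)) =
        wordGL D hD F (D.hWord (D.simple i) (c i)) *
          wordGL D hD F (l.flatMap fun i => D.hWord (D.simple i) (c i))
      rw [List.flatMap_cons, wordGL_append]
    rw [e]
    apply Subgroup.mul_mem
    · exact Subgroup.subset_closure (hS i (hl i (List.mem_cons_self ..)))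
    · exact ih (fun j hj => hl j (List.mem_cons_of_mem _ hj))

end C7aux

open C5aux C7aux

variable [Fintype F]
include hD

/-- **C7** (`diagonalSubgroup_eq_word`: `H` is generated by the `h_{α_i}(t)`) -/
theorem chev_hHgen : (chevBNPair D hD F).B ⊓ (chevBNPair D hD F).N ≤
    Subgroup.closure {h | h ∈ (chevBNPair D hD F).B ⊓ (chevBNPair D hD F).N ∧
      ∃ i : Fin D.rank, ∃ x ∈ (D.rootSubgroup F (D.simple i)).subgroupOf (D.group F), x ≠ 1 ∧
        ∃ u₁ ∈ Uc D F, ∃ u₂ ∈ Uc D F,
        sEl D hD F i * x * (sEl D hD F i)⁻¹ = u₁ * h * sEl D hD F i * u₂} := by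
  intro g hg
  have hg' : (g : GL D.Idx F) ∈ D.diagonalSubgroup F := by
    rw [B_inf_N D hD F, Subgroup.mem_subgroupOf] at hg
    exact hg
  obtain ⟨c, hc, hw⟩ := diagonalSubgroup_eq_word D hD F (g : GL D.Idx F) hg'
  have hgw : g = ⟨wordGL D hD F ((List.range D.rank).flatMap fun i => D.hWord (D.simple i) (c i)),
      wordGL_mem_group D hD F _⟩ := by
    apply Subtype.ext
    apply Units.ext
    rw [hw, coe_wordGL]
  rw [hgw]
  apply word_mem D hD F c
  · intro i hi
    have hci := hc i hi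
    refine ⟨hEl_mem_H D hD F i hi _ hci, ⟨i, hi⟩, xEl D hD F i (c i)⁻¹,
      (mem_Xc_iff D hD F i _).2 ⟨_, rfl⟩, xEl_ne_one D hD F i hi _ (inv_ne_zero hci),
      xEl D hD F i (-(c i)), xEl_mem_Uc D hD F i hi _, xEl D hD F i (-(c i)),
      xEl_mem_Uc D hD F i hi _, ?_⟩
    have := rank1_core D hD F i hi (c i)⁻¹ (inv_ne_zero hci)
    rw [inv_inv] at this
    exact this
  · intro i hi
    exact List.mem_range.1 hi

end Cfsg.Agent.Lib.Helper12.GG
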