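import Mathlib
import Cfsg.Agent.Lib.Helper18.GlaubDefs
import Cfsg.Agent.Lib.Helper29.SIMSBase
import Cfsg.Agent.Lib.Helper1.SIMSL4

set_option autoImplicit false

/-!
Helper12: GLAUB market (S4359, planner helper18), leaf L4p (`le_add_mu_p`, inequality B: `t ≤ l + mu`),
the prime-`p` analogue of `Helper1.SIMSL4.le_add_mu`.
-/

namespace Cfsg.Agent.Lib.Helper12.GLAUBL4P

open Cfsg Cfsg.Agent.Lib.Helper18.Sims3 Cfsg.Agent.Lib.Helper18.Glaub
open Cfsg.Agent.Lib.Helper29.SIMSBase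

variable {G : Type*} [Group G]

/-- pure group identity: `y` commutes with `b`, and `e = [a⁻¹, y] = a⁻¹ y a y⁻¹` commutes with `b`;
then `y` commutes with `[a, b]` (since `y a y⁻¹ = a e`). -/
theorem commute_cm_of_p {a b y : G} (hyb : y * b = b * y)
    (heb : cm a⁻¹ y * b = b * cm a⁻¹ y) : y * cm a b = cm a b * y := by
  set e := cm a⁻¹ y with he
  have hdef : e = a⁻¹ * y * a * y⁻¹ := by
    rw [he]; unfold cm; group
  have e1 : y * a * y⁻¹ = a * e := by
    rw [hdef]; group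
  have hb' : y * b * y⁻¹ = b := by
    rw [hyb]; group
  have heb' : e * b * e⁻¹ = b := by
    rw [heb]; group
  have key : y * cm a b * y⁻¹ = cm a b := by
    have h1 : y * cm a b * y⁻¹ =
        (y * a * y⁻¹) * (y * b * y⁻¹) * (y * a * y⁻¹)⁻¹ * (y * b * y⁻¹)⁻¹ := by
      unfold cm; group
    rw [h1, e1, hb']
    have h2 : a * e * b * (a * e)⁻¹ * b⁻¹ = a * (e * b * e⁻¹) * a⁻¹ * b⁻¹ := by group
    rw [h2, heb']
    rfl
  have : y * cm a b = (y * cm a b * y⁻¹) * y := by group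
  rw [this, key]

/-- LEAF L4p (inequality B: `t ≤ l + mu`). -/
theorem le_add_mu_p [Finite G] {p : ℕ} (hp : p.Prime) {g : G} {x : ℕ → G} {t : ℕ}
    (h : PData p g x t)
    (hpow : ∀ i, x i ^ p = 1)
    (hcm : ∀ i j, i < j → j < i + t → ∀ a b : ℤ, cm (x i ^ a) (x j ^ b) ∈ Hx x (i + 1) (j - 1))
    (l : ℕ) (hl2 : 2 ≤ l) (hlt : l + 1 ≤ t) (hl : CommLt x l) (hnc : ¬ Commute (x 0) (x l))
    (mu : ℕ) (hmu1 : 1 ≤ mu) (hmu : mu + 1 ≤ l)
    (hc : cm (x 0) (x l) ∈ Hx x mu (l - 1)) (hc' : cm (x 0) (x l) ∉ Hx x (mu + 1) (l - 1)) :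
    t ≤ l + mu := by
  by_contra hcon
  have hn : l + mu + 1 ≤ t := by omega
  set c := cm (x 0) (x l) with hcdef
  set y := x (l + mu) with hydef
  -- `y` commutes with `x l`
  have hyl : y * x l = x l * y :=
    commLt_comm hl ⟨by omega, by omega, by omega, by omega⟩
  -- `e = [x 0 ⁻¹, y] ∈ H[1, l+mu-1]` commutes with `x l`
  have hd : cm (x 0)⁻¹ y ∈ Hx x 1 (l + mu - 1) := by
    have := hcm 0 (l + mu) (by omega) (by omega) (-1) 1
    simpa using this
  have hcent : Hx x 1 (l + mu - 1) ≤ Subgroup.centralizer {x l} := by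
    rw [Hx_le_iff]
    intro k hk1 hk2
    rw [Subgroup.mem_centralizer_iff]
    intro z hz
    rw [Set.mem_singleton_iff] at hz
    subst hz
    exact commLt_comm hl ⟨by omega, by omega, by omega, by omega⟩
  have hdl : cm (x 0)⁻¹ y * x l = x l * cm (x 0)⁻¹ y := by
    have := hcent hd
    rw [Subgroup.mem_centralizer_iff] at this
    exact (this (x l) rfl).symm
  -- hence `y` commutes with `c`
  have hyc : y * c = c * y := commute_cm_of_p hyl hdl
  -- `y` commutes with `K = H[mu+1, l-1]`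
  have hK : Hx x (mu + 1) (l - 1) ≤ Subgroup.centralizer {y} := by
    rw [Hx_le_iff]
    intro k hk1 hk2
    rw [Subgroup.mem_centralizer_iff]
    intro z hz
    rw [Set.mem_singleton_iff] at hz
    subst hz
    exact commLt_comm hl ⟨by omega, by omega, by omega, by omega⟩
  have hcy : c ∈ Subgroup.centralizer {y} := by
    rw [Subgroup.mem_centralizer_iff]
    intro z hz
    rw [Set.mem_singleton_iff] at hz
    subst hz
    exact hyc
  -- `K ⊔ ⟨c⟩ = H[mu, l-1]` by orders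
  set K := Hx x (mu + 1) (l - 1) with hKdef
  set H := Hx x mu (l - 1) with hHdef
  set M := K ⊔ Subgroup.zpowers c with hMdef
  have hKH : K ≤ H := Hx_mono (by omega) le_rfl
  have hMH : M ≤ H := sup_le hKH (by rw [Subgroup.zpowers_le]; exact hc)
  have hKM : K ≤ M := le_sup_left
  have hcM : c ∈ M := Subgroup.mem_sup_right (Subgroup.mem_zpowers c)
  have hcardH : Nat.card ↥H = p ^ (l - 1 - mu + 1) := h.card mu (l - 1) (by omega) (by omega)
  have hcardK : Nat.card ↥K = p ^ (l - 1 - mu) := by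
    rcases Nat.lt_or_ge (l - 1) (mu + 1) with hlt' | hge
    · have hbot : K = ⊥ := Hx_eq_bot hlt'
      rw [hbot, Subgroup.card_bot]
      have : l - 1 - mu = 0 := by omega
      rw [this, pow_zero]
    · have := h.card (mu + 1) (l - 1) hge (by omega)
      rw [this]
      congr 1
      omega
  have hKltM : K < M := lt_of_le_of_ne hKM (fun e => hc' (by rw [e]; exact hcM))
  have hd1 : Nat.card ↥K ∣ Nat.card ↥M := Subgroup.card_dvd_of_le hKM
  have hd2 : Nat.card ↥M ∣ Nat.card ↥H := Subgroup.card_dvd_of_le hMH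
  have hlt' : Nat.card ↥K < Nat.card ↥M := by
    rcases Nat.lt_or_ge (Nat.card ↥K) (Nat.card ↥M) with h1 | h1
    · exact h1
    · exfalso
      exact hKltM.ne (Subgroup.eq_of_le_of_card_ge hKM h1)
  have hMcard : Nat.card ↥H ≤ Nat.card ↥M := by
    obtain ⟨a, ha⟩ := hd1
    have hH2 : Nat.card ↥H = Nat.card ↥K * p := by
      rw [hcardH, hcardK, pow_succ]
    have hKpos : 0 < Nat.card ↥K := Nat.card_pos
    -- `a ∣ p`, `a ≠ 1`
    have hap : a ∣ p := by
      rw [hH2, ha] at hd2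
      exact Nat.dvd_of_mul_dvd_mul_left hKpos hd2
    have ha1 : a ≠ 1 := by
      rintro rfl
      rw [mul_one] at ha
      omega
    have hap' : a = p := by
      rcases (Nat.dvd_prime hp).1 hap with h1 | h1
      · exact absurd h1 ha1
      · exact h1
    rw [hH2, ha, hap']
  have hMeq : M = H := Subgroup.eq_of_le_of_card_ge hMH hMcard
  -- so `x mu ∈ M ≤ C(y)`
  have hMcent : M ≤ Subgroup.centralizer {y} :=
    sup_le hK (by rw [Subgroup.zpowers_le]; exact hcy)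
  have hxmu : x mu ∈ Subgroup.centralizer {y} := by
    apply hMcent
    rw [hMeq]
    exact mem_Hx le_rfl (by omega)
  have hcomm : y * x mu = x mu * y := by
    rw [Subgroup.mem_centralizer_iff] at hxmu
    exact hxmu y rfl
  -- conjugate back by `g ^ mu`
  apply hnc
  have e0 : g ^ mu * x 0 * (g ^ mu)⁻¹ = x mu := by
    have := Cfsg.Agent.Lib.Helper1.SIMSL4.shift_pow h.shift mu 0
    simpa using this
  have el : g ^ mu * x l * (g ^ mu)⁻¹ = x (l + mu) :=
    Cfsg.Agent.Lib.Helper1.SIMSL4.shift_pow h.shift mu l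
  show x 0 * x l = x l * x 0
  have h3 : g ^ mu * (x 0 * x l) * (g ^ mu)⁻¹ = g ^ mu * (x l * x 0) * (g ^ mu)⁻¹ := by
    have h4 : g ^ mu * (x 0 * x l) * (g ^ mu)⁻¹ =
        (g ^ mu * x 0 * (g ^ mu)⁻¹) * (g ^ mu * x l * (g ^ mu)⁻¹) := by group
    have h5 : g ^ mu * (x l * x 0) * (g ^ mu)⁻¹ =
        (g ^ mu * x l * (g ^ mu)⁻¹) * (g ^ mu * x 0 * (g ^ mu)⁻¹) := by group
    rw [h4, h5, e0, el]
    exact hcomm.symm
  have h6 : (g ^ mu)⁻¹ * (g ^ mu * (x 0 * x l) * (g ^ mu)⁻¹) * g ^ mu =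
      (g ^ mu)⁻¹ * (g ^ mu * (x l * x 0) * (g ^ mu)⁻¹) * g ^ mu := by rw [h3]
  have h7 : (g ^ mu)⁻¹ * (g ^ mu * (x 0 * x l) * (g ^ mu)⁻¹) * g ^ mu = x 0 * x l := by group
  have h8 : (g ^ mu)⁻¹ * (g ^ mu * (x l * x 0) * (g ^ mu)⁻¹) * g ^ mu = x l * x 0 := by group
  rw [h7, h8] at h6
  exact h6

end Cfsg.Agent.Lib.Helper12.GLAUBL4P
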