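import Mathlib
import Cfsg.Agent.Lib.Helper21.GagDefs

/-!
# S4561 leaf W3: `lam1` is invariant under conjugation on `Z1`.
-/

set_option autoImplicit false

namespace Cfsg.Agent.Lib.Helper12.GagW3

open RegularWreathProduct Cfsg.Agent.Lib.Helper21.Gag

universe u

section step

variable {H : Type u} [Group H] (p : ℕ) [NeZero p] (Z : Subgroup H) (lam : H → ℂˣ)

/-- the conjugation formula in `Wr H p` for `z` with trivial top part -/
theorem conj_left_of_right_one (h z : Wr H p) (hz : z.right = 1) (q : Cp p) :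
    (h * z * h⁻¹).left q = h.left q * z.left (h.right⁻¹ * q) * (h.left q)⁻¹ := by
  rw [RegularWreathProduct.mul_left, Pi.mul_apply, RegularWreathProduct.mul_left, Pi.mul_apply,
    RegularWreathProduct.mul_right, hz, mul_one, RegularWreathProduct.inv_left]
  show h.left q * z.left (h.right⁻¹ * q) * (h.left⁻¹) (h.right * (h.right⁻¹ * q)) = _
  rw [mul_inv_cancel_left, Pi.inv_apply]

/-- the sum of the additive `C_p`-coordinates is the additive version of their product -/
theorem sum_toAdd_eq (z : Wr H p) :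
    ∑ q : Cp p, Multiplicative.toAdd (z.left q).2 = Multiplicative.toAdd (∏ q : Cp p, (z.left q).2) := by
  rw [toAdd_prod]

/-- (W3) `lam₁` is invariant under conjugation on `Z₁`. -/
theorem lam1_conj (hmul : ∀ a ∈ Z, ∀ b ∈ Z, lam (a * b) = lam a * lam b)
    (hconj : ∀ h : H, ∀ z ∈ Z, lam (h * z * h⁻¹) = lam z) :
    ∀ h : Wr H p, ∀ z ∈ Z1 p Z, lam1 p lam (h * z * h⁻¹) = lam1 p lam z := by
  intro h z hz
  obtain ⟨hz1, hz2, hz3⟩ := hz
  unfold lam1
  have hprod : ∏ q : Cp p, lam ((h * z * h⁻¹).left q).1 = ∏ q : Cp p, lam (z.left q).1 := by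
    have h1 : ∀ q : Cp p, lam ((h * z * h⁻¹).left q).1 = lam (z.left (h.right⁻¹ * q)).1 := by
      intro q
      rw [conj_left_of_right_one p h z hz1 q, Prod.fst_mul, Prod.fst_mul, Prod.fst_inv,
        hconj _ _ (hz2 _)]
    rw [Finset.prod_congr rfl fun q _ => h1 q]
    exact Fintype.prod_equiv (Equiv.mulLeft h.right⁻¹) _ _ (fun q => rfl)
  have hmom : mom p (h * z * h⁻¹) = mom p z := by
    unfold mom
    have h1 : ∀ q : Cp p, Multiplicative.toAdd q * Multiplicative.toAdd ((h * z * h⁻¹).left q).2
        = Multiplicative.toAdd q * Multiplicative.toAdd (z.left (h.right⁻¹ * q)).2 := by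
      intro q
      rw [conj_left_of_right_one p h z hz1 q, Prod.snd_mul, Prod.snd_mul, Prod.snd_inv,
        mul_comm ((h.left q).2), mul_inv_cancel_right]
    rw [Finset.sum_congr rfl fun q _ => h1 q]
    have h2 : ∑ q : Cp p, Multiplicative.toAdd q * Multiplicative.toAdd (z.left (h.right⁻¹ * q)).2
        = ∑ q : Cp p, Multiplicative.toAdd (h.right * q) * Multiplicative.toAdd (z.left q).2 := by
      refine Fintype.sum_equiv (Equiv.mulLeft h.right⁻¹) _ _ (fun q => ?_)
      show _ = Multiplicative.toAdd (h.right * (h.right⁻¹ * q)) * _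
      rw [mul_inv_cancel_left]
      rfl
    rw [h2]
    have h3 : ∀ q : Cp p, Multiplicative.toAdd (h.right * q) * Multiplicative.toAdd (z.left q).2
        = Multiplicative.toAdd h.right * Multiplicative.toAdd (z.left q).2
          + Multiplicative.toAdd q * Multiplicative.toAdd (z.left q).2 := by
      intro q
      rw [toAdd_mul, add_mul]
    rw [Finset.sum_congr rfl fun q _ => h3 q, Finset.sum_add_distrib, ← Finset.mul_sum,
      sum_toAdd_eq p z, hz3, toAdd_one, mul_zero, zero_add]
  rw [hprod, hmom]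

end step

end Cfsg.Agent.Lib.Helper12.GagW3
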