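import Mathlib
import Cfsg.Agent.Lib.Helper21.GagDefs
import Cfsg.Agent.Lib.Helper12.GagW3

/-!
# S4561 leaf W1: `Z1` is normal.
-/

set_option autoImplicit false

namespace Cfsg.Agent.Lib.Helper12.GagW1

open RegularWreathProduct Cfsg.Agent.Lib.Helper21.Gag

universe u

section step

variable {H : Type u} [Group H] (p : ℕ) [NeZero p] (Z : Subgroup H) (lam : H → ℂˣ)

/-- (W1) `Z₁` is normal. -/
theorem Z1_normal (hZ : Z.Normal) : (Z1 p Z).Normal := by
  constructor
  intro z hz h
  obtain ⟨hz1, hz2, hz3⟩ := hz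
  refine ⟨?_, fun q => ?_, ?_⟩
  · show (h * z * h⁻¹).right = 1
    rw [RegularWreathProduct.mul_right, RegularWreathProduct.mul_right,
      RegularWreathProduct.inv_right, hz1, mul_one, mul_inv_cancel]
  · rw [Cfsg.Agent.Lib.Helper12.GagW3.conj_left_of_right_one p h z hz1 q, Prod.fst_mul,
      Prod.fst_mul, Prod.fst_inv]
    exact hZ.conj_mem _ (hz2 _) _
  · have h1 : ∀ q : Cp p, ((h * z * h⁻¹).left q).2 = (z.left (h.right⁻¹ * q)).2 := by
      intro q
      rw [Cfsg.Agent.Lib.Helper12.GagW3.conj_left_of_right_one p h z hz1 q, Prod.snd_mul,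
        Prod.snd_mul, Prod.snd_inv, mul_comm ((h.left q).2), mul_inv_cancel_right]
    rw [Finset.prod_congr rfl fun q _ => h1 q]
    rw [← hz3]
    exact Fintype.prod_equiv (Equiv.mulLeft h.right⁻¹) _ _ (fun q => rfl)

end step

end Cfsg.Agent.Lib.Helper12.GagW1
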