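import Mathlib
import Cfsg.Agent.Lib.Helper21.GagDefs

/-!
# S4561 leaf W2: `lam1` is multiplicative on `Z1`.
-/

set_option autoImplicit false

namespace Cfsg.Agent.Lib.Helper12.GagW2

open RegularWreathProduct Cfsg.Agent.Lib.Helper21.Gag

universe u

section step

variable {H : Type u} [Group H] (p : ℕ) [NeZero p] (Z : Subgroup H) (lam : H → ℂˣ)

/-- for `a` with trivial top part, the base part of `a * b` is the pointwise product -/
theorem left_mul_of_right_one (a b : Wr H p) (ha : a.right = 1) (q : Cp p) :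
    (a * b).left q = a.left q * b.left q := by
  rw [RegularWreathProduct.mul_left, Pi.mul_apply, ha, inv_one, one_mul]

/-- `mom` is additive on elements with trivial top part -/
theorem mom_mul_of_right_one (a b : Wr H p) (ha : a.right = 1) :
    mom p (a * b) = mom p a + mom p b := by
  unfold mom
  rw [← Finset.sum_add_distrib]
  refine Finset.sum_congr rfl fun q _ => ?_
  rw [left_mul_of_right_one p a b ha q, Prod.snd_mul, toAdd_mul, mul_add]

/-- (W2) `lam₁` is multiplicative on `Z₁`. -/
theorem lam1_mul (hmul : ∀ a ∈ Z, ∀ b ∈ Z, lam (a * b) = lam a * lam b) :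
    ∀ a ∈ Z1 p Z, ∀ b ∈ Z1 p Z, lam1 p lam (a * b) = lam1 p lam a * lam1 p lam b := by
  intro a ha b hb
  obtain ⟨ha1, ha2, _⟩ := ha
  obtain ⟨_, hb2, _⟩ := hb
  unfold lam1
  rw [mom_mul_of_right_one p a b ha1, ofAdd_add, map_mul]
  have h1 : ∏ q : Cp p, lam ((a * b).left q).1
      = (∏ q : Cp p, lam (a.left q).1) * ∏ q : Cp p, lam (b.left q).1 := by
    rw [← Finset.prod_mul_distrib]
    refine Finset.prod_congr rfl fun q _ => ?_
    rw [left_mul_of_right_one p a b ha1 q, Prod.fst_mul, hmul _ (ha2 q) _ (hb2 q)]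
  rw [h1]
  exact mul_mul_mul_comm _ _ _ _

end step

end Cfsg.Agent.Lib.Helper12.GagW2
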