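import Mathlib
import Cfsg.Agent.Lib.Helper21.GagDefs

/-!
# S4561 leaf W5: `s1` is a homomorphism modulo `Z1`, injective modulo `Z1`.
-/

set_option autoImplicit false

namespace Cfsg.Agent.Lib.Helper12.GagW5

open RegularWreathProduct Cfsg.Agent.Lib.Helper21.Gag

universe u

section step

variable {H : Type u} [Group H] (p : ℕ) [NeZero p] (Z : Subgroup H) (lam : H → ℂˣ)

/-- general formula for `a * b * c⁻¹` when `c.right = a.right * b.right` -/
theorem mul_mul_inv_left {D Q : Type*} [Group D] [Group Q] (a b c : D ≀ᵣ Q)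
    (hc : c.right = a.right * b.right) (q : Q) :
    (a * b * c⁻¹).left q = a.left q * b.left (a.right⁻¹ * q) * (c.left q)⁻¹ := by
  rw [RegularWreathProduct.mul_left, Pi.mul_apply, RegularWreathProduct.mul_left, Pi.mul_apply,
    RegularWreathProduct.mul_right, RegularWreathProduct.inv_left, ← hc]
  show a.left q * b.left (a.right⁻¹ * q) * (c.left⁻¹) (c.right * (c.right⁻¹ * q)) = _
  rw [mul_inv_cancel_left, Pi.inv_apply]

/-- (W5a) `s₁` is a homomorphism modulo `Z₁`. -/
theorem s1_mul {G : Type u} [Group G] (s : G → H)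
    (hs : ∀ a b : G, s a * s b * (s (a * b))⁻¹ ∈ Z) :
    ∀ a b : G ≀ᵣ (Cp p), s1 p s a * s1 p s b * (s1 p s (a * b))⁻¹ ∈ Z1 p Z := by
  intro a b
  have hc : (s1 p s (a * b)).right = (s1 p s a).right * (s1 p s b).right := rfl
  have hleft : ∀ q : Cp p, (s1 p s a * s1 p s b * (s1 p s (a * b))⁻¹).left q
      = (s (a.left q) * s (b.left (a.right⁻¹ * q)) * (s (a.left q * b.left (a.right⁻¹ * q)))⁻¹, 1) := by
    intro q
    rw [mul_mul_inv_left _ _ _ hc q]
    show ((s (a.left q), (1 : Cp p)) * (s (b.left (a.right⁻¹ * q)), 1)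
      * (s ((a * b).left q), 1)⁻¹ : H × Cp p) = _
    rw [RegularWreathProduct.mul_left, Pi.mul_apply]
    ext
    · simp
    · simp
  refine ⟨?_, fun q => ?_, ?_⟩
  · show (s1 p s a * s1 p s b * (s1 p s (a * b))⁻¹).right = 1
    rw [RegularWreathProduct.mul_right, RegularWreathProduct.mul_right,
      RegularWreathProduct.inv_right, hc, mul_inv_cancel]
  · rw [hleft q]
    exact hs _ _
  · rw [Finset.prod_congr rfl fun q _ => by rw [hleft q]]
    simp

/-- (W5b) `s₁` is injective modulo `Z₁`. -/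
theorem s1_inj {G : Type u} [Group G] (s : G → H) (hs : ∀ a : G, s a ∈ Z → a = 1) :
    ∀ a : G ≀ᵣ (Cp p), s1 p s a ∈ Z1 p Z → a = 1 := by
  intro a ha
  obtain ⟨ha1, ha2, _⟩ := ha
  have h1 : a.right = 1 := ha1
  have h2 : a.left = 1 := by
    funext q
    exact hs _ (ha2 q)
  cases a with
  | mk l r =>
    simp only at h1 h2
    subst h1 h2
    rfl

end step

end Cfsg.Agent.Lib.Helper12.GagW5
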