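import Mathlib
import Cfsg.Agent.Lib.Helper21.GagDefs

/-!
# S4561 leaf W8: `lam1` has exponent dividing `m1` on `Z1`.
-/

set_option autoImplicit false

namespace Cfsg.Agent.Lib.Helper12.GagW8

open RegularWreathProduct Cfsg.Agent.Lib.Helper21.Gag

universe u

section step

variable {H : Type u} [Group H] (p : ℕ) [NeZero p] (Z : Subgroup H) (lam : H → ℂˣ)

theorem dvd_m1 (m : ℕ) : m ∣ m1 p m := by
  unfold m1
  split_ifs with h
  · exact dvd_rfl
  · exact dvd_mul_right m p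

theorem p_dvd_m1 (m : ℕ) : p ∣ m1 p m := by
  unfold m1
  split_ifs with h
  · exact h
  · exact dvd_mul_left p m

/-- every element of `C_p` has `p`-th power one -/
theorem Cp_pow_eq_one (x : Cp p) : x ^ p = 1 := by
  have h : p • (Multiplicative.toAdd x) = 0 := by
    rw [nsmul_eq_mul, ZMod.natCast_self, zero_mul]
  have h2 : Multiplicative.toAdd (x ^ p) = 0 := by
    rw [toAdd_pow]; exact h
  exact Multiplicative.toAdd.injective h2

theorem eps_pow_eq_one (x : Cp p) : eps p x ^ p = 1 := by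
  rw [← map_pow, Cp_pow_eq_one, map_one]

/-- (W8) `lam₁` has exponent dividing `m₁` on `Z₁`. -/
theorem lam1_pow (m : ℕ) (hm : Squarefree m) (hp : p.Prime) (hpow : ∀ z ∈ Z, lam z ^ m = 1) :
    ∀ z ∈ Z1 p Z, lam1 p lam z ^ (m1 p m) = 1 := by
  intro z hz
  obtain ⟨_, hz2, _⟩ := hz
  unfold lam1
  rw [mul_pow]
  obtain ⟨c, hc⟩ := dvd_m1 p m
  obtain ⟨d, hd⟩ := p_dvd_m1 p m
  have h1 : (∏ q : Cp p, lam (z.left q).1) ^ (m1 p m) = 1 := by
    rw [← Finset.prod_pow]
    refine Finset.prod_eq_one fun q _ => ?_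
    rw [hc, pow_mul, hpow _ (hz2 q), one_pow]
  have h2 : (eps p (Multiplicative.ofAdd (mom p z))) ^ (m1 p m) = 1 := by
    rw [hd, pow_mul, eps_pow_eq_one, one_pow]
  rw [h1, h2, one_mul]

end step

end Cfsg.Agent.Lib.Helper12.GagW8
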