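import Mathlib
import Cfsg.Agent.Lib.Helper21.GagDefs

/-!
# S4561 leaf W9: witnesses for the primes in the wreath step.
-/

set_option autoImplicit false

namespace Cfsg.Agent.Lib.Helper12.GagW9

open RegularWreathProduct Cfsg.Agent.Lib.Helper21.Gag

universe u

section step

variable {H : Type u} [Group H] (p : ℕ) [NeZero p] (Z : Subgroup H) (lam : H → ℂˣ)

theorem lam_one_of_mul (hmul : ∀ a ∈ Z, ∀ b ∈ Z, lam (a * b) = lam a * lam b) : lam 1 = 1 := by
  have h := hmul 1 Z.one_mem 1 Z.one_mem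
  rw [mul_one] at h
  exact (mul_eq_left.mp h.symm)

/-- `eps` is injective -/
theorem eps_injective : Function.Injective (eps p) := by
  intro x y hxy
  have h1 : ((eps p x : ℂˣ) : ℂ) = ((eps p y : ℂˣ) : ℂ) := by rw [hxy]
  have h2 : ZMod.stdAddChar (N := p) (Multiplicative.toAdd x)
      = ZMod.stdAddChar (N := p) (Multiplicative.toAdd y) := h1
  exact Multiplicative.toAdd.injective (ZMod.injective_stdAddChar h2)

/-- the moment of a single `C_p`-coordinate -/
theorem sum_single (a x : Cp p) :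
    ∑ q : Cp p, Multiplicative.toAdd q * Multiplicative.toAdd (Pi.mulSingle (M := fun _ => Cp p) a x q)
      = Multiplicative.toAdd a * Multiplicative.toAdd x := by
  rw [Finset.sum_eq_single a]
  · rw [Pi.mulSingle_eq_same]
  · intro b _ hb
    rw [Pi.mulSingle_eq_of_ne hb, toAdd_one, mul_zero]
  · intro h
    exact absurd (Finset.mem_univ a) h

/-- (W9a) old witnesses give new ones: put `z` at the coordinate `1`. -/
theorem witness1_old (hmul : ∀ a ∈ Z, ∀ b ∈ Z, lam (a * b) = lam a * lam b) (q : ℕ)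
    (h : ∃ z ∈ Z, lam z ≠ 1 ∧ lam z ^ q = 1) :
    ∃ z ∈ Z1 p Z, lam1 p lam z ≠ 1 ∧ lam1 p lam z ^ q = 1 := by
  obtain ⟨z, hz, hz1, hzq⟩ := h
  have hl1 := lam_one_of_mul Z lam hmul
  let w : Wr H p := ⟨fun r => (Pi.mulSingle (M := fun _ => H) (1 : Cp p) z r, 1), 1⟩
  have hw1 : ∀ r : Cp p, (w.left r).1 = Pi.mulSingle (M := fun _ => H) (1 : Cp p) z r := fun r => rfl
  have hw2 : ∀ r : Cp p, (w.left r).2 = 1 := fun r => rfl
  have hmem : w ∈ Z1 p Z := by
    refine ⟨rfl, fun r => ?_, ?_⟩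
    · rw [hw1]
      by_cases hr : r = 1
      · subst hr
        rw [Pi.mulSingle_eq_same]; exact hz
      · rw [Pi.mulSingle_eq_of_ne hr]; exact Z.one_mem
    · exact Finset.prod_eq_one fun r _ => hw2 r
  have hval : lam1 p lam w = lam z := by
    unfold lam1
    have hm : mom p w = 0 := by
      unfold mom
      refine Finset.sum_eq_zero fun r _ => ?_
      rw [hw2, toAdd_one, mul_zero]
    rw [hm, ofAdd_zero, map_one, mul_one]
    rw [Finset.prod_eq_single (1 : Cp p)]
    · rw [hw1, Pi.mulSingle_eq_same]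
    · intro b _ hb
      rw [hw1, Pi.mulSingle_eq_of_ne hb, hl1]
    · intro h
      exact absurd (Finset.mem_univ _) h
  exact ⟨w, hmem, by rw [hval]; exact hz1, by rw [hval]; exact hzq⟩

/-- (W9b) a witness for `p`. -/
theorem witness1_new (hp : p.Prime) (hmul : ∀ a ∈ Z, ∀ b ∈ Z, lam (a * b) = lam a * lam b) :
    ∃ z ∈ Z1 p Z, lam1 p lam z ≠ 1 ∧ lam1 p lam z ^ p = 1 := by
  have hl1 := lam_one_of_mul Z lam hmul
  haveI : Fact p.Prime := ⟨hp⟩
  let c : Cp p → Cp p := fun r =>
    Pi.mulSingle (M := fun _ => Cp p) (Multiplicative.ofAdd (1 : ZMod p)) (Multiplicative.ofAdd (1 : ZMod p)) r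
      * Pi.mulSingle (M := fun _ => Cp p) (Multiplicative.ofAdd (0 : ZMod p)) (Multiplicative.ofAdd (-1 : ZMod p)) r
  let w : Wr H p := ⟨fun r => (1, c r), 1⟩
  have hw1 : ∀ r : Cp p, (w.left r).1 = 1 := fun r => rfl
  have hw2 : ∀ r : Cp p, (w.left r).2 = c r := fun r => rfl
  have hmem : w ∈ Z1 p Z := by
    refine ⟨rfl, fun r => ?_, ?_⟩
    · rw [hw1]; exact Z.one_mem
    · rw [Finset.prod_congr rfl fun r _ => hw2 r]
      show ∏ r : Cp p, (Pi.mulSingle (M := fun _ => Cp p) (Multiplicative.ofAdd (1 : ZMod p))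
          (Multiplicative.ofAdd (1 : ZMod p)) r
        * Pi.mulSingle (M := fun _ => Cp p) (Multiplicative.ofAdd (0 : ZMod p))
          (Multiplicative.ofAdd (-1 : ZMod p)) r) = 1
      rw [Finset.prod_mul_distrib, Fintype.prod_pi_mulSingle', Fintype.prod_pi_mulSingle',
        ← ofAdd_add, add_neg_cancel, ofAdd_zero]
  have hm : mom p w = 1 := by
    unfold mom
    have h1 : ∀ r : Cp p, Multiplicative.toAdd r * Multiplicative.toAdd (w.left r).2
        = Multiplicative.toAdd r * Multiplicative.toAdd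
            (Pi.mulSingle (M := fun _ => Cp p) (Multiplicative.ofAdd (1 : ZMod p))
              (Multiplicative.ofAdd (1 : ZMod p)) r)
          + Multiplicative.toAdd r * Multiplicative.toAdd
            (Pi.mulSingle (M := fun _ => Cp p) (Multiplicative.ofAdd (0 : ZMod p))
              (Multiplicative.ofAdd (-1 : ZMod p)) r) := by
      intro r
      rw [hw2, ← mul_add, ← toAdd_mul]
    rw [Finset.sum_congr rfl fun r _ => h1 r, Finset.sum_add_distrib, sum_single, sum_single]
    simp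
  have hval : lam1 p lam w = eps p (Multiplicative.ofAdd (1 : ZMod p)) := by
    unfold lam1
    rw [hm, Finset.prod_eq_one fun r _ => by rw [hw1, hl1], one_mul]
  refine ⟨w, hmem, ?_, ?_⟩
  · rw [hval]
    intro h
    rw [← map_one (eps p)] at h
    have h2 := eps_injective p h
    have h3 : (1 : ZMod p) = 0 := Multiplicative.ofAdd.injective h2
    exact one_ne_zero h3
  · rw [hval, ← map_pow]
    have h2 : (Multiplicative.ofAdd (1 : ZMod p)) ^ p = 1 := by
      rw [← ofAdd_nsmul, nsmul_eq_mul, ZMod.natCast_self, zero_mul, ofAdd_zero]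
    rw [h2, map_one]

end step

end Cfsg.Agent.Lib.Helper12.GagW9
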