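import Mathlib
import Cfsg.Agent.Lib.Helper22.SylowCount
import Cfsg.Agent.Lib.Helper7.SylowCount

/-!
helper12: M. Hall's theorem `n_5 ≠ 21`, part A: reductions for a minimal counterexample.
-/

set_option autoImplicit false

namespace Cfsg.Agent.Lib.Helper12.Hall21

open Subgroup MulAction
open scoped Pointwise

universe u

theorem fact5 : Fact (Nat.Prime 5) := ⟨by norm_num⟩

attribute [local instance] fact5

/-- Minimal counterexample hypothesis. -/
def MinCE (G : Type u) [Group G] [Finite G] : Prop :=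
  Nat.card (Sylow 5 G) = 21 ∧
    ∀ (G' : Type u) [Group G'] [Finite G'], Nat.card G' < Nat.card G → Nat.card (Sylow 5 G') ≠ 21

variable {G : Type u} [Group G] [Finite G]

theorem normal_eq_top (h : MinCE G) (Y : Subgroup G) [Y.Normal] (hY : ¬ 5 ∣ Y.index) : Y = ⊤ := by
  by_contra hne
  have hlt : Nat.card Y < Nat.card G := by
    have h1 : Nat.card Y ∣ Nat.card G := Subgroup.card_subgroup_dvd_card Y
    have h2 : Nat.card Y ≠ Nat.card G := fun h3 => hne (Subgroup.card_eq_iff_eq_top Y |>.mp h3)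
    exact lt_of_le_of_ne (Nat.le_of_dvd Nat.card_pos h1) h2
  exact h.2 Y hlt ((Cfsg.Agent.Lib.Helper22.SylowCount.card_sylow_subgroup_eq Y hY).trans h.1)

theorem hom_trivial (h : MinCE G) {A : Type*} [Group A] [Finite A] (φ : G →* A)
    (hA : ¬ 5 ∣ Nat.card A) (g : G) : φ g = 1 := by
  have h1 : φ.ker = ⊤ := by
    apply normal_eq_top h
    rw [Subgroup.index_ker]
    intro h5
    exact hA (h5.trans (Subgroup.card_subgroup_dvd_card φ.range))
  have : g ∈ φ.ker := by rw [h1]; trivial
  exact this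

theorem faithful (h : MinCE G) (K : Subgroup G) [K.Normal]
    (hK : ∀ P : Sylow 5 G, K ≤ Subgroup.normalizer ((P : Subgroup G) : Set G)) : K = ⊥ := by
  by_contra hne
  have hlt : Nat.card (G ⧸ K) < Nat.card G := by
    have h1 : Nat.card G = Nat.card (G ⧸ K) * Nat.card K := Subgroup.card_eq_card_quotient_mul_card_subgroup K
    have h2 : 1 < Nat.card K := by
      rw [Subgroup.one_lt_card_iff_ne_bot]; exact hne
    have h3 : 0 < Nat.card (G ⧸ K) := Nat.card_pos
    nlinarith
  exact h.2 (G ⧸ K) hlt ((Cfsg.Agent.Lib.Helper22.SylowCount.card_sylow_quotient_eq K hK).trans h.1)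

omit [Finite G] in
theorem smul_eq_iff {p : ℕ} {g : G} {P : Sylow p G} :
    g • P = P ↔ g ∈ Subgroup.normalizer ((P : Subgroup G) : Set G) := by
  rw [Sylow.smul_eq_iff_mem_normalizer, ← Sylow.coe_coe]

/-- The action on the Sylow 5-subgroups is faithful. -/
theorem eq_one_of_smul_eq (h : MinCE G) (g : G) (hg : ∀ Q : Sylow 5 G, g • Q = Q) : g = 1 := by
  have h1 : (MulAction.toPermHom G (Sylow 5 G)).ker = ⊥ := by
    apply faithful h
    intro P k hk
    rw [← smul_eq_iff]
    have : MulAction.toPermHom G (Sylow 5 G) k = 1 := hk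
    have := congrArg (fun σ : Equiv.Perm (Sylow 5 G) => σ P) this
    simpa using this
  have h2 : g ∈ (MulAction.toPermHom G (Sylow 5 G)).ker := by
    rw [MonoidHom.mem_ker]
    apply Equiv.ext
    intro Q
    simpa using hg Q
  rw [h1] at h2
  exact h2

/-- All elements act as even permutations on the Sylow 5-subgroups. -/
theorem sign_eq_one [DecidableEq (Sylow 5 G)] [Fintype (Sylow 5 G)] (h : MinCE G) (g : G) :
    Equiv.Perm.sign (MulAction.toPermHom G (Sylow 5 G) g) = 1 := by
  have := hom_trivial h ((Equiv.Perm.sign : Equiv.Perm (Sylow 5 G) →* ℤˣ).comp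
    (MulAction.toPermHom G (Sylow 5 G))) (by rw [Nat.card_eq_fintype_card]; simp) g
  simpa using this

omit [Finite G] in
theorem card_subgroupOf_eq (H K : Subgroup G) :
    Nat.card (H.subgroupOf K) = Nat.card (K ⊓ H : Subgroup G) := by
  rw [← Subgroup.inf_subgroupOf_left]
  exact Nat.card_congr (Subgroup.subgroupOfEquivOfLe inf_le_left).toEquiv

/-- distinct Sylow 5-subgroups meet in a subgroup of index 5 -/
theorem card_inf_mul_five (h21 : Nat.card (Sylow 5 G) = 21) (P Q : Sylow 5 G) (hPQ : P ≠ Q) :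
    Nat.card ((P : Subgroup G) ⊓ Q : Subgroup G) * 5 = Nat.card P := by
  classical
  have h1 := Cfsg.Agent.Lib.Helper7.ncard_orbit_sylow_eq_index (P : Subgroup G) P.2 Q
  have h2 : Nat.card ((Q : Subgroup G).subgroupOf P) * ((Q : Subgroup G).subgroupOf P).index
      = Nat.card P := Subgroup.card_mul_index _
  rw [card_subgroupOf_eq] at h2
  obtain ⟨n, hn⟩ := P.2.exists_card_eq
  have hdvd : ((Q : Subgroup G).subgroupOf (P : Subgroup G)).index ∣ 5 ^ n := by
    rw [← hn]; exact Subgroup.index_dvd_card _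
  obtain ⟨m, _, hm⟩ := (Nat.dvd_prime_pow (by norm_num : Nat.Prime 5)).mp hdvd
  -- m ≠ 0
  have hm0 : m ≠ 0 := by
    rintro rfl
    rw [pow_zero, Subgroup.index_eq_one, Subgroup.subgroupOf_eq_top] at hm
    exact hPQ (Sylow.ext (P.3 Q.2 hm)).symm
  -- the orbit avoids P
  have hsub : orbit ↥(P : Subgroup G) Q ⊆ {R : Sylow 5 G | R ≠ P} := by
    rintro R ⟨g, rfl⟩ hR
    simp only at hR
    have hg : (g : G) • P = P := smul_eq_iff.mpr (Subgroup.le_normalizer g.2)
    have : (g : G) • Q = (g : G) • P := by rw [hg]; exact hR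
    exact hPQ (smul_left_cancel _ this).symm
  have hle : (orbit ↥(P : Subgroup G) Q).ncard ≤ 20 := by
    have h3 := Set.ncard_le_ncard hsub (Set.toFinite _)
    have h4 : ({R : Sylow 5 G | R ≠ P} : Set (Sylow 5 G)).ncard = 20 := by
      have : ({R : Sylow 5 G | R ≠ P} : Set (Sylow 5 G)) = {P}ᶜ := by ext; simp
      rw [this, Set.ncard_compl, Set.ncard_singleton, h21]
    omega
  rw [h1, hm] at hle
  have hm1 : m = 1 := by
    rcases m with _ | _ | m
    · exact absurd rfl hm0
    · rfl
    · exfalso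
      have : 5 ^ 2 ≤ 5 ^ (m + 1 + 1) := Nat.pow_le_pow_right (by norm_num) (by omega)
      omega
  rw [hm, hm1, pow_one] at h2
  exact h2


omit [Finite G] in
theorem mem_smul_sylow_iff {p : ℕ} (g x : G) (P : Sylow p G) :
    x ∈ ((g • P : Sylow p G) : Subgroup G) ↔ g⁻¹ * x * g ∈ (P : Subgroup G) := by
  change x ∈ MulAut.conj g • (P : Subgroup G) ↔ _
  rw [Subgroup.mem_pointwise_smul_iff_inv_smul_mem]
  simp [MulAut.smul_def]

/-- `P ⊓ Q` is normalized by `P` (index 5 in a 5-group). -/
theorem conj_mem_inf (h21 : Nat.card (Sylow 5 G) = 21) (P Q : Sylow 5 G) (hPQ : P ≠ Q)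
    (g d : G) (hg : g ∈ (P : Subgroup G)) (hd : d ∈ (P : Subgroup G) ⊓ Q) :
    g * d * g⁻¹ ∈ (P : Subgroup G) ⊓ Q := by
  have h1 := card_inf_mul_five h21 P Q hPQ
  have h2 : Nat.card ((Q : Subgroup G).subgroupOf P) * ((Q : Subgroup G).subgroupOf P).index
      = Nat.card P := Subgroup.card_mul_index _
  rw [card_subgroupOf_eq] at h2
  have hpos : 0 < Nat.card ((P : Subgroup G) ⊓ Q : Subgroup G) := Nat.card_pos
  have hidx : ((Q : Subgroup G).subgroupOf P).index = 5 := by
    have : Nat.card ((P : Subgroup G) ⊓ Q : Subgroup G) * ((Q : Subgroup G).subgroupOf P).index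
        = Nat.card ((P : Subgroup G) ⊓ Q : Subgroup G) * 5 := by rw [h2, h1]
    exact Nat.eq_of_mul_eq_mul_left hpos this
  obtain ⟨n, hn⟩ := P.2.exists_card_eq
  have hn0 : n ≠ 0 := by
    rintro rfl
    rw [pow_zero] at hn
    rw [hn] at h1
    omega
  have hmin : (Nat.card (P : Subgroup G)).minFac = 5 := by
    rw [hn, Nat.Prime.pow_minFac (by norm_num) hn0]
  have hnorm : ((Q : Subgroup G).subgroupOf P).Normal :=
    Subgroup.normal_of_index_eq_minFac_card (hidx.trans hmin.symm)
  have := hnorm.conj_mem ⟨d, hd.1⟩ (by rw [Subgroup.mem_subgroupOf]; exact hd.2) ⟨g, hg⟩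
  rw [Subgroup.mem_subgroupOf] at this
  exact ⟨(P : Subgroup G).mul_mem ((P : Subgroup G).mul_mem hg hd.1) ((P : Subgroup G).inv_mem hg), this⟩

/-- for `g ∈ P`, `P ⊓ g • Q = P ⊓ Q`. -/
theorem inf_smul_eq (h21 : Nat.card (Sylow 5 G) = 21) (P Q : Sylow 5 G) (hPQ : P ≠ Q)
    (g : G) (hg : g ∈ (P : Subgroup G)) :
    (P : Subgroup G) ⊓ ((g • Q : Sylow 5 G) : Subgroup G) = (P : Subgroup G) ⊓ Q := by
  ext d
  simp only [Subgroup.mem_inf, mem_smul_sylow_iff]
  constructor
  · rintro ⟨h1, h2⟩
    have h3 : g⁻¹ * d * g ∈ (P : Subgroup G) ⊓ Q :=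
      ⟨(P : Subgroup G).mul_mem ((P : Subgroup G).mul_mem ((P : Subgroup G).inv_mem hg) h1) hg, h2⟩
    have h4 := conj_mem_inf h21 P Q hPQ g _ hg h3
    have : g * (g⁻¹ * d * g) * g⁻¹ = d := by group
    rw [this] at h4
    exact h4
  · rintro ⟨h1, h2⟩
    have h4 := conj_mem_inf h21 P Q hPQ g⁻¹ _ ((P : Subgroup G).inv_mem hg) ⟨h1, h2⟩
    rw [inv_inv] at h4
    exact ⟨h1, h4.2⟩

theorem smul_ne_of_mem (P Q : Sylow 5 G) (hPQ : P ≠ Q) (g : G) (hg : g ∈ (P : Subgroup G)) :
    g • Q ≠ P := by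
  intro hR
  have hg' : g • P = P := smul_eq_iff.mpr (Subgroup.le_normalizer hg)
  have : g • Q = g • P := by rw [hg']; exact hR
  exact hPQ (smul_left_cancel _ this).symm

theorem card_sylow_five (h : MinCE G) (P : Sylow 5 G) : Nat.card P = 5 := by
  classical
  have : Fintype (Sylow 5 G) := Fintype.ofFinite _
  have h21 := h.1
  -- another Sylow
  have hex : ∃ Q : Sylow 5 G, P ≠ Q := by
    by_contra hcon
    push Not at hcon
    have : Subsingleton (Sylow 5 G) := ⟨fun a b => (hcon a).symm.trans (hcon b)⟩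
    have := Finite.card_le_one_iff_subsingleton.mpr this
    omega
  obtain ⟨Q, hPQ⟩ := hex
  have hc := card_inf_mul_five h21 P Q hPQ
  by_contra hne
  set D : Subgroup G := (P : Subgroup G) ⊓ Q with hD
  have hDcard : Nat.card D ≠ 1 := by
    intro h1; rw [h1] at hc; exact hne hc.symm
  -- some Sylow does not contain D
  have hR0 : ∃ R0 : Sylow 5 G, ¬ D ≤ R0 := by
    by_contra hcon
    push Not at hcon
    apply hDcard
    rw [Subgroup.card_eq_one]
    rw [eq_bot_iff]
    intro d hd
    rw [Subgroup.mem_bot]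
    apply eq_one_of_smul_eq h
    intro R
    rw [smul_eq_iff]
    exact Subgroup.le_normalizer (hcon R hd)
  obtain ⟨R0, hR0⟩ := hR0
  -- the line through P and Q
  let L : Finset (Sylow 5 G) := Finset.univ.filter (fun R => D ≤ R)
  have hL6 : 6 ≤ L.card := by
    have h1 : (insert P (orbit ↥(P : Subgroup G) Q)) ⊆ (L : Set (Sylow 5 G)) := by
      intro R hR
      simp only [L, Finset.coe_filter, Finset.mem_univ, true_and, Set.mem_ofPred_eq]
      rcases hR with rfl | ⟨g, rfl⟩
      · exact inf_le_left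
      · have := inf_smul_eq h21 P Q hPQ (g : G) g.2
        calc D = (P : Subgroup G) ⊓ (((g : G) • Q : Sylow 5 G) : Subgroup G) := this.symm
          _ ≤ _ := inf_le_right
    have h2 : (insert P (orbit ↥(P : Subgroup G) Q)).ncard = 6 := by
      rw [Set.ncard_insert_of_notMem]
      · rw [Cfsg.Agent.Lib.Helper7.ncard_orbit_sylow_eq_index (P : Subgroup G) P.2 Q]
        have h3 : Nat.card ((Q : Subgroup G).subgroupOf P) * ((Q : Subgroup G).subgroupOf P).index
            = Nat.card P := Subgroup.card_mul_index _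
        rw [card_subgroupOf_eq] at h3
        have hpos : 0 < Nat.card ((P : Subgroup G) ⊓ Q : Subgroup G) := Nat.card_pos
        have : Nat.card ((P : Subgroup G) ⊓ Q : Subgroup G) * ((Q : Subgroup G).subgroupOf P).index
            = Nat.card ((P : Subgroup G) ⊓ Q : Subgroup G) * 5 := by rw [h3, hc]
        rw [Nat.eq_of_mul_eq_mul_left hpos this]
      · rintro ⟨g, hg⟩
        exact smul_ne_of_mem P Q hPQ (g : G) g.2 hg
    have h3 := Set.ncard_le_ncard h1 (Set.toFinite _)
    rw [h2, Set.ncard_coe_finset] at h3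
    exact h3
  -- the map R ↦ R0 ⊓ R
  let f : Sylow 5 G → Subgroup G := fun R => (R0 : Subgroup G) ⊓ R
  have hne0 : ∀ R ∈ L, R ≠ R0 := by
    intro R hR hRR
    simp only [L, Finset.mem_filter, Finset.mem_univ, true_and] at hR
    rw [hRR] at hR
    exact hR0 hR
  have hinj : Set.InjOn f (L : Set (Sylow 5 G)) := by
    intro R1 hR1 R2 hR2 hf
    by_contra hne12
    have hR1' : D ≤ R1 := by simpa [L] using hR1
    have hR2' : D ≤ R2 := by simpa [L] using hR2
    have hc12 := card_inf_mul_five h21 R1 R2 hne12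
    have hc01 := card_inf_mul_five h21 R0 R1 (hne0 R1 hR1).symm
    have hcP : Nat.card (R1 : Subgroup G) = Nat.card (P : Subgroup G) := by
      rw [Sylow.card_eq_multiplicity, Sylow.card_eq_multiplicity]
    have hc0 : Nat.card (R0 : Subgroup G) = Nat.card (P : Subgroup G) := by
      rw [Sylow.card_eq_multiplicity, Sylow.card_eq_multiplicity]
    -- D = R1 ⊓ R2
    have hD12 : D = (R1 : Subgroup G) ⊓ R2 := by
      apply Subgroup.eq_of_le_of_card_ge (le_inf hR1' hR2')
      omega
    -- f R1 ≤ D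
    have hfD : f R1 ≤ D := by
      rw [hD12]
      exact le_inf inf_le_right (hf ▸ inf_le_right)
    have hfD' : f R1 = D := by
      apply Subgroup.eq_of_le_of_card_ge hfD
      show Nat.card D ≤ Nat.card ((R0 : Subgroup G) ⊓ R1 : Subgroup G)
      omega
    apply hR0
    rw [← hfD']
    exact inf_le_left
  -- fibers of f on the complement of R0 have at least 5 elements
  let S : Finset (Sylow 5 G) := Finset.univ.erase R0
  have hS : S.card = 20 := by
    rw [Finset.card_erase_of_mem (Finset.mem_univ _), Finset.card_univ, ← Nat.card_eq_fintype_card, h21]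
  have hfib : ∀ b ∈ S.image f, 5 ≤ (S.filter (fun a => f a = b)).card := by
    intro b hb
    obtain ⟨R, hR, rfl⟩ := Finset.mem_image.mp hb
    have hRne : R0 ≠ R := by
      intro h0; rw [Finset.mem_erase] at hR; exact hR.1 h0.symm
    have h1 : orbit ↥(R0 : Subgroup G) R ⊆ ((S.filter (fun a => f a = f R) : Finset _) : Set (Sylow 5 G)) := by
      rintro R' ⟨g, rfl⟩
      simp only [Finset.coe_filter, Set.mem_ofPred_eq, S, Finset.mem_erase, Finset.mem_univ, and_true]
      refine ⟨smul_ne_of_mem R0 R hRne (g : G) g.2, ?_⟩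
      exact inf_smul_eq h21 R0 R hRne (g : G) g.2
    have h2 : (orbit ↥(R0 : Subgroup G) R).ncard = 5 := by
      rw [Cfsg.Agent.Lib.Helper7.ncard_orbit_sylow_eq_index (R0 : Subgroup G) R0.2 R]
      have hc' := card_inf_mul_five h21 R0 R hRne
      have h3 : Nat.card ((R : Subgroup G).subgroupOf R0) * ((R : Subgroup G).subgroupOf R0).index
          = Nat.card R0 := Subgroup.card_mul_index _
      rw [card_subgroupOf_eq] at h3
      have hpos : 0 < Nat.card ((R0 : Subgroup G) ⊓ R : Subgroup G) := Nat.card_pos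
      have : Nat.card ((R0 : Subgroup G) ⊓ R : Subgroup G) * ((R : Subgroup G).subgroupOf R0).index
          = Nat.card ((R0 : Subgroup G) ⊓ R : Subgroup G) * 5 := by rw [h3, hc']
      exact Nat.eq_of_mul_eq_mul_left hpos this
    have h3 := Set.ncard_le_ncard h1 (Set.toFinite _)
    rw [h2, Set.ncard_coe_finset] at h3
    exact h3
  have h4 := Finset.mul_card_image_le_card S 5 hfib
  rw [hS] at h4
  -- but the image contains the 6 values on L
  have hLS : L ⊆ S := by
    intro R hR
    exact Finset.mem_erase.mpr ⟨hne0 R hR, Finset.mem_univ _⟩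
  have h5 : (L.image f).card = L.card := Finset.card_image_of_injOn hinj
  have h6 : (L.image f).card ≤ (S.image f).card := Finset.card_le_card (Finset.image_subset_image hLS)
  omega

end Cfsg.Agent.Lib.Helper12.Hall21
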