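import Mathlib

/-!
helper12: M. Hall's theorem `n_5 ≠ 21`, part B: parity of permutations of `Fin 4 × ZMod 5`
normalizing the translation `(j, i) ↦ (j, i + 1)`, and small facts on `Perm (Fin 4)`.
-/

set_option autoImplicit false

namespace Cfsg.Agent.Lib.Helper12.Hall21

open Equiv

theorem sign_addRight_zmod5 (c : ZMod 5) : Perm.sign (Equiv.addRight c : Perm (ZMod 5)) = 1 := by
  revert c; decide

/-- A permutation of `Fin 4 × ZMod 5` of the form `(j, i) ↦ (σ j, a * i + c j)` has the sign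
of `σ`. -/
theorem sign_of_coords (τ : Perm (Fin 4 × ZMod 5)) (σ : Perm (Fin 4)) (a : (ZMod 5)ˣ)
    (c : Fin 4 → ZMod 5) (h : ∀ j i, τ (j, i) = (σ j, (a : ZMod 5) * i + c j)) :
    Perm.sign τ = Perm.sign σ := by
  have h1 : τ = (Equiv.prodCongrLeft (fun _ : ZMod 5 => σ) : Perm (Fin 4 × ZMod 5)) *
      (Equiv.prodCongrRight (fun j : Fin 4 => (Equiv.addRight (c j) * Units.mulLeft a :
        Perm (ZMod 5))) : Perm (Fin 4 × ZMod 5)) := by
    ext ⟨j, i⟩ <;> simp [h]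
  rw [h1, Perm.sign_mul, Perm.sign_prodCongrLeft, Perm.sign_prodCongrRight]
  simp only [Perm.sign_mul, sign_addRight_zmod5, one_mul, Finset.prod_const, Finset.card_univ,
    Fintype.card_fin, ZMod.card]
  have h2 : (Perm.sign (Units.mulLeft a : Perm (ZMod 5))) ^ 4 = 1 := by
    rcases Int.units_eq_one_or (Perm.sign (Units.mulLeft a : Perm (ZMod 5))) with h | h <;>
      rw [h] <;> decide
  have h3 : (Perm.sign σ) ^ 5 = Perm.sign σ := by
    rcases Int.units_eq_one_or (Perm.sign σ) with h | h <;> rw [h] <;> decide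
  rw [h2, h3, mul_one]

set_option maxRecDepth 100000 in
theorem fin4_invol_even_fpf : ∀ σ : Perm (Fin 4), σ * σ = 1 → σ ≠ 1 → Perm.sign σ = 1 →
    ∀ j, σ j ≠ j := by decide

set_option maxRecDepth 100000 in
theorem fin4_pow_seven : ∀ σ : Perm (Fin 4), σ ^ 7 = 1 → σ = 1 := by decide

set_option maxRecDepth 100000 in
theorem fin4_even_pow_four : ∀ σ : Perm (Fin 4), Perm.sign σ = 1 → σ ^ 4 = 1 → σ ^ 2 = 1 := by
  decide

set_option maxRecDepth 100000 in
theorem fin4_pow_twelve : ∀ σ : Perm (Fin 4), σ ^ 12 = 1 := by decide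

theorem fin4_two_elt (σ : Perm (Fin 4)) (hs : Perm.sign σ = 1) (k : ℕ) (hk : σ ^ 2 ^ k = 1) :
    σ ^ 2 = 1 := by
  apply fin4_even_pow_four σ hs
  have h1 : orderOf σ ∣ 2 ^ k := orderOf_dvd_of_pow_eq_one hk
  have h2 : orderOf σ ∣ 12 := orderOf_dvd_of_pow_eq_one (fin4_pow_twelve σ)
  have hc : Nat.Coprime (orderOf σ) 3 :=
    Nat.Coprime.coprime_dvd_left h1 (Nat.Coprime.pow_left k (by norm_num))
  have h3 : orderOf σ ∣ 4 := by
    apply hc.dvd_of_dvd_mul_right
    exact h2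
  exact orderOf_dvd_iff_pow_eq_one.mp h3

end Cfsg.Agent.Lib.Helper12.Hall21
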