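import Mathlib
import Cfsg.Agent.Lib.Helper12.Hall21A
import Cfsg.Agent.Lib.Helper12.Hall21B

/-!
helper12: M. Hall's theorem `n_5 ≠ 21`, part C: coordinates `Fin 4 × ZMod 5` on the 20 Sylow
5-subgroups other than `P` (when `|P| = 5`).
-/

set_option autoImplicit false

open Subgroup MulAction
open scoped Pointwise
namespace Cfsg.Agent.Lib.Helper12.Hall21
universe u
attribute [local instance] fact5
variable {G : Type u} [Group G] [Finite G]

/-- The Sylow 5-subgroups other than `P`. -/
abbrev Others (P : Sylow 5 G) := {Q : Sylow 5 G // Q ≠ P}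

omit [Finite G] in
theorem smul_ne_of_mem_normalizer (P Q : Sylow 5 G) (hQ : Q ≠ P) (h : G)
    (hh : h ∈ normalizer ((P : Subgroup G) : Set G)) : h • Q ≠ P := by
  intro hq
  have : h • P = P := smul_eq_iff.mpr hh
  exact hQ (smul_left_cancel h (hq.trans this.symm))

instance othersAction (P : Sylow 5 G) :
    MulAction ↥(normalizer ((P : Subgroup G) : Set G)) (Others P) where
  smul h Q := ⟨(h : G) • (Q : Sylow 5 G), smul_ne_of_mem_normalizer P Q Q.2 h h.2⟩
  one_smul Q := Subtype.ext (one_smul G (Q : Sylow 5 G))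
  mul_smul h h' Q := Subtype.ext (mul_smul (h : G) (h' : G) (Q : Sylow 5 G))

omit [Finite G] in
@[simp] theorem coe_others_smul (P : Sylow 5 G) (h : ↥(normalizer ((P : Subgroup G) : Set G)))
    (Q : Others P) : ((h • Q : Others P) : Sylow 5 G) = (h : G) • (Q : Sylow 5 G) := rfl

/-- distinct Sylow subgroups of order 5 meet trivially, so a power of a generator of `P` fixing
another Sylow subgroup is trivial -/
theorem pow_smul_eq_iff (h21 : Nat.card (Sylow 5 G) = 21) (P Q : Sylow 5 G) (hP : Nat.card P = 5)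
    (hQ : Q ≠ P) (x : G) (hx : x ∈ (P : Subgroup G)) (hx5 : orderOf x = 5) (n : ℕ) :
    x ^ n • Q = Q ↔ 5 ∣ n := by
  constructor
  · intro h
    have h1 : x ^ n ∈ (P : Subgroup G) ⊓ normalizer ((Q : Subgroup G) : Set G) :=
      ⟨(P : Subgroup G).pow_mem hx n, smul_eq_iff.mp h⟩
    rw [Sylow.coe_coe, P.2.inf_normalizer_sylow Q] at h1
    have h2 := card_inf_mul_five h21 P Q hQ.symm
    rw [hP] at h2
    have h3 : Nat.card ((P : Subgroup G) ⊓ Q : Subgroup G) = 1 := by omega
    rw [Subgroup.card_eq_one] at h3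
    rw [h3, Subgroup.mem_bot] at h1
    rw [← hx5]
    exact orderOf_dvd_of_pow_eq_one h1
  · rintro ⟨k, rfl⟩
    have h5 : x ^ 5 = 1 := by
      have := pow_orderOf_eq_one x
      rwa [hx5] at this
    rw [pow_mul, h5, one_pow, one_smul]


/-- Coordinates on the Sylow subgroups other than `P`. -/
structure Coords (P : Sylow 5 G) (x : G) where
  e : Fin 4 × ZMod 5 ≃ Others P
  he : ∀ j i, x • ((e (j, i) : Others P) : Sylow 5 G) = ((e (j, i + 1) : Others P) : Sylow 5 G)

theorem exists_coords (h21 : Nat.card (Sylow 5 G) = 21) (P : Sylow 5 G) (hP : Nat.card P = 5)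
    (x : G) (hx : x ∈ (P : Subgroup G)) (hx5 : orderOf x = 5) : Nonempty (Coords P x) := by
  classical
  have : Fintype (Sylow 5 G) := Fintype.ofFinite _
  let xH : ↥(normalizer ((P : Subgroup G) : Set G)) := ⟨x, Subgroup.le_normalizer hx⟩
  have hxH5 : orderOf xH = 5 := by
    have h0 : orderOf xH = orderOf x := Subgroup.orderOf_mk x _
    rw [h0, hx5]
  have hx51 : x ^ 5 = 1 := by
    have := pow_orderOf_eq_one x
    rwa [hx5] at this
  -- freeness
  have hfree : ∀ (Q : Others P) (n : ℕ), (xH ^ n) • Q = Q ↔ 5 ∣ n := by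
    intro Q n
    rw [← pow_smul_eq_iff h21 P Q hP Q.2 x hx hx5 n]
    constructor
    · intro h; exact congrArg Subtype.val h
    · intro h; exact Subtype.ext h
  let Z : Subgroup ↥(normalizer ((P : Subgroup G) : Set G)) := zpowers xH
  have hZcard : Nat.card Z = 5 := by rw [Nat.card_zpowers, hxH5]
  have hZmem : ∀ g : Z, ∃ n : ℕ, (g : ↥(normalizer ((P : Subgroup G) : Set G))) = xH ^ n := by
    intro g
    have h1 : (g : ↥(normalizer ((P : Subgroup G) : Set G))) ∈ zpowers xH := g.2
    rw [← mem_powers_iff_mem_zpowers] at h1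
    obtain ⟨n, hn⟩ := h1
    exact ⟨n, hn.symm⟩
  have hstab : ∀ Q : Others P, stabilizer Z Q = ⊥ := by
    intro Q
    rw [eq_bot_iff]
    intro g hg
    rw [mem_stabilizer_iff] at hg
    obtain ⟨n, hn⟩ := hZmem g
    have h1 : (xH ^ n) • Q = Q := by rw [← hn]; exact hg
    rw [hfree] at h1
    obtain ⟨k, rfl⟩ := h1
    rw [Subgroup.mem_bot]
    apply Subtype.ext
    have hxH51 : xH ^ 5 = 1 := Subtype.ext hx51
    rw [hn, pow_mul, hxH51, one_pow]
    rfl
  let B' := orbitRel.Quotient Z (Others P)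
  have hXcard : Nat.card (Others P) = 20 := by
    have h1 : Nat.card (Others P) = Nat.card (Sylow 5 G) - 1 := by
      have : Nat.card (Others P) = Nat.card ({P}ᶜ : Set (Sylow 5 G)) := by
        apply Nat.card_congr
        exact Equiv.subtypeEquivRight (by intro Q; simp)
      rw [this, Nat.card_coe_set_eq, Set.ncard_compl, Set.ncard_singleton]
    rw [h1, h21]
  have hBcard : Nat.card B' = 4 := by
    have h1 := Nat.card_congr (MulAction.selfEquivOrbitsQuotientProd hstab)
    rw [Nat.card_prod, hXcard, hZcard] at h1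
    have : Nat.card B' = Nat.card (Quotient (orbitRel Z (Others P))) := rfl
    omega
  have : Fintype B' := Fintype.ofFinite _
  have eqv : B' ≃ Fin 4 := Fintype.equivFinOfCardEq (by rw [← Nat.card_eq_fintype_card, hBcard])
  let f : Fin 4 × ZMod 5 → Others P := fun ji => (xH ^ ji.2.val) • (Quotient.out (eqv.symm ji.1))
  have hfinj : Function.Injective f := by
    rintro ⟨j, i⟩ ⟨j', i'⟩ hji
    simp only [f] at hji
    -- same orbit
    have h1 : (Quotient.mk'' (Quotient.out (eqv.symm j)) : B') =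
        Quotient.mk'' (Quotient.out (eqv.symm j')) := by
      rw [Quotient.eq'', orbitRel_apply]
      refine ⟨⟨(xH ^ i.val)⁻¹ * xH ^ i'.val, Z.mul_mem (Z.inv_mem (Z.pow_mem (mem_zpowers xH) _))
        (Z.pow_mem (mem_zpowers xH) _)⟩, ?_⟩
      show ((xH ^ i.val)⁻¹ * xH ^ i'.val) • (Quotient.out (eqv.symm j')) = Quotient.out (eqv.symm j)
      rw [mul_smul, ← hji, inv_smul_smul]
    rw [Quotient.out_eq', Quotient.out_eq'] at h1
    have hj : j = j' := eqv.symm.injective h1
    subst hj
    -- now the exponents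
    have h2 : (xH ^ (i.val + 4 * i'.val)) • (Quotient.out (eqv.symm j)) = Quotient.out (eqv.symm j) := by
      have h3 : (xH ^ (5 * i'.val)) • (Quotient.out (eqv.symm j)) = Quotient.out (eqv.symm j) :=
        (hfree _ _).mpr (Dvd.intro _ rfl)
      have h4 : (xH ^ (4 * i'.val)) • (xH ^ i.val) • (Quotient.out (eqv.symm j)) =
          (xH ^ (4 * i'.val)) • (xH ^ i'.val) • (Quotient.out (eqv.symm j)) := by rw [hji]
      rw [← mul_smul, ← mul_smul, ← pow_add, ← pow_add] at h4
      have : 4 * i'.val + i'.val = 5 * i'.val := by ring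
      rw [this, h3, add_comm] at h4
      exact h4
    rw [hfree] at h2
    have hi : i = i' := by
      have hv := ZMod.val_lt i
      have hv' := ZMod.val_lt i'
      have : i.val = i'.val := by omega
      exact ZMod.val_injective 5 this
    rw [hi]
  have hfbij : Function.Bijective f := by
    rw [Fintype.bijective_iff_injective_and_card]
    refine ⟨hfinj, ?_⟩
    rw [← Nat.card_eq_fintype_card, ← Nat.card_eq_fintype_card, hXcard, Nat.card_prod]
    simp
  refine ⟨⟨Equiv.ofBijective f hfbij, ?_⟩⟩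
  intro j i
  show x • (((xH ^ i.val) • (Quotient.out (eqv.symm j)) : Others P) : Sylow 5 G) =
    (((xH ^ (i + 1).val) • (Quotient.out (eqv.symm j)) : Others P) : Sylow 5 G)
  rw [coe_others_smul, coe_others_smul, ← mul_smul]
  have h1 : ((xH ^ i.val : ↥(normalizer ((P : Subgroup G) : Set G))) : G) = x ^ i.val := rfl
  have h2 : ((xH ^ (i + 1).val : ↥(normalizer ((P : Subgroup G) : Set G))) : G) = x ^ (i + 1).val := rfl
  rw [h1, h2, ← pow_succ']
  congr 1
  have h3 : (i + 1).val = (i.val + 1) % 5 := by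
    rw [ZMod.val_add]; rfl
  rw [h3]
  have h4 := pow_mod_orderOf x (i.val + 1)
  rw [hx5] at h4
  exact h4.symm

end Cfsg.Agent.Lib.Helper12.Hall21
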