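import Mathlib
import Cfsg.Agent.Lib.Helper12.Hall21C

/-!
helper12: M. Hall's theorem `n_5 ≠ 21`, part D: the action of `N(P)` in coordinates, the
induced action `rho` on the four blocks, and the parity lemma `sign (rho h) = 1`.
-/

set_option autoImplicit false

open Subgroup MulAction
open scoped Pointwise
namespace Cfsg.Agent.Lib.Helper12.Hall21
universe u
attribute [local instance] fact5
variable {G : Type u} [Group G] [Finite G]

namespace Coords

variable {P : Sylow 5 G} {x : G} (c : Coords P x)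

omit [Finite G] in
theorem pow_smul (n : ℕ) (j : Fin 4) (i : ZMod 5) :
    x ^ n • ((c.e (j, i) : Others P) : Sylow 5 G) = ((c.e (j, i + n) : Others P) : Sylow 5 G) := by
  induction n with
  | zero => simp
  | succ n ih =>
    rw [pow_succ', mul_smul, ih, c.he]
    congr 3
    push_cast
    ring

/-- the action of `N(P)` in coordinates -/
noncomputable def permF : ↥(normalizer ((P : Subgroup G) : Set G)) →* Equiv.Perm (Fin 4 × ZMod 5) :=
  (Equiv.permCongrHom c.e.symm).toMonoidHom.comp (MulAction.toPermHom _ (Others P))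

omit [Finite G] in
theorem permF_apply (h : ↥(normalizer ((P : Subgroup G) : Set G))) (ji : Fin 4 × ZMod 5) :
    c.permF h ji = c.e.symm (h • c.e ji) := by
  simp [permF, Equiv.permCongrHom]

omit [Finite G] in
theorem e_permF (h : ↥(normalizer ((P : Subgroup G) : Set G))) (ji : Fin 4 × ZMod 5) :
    ((c.e (c.permF h ji) : Others P) : Sylow 5 G) = (h : G) • ((c.e ji : Others P) : Sylow 5 G) := by
  rw [permF_apply, Equiv.apply_symm_apply]; rfl

omit [Finite G] in
/-- the basic step: conjugation relation gives the translation rule -/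
theorem permF_succ (h : ↥(normalizer ((P : Subgroup G) : Set G))) (n : ℕ)
    (hn : (h : G) * x * (h : G)⁻¹ = x ^ n) (j : Fin 4) (i : ZMod 5) :
    c.permF h (j, i + 1) = ((c.permF h (j, i)).1, (c.permF h (j, i)).2 + n) := by
  apply c.e.injective
  apply Subtype.ext
  rw [e_permF, ← c.he, ← mul_smul]
  have h1 : (h : G) * x = x ^ n * (h : G) := by rw [← hn]; group
  rw [h1, mul_smul, ← e_permF, ← pow_smul]

omit [Finite G] in
theorem permF_nat (h : ↥(normalizer ((P : Subgroup G) : Set G))) (n : ℕ)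
    (hn : (h : G) * x * (h : G)⁻¹ = x ^ n) (j : Fin 4) (k : ℕ) :
    c.permF h (j, (k : ZMod 5)) = ((c.permF h (j, 0)).1, (c.permF h (j, 0)).2 + n * k) := by
  induction k with
  | zero => simp
  | succ k ih =>
    push_cast
    rw [permF_succ c h n hn, ih]
    simp only [Prod.mk.injEq, true_and]
    ring

omit [Finite G] in
theorem permF_eq (h : ↥(normalizer ((P : Subgroup G) : Set G))) (n : ℕ)
    (hn : (h : G) * x * (h : G)⁻¹ = x ^ n) (j : Fin 4) (i : ZMod 5) :
    c.permF h (j, i) = ((c.permF h (j, 0)).1, (n : ZMod 5) * i + (c.permF h (j, 0)).2) := by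
  have := permF_nat c h n hn j i.val
  rw [ZMod.natCast_zmod_val] at this
  rw [this, add_comm]

end Coords


theorem zpowers_eq_of_card (P : Sylow 5 G) (hP : Nat.card P = 5) (x : G) (hx : x ∈ (P : Subgroup G))
    (hx5 : orderOf x = 5) : zpowers x = (P : Subgroup G) := by
  apply Subgroup.eq_of_le_of_card_ge
  · rw [zpowers_le]; exact hx
  · rw [Nat.card_zpowers, hx5, hP]

theorem exists_conj_pow (P : Sylow 5 G) (hP : Nat.card P = 5) (x : G) (hx : x ∈ (P : Subgroup G))
    (hx5 : orderOf x = 5) (h : G) (hh : h ∈ normalizer ((P : Subgroup G) : Set G)) :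
    ∃ n : ℕ, ¬ 5 ∣ n ∧ h * x * h⁻¹ = x ^ n := by
  have h1 : h * x * h⁻¹ ∈ (P : Subgroup G) := (Subgroup.mem_normalizer_iff.mp hh x).mp hx
  rw [← zpowers_eq_of_card P hP x hx hx5, ← mem_powers_iff_mem_zpowers] at h1
  obtain ⟨n, hn⟩ := h1
  refine ⟨n, ?_, hn.symm⟩
  rintro ⟨k, rfl⟩
  have h5 : x ^ 5 = 1 := by
    have := pow_orderOf_eq_one x
    rwa [hx5] at this
  have hn' : x ^ (5 * k) = h * x * h⁻¹ := hn
  rw [pow_mul, h5, one_pow] at hn'
  have h2 : x = 1 := by
    have : h⁻¹ * (h * x * h⁻¹) * h = x := by group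
    rw [← this, ← hn']; group
  rw [h2, orderOf_one] at hx5
  omega

/-- The configuration: a minimal counterexample with a chosen Sylow subgroup of order 5,
a generator, and coordinates. -/
structure Cfg (G : Type u) [Group G] [Finite G] where
  hmin : MinCE G
  P : Sylow 5 G
  hP : Nat.card P = 5
  x : G
  hx : x ∈ (P : Subgroup G)
  hx5 : orderOf x = 5
  c : Coords P x

namespace Cfg

variable (S : Cfg G)

/-- the normalizer of `P` -/
abbrev N : Subgroup G := normalizer ((S.P : Subgroup G) : Set G)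

theorem x_pow_five : S.x ^ 5 = 1 := by
  have := pow_orderOf_eq_one S.x
  rwa [S.hx5] at this

theorem conj_pow (h : ↥S.N) : ∃ n : ℕ, ¬ 5 ∣ n ∧ (h : G) * S.x * (h : G)⁻¹ = S.x ^ n :=
  exists_conj_pow S.P S.hP S.x S.hx S.hx5 h h.2

/-- action on the four blocks, as a function -/
noncomputable def rhoFun (h : ↥S.N) : Function.End (Fin 4) := fun j => (S.c.permF h (j, 0)).1

theorem rho_spec (h : ↥S.N) (j : Fin 4) (i : ZMod 5) : (S.c.permF h (j, i)).1 = S.rhoFun h j := by
  obtain ⟨n, -, hn⟩ := S.conj_pow h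
  rw [Coords.permF_eq S.c h n hn j i]
  rfl

/-- action on the four blocks -/
noncomputable def rho : ↥S.N →* Equiv.Perm (Fin 4) :=
  MonoidHom.toHomPerm
    { toFun := S.rhoFun
      map_one' := by
        funext j
        simp [rhoFun]
        rfl
      map_mul' := by
        intro h h'
        funext j
        show (S.c.permF (h * h') (j, 0)).1 = S.rhoFun h (S.rhoFun h' j)
        rw [map_mul, Equiv.Perm.mul_apply]
        have : S.c.permF h' (j, 0) = ((S.c.permF h' (j, 0)).1, (S.c.permF h' (j, 0)).2) := rfl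
        rw [this, rho_spec]
        rfl }

theorem rho_apply (h : ↥S.N) (j : Fin 4) (i : ZMod 5) : (S.c.permF h (j, i)).1 = S.rho h j := by
  rw [rho_spec]
  rfl

/-- full coordinate description of the action of `h ∈ N(P)` -/
theorem coords (h : ↥S.N) : ∃ (a : (ZMod 5)ˣ) (cc : Fin 4 → ZMod 5),
    (∀ j i, S.c.permF h (j, i) = (S.rho h j, (a : ZMod 5) * i + cc j)) ∧
    (h : G) * S.x * (h : G)⁻¹ = S.x ^ (a : ZMod 5).val := by
  obtain ⟨n, hn5, hn⟩ := S.conj_pow h
  have hn0 : (n : ZMod 5) ≠ 0 := by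
    rw [Ne, ZMod.natCast_eq_zero_iff]; exact hn5
  refine ⟨Units.mk0 (n : ZMod 5) hn0, fun j => (S.c.permF h (j, 0)).2, ?_, ?_⟩
  · intro j i
    rw [Coords.permF_eq S.c h n hn j i, Units.val_mk0]
    congr 1
  · rw [Units.val_mk0, ZMod.val_natCast, hn]
    have := pow_mod_orderOf S.x n
    rw [S.hx5] at this
    exact this.symm


theorem sign_permF (h : ↥S.N) : Equiv.Perm.sign (S.c.permF h) = 1 := by
  classical
  have : Fintype (Sylow 5 G) := Fintype.ofFinite _
  have h1 : S.c.permF h = S.c.e.symm.permCongr (MulAction.toPerm h : Equiv.Perm (Others S.P)) := rfl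
  rw [h1, Equiv.Perm.sign_permCongr]
  have h2 : (MulAction.toPerm h : Equiv.Perm (Others S.P)) =
      Equiv.Perm.subtypePerm (MulAction.toPerm (h : G) : Equiv.Perm (Sylow 5 G))
        (p := fun Q => Q ≠ S.P) (by
          intro Q
          have hP : (h : G) • S.P = S.P := smul_eq_iff.mpr h.2
          simp only [MulAction.toPerm_apply, ne_eq]
          constructor
          · intro h3 h4; rw [h4] at h3; exact h3 hP
          · intro h3 h4; exact h3 (smul_left_cancel (h : G) (h4.trans hP.symm))) := by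
    ext Q
    rfl
  rw [h2, Equiv.Perm.sign_subtypePerm]
  · exact sign_eq_one S.hmin (h : G)
  · intro Q hQ hQP
    apply hQ
    rw [hQP]
    exact smul_eq_iff.mpr h.2

theorem sign_rho (h : ↥S.N) : Equiv.Perm.sign (S.rho h) = 1 := by
  obtain ⟨a, cc, hform, -⟩ := S.coords h
  rw [← sign_of_coords (S.c.permF h) (S.rho h) a cc hform]
  exact S.sign_permF h

/-- faithfulness in coordinates -/
theorem eq_one_of_permF (h : ↥S.N) (hh : ∀ ji, S.c.permF h ji = ji) : h = 1 := by
  apply Subtype.ext
  apply eq_one_of_smul_eq S.hmin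
  intro Q
  by_cases hQ : Q = S.P
  · rw [hQ]; exact smul_eq_iff.mpr h.2
  · have h1 := Coords.e_permF S.c h (S.c.e.symm ⟨Q, hQ⟩)
    rw [hh, Equiv.apply_symm_apply] at h1
    exact h1.symm

end Cfg

end Cfsg.Agent.Lib.Helper12.Hall21
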