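import Mathlib
import Cfsg.Agent.Lib.Helper12.Hall21D

/-!
helper12: M. Hall's theorem `n_5 ≠ 21`, part E: involutions in `N(P)`.
-/

set_option autoImplicit false

open Subgroup MulAction
open scoped Pointwise
namespace Cfsg.Agent.Lib.Helper12.Hall21
universe u
attribute [local instance] fact5
variable {G : Type u} [Group G] [Finite G]

theorem zmod5_sq_one : ∀ a : ZMod 5, a * a = 1 → a = 1 ∨ a = 4 := by decide
theorem zmod5_double : ∀ c : ZMod 5, c + c = 0 → c = 0 := by decide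

namespace Cfg

variable (S : Cfg G)


theorem mem_P_of_pow_five (g : G) (hg : g ∈ S.N) (h5 : g ^ 5 = 1) : g ∈ (S.P : Subgroup G) := by
  have hA : IsPGroup 5 (zpowers g) := by
    rintro ⟨a, ha⟩
    refine ⟨1, ?_⟩
    obtain ⟨n, rfl⟩ := mem_zpowers_iff.mp ha
    apply Subtype.ext
    show (g ^ n) ^ 5 ^ 1 = 1
    rw [pow_one, ← zpow_natCast, ← zpow_mul, mul_comm, zpow_mul, zpow_natCast, h5, one_zpow]
  have h1 := hA.inf_normalizer_sylow S.P
  have h2 : g ∈ zpowers g ⊓ normalizer ((S.P : Subgroup G) : Set G) := ⟨mem_zpowers g, hg⟩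
  rw [Sylow.coe_coe, h1] at h2
  exact h2.2

/-- `P` consists of the powers of `x`. -/
theorem mem_P_iff (g : G) : g ∈ (S.P : Subgroup G) ↔ ∃ n : ℕ, g = S.x ^ n := by
  rw [← zpowers_eq_of_card S.P S.hP S.x S.hx S.hx5, ← mem_powers_iff_mem_zpowers]
  constructor
  · rintro ⟨n, hn⟩; exact ⟨n, hn.symm⟩
  · rintro ⟨n, hn⟩; exact ⟨n, hn.symm⟩

/-- A point other than `P` fixed by `h` gives a fixed block. -/
theorem rho_fixed_of_fixed (h : ↥S.N) (Q : Sylow 5 G) (hQ : Q ≠ S.P) (hf : (h : G) • Q = Q) :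
    S.rho h (S.c.e.symm ⟨Q, hQ⟩).1 = (S.c.e.symm ⟨Q, hQ⟩).1 := by
  rw [← S.rho_apply h _ (S.c.e.symm ⟨Q, hQ⟩).2]
  have h1 : S.c.permF h (S.c.e.symm ⟨Q, hQ⟩) = S.c.e.symm ⟨Q, hQ⟩ := by
    apply S.c.e.injective
    apply Subtype.ext
    rw [Coords.e_permF, Equiv.apply_symm_apply]
    exact hf
  have h2 : ((S.c.e.symm ⟨Q, hQ⟩).1, (S.c.e.symm ⟨Q, hQ⟩).2) = S.c.e.symm ⟨Q, hQ⟩ := rfl
  rw [h2, h1]

/-- An involution acting nontrivially on the blocks fixes only `P`. -/
theorem fixed_eq_of_rho_ne (u : ↥S.N) (hu : u * u = 1) (hr : S.rho u ≠ 1) (Q : Sylow 5 G)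
    (hf : (u : G) • Q = Q) : Q = S.P := by
  by_contra hQ
  have h1 := S.rho_fixed_of_fixed u Q hQ hf
  have h2 : S.rho u * S.rho u = 1 := by rw [← map_mul, hu, map_one]
  exact fin4_invol_even_fpf (S.rho u) h2 hr (S.sign_rho u) _ h1


/-- An involution acting trivially on the blocks inverts `x` and acts as a reflection on each
block. -/
theorem invol_rho_one (t : ↥S.N) (ht1 : t ≠ 1) (ht : t * t = 1) (hr : S.rho t = 1) :
    ∃ cc : Fin 4 → ZMod 5, (∀ j i, S.c.permF t (j, i) = (j, -i + cc j)) ∧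
      (t : G) * S.x * (t : G)⁻¹ = S.x ^ 4 := by
  obtain ⟨a, cc, hform, hconj⟩ := S.coords t
  have hform' : ∀ j i, S.c.permF t (j, i) = (j, (a : ZMod 5) * i + cc j) := by
    intro j i
    rw [hform, hr]; rfl
  have hsq : ∀ j i, S.c.permF t (S.c.permF t (j, i)) = (j, i) := by
    intro j i
    rw [← Equiv.Perm.mul_apply, ← map_mul, ht, map_one]; rfl
  have h0 : ∀ j, (a : ZMod 5) * cc j + cc j = 0 := by
    intro j
    have := hsq j 0
    rw [hform', hform'] at this
    have := (Prod.mk.injEq _ _ _ _).mp this |>.2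
    simpa using this
  have h1 : (a : ZMod 5) * a = 1 := by
    have := hsq 0 1
    rw [hform', hform'] at this
    have h2 := (Prod.mk.injEq _ _ _ _).mp this |>.2
    have h3 := h0 0
    have : (a : ZMod 5) * ((a : ZMod 5) * 1 + cc 0) + cc 0 = (a : ZMod 5) * a + ((a : ZMod 5) * cc 0 + cc 0) := by
      ring
    rw [this, h3, add_zero] at h2
    exact h2
  rcases zmod5_sq_one _ h1 with ha | ha
  · exfalso
    apply ht1
    apply S.eq_one_of_permF
    rintro ⟨j, i⟩
    rw [hform', ha]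
    have := h0 j
    rw [ha, one_mul] at this
    rw [zmod5_double _ this]
    simp
  · refine ⟨cc, ?_, ?_⟩
    · intro j i
      rw [hform', ha]
      congr 1
      have : (4 : ZMod 5) = -1 := by decide
      rw [this]; ring
    · rw [hconj, ha]; rfl



omit [Finite G] in
theorem conj_pow_of_conj (g x : G) (n : ℕ) (h : g * x * g⁻¹ = x ^ n) (k : ℕ) :
    g * x ^ k * g⁻¹ = x ^ (n * k) := by
  have : g * x ^ k * g⁻¹ = (g * x * g⁻¹) ^ k := by
    rw [_root_.conj_pow]
  rw [this, h, pow_mul]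

/-- Two involutions acting trivially on the blocks are conjugate under a power of `x`. -/
theorem invol_conj (t t' : ↥S.N) (ht1 : t ≠ 1) (ht : t * t = 1) (hr : S.rho t = 1)
    (ht1' : t' ≠ 1) (ht' : t' * t' = 1) (hr' : S.rho t' = 1) :
    ∃ k : ℕ, (t' : G) = S.x ^ k * (t : G) * (S.x ^ k)⁻¹ := by
  obtain ⟨cc, hform, hconj⟩ := S.invol_rho_one t ht1 ht hr
  obtain ⟨cc', hform', hconj'⟩ := S.invol_rho_one t' ht1' ht' hr'
  have hx5 := S.x_pow_five
  -- w = t t' centralizes x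
  have hw : ((t * t' : ↥S.N) : G) * S.x * ((t * t' : ↥S.N) : G)⁻¹ = S.x := by
    have h1 : ((t * t' : ↥S.N) : G) * S.x * ((t * t' : ↥S.N) : G)⁻¹ =
        (t : G) * ((t' : G) * S.x * (t' : G)⁻¹) * (t : G)⁻¹ := by
      push_cast; group
    rw [h1, hconj', conj_pow_of_conj (t : G) S.x 4 hconj 4]
    have : S.x ^ (4 * 4) = (S.x ^ 5) ^ 3 * S.x := by rw [← pow_mul, ← pow_succ]
    rw [this, hx5, one_pow, one_mul]
  -- w acts by translations
  have hwform : ∀ (n : ℕ) j i, S.c.permF ((t * t') ^ n) (j, i) = (j, i + n * (cc j - cc' j)) := by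
    intro n
    induction n with
    | zero => intro j i; simp
    | succ n ih =>
      intro j i
      rw [pow_succ, map_mul, Equiv.Perm.mul_apply, map_mul, Equiv.Perm.mul_apply, hform', hform, ih]
      congr 1
      push_cast
      ring
  have hw5 : (t * t') ^ 5 = 1 := by
    apply S.eq_one_of_permF
    rintro ⟨j, i⟩
    rw [hwform]
    congr 1
    have : ((5 : ℕ) : ZMod 5) = 0 := by decide
    rw [this, zero_mul, add_zero]
  have hwP : ((t * t' : ↥S.N) : G) ∈ (S.P : Subgroup G) := by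
    apply S.mem_P_of_pow_five _ (t * t').2
    have := congrArg (fun g : ↥S.N => (g : G)) hw5
    simpa using this
  obtain ⟨m, hm⟩ := (S.mem_P_iff _).mp hwP
  have hm' : (t : G) * (t' : G) = S.x ^ m := by rw [← hm]; rfl
  have htt : (t : G) * (t : G) = 1 := by
    have := congrArg (fun g : ↥S.N => (g : G)) ht
    simpa using this
  have htinv : (t : G)⁻¹ = (t : G) := inv_eq_of_mul_eq_one_left htt
  -- t' = t x^m
  have h2 : (t' : G) = (t : G) * S.x ^ m := by
    rw [← hm', ← mul_assoc, htt, one_mul]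
  refine ⟨2 * m, ?_⟩
  -- x^k t = t x^{4k}
  have h3 : ∀ k : ℕ, S.x ^ k * (t : G) = (t : G) * S.x ^ (4 * k) := by
    intro k
    have := conj_pow_of_conj (t : G) S.x 4 hconj k
    rw [htinv] at this
    calc S.x ^ k * (t : G) = (t : G) * ((t : G) * S.x ^ k * (t : G)) := by
          rw [← mul_assoc, ← mul_assoc, htt, one_mul]
      _ = _ := by rw [this]
  rw [h2, h3, mul_assoc]
  congr 1
  rw [eq_mul_inv_iff_mul_eq, ← pow_add]
  have : 4 * (2 * m) = m + 2 * m + 5 * m := by ring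
  rw [this, pow_add _ _ (5 * m), pow_mul _ 5, hx5, one_pow, mul_one]

end Cfg

end Cfsg.Agent.Lib.Helper12.Hall21
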