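import Mathlib
import Cfsg.Agent.Lib.Helper12.Hall21E

/-!
helper12: M. Hall's theorem `n_5 ≠ 21`, part F: no involution of `N(P)` acts trivially on the
four blocks.
-/

set_option autoImplicit false

open Subgroup MulAction
open scoped Pointwise
namespace Cfsg.Agent.Lib.Helper12.Hall21
universe u
attribute [local instance] fact5
variable {G : Type u} [Group G] [Finite G]

theorem zmod5_refl_fix : ∀ i c : ZMod 5, -i + c = i → i = 3 * c := by decide
theorem zmod5_refl_fix' : ∀ c : ZMod 5, -(3 * c) + c = 3 * c := by decide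

namespace Cfg

variable (S : Cfg G)

/-- the set of fixed points of an involution acting trivially on the blocks has 5 elements -/
theorem ncard_fixed_of_rho_one (t : ↥S.N) (ht1 : t ≠ 1) (ht : t * t = 1) (hr : S.rho t = 1) :
    ({Q : Sylow 5 G | (t : G) • Q = Q} : Set (Sylow 5 G)).ncard = 5 := by
  obtain ⟨cc, hform, -⟩ := S.invol_rho_one t ht1 ht hr
  let f : Fin 4 → Sylow 5 G := fun j => ((S.c.e (j, 3 * cc j) : Others S.P) : Sylow 5 G)
  have hf : Function.Injective f := by
    intro j j' hjj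
    have := S.c.e.injective (Subtype.ext hjj)
    exact (Prod.mk.injEq _ _ _ _).mp this |>.1
  have hset : ({Q : Sylow 5 G | (t : G) • Q = Q} : Set (Sylow 5 G)) = insert S.P (Set.range f) := by
    ext Q
    simp only [Set.mem_ofPred_eq, Set.mem_insert_iff, Set.mem_range]
    constructor
    · intro hQ
      by_cases hQP : Q = S.P
      · exact Or.inl hQP
      · right
        have h1 : S.c.permF t (S.c.e.symm ⟨Q, hQP⟩) = S.c.e.symm ⟨Q, hQP⟩ := by
          apply S.c.e.injective
          apply Subtype.ext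
          rw [Coords.e_permF, Equiv.apply_symm_apply]
          exact hQ
        obtain ⟨⟨j, i⟩, hji⟩ : ∃ ji, ji = S.c.e.symm ⟨Q, hQP⟩ := ⟨_, rfl⟩
        rw [← hji, hform] at h1
        have h2 := (Prod.mk.injEq _ _ _ _).mp h1 |>.2
        have h3 := zmod5_refl_fix i (cc j) h2
        refine ⟨j, ?_⟩
        show ((S.c.e (j, 3 * cc j) : Others S.P) : Sylow 5 G) = Q
        rw [← h3, hji, Equiv.apply_symm_apply]
    · rintro (rfl | ⟨j, rfl⟩)
      · exact smul_eq_iff.mpr t.2
      · show (t : G) • ((S.c.e (j, 3 * cc j) : Others S.P) : Sylow 5 G) = _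
        rw [← Coords.e_permF, hform, zmod5_refl_fix']
  rw [hset, Set.ncard_insert_of_notMem, Set.ncard_range_of_injective hf]
  · simp
  · rintro ⟨j, hj⟩
    exact (S.c.e (j, 3 * cc j)).2 hj


/-- conjugating an element of `N(P)` -/
theorem smul_P_of_mem_N (g : G) (hg : g ∈ S.N) : g • S.P = S.P := smul_eq_iff.mpr hg

/-- **Key step**: no involution of `N(P)` acts trivially on the four blocks. -/
theorem no_invol_rho_one (t : ↥S.N) (ht1 : t ≠ 1) (ht : t * t = 1) (hr : S.rho t = 1) : False := by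
  obtain ⟨cc, hform, hconj⟩ := S.invol_rho_one t ht1 ht hr
  have hx5 := S.x_pow_five
  have htt : (t : G) * (t : G) = 1 := by
    have := congrArg (fun g : ↥S.N => (g : G)) ht
    simpa using this
  have htinv : (t : G)⁻¹ = (t : G) := inv_eq_of_mul_eq_one_left htt
  have ht1G : (t : G) ≠ 1 := fun h => ht1 (Subtype.ext h)
  let C : Subgroup G := centralizer {(t : G)}
  have hCmem : ∀ g : G, g ∈ C ↔ g * (t : G) = (t : G) * g := by
    intro g
    rw [Subgroup.mem_centralizer_singleton_iff]
  -- the orbit of `P` under `C` is the fixed point set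
  have horb : orbit ↥C S.P = {Q : Sylow 5 G | (t : G) • Q = Q} := by
    ext Q
    simp only [Set.mem_ofPred_eq]
    constructor
    · rintro ⟨c, rfl⟩
      show (t : G) • ((c : G) • S.P) = (c : G) • S.P
      rw [← mul_smul, ← (hCmem _).mp c.2, mul_smul, S.smul_P_of_mem_N _ t.2]
    · intro hQ
      by_cases hQP : Q = S.P
      · rw [hQP]; exact mem_orbit_self _
      · obtain ⟨g, hg⟩ := MulAction.exists_smul_eq G S.P Q
        -- t1 = g⁻¹ t g
        have ht1N : g⁻¹ * (t : G) * g ∈ S.N := by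
          rw [← smul_eq_iff, mul_smul, mul_smul, hg, hQ, ← hg, inv_smul_smul]
        let t1 : ↥S.N := ⟨g⁻¹ * (t : G) * g, ht1N⟩
        have ht1ne : t1 ≠ 1 := by
          intro h
          have h1 : g⁻¹ * (t : G) * g = 1 := congrArg Subtype.val h
          apply ht1G
          have : (t : G) = g * (g⁻¹ * (t : G) * g) * g⁻¹ := by group
          rw [this, h1]; group
        have ht1sq : t1 * t1 = 1 := by
          apply Subtype.ext
          show g⁻¹ * (t : G) * g * (g⁻¹ * (t : G) * g) = 1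
          have : g⁻¹ * (t : G) * g * (g⁻¹ * (t : G) * g) = g⁻¹ * ((t : G) * (t : G)) * g := by group
          rw [this, htt]; group
        have hQ' : g⁻¹ • S.P ≠ S.P := by
          intro h
          apply hQP
          calc Q = g • S.P := hg.symm
            _ = g • (g⁻¹ • S.P) := by rw [h]
            _ = S.P := smul_inv_smul g S.P
        have hfix1 : (t1 : G) • (g⁻¹ • S.P) = g⁻¹ • S.P := by
          show (g⁻¹ * (t : G) * g) • (g⁻¹ • S.P) = g⁻¹ • S.P
          rw [mul_smul, smul_inv_smul, mul_smul, S.smul_P_of_mem_N _ t.2]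
        have hr1 : S.rho t1 = 1 := by
          by_contra hne
          exact hQ' (S.fixed_eq_of_rho_ne t1 ht1sq hne _ hfix1)
        obtain ⟨k, hk⟩ := S.invol_conj t t1 ht1 ht hr ht1ne ht1sq hr1
        have hk' : g⁻¹ * (t : G) * g = S.x ^ k * (t : G) * (S.x ^ k)⁻¹ := hk
        have hc : g * S.x ^ k ∈ C := by
          rw [hCmem]
          have : (t : G) * (g * S.x ^ k) = g * (g⁻¹ * (t : G) * g) * S.x ^ k := by group
          rw [this, hk']; group
        refine ⟨⟨g * S.x ^ k, hc⟩, ?_⟩
        show (g * S.x ^ k) • S.P = Q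
        rw [mul_smul, S.smul_P_of_mem_N _ (Subgroup.le_normalizer ((S.P : Subgroup G).pow_mem S.hx k)), hg]
  -- so 5 divides |C|
  have h5C : 5 ∣ Nat.card C := by
    have h1 : (stabilizer ↥C S.P).index = 5 := by
      rw [index_stabilizer, horb, S.ncard_fixed_of_rho_one t ht1 ht hr]
    rw [← h1]
    exact Subgroup.index_dvd_card _
  obtain ⟨y, hy⟩ := exists_prime_orderOf_dvd_card' 5 h5C
  have hyG : orderOf (y : G) = 5 := by rw [Subgroup.orderOf_coe]; exact hy
  have hyt : (y : G) * (t : G) = (t : G) * (y : G) := (hCmem _).mp y.2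
  -- the Sylow subgroup generated by y
  have hpg : IsPGroup 5 (zpowers (y : G)) := by
    apply IsPGroup.of_card (n := 1)
    rw [Nat.card_zpowers, hyG, pow_one]
  obtain ⟨Q, hQ⟩ := hpg.exists_le_sylow
  have hQcard : Nat.card (Q : Subgroup G) = 5 := by
    have h1 := Sylow.card_eq_multiplicity Q
    have h2 := Sylow.card_eq_multiplicity S.P
    rw [h1, ← h2]; exact S.hP
  have hQeq : zpowers (y : G) = (Q : Subgroup G) := by
    apply Subgroup.eq_of_le_of_card_ge hQ
    rw [Nat.card_zpowers, hyG, hQcard]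
  -- t fixes Q
  have htQ : (t : G) • Q = Q := by
    rw [smul_eq_iff]
    apply Subgroup.centralizer_le_normalizer
    rw [← hQeq, Subgroup.mem_centralizer_iff]
    intro g hg
    obtain ⟨n, rfl⟩ := mem_zpowers_iff.mp hg
    exact ((Commute.zpow_left (show Commute (y : G) (t : G) from hyt) n)).eq
  have hQorb : Q ∈ orbit ↥C S.P := by rw [horb]; exact htQ
  obtain ⟨c, hc⟩ := hQorb
  have hcQ : (c : G) • S.P = Q := hc
  -- c⁻¹ y c ∈ P
  have hyP : (c : G)⁻¹ * (y : G) * (c : G) ∈ (S.P : Subgroup G) := by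
    rw [← mem_smul_sylow_iff, hcQ]
    exact hQ (mem_zpowers _)
  obtain ⟨m, hm⟩ := (S.mem_P_iff _).mp hyP
  have hct : (c : G) * (t : G) = (t : G) * (c : G) := (hCmem _).mp c.2
  -- t commutes with x^m
  have hcomm : (t : G) * S.x ^ m * (t : G)⁻¹ = S.x ^ m := by
    rw [← hm, htinv]
    have h1 : (t : G) * (c : G)⁻¹ = (c : G)⁻¹ * (t : G) := by
      have : (c : G)⁻¹ * ((c : G) * (t : G)) * (c : G)⁻¹ = (c : G)⁻¹ * ((t : G) * (c : G)) * (c : G)⁻¹ := by
        rw [hct]
      simpa [mul_assoc] using this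
    calc (t : G) * ((c : G)⁻¹ * (y : G) * (c : G)) * (t : G)
        = ((t : G) * (c : G)⁻¹) * (y : G) * ((c : G) * (t : G)) := by group
      _ = ((c : G)⁻¹ * (t : G)) * (y : G) * ((t : G) * (c : G)) := by rw [h1, hct]
      _ = (c : G)⁻¹ * ((t : G) * (y : G)) * (t : G) * (c : G) := by group
      _ = (c : G)⁻¹ * ((y : G) * (t : G)) * (t : G) * (c : G) := by rw [hyt]
      _ = (c : G)⁻¹ * (y : G) * ((t : G) * (t : G)) * (c : G) := by group
      _ = _ := by rw [htt, mul_one]
  rw [conj_pow_of_conj (t : G) S.x 4 hconj m] at hcomm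
  -- so x^(3m) = 1
  have h3m : S.x ^ (3 * m) = 1 := by
    have : S.x ^ (4 * m) = S.x ^ (3 * m) * S.x ^ m := by rw [← pow_add]; congr 1; ring
    rw [this] at hcomm
    exact mul_eq_right.mp hcomm
  have h5m : 5 ∣ 3 * m := by
    have := orderOf_dvd_of_pow_eq_one h3m
    rwa [S.hx5] at this
  have h5m' : 5 ∣ m := (Nat.Coprime.dvd_of_dvd_mul_left (by norm_num) h5m)
  -- but c⁻¹ y c has order 5
  obtain ⟨k, rfl⟩ := h5m'
  rw [pow_mul, hx5, one_pow] at hm
  have : (y : G) = 1 := by
    have h1 : (y : G) = (c : G) * ((c : G)⁻¹ * (y : G) * (c : G)) * (c : G)⁻¹ := by group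
    rw [h1, hm]; group
  rw [this, orderOf_one] at hyG
  omega

end Cfg

end Cfsg.Agent.Lib.Helper12.Hall21
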