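import Mathlib
import Cfsg.Agent.Lib.Helper12.Hall21F

/-!
helper12: M. Hall's theorem `n_5 ≠ 21`, part G: 2-elements of `N(P)` are involutions; fusion of
involutions of `N(P)` is controlled by `N(P)`.
-/

set_option autoImplicit false

open Subgroup MulAction
open scoped Pointwise
namespace Cfsg.Agent.Lib.Helper12.Hall21
universe u
attribute [local instance] fact5
variable {G : Type u} [Group G] [Finite G]

namespace Cfg

variable (S : Cfg G)

/-- an involution of `N(P)` acts nontrivially on the blocks -/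
theorem rho_ne_one_of_invol (u : ↥S.N) (hu1 : u ≠ 1) (hu : u * u = 1) : S.rho u ≠ 1 :=
  fun hr => S.no_invol_rho_one u hu1 hu hr

/-- an involution of `N(P)` fixes no Sylow 5-subgroup other than `P` -/
theorem fixed_eq_of_invol (u : ↥S.N) (hu1 : u ≠ 1) (hu : u * u = 1) (Q : Sylow 5 G)
    (hf : (u : G) • Q = Q) : Q = S.P :=
  S.fixed_eq_of_rho_ne u hu (S.rho_ne_one_of_invol u hu1 hu) Q hf

/-- every 2-element of `N(P)` is an involution or trivial -/
theorem sq_eq_one_of_two_elt (h : ↥S.N) (k : ℕ) (hk : h ^ 2 ^ k = 1) : h * h = 1 := by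
  have h1 : S.rho h ^ 2 = 1 := by
    apply fin4_two_elt (S.rho h) (S.sign_rho h) k
    rw [← map_pow, hk, map_one]
  rw [← pow_two]
  by_contra hne
  -- g = h^2 is a nontrivial 2-element in the kernel of rho
  have hg : (h ^ 2) ^ 2 ^ k = 1 := by rw [← pow_mul, mul_comm, pow_mul, hk, one_pow]
  have hdvd : orderOf (h ^ 2) ∣ 2 ^ k := orderOf_dvd_of_pow_eq_one hg
  obtain ⟨m, _, hm⟩ := (Nat.dvd_prime_pow Nat.prime_two).mp hdvd
  have hm0 : m ≠ 0 := by
    rintro rfl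
    rw [pow_zero, orderOf_eq_one_iff] at hm
    exact hne hm
  obtain ⟨m', rfl⟩ := Nat.exists_eq_succ_of_ne_zero hm0
  apply S.no_invol_rho_one ((h ^ 2) ^ 2 ^ m')
  · apply pow_ne_one_of_lt_orderOf (by positivity)
    rw [hm]
    exact Nat.pow_lt_pow_right (by norm_num) (Nat.lt_succ_self m')
  · rw [← pow_add, ← two_mul, ← pow_succ', ← hm, pow_orderOf_eq_one]
  · rw [map_pow, map_pow, h1, one_pow]

/-- an element of `N(P)` centralizing `x` and acting trivially on the blocks has fifth power 1 -/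
theorem pow_five_of_rho_one (h : ↥S.N) (hr : S.rho h = 1)
    (hc : (h : G) * S.x * (h : G)⁻¹ = S.x) : h ^ 5 = 1 := by
  obtain ⟨a, cc, hform, hconj⟩ := S.coords h
  have ha : (a : ZMod 5) = 1 := by
    rw [hc] at hconj
    have h1 : S.x ^ 1 = S.x ^ (a : ZMod 5).val := by rw [pow_one]; exact hconj
    rw [pow_eq_pow_iff_modEq, S.hx5] at h1
    have h2 : ((1 : ℕ) : ZMod 5) = (((a : ZMod 5).val : ℕ) : ZMod 5) :=
      (ZMod.natCast_eq_natCast_iff _ _ _).mpr h1
    rw [ZMod.natCast_zmod_val] at h2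
    rw [← h2]; simp
  have hform' : ∀ (n : ℕ) j i, S.c.permF (h ^ n) (j, i) = (j, i + n * cc j) := by
    intro n
    induction n with
    | zero => intro j i; simp
    | succ n ih =>
      intro j i
      rw [pow_succ, map_mul, Equiv.Perm.mul_apply, hform, ih, hr, ha]
      simp only [Equiv.Perm.coe_one, id_eq, Prod.mk.injEq, true_and]
      push_cast
      ring
  apply S.eq_one_of_permF
  rintro ⟨j, i⟩
  rw [hform']
  congr 1
  have : ((5 : ℕ) : ZMod 5) = 0 := by decide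
  rw [this, zero_mul, add_zero]

end Cfg


omit [Finite G] in
theorem conj_iter (g x : G) (n : ℕ) (h : g * x * g⁻¹ = x ^ n) (k : ℕ) :
    g ^ k * x * (g ^ k)⁻¹ = x ^ (n ^ k) := by
  induction k with
  | zero => simp
  | succ k ih =>
    have h1 : g ^ (k + 1) * x * (g ^ (k + 1))⁻¹ = g * (g ^ k * x * (g ^ k)⁻¹) * g⁻¹ := by
      rw [pow_succ']; group
    rw [h1, ih, Cfg.conj_pow_of_conj g x n h, pow_succ']

theorem zmod5_pow_four : ∀ a : ZMod 5, a ≠ 0 → a ^ 4 = 1 := by decide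

namespace Cfg

variable (S : Cfg G)

/-- commuting with a generator of `P` -/
theorem comm_x_of_comm_pow (v : G) (n : ℕ) (hn : ¬ 5 ∣ n) (h : v * S.x ^ n * v⁻¹ = S.x ^ n) :
    v * S.x * v⁻¹ = S.x := by
  have hcop : Nat.Coprime n 5 :=
    (Nat.Coprime.symm ((Nat.Prime.coprime_iff_not_dvd (by norm_num)).mpr hn))
  obtain ⟨m, -, hm⟩ := Nat.exists_mul_mod_eq_one_of_coprime hcop (by norm_num)
  have hx : S.x = (S.x ^ n) ^ m := by
    rw [← pow_mul]
    have := pow_mod_orderOf S.x (n * m)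
    rw [S.hx5, hm, pow_one] at this
    exact this
  have h1 : v * (S.x ^ n) ^ m * v⁻¹ = (S.x ^ n) ^ m := by
    have := conj_pow_of_conj v (S.x ^ n) 1 (by rw [pow_one]; exact h) m
    rw [one_mul] at this
    exact this
  rw [← hx] at h1
  exact h1

theorem exists_invol_not_comm (hB : ∃ h : ↥S.N, (h : G) * S.x * (h : G)⁻¹ ≠ S.x) :
    ∃ u : ↥S.N, u * u = 1 ∧ (u : G) * S.x * (u : G)⁻¹ ≠ S.x := by
  obtain ⟨h0, hh0⟩ := hB
  obtain ⟨n, hn5, hn⟩ := S.conj_pow h0
  obtain ⟨k, m, hm, ho⟩ := Nat.exists_eq_two_pow_mul_odd (orderOf_pos h0).ne'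
  refine ⟨h0 ^ m, ?_, ?_⟩
  · apply S.sq_eq_one_of_two_elt _ k
    rw [← pow_mul, mul_comm, ← ho, pow_orderOf_eq_one]
  · intro hc
    have h1 : ((h0 ^ m : ↥S.N) : G) = (h0 : G) ^ m := rfl
    rw [h1, conj_iter (h0 : G) S.x n hn m] at hc
    -- n^m ≡ 1 mod 5
    have h2 : S.x ^ (n ^ m) = S.x ^ 1 := by rw [pow_one]; exact hc
    rw [pow_eq_pow_iff_modEq, S.hx5] at h2
    have h3 : ((n ^ m : ℕ) : ZMod 5) = ((1 : ℕ) : ZMod 5) := (ZMod.natCast_eq_natCast_iff _ _ _).mpr h2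
    push_cast at h3
    have hn0 : (n : ZMod 5) ≠ 0 := by
      rw [Ne, ZMod.natCast_eq_zero_iff]; exact hn5
    have h4 := zmod5_pow_four _ hn0
    have hcop : Nat.Coprime m 4 := by
      have : Nat.Coprime m 2 := Nat.coprime_two_right.mpr hm
      exact Nat.Coprime.pow_right 2 this
    have h5 : (n : ZMod 5) = 1 := (pow_eq_one_iff_of_coprime hcop).mp ⟨h3, h4⟩
    apply hh0
    rw [hn]
    have h6 : n ≡ 1 [MOD 5] := by
      rw [← ZMod.natCast_eq_natCast_iff]; rw [h5]; simp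
    have h7 : S.x ^ n = S.x ^ 1 := by
      rw [pow_eq_pow_iff_modEq, S.hx5]; exact h6
    rw [h7, pow_one]

/-- an element conjugating an involution of `N(P)` into `N(P)` lies in `N(P)` -/
theorem mem_N_of_conj_invol (v w : ↥S.N) (hv1 : v ≠ 1) (hv : v * v = 1) (g : G)
    (hw : (w : G) = g * (v : G) * g⁻¹) : g ∈ S.N := by
  have hw1 : w ≠ 1 := by
    intro h
    apply hv1
    apply Subtype.ext
    have h1 : (w : G) = 1 := by rw [h]; rfl
    rw [hw] at h1
    have : (v : G) = g⁻¹ * (g * (v : G) * g⁻¹) * g := by group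
    rw [this, h1]; simp
  have hw2 : w * w = 1 := by
    apply Subtype.ext
    show (w : G) * (w : G) = 1
    rw [hw]
    have hvv : (v : G) * (v : G) = 1 := by
      have := congrArg (fun g : ↥S.N => (g : G)) hv
      simpa using this
    have : g * (v : G) * g⁻¹ * (g * (v : G) * g⁻¹) = g * ((v : G) * (v : G)) * g⁻¹ := by group
    rw [this, hvv]; group
  have hfix : (w : G) • (g • S.P) = g • S.P := by
    rw [hw, ← mul_smul, inv_mul_cancel_right, mul_smul, S.smul_P_of_mem_N _ v.2]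
  have := S.fixed_eq_of_invol w hw1 hw2 _ hfix
  exact smul_eq_iff.mp this

/-- conjugation by an element of `N(P)` preserves commuting with `x` -/
theorem comm_of_conj_comm (v g : G) (hg : g ∈ S.N)
    (h : (g * v * g⁻¹) * S.x * (g * v * g⁻¹)⁻¹ = S.x) : v * S.x * v⁻¹ = S.x := by
  obtain ⟨m, hm5, hm⟩ := S.conj_pow ⟨g⁻¹, S.N.inv_mem hg⟩
  have hm' : g⁻¹ * S.x * g = S.x ^ m := by
    have : ((⟨g⁻¹, S.N.inv_mem hg⟩ : ↥S.N) : G) = g⁻¹ := rfl
    rw [this, inv_inv] at hm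
    exact hm
  apply S.comm_x_of_comm_pow v m hm5
  rw [← hm']
  have : v * (g⁻¹ * S.x * g) * v⁻¹ = g⁻¹ * ((g * v * g⁻¹) * S.x * (g * v * g⁻¹)⁻¹) * g := by group
  rw [this, h]

/-- an involution of `N(P)` not commuting with `x` inverts `x` -/
theorem conj_eq_pow_four (v : ↥S.N) (hv : v * v = 1) (hnc : (v : G) * S.x * (v : G)⁻¹ ≠ S.x) :
    (v : G) * S.x * (v : G)⁻¹ = S.x ^ 4 := by
  obtain ⟨n, hn5, hn⟩ := S.conj_pow v
  have h2 := conj_iter (v : G) S.x n hn 2
  have hvv : (v : G) ^ 2 = 1 := by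
    have := congrArg (fun g : ↥S.N => (g : G)) hv
    rw [pow_two]; simpa using this
  rw [hvv, one_mul, inv_one, mul_one] at h2
  have h3 : S.x ^ 1 = S.x ^ (n ^ 2) := by rw [pow_one]; exact h2
  rw [pow_eq_pow_iff_modEq, S.hx5] at h3
  have h4 : ((1 : ℕ) : ZMod 5) = ((n ^ 2 : ℕ) : ZMod 5) := (ZMod.natCast_eq_natCast_iff _ _ _).mpr h3
  push_cast at h4
  rw [pow_two] at h4
  rcases zmod5_sq_one _ h4.symm with h5 | h5
  · exfalso
    apply hnc
    rw [hn]
    have h6 : n ≡ 1 [MOD 5] := by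
      rw [← ZMod.natCast_eq_natCast_iff]; rw [h5]; simp
    have h7 : S.x ^ n = S.x ^ 1 := by
      rw [pow_eq_pow_iff_modEq, S.hx5]; exact h6
    rw [h7, pow_one]
  · rw [hn]
    have h6 : n ≡ 4 [MOD 5] := by
      rw [← ZMod.natCast_eq_natCast_iff]; rw [h5]; rfl
    rw [pow_eq_pow_iff_modEq, S.hx5]; exact h6

end Cfg

end Cfsg.Agent.Lib.Helper12.Hall21
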