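import Mathlib
import Cfsg.Agent.Lib.Helper12.Hall21G

/-!
helper12: M. Hall's theorem `n_5 ≠ 21`, part H: the case where some element of `N(P)` does not
centralize `P` (Burnside transfer for the prime 2).
-/

set_option autoImplicit false

open Subgroup MulAction
open scoped Pointwise
namespace Cfsg.Agent.Lib.Helper12.Hall21
universe u
attribute [local instance] fact5
variable {G : Type u} [Group G] [Finite G]

/-- in a group with at most two elements, any two nonidentity elements agree -/
theorem eq_of_card_le_two {A : Type*} [Group A] [Finite A] (h : Nat.card A ≤ 2) (a b : A)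
    (ha : a ≠ 1) (hb : b ≠ 1) : a = b := by
  classical
  by_contra hab
  have : Fintype A := Fintype.ofFinite A
  have h1 : ({1, a, b} : Finset A).card = 3 := by
    rw [Finset.card_insert_of_notMem, Finset.card_insert_of_notMem, Finset.card_singleton]
    · simpa using hab
    · simp only [Finset.mem_insert, Finset.mem_singleton, not_or]
      exact ⟨ha.symm, hb.symm⟩
  have h2 : ({1, a, b} : Finset A).card ≤ Fintype.card A := Finset.card_le_univ _
  rw [← Nat.card_eq_fintype_card] at h2
  omega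

namespace Cfg

variable (S : Cfg G)

/-- **Case B**: some element of `N(P)` does not centralize `x`. -/
theorem caseB (hB : ∃ h : ↥S.N, (h : G) * S.x * (h : G)⁻¹ ≠ S.x) : False := by
  classical
  obtain ⟨u, hu, hunc⟩ := S.exists_invol_not_comm hB
  have hu1 : u ≠ 1 := by
    rintro rfl
    apply hunc
    simp
  have hx5 := S.x_pow_five
  -- a Sylow 2-subgroup of N(P) containing u
  have hpu : IsPGroup 2 (zpowers u) := by
    apply IsPGroup.of_card (n := 1)
    rw [Nat.card_zpowers, pow_one]
    apply orderOf_eq_prime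
    · rw [pow_two]; exact hu
    · exact hu1
  obtain ⟨T0, hT0⟩ := hpu.exists_le_sylow
  let T' : Subgroup G := (T0 : Subgroup ↥S.N).map S.N.subtype
  have hT'N : T' ≤ S.N := Subgroup.map_subtype_le _
  have hT'p : IsPGroup 2 T' := T0.2.map _
  have huT' : (u : G) ∈ T' := ⟨u, hT0 (mem_zpowers u), rfl⟩
  have hidx : ¬ 2 ∣ T'.index := by
    have h1 : T'.index = (T0 : Subgroup ↥S.N).index * S.N.index := Subgroup.index_map_subtype _
    have h2 : S.N.index = 21 := by
      have := Sylow.card_eq_index_normalizer S.P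
      rw [S.hmin.1] at this
      rw [← Sylow.coe_coe] at this
      exact this.symm
    have h3 : ¬ 2 ∣ (T0 : Subgroup ↥S.N).index := T0.not_dvd_index
    rw [h1, h2]
    intro h4
    rcases (Nat.Prime.dvd_mul Nat.prime_two).mp h4 with h5 | h5
    · exact h3 h5
    · omega
  let TS : Sylow 2 G := hT'p.toSylow hidx
  have hTS : (TS : Subgroup G) = T' := IsPGroup.toSylow_coe hT'p hidx
  -- elements of T' are involutions
  have hsq : ∀ v ∈ T', v * v = 1 := by
    intro v hv
    obtain ⟨k, hk⟩ := hT'p ⟨v, hv⟩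
    have hk' : v ^ 2 ^ k = 1 := congrArg Subtype.val hk
    have := S.sq_eq_one_of_two_elt ⟨v, hT'N hv⟩ k (Subtype.ext hk')
    exact congrArg Subtype.val this
  have hinv : ∀ v ∈ T', v⁻¹ = v := fun v hv => inv_eq_of_mul_eq_one_left (hsq v hv)
  have hcomm : ∀ v ∈ T', ∀ w ∈ T', v * w = w * v := by
    intro v hv w hw
    have h1 := hsq (v * w) (T'.mul_mem hv hw)
    have h2 : v * w = (v * w)⁻¹ := (hinv _ (T'.mul_mem hv hw)).symm
    rw [h2, mul_inv_rev, hinv v hv, hinv w hw]
  -- |T'| ≤ 4
  have hcard4 : Nat.card T' ≤ 4 := by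
    let f : T' → Fin 4 := fun v => S.rho ⟨v, hT'N v.2⟩ 0
    have hf : Function.Injective f := by
      intro v w hvw
      by_contra hne
      have hvw' : (v : G) * (w : G) ≠ 1 := by
        intro h
        apply hne
        apply Subtype.ext
        have : (v : G) = (w : G)⁻¹ := eq_inv_of_mul_eq_one_left h
        rw [this, hinv _ w.2]
      let z : ↥S.N := ⟨(v : G) * (w : G), hT'N (T'.mul_mem v.2 w.2)⟩
      have hz1 : z ≠ 1 := fun h => hvw' (congrArg Subtype.val h)
      have hz2 : z * z = 1 := Subtype.ext (hsq _ (T'.mul_mem v.2 w.2))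
      have hzr := S.rho_ne_one_of_invol z hz1 hz2
      have hzz : S.rho z * S.rho z = 1 := by rw [← map_mul, hz2, map_one]
      have hfpf := fin4_invol_even_fpf (S.rho z) hzz hzr (S.sign_rho z)
      -- rho z maps f w to f v
      have hzvw : z = (⟨v, hT'N v.2⟩ : ↥S.N) * ⟨w, hT'N w.2⟩ := rfl
      have hw2 : (⟨w, hT'N w.2⟩ : ↥S.N) * ⟨w, hT'N w.2⟩ = 1 := Subtype.ext (hsq _ w.2)
      have h1 : S.rho z (f w) = f v := by
        show S.rho z (S.rho ⟨w, hT'N w.2⟩ 0) = S.rho ⟨v, hT'N v.2⟩ 0
        rw [← Equiv.Perm.mul_apply, ← map_mul, hzvw, mul_assoc, hw2, mul_one]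
      rw [← hvw] at h1
      exact hfpf _ h1
    have := Nat.card_le_card_of_injective f hf
    simpa using this
  -- the subgroup A of elements of T' commuting with x
  let A : Subgroup G := T' ⊓ centralizer {S.x}
  have hAmem : ∀ v, v ∈ A ↔ v ∈ T' ∧ v * S.x * v⁻¹ = S.x := by
    intro v
    simp only [A, Subgroup.mem_inf, Subgroup.mem_centralizer_singleton_iff]
    constructor
    · rintro ⟨h1, h2⟩
      exact ⟨h1, by rw [h2]; group⟩
    · rintro ⟨h1, h2⟩
      refine ⟨h1, ?_⟩
      have : v * S.x = v * S.x * v⁻¹ * v := by group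
      rw [this, h2]
  have hAle : A ≤ T' := inf_le_left
  have hA2 : Nat.card A ≤ 2 := by
    have h1 : Nat.card A ∣ Nat.card T' := Subgroup.card_dvd_of_le hAle
    have h2 : Nat.card A ≠ Nat.card T' := by
      intro h
      have : A = T' := Subgroup.eq_of_le_of_card_ge hAle h.ge
      have huA : (u : G) ∈ A := by rw [this]; exact huT'
      exact hunc ((hAmem _).mp huA).2
    obtain ⟨c, hc⟩ := h1
    have hpos : 0 < Nat.card A := Nat.card_pos
    have hc2 : 2 ≤ c := by
      by_contra hlt
      have : c = 0 ∨ c = 1 := by omega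
      rcases this with rfl | rfl
      · rw [mul_zero] at hc; have : 0 < Nat.card T' := Nat.card_pos; omega
      · rw [mul_one] at hc; exact h2 hc.symm
    nlinarith
  -- product of two elements outside A lies in A
  have hprod : ∀ v ∈ T', ∀ w ∈ T', v ∉ A → w ∉ A → v * w ∈ A := by
    intro v hv w hw hvA hwA
    rw [hAmem]
    refine ⟨T'.mul_mem hv hw, ?_⟩
    have h1 := S.conj_eq_pow_four ⟨v, hT'N hv⟩ (Subtype.ext (hsq v hv))
      (fun h => hvA ((hAmem v).mpr ⟨hv, h⟩))
    have h2 := S.conj_eq_pow_four ⟨w, hT'N hw⟩ (Subtype.ext (hsq w hw))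
      (fun h => hwA ((hAmem w).mpr ⟨hw, h⟩))
    have h3 : v * w * S.x * (v * w)⁻¹ = v * (w * S.x * w⁻¹) * v⁻¹ := by group
    rw [h3]
    change w * S.x * w⁻¹ = S.x ^ 4 at h2
    change v * S.x * v⁻¹ = S.x ^ 4 at h1
    rw [h2, conj_pow_of_conj v S.x 4 h1 4]
    have : S.x ^ (4 * 4) = (S.x ^ 5) ^ 3 * S.x := by rw [← pow_mul, ← pow_succ]
    rw [this, hx5, one_pow, one_mul]
  -- N(T') ≤ C(T')
  have hNC : normalizer ((TS : Subgroup G) : Set G) ≤ centralizer ((TS : Subgroup G) : Set G) := by
    rw [hTS]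
    intro g hg
    have hgmem : ∀ v, v ∈ T' ↔ g * v * g⁻¹ ∈ T' := fun v => Subgroup.mem_normalizer_iff.mp hg v
    -- g ∈ N(P)
    have hgN : g ∈ S.N :=
      S.mem_N_of_conj_invol u ⟨g * (u : G) * g⁻¹, hT'N ((hgmem _).mp huT')⟩ hu1 hu g rfl
    -- conjugation preserves A
    have hψA : ∀ v ∈ T', (g * v * g⁻¹ ∈ A ↔ v ∈ A) := by
      intro v hv
      rw [hAmem, hAmem]
      constructor
      · rintro ⟨_, h2⟩
        exact ⟨hv, S.comm_of_conj_comm v g hgN h2⟩
      · rintro ⟨_, h2⟩
        refine ⟨(hgmem v).mp hv, ?_⟩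
        apply S.comm_of_conj_comm (g * v * g⁻¹) g⁻¹ (S.N.inv_mem hgN)
        have : g⁻¹ * (g * v * g⁻¹) * g⁻¹⁻¹ = v := by group
        rw [this]; exact h2
    -- conjugation fixes A pointwise
    have hψfix : ∀ a ∈ A, g * a * g⁻¹ = a := by
      intro a ha
      by_cases ha1 : a = 1
      · rw [ha1]; group
      · have h1 : g * a * g⁻¹ ∈ A := (hψA a (hAle ha)).mpr ha
        have h2 : g * a * g⁻¹ ≠ 1 := by
          intro h
          apply ha1
          have : a = g⁻¹ * (g * a * g⁻¹) * g := by group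
          rw [this, h]; group
        have := eq_of_card_le_two hA2 (⟨g * a * g⁻¹, h1⟩ : A) ⟨a, ha⟩
          (fun h => h2 (congrArg Subtype.val h)) (fun h => ha1 (congrArg Subtype.val h))
        exact congrArg Subtype.val this
    -- g² centralizes T'
    have hsq2 : ∀ v ∈ T', g * (g * v * g⁻¹) * g⁻¹ = v := by
      intro v hv
      have hα : g * v * g⁻¹ * v ∈ A := by
        by_cases hvA : v ∈ A
        · exact A.mul_mem ((hψA v hv).mpr hvA) hvA
        · exact hprod _ ((hgmem v).mp hv) _ hv (fun h => hvA ((hψA v hv).mp h)) hvA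
      have h1 : g * v * g⁻¹ = (g * v * g⁻¹ * v) * v := by
        rw [mul_assoc (g * v * g⁻¹) v v, hsq v hv, mul_one]
      have h2 := hψfix _ hα
      calc g * (g * v * g⁻¹) * g⁻¹ = g * ((g * v * g⁻¹ * v) * v) * g⁻¹ := by rw [← h1]
        _ = (g * (g * v * g⁻¹ * v) * g⁻¹) * (g * v * g⁻¹) := by group
        _ = (g * v * g⁻¹ * v) * (g * v * g⁻¹) := by rw [h2]
        _ = (g * v * g⁻¹ * v) * ((g * v * g⁻¹ * v) * v) := by rw [← h1]
        _ = ((g * v * g⁻¹ * v) * (g * v * g⁻¹ * v)) * v := by group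
        _ = v := by rw [hsq _ (hAle hα), one_mul]
    -- 2-part of g lies in T'
    obtain ⟨k, m, hm, ho⟩ := Nat.exists_eq_two_pow_mul_odd (orderOf_pos g).ne'
    have hgm : g ^ m ∈ T' := by
      have hp : IsPGroup 2 (zpowers (g ^ m)) := by
        apply IsPGroup.of_card (n := k)
        rw [Nat.card_zpowers]
        have h1 : orderOf (g ^ m) = orderOf g / Nat.gcd (orderOf g) m := orderOf_pow g
        rw [h1, ho]
        have : Nat.gcd (2 ^ k * m) m = m := Nat.gcd_eq_right (Dvd.intro_left _ rfl)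
        rw [this]
        exact Nat.mul_div_cancel _ hm.pos
      have h1 := hp.inf_normalizer_sylow TS
      have h2 : g ^ m ∈ zpowers (g ^ m) ⊓ normalizer ((TS : Subgroup G) : Set G) := by
        refine ⟨mem_zpowers _, ?_⟩
        rw [hTS]
        exact (normalizer (T' : Set G)).pow_mem hg m
      rw [Sylow.coe_coe, h1] at h2
      rw [← hTS]
      exact h2.2
    -- now g centralizes T'
    rw [Subgroup.mem_centralizer_iff]
    intro v hv
    obtain ⟨q, hq⟩ := hm
    have hc1 : Commute (g ^ m) v := hcomm _ hgm _ hv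
    have hc2 : Commute (g ^ 2) v := by
      have := hsq2 v hv
      show g ^ 2 * v = v * g ^ 2
      have h3 : g ^ 2 * v = (g * (g * v * g⁻¹) * g⁻¹) * g ^ 2 := by rw [pow_two]; group
      rw [h3, this]
    have hc3 : Commute (g ^ (2 * q)) v := by rw [pow_mul]; exact hc2.pow_left q
    have hg : g = g ^ m * (g ^ (2 * q))⁻¹ := by
      rw [hq, pow_succ]; group
    have hc4 : Commute g v := by
      rw [hg]; exact hc1.mul_left hc3.inv_left
    exact hc4.eq.symm
  -- Burnside
  have hcompl := MonoidHom.ker_transferSylow_isComplement' TS hNC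
  have hcard5 : ¬ 5 ∣ Nat.card (TS : Subgroup G) := by
    rw [hTS]
    have : 0 < Nat.card T' := Nat.card_pos
    omega
  have hker : (MonoidHom.transferSylow TS hNC).ker = ⊤ := by
    rw [eq_top_iff]
    intro g _
    exact hom_trivial S.hmin (MonoidHom.transferSylow TS hNC) hcard5 g
  have hcc := hcompl.card_mul_card
  rw [hker, Subgroup.card_top] at hcc
  have hpos : 0 < Nat.card G := Nat.card_pos
  have hT1 : Nat.card (TS : Subgroup G) = 1 := by nlinarith
  rw [hTS, Subgroup.card_eq_one] at hT1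
  rw [hT1, Subgroup.mem_bot] at huT'
  exact hu1 (Subtype.ext huT')

end Cfg

end Cfsg.Agent.Lib.Helper12.Hall21
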