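import Mathlib
import Cfsg.Agent.Lib.Helper12.Hall21G

/-!
helper12: M. Hall's theorem `n_5 ≠ 21`, part I: the case where `N(P)` centralizes `P`
(Burnside transfer for the prime 5, then a Sylow 7-subgroup).
-/

set_option autoImplicit false

open Subgroup MulAction
open scoped Pointwise
namespace Cfsg.Agent.Lib.Helper12.Hall21
universe u
attribute [local instance] fact5
variable {G : Type u} [Group G] [Finite G]

theorem fact7 : Fact (Nat.Prime 7) := ⟨by norm_num⟩

theorem zmod7_pow_five : ∀ b : ZMod 7, b ^ 5 = 1 → b = 1 := by decide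

namespace Cfg

variable (S : Cfg G)

/-- **Case A**: `N(P)` centralizes `x`. -/
theorem caseA (hA : ∀ h : ↥S.N, (h : G) * S.x * (h : G)⁻¹ = S.x) : False := by
  classical
  have := fact7
  have hx5 := S.x_pow_five
  -- A1
  have hNC : normalizer ((S.P : Subgroup G) : Set G) ≤ centralizer ((S.P : Subgroup G) : Set G) := by
    intro g hg
    rw [Subgroup.mem_centralizer_iff]
    intro p hp
    obtain ⟨n, rfl⟩ := (S.mem_P_iff p).mp hp
    have h1 := hA ⟨g, hg⟩
    have h2 : g * S.x ^ n * g⁻¹ = S.x ^ n := by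
      have := conj_pow_of_conj g S.x 1 (by rw [pow_one]; exact h1) n
      rwa [one_mul] at this
    calc S.x ^ n * g = (g * S.x ^ n * g⁻¹) * g := by rw [h2]
      _ = g * S.x ^ n := by group
  -- A2
  have hcompl := MonoidHom.ker_transferSylow_isComplement' S.P hNC
  set K : Subgroup G := (MonoidHom.transferSylow S.P hNC).ker with hK
  have hKcard : Nat.card K * 5 = Nat.card G := by
    have := hcompl.card_mul_card
    rw [S.hP] at this
    exact this
  have hK5 : ¬ 5 ∣ Nat.card K := MonoidHom.not_dvd_card_ker_transferSylow S.P hNC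
  have hKidx : K.index = 5 := by
    rw [hcompl.symm.index_eq_card, S.hP]
  -- A3
  have hN7 : ¬ 7 ∣ Nat.card S.N := by
    intro h7
    obtain ⟨s, hs⟩ := exists_prime_orderOf_dvd_card' 7 h7
    have hr : S.rho s = 1 := by
      apply fin4_pow_seven
      rw [← map_pow, ← hs, pow_orderOf_eq_one, map_one]
    have h5 := S.pow_five_of_rho_one s hr (hA s)
    have := orderOf_dvd_of_pow_eq_one h5
    rw [hs] at this
    omega
  -- A4
  have hGN : Nat.card S.N * 21 = Nat.card G := by
    have h1 := Subgroup.card_mul_index S.N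
    have h2 : S.N.index = 21 := by
      have := Sylow.card_eq_index_normalizer S.P
      rw [S.hmin.1, ← Sylow.coe_coe] at this
      exact this.symm
    rw [h2] at h1
    exact h1
  have h7G : 7 ∣ Nat.card G := by
    rw [← hGN]; exact Dvd.intro_left (Nat.card S.N * 3) (by ring)
  have h49G : ¬ 49 ∣ Nat.card G := by
    rw [← hGN]
    intro h49
    apply hN7
    have h1 : 7 * 7 ∣ 7 * (Nat.card S.N * 3) := by
      have : 7 * (Nat.card S.N * 3) = Nat.card S.N * 21 := by ring
      rw [this]; exact h49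
    have h2 : 7 ∣ Nat.card S.N * 3 := Nat.dvd_of_mul_dvd_mul_left (by norm_num) h1
    exact (Nat.Coprime.dvd_of_dvd_mul_right (by norm_num) h2)
  -- A5 : a Sylow 7-subgroup of order 7
  obtain ⟨R⟩ : Nonempty (Sylow 7 G) := inferInstance
  have hRcard : Nat.card (R : Subgroup G) = 7 := by
    obtain ⟨k, hk⟩ := R.2.exists_card_eq
    have h1 : 7 ∣ Nat.card (R : Subgroup G) := R.dvd_card_of_dvd_card h7G
    have h2 : Nat.card (R : Subgroup G) ∣ Nat.card G := Subgroup.card_subgroup_dvd_card _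
    rw [hk] at h1 h2 ⊢
    rcases k with _ | _ | k
    · simp at h1
    · simp
    · exfalso
      apply h49G
      have : (49 : ℕ) ∣ 7 ^ (k + 1 + 1) := ⟨7 ^ k, by ring⟩
      exact this.trans h2
  -- A6 : 5 does not divide n_7
  have hn7 : ¬ 5 ∣ Nat.card (Sylow 7 G) := by
    have : K.Normal := by rw [hK]; infer_instance
    have h1 : Nat.card (Sylow 7 K) = Nat.card (Sylow 7 G) :=
      Cfsg.Agent.Lib.Helper22.SylowCount.card_sylow_subgroup_eq K (by rw [hKidx]; norm_num)
    obtain ⟨R'⟩ : Nonempty (Sylow 7 K) := inferInstance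
    have h2 : Nat.card (Sylow 7 K) ∣ Nat.card K :=
      (Sylow.card_dvd_index R').trans (Subgroup.index_dvd_card _)
    rw [← h1]
    exact fun h => hK5 (h.trans h2)
  -- A7 : an element of order 5 normalizing R
  have h5NR : 5 ∣ Nat.card (normalizer ((R : Subgroup G) : Set G)) := by
    have h1 := Subgroup.card_mul_index (normalizer ((R : Subgroup G) : Set G))
    have h2 := Sylow.card_eq_index_normalizer R
    rw [← Sylow.coe_coe] at h2
    rw [← h2] at h1
    have h3 : 5 ∣ Nat.card G := Dvd.intro_left _ hKcard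
    rw [← h1] at h3
    rcases (Nat.Prime.dvd_mul (by norm_num)).mp h3 with h4 | h4
    · exact h4
    · exact absurd h4 hn7
  obtain ⟨⟨y, hyN⟩, hy⟩ := exists_prime_orderOf_dvd_card' 5 h5NR
  have hyG : orderOf y = 5 := by rw [← Subgroup.orderOf_mk y hyN]; exact hy
  -- A8 : y centralizes a generator of R
  have h7R : 7 ∣ Nat.card (R : Subgroup G) := by rw [hRcard]
  obtain ⟨⟨s, hsR⟩, hs⟩ := exists_prime_orderOf_dvd_card' 7 h7R
  have hsG : orderOf s = 7 := by rw [← Subgroup.orderOf_mk s hsR]; exact hs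
  have hRz : zpowers s = (R : Subgroup G) := by
    apply Subgroup.eq_of_le_of_card_ge
    · rw [zpowers_le]; exact hsR
    · rw [Nat.card_zpowers, hsG, hRcard]
  have hys : y * s * y⁻¹ = s := by
    have h1 : y * s * y⁻¹ ∈ (R : Subgroup G) :=
      (Subgroup.mem_normalizer_iff.mp hyN _).mp hsR
    rw [← hRz, ← mem_powers_iff_mem_zpowers] at h1
    obtain ⟨b, hb⟩ := h1
    have hb' : y * s * y⁻¹ = s ^ b := hb.symm
    have h2 := conj_iter y s b hb' 5
    have hy5 : y ^ 5 = 1 := by rw [← hyG]; exact pow_orderOf_eq_one _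
    rw [hy5, one_mul, inv_one, mul_one] at h2
    have h3 : s ^ 1 = s ^ (b ^ 5) := by rw [pow_one]; exact h2
    rw [pow_eq_pow_iff_modEq, hsG] at h3
    have h4 : ((1 : ℕ) : ZMod 7) = ((b ^ 5 : ℕ) : ZMod 7) := (ZMod.natCast_eq_natCast_iff _ _ _).mpr h3
    push_cast at h4
    have h5 := zmod7_pow_five _ h4.symm
    have h6 : b ≡ 1 [MOD 7] := by
      rw [← ZMod.natCast_eq_natCast_iff]; rw [h5]; simp
    rw [hb']
    have h7 : s ^ b = s ^ 1 := by
      rw [pow_eq_pow_iff_modEq, hsG]; exact h6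
    rw [h7, pow_one]
  -- A9 : move to P
  have hpg : IsPGroup 5 (zpowers y) := by
    apply IsPGroup.of_card (n := 1)
    rw [Nat.card_zpowers, hyG, pow_one]
  obtain ⟨Q, hQ⟩ := hpg.exists_le_sylow
  obtain ⟨g, hg⟩ := MulAction.exists_smul_eq G S.P Q
  have hyP : g⁻¹ * y * g ∈ (S.P : Subgroup G) := by
    rw [← mem_smul_sylow_iff, hg]
    exact hQ (mem_zpowers _)
  obtain ⟨m, hm⟩ := (S.mem_P_iff _).mp hyP
  have hm5 : ¬ 5 ∣ m := by
    rintro ⟨q, rfl⟩
    rw [pow_mul, hx5, one_pow] at hm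
    have : y = 1 := by
      have h1 : y = g * (g⁻¹ * y * g) * g⁻¹ := by group
      rw [h1, hm]; group
    rw [this, orderOf_one] at hyG
    omega
  -- s' = g⁻¹ s g commutes with x^m
  have hs'comm : (g⁻¹ * s * g) * S.x ^ m * (g⁻¹ * s * g)⁻¹ = S.x ^ m := by
    rw [← hm]
    have hys' : s * y * s⁻¹ = y := by
      have : s * y = y * s := by
        have h1 : y * s = (y * s * y⁻¹) * y := by group
        rw [h1, hys]
      rw [this]; group
    calc (g⁻¹ * s * g) * (g⁻¹ * y * g) * (g⁻¹ * s * g)⁻¹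
        = g⁻¹ * (s * y * s⁻¹) * g := by group
      _ = _ := by rw [hys']
  have hs'x := S.comm_x_of_comm_pow _ m hm5 hs'comm
  have hs'N : g⁻¹ * s * g ∈ S.N := by
    apply Subgroup.centralizer_le_normalizer
    rw [Subgroup.mem_centralizer_iff]
    intro p hp
    obtain ⟨n, rfl⟩ := (S.mem_P_iff p).mp hp
    have h2 : (g⁻¹ * s * g) * S.x ^ n * (g⁻¹ * s * g)⁻¹ = S.x ^ n := by
      have := conj_pow_of_conj (g⁻¹ * s * g) S.x 1 (by rw [pow_one]; exact hs'x) n
      rwa [one_mul] at this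
    calc S.x ^ n * (g⁻¹ * s * g)
        = ((g⁻¹ * s * g) * S.x ^ n * (g⁻¹ * s * g)⁻¹) * (g⁻¹ * s * g) := by rw [h2]
      _ = (g⁻¹ * s * g) * S.x ^ n := by group
  -- A10
  apply hN7
  have h1 : orderOf (⟨g⁻¹ * s * g, hs'N⟩ : ↥S.N) = 7 := by
    rw [← Subgroup.orderOf_coe]
    show orderOf (g⁻¹ * s * g) = 7
    have : g⁻¹ * s * g = MulAut.conj g⁻¹ s := by simp
    rw [this, MulEquiv.orderOf_eq, hsG]
  rw [← h1]
  exact orderOf_dvd_natCard _

end Cfg

end Cfsg.Agent.Lib.Helper12.Hall21
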