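import Mathlib
import Cfsg.Agent.Lib.Helper12.Hall21H
import Cfsg.Agent.Lib.Helper12.Hall21I

/-!
helper12: M. Hall's theorem: no finite group has exactly 21 Sylow 5-subgroups.
-/

set_option autoImplicit false

open Subgroup MulAction
namespace Cfsg.Agent.Lib.Helper12.Hall21
universe u
attribute [local instance] fact5

theorem no_minCE (G : Type u) [Group G] [Finite G] (h : MinCE G) : False := by
  obtain ⟨P⟩ : Nonempty (Sylow 5 G) := inferInstance
  have hP := card_sylow_five h P
  have h5 : 5 ∣ Nat.card (P : Subgroup G) := by rw [hP]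
  obtain ⟨⟨x, hxP⟩, hx⟩ := exists_prime_orderOf_dvd_card' 5 h5
  have hx5 : orderOf x = 5 := by rw [← Subgroup.orderOf_mk x hxP]; exact hx
  obtain ⟨c⟩ := exists_coords h.1 P hP x hxP hx5
  let S : Cfg G := ⟨h, P, hP, x, hxP, hx5, c⟩
  by_cases hA : ∀ h' : ↥S.N, (h' : G) * S.x * (h' : G)⁻¹ = S.x
  · exact S.caseA hA
  · push Not at hA
    exact S.caseB hA

/-- **M. Hall**: no finite group has exactly 21 Sylow 5-subgroups. -/
theorem card_sylow_five_ne_twentyone (G : Type u) [Group G] [Finite G] :
    Nat.card (Sylow 5 G) ≠ 21 := by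
  induction hn : Nat.card G using Nat.strong_induction_on generalizing G with
  | _ n ih =>
    intro h21
    exact no_minCE G ⟨h21, fun G' _ _ hlt => ih (Nat.card G') (hn ▸ hlt) G' rfl⟩

end Cfsg.Agent.Lib.Helper12.Hall21
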