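import Mathlib
import Cfsg.Agent.Lib.Helper8.Syl22A

/-!
helper12: M. Hall's theorem `n_3 ≠ 22`, endgame part A (joint with helper8):
a minimal counterexample all of whose Sylow 3-subgroups have order 3.
Basic facts about fixed points on the 22 Sylow 3-subgroups.
-/

set_option autoImplicit false

open Subgroup MulAction
open scoped Pointwise

namespace Cfsg.Agent.Lib.Helper12.Hall22

open Cfsg.Agent.Lib.Helper8.Syl22

universe u

attribute [local instance] Cfsg.Agent.Lib.Helper8.Syl22.fact3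

/-- Fixed point congruence on an invariant subset. -/
theorem ncard_modEq_of_invariant {α : Type*} [Finite α] (σ : Equiv.Perm α) (p n : ℕ)
    [Fact p.Prime] (hσ : σ ^ p ^ n = 1) (S : Set α) (hS : ∀ a ∈ S, σ a ∈ S) :
    S.ncard ≡ {a | a ∈ S ∧ σ a = a}.ncard [MOD p] := by
  classical
  have : Fintype ↥S := Fintype.ofFinite _
  let f : Function.End ↥S := fun a => ⟨σ a, hS a a.2⟩
  have hfk : ∀ (k : ℕ) (a : ↥S), (((f ^ k) a : ↥S) : α) = (σ ^ k) a := by
    intro k
    induction k with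
    | zero => intro a; rfl
    | succ k ih =>
      intro a
      rw [pow_succ, pow_succ]
      show (((f ^ k) (f a) : ↥S) : α) = (σ ^ k) (σ a)
      rw [ih]
  have hf : f ^ p ^ n = 1 := by
    funext a
    apply Subtype.ext
    rw [hfk, hσ]
    rfl
  have h1 := Equiv.Perm.card_fixedPoints_modEq hf
  have h2 : Fintype.card ↥S = S.ncard := by
    rw [← Nat.card_eq_fintype_card, _root_.Nat.card_coe_set_eq]
  have h3 : Fintype.card (Function.fixedPoints f) = {a | a ∈ S ∧ σ a = a}.ncard := by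
    rw [← Nat.card_eq_fintype_card, ← _root_.Nat.card_coe_set_eq]
    apply Nat.card_congr
    exact
      { toFun := fun b => ⟨b.1.1, b.1.2, congrArg Subtype.val b.2⟩
        invFun := fun a => ⟨⟨a.1, a.2.1⟩, Subtype.ext a.2.2⟩
        left_inv := fun b => rfl
        right_inv := fun a => rfl }
  rw [h2, h3] at h1
  exact h1

variable {G : Type u} [Group G] [Finite G]

/-- The set of Sylow 3-subgroups fixed by `g`. -/
def fixS (g : G) : Set (Sylow 3 G) := {Q | g • Q = Q}

omit [Finite G] in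
theorem mem_fixS {g : G} {Q : Sylow 3 G} : Q ∈ fixS g ↔ g • Q = Q := Iff.rfl

omit [Finite G] in
theorem toPerm_pow (g : G) (n : ℕ) :
    (MulAction.toPerm g : Equiv.Perm (Sylow 3 G)) ^ n = MulAction.toPerm (g ^ n) := by
  have := map_pow (MulAction.toPermHom G (Sylow 3 G)) g n
  exact this.symm

/-- congruence for the number of fixed points of an element of prime power order -/
theorem ncard_fixS_modEq (g : G) (p n : ℕ) [Fact p.Prime] (hg : g ^ p ^ n = 1) :
    Nat.card (Sylow 3 G) ≡ (fixS g).ncard [MOD p] := by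
  have h1 := ncard_modEq_of_invariant (MulAction.toPerm g : Equiv.Perm (Sylow 3 G)) p n
    (by rw [toPerm_pow, hg]; ext Q; simp) Set.univ (fun _ _ => Set.mem_univ _)
  have h2 : {a : Sylow 3 G | a ∈ Set.univ ∧ (MulAction.toPerm g) a = a} = fixS g := by
    ext Q; simp [fixS]
  rw [h2, Set.ncard_univ] at h1
  exact h1

/-- an invariant subset under an element `y`, version for the action on Sylow subgroups -/
theorem ncard_modEq_of_smul_invariant (y : G) (p n : ℕ) [Fact p.Prime] (hy : y ^ p ^ n = 1)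
    (S : Set (Sylow 3 G)) (hS : ∀ Q ∈ S, y • Q ∈ S) :
    S.ncard ≡ {Q | Q ∈ S ∧ y • Q = Q}.ncard [MOD p] := by
  have h1 := ncard_modEq_of_invariant (MulAction.toPerm y : Equiv.Perm (Sylow 3 G)) p n
    (by rw [toPerm_pow, hy]; ext Q; simp) S (fun Q hQ => hS Q hQ)
  exact h1

section card3

variable (h3 : ∀ P : Sylow 3 G, Nat.card P = 3)
include h3

omit [Finite G] in
theorem orderOf_eq_three (P : Sylow 3 G) (x : G) (hx : x ∈ (P : Subgroup G)) (hx1 : x ≠ 1) :
    orderOf x = 3 := by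
  have h1 : orderOf x ∣ 3 := by
    have := Subgroup.orderOf_dvd_natCard (P : Subgroup G) hx
    rwa [h3 P] at this
  rcases (Nat.dvd_prime (by norm_num : Nat.Prime 3)).mp h1 with h | h
  · exact absurd (orderOf_eq_one_iff.mp h) hx1
  · exact h

theorem zpowers_eq (P : Sylow 3 G) (x : G) (hx : x ∈ (P : Subgroup G)) (hx1 : x ≠ 1) :
    zpowers x = (P : Subgroup G) := by
  apply Subgroup.eq_of_le_of_card_ge
  · rw [zpowers_le]; exact hx
  · rw [Nat.card_zpowers, orderOf_eq_three h3 P x hx hx1, h3 P]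

theorem exists_gen (P : Sylow 3 G) : ∃ x : G, x ∈ (P : Subgroup G) ∧ x ≠ 1 := by
  have h1 : 1 < Nat.card (P : Subgroup G) := by rw [h3 P]; norm_num
  rw [Subgroup.one_lt_card_iff_ne_bot] at h1
  rcases Subgroup.bot_or_exists_ne_one (P : Subgroup G) with h | ⟨x, hx, hx1⟩
  · exact absurd h h1
  · exact ⟨x, hx, hx1⟩

/-- a nontrivial element of `P` fixes only the point `P` -/
theorem eq_of_smul_eq (P Q : Sylow 3 G) (y : G) (hy : y ∈ (P : Subgroup G)) (hy1 : y ≠ 1)
    (hQ : y • Q = Q) : Q = P := by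
  have hN : y ∈ normalizer ((Q : Subgroup G) : Set G) := smul_eq_iff.mp hQ
  have hA : IsPGroup 3 (zpowers y) := (P.2).to_le (by rw [zpowers_le]; exact hy)
  have h1 := hA.inf_normalizer_sylow Q
  have h2 : y ∈ zpowers y ⊓ normalizer ((Q : Subgroup G) : Set G) := ⟨mem_zpowers y, hN⟩
  rw [Sylow.coe_coe, h1] at h2
  have hyQ : y ∈ (Q : Subgroup G) := h2.2
  apply Sylow.ext
  rw [← zpowers_eq h3 P y hy hy1, ← zpowers_eq h3 Q y hyQ hy1]

omit [Finite G] h3 in
theorem smul_eq_of_mem (P : Sylow 3 G) (x : G) (hx : x ∈ (P : Subgroup G)) : x • P = P :=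
  smul_eq_iff.mpr (le_normalizer hx)

/-- elements commuting with a generator of `P` fix the point `P` -/
theorem smul_eq_of_commute (P : Sylow 3 G) (x : G) (hx : x ∈ (P : Subgroup G)) (hx1 : x ≠ 1)
    (g : G) (hg : Commute g x) : g • P = P := by
  have h1 : x ∈ ((g • P : Sylow 3 G) : Subgroup G) := by
    rw [mem_smul_sylow_iff]
    have : g⁻¹ * x * g = x := by
      rw [mul_assoc, ← hg.eq, ← mul_assoc, inv_mul_cancel, one_mul]
    rw [this]; exact hx
  have h2 : x • P = P := smul_eq_of_mem P x hx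
  exact (eq_of_smul_eq h3 (g • P) P x h1 hx1 h2).symm

/-- (F1) -/
theorem fixS_mod_three (P : Sylow 3 G) (x : G) (hx : x ∈ (P : Subgroup G)) (hx1 : x ≠ 1)
    (g : G) (hg : Commute g x) : (fixS g).ncard % 3 = 1 := by
  have hx3 : x ^ 3 ^ 1 = 1 := by
    rw [pow_one, ← orderOf_eq_three h3 P x hx hx1]; exact pow_orderOf_eq_one x
  have h1 := ncard_modEq_of_smul_invariant x 3 1 hx3 (fixS g) (by
    intro Q hQ
    show g • (x • Q) = x • Q
    have hQ' : g • Q = Q := hQ
    rw [smul_smul, hg.eq, ← smul_smul, hQ'])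
  have h2 : {Q | Q ∈ fixS g ∧ x • Q = Q} = {P} := by
    ext Q
    simp only [Set.mem_ofPred_eq, Set.mem_singleton_iff]
    constructor
    · rintro ⟨_, hQ⟩; exact eq_of_smul_eq h3 P Q x hx hx1 hQ
    · rintro rfl
      exact ⟨smul_eq_of_commute h3 Q x hx hx1 g hg, smul_eq_of_mem Q x hx⟩
  rw [h2, Set.ncard_singleton] at h1
  have := h1
  unfold Nat.ModEq at this
  omega

omit [Finite G] in
theorem pow_three_eq_one (P : Sylow 3 G) (x : G) (hx : x ∈ (P : Subgroup G)) : x ^ 3 = 1 := by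
  have := Subgroup.orderOf_dvd_natCard (P : Subgroup G) hx
  rw [h3 P] at this
  exact orderOf_dvd_iff_pow_eq_one.mp this

theorem conj_cases (P : Sylow 3 G) (x : G) (hx : x ∈ (P : Subgroup G)) (hx1 : x ≠ 1)
    (g : G) (hg : g • P = P) : g * x * g⁻¹ = x ∨ g * x * g⁻¹ = x⁻¹ := by
  have hN : g ∈ normalizer ((P : Subgroup G) : Set G) := smul_eq_iff.mp hg
  have h1 : g * x * g⁻¹ ∈ (P : Subgroup G) := (Subgroup.mem_normalizer_iff.mp hN x).mp hx
  have hx3 := orderOf_eq_three h3 P x hx hx1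
  rw [← zpowers_eq h3 P x hx hx1, ← mem_powers_iff_mem_zpowers] at h1
  obtain ⟨n, hn⟩ := h1
  have hn' : x ^ n = g * x * g⁻¹ := hn
  have h2 : x ^ (n % 3) = g * x * g⁻¹ := by rw [← hn', ← hx3, pow_mod_orderOf]
  have hxxx : x ^ 3 = 1 := pow_three_eq_one h3 P x hx
  have hcases : n % 3 = 0 ∨ n % 3 = 1 ∨ n % 3 = 2 := by omega
  rcases hcases with hm | hm | hm
  · exfalso; apply hx1
    rw [hm, pow_zero] at h2
    have : x = g⁻¹ * (g * x * g⁻¹) * g := by group
    rw [this, ← h2]; group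
  · left; rw [← h2, hm, pow_one]
  · right; rw [← h2, hm]
    exact eq_inv_of_mul_eq_one_left (by rw [← pow_succ, hxxx])

/-- (F2) -/
theorem commute_of_odd (P : Sylow 3 G) (x : G) (hx : x ∈ (P : Subgroup G)) (hx1 : x ≠ 1)
    (g : G) (hg : g • P = P) (hodd : Odd (orderOf g)) : Commute g x := by
  rcases conj_cases h3 P x hx hx1 g hg with h | h
  · show g * x = x * g
    calc g * x = (g * x * g⁻¹) * g := by group
      _ = x * g := by rw [h]
  · have h2 : Commute (g * g) x := by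
      show g * g * x = x * (g * g)
      have : g * g * x * (g * g)⁻¹ = x := by
        have e : g * g * x * (g * g)⁻¹ = g * (g * x * g⁻¹) * g⁻¹ := by group
        rw [e, h]
        have e2 : g * x⁻¹ * g⁻¹ = (g * x * g⁻¹)⁻¹ := by group
        rw [e2, h, inv_inv]
      calc g * g * x = (g * g * x * (g * g)⁻¹) * (g * g) := by group
        _ = x * (g * g) := by rw [this]
    obtain ⟨m, hm⟩ := hodd
    have h3' : g = (g * g) ^ (m + 1) := by
      rw [← pow_two, ← pow_mul]
      have : 2 * (m + 1) = orderOf g + 1 := by omega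
      rw [this, pow_succ, pow_orderOf_eq_one, one_mul]
    rw [h3']
    exact h2.pow_left (m + 1)

/-- (F3) -/
theorem fixS_le_eight (h22 : Nat.card (Sylow 3 G) = 22) (P : Sylow 3 G) (x : G)
    (hx : x ∈ (P : Subgroup G)) (hx1 : x ≠ 1)
    (t : G) (ht : t • P = P) (hnc : ¬ Commute t x) : (fixS t).ncard ≤ 8 := by
  have hinv : t * x * t⁻¹ = x⁻¹ := by
    rcases conj_cases h3 P x hx hx1 t ht with h | h
    · exfalso; apply hnc
      show t * x = x * t
      calc t * x = (t * x * t⁻¹) * t := by group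
        _ = x * t := by rw [h]
    · exact h
  have htx : t * x = x⁻¹ * t := by
    calc t * x = (t * x * t⁻¹) * t := by group
      _ = x⁻¹ * t := by rw [hinv]
  have htx' : t * x⁻¹ = x * t := by
    have : t * x⁻¹ * t⁻¹ = x := by
      have e2 : t * x⁻¹ * t⁻¹ = (t * x * t⁻¹)⁻¹ := by group
      rw [e2, hinv, inv_inv]
    calc t * x⁻¹ = (t * x⁻¹ * t⁻¹) * t := by group
      _ = x * t := by rw [this]
  have hxxx : x ^ 3 = 1 := pow_three_eq_one h3 P x hx
  have hxinvP : x⁻¹ ∈ (P : Subgroup G) := inv_mem hx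
  have hxinv1 : x⁻¹ ≠ 1 := by simpa using hx1
  -- key: if x • γ = x⁻¹ • γ then γ = P
  have key : ∀ γ : Sylow 3 G, x • γ = x⁻¹ • γ → γ = P := by
    intro γ hγ
    apply eq_of_smul_eq h3 P γ x⁻¹ hxinvP hxinv1
    have h1 : x • x • γ = γ := by rw [hγ, smul_inv_smul]
    have h2 : x • x • x • γ = γ := by
      rw [smul_smul, smul_smul, ← pow_two, ← pow_succ, hxxx, one_smul]
    have h4 : x⁻¹ • γ = x⁻¹ • (x • x • x • γ) := by rw [h2]
    rw [h4, inv_smul_smul]
    exact h1
  set A : Set (Sylow 3 G) := fixS t with hA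
  set B : Set (Sylow 3 G) := (fun Q => x • Q) '' A with hB
  set C : Set (Sylow 3 G) := (fun Q => x⁻¹ • Q) '' A with hC
  have hAB : A ∩ B ⊆ {P} := by
    rintro β ⟨hβA, γ, hγA, rfl⟩
    have hγ : t • γ = γ := hγA
    have hβ : t • (x • γ) = x • γ := hβA
    rw [smul_smul, htx, ← smul_smul, hγ] at hβ
    have := key γ hβ.symm
    rw [Set.mem_singleton_iff, this]
    exact smul_eq_of_mem P x hx
  have hAC : A ∩ C ⊆ {P} := by
    rintro β ⟨hβA, γ, hγA, rfl⟩
    have hγ : t • γ = γ := hγA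
    have hβ : t • (x⁻¹ • γ) = x⁻¹ • γ := hβA
    rw [smul_smul, htx', ← smul_smul, hγ] at hβ
    have := key γ hβ
    rw [Set.mem_singleton_iff, this]
    exact smul_eq_of_mem P x⁻¹ hxinvP
  have hBC : (A ∪ B) ∩ C ⊆ {P} := by
    rintro β ⟨hβ | hβ, hβC⟩
    · exact hAC ⟨hβ, hβC⟩
    · obtain ⟨γ, hγA, rfl⟩ := hβ
      obtain ⟨γ', hγ'A, hγ'⟩ := hβC
      have hγ'' : x⁻¹ • γ' = x • γ := hγ'
      -- γ = x • γ'  (since x⁻¹ x⁻¹ = x)
      have h1 : γ = x • γ' := by
        have e1 : γ = x⁻¹ • (x⁻¹ • γ') := by rw [hγ'', inv_smul_smul]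
        have e2 : x⁻¹ • (x⁻¹ • γ') = x • γ' := by
          have : x • γ' = x⁻¹ • x⁻¹ • (x • x • x • γ') := by
            rw [inv_smul_smul, inv_smul_smul]
          rw [this, smul_smul x, smul_smul (x * x), ← pow_two, ← pow_succ, hxxx, one_smul]
        rw [e1, e2]
      have h2 : γ ∈ A ∩ B := ⟨hγA, γ', hγ'A, h1.symm⟩
      have h4 := hAB h2
      rw [Set.mem_singleton_iff] at h4 ⊢
      rw [h4]
      exact smul_eq_of_mem P x hx
  have hcB : B.ncard = A.ncard :=
    Set.ncard_image_of_injective A (MulAction.injective x)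
  have hcC : C.ncard = A.ncard :=
    Set.ncard_image_of_injective A (MulAction.injective x⁻¹)
  have e1 := Set.ncard_union_add_ncard_inter A B
  have e2 := Set.ncard_union_add_ncard_inter (A ∪ B) C
  have l1 : (A ∩ B).ncard ≤ 1 := by
    have := Set.ncard_le_ncard hAB
    rwa [Set.ncard_singleton] at this
  have l2 : ((A ∪ B) ∩ C).ncard ≤ 1 := by
    have := Set.ncard_le_ncard hBC
    rwa [Set.ncard_singleton] at this
  have l3 : (A ∪ B ∪ C).ncard ≤ 22 := by
    rw [← h22, ← Set.ncard_univ]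
    exact Set.ncard_le_ncard (Set.subset_univ _)
  omega

end card3

end Cfsg.Agent.Lib.Helper12.Hall22
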