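import Mathlib
import Cfsg.Agent.Lib.Helper12.Hall22A

/-!
helper12: M. Hall's theorem `n_3 ≠ 22`, endgame part B:
the centralizer of a point contains no element of order 5 and no involution.
-/

set_option autoImplicit false

open Subgroup MulAction
open scoped Pointwise

namespace Cfsg.Agent.Lib.Helper12.Hall22

open Cfsg.Agent.Lib.Helper8.Syl22

universe u

attribute [local instance] Cfsg.Agent.Lib.Helper8.Syl22.fact3

theorem fact5 : Fact (Nat.Prime 5) := ⟨by norm_num⟩
theorem fact7 : Fact (Nat.Prime 7) := ⟨by norm_num⟩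
theorem fact2 : Fact (Nat.Prime 2) := ⟨by norm_num⟩

/-- an even involution moves a multiple of four points -/
theorem four_dvd_support_of_sign {α : Type*} [Fintype α] [DecidableEq α] (σ : Equiv.Perm α)
    (h2 : orderOf σ = 2) (hs : Equiv.Perm.sign σ = 1) : 4 ∣ σ.support.card := by
  obtain ⟨n, hn⟩ := Equiv.Perm.cycleType_prime_order (σ := σ) (by rw [h2]; exact Nat.prime_two)
  rw [h2] at hn
  have hsum : σ.cycleType.sum = 2 * (n + 1) := by
    rw [hn, Multiset.sum_replicate, smul_eq_mul]; ring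
  rw [Equiv.Perm.sign_of_cycleType, hsum, hn, Multiset.card_replicate] at hs
  have hev : Even (2 * (n + 1) + (n + 1)) := by
    rwa [neg_one_pow_eq_one_iff_even (by decide)] at hs
  rw [← Equiv.Perm.sum_cycleType, hsum]
  obtain ⟨m, hm⟩ := hev
  exact ⟨m - n - 1 + (n + 1) - m + (n + 1) / 2, by omega⟩

variable {G : Type u} [Group G] [Finite G]

/-- a nonidentity element moves some point -/
theorem fixS_lt (h : MinCE G) (g : G) (hg : g ≠ 1) : (fixS g).ncard < 22 := by
  rw [← h.1, ← Set.ncard_univ]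
  apply Set.ncard_lt_ncard _ (Set.toFinite _)
  rw [Set.ssubset_univ_iff]
  intro huniv
  apply hg
  apply eq_one_of_smul_eq h
  intro Q
  have : Q ∈ fixS g := by rw [huniv]; trivial
  exact this

section card3

variable (h3 : ∀ P : Sylow 3 G, Nat.card P = 3)
include h3

/-- If `k` centralizes all the points it fixes, its centralizer is transitive on them. -/
theorem fixS_ncard_dvd (k : G)
    (hk : ∀ Q : Sylow 3 G, k • Q = Q → ∀ y ∈ (Q : Subgroup G), Commute k y)
    (P : Sylow 3 G) (hP : k • P = P) :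
    (fixS k).ncard ∣ Nat.card (centralizer ({k} : Set G)) := by
  set Z : Subgroup G := centralizer ({k} : Set G) with hZ
  have hmemZ : ∀ z : G, z ∈ Z ↔ Commute k z := by
    intro z
    rw [hZ, Subgroup.mem_centralizer_iff]
    constructor
    · intro hz; exact hz k rfl
    · intro hz a ha
      rw [Set.mem_singleton_iff] at ha
      rw [ha]; exact hz
  have hidx : (MulAction.stabilizer ↥Z P).index = (MulAction.orbit ↥Z P).ncard :=
    MulAction.index_stabilizer ↥Z P
  have hdvd : (MulAction.orbit ↥Z P).ncard ∣ Nat.card Z := by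
    rw [← hidx]; exact Subgroup.index_dvd_card _
  have hsub : MulAction.orbit ↥Z P ⊆ fixS k := by
    rintro Q ⟨z, rfl⟩
    show k • ((z : G) • P) = (z : G) • P
    have hz : Commute k (z : G) := (hmemZ z).mp z.2
    rw [smul_smul, hz.eq, ← smul_smul, hP]
  have hinv : ∀ y : G, y ∈ Z → ∀ Q ∈ MulAction.orbit ↥Z P, y • Q ∈ MulAction.orbit ↥Z P := by
    rintro y hy Q ⟨z, rfl⟩
    refine ⟨⟨y, hy⟩ * z, ?_⟩
    show ((y * (z : G)) • P) = y • ((z : G) • P)
    rw [smul_smul]
  have heq : MulAction.orbit ↥Z P = fixS k := by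
    apply Set.Subset.antisymm hsub
    intro γ hγ
    by_contra hγO
    have hγ' : k • γ = γ := hγ
    obtain ⟨x, hx, hx1⟩ := exists_gen h3 P
    obtain ⟨y, hy, hy1⟩ := exists_gen h3 γ
    have hxZ : x ∈ Z := (hmemZ x).mpr (hk P hP x hx)
    have hyZ : y ∈ Z := (hmemZ y).mpr (hk γ hγ' y hy)
    have hx3 : x ^ 3 ^ 1 = 1 := by rw [pow_one]; exact pow_three_eq_one h3 P x hx
    have hy3 : y ^ 3 ^ 1 = 1 := by rw [pow_one]; exact pow_three_eq_one h3 γ y hy
    have e1 := ncard_modEq_of_smul_invariant x 3 1 hx3 (MulAction.orbit ↥Z P) (hinv x hxZ)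
    have e2 := ncard_modEq_of_smul_invariant y 3 1 hy3 (MulAction.orbit ↥Z P) (hinv y hyZ)
    have s1 : {Q | Q ∈ MulAction.orbit ↥Z P ∧ x • Q = Q} = {P} := by
      ext Q
      simp only [Set.mem_ofPred_eq, Set.mem_singleton_iff]
      constructor
      · rintro ⟨_, hQ⟩; exact eq_of_smul_eq h3 P Q x hx hx1 hQ
      · rintro rfl
        exact ⟨MulAction.mem_orbit_self _, smul_eq_of_mem Q x hx⟩
    have s2 : {Q | Q ∈ MulAction.orbit ↥Z P ∧ y • Q = Q} = ∅ := by
      ext Q
      simp only [Set.mem_ofPred_eq, Set.mem_empty_iff_false, iff_false, not_and]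
      intro hQO hQ
      have := eq_of_smul_eq h3 γ Q y hy hy1 hQ
      rw [this] at hQO
      exact hγO hQO
    rw [s1, Set.ncard_singleton] at e1
    rw [s2, Set.ncard_empty] at e2
    unfold Nat.ModEq at e1 e2
    omega
  rw [← heq]
  exact hdvd

omit h3 in
theorem card_eq_mul_normalizer (h22 : Nat.card (Sylow 3 G) = 22) (P : Sylow 3 G) :
    Nat.card (normalizer ((P : Subgroup G) : Set G)) * 22 = Nat.card G := by
  have h1 := Subgroup.card_mul_index (normalizer ((P : Subgroup G) : Set G))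
  have h2 : (normalizer ((P : Subgroup G) : Set G)).index = 22 := by
    have := Sylow.card_eq_index_normalizer P
    rw [h22, ← Sylow.coe_coe] at this
    exact this.symm
  rw [h2] at h1
  exact h1

/-- (i) no element of order 5 centralizes a point -/
theorem no_five (h : MinCE G) (P : Sylow 3 G) (x : G) (hx : x ∈ (P : Subgroup G)) (hx1 : x ≠ 1)
    (k : G) (hk : Commute k x) (hk5 : orderOf k = 5) : False := by
  have := fact5
  have := fact7
  have hk1 : k ≠ 1 := by
    rintro rfl; rw [orderOf_one] at hk5; omega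
  have hk5' : k ^ 5 ^ 1 = 1 := by rw [pow_one, ← hk5]; exact pow_orderOf_eq_one k
  have hkP : k • P = P := smul_eq_of_commute h3 P x hx hx1 k hk
  -- number of fixed points of k
  have f1 := fixS_mod_three h3 P x hx hx1 k hk
  have f2 := ncard_fixS_modEq k 5 1 hk5'
  have f3 := fixS_lt h k hk1
  rw [h.1] at f2
  unfold Nat.ModEq at f2
  have hf : (fixS k).ncard = 7 := by omega
  -- k centralizes its fixed points
  have hcent : ∀ Q : Sylow 3 G, k • Q = Q → ∀ y ∈ (Q : Subgroup G), Commute k y := by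
    intro Q hQ y hy
    by_cases hy1 : y = 1
    · rw [hy1]; exact Commute.one_right k
    · exact commute_of_odd h3 Q y hy hy1 k hQ (by rw [hk5]; decide)
  have hdvd := fixS_ncard_dvd h3 k hcent P hkP
  rw [hf] at hdvd
  obtain ⟨⟨g, hgZ⟩, hg⟩ := exists_prime_orderOf_dvd_card' 7 hdvd
  have hg7 : orderOf g = 7 := by rw [← Subgroup.orderOf_mk g hgZ]; exact hg
  have hgk : Commute k g := by
    rw [Subgroup.mem_centralizer_iff] at hgZ
    exact hgZ k rfl
  have hg1 : g ≠ 1 := by
    rintro rfl; rw [orderOf_one] at hg7; omega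
  have hg7' : g ^ 7 ^ 1 = 1 := by rw [pow_one, ← hg7]; exact pow_orderOf_eq_one g
  -- S = complement of the fixed points of k
  set S : Set (Sylow 3 G) := (fixS k)ᶜ with hS
  have hScard : S.ncard = 15 := by
    rw [hS, Set.ncard_compl, hf, h.1]
  have hSg : ∀ Q ∈ S, g • Q ∈ S := by
    intro Q hQ hgQ
    apply hQ
    have h1 : k • (g • Q) = g • Q := hgQ
    rw [smul_smul, hgk.eq, ← smul_smul] at h1
    exact smul_left_cancel g h1
  have hSk : ∀ Q ∈ S, k • Q ∈ S := by
    intro Q hQ hkQ
    apply hQ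
    have h1 : k • (k • Q) = k • Q := hkQ
    exact smul_left_cancel k h1
  set T : Set (Sylow 3 G) := {Q | Q ∈ S ∧ g • Q = Q} with hT
  have e1 : S.ncard ≡ T.ncard [MOD 7] := ncard_modEq_of_smul_invariant g 7 1 hg7' S hSg
  rw [hScard] at e1
  have hTk : ∀ Q ∈ T, k • Q ∈ T := by
    rintro Q ⟨hQS, hQg⟩
    refine ⟨hSk Q hQS, ?_⟩
    rw [smul_smul, ← hgk.eq, ← smul_smul, hQg]
  have e2 := ncard_modEq_of_smul_invariant k 5 1 hk5' T hTk
  have s2 : {Q | Q ∈ T ∧ k • Q = Q} = ∅ := by
    ext Q
    simp only [Set.mem_ofPred_eq, Set.mem_empty_iff_false, iff_false, not_and]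
    rintro ⟨hQS, _⟩ hQ
    exact hQS hQ
  rw [s2, Set.ncard_empty] at e2
  have hTle : T.ncard ≤ 15 := by
    rw [← hScard]
    exact Set.ncard_le_ncard (fun Q hQ => hQ.1) (Set.toFinite _)
  unfold Nat.ModEq at e1 e2
  have hT15 : T.ncard = 15 := by omega
  -- fixed points of g
  have hTsub : T ⊆ fixS g := fun Q hQ => hQ.2
  have g1 : 15 ≤ (fixS g).ncard := by
    rw [← hT15]; exact Set.ncard_le_ncard hTsub (Set.toFinite _)
  have g2 := ncard_fixS_modEq g 7 1 hg7'
  rw [h.1] at g2
  unfold Nat.ModEq at g2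
  have g3 := fixS_lt h g hg1
  have hfg : (fixS g).ncard = 15 := by omega
  -- g centralizes a fixed point
  have hTne : T.Nonempty := by
    rw [← Set.ncard_pos (Set.toFinite _), hT15]; norm_num
  obtain ⟨β, hβ⟩ := hTne
  obtain ⟨y, hy, hy1⟩ := exists_gen h3 β
  have hgy : Commute g y := commute_of_odd h3 β y hy hy1 g hβ.2 (by rw [hg7]; decide)
  have g4 := fixS_mod_three h3 β y hy hy1 g hgy
  omega

/-- (ii) no involution centralizes a point -/
theorem no_invol (h : MinCE G) (P : Sylow 3 G) (x : G) (hx : x ∈ (P : Subgroup G)) (hx1 : x ≠ 1)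
    (t : G) (ht : Commute t x) (ht2 : orderOf t = 2) : False := by
  classical
  have := fact5
  have : Fintype (Sylow 3 G) := Fintype.ofFinite _
  have ht1 : t ≠ 1 := by
    rintro rfl; rw [orderOf_one] at ht2; omega
  have htP : t • P = P := smul_eq_of_commute h3 P x hx hx1 t ht
  have f1 := fixS_mod_three h3 P x hx hx1 t ht
  have f3 := fixS_lt h t ht1
  -- parity
  set σ : Equiv.Perm (Sylow 3 G) := MulAction.toPermHom G (Sylow 3 G) t with hσ
  have hsign : Equiv.Perm.sign σ = 1 := sign_eq_one h t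
  have hσ2 : orderOf σ = 2 := by
    apply orderOf_eq_prime
    · rw [hσ, ← map_pow, ← ht2, pow_orderOf_eq_one, map_one]
    · intro h1
      apply ht1
      apply eq_one_of_smul_eq h
      intro Q
      have := congrArg (fun τ : Equiv.Perm (Sylow 3 G) => τ Q) h1
      simpa [hσ] using this
  have h4 := four_dvd_support_of_sign σ hσ2 hsign
  have hfix : fixS t = ↑(σ.supportᶜ) := by
    ext Q
    rw [Finset.coe_compl, Set.mem_compl_iff, Finset.mem_coe, Equiv.Perm.mem_support, not_not]
    rfl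
  have hcard : (fixS t).ncard + σ.support.card = 22 := by
    rw [hfix, Set.ncard_coe_finset, Finset.card_compl, ← Nat.card_eq_fintype_card, h.1]
    have : σ.support.card ≤ 22 := by
      rw [← h.1, Nat.card_eq_fintype_card]; exact Finset.card_le_univ _
    omega
  have hf : (fixS t).ncard = 10 := by omega
  -- t centralizes its fixed points
  have hcent : ∀ Q : Sylow 3 G, t • Q = Q → ∀ y ∈ (Q : Subgroup G), Commute t y := by
    intro Q hQ y hy
    by_cases hy1 : y = 1
    · rw [hy1]; exact Commute.one_right t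
    · by_contra hnc
      have := fixS_le_eight h3 h.1 Q y hy hy1 t hQ hnc
      omega
  have hdvd := fixS_ncard_dvd h3 t hcent P htP
  rw [hf] at hdvd
  have h5G : 5 ∣ Nat.card G :=
    (Dvd.intro_left 2 rfl : (5 : ℕ) ∣ 10).trans (hdvd.trans (Subgroup.card_subgroup_dvd_card _))
  rw [← card_eq_mul_normalizer h.1 P] at h5G
  have h5N : 5 ∣ Nat.card (normalizer ((P : Subgroup G) : Set G)) :=
    Nat.Coprime.dvd_of_dvd_mul_right (by norm_num) h5G
  obtain ⟨⟨k, hkN⟩, hk⟩ := exists_prime_orderOf_dvd_card' 5 h5N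
  have hk5 : orderOf k = 5 := by rw [← Subgroup.orderOf_mk k hkN]; exact hk
  have hkP : k • P = P := smul_eq_iff.mpr hkN
  have hkx : Commute k x := commute_of_odd h3 P x hx hx1 k hkP (by rw [hk5]; decide)
  exact no_five h3 h P x hx hx1 k hkx hk5

end card3

end Cfsg.Agent.Lib.Helper12.Hall22
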