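import Mathlib
import Cfsg.Agent.Lib.Helper12.Hall22B

/-!
helper12: M. Hall's theorem `n_3 ≠ 22`, endgame part C:
the centralizer of a point has order dividing 21, its normalizer order dividing 42.
-/

set_option autoImplicit false

open Subgroup MulAction
open scoped Pointwise

namespace Cfsg.Agent.Lib.Helper12.Hall22

open Cfsg.Agent.Lib.Helper8.Syl22

universe u

attribute [local instance] Cfsg.Agent.Lib.Helper8.Syl22.fact3

variable {G : Type u} [Group G] [Finite G]

omit [Finite G] in
theorem mem_centralizer_singleton {x g : G} :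
    g ∈ centralizer ({x} : Set G) ↔ Commute g x := by
  rw [Subgroup.mem_centralizer_iff]
  constructor
  · intro hz; exact (hz x rfl).symm
  · intro hz a ha
    rw [Set.mem_singleton_iff] at ha
    rw [ha]; exact hz.symm

section card3

variable (h3 : ∀ P : Sylow 3 G, Nat.card P = 3)
include h3

theorem not_nine_dvd : ¬ 9 ∣ Nat.card G := by
  obtain ⟨P⟩ : Nonempty (Sylow 3 G) := inferInstance
  have h1 := Sylow.card_eq_multiplicity P
  rw [h3 P] at h1
  have h2 : (Nat.card G).factorization 3 = 1 := by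
    have : (3 : ℕ) ^ 1 = 3 ^ (Nat.card G).factorization 3 := by rw [pow_one]; exact h1
    exact (Nat.pow_right_injective (by norm_num : 2 ≤ 3) this).symm
  have h4 := Nat.pow_succ_factorization_not_dvd (n := Nat.card G) (p := 3)
    Nat.card_pos.ne' (by norm_num)
  rw [h2] at h4
  exact h4

/-- prime divisors of the order of the centralizer of a point -/
theorem prime_dvd_centralizer (h : MinCE G) (P : Sylow 3 G) (x : G) (hx : x ∈ (P : Subgroup G))
    (hx1 : x ≠ 1) (l : ℕ) (hl : l.Prime) (hdvd : l ∣ Nat.card (centralizer ({x} : Set G))) :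
    l = 3 ∨ l = 7 := by
  have : Fact l.Prime := ⟨hl⟩
  obtain ⟨⟨c, hcZ⟩, hc⟩ := exists_prime_orderOf_dvd_card' l hdvd
  have hcl : orderOf c = l := by rw [← Subgroup.orderOf_mk c hcZ]; exact hc
  have hcx : Commute c x := mem_centralizer_singleton.mp hcZ
  have hc1 : c ≠ 1 := by
    rintro rfl; rw [orderOf_one] at hcl; exact hl.one_lt.ne hcl
  by_cases h2 : l = 2
  · exact (no_invol h3 h P x hx hx1 c hcx (by rw [hcl, h2])).elim
  by_cases h5 : l = 5
  · exact (no_five h3 h P x hx hx1 c hcx (by rw [hcl, h5])).elim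
  by_cases h3' : l = 3
  · left; exact h3'
  right
  have hcl' : c ^ l ^ 1 = 1 := by rw [pow_one, ← hcl]; exact pow_orderOf_eq_one c
  have f1 := fixS_mod_three h3 P x hx hx1 c hcx
  have f2 := ncard_fixS_modEq c l 1 hcl'
  have f3 := fixS_lt h c hc1
  rw [h.1] at f2
  have f4 : l ∣ 22 - (fixS c).ncard := (Nat.modEq_iff_dvd' f3.le).mp f2.symm
  have f5 : 3 ∣ 22 - (fixS c).ncard := by omega
  have hcop : Nat.Coprime 3 l := by
    rw [Nat.coprime_primes (by norm_num) hl]
    exact fun e => h3' e.symm
  have f6 : 3 * l ∣ 22 - (fixS c).ncard := hcop.mul_dvd_of_dvd_of_dvd f5 f4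
  have f7 : 3 * l ≤ 22 - (fixS c).ncard := Nat.le_of_dvd (by omega) f6
  have hl7 : l ≤ 7 := by omega
  have hl2 := hl.two_le
  interval_cases l
  · exact absurd rfl h2
  · exact absurd rfl h3'
  · exact absurd hl (by norm_num)
  · exact absurd rfl h5
  · exact absurd hl (by norm_num)
  · rfl

theorem not_fortynine_dvd (h : MinCE G) (P : Sylow 3 G) (x : G) (hx : x ∈ (P : Subgroup G))
    (hx1 : x ≠ 1) : ¬ 49 ∣ Nat.card (centralizer ({x} : Set G)) := by
  intro h49
  have := fact7
  obtain ⟨K, hK⟩ := Sylow.exists_subgroup_card_pow_prime 7 (n := 2)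
    (G := ↥(centralizer ({x} : Set G))) (by norm_num; exact h49)
  -- nonidentity elements of K fix only P
  have hfix : ∀ u : ↥(centralizer ({x} : Set G)), u ∈ K → u ≠ 1 → fixS (u : G) = {P} := by
    intro u hu hu1
    have hux : Commute (u : G) x := mem_centralizer_singleton.mp u.2
    have hu1' : (u : G) ≠ 1 := fun e => hu1 (Subtype.ext e)
    have hu49 : (u : G) ^ 7 ^ 2 = 1 := by
      have h1 : orderOf (⟨u, hu⟩ : ↥K) ∣ 7 ^ 2 := by
        rw [← hK]; exact orderOf_dvd_natCard _
      have h2 : orderOf (u : G) ∣ 7 ^ 2 := by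
        rw [Subgroup.orderOf_mk] at h1
        rwa [Subgroup.orderOf_coe]
      exact orderOf_dvd_iff_pow_eq_one.mp h2
    have f1 := fixS_mod_three h3 P x hx hx1 (u : G) hux
    have f2 := ncard_fixS_modEq (u : G) 7 2 hu49
    have f3 := fixS_lt h (u : G) hu1'
    rw [h.1] at f2
    unfold Nat.ModEq at f2
    have f4 : (fixS (u : G)).ncard = 1 := by omega
    obtain ⟨a, ha⟩ := Set.ncard_eq_one.mp f4
    have hP : P ∈ fixS (u : G) := smul_eq_of_commute h3 P x hx hx1 (u : G) hux
    rw [ha] at hP ⊢
    rw [Set.mem_singleton_iff] at hP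
    rw [hP]
  -- a second point
  have hnt : Nontrivial (Sylow 3 G) := by
    rw [← Finite.one_lt_card_iff_nontrivial, h.1]; norm_num
  obtain ⟨Q, hQ⟩ := exists_ne P
  have hinj : Function.Injective (fun s : ↥K => ((s : ↥(centralizer ({x} : Set G))) : G) • Q) := by
    intro s s' hss
    have hss' : ((s : ↥(centralizer ({x} : Set G))) : G) • Q =
        ((s' : ↥(centralizer ({x} : Set G))) : G) • Q := hss
    by_contra hne
    have hu1 : (s⁻¹ * s' : ↥K) ≠ 1 := by
      intro e
      apply hne
      have : s' = s * (s⁻¹ * s') := by group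
      rw [this, e, mul_one]
    have hu1' : ((s⁻¹ * s' : ↥K) : ↥(centralizer ({x} : Set G))) ≠ 1 := fun e => hu1 (Subtype.ext e)
    have h1 := hfix _ (s⁻¹ * s' : ↥K).2 hu1'
    have h2 : Q ∈ fixS (((s⁻¹ * s' : ↥K) : ↥(centralizer ({x} : Set G))) : G) := by
      show (((s⁻¹ * s' : ↥K) : ↥(centralizer ({x} : Set G))) : G) • Q = Q
      push_cast
      rw [← smul_smul, ← hss', inv_smul_smul]
    rw [h1, Set.mem_singleton_iff] at h2
    exact hQ h2
  have hle := Nat.card_le_card_of_injective _ hinj
  rw [hK, h.1] at hle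
  omega

theorem card_centralizer_dvd (h : MinCE G) (P : Sylow 3 G) (x : G) (hx : x ∈ (P : Subgroup G))
    (hx1 : x ≠ 1) : Nat.card (centralizer ({x} : Set G)) ∣ 21 := by
  rw [Nat.dvd_iff_prime_pow_dvd_dvd]
  intro l k hl hlk
  rcases k with _ | k
  · simp
  have hl1 : l ∣ Nat.card (centralizer ({x} : Set G)) :=
    (dvd_pow_self l (Nat.succ_ne_zero k)).trans hlk
  have hk0 : k = 0 := by
    by_contra hk
    have hk2 : l ^ 2 ∣ l ^ (k + 1) := pow_dvd_pow l (by omega)
    rcases prime_dvd_centralizer h3 h P x hx hx1 l hl hl1 with rfl | rfl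
    · exact not_nine_dvd h3 ((hk2.trans hlk).trans (Subgroup.card_subgroup_dvd_card _))
    · exact not_fortynine_dvd h3 h P x hx hx1 (hk2.trans hlk)
  subst hk0
  rcases prime_dvd_centralizer h3 h P x hx hx1 l hl hl1 with rfl | rfl
  · norm_num
  · norm_num

/-- the sign character of the action of `N(P)` on `P` -/
noncomputable def signHom (P : Sylow 3 G) (x : G) (hx : x ∈ (P : Subgroup G)) (hx1 : x ≠ 1) :
    ↥(normalizer ((P : Subgroup G) : Set G)) →* ℤˣ := by
  classical
  exact MonoidHom.mk' (fun g => if (g : G) * x * (g : G)⁻¹ = x then 1 else -1) (by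
    intro g g'
    have hxx : x⁻¹ ≠ x := by
      intro e
      apply hx1
      have hx3 := pow_three_eq_one h3 P x hx
      have : x * x = 1 := by
        calc x * x = x⁻¹ * x := by rw [e]
          _ = 1 := inv_mul_cancel x
      calc x = x ^ 3 * (x * x)⁻¹ := by group
        _ = 1 := by rw [hx3, this]; group
    have e0 : ((g * g' : ↥(normalizer ((P : Subgroup G) : Set G))) : G) * x *
        ((g * g' : ↥(normalizer ((P : Subgroup G) : Set G))) : G)⁻¹ =
        (g : G) * ((g' : G) * x * (g' : G)⁻¹) * (g : G)⁻¹ := by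
      push_cast; group
    have einv : (g : G) * x⁻¹ * (g : G)⁻¹ = ((g : G) * x * (g : G)⁻¹)⁻¹ := by group
    rcases conj_cases h3 P x hx hx1 (g' : G) (smul_eq_iff.mpr g'.2) with h' | h' <;>
    rcases conj_cases h3 P x hx hx1 (g : G) (smul_eq_iff.mpr g.2) with h1 | h1
    · simp only [e0, h', h1, if_true, mul_one]
    · simp only [e0, h', h1, hxx, if_true, if_false, mul_one]
    · simp only [e0, h', einv, h1, hxx, if_true, if_false, one_mul]
    · simp only [e0, h', einv, h1, inv_inv, hxx, if_true, if_false]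
      decide)

theorem signHom_ker (P : Sylow 3 G) (x : G) (hx : x ∈ (P : Subgroup G)) (hx1 : x ≠ 1) :
    (signHom h3 P x hx hx1).ker =
      (centralizer ({x} : Set G)).subgroupOf (normalizer ((P : Subgroup G) : Set G)) := by
  classical
  ext g
  rw [MonoidHom.mem_ker, Subgroup.mem_subgroupOf, mem_centralizer_singleton]
  show (if (g : G) * x * (g : G)⁻¹ = x then (1 : ℤˣ) else -1) = 1 ↔ _
  constructor
  · intro hg
    by_cases hc : (g : G) * x * (g : G)⁻¹ = x
    · show (g : G) * x = x * (g : G)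
      calc (g : G) * x = ((g : G) * x * (g : G)⁻¹) * (g : G) := by group
        _ = x * (g : G) := by rw [hc]
    · rw [if_neg hc] at hg
      exact absurd hg (by decide)
  · intro hg
    have hc : (g : G) * x * (g : G)⁻¹ = x := by
      rw [hg.eq]; group
    rw [if_pos hc]

theorem card_normalizer_dvd (h : MinCE G) (P : Sylow 3 G) :
    Nat.card (normalizer ((P : Subgroup G) : Set G)) ∣ 42 := by
  obtain ⟨x, hx, hx1⟩ := exists_gen h3 P
  set φ := signHom h3 P x hx hx1 with hφ
  have hle : centralizer ({x} : Set G) ≤ normalizer ((P : Subgroup G) : Set G) := by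
    intro g hg
    rw [← smul_eq_iff]
    exact smul_eq_of_commute h3 P x hx hx1 g (mem_centralizer_singleton.mp hg)
  have h1 : Nat.card φ.ker = Nat.card (centralizer ({x} : Set G)) := by
    rw [hφ, signHom_ker]
    exact Nat.card_congr (Subgroup.subgroupOfEquivOfLe hle).toEquiv
  have h2 : Nat.card φ.range ∣ 2 := by
    have := Subgroup.card_subgroup_dvd_card φ.range
    rwa [Nat.card_eq_fintype_card (α := ℤˣ), Fintype.card_units_int] at this
  have h4 : Nat.card (normalizer ((P : Subgroup G) : Set G)) =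
      Nat.card φ.range * Nat.card φ.ker := by
    rw [Subgroup.card_eq_card_quotient_mul_card_subgroup φ.ker]
    congr 1
    exact Nat.card_congr (QuotientGroup.quotientKerEquivRange φ).toEquiv
  rw [h4, h1]
  have := Nat.mul_dvd_mul h2 (card_centralizer_dvd h3 h P x hx hx1)
  simpa using this

end card3

end Cfsg.Agent.Lib.Helper12.Hall22
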