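import Mathlib
import Cfsg.Agent.Lib.Helper12.Hall22C

/-!
helper12: M. Hall's theorem `n_3 ≠ 22`, endgame part D:
the Sylow 11-subgroup gives the final contradiction.
-/

set_option autoImplicit false

open Subgroup MulAction
open scoped Pointwise

namespace Cfsg.Agent.Lib.Helper12.Hall22

open Cfsg.Agent.Lib.Helper8.Syl22

universe u

attribute [local instance] Cfsg.Agent.Lib.Helper8.Syl22.fact3

theorem fact11 : Fact (Nat.Prime 11) := ⟨by norm_num⟩

set_option maxRecDepth 100000 in
theorem zmod11_pow : ∀ a : ZMod 11, a ^ 77 = 1 → a = 1 := by decide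

theorem sylow_count_cases : ∀ n : ℕ, n ∣ 84 → n % 11 = 1 → n = 1 ∨ n = 12 := by
  intro n hn h11
  have hle : n ≤ 84 := Nat.le_of_dvd (by norm_num) hn
  interval_cases n <;> omega

variable {G : Type u} [Group G] [Finite G]

omit [Finite G] in
theorem conj_pow_pow (g r : G) (a : ℕ) (h : g * r * g⁻¹ = r ^ a) (m : ℕ) :
    g ^ m * r * (g ^ m)⁻¹ = r ^ (a ^ m) := by
  induction m with
  | zero => simp
  | succ m ih =>
    have e : g ^ (m + 1) * r * (g ^ (m + 1))⁻¹ = g * (g ^ m * r * (g ^ m)⁻¹) * g⁻¹ := by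
      rw [pow_succ']; group
    rw [e, ih]
    have e2 : g * r ^ a ^ m * g⁻¹ = (g * r * g⁻¹) ^ (a ^ m) := by
      rw [_root_.conj_pow]
    rw [e2, h, ← pow_mul, pow_succ']

omit [Finite G] in
theorem conjPerm_pow (x : G) (n : ℕ) (g : G) :
    (((MulAut.conj x).toEquiv : Equiv.Perm G) ^ n) g = x ^ n * g * (x ^ n)⁻¹ := by
  induction n generalizing g with
  | zero => simp
  | succ n ih =>
    rw [pow_succ, Equiv.Perm.mul_apply, ih]
    show x ^ n * (x * g * x⁻¹) * (x ^ n)⁻¹ = _
    rw [pow_succ]; group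

/-- **Endgame** of `n_3 ≠ 22`: no minimal counterexample has Sylow 3-subgroups of order 3. -/
theorem endgame (h : MinCE G) (h3 : ∀ P : Sylow 3 G, Nat.card P = 3) : False := by
  have := fact11
  obtain ⟨P⟩ : Nonempty (Sylow 3 G) := inferInstance
  obtain ⟨x, hx, hx1⟩ := exists_gen h3 P
  have hN42 := card_normalizer_dvd h3 h P
  have hGN := card_eq_mul_normalizer h.1 P
  have hG924 : Nat.card G ∣ 924 := by
    rw [← hGN]
    exact Nat.mul_dvd_mul hN42 (dvd_refl 22)
  have h11G : 11 ∣ Nat.card G := by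
    rw [← hGN]; exact Dvd.intro_left (Nat.card _ * 2) (by ring)
  obtain ⟨R⟩ : Nonempty (Sylow 11 G) := inferInstance
  have hRcard : Nat.card (R : Subgroup G) = 11 := by
    obtain ⟨k, hk⟩ := R.2.exists_card_eq
    have h1 : 11 ∣ Nat.card (R : Subgroup G) := R.dvd_card_of_dvd_card h11G
    have h2 : Nat.card (R : Subgroup G) ∣ 924 := (Subgroup.card_subgroup_dvd_card _).trans hG924
    rw [hk] at h1 h2 ⊢
    rcases k with _ | _ | k
    · simp at h1
    · simp
    · exfalso
      have : (121 : ℕ) ∣ 11 ^ (k + 1 + 1) := ⟨11 ^ k, by ring⟩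
      have := this.trans h2
      omega
  -- elements of R
  have hRord : ∀ r ∈ (R : Subgroup G), r ≠ 1 → orderOf r = 11 := by
    intro r hr hr1
    have h1 : orderOf r ∣ 11 := by
      have := Subgroup.orderOf_dvd_natCard (R : Subgroup G) hr
      rwa [hRcard] at this
    rcases (Nat.dvd_prime (by norm_num : Nat.Prime 11)).mp h1 with h' | h'
    · exact absurd (orderOf_eq_one_iff.mp h') hr1
    · exact h'
  have hcent21 := card_centralizer_dvd h3 h P x hx hx1
  -- number of Sylow 11-subgroups
  have hn1 : Nat.card (Sylow 11 G) % 11 = 1 := by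
    have := card_sylow_modEq_one 11 G
    unfold Nat.ModEq at this
    omega
  have hidx : (R : Subgroup G).index ∣ 84 := by
    have h1 := Subgroup.card_mul_index (R : Subgroup G)
    rw [hRcard] at h1
    have h2 : 11 * (R : Subgroup G).index ∣ 11 * 84 := by rw [h1]; exact hG924
    exact Nat.dvd_of_mul_dvd_mul_left (by norm_num) h2
  have hn2 : Nat.card (Sylow 11 G) ∣ 84 := (Sylow.card_dvd_index R).trans hidx
  have hNidx : (normalizer ((R : Subgroup G) : Set G)).index = Nat.card (Sylow 11 G) := by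
    have := Sylow.card_eq_index_normalizer R
    rw [← Sylow.coe_coe] at this
    exact this.symm
  rcases sylow_count_cases _ hn2 hn1 with hn | hn
  · -- R is normal
    rw [hn, Subgroup.index_eq_one] at hNidx
    have hnorm : ∀ g r : G, r ∈ (R : Subgroup G) → g * r * g⁻¹ ∈ (R : Subgroup G) := by
      intro g r hr
      have hg : g ∈ normalizer ((R : Subgroup G) : Set G) := by rw [hNidx]; trivial
      exact (Subgroup.mem_normalizer_iff.mp hg r).mp hr
    set σ : Equiv.Perm G := (MulAut.conj x).toEquiv with hσ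
    have hσ3 : σ ^ 3 ^ 1 = 1 := by
      ext g
      rw [pow_one, hσ, conjPerm_pow, pow_three_eq_one h3 P x hx]
      simp
    set S : Set G := {r | r ∈ (R : Subgroup G) ∧ r ≠ 1} with hS
    have hSinv : ∀ r ∈ S, σ r ∈ S := by
      rintro r ⟨hr, hr1⟩
      refine ⟨hnorm x r hr, ?_⟩
      intro e
      apply hr1
      have e' : x * r * x⁻¹ = 1 := e
      calc r = x⁻¹ * (x * r * x⁻¹) * x := by group
        _ = 1 := by rw [e']; group
    have hScard : S.ncard = 10 := by
      have h1 : S = ((R : Subgroup G) : Set G) \ {1} := by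
        ext r
        constructor
        · rintro ⟨hr, hr1⟩; exact ⟨hr, hr1⟩
        · rintro ⟨hr, hr1⟩; exact ⟨hr, hr1⟩
      rw [h1, Set.ncard_sdiff_singleton_of_mem (one_mem _)]
      have : (((R : Subgroup G) : Set G)).ncard = 11 := by
        show Nat.card ↥((R : Subgroup G) : Set G) = 11
        exact hRcard
      rw [this]
    have e1 := ncard_modEq_of_invariant σ 3 1 hσ3 S hSinv
    rw [hScard] at e1
    unfold Nat.ModEq at e1
    have hne : {a | a ∈ S ∧ σ a = a}.Nonempty := by
      rw [← Set.ncard_pos (Set.toFinite _)]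
      omega
    obtain ⟨r, ⟨hr, hr1⟩, hrx⟩ := hne
    have hrx' : x * r * x⁻¹ = r := hrx
    have hcomm : Commute r x := by
      show r * x = x * r
      calc r * x = (x * r * x⁻¹) * x := by rw [hrx']
        _ = x * r := by group
    have hrC : r ∈ centralizer ({x} : Set G) := mem_centralizer_singleton.mpr hcomm
    have h1 : orderOf r ∣ 21 :=
      (Subgroup.orderOf_dvd_natCard _ hrC).trans hcent21
    rw [hRord r hr hr1] at h1
    omega
  · -- twelve Sylow 11-subgroups
    set NR : Subgroup G := normalizer ((R : Subgroup G) : Set G) with hNR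
    have hNRcard : Nat.card NR ∣ 77 := by
      have h1 := Subgroup.card_mul_index NR
      rw [hNidx, hn] at h1
      have h2 : Nat.card NR * 6 = Nat.card (normalizer ((P : Subgroup G) : Set G)) * 11 := by
        omega
      have h4 : Nat.card NR * 6 ∣ 77 * 6 := by
        have e : (77 * 6 : ℕ) = 42 * 11 := by norm_num
        rw [h2, e]
        exact Nat.mul_dvd_mul hN42 (dvd_refl 11)
      exact Nat.dvd_of_mul_dvd_mul_right (by norm_num) h4
    -- a generator of R
    have hR1 : 1 < Nat.card (R : Subgroup G) := by rw [hRcard]; norm_num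
    rw [Subgroup.one_lt_card_iff_ne_bot] at hR1
    obtain ⟨ρ, hρ, hρ1⟩ : ∃ ρ ∈ (R : Subgroup G), ρ ≠ 1 := by
      rcases Subgroup.bot_or_exists_ne_one (R : Subgroup G) with h' | h'
      · exact absurd h' hR1
      · exact h'
    have hρ11 := hRord ρ hρ hρ1
    have hzp : zpowers ρ = (R : Subgroup G) := by
      apply Subgroup.eq_of_le_of_card_ge
      · rw [zpowers_le]; exact hρ
      · rw [Nat.card_zpowers, hρ11, hRcard]
    have hNC : normalizer ((R : Subgroup G) : Set G) ≤ centralizer ((R : Subgroup G) : Set G) := by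
      intro g hg
      have h1 : g * ρ * g⁻¹ ∈ (R : Subgroup G) := (Subgroup.mem_normalizer_iff.mp hg ρ).mp hρ
      rw [← hzp, ← mem_powers_iff_mem_zpowers] at h1
      obtain ⟨a, ha⟩ := h1
      have ha' : g * ρ * g⁻¹ = ρ ^ a := ha.symm
      have hg77 : g ^ 77 = 1 := by
        have h2 : orderOf g ∣ 77 := (Subgroup.orderOf_dvd_natCard _ hg).trans hNRcard
        exact orderOf_dvd_iff_pow_eq_one.mp h2
      have h5 := conj_pow_pow g ρ a ha' 77
      rw [hg77] at h5
      have h6 : ρ ^ (a ^ 77) = ρ ^ 1 := by rw [← h5]; simp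
      rw [pow_eq_pow_iff_modEq, hρ11] at h6
      have h7 : ((a ^ 77 : ℕ) : ZMod 11) = ((1 : ℕ) : ZMod 11) :=
        (ZMod.natCast_eq_natCast_iff _ _ _).mpr h6
      push_cast at h7
      have h8 := zmod11_pow _ h7
      have h9 : a ≡ 1 [MOD 11] := by
        rw [← ZMod.natCast_eq_natCast_iff]; simpa using h8
      have h10 : ρ ^ a = ρ ^ 1 := by
        rw [pow_eq_pow_iff_modEq, hρ11]; exact h9
      rw [pow_one] at h10
      have hgρ : g * ρ = ρ * g := by
        calc g * ρ = (g * ρ * g⁻¹) * g := by group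
          _ = ρ * g := by rw [ha', h10]
      rw [Subgroup.mem_centralizer_iff]
      intro r hr
      have hr' : r ∈ zpowers ρ := by rw [hzp]; exact hr
      obtain ⟨m, rfl⟩ := mem_zpowers_iff.mp hr'
      exact ((Commute.zpow_right (show Commute g ρ from hgρ) m).eq).symm
    have hcompl := MonoidHom.ker_transferSylow_isComplement' R hNC
    set K : Subgroup G := (MonoidHom.transferSylow R hNC).ker with hK
    have hKidx : K.index = 11 := by
      rw [hcompl.symm.index_eq_card, hRcard]
    have : K.Normal := by rw [hK]; infer_instance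
    have htop := normal_eq_top h K (by rw [hKidx]; norm_num)
    rw [htop, Subgroup.index_top] at hKidx
    omega

end Cfsg.Agent.Lib.Helper12.Hall22
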