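import Mathlib

/-!
Helper lemmas (helper12): existence of a Sylow `3`-subgroup normalized by an involution `d`, in a
group `G` with normal subgroups `Q ≤ L`, `Q` a `2`-group, `L/Q` a `3`-group, `G/L` of exponent `2`,
such that `d` centralizes, modulo `Q`, only what `C_G(d)` covers.
-/

set_option autoImplicit false
set_option linter.unusedSectionVars false

open Subgroup

namespace Cfsg.Agent.Lib.Helper12.InvSyl

variable {G : Type*} [Group G]

/-- if `X/N` is a `p`-group, then `X = N S` for every Sylow `p`-subgroup `S` -/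
theorem sup_sylow_eq_top {X : Type*} [Group X] [Finite X] {p : ℕ} [Fact p.Prime]
    (N : Subgroup X) [N.Normal] (hN : ∀ x : X, ∃ k : ℕ, x ^ (p ^ k) ∈ N) (S : Sylow p X) :
    N ⊔ (S : Subgroup X) = ⊤ := by
  have hq : IsPGroup p (X ⧸ N) := by
    intro y
    induction y using QuotientGroup.induction_on with
    | H x =>
      obtain ⟨k, hk⟩ := hN x
      refine ⟨k, ?_⟩
      rw [← QuotientGroup.mk_pow]
      exact (QuotientGroup.eq_one_iff _).mpr hk
  obtain ⟨b, hb⟩ := IsPGroup.iff_card.mp hq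
  have hidx : N.index = p ^ b := by rw [Subgroup.index_eq_card]; exact hb
  have h1 : (N ⊔ (S : Subgroup X)).index ∣ p ^ b := by
    rw [← hidx]; exact Subgroup.index_dvd_of_le le_sup_left
  have h2 : (N ⊔ (S : Subgroup X)).index ∣ (S : Subgroup X).index :=
    Subgroup.index_dvd_of_le le_sup_right
  obtain ⟨j, -, hj⟩ := (Nat.dvd_prime_pow (Fact.out : p.Prime)).mp h1
  rw [← Subgroup.index_eq_one, hj]
  rcases Nat.eq_zero_or_pos j with h0 | hpos
  · rw [h0, pow_zero]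
  · exfalso
    apply S.not_dvd_index
    refine dvd_trans ?_ h2
    rw [hj]
    exact dvd_pow_self p (by omega)

/-- an element that is both a `2`-element and a `3`-element is trivial -/
theorem eq_one_of_two_three {x : G} {a b : ℕ} (h2 : x ^ (2 ^ a) = 1) (h3 : x ^ (3 ^ b) = 1) :
    x = 1 := by
  have h1 : orderOf x ∣ Nat.gcd (2 ^ a) (3 ^ b) :=
    Nat.dvd_gcd (orderOf_dvd_of_pow_eq_one h2) (orderOf_dvd_of_pow_eq_one h3)
  have h4 : Nat.Coprime (2 ^ a) (3 ^ b) := Nat.Coprime.pow a b (by norm_num)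
  rw [h4] at h1
  exact orderOf_eq_one_iff.mp (Nat.dvd_one.mp h1)

theorem mem_normalizer_sup {H K : Subgroup G} {d : G} (hH : d ∈ normalizer (H : Set G))
    (hK : d ∈ normalizer (K : Set G)) : d ∈ normalizer ((H ⊔ K : Subgroup G) : Set G) := by
  rw [Subgroup.mem_normalizer_iff_map_conj_eq] at hH hK ⊢
  rw [Subgroup.map_sup, hH, hK]

/-- **Invariant Sylow `3`-subgroup.**  `Q ≤ L` normal in `G`, `Q` a `2`-group, `L/Q` a `3`-group,
all squares in `L`; `d` an involution such that every `c ∈ L` with `[c, d] ∈ Q` lies in `C_G(d) Q`.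
Then `d` normalizes a Sylow `3`-subgroup of `G`. -/
theorem exists_invariant_sylow_three [Finite G] (Q L : Subgroup G)
    [hQn : Q.Normal] [hLn : L.Normal] (hQ : IsPGroup 2 Q) (hQL : Q ≤ L)
    (hL3 : ∀ g ∈ L, ∃ k : ℕ, g ^ (3 ^ k) ∈ Q) (hG2 : ∀ g : G, g * g ∈ L)
    {d : G} (hdd : d * d = 1)
    (hB : ∀ c ∈ L, c⁻¹ * d * c * d ∈ Q → ∃ q ∈ Q, Commute (c * q) d) :
    ∃ P : Sylow 3 G, d ∈ normalizer ((P : Subgroup G) : Set G) := by
  classical
  have : Fact (Nat.Prime 3) := ⟨Nat.prime_three⟩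
  have hdi : d⁻¹ = d := inv_eq_of_mul_eq_one_right hdd
  -- `3`-elements lie in `L`
  have h3L : ∀ x : G, ∀ k : ℕ, x ^ (3 ^ k) = 1 → x ∈ L := by
    intro x k hk
    have hodd : Odd (3 ^ k) := Odd.pow (by decide)
    obtain ⟨m, hm⟩ := hodd
    have h1 : x = (x * x) ^ (m + 1) := by
      rw [← pow_two, ← pow_mul]
      have h2 : 2 * (m + 1) = 3 ^ k + 1 := by omega
      rw [h2, pow_succ, hk, one_mul]
    rw [h1]
    exact L.pow_mem (hG2 x) _
  -- elements of `Q` are `2`-elements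
  have hQ2 : ∀ x ∈ Q, ∃ a : ℕ, x ^ (2 ^ a) = 1 := by
    intro x hx
    obtain ⟨a, ha⟩ := hQ ⟨x, hx⟩
    refine ⟨a, ?_⟩
    have := congrArg Subtype.val ha
    simpa using this
  -- a Sylow `3`-subgroup of `C_L(d)`
  set Cd : Subgroup G := centralizer ({d} : Set G) with hCd
  set X : Subgroup G := Cd ⊓ L with hX
  let N : Subgroup X := Q.subgroupOf X
  have : N.Normal := Subgroup.normal_subgroupOf
  have hN : ∀ x : X, ∃ k : ℕ, x ^ (3 ^ k) ∈ N := by
    intro x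
    obtain ⟨k, hk⟩ := hL3 x.1 x.2.2
    refine ⟨k, ?_⟩
    rw [Subgroup.mem_subgroupOf]
    simpa using hk
  let S : Sylow 3 X := default
  have hNS := sup_sylow_eq_top N hN S
  set K : Subgroup G := (S : Subgroup X).map X.subtype with hK
  have hK3 : IsPGroup 3 K := S.2.map _
  have hKX : K ≤ X := Subgroup.map_subtype_le _
  have hKC : ∀ k ∈ K, d * k * d = k := by
    intro k hk
    have h1 : k ∈ Cd := (hKX hk).1
    rw [hCd, Subgroup.mem_centralizer_iff] at h1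
    have h2 := h1 d (Set.mem_singleton d)
    rw [h2, mul_assoc, hdd, mul_one]
  have hXK : ∀ c ∈ X, ∃ n ∈ Q, ∃ k ∈ K, c = n * k := by
    intro c hc
    have h1 : (⟨c, hc⟩ : X) ∈ N ⊔ (S : Subgroup X) := by rw [hNS]; exact Subgroup.mem_top _
    obtain ⟨n, hn, s, hs, hns⟩ := Subgroup.mem_sup_of_normal_left.mp h1
    refine ⟨n.1, Subgroup.mem_subgroupOf.mp hn, s.1, ⟨s, hs, rfl⟩, ?_⟩
    have := congrArg Subtype.val hns
    simpa using this.symm
  -- a maximal `d`-invariant `3`-subgroup containing `K`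
  let 𝒮 : Set (Subgroup G) := {R | IsPGroup 3 R ∧ d ∈ normalizer (R : Set G) ∧ K ≤ R}
  have hKn : d ∈ normalizer (K : Set G) := by
    rw [Subgroup.mem_normalizer_iff]
    intro h
    constructor
    · intro hh
      have := hKC h hh
      rw [hdi, this]; exact hh
    · intro hh
      have h1 := hKC _ hh
      rw [hdi] at hh h1
      have h2 : d * (d * h * d) * d = h := by
        calc d * (d * h * d) * d = (d * d) * h * (d * d) := by group
          _ = h := by rw [hdd, one_mul, mul_one]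
      rw [h2] at h1
      rw [h1]; exact hh
  have hne : 𝒮.Nonempty := ⟨K, hK3, hKn, le_refl K⟩
  obtain ⟨P₀, hP₀S, hP₀max⟩ := (wellFounded_gt (α := Subgroup G)).has_min 𝒮 hne
  obtain ⟨hP₀3, hP₀d, hKP₀⟩ := hP₀S
  have hmax : ∀ R : Subgroup G, IsPGroup 3 R → d ∈ normalizer (R : Set G) → P₀ ≤ R → R = P₀ := by
    intro R hR hdR hPR
    by_contra hne'
    exact hP₀max R ⟨hR, hdR, hKP₀.trans hPR⟩ (lt_of_le_of_ne hPR (Ne.symm hne'))
  obtain ⟨P, hP₀P⟩ := hP₀3.exists_le_sylow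
  have hP3 : ∀ x ∈ (P : Subgroup G), ∃ k : ℕ, x ^ (3 ^ k) = 1 := by
    intro x hx
    obtain ⟨k, hk⟩ := P.2 ⟨x, hx⟩
    refine ⟨k, ?_⟩
    have := congrArg Subtype.val hk
    simpa using this
  have hPL : (P : Subgroup G) ≤ L := by
    intro x hx
    obtain ⟨k, hk⟩ := hP3 x hx
    exact h3L x k hk
  by_cases hPP : P₀ = (P : Subgroup G)
  · exact ⟨P, by rw [← hPP]; exact hP₀d⟩
  exfalso
  -- normalizers grow
  have : Group.IsNilpotent ↥(P : Subgroup G) := P.2.isNilpotent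
  have hnc : NormalizerCondition ↥(P : Subgroup G) := Group.normalizerCondition_of_isNilpotent
  have hlt : P₀.subgroupOf (P : Subgroup G) < ⊤ := by
    rw [lt_top_iff_ne_top, Ne, Subgroup.subgroupOf_eq_top]
    intro h
    exact hPP (le_antisymm hP₀P h)
  obtain ⟨g', hgN, hgP₀⟩ := SetLike.exists_of_lt (hnc _ hlt)
  rw [← Subgroup.subgroupOf_normalizer_eq hP₀P, Subgroup.mem_subgroupOf] at hgN
  rw [Subgroup.mem_subgroupOf] at hgP₀
  obtain ⟨g, hgP⟩ := g'
  simp only at hgN hgP₀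
  have hgL : g ∈ L := hPL hgP
  -- the element `w = g⁻¹ g^d`
  set w : G := g⁻¹ * (d * g * d) with hw
  have hwd : d * w * d = w⁻¹ := by
    rw [hw, mul_inv_rev, mul_inv_rev, mul_inv_rev, inv_inv, hdi]
    calc d * (g⁻¹ * (d * g * d)) * d = d * g⁻¹ * d * g * (d * d) := by group
      _ = d * g⁻¹ * d * g := by rw [hdd, mul_one]
      _ = d * (g⁻¹ * d) * g := by group
  have hpowd : ∀ n : ℕ, d * w ^ n * d = (w ^ n)⁻¹ := by
    intro n
    have h1 : d * w ^ n * d = (d * w * d⁻¹) ^ n := by rw [conj_pow, hdi]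
    rw [h1, hdi, hwd, inv_pow]
  have hzpowd : ∀ n : ℤ, d * w ^ n * d = (w ^ n)⁻¹ := by
    intro n
    have h1 : d * w ^ n * d = (d * w * d⁻¹) ^ n := by rw [conj_zpow, hdi]
    rw [h1, hdi, hwd, inv_zpow]
  have hwN : w ∈ normalizer (P₀ : Set G) := by
    rw [hw]
    exact mul_mem (inv_mem hgN) (mul_mem (mul_mem hP₀d hgN) hP₀d)
  have hwL : w ∈ L := by
    rw [hw]
    refine mul_mem (inv_mem hgL) ?_
    have := hLn.conj_mem g hgL d
    rwa [hdi] at this
  obtain ⟨k, hk⟩ := hL3 w hwL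
  obtain ⟨a, ha⟩ := hQ2 _ hk
  -- the `3`-part
  have hw3 : (w ^ (2 ^ a)) ^ (3 ^ k) = 1 := by
    rw [← pow_mul, mul_comm, pow_mul]; exact ha
  have hw3N : w ^ (2 ^ a) ∈ normalizer (P₀ : Set G) := pow_mem hwN _
  have hw3P₀ : w ^ (2 ^ a) ∈ P₀ := by
    set R : Subgroup G := P₀ ⊔ zpowers (w ^ (2 ^ a)) with hR
    have hz3 : IsPGroup 3 (zpowers (w ^ (2 ^ a))) := by
      rintro ⟨y, hy⟩
      obtain ⟨i, rfl⟩ := Subgroup.mem_zpowers_iff.mp hy
      refine ⟨k, ?_⟩
      apply Subtype.ext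
      simp only [SubmonoidClass.mk_pow, OneMemClass.coe_one]
      rw [← zpow_natCast, ← zpow_mul, mul_comm, zpow_mul, zpow_natCast, hw3, one_zpow]
    have hR3 : IsPGroup 3 R :=
      IsPGroup.to_sup_of_normal_left' hP₀3 hz3 (by rw [Subgroup.zpowers_le]; exact hw3N)
    have hzd : d ∈ normalizer ((zpowers (w ^ (2 ^ a)) : Subgroup G) : Set G) := by
      rw [Subgroup.mem_normalizer_iff]
      have key : ∀ h : G, h ∈ zpowers (w ^ (2 ^ a)) → d * h * d ∈ zpowers (w ^ (2 ^ a)) := by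
        intro h hh
        obtain ⟨i, rfl⟩ := Subgroup.mem_zpowers_iff.mp hh
        rw [← zpow_natCast, ← zpow_mul, hzpowd, zpow_mul, zpow_natCast]
        exact inv_mem (Subgroup.zpow_mem_zpowers _ _)
      intro h
      rw [hdi]
      constructor
      · exact key h
      · intro hh
        have h1 := key _ hh
        have h2 : d * (d * h * d) * d = h := by
          calc d * (d * h * d) * d = (d * d) * h * (d * d) := by group
            _ = h := by rw [hdd, one_mul, mul_one]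
        rwa [h2] at h1
    have hRd : d ∈ normalizer (R : Set G) := mem_normalizer_sup hP₀d hzd
    have hRP : R = P₀ := hmax R hR3 hRd le_sup_left
    rw [← hRP]
    exact (le_sup_right : zpowers (w ^ (2 ^ a)) ≤ R) (Subgroup.mem_zpowers _)
  -- Bezout
  have hcop : IsCoprime ((2 : ℤ) ^ a) ((3 : ℤ) ^ k) := by
    apply IsCoprime.pow
    norm_num
  obtain ⟨u, v, huv⟩ := hcop
  set y : G := (w ^ (2 ^ a)) ^ u with hy
  set z : G := (w ^ (3 ^ k)) ^ v with hz
  have hyz : w = y * z := by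
    rw [hy, hz, ← zpow_natCast w, ← zpow_natCast w, ← zpow_mul, ← zpow_mul, ← zpow_add]
    have h1 : ((2 ^ a : ℕ) : ℤ) * u + ((3 ^ k : ℕ) : ℤ) * v = 1 := by
      push_cast
      linarith
    rw [h1, zpow_one]
  have hyP₀ : y ∈ P₀ := zpow_mem hw3P₀ _
  have hzQ : z ∈ Q := zpow_mem hk _
  have hy3 : y ^ (3 ^ k) = 1 := by
    rw [hy, ← zpow_natCast, ← zpow_mul, mul_comm, zpow_mul, zpow_natCast, hw3, one_zpow]
  -- square root of `y`
  obtain ⟨m, hm⟩ : Odd (3 ^ k) := Odd.pow (by decide)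
  set s : G := y ^ (m + 1) with hs
  have hss : s * s = y := by
    rw [hs, ← pow_add]
    have h2 : m + 1 + (m + 1) = 3 ^ k + 1 := by omega
    rw [h2, pow_succ, hy3, one_mul]
  have hsP₀ : s ∈ P₀ := pow_mem hyP₀ _
  -- `s` and `z` are powers of `w`
  obtain ⟨i, hi⟩ : ∃ i : ℤ, s = w ^ i := by
    refine ⟨(2 ^ a : ℕ) * u * ((m + 1 : ℕ) : ℤ), ?_⟩
    rw [hs, hy, ← zpow_natCast w, ← zpow_mul, ← zpow_natCast, ← zpow_mul]
  obtain ⟨j, hj⟩ : ∃ j : ℤ, z = w ^ j := by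
    refine ⟨(3 ^ k : ℕ) * v, ?_⟩
    rw [hz, ← zpow_natCast w, ← zpow_mul]
  have hsz : s * z = z * s := by
    rw [hi, hj, ← zpow_add, ← zpow_add, add_comm]
  have hsd : d * s * d = s⁻¹ := by rw [hi]; exact hzpowd i
  have hsL : s ∈ L := by
    rw [hi]; exact zpow_mem hwL _
  -- the element `c = g s`
  set c : G := g * s with hc
  have hcL : c ∈ L := mul_mem hgL hsL
  have hcz : c⁻¹ * d * c * d = z := by
    have h1 : c⁻¹ * d * c * d = s⁻¹ * (g⁻¹ * (d * g * d)) * (d * s * d) := by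
      rw [hc, mul_inv_rev]
      calc s⁻¹ * g⁻¹ * d * (g * s) * d = s⁻¹ * (g⁻¹ * (d * g * (1 : G))) * (s * d) := by group
        _ = s⁻¹ * (g⁻¹ * (d * g * (d * d))) * (s * d) := by rw [hdd]
        _ = s⁻¹ * (g⁻¹ * (d * g * d)) * (d * s * d) := by group
    rw [h1, ← hw, hsd, hyz, ← hss]
    calc s⁻¹ * (s * s * z) * s⁻¹ = s * z * s⁻¹ := by group
      _ = z * s * s⁻¹ := by rw [hsz]
      _ = z := by group
  obtain ⟨q, hqQ, hq⟩ := hB c hcL (by rw [hcz]; exact hzQ)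
  have hcX : c * q ∈ X := by
    refine Subgroup.mem_inf.mpr ⟨?_, mul_mem hcL (hQL hqQ)⟩
    rw [hCd, Subgroup.mem_centralizer_iff]
    intro h hh
    rw [Set.mem_singleton_iff] at hh
    rw [hh]
    exact hq.eq.symm
  obtain ⟨n, hnQ, k', hk'K, hnk⟩ := hXK _ hcX
  -- `g ∈ Q P₀`
  set p₀ : G := k' * s⁻¹ with hp₀
  have hp₀P₀ : p₀ ∈ P₀ := mul_mem (hKP₀ hk'K) (inv_mem hsP₀)
  have hgp : g * p₀⁻¹ ∈ Q := by
    have h1 : g = n * k' * q⁻¹ * s⁻¹ := by
      have h2 : g = (c * q) * q⁻¹ * s⁻¹ := by rw [hc]; group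
      rw [h2, hnk]
    have h3 : g * p₀⁻¹ = n * (k' * q⁻¹ * k'⁻¹) := by
      rw [h1, hp₀]; group
    rw [h3]
    exact mul_mem hnQ (hQn.conj_mem _ (inv_mem hqQ) k')
  have hgpP : g * p₀⁻¹ ∈ (P : Subgroup G) := mul_mem hgP (inv_mem (hP₀P hp₀P₀))
  obtain ⟨a', ha'⟩ := hQ2 _ hgp
  obtain ⟨b', hb'⟩ := hP3 _ hgpP
  have h1 := eq_one_of_two_three ha' hb'
  apply hgP₀
  have h2 : g = p₀ := by
    have := mul_inv_eq_one.mp h1
    exact this
  rw [h2]
  exact hp₀P₀

end Cfsg.Agent.Lib.Helper12.InvSyl
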