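import Mathlib
import Cfsg.Prelude.Def_ConjugacyFunctors

/-!
Helper lemmas (helper12) on the K-sequence and the K-infinity subgroups of the Prelude.
-/

set_option autoImplicit false
open Subgroup
namespace Cfsg.Agent.Lib.Helper12

variable {P : Type*} [Group P]

theorem kUpperStarFamily_antitone {Q₁ Q₂ : Subgroup P} (h : Q₁ ≤ Q₂) :
    Cfsg.kUpperStarFamily Q₂ ⊆ Cfsg.kUpperStarFamily Q₁ := by
  rintro B ⟨hB2, hBQ⟩
  exact ⟨hB2, le_trans (Subgroup.commutator_mono le_rfl h) hBQ⟩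

theorem kLowerStarFamily_antitone {Q₁ Q₂ : Subgroup P} (h : Q₁ ≤ Q₂) :
    Cfsg.kLowerStarFamily Q₂ ⊆ Cfsg.kLowerStarFamily Q₁ := by
  rintro B ⟨hB2, hQB, hcond⟩
  exact ⟨hB2, le_trans h hQB, fun A hA hAQ => hcond A hA (le_trans hAQ h)⟩

theorem kSeq_monotone_step (n : ℕ) :
    Cfsg.kSeqOdd P (n + 1) ≤ Cfsg.kSeqOdd P n ∧ Cfsg.kSeqEven P n ≤ Cfsg.kSeqEven P (n + 1) := by
  induction n with
  | zero =>
    have h0 : Cfsg.kSeqOdd P 1 ≤ Cfsg.kSeqOdd P 0 := by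
      show _ ≤ (⊤ : Subgroup P)
      exact le_top
    refine ⟨h0, ?_⟩
    exact sSup_le_sSup (kLowerStarFamily_antitone h0)
  | succ n ih =>
    have h1 : Cfsg.kSeqOdd P (n + 1 + 1) ≤ Cfsg.kSeqOdd P (n + 1) := by
      show sSup (Cfsg.kUpperStarFamily (sSup (Cfsg.kLowerStarFamily (Cfsg.kSeqOdd P (n + 1))))) ≤
        sSup (Cfsg.kUpperStarFamily (sSup (Cfsg.kLowerStarFamily (Cfsg.kSeqOdd P n))))
      exact sSup_le_sSup (kUpperStarFamily_antitone ih.2)
    exact ⟨h1, sSup_le_sSup (kLowerStarFamily_antitone h1)⟩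

theorem kSeqOdd_antitone : Antitone (Cfsg.kSeqOdd P) :=
  antitone_nat_of_succ_le (fun n => (kSeq_monotone_step n).1)

theorem kSeqEven_monotone : Monotone (Cfsg.kSeqEven P) :=
  monotone_nat_of_le_succ (fun n => (kSeq_monotone_step n).2)

/-- a normal abelian subgroup belongs to all the families -/
theorem normal_abelian_mem_families (A : Subgroup P) [A.Normal] (hA : IsMulCommutative ↥A) :
    A ∈ Cfsg.classTwoSubgroups P ∧ (∀ Q : Subgroup P, A ∈ Cfsg.kLowerStarFamily Q) ∧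
      ∀ Q : Subgroup P, A ∈ Cfsg.kUpperStarFamily Q := by
  have hcomm : ∀ x ∈ A, ∀ y ∈ A, x * y = y * x := by
    intro x hx y hy
    exact congrArg Subtype.val (hA.is_comm.comm ⟨x, hx⟩ ⟨y, hy⟩)
  have hAcent : A ≤ Subgroup.centralizer (A : Set P) := by
    intro x hx
    rw [mem_centralizer_iff]
    intro y hy
    exact hcomm y hy x hx
  have hAA : ⁅A, A⁆ = ⊥ := by
    rw [Subgroup.commutator_eq_bot_iff_le_centralizer]
    exact hAcent
  have h2 : A ∈ Cfsg.classTwoSubgroups P := by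
    show ⁅A, A⁆ ≤ _
    rw [hAA]; exact bot_le
  have hZ : A ⊓ Subgroup.centralizer (A : Set P) = A := inf_eq_left.mpr hAcent
  refine ⟨h2, fun Q => ⟨h2, ?_, ?_⟩, fun Q => ⟨h2, ?_⟩⟩
  · rw [normalizer_eq_top]; exact le_top
  · intro A' _ _ _ _ _
    rw [hZ]
    exact Subgroup.commutator_le_left A A'
  · rw [hZ]
    exact Subgroup.commutator_le_left A Q

end Cfsg.Agent.Lib.Helper12
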