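import Mathlib
import Cfsg.Prelude.Def_PLocal
import Cfsg.Prelude.Def_LocalEven
import Cfsg.Agent.Lib.Helper1.NilpotentAction

/-!
# Degree of an element on the chief factors of a `p`-group with a critical subgroup

Core computation: a "pairing" `A × U → B` given by commutators, with `g` acting with degree `i` on
`A / A'` and degree `j` on `B / B'`, forces degree `i + j - 1` on `U` modulo the left kernel.
(The relative three subgroups lemma is copied from `Helper16/WCPair.lean`.)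
-/

set_option autoImplicit false
open Cfsg
open scoped commutatorElement

namespace Cfsg.Agent.Lib.Helper12.KInfDeg

open Subgroup

variable {G : Type*} [Group G]

theorem commutator_closure_le {V N : Subgroup G} {S : Set G}
    (hSN : ∀ s ∈ S, s ∈ Subgroup.normalizer (N : Set G))
    (hS : ∀ v ∈ V, ∀ s ∈ S, ⁅v, s⁆ ∈ N) : ⁅V, Subgroup.closure S⁆ ≤ N := by
  rw [Subgroup.commutator_le]
  intro v hv l hl
  have key : l ∈ Subgroup.normalizer (N : Set G) ∧ ∀ v ∈ V, ⁅v, l⁆ ∈ N := by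
    induction hl using Subgroup.closure_induction with
    | mem x hx => exact ⟨hSN x hx, fun v hv => hS v hv x hx⟩
    | one => exact ⟨Subgroup.one_mem _, fun v _ => by rw [commutatorElement_one_right]; exact N.one_mem⟩
    | mul x y _ _ hx hy =>
      refine ⟨Subgroup.mul_mem _ hx.1 hy.1, fun v hv => ?_⟩
      rw [commutatorElement_mul_right_eq_mul_conj]
      have h1 := hx.2 v hv
      have h2 := hy.2 v hv
      have h3 : x * ⁅v, y⁆ * x⁻¹ ∈ N := (Subgroup.mem_normalizer_iff.mp hx.1 _).mp h2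
      have e : ⁅v, x⁆ * x * ⁅v, y⁆ * x⁻¹ = ⁅v, x⁆ * (x * ⁅v, y⁆ * x⁻¹) := by group
      rw [e]; exact N.mul_mem h1 h3
    | inv x _ hx =>
      refine ⟨Subgroup.inv_mem _ hx.1, fun v hv => ?_⟩
      rw [commutatorElement_inv_right]
      have h1 : ⁅x, v⁆ ∈ N := by rw [← commutatorElement_inv]; exact N.inv_mem (hx.2 v hv)
      have h2 := (Subgroup.mem_normalizer_iff.mp (Subgroup.inv_mem _ hx.1) _).mp h1
      simpa using h2
  exact key.2 v hv

/-- Three subgroups lemma modulo a subgroup `N` normalized by all three subgroups. -/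
theorem three_subgroups_rel {H₁ H₂ H₃ N : Subgroup G}
    (hn₁ : H₁ ≤ Subgroup.normalizer (N : Set G)) (hn₂ : H₂ ≤ Subgroup.normalizer (N : Set G))
    (hn₃ : H₃ ≤ Subgroup.normalizer (N : Set G))
    (h1 : ⁅⁅H₂, H₃⁆, H₁⁆ ≤ N) (h2 : ⁅⁅H₃, H₁⁆, H₂⁆ ≤ N) : ⁅⁅H₁, H₂⁆, H₃⁆ ≤ N := by
  rw [Subgroup.commutator_comm, Subgroup.commutator_def H₁ H₂]
  apply commutator_closure_le
  · rintro _ ⟨x, hx, y, hy, rfl⟩
    exact Subgroup.mul_mem _ (Subgroup.mul_mem _ (Subgroup.mul_mem _ (hn₁ hx) (hn₂ hy))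
      (Subgroup.inv_mem _ (hn₁ hx))) (Subgroup.inv_mem _ (hn₂ hy))
  · rintro z hz _ ⟨x, hx, y, hy, rfl⟩
    have ha : ⁅y, ⁅z⁻¹, x⁻¹⁆⁆ ∈ N := by
      have : ⁅⁅z⁻¹, x⁻¹⁆, y⁆ ∈ N :=
        h2 (Subgroup.commutator_mem_commutator
          (Subgroup.commutator_mem_commutator (H₃.inv_mem hz) (H₁.inv_mem hx)) hy)
      rw [← commutatorElement_inv]; exact N.inv_mem this
    have hb : ⁅x⁻¹, ⁅y⁻¹, z⁆⁆ ∈ N := by
      have : ⁅⁅y⁻¹, z⁆, x⁻¹⁆ ∈ N :=
        h1 (Subgroup.commutator_mem_commutator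
          (Subgroup.commutator_mem_commutator (H₂.inv_mem hy) hz) (H₁.inv_mem hx))
      rw [← commutatorElement_inv]; exact N.inv_mem this
    have e : ⁅z, ⁅x, y⁆⁆ =
        (x * z) * ⁅y, ⁅z⁻¹, x⁻¹⁆⁆⁻¹ * (x * z)⁻¹ * ((x * y) * ⁅x⁻¹, ⁅y⁻¹, z⁆⁆⁻¹ * (x * y)⁻¹) := by
      simp only [commutatorElement_def]; group
    rw [e]
    apply N.mul_mem
    · exact (Subgroup.mem_normalizer_iff.mp (Subgroup.mul_mem _ (hn₁ hx) (hn₃ hz)) _).mp
        (N.inv_mem ha)
    · exact (Subgroup.mem_normalizer_iff.mp (Subgroup.mul_mem _ (hn₁ hx) (hn₂ hy)) _).mp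
        (N.inv_mem hb)

/-- `⁅X ⊔ Y, C⁆ ≤ N` from the two pieces, when `X`, `Y` normalize `N`. -/
theorem sup_commutator_le_of {X Y C N : Subgroup G} (hXN : X ≤ Subgroup.normalizer (N : Set G))
    (hYN : Y ≤ Subgroup.normalizer (N : Set G))
    (hX : ⁅X, C⁆ ≤ N) (hY : ⁅Y, C⁆ ≤ N) : ⁅X ⊔ Y, C⁆ ≤ N := by
  rw [Subgroup.commutator_comm, Subgroup.sup_eq_closure]
  apply commutator_closure_le
  · intro s hs
    rcases hs with hs | hs
    · exact hXN hs
    · exact hYN hs
  · intro c hc s hs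
    rw [← commutatorElement_inv]
    apply N.inv_mem
    rcases hs with hs | hs
    · exact hX (Subgroup.commutator_mem_commutator hs hc)
    · exact hY (Subgroup.commutator_mem_commutator hs hc)

theorem le_normalizer_sup {K X Y : Subgroup G} (hX : K ≤ Subgroup.normalizer (X : Set G))
    (hY : K ≤ Subgroup.normalizer (Y : Set G)) :
    K ≤ Subgroup.normalizer ((X ⊔ Y : Subgroup G) : Set G) := by
  intro d hd
  have h1 := hX hd
  have h2 := hY hd
  rw [Subgroup.mem_normalizer_iff_map_conj_eq] at h1 h2 ⊢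
  rw [Subgroup.map_sup, h1, h2]

section iter

variable (X C : Subgroup G)

theorem iter_zero : iterCommutator X C 0 = X := rfl

theorem iter_succ (k : ℕ) : iterCommutator X C (k + 1) = ⁅iterCommutator X C k, C⁆ := rfl

theorem le_normalizer_iter (hC : C ≤ Subgroup.normalizer (X : Set G)) :
    ∀ k, C ≤ Subgroup.normalizer ((iterCommutator X C k : Subgroup G) : Set G) := by
  intro k
  induction k with
  | zero => exact hC
  | succ k ih =>
    rw [iter_succ]
    exact Cfsg.Agent.Lib.Helper1.le_normalizer_commutator_right _ _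

theorem iter_succ_le (hC : C ≤ Subgroup.normalizer (X : Set G)) (k : ℕ) :
    iterCommutator X C (k + 1) ≤ iterCommutator X C k := by
  rw [iter_succ]
  exact Cfsg.Agent.Lib.Helper1.commutator_le_of_le_normalizer (le_normalizer_iter X C hC k)

theorem iter_antitone (hC : C ≤ Subgroup.normalizer (X : Set G)) {k l : ℕ} (h : k ≤ l) :
    iterCommutator X C l ≤ iterCommutator X C k := by
  induction l with
  | zero =>
    have : k = 0 := by omega
    rw [this]
  | succ l ih =>
    rcases Nat.eq_or_lt_of_le h with h1 | h1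
    · rw [h1]
    · exact le_trans (iter_succ_le X C hC l) (ih (by omega))

theorem iter_le_self (hC : C ≤ Subgroup.normalizer (X : Set G)) (k : ℕ) :
    iterCommutator X C k ≤ X :=
  iter_antitone X C hC (Nat.zero_le k)

theorem iter_mono {X Y : Subgroup G} (h : X ≤ Y) (C : Subgroup G) (k : ℕ) :
    iterCommutator X C k ≤ iterCommutator Y C k := by
  induction k with
  | zero => exact h
  | succ k ih => exact Subgroup.commutator_mono ih le_rfl

theorem map_iter {H : Type*} [Group H] (φ : G →* H) (k : ℕ) :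
    (iterCommutator X C k).map φ = iterCommutator (X.map φ) (C.map φ) k := by
  induction k with
  | zero => rfl
  | succ k ih => rw [iter_succ, iter_succ, Subgroup.map_commutator, ih]

end iter

/-- transfer of a degree bound along `U = U₂ ⊔ V` -/
theorem iter_le_of_sup_eq {U U₂ V C : Subgroup G} [V.Normal] (hsup : U₂ ⊔ V = U) (n : ℕ)
    (h : iterCommutator U₂ C n ≤ V) : iterCommutator U C n ≤ V := by
  have key : ∀ X : Subgroup G, X ≤ V ↔ X.map (QuotientGroup.mk' V) = ⊥ := by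
    intro X
    rw [Subgroup.map_eq_bot_iff, QuotientGroup.ker_mk']
  rw [key] at h ⊢
  rw [map_iter] at h ⊢
  have : U.map (QuotientGroup.mk' V) = U₂.map (QuotientGroup.mk' V) := by
    rw [← hsup, Subgroup.map_sup, (key V).mp le_rfl, sup_bot_eq]
  rw [this]
  exact h

/-- a chief factor inside a normal `p`-subgroup is central in it -/
theorem commutator_le_of_chief_of_normal_pGroup [Finite G] {p : ℕ} [Fact p.Prime]
    {X Y P : Subgroup G} (hch : IsChiefFactor X Y) [hPn : P.Normal] (hP : IsPGroup p P)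
    (hXP : X ≤ P) : ⁅X, P⁆ ≤ Y := by
  obtain ⟨hYX, hXn, hYn, hmin⟩ := hch
  haveI := hXn
  haveI := hYn
  have hNn : (⁅X, P⁆ ⊔ Y).Normal := inferInstance
  have hle : ⁅X, P⁆ ⊔ Y ≤ X := sup_le (Subgroup.commutator_le_left X P) hYX.le
  rcases hmin _ hNn le_sup_right hle with h | h
  · rw [← h]; exact le_sup_left
  exfalso
  let π := QuotientGroup.mk' Y
  have hXb : X.map π ≠ ⊥ := by
    intro hb
    rw [Subgroup.map_eq_bot_iff, QuotientGroup.ker_mk'] at hb
    exact lt_irrefl _ (lt_of_lt_of_le hYX hb)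
  have hXp : IsPGroup p (X.map π) := (hP.to_le hXP).map π
  have hPp : IsPGroup p (P.map π) := hP.map π
  haveI : (X.map π).Normal := Subgroup.Normal.map hXn π (QuotientGroup.mk'_surjective Y)
  have hnorm : P.map π ≤ Subgroup.normalizer ((X.map π : Subgroup (G ⧸ Y)) : Set (G ⧸ Y)) := by
    rw [Subgroup.normalizer_eq_top]; exact le_top
  have hlt := Cfsg.Agent.Lib.Helper1.IsPGroup.commutator_lt hXp hPp hnorm hXb
  apply ne_of_lt hlt
  rw [← Subgroup.map_commutator]
  have h2 : (⁅X, P⁆ ⊔ Y).map π = (⁅X, P⁆).map π := by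
    have hYb : Y.map π = ⊥ := by
      rw [Subgroup.map_eq_bot_iff, QuotientGroup.ker_mk']
    rw [Subgroup.map_sup, hYb, sup_bot_eq]
  rw [← h2, h]

end Cfsg.Agent.Lib.Helper12.KInfDeg
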