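import Mathlib
import Cfsg.Agent.Lib.Helper12.KInfDegA

/-!
# The core filtration computation
-/

set_option autoImplicit false
open Cfsg
open scoped commutatorElement

namespace Cfsg.Agent.Lib.Helper12.KInfDeg

open Subgroup

variable {G : Type*} [Group G]

theorem core (P : Subgroup G) (g : G)
    (A A' B B' U₂ : Subgroup G) [A.Normal] [A'.Normal] [B.Normal] [B'.Normal] [U₂.Normal]
    (hAP : A ≤ P) (hUP : U₂ ≤ P) (hBP : B ≤ P) (hB'B : B' ≤ B)
    (i j : ℕ) (hi : 1 ≤ i)
    (hAi : iterCommutator A (zpowers g) i ≤ A')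
    (hBj : iterCommutator B (zpowers g) j ≤ B')
    (hA'U : ⁅A', U₂⁆ = ⊥)
    (hAU : ⁅A, U₂⁆ ≤ B)
    (hBPc : ⁅B, P⁆ ≤ B') :
    ⁅A, iterCommutator U₂ (zpowers g) (i + j - 1)⁆ ≤ B' := by
  set C := zpowers g with hC
  have hCA : C ≤ Subgroup.normalizer (A : Set G) := by
    rw [Subgroup.normalizer_eq_top]; exact le_top
  have hCB : C ≤ Subgroup.normalizer (B : Set G) := by
    rw [Subgroup.normalizer_eq_top]; exact le_top
  have hCB' : C ≤ Subgroup.normalizer (B' : Set G) := by
    rw [Subgroup.normalizer_eq_top]; exact le_top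
  have hCU : C ≤ Subgroup.normalizer (U₂ : Set G) := by
    rw [Subgroup.normalizer_eq_top]; exact le_top
  -- the filtration on `B`
  have hNB : ∀ l, iterCommutator B C l ⊔ B' ≤ B := fun l =>
    sup_le (iter_le_self B C hCB l) hB'B
  have hPN : ∀ l, P ≤ Subgroup.normalizer ((iterCommutator B C l ⊔ B' : Subgroup G) : Set G) := by
    intro l
    rw [Subgroup.le_normalizer_iff_commutator_le_left]
    exact le_trans (Subgroup.commutator_mono (hNB l) le_rfl) (le_trans hBPc le_sup_right)
  have hCN : ∀ l, C ≤ Subgroup.normalizer ((iterCommutator B C l ⊔ B' : Subgroup G) : Set G) :=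
    fun l => le_normalizer_sup (le_normalizer_iter B C hCB l) hCB'
  have hstepN : ∀ l, ⁅iterCommutator B C l ⊔ B', C⁆ ≤ iterCommutator B C (l + 1) ⊔ B' := by
    intro l
    apply sup_commutator_le_of
    · exact le_trans (le_trans (iter_le_self B C hCB l) hBP) (hPN (l + 1))
    · exact le_trans (le_trans hB'B hBP) (hPN (l + 1))
    · rw [iter_succ]; exact le_sup_left
    · exact le_trans (Cfsg.Agent.Lib.Helper1.commutator_le_of_le_normalizer hCB') le_sup_right
  -- the main claim
  have claim : ∀ t k : ℕ, ⁅iterCommutator A C k, iterCommutator U₂ C t⁆ ≤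
      iterCommutator B C ((k + t) - (i - 1)) ⊔ B' := by
    intro t
    induction t with
    | zero =>
      intro k
      rw [iter_zero]
      by_cases hk : i ≤ k
      · have h1 : iterCommutator A C k ≤ A' := le_trans (iter_antitone A C hCA hk) hAi
        have h2 : ⁅iterCommutator A C k, U₂⁆ ≤ ⁅A', U₂⁆ := Subgroup.commutator_mono h1 le_rfl
        rw [hA'U] at h2
        exact le_trans h2 bot_le
      · have h0 : (k + 0) - (i - 1) = 0 := by omega
        rw [h0, iter_zero]
        exact le_trans (Subgroup.commutator_mono (iter_le_self A C hCA k) le_rfl)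
          (le_trans hAU le_sup_left)
    | succ t ih =>
      intro k
      by_cases hk : k + t + 1 ≤ i - 1
      · have h0 : (k + (t + 1)) - (i - 1) = 0 := by omega
        rw [h0, iter_zero]
        exact le_trans (Subgroup.commutator_mono (iter_le_self A C hCA k)
          (iter_le_self U₂ C hCU (t + 1))) (le_trans hAU le_sup_left)
      · have hl : (k + (t + 1)) - (i - 1) = ((k + t) - (i - 1)) + 1 := by omega
        have hl' : ((k + 1) + t) - (i - 1) = ((k + t) - (i - 1)) + 1 := by omega
        rw [hl, iter_succ, Subgroup.commutator_comm]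
        set l := (k + t) - (i - 1) with hldef
        apply three_subgroups_rel
        · exact le_trans (le_trans (iter_le_self U₂ C hCU t) hUP) (hPN (l + 1))
        · exact hCN (l + 1)
        · exact le_trans (le_trans (iter_le_self A C hCA k) hAP) (hPN (l + 1))
        · -- ⁅⁅C, A_k⁆, U_t⁆
          rw [Subgroup.commutator_comm C, ← iter_succ]
          have := ih (k + 1)
          rw [hl'] at this
          exact this
        · -- ⁅⁅A_k, U_t⁆, C⁆
          exact le_trans (Subgroup.commutator_mono (ih k) le_rfl) (hstepN l)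
  have hfin := claim (i + j - 1) 0
  rw [iter_zero] at hfin
  have hidx : (0 + (i + j - 1)) - (i - 1) = j := by omega
  rw [hidx] at hfin
  exact le_trans hfin (sup_le hBj le_rfl)

end Cfsg.Agent.Lib.Helper12.KInfDeg
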