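import Mathlib
import Cfsg.Prelude.Def_ConjugacyFunctors
import Cfsg.Agent.Lib.Helper12.Basic

/-!
Helper lemmas (helper12): maximal members of the class-two / upper-star / lower-star families of a finite
p-group are self-centralizing (Glauberman K-infinity).
-/

set_option autoImplicit false
open Subgroup
open scoped commutatorElement Pointwise
namespace Cfsg.Agent.Lib.Helper12

/-- In a finite `p`-group, if `B` and `C` are normal and `C ≰ B` there is `x ∈ C \ B` all of whose powers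
commute with everything modulo `B`. -/
theorem exists_mem_not_mem_comm_mod {G : Type*} [Group G] [Finite G] {p : ℕ} [Fact p.Prime]
    (hG : IsPGroup p G) (B C : Subgroup G) [B.Normal] [C.Normal] (hCB : ¬ C ≤ B) :
    ∃ x ∈ C, x ∉ B ∧ ∀ (k : ℤ) (g : G), ⁅x ^ k, g⁆ ∈ B := by
  have hQ : IsPGroup p (G ⧸ B) := hG.to_quotient B
  have hnorm : (C.map (QuotientGroup.mk' B)).Normal :=
    Subgroup.Normal.map inferInstance _ (QuotientGroup.mk'_surjective B)
  have hne : C.map (QuotientGroup.mk' B) ≠ ⊥ := by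
    intro h
    apply hCB
    intro c hc
    have : (QuotientGroup.mk' B) c ∈ C.map (QuotientGroup.mk' B) := Subgroup.mem_map_of_mem _ hc
    rw [h, Subgroup.mem_bot] at this
    exact (QuotientGroup.eq_one_iff c).mp this
  obtain ⟨y, hyC, hy1, hyZ⟩ := exists_ne_one_mem_center_of_normal hQ _ hne
  obtain ⟨x, hxC, rfl⟩ := hyC
  refine ⟨x, hxC, ?_, ?_⟩
  · intro hxB
    exact hy1 ((QuotientGroup.eq_one_iff x).mpr hxB)
  · intro k g
    rw [← QuotientGroup.eq_one_iff]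
    have hk : ((QuotientGroup.mk' B) x) ^ k ∈ Subgroup.center (G ⧸ B) := zpow_mem hyZ k
    rw [Subgroup.mem_center_iff] at hk
    have := hk ((QuotientGroup.mk' B) g)
    show ((QuotientGroup.mk' B) ⁅x ^ k, g⁆) = 1
    rw [map_commutatorElement, map_zpow, commutatorElement_def, ← this]
    group

/-- If the finite `p`-group `P` has a subgroup `B` with `C_P(B) ≰ B`, there is `x ∈ C_P(B) \ B` with
`[x^k, N_P(B)] ⊆ Z(B)` for all `k`. -/
theorem exists_centralizer_not_mem {P : Type*} [Group P] [Finite P] {p : ℕ} [Fact p.Prime]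
    (hP : IsPGroup p P) (B : Subgroup P) (hB : ¬ Subgroup.centralizer (B : Set P) ≤ B) :
    ∃ x ∈ Subgroup.centralizer (B : Set P), x ∉ B ∧
      ∀ (k : ℤ), ∀ n ∈ Subgroup.normalizer (B : Set P),
        ⁅x ^ k, n⁆ ∈ B ⊓ Subgroup.centralizer (B : Set P) := by
  set N := Subgroup.normalizer (B : Set P) with hN
  have hNp : IsPGroup p N := hP.to_subgroup N
  haveI hBn : (B.subgroupOf N).Normal := Subgroup.normal_in_normalizer
  haveI hCn : ((Subgroup.centralizer (B : Set P)).subgroupOf N).Normal :=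
    Subgroup.normal_subgroupOf_centralizer_normalizer (B : Set P)
  have hCB : ¬ (Subgroup.centralizer (B : Set P)).subgroupOf N ≤ B.subgroupOf N := by
    intro h
    apply hB
    intro c hc
    have hcN : c ∈ N := Subgroup.centralizer_le_normalizer _ hc
    have : (⟨c, hcN⟩ : N) ∈ B.subgroupOf N := h (by simpa [Subgroup.mem_subgroupOf] using hc)
    simpa [Subgroup.mem_subgroupOf] using this
  obtain ⟨x, hxC, hxB, hx⟩ := exists_mem_not_mem_comm_mod hNp _ _ hCB
  refine ⟨x.1, by simpa [Subgroup.mem_subgroupOf] using hxC,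
    by simpa [Subgroup.mem_subgroupOf] using hxB, ?_⟩
  intro k n hn
  have h1 := hx k ⟨n, hn⟩
  have h2 : ⁅x.1 ^ k, n⁆ ∈ B := by
    have : ((⁅x ^ k, ⟨n, hn⟩⁆ : N) : P) ∈ B := by simpa [Subgroup.mem_subgroupOf] using h1
    simpa [commutatorElement_def] using this
  refine Subgroup.mem_inf.mpr ⟨h2, ?_⟩
  have hxk : x ^ k ∈ (Subgroup.centralizer (B : Set P)).subgroupOf N := zpow_mem hxC k
  have h3 : (⟨n, hn⟩ : N) * (x ^ k)⁻¹ * (⟨n, hn⟩ : N)⁻¹ ∈
      (Subgroup.centralizer (B : Set P)).subgroupOf N :=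
    hCn.conj_mem _ (inv_mem hxk) _
  have h4 : x ^ k * ((⟨n, hn⟩ : N) * (x ^ k)⁻¹ * (⟨n, hn⟩ : N)⁻¹) ∈
      (Subgroup.centralizer (B : Set P)).subgroupOf N := mul_mem hxk h3
  have h5 : x.1 ^ k * (n * (x.1 ^ k)⁻¹ * n⁻¹) ∈ Subgroup.centralizer (B : Set P) := by
    simpa [Subgroup.mem_subgroupOf] using h4
  have : ⁅x.1 ^ k, n⁆ = x.1 ^ k * (n * (x.1 ^ k)⁻¹ * n⁻¹) := by
    rw [commutatorElement_def]; group
  rw [this]; exact h5

section ext
variable {P : Type*} [Group P] (B : Subgroup P) (x : P)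

theorem zpowers_le_centralizer_sup (hx : x ∈ Subgroup.centralizer (B : Set P)) :
    Subgroup.zpowers x ≤ Subgroup.centralizer ((B ⊔ Subgroup.zpowers x : Subgroup P) : Set P) := by
  rw [Subgroup.le_centralizer_iff]
  apply sup_le
  · rw [Subgroup.le_centralizer_iff]
    exact (Subgroup.zpowers_le).mpr hx
  · exact Subgroup.le_centralizer _

theorem exists_mul_of_mem_sup_zpowers (hx : x ∈ Subgroup.centralizer (B : Set P)) {c : P}
    (hc : c ∈ B ⊔ Subgroup.zpowers x) : ∃ b ∈ B, ∃ k : ℤ, c = b * x ^ k := by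
  have hLE : Subgroup.zpowers x ≤ Subgroup.normalizer (B : Set P) :=
    le_trans ((Subgroup.zpowers_le).mpr hx) (Subgroup.centralizer_le_normalizer _)
  have h := Subgroup.coe_mul_of_right_le_normalizer_left B (Subgroup.zpowers x) hLE
  have hc' : c ∈ ((B ⊔ Subgroup.zpowers x : Subgroup P) : Set P) := hc
  rw [h] at hc'
  obtain ⟨b, hb, z, hz, rfl⟩ := hc'
  obtain ⟨k, rfl⟩ := Subgroup.mem_zpowers_iff.mp hz
  exact ⟨b, hb, k, rfl⟩

theorem center_le_center_sup_zpowers (hx : x ∈ Subgroup.centralizer (B : Set P)) :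
    B ⊓ Subgroup.centralizer (B : Set P) ≤
      (B ⊔ Subgroup.zpowers x) ⊓
        Subgroup.centralizer ((B ⊔ Subgroup.zpowers x : Subgroup P) : Set P) := by
  apply le_inf
  · exact le_trans inf_le_left le_sup_left
  · rw [Subgroup.le_centralizer_iff]
    apply sup_le
    · rw [Subgroup.le_centralizer_iff]
      exact inf_le_right
    · rw [Subgroup.le_centralizer_iff]
      refine le_trans inf_le_left ?_
      rw [Subgroup.le_centralizer_iff]
      exact (Subgroup.zpowers_le).mpr hx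

theorem commutator_sup_zpowers_le (hx : x ∈ Subgroup.centralizer (B : Set P)) (A : Subgroup P)
    (h1 : ⁅B, A⁆ ≤ B ⊓ Subgroup.centralizer (B : Set P))
    (h2 : ∀ (k : ℤ), ∀ a ∈ A, ⁅x ^ k, a⁆ ∈ B ⊓ Subgroup.centralizer (B : Set P)) :
    ⁅B ⊔ Subgroup.zpowers x, A⁆ ≤ B ⊓ Subgroup.centralizer (B : Set P) := by
  rw [Subgroup.commutator_le]
  intro c hc a ha
  obtain ⟨b, hb, k, rfl⟩ := exists_mul_of_mem_sup_zpowers B x hx hc
  have e : ⁅b * x ^ k, a⁆ = b * ⁅x ^ k, a⁆ * b⁻¹ * ⁅b, a⁆ := by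
    simp only [commutatorElement_def]; group
  have h3 := h2 k a ha
  have h4 : b * ⁅x ^ k, a⁆ * b⁻¹ = ⁅x ^ k, a⁆ := by
    have := (Subgroup.mem_inf.mp h3).2
    rw [Subgroup.mem_centralizer_iff] at this
    rw [this b hb]; group
  rw [e, h4]
  exact mul_mem h3 (h1 (Subgroup.commutator_mem_commutator hb ha))

theorem classTwo_sup_zpowers (hx : x ∈ Subgroup.centralizer (B : Set P))
    (hB : B ∈ Cfsg.classTwoSubgroups P) : B ⊔ Subgroup.zpowers x ∈ Cfsg.classTwoSubgroups P := by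
  have hB' : ⁅B, B⁆ ≤ Subgroup.centralizer (B : Set P) := hB
  have hZc := zpowers_le_centralizer_sup B x hx
  have hcomm : ∀ (k : ℤ), ∀ c ∈ B ⊔ Subgroup.zpowers x, x ^ k * c = c * x ^ k := by
    intro k c hc
    have := hZc (Subgroup.zpow_mem_zpowers x k)
    rw [Subgroup.mem_centralizer_iff] at this
    exact (this c hc).symm
  have hle : ⁅B ⊔ Subgroup.zpowers x, B ⊔ Subgroup.zpowers x⁆ ≤ ⁅B, B⁆ := by
    rw [Subgroup.commutator_le]
    intro c₁ hc₁ c₂ hc₂
    obtain ⟨b₁, hb₁, k₁, rfl⟩ := exists_mul_of_mem_sup_zpowers B x hx hc₁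
    obtain ⟨b₂, hb₂, k₂, rfl⟩ := exists_mul_of_mem_sup_zpowers B x hx hc₂
    have e1 : ⁅b₁ * x ^ k₁, b₂ * x ^ k₂⁆ = ⁅b₁, b₂ * x ^ k₂⁆ := by
      have := hcomm k₁ _ hc₂
      simp only [commutatorElement_def]
      calc b₁ * x ^ k₁ * (b₂ * x ^ k₂) * (b₁ * x ^ k₁)⁻¹ * (b₂ * x ^ k₂)⁻¹
          = b₁ * (x ^ k₁ * (b₂ * x ^ k₂)) * (x ^ k₁)⁻¹ * b₁⁻¹ * (b₂ * x ^ k₂)⁻¹ := by group
        _ = b₁ * ((b₂ * x ^ k₂) * x ^ k₁) * (x ^ k₁)⁻¹ * b₁⁻¹ * (b₂ * x ^ k₂)⁻¹ := by rw [this]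
        _ = b₁ * (b₂ * x ^ k₂) * b₁⁻¹ * (b₂ * x ^ k₂)⁻¹ := by group
    have e2 : ⁅b₁, b₂ * x ^ k₂⁆ = ⁅b₁, b₂⁆ := by
      have := hcomm k₂ b₁⁻¹ (le_sup_left (a := B) (inv_mem hb₁))
      simp only [commutatorElement_def]
      calc b₁ * (b₂ * x ^ k₂) * b₁⁻¹ * (b₂ * x ^ k₂)⁻¹
          = b₁ * b₂ * (x ^ k₂ * b₁⁻¹) * (x ^ k₂)⁻¹ * b₂⁻¹ := by group
        _ = b₁ * b₂ * (b₁⁻¹ * x ^ k₂) * (x ^ k₂)⁻¹ * b₂⁻¹ := by rw [this]
        _ = b₁ * b₂ * b₁⁻¹ * b₂⁻¹ := by group
    rw [e1, e2]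
    exact Subgroup.commutator_mem_commutator hb₁ hb₂
  show ⁅B ⊔ Subgroup.zpowers x, B ⊔ Subgroup.zpowers x⁆ ≤ _
  refine le_trans hle ?_
  rw [Subgroup.le_centralizer_iff]
  apply sup_le
  · rw [Subgroup.le_centralizer_iff]; exact hB'
  · rw [Subgroup.le_centralizer_iff]
    have hBB : ⁅B, B⁆ ≤ B := by
      rw [Subgroup.commutator_le]
      intro a ha b hb
      exact mul_mem (mul_mem (mul_mem ha hb) (inv_mem ha)) (inv_mem hb)
    refine le_trans hBB ?_
    rw [Subgroup.le_centralizer_iff]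
    exact (Subgroup.zpowers_le).mpr hx

theorem normalizer_le_normalizer_sup_zpowers [Finite P] (hx : x ∈ Subgroup.centralizer (B : Set P))
    (h : ∀ (k : ℤ), ∀ n ∈ Subgroup.normalizer (B : Set P), ⁅x ^ k, n⁆ ∈ B) :
    Subgroup.normalizer (B : Set P) ≤
      Subgroup.normalizer ((B ⊔ Subgroup.zpowers x : Subgroup P) : Set P) := by
  intro n hn
  apply Subgroup.mem_normalizer_fintype
  intro c hc
  obtain ⟨b, hb, k, rfl⟩ := exists_mul_of_mem_sup_zpowers B x hx hc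
  have e : n * (b * x ^ k) * n⁻¹ = (n * b * n⁻¹) * (x ^ k * ⁅x ^ (-k), n⁆) := by
    simp only [commutatorElement_def, zpow_neg]; group
  show n * (b * x ^ k) * n⁻¹ ∈ B ⊔ Subgroup.zpowers x
  rw [e]
  refine mul_mem (le_sup_left (a := B) ?_) (mul_mem (le_sup_right (a := B) ?_) (le_sup_left (a := B) ?_))
  · exact (Subgroup.mem_normalizer_iff.mp hn b).mp hb
  · exact Subgroup.zpow_mem_zpowers x k
  · exact h (-k) n hn

end ext

section main
variable {P : Type*} [Group P] [Finite P] {p : ℕ} [Fact p.Prime]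

omit [Finite P] in
theorem centralizer_le_of_max_classTwo (B : Subgroup P)
    (hB : B ∈ Cfsg.classTwoSubgroups P)
    (hmax : ∀ C ∈ Cfsg.classTwoSubgroups P, B ≤ C → C = B) :
    Subgroup.centralizer (B : Set P) ≤ B := by
  intro x hx
  have h1 := classTwo_sup_zpowers B x hx hB
  have h2 := hmax _ h1 le_sup_left
  rw [← h2]
  exact le_sup_right (a := B) (Subgroup.mem_zpowers x)

theorem le_normalizer_of_commutator_le (B Q : Subgroup P) (h : ⁅B, Q⁆ ≤ B) :
    Q ≤ Subgroup.normalizer (B : Set P) := by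
  intro q hq
  apply Subgroup.mem_normalizer_fintype
  intro b hb
  have h1 : ⁅b⁻¹, q⁆ ∈ B := h (Subgroup.commutator_mem_commutator (inv_mem hb) hq)
  have e : q * b * q⁻¹ = b * ⁅b⁻¹, q⁆ := by
    simp only [commutatorElement_def]; group
  show q * b * q⁻¹ ∈ B
  rw [e]
  exact mul_mem hb h1

theorem centralizer_le_of_max_upperStar (hP : IsPGroup p P) (Q B : Subgroup P)
    (hB : B ∈ Cfsg.kUpperStarFamily Q)
    (hmax : ∀ C ∈ Cfsg.kUpperStarFamily Q, B ≤ C → C = B) :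
    Subgroup.centralizer (B : Set P) ≤ B := by
  by_contra hcon
  obtain ⟨x, hxC, hxB, hx⟩ := exists_centralizer_not_mem hP B hcon
  obtain ⟨hB2, hBQ⟩ := hB
  have hQN : Q ≤ Subgroup.normalizer (B : Set P) :=
    le_normalizer_of_commutator_le B Q (le_trans hBQ inf_le_left)
  have hmem : B ⊔ Subgroup.zpowers x ∈ Cfsg.kUpperStarFamily Q := by
    refine ⟨classTwo_sup_zpowers B x hxC hB2, ?_⟩
    refine le_trans (commutator_sup_zpowers_le B x hxC Q hBQ ?_) (center_le_center_sup_zpowers B x hxC)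
    intro k q hq
    exact hx k q (hQN hq)
  have h2 := hmax _ hmem le_sup_left
  apply hxB
  rw [← h2]
  exact le_sup_right (a := B) (Subgroup.mem_zpowers x)

theorem centralizer_le_of_max_lowerStar (hP : IsPGroup p P) (Q B : Subgroup P)
    (hB : B ∈ Cfsg.kLowerStarFamily Q)
    (hmax : ∀ C ∈ Cfsg.kLowerStarFamily Q, B ≤ C → C = B) :
    Subgroup.centralizer (B : Set P) ≤ B := by
  by_contra hcon
  obtain ⟨x, hxC, hxB, hx⟩ := exists_centralizer_not_mem hP B hcon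
  obtain ⟨hB2, hQN, hcond⟩ := hB
  have hZZ := center_le_center_sup_zpowers B x hxC
  have hmem : B ⊔ Subgroup.zpowers x ∈ Cfsg.kLowerStarFamily Q := by
    refine ⟨classTwo_sup_zpowers B x hxC hB2, ?_, ?_⟩
    · refine le_trans hQN (normalizer_le_normalizer_sup_zpowers B x hxC ?_)
      intro k n hn
      exact (Subgroup.mem_inf.mp (hx k n hn)).1
    · intro A hA2 hAQ hCA h1 h2
      have hBA : ⁅B, A⁆ ≤ B ⊓ Subgroup.centralizer (B : Set P) := by
        apply hcond A hA2 hAQ (le_trans le_sup_left hCA)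
        · rw [eq_bot_iff, ← h1]
          exact Subgroup.commutator_mono le_sup_left le_rfl
        · rw [eq_bot_iff, ← h2]
          exact Subgroup.commutator_mono (Subgroup.commutator_mono hZZ le_rfl) le_rfl
      refine le_trans (commutator_sup_zpowers_le B x hxC A hBA ?_) hZZ
      intro k a ha
      exact hx k a (hQN (hAQ ha))
  have h2 := hmax _ hmem le_sup_left
  apply hxB
  rw [← h2]
  exact le_sup_right (a := B) (Subgroup.mem_zpowers x)

end main

end Cfsg.Agent.Lib.Helper12
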