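import Mathlib
import Cfsg.Prelude.Def_ConjugacyFunctors
import Cfsg.Agent.Lib.Helper12.KInf

/-!
Helper lemmas (helper12): transport of the K-sequence families along an injective homomorphism, and the
interleaving of the K-sequences of a p-group and of a subgroup containing the terms of nonnegative index.
-/

set_option autoImplicit false
open Subgroup
open scoped commutatorElement Pointwise
namespace Cfsg.Agent.Lib.Helper12

section transport
variable {G H : Type*} [Group G] [Group H] (f : G →* H) (hf : Function.Injective f)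
include hf

theorem map_le_centralizer_map_iff (X Y : Subgroup G) :
    X.map f ≤ Subgroup.centralizer ((Y.map f : Subgroup H) : Set H) ↔
      X ≤ Subgroup.centralizer (Y : Set G) := by
  rw [← Subgroup.commutator_eq_bot_iff_le_centralizer, ← Subgroup.commutator_eq_bot_iff_le_centralizer,
    ← Subgroup.map_commutator, Subgroup.map_eq_bot_iff_of_injective _ hf]

theorem map_le_normalizer_map_iff (X Y : Subgroup G) :
    X.map f ≤ Subgroup.normalizer ((Y.map f : Subgroup H) : Set H) ↔
      X ≤ Subgroup.normalizer (Y : Set G) := by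
  constructor
  · intro h
    have h1 : X ≤ (Subgroup.normalizer ((Y.map f : Subgroup H) : Set H)).comap f :=
      Subgroup.map_le_iff_le_comap.mp h
    rw [Subgroup.comap_normalizer_eq_of_le_range (Subgroup.map_le_range f Y),
      Subgroup.comap_map_eq_self_of_injective hf] at h1
    exact h1
  · intro h
    exact le_trans (Subgroup.map_mono h) (Subgroup.le_normalizer_map f)

theorem map_center_eq (Y : Subgroup G) :
    Y.map f ⊓ Subgroup.centralizer ((Y.map f : Subgroup H) : Set H) =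
      (Y ⊓ Subgroup.centralizer (Y : Set G)).map f := by
  apply le_antisymm
  · rintro y ⟨⟨b, hb, rfl⟩, hy2⟩
    refine ⟨b, Subgroup.mem_inf.mpr ⟨hb, ?_⟩, rfl⟩
    rw [Subgroup.mem_centralizer_iff]
    intro g hg
    apply hf
    rw [map_mul, map_mul]
    exact hy2 (f g) (Subgroup.mem_map_of_mem f hg)
  · apply le_inf
    · exact Subgroup.map_mono inf_le_left
    · rw [map_le_centralizer_map_iff f hf]
      exact inf_le_right

theorem classTwo_map_iff (B : Subgroup G) :
    B.map f ∈ Cfsg.classTwoSubgroups H ↔ B ∈ Cfsg.classTwoSubgroups G := by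
  show ⁅B.map f, B.map f⁆ ≤ _ ↔ ⁅B, B⁆ ≤ _
  rw [← Subgroup.map_commutator, map_le_centralizer_map_iff f hf]

theorem upperStar_map_iff (B R : Subgroup G) :
    B.map f ∈ Cfsg.kUpperStarFamily (R.map f) ↔ B ∈ Cfsg.kUpperStarFamily R := by
  show (_ ∧ ⁅B.map f, R.map f⁆ ≤ _) ↔ (_ ∧ ⁅B, R⁆ ≤ _)
  rw [classTwo_map_iff f hf, ← Subgroup.map_commutator, map_center_eq f hf,
    Subgroup.map_le_map_iff_of_injective hf]

theorem lowerStar_map_iff (B R : Subgroup G) :
    B.map f ∈ Cfsg.kLowerStarFamily (R.map f) ↔ B ∈ Cfsg.kLowerStarFamily R := by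
  show (_ ∧ _ ∧ _) ↔ (_ ∧ _ ∧ _)
  rw [classTwo_map_iff f hf, map_le_normalizer_map_iff f hf]
  refine and_congr_right (fun _ => and_congr_right (fun _ => ?_))
  constructor
  · intro h A hA2 hAR hBA h1 h2
    have := h (A.map f) ((classTwo_map_iff f hf A).mpr hA2) (Subgroup.map_mono hAR)
      ((map_le_normalizer_map_iff f hf B A).mpr hBA)
      (by rw [← Subgroup.map_commutator, ← Subgroup.map_commutator, h1, Subgroup.map_bot])
      (by rw [map_center_eq f hf, ← Subgroup.map_commutator, ← Subgroup.map_commutator, h2,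
        Subgroup.map_bot])
    rw [← Subgroup.map_commutator, map_center_eq f hf,
      Subgroup.map_le_map_iff_of_injective hf] at this
    exact this
  · intro h A hA2 hAR hBA h1 h2
    have hAr : A ≤ f.range := le_trans hAR (Subgroup.map_le_range f R)
    have hA : (A.comap f).map f = A := Subgroup.map_comap_eq_self hAr
    rw [← hA] at hA2 hAR hBA h1 h2 ⊢
    rw [classTwo_map_iff f hf] at hA2
    rw [Subgroup.map_le_map_iff_of_injective hf] at hAR
    rw [map_le_normalizer_map_iff f hf] at hBA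
    rw [← Subgroup.map_commutator, ← Subgroup.map_commutator,
      Subgroup.map_eq_bot_iff_of_injective _ hf] at h1
    rw [map_center_eq f hf, ← Subgroup.map_commutator, ← Subgroup.map_commutator,
      Subgroup.map_eq_bot_iff_of_injective _ hf] at h2
    rw [← Subgroup.map_commutator, map_center_eq f hf, Subgroup.map_le_map_iff_of_injective hf]
    exact h (A.comap f) hA2 hAR hBA h1 h2

theorem lowerStar_sandwich (R : Subgroup G) (R₁ R₂ : Subgroup H) (h1 : R.map f ≤ R₁)
    (h2 : R₂ ≤ R.map f) (hR₁ : sSup (Cfsg.kLowerStarFamily R₁) ≤ f.range) :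
    sSup (Cfsg.kLowerStarFamily R₁) ≤ (sSup (Cfsg.kLowerStarFamily R)).map f ∧
      (sSup (Cfsg.kLowerStarFamily R)).map f ≤ sSup (Cfsg.kLowerStarFamily R₂) := by
  constructor
  · apply sSup_le
    intro B hB
    have hBr : B ≤ f.range := le_trans (le_sSup hB) hR₁
    have hB' : (B.comap f).map f = B := Subgroup.map_comap_eq_self hBr
    have hB2 : B ∈ Cfsg.kLowerStarFamily (R.map f) := kLowerStarFamily_antitone h1 hB
    rw [← hB', lowerStar_map_iff f hf] at hB2
    rw [← hB']
    exact Subgroup.map_mono (le_sSup hB2)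
  · rw [Subgroup.map_le_iff_le_comap]
    apply sSup_le
    intro B hB
    rw [← Subgroup.map_le_iff_le_comap]
    have : B.map f ∈ Cfsg.kLowerStarFamily (R.map f) := (lowerStar_map_iff f hf B R).mpr hB
    exact le_sSup (kLowerStarFamily_antitone h2 this)

theorem upperStar_sandwich (R : Subgroup G) (R₁ R₂ : Subgroup H) (h1 : R.map f ≤ R₁)
    (h2 : R₂ ≤ R.map f) (hR₁ : sSup (Cfsg.kUpperStarFamily R₁) ≤ f.range) :
    sSup (Cfsg.kUpperStarFamily R₁) ≤ (sSup (Cfsg.kUpperStarFamily R)).map f ∧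
      (sSup (Cfsg.kUpperStarFamily R)).map f ≤ sSup (Cfsg.kUpperStarFamily R₂) := by
  constructor
  · apply sSup_le
    intro B hB
    have hBr : B ≤ f.range := le_trans (le_sSup hB) hR₁
    have hB' : (B.comap f).map f = B := Subgroup.map_comap_eq_self hBr
    have hB2 : B ∈ Cfsg.kUpperStarFamily (R.map f) := kUpperStarFamily_antitone h1 hB
    rw [← hB', upperStar_map_iff f hf] at hB2
    rw [← hB']
    exact Subgroup.map_mono (le_sSup hB2)
  · rw [Subgroup.map_le_iff_le_comap]
    apply sSup_le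
    intro B hB
    rw [← Subgroup.map_le_iff_le_comap]
    have : B.map f ∈ Cfsg.kUpperStarFamily (R.map f) := (upperStar_map_iff f hf B R).mpr hB
    exact le_sSup (kUpperStarFamily_antitone h2 this)

end transport

/-- interleaving of the K-sequences of `P` and of a subgroup `Q` containing the terms of nonnegative index -/
theorem kSeq_interleave {P : Type*} [Group P] (Q : Subgroup P)
    (hQ : ∀ n : ℕ, Cfsg.kSeqEven P n ≤ Q ∧ Cfsg.kSeqOdd P (n + 1) ≤ Q) (n : ℕ) :
    (Cfsg.kSeqOdd P (n + 1) ≤ (Cfsg.kSeqOdd ↥Q n).map Q.subtype ∧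
      (Cfsg.kSeqOdd ↥Q n).map Q.subtype ≤ Cfsg.kSeqOdd P n) ∧
    (Cfsg.kSeqEven P n ≤ (Cfsg.kSeqEven ↥Q n).map Q.subtype ∧
      (Cfsg.kSeqEven ↥Q n).map Q.subtype ≤ Cfsg.kSeqEven P (n + 1)) := by
  have hinj : Function.Injective Q.subtype := Q.subtype_injective
  have hrange : Q.subtype.range = Q := Q.range_subtype
  have step : ∀ n, (Cfsg.kSeqOdd P (n + 1) ≤ (Cfsg.kSeqOdd ↥Q n).map Q.subtype ∧
      (Cfsg.kSeqOdd ↥Q n).map Q.subtype ≤ Cfsg.kSeqOdd P n) →
      (Cfsg.kSeqEven P n ≤ (Cfsg.kSeqEven ↥Q n).map Q.subtype ∧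
        (Cfsg.kSeqEven ↥Q n).map Q.subtype ≤ Cfsg.kSeqEven P (n + 1)) := by
    intro n hb
    exact lowerStar_sandwich Q.subtype hinj (Cfsg.kSeqOdd ↥Q n) _ _ hb.2 hb.1
      (by rw [hrange]; exact (hQ n).1)
  induction n with
  | zero =>
    have hb : Cfsg.kSeqOdd P (0 + 1) ≤ (Cfsg.kSeqOdd ↥Q 0).map Q.subtype ∧
        (Cfsg.kSeqOdd ↥Q 0).map Q.subtype ≤ Cfsg.kSeqOdd P 0 := by
      have e : (Cfsg.kSeqOdd ↥Q 0).map Q.subtype = Q := by
        show (⊤ : Subgroup ↥Q).map Q.subtype = Q
        rw [← MonoidHom.range_eq_map, hrange]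
      rw [e]
      exact ⟨(hQ 0).2, le_top⟩
    exact ⟨hb, step 0 hb⟩
  | succ n ih =>
    have ha := ih.2
    have hb : Cfsg.kSeqOdd P (n + 1 + 1) ≤ (Cfsg.kSeqOdd ↥Q (n + 1)).map Q.subtype ∧
        (Cfsg.kSeqOdd ↥Q (n + 1)).map Q.subtype ≤ Cfsg.kSeqOdd P (n + 1) := by
      have := upperStar_sandwich Q.subtype hinj (Cfsg.kSeqEven ↥Q n) (Cfsg.kSeqEven P (n + 1))
        (Cfsg.kSeqEven P n) ha.2 ha.1 (by rw [hrange]; exact (hQ (n + 1)).2)
      exact this
    exact ⟨hb, step (n + 1) hb⟩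

end Cfsg.Agent.Lib.Helper12
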