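/-
helper12: S4017 leaf MIX-SOLV (`cent_solvable`), planner helper26 (notes/S4017_leaves.lean).
Also: `C_G(t)` is a proper subgroup of even order whose order is `2^i p^j` (used by MIX-NC).
-/
import Mathlib
import Cfsg.Prelude.Def_Local
import Cfsg.Agent.Lib.Helper26.MixDefs
import Cfsg.Agent.S0144

set_option autoImplicit false

namespace Cfsg.Agent.Lib.Helper12.MIXSOLV

open Cfsg Cfsg.Agent.Lib.Helper26.Mix

universe u

variable {G : Type u} [Group G] [Finite G] {p a : ℕ} {Q : Subgroup G} {g : G}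

/-- `Q` has two distinct non-identity elements -/
theorem exists_two_ne_one (c : Ctx G p a Q g) :
    ∃ u ∈ Q, ∃ v ∈ Q, u ≠ 1 ∧ v ≠ 1 ∧ u ≠ v := by
  have hcard : 2 < Nat.card Q := by
    rw [c.hQcard]
    calc 2 < 2 ^ 2 := by norm_num
      _ ≤ 2 ^ a := Nat.pow_le_pow_right (by norm_num) c.ha
  haveI : Fintype Q := Fintype.ofFinite Q
  rw [Nat.card_eq_fintype_card, Fintype.two_lt_card_iff] at hcard
  obtain ⟨x, y, z, hxy, hxz, hyz⟩ := hcard
  by_cases hx : x = 1
  · subst hx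
    exact ⟨y, y.2, z, z.2, fun h => hxy (Subtype.ext h).symm, fun h => hxz (Subtype.ext h).symm,
      fun h => hyz (Subtype.ext h)⟩
  · by_cases hy : y = 1
    · subst hy
      exact ⟨x, x.2, z, z.2, fun h => hx (Subtype.ext h), fun h => hyz (Subtype.ext h).symm,
        fun h => hxz (Subtype.ext h)⟩
    · exact ⟨x, x.2, y, y.2, fun h => hx (Subtype.ext h), fun h => hy (Subtype.ext h),
        fun h => hxy (Subtype.ext h)⟩

/-- `C_G(t)` is proper for `1 ≠ t ∈ Q` -/
theorem centralizer_ne_top (c : Ctx G p a Q g) (t : G) (ht : t ∈ Q) (ht1 : t ≠ 1) :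
    Subgroup.centralizer ({t} : Set G) ≠ ⊤ := by
  intro htop
  obtain ⟨u, hu, v, hv, hu1, hv1, huv⟩ := exists_two_ne_one c
  have hcent : ∀ x : G, x * t * x⁻¹ = t := by
    intro x
    have hx : x ∈ Subgroup.centralizer ({t} : Set G) := by rw [htop]; exact Subgroup.mem_top x
    rw [Subgroup.mem_centralizer_iff] at hx
    have := hx t rfl
    rw [← this]; group
  obtain ⟨i, hi⟩ := c.htrans t ht ht1 u hu hu1
  obtain ⟨j, hj⟩ := c.htrans t ht ht1 v hv hv1
  rw [hcent] at hi hj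
  exact huv (hi.symm.trans hj)

/-- `C_G(t)` has even order -/
theorem two_dvd_card_centralizer (c : Ctx G p a Q g) (t : G) (ht : t ∈ Q) (ht1 : t ≠ 1) :
    2 ∣ Nat.card ↥(Subgroup.centralizer ({t} : Set G)) := by
  have htt : t * t = 1 := c.hQexp t ht
  have ho : orderOf t = 2 := by
    apply orderOf_eq_prime
    · rw [pow_two]; exact htt
    · exact ht1
  have hmem : t ∈ Subgroup.centralizer ({t} : Set G) := by
    rw [Subgroup.mem_centralizer_iff]; intro h hh; rw [Set.mem_singleton_iff] at hh; rw [hh]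
  have h1 : orderOf (⟨t, hmem⟩ : ↥(Subgroup.centralizer ({t} : Set G))) = 2 := by
    rw [← ho]; exact Subgroup.orderOf_mk t hmem
  rw [← h1]
  exact orderOf_dvd_natCard _

/-- the prime divisors of `|C_G(t)|` are `2` and `p` -/
theorem prime_dvd_card_centralizer (c : Ctx G p a Q g) (t : G) (ht : t ∈ Q) (ht1 : t ≠ 1)
    (s : ℕ) (hs : s.Prime) (hsd : s ∣ Nat.card ↥(Subgroup.centralizer ({t} : Set G))) :
    s = 2 ∨ s = p :=
  c.hstar _ (centralizer_ne_top c t ht ht1) (two_dvd_card_centralizer c t ht ht1) s hs hsd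

/-- a natural number whose prime divisors are `2` and `p` is `2^i p^j` -/
theorem eq_two_pow_mul_prime_pow (n p : ℕ) (hn : n ≠ 0) (hp : p.Prime)
    (h : ∀ s : ℕ, s.Prime → s ∣ n → s = 2 ∨ s = p) :
    ∃ i j : ℕ, n = 2 ^ i * p ^ j ∧ Nat.Coprime (2 ^ i) (ordCompl[2] n) ∧ ordCompl[2] n = p ^ j ∧
      ordProj[2] n = 2 ^ i := by
  have hm0 : ordCompl[2] n ≠ 0 := (Nat.ordCompl_pos 2 hn).ne'
  have hm : ordCompl[2] n = p ^ (ordCompl[2] n).primeFactorsList.length := by
    apply Nat.eq_prime_pow_of_unique_prime_dvd hm0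
    intro d hd hdm
    have hdn : d ∣ n := hdm.trans (Nat.ordCompl_dvd n 2)
    rcases h d hd hdn with h2 | hpp
    · exfalso
      subst h2
      exact Nat.not_dvd_ordCompl Nat.prime_two hn hdm
    · exact hpp
  refine ⟨n.factorization 2, (ordCompl[2] n).primeFactorsList.length, ?_, ?_, hm, rfl⟩
  · conv_lhs => rw [← Nat.ordProj_mul_ordCompl_eq_self n 2]
    rw [← hm]
  · exact Nat.Coprime.pow_left _ (Nat.coprime_ordCompl Nat.prime_two hn)

/-- SOLV : `C_G(t)` is solvable. -/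
theorem cent_solvable (c : Ctx G p a Q g) (t : G) (ht : t ∈ Q) (ht1 : t ≠ 1) :
    Group.IsSolvable ↥(Subgroup.centralizer ({t} : Set G)) := by
  have hn : Nat.card ↥(Subgroup.centralizer ({t} : Set G)) ≠ 0 := Nat.card_pos.ne'
  obtain ⟨i, j, hij, -, -, -⟩ := eq_two_pow_mul_prime_pow _ p hn c.hp
    (prime_dvd_card_centralizer c t ht ht1)
  exact Cfsg.Agent.S0144.result 2 p i j Nat.prime_two c.hp hij

end Cfsg.Agent.Lib.Helper12.MIXSOLV
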