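/-
helper12: S4017 leaf MIX-CENTRAL (`normal_le_center`), planner helper26 (notes/S4017_leaves.lean).
`normal_le_center_of` : the `_of` form over NORMAL (`normal_isPGroup`, helper26).
-/
import Mathlib
import Cfsg.Prelude.Def_Local
import Cfsg.Agent.Lib.Helper26.MixDefs
import Cfsg.Agent.Lib.Helper12.MIXSOLV

set_option autoImplicit false

namespace Cfsg.Agent.Lib.Helper12.MIXCENTRAL

open Cfsg Cfsg.Agent.Lib.Helper26.Mix Cfsg.Agent.Lib.Helper12.MIXSOLV

universe u

variable {G : Type u} [Group G] [Finite G] {p a : ℕ} {Q : Subgroup G} {g : G}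

/-- every `p`-element centralizes a normal `p`-subgroup (by `hab`) -/
theorem p_elt_mem_centralizer (c : Ctx G p a Q g) (N : Subgroup G) [N.Normal] (hNp : IsPGroup p ↥N)
    (x : G) (k : ℕ) (hx : x ^ p ^ k = 1) : x ∈ Subgroup.centralizer (N : Set G) := by
  haveI : Fact p.Prime := ⟨c.hp⟩
  have hxp : IsPGroup p ↥(Subgroup.zpowers x) := by
    obtain ⟨m, -, hm⟩ := (Nat.dvd_prime_pow c.hp).1 (orderOf_dvd_of_pow_eq_one hx)
    exact IsPGroup.of_card (n := m) (by rw [Nat.card_zpowers, hm])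
  have hS : IsPGroup p ↥(N ⊔ Subgroup.zpowers x) := IsPGroup.to_sup_of_normal_left hNp hxp
  rw [Subgroup.mem_centralizer_iff]
  intro n hn
  exact c.hab _ hS n ((le_sup_left : N ≤ N ⊔ Subgroup.zpowers x) hn) x
    ((le_sup_right : Subgroup.zpowers x ≤ N ⊔ Subgroup.zpowers x) (Subgroup.mem_zpowers x))

/-- CENTRAL (`_of` form over NORMAL) : every proper normal subgroup is central. -/
theorem normal_le_center_of (c : Ctx G p a Q g)
    (hnormal : ∀ (N : Subgroup G) [N.Normal], N ≠ ⊤ → IsPGroup p ↥N)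
    (N : Subgroup G) [N.Normal] (hN : N ≠ ⊤) : N ≤ Subgroup.center G := by
  have hNp : IsPGroup p ↥N := hnormal N hN
  by_cases hC : Subgroup.centralizer (N : Set G) = ⊤
  · intro n hn
    rw [Subgroup.mem_center_iff]
    intro x
    have hx : x ∈ Subgroup.centralizer (N : Set G) := by rw [hC]; exact Subgroup.mem_top x
    rw [Subgroup.mem_centralizer_iff] at hx
    exact (hx n hn).symm
  · exfalso
    have hCp : IsPGroup p ↥(Subgroup.centralizer (N : Set G)) := hnormal _ hC
    obtain ⟨k, hk⟩ := c.hgp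
    have hgC : g ∈ Subgroup.centralizer (N : Set G) := p_elt_mem_centralizer c N hNp g k hk
    have hCn : (Subgroup.centralizer (N : Set G)).Normal := inferInstance
    -- `g` centralizes `Q`
    have hgQ : ∀ u ∈ Q, g * u * g⁻¹ = u := by
      intro u hu
      have h1 : g * u * g⁻¹ * u⁻¹ ∈ Subgroup.centralizer (N : Set G) := by
        have h2 : u * g⁻¹ * u⁻¹ ∈ Subgroup.centralizer (N : Set G) :=
          hCn.conj_mem _ (Subgroup.inv_mem _ hgC) u
        have : g * u * g⁻¹ * u⁻¹ = g * (u * g⁻¹ * u⁻¹) := by group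
        rw [this]
        exact Subgroup.mul_mem _ hgC h2
      have h3 : g * u * g⁻¹ * u⁻¹ ∈ Q :=
        Subgroup.mul_mem _ ((Subgroup.mem_normalizer_iff.mp c.hgN u).mp hu) (Subgroup.inv_mem _ hu)
      -- order is a power of `p` and a power of `2`
      obtain ⟨m, hm⟩ := hCp ⟨_, h1⟩
      have hm' : (g * u * g⁻¹ * u⁻¹) ^ p ^ m = 1 := by
        have := congrArg Subtype.val hm
        simpa using this
      have h2a : (g * u * g⁻¹ * u⁻¹) ^ 2 ^ a = 1 := by
        have h4 : orderOf (g * u * g⁻¹ * u⁻¹) ∣ Nat.card ↥Q := Subgroup.orderOf_dvd_natCard _ h3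
        rw [c.hQcard] at h4
        exact orderOf_dvd_iff_pow_eq_one.mp h4
      have hcop : Nat.Coprime (p ^ m) (2 ^ a) := by
        apply Nat.Coprime.pow
        exact (Nat.coprime_primes c.hp Nat.prime_two).mpr c.hp2
      have h5 : orderOf (g * u * g⁻¹ * u⁻¹) ∣ Nat.gcd (p ^ m) (2 ^ a) :=
        Nat.dvd_gcd (orderOf_dvd_of_pow_eq_one hm') (orderOf_dvd_of_pow_eq_one h2a)
      rw [hcop, Nat.dvd_one, orderOf_eq_one_iff] at h5
      calc g * u * g⁻¹ = (g * u * g⁻¹ * u⁻¹) * u := by group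
        _ = u := by rw [h5, one_mul]
    obtain ⟨u, hu, v, hv, hu1, hv1, huv⟩ := exists_two_ne_one c
    obtain ⟨i, hi⟩ := c.htrans u hu hu1 v hv hv1
    apply huv
    rw [← hi]
    have : Commute g u := by
      have := hgQ u hu
      show g * u = u * g
      calc g * u = (g * u * g⁻¹) * g := by group
        _ = u * g := by rw [this]
    have h6 : g ^ i * u = u * g ^ i := (this.pow_left i).eq
    rw [h6]; group

end Cfsg.Agent.Lib.Helper12.MIXCENTRAL
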