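/-
helper12: S4017 leaf MIX-FIXED (`comm_of_fixed`), planner helper26 (notes/S4017_leaves.lean).
Also a self-contained proof of the conjugation formula for `centralizerPPrimeCore` (used here only).
-/
import Mathlib
import Cfsg.Prelude.Def_Local
import Cfsg.Agent.Lib.Helper26.MixDefs
import Cfsg.Agent.Lib.Helper12.Cores

set_option autoImplicit false

namespace Cfsg.Agent.Lib.Helper12.MIXFIXED

open Cfsg Cfsg.Agent.Lib.Helper26.Mix

universe u

section gen

variable {G : Type u} [Group G]

theorem map_conj_centralizer (x t : G) :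
    (Subgroup.centralizer ({t} : Set G)).map (MulAut.conj x).toMonoidHom =
      Subgroup.centralizer ({x * t * x⁻¹} : Set G) := by
  ext y
  simp only [Subgroup.mem_map, Subgroup.mem_centralizer_iff, Set.mem_singleton_iff, forall_eq,
    MulEquiv.coe_toMonoidHom, MulAut.conj_apply]
  constructor
  · rintro ⟨c, hc, rfl⟩
    calc x * t * x⁻¹ * (x * c * x⁻¹) = x * (t * c) * x⁻¹ := by group
      _ = x * (c * t) * x⁻¹ := by rw [hc]
      _ = x * c * x⁻¹ * (x * t * x⁻¹) := by group
  · intro hy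
    refine ⟨x⁻¹ * y * x, ?_, by group⟩
    calc t * (x⁻¹ * y * x) = x⁻¹ * ((x * t * x⁻¹) * y) * x := by group
      _ = x⁻¹ * (y * (x * t * x⁻¹)) * x := by rw [hy]
      _ = x⁻¹ * y * x * t := by group

/-- conjugation by `x` as an isomorphism `C_G(t) ≃* C_G(x t x⁻¹)` -/
noncomputable def centConj (x t : G) :
    ↥(Subgroup.centralizer ({t} : Set G)) ≃* ↥(Subgroup.centralizer ({x * t * x⁻¹} : Set G)) :=
  ((MulAut.conj x).subgroupMap (Subgroup.centralizer ({t} : Set G))).trans
    (MulEquiv.subgroupCongr (map_conj_centralizer x t))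

theorem centConj_coe (x t : G) (c : ↥(Subgroup.centralizer ({t} : Set G))) :
    ((centConj x t c : ↥(Subgroup.centralizer ({x * t * x⁻¹} : Set G))) : G) = x * (c : G) * x⁻¹ := by
  rfl

/-- `x w x⁻¹ ∈ O(C_G(x t x⁻¹))` for `w ∈ O(C_G(t))` -/
theorem conj_mem_core (x t w : G) (hw : w ∈ centralizerPPrimeCore 2 t) :
    x * w * x⁻¹ ∈ centralizerPPrimeCore 2 (x * t * x⁻¹) := by
  unfold centralizerPPrimeCore at hw ⊢
  obtain ⟨w', hw', rfl⟩ := hw
  refine ⟨centConj x t w', ?_, ?_⟩
  · have h := Cfsg.Agent.Lib.Helper12.pPrimeCore_map_equiv 2 (centConj x t)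
    rw [← h]
    exact ⟨w', hw', rfl⟩
  · simp [centConj_coe]

theorem core_le_centralizer (t : G) :
    centralizerPPrimeCore 2 t ≤ Subgroup.centralizer ({t} : Set G) := by
  unfold centralizerPPrimeCore
  rintro _ ⟨w', _, rfl⟩
  exact w'.2

end gen

variable {G : Type u} [Group G] [Finite G] {p a : ℕ} {Q : Subgroup G} {g : G}

/-- FIXED : if `g` centralizes every `θ(t)` then `Q` does. -/
theorem comm_of_fixed (c : Ctx G p a Q g)
    (hfix : ∀ t ∈ Q, t ≠ 1 → ∀ w ∈ centralizerPPrimeCore 2 t, g * w = w * g) : Comm G Q := by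
  intro t ht ht1 w hw u hu
  by_cases hu1 : u = 1
  · subst hu1; simp
  obtain ⟨i, hi⟩ := c.htrans t ht ht1 u hu hu1
  have hgw : g * w = w * g := hfix t ht ht1 w hw
  have hcomm : g ^ i * w = w * g ^ i := by
    have : Commute g w := hgw
    exact (this.pow_left i).eq
  have hconj : g ^ i * w * (g ^ i)⁻¹ = w := by
    rw [hcomm]; group
  have hmem : w ∈ centralizerPPrimeCore 2 u := by
    have h := conj_mem_core (g ^ i) t w hw
    rw [hconj, hi] at h
    exact h
  have h2 := core_le_centralizer u hmem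
  rw [Subgroup.mem_centralizer_iff] at h2
  exact (h2 u rfl).symm

end Cfsg.Agent.Lib.Helper12.MIXFIXED
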