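/-
helper12: S4017 leaf MIX-NC (`normalizer_le_centralizer`), planner helper26 (notes/S4017_leaves.lean).
-/
import Mathlib
import Cfsg.Prelude.Def_Local
import Cfsg.Agent.Lib.Helper26.MixDefs
import Cfsg.Agent.Lib.Helper12.MIXSOLV

set_option autoImplicit false

namespace Cfsg.Agent.Lib.Helper12.MIXNC

open Cfsg Cfsg.Agent.Lib.Helper26.Mix Cfsg.Agent.Lib.Helper12.MIXSOLV

universe u

variable {G : Type u} [Group G] [Finite G] {p a : ℕ} {Q : Subgroup G} {g : G}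

/-- a `2`-element normalizing the Sylow `2`-subgroup `Q` lies in `Q` -/
theorem two_elt_mem (c : Ctx G p a Q g) (y : G) (hyN : y ∈ Subgroup.normalizer (Q : Set G))
    (k : ℕ) (hy : y ^ 2 ^ k = 1) : y ∈ Q := by
  have hQ2 : IsPGroup 2 ↥Q := IsPGroup.of_card c.hQcard
  have hy2 : IsPGroup 2 ↥(Subgroup.zpowers y) := by
    obtain ⟨m, -, hm⟩ := (Nat.dvd_prime_pow Nat.prime_two).1 (orderOf_dvd_of_pow_eq_one hy)
    exact IsPGroup.of_card (n := m) (by rw [Nat.card_zpowers, hm])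
  have hle : Subgroup.zpowers y ≤ Subgroup.normalizer (Q : Set G) := by
    rw [Subgroup.zpowers_le]; exact hyN
  have hS : IsPGroup 2 ↥(Q ⊔ Subgroup.zpowers y) := IsPGroup.to_sup_of_normal_left' hQ2 hy2 hle
  obtain ⟨m, hm⟩ := IsPGroup.iff_card.mp hS
  have hG0 : Nat.card G ≠ 0 := Nat.card_pos.ne'
  have hdvd : 2 ^ m ∣ Nat.card G := by
    rw [← hm]; exact Subgroup.card_subgroup_dvd_card _
  have hma : m ≤ a := by
    rw [← c.hQsyl]
    exact (Nat.Prime.pow_dvd_iff_le_factorization Nat.prime_two hG0).mp hdvd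
  have hcard : Nat.card ↥(Q ⊔ Subgroup.zpowers y) ≤ Nat.card ↥Q := by
    rw [hm, c.hQcard]; exact Nat.pow_le_pow_right (by norm_num) hma
  have heq : Q = Q ⊔ Subgroup.zpowers y := Subgroup.eq_of_le_of_card_ge le_sup_left hcard
  rw [heq]
  exact (le_sup_right : Subgroup.zpowers y ≤ Q ⊔ Subgroup.zpowers y) (Subgroup.mem_zpowers y)

/-- a `p`-element normalizing `Q` and centralizing `t` centralizes `Q` -/
theorem p_elt_centralizes (c : Ctx G p a Q g) (t : G) (ht : t ∈ Q) (ht1 : t ≠ 1) (y : G)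
    (hyN : y ∈ Subgroup.normalizer (Q : Set G)) (hyt : y * t = t * y) (k : ℕ)
    (hy : y ^ p ^ k = 1) : ∀ u ∈ Q, y * u * y⁻¹ = u := by
  classical
  by_contra hcon
  push Not at hcon
  obtain ⟨u, hu, hne⟩ := hcon
  have hp2 : 2 ≤ p := c.hp.two_le
  have hu1 : u ≠ 1 := by
    rintro rfl; apply hne; group
  have hut : u ≠ t := by
    rintro rfl; apply hne; rw [hyt]; group
  have hpowN : ∀ i : ℕ, y ^ i ∈ Subgroup.normalizer (Q : Set G) := fun i => Subgroup.pow_mem _ hyN i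
  have hpowt : ∀ i : ℕ, y ^ i * t = t * y ^ i := fun i => by
    have : Commute y t := hyt
    exact (this.pow_left i).eq
  have hmemQ : ∀ i : ℕ, y ^ i * u * (y ^ i)⁻¹ ∈ Q := fun i =>
    (Subgroup.mem_normalizer_iff.mp (hpowN i) u).mp hu
  haveI : Fintype ↥Q := Fintype.ofFinite ↥Q
  let f' : Fin p → ↥Q := fun i => ⟨y ^ (i : ℕ) * u * (y ^ (i : ℕ))⁻¹, hmemQ i⟩
  -- injectivity
  have hnocomm : ∀ d : ℕ, 0 < d → d < p → y ^ d * u ≠ u * y ^ d := by
    intro d hd0 hdp hcomm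
    have hcop : Nat.Coprime d (p ^ k) := by
      apply Nat.Coprime.pow_right
      exact (Nat.coprime_comm.mp ((Nat.Prime.coprime_iff_not_dvd c.hp).mpr
        (Nat.not_dvd_of_pos_of_lt hd0 hdp)))
    have hbez := Nat.gcd_eq_gcd_ab d (p ^ k)
    rw [hcop] at hbez
    have h1 : y ^ d ∈ Subgroup.centralizer ({u} : Set G) := by
      rw [Subgroup.mem_centralizer_iff]; intro h hh; rw [Set.mem_singleton_iff] at hh; subst hh
      exact hcomm.symm
    have h2 : y ^ (p ^ k) ∈ Subgroup.centralizer ({u} : Set G) := by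
      rw [hy]; exact Subgroup.one_mem _
    have h3 : y ∈ Subgroup.centralizer ({u} : Set G) := by
      have : y = (y ^ d) ^ (Nat.gcdA d (p ^ k)) * (y ^ (p ^ k)) ^ (Nat.gcdB d (p ^ k)) := by
        rw [← zpow_natCast, ← zpow_natCast, ← zpow_mul, ← zpow_mul, ← zpow_add]
        have : ((d : ℕ) : ℤ) * Nat.gcdA d (p ^ k) + ((p ^ k : ℕ) : ℤ) * Nat.gcdB d (p ^ k) = 1 := by
          rw [← hbez]; simp
        rw [this, zpow_one]
      rw [this]
      exact Subgroup.mul_mem _ (Subgroup.zpow_mem _ h1 _) (Subgroup.zpow_mem _ h2 _)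
    rw [Subgroup.mem_centralizer_iff] at h3
    apply hne
    rw [← h3 u rfl]; group
  have hinj : Function.Injective f' := by
    intro i j hij
    have hij' : y ^ (i : ℕ) * u * (y ^ (i : ℕ))⁻¹ = y ^ (j : ℕ) * u * (y ^ (j : ℕ))⁻¹ :=
      congrArg Subtype.val hij
    by_contra hne2
    have hne3 : (i : ℕ) ≠ (j : ℕ) := fun h => hne2 (Fin.ext h)
    rcases Nat.lt_or_gt_of_ne hne3 with hlt | hlt
    · apply hnocomm ((j : ℕ) - (i : ℕ)) (Nat.sub_pos_of_lt hlt) (lt_of_le_of_lt (Nat.sub_le _ _) j.2)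
      have : y ^ (j : ℕ) = y ^ (i : ℕ) * y ^ ((j : ℕ) - (i : ℕ)) := by
        rw [← pow_add]; congr 1; omega
      rw [this] at hij'
      have h4 : u = y ^ ((j : ℕ) - (i : ℕ)) * u * (y ^ ((j : ℕ) - (i : ℕ)))⁻¹ := by
        have := congrArg (fun z => (y ^ (i : ℕ))⁻¹ * z * y ^ (i : ℕ)) hij'
        beta_reduce at this
        calc u = (y ^ (i : ℕ))⁻¹ * (y ^ (i : ℕ) * u * (y ^ (i : ℕ))⁻¹) * y ^ (i : ℕ) := by group
          _ = _ := this
          _ = _ := by group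
      calc y ^ ((j : ℕ) - (i : ℕ)) * u
          = (y ^ ((j : ℕ) - (i : ℕ)) * u * (y ^ ((j : ℕ) - (i : ℕ)))⁻¹) * y ^ ((j : ℕ) - (i : ℕ)) := by
            group
        _ = u * y ^ ((j : ℕ) - (i : ℕ)) := by rw [← h4]
    · apply hnocomm ((i : ℕ) - (j : ℕ)) (Nat.sub_pos_of_lt hlt) (lt_of_le_of_lt (Nat.sub_le _ _) i.2)
      have : y ^ (i : ℕ) = y ^ (j : ℕ) * y ^ ((i : ℕ) - (j : ℕ)) := by
        rw [← pow_add]; congr 1; omega
      rw [this] at hij'
      have h4 : u = y ^ ((i : ℕ) - (j : ℕ)) * u * (y ^ ((i : ℕ) - (j : ℕ)))⁻¹ := by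
        have := congrArg (fun z => (y ^ (j : ℕ))⁻¹ * z * y ^ (j : ℕ)) hij'.symm
        beta_reduce at this
        calc u = (y ^ (j : ℕ))⁻¹ * (y ^ (j : ℕ) * u * (y ^ (j : ℕ))⁻¹) * y ^ (j : ℕ) := by group
          _ = _ := this
          _ = _ := by group
      calc y ^ ((i : ℕ) - (j : ℕ)) * u
          = (y ^ ((i : ℕ) - (j : ℕ)) * u * (y ^ ((i : ℕ) - (j : ℕ)))⁻¹) * y ^ ((i : ℕ) - (j : ℕ)) := by
            group
        _ = u * y ^ ((i : ℕ) - (j : ℕ)) := by rw [← h4]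
  -- the image avoids `1` and `t`
  let one : ↥Q := 1
  let tt : ↥Q := ⟨t, ht⟩
  have htt1 : tt ≠ one := fun h => ht1 (congrArg Subtype.val h)
  have himg : Finset.univ.image f' ⊆ (Finset.univ.erase one).erase tt := by
    intro z hz
    rw [Finset.mem_image] at hz
    obtain ⟨i, -, rfl⟩ := hz
    rw [Finset.mem_erase, Finset.mem_erase]
    refine ⟨?_, ?_, Finset.mem_univ _⟩
    · intro h
      have h' : y ^ (i : ℕ) * u * (y ^ (i : ℕ))⁻¹ = t := congrArg Subtype.val h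
      apply hut
      calc u = (y ^ (i : ℕ))⁻¹ * (y ^ (i : ℕ) * u * (y ^ (i : ℕ))⁻¹) * y ^ (i : ℕ) := by group
        _ = (y ^ (i : ℕ))⁻¹ * t * y ^ (i : ℕ) := by rw [h']
        _ = (y ^ (i : ℕ))⁻¹ * (t * y ^ (i : ℕ)) := by group
        _ = (y ^ (i : ℕ))⁻¹ * (y ^ (i : ℕ) * t) := by rw [hpowt]
        _ = t := by group
    · intro h
      have h' : y ^ (i : ℕ) * u * (y ^ (i : ℕ))⁻¹ = 1 := congrArg Subtype.val h
      apply hu1
      calc u = (y ^ (i : ℕ))⁻¹ * (y ^ (i : ℕ) * u * (y ^ (i : ℕ))⁻¹) * y ^ (i : ℕ) := by group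
        _ = 1 := by rw [h']; group
  have hc1 := Finset.card_le_card himg
  rw [Finset.card_image_of_injective _ hinj, Finset.card_univ, Fintype.card_fin,
    Finset.card_erase_of_mem (by rw [Finset.mem_erase]; exact ⟨htt1, Finset.mem_univ _⟩),
    Finset.card_erase_of_mem (Finset.mem_univ _), Finset.card_univ, ← Nat.card_eq_fintype_card,
    c.hQcard, ← c.hpa] at hc1
  omega

/-- NC : in `C_G(t)` the normalizer of `Q` centralizes `Q`. -/
theorem normalizer_le_centralizer (c : Ctx G p a Q g) (t : G) (ht : t ∈ Q) (ht1 : t ≠ 1) (x : G)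
    (hxt : x ∈ Subgroup.centralizer ({t} : Set G)) (hxN : x ∈ Subgroup.normalizer (Q : Set G)) :
    x ∈ Subgroup.centralizer (Q : Set G) := by
  have hxt' : x * t = t * x := by
    rw [Subgroup.mem_centralizer_iff] at hxt
    exact (hxt t rfl).symm
  have hn0 : orderOf x ≠ 0 := (orderOf_pos x).ne'
  have hdvd : orderOf x ∣ Nat.card ↥(Subgroup.centralizer ({t} : Set G)) :=
    Subgroup.orderOf_dvd_natCard _ hxt
  obtain ⟨i, j, hij, hcop, hcompl, hproj⟩ := eq_two_pow_mul_prime_pow (orderOf x) p hn0 c.hp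
    (fun s hs hsd => prime_dvd_card_centralizer c t ht ht1 s hs (hsd.trans hdvd))
  rw [hcompl] at hcop
  -- the 2-part
  have h2 : x ^ (p ^ j) ∈ Subgroup.centralizer (Q : Set G) := by
    have hmem : x ^ (p ^ j) ∈ Q := by
      apply two_elt_mem c _ (Subgroup.pow_mem _ hxN _) i
      rw [← pow_mul, mul_comm, ← hij, pow_orderOf_eq_one]
    rw [Subgroup.mem_centralizer_iff]
    intro u hu
    exact c.hQab u hu _ hmem
  -- the p-part
  have hp' : x ^ (2 ^ i) ∈ Subgroup.centralizer (Q : Set G) := by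
    have hcent := p_elt_centralizes c t ht ht1 (x ^ (2 ^ i)) (Subgroup.pow_mem _ hxN _)
      (by have : Commute x t := hxt'; exact (this.pow_left _).eq) j
      (by rw [← pow_mul, ← hij, pow_orderOf_eq_one])
    rw [Subgroup.mem_centralizer_iff]
    intro u hu
    have := hcent u hu
    calc u * x ^ (2 ^ i) = (x ^ (2 ^ i) * u * (x ^ (2 ^ i))⁻¹) * x ^ (2 ^ i) := by rw [this]
      _ = x ^ (2 ^ i) * u := by group
  have hbez := Nat.gcd_eq_gcd_ab (2 ^ i) (p ^ j)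
  rw [hcop] at hbez
  have : x = (x ^ (2 ^ i)) ^ (Nat.gcdA (2 ^ i) (p ^ j)) * (x ^ (p ^ j)) ^ (Nat.gcdB (2 ^ i) (p ^ j)) := by
    rw [← zpow_natCast, ← zpow_natCast, ← zpow_mul, ← zpow_mul, ← zpow_add]
    have : ((2 ^ i : ℕ) : ℤ) * Nat.gcdA (2 ^ i) (p ^ j) + ((p ^ j : ℕ) : ℤ) * Nat.gcdB (2 ^ i) (p ^ j) = 1 := by
      rw [← hbez]; simp
    rw [this, zpow_one]
  rw [this]
  exact Subgroup.mul_mem _ (Subgroup.zpow_mem _ hp' _) (Subgroup.zpow_mem _ h2 _)

end Cfsg.Agent.Lib.Helper12.MIXNC
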