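import Mathlib
import Cfsg.Agent.Lib.Helper16.NM.Base

/-!
# S4146 (helper16), leaf EL (endgame counting) (helper12)

If the centralizer of every non-central element of `M = {idx = 1 ∨ idx = m}` lies in `M`, the class-size hypothesis
`{1, n, m, nm}` is contradictory.
-/

set_option autoImplicit false

namespace Cfsg.Agent.Lib.Helper12.NM

open Cfsg.Agent.Lib.Helper22.ClsSet Cfsg.Agent.Lib.Helper16.NM

variable {G : Type*} [Group G] [Finite G] {n m : ℕ}

/-- for a normal subgroup `K`: `|K : C ⊓ K|` divides `|G : C|` -/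
theorem relIndex_dvd_index_of_normal_right12 (C K : Subgroup G) [K.Normal] :
    C.relIndex K ∣ C.index := by
  have h1 : C.relIndex (C ⊔ K) ∣ C.index := Subgroup.relIndex_dvd_index_of_le le_sup_left
  have h2 : C.relIndex (C ⊔ K) = C.relIndex K := by
    have e1 : K.relIndex (C ⊔ K) = K.relIndex C := Subgroup.relIndex_sup_right C K
    have c1 : Nat.card C * C.relIndex (C ⊔ K) = Nat.card (C ⊔ K : Subgroup G) := by
      have := Subgroup.relIndex_mul_relIndex (⊥ : Subgroup G) C (C ⊔ K) bot_le le_sup_left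
      rwa [Subgroup.relIndex_bot_left, Subgroup.relIndex_bot_left] at this
    have c2 : Nat.card K * K.relIndex (C ⊔ K) = Nat.card (C ⊔ K : Subgroup G) := by
      have := Subgroup.relIndex_mul_relIndex (⊥ : Subgroup G) K (C ⊔ K) bot_le le_sup_right
      rwa [Subgroup.relIndex_bot_left, Subgroup.relIndex_bot_left] at this
    have c3 : Nat.card (C ⊓ K : Subgroup G) * K.relIndex C = Nat.card C := by
      have := Subgroup.relIndex_mul_relIndex (⊥ : Subgroup G) (C ⊓ K) C bot_le inf_le_left
      rwa [Subgroup.relIndex_bot_left, Subgroup.relIndex_bot_left, Subgroup.inf_relIndex_left] at this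
    have c4 : Nat.card (C ⊓ K : Subgroup G) * C.relIndex K = Nat.card K := by
      have := Subgroup.relIndex_mul_relIndex (⊥ : Subgroup G) (C ⊓ K) K bot_le inf_le_right
      rwa [Subgroup.relIndex_bot_left, Subgroup.relIndex_bot_left, Subgroup.inf_relIndex_right] at this
    rw [e1] at c2
    have hpos : 0 < Nat.card C := Nat.card_pos
    have : Nat.card C * C.relIndex (C ⊔ K) = Nat.card C * C.relIndex K := by
      rw [c1, ← c2, ← c4, ← c3]
      ring
    exact Nat.eq_of_mul_eq_mul_left hpos this
  rwa [h2] at h1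

/-- EL (endgame counting) -/
theorem EL (h : CS G n m) (hlt : m < n)
    (hc : ∀ v ∈ M h hlt, v ∉ Subgroup.center G →
      Subgroup.centralizer ({v} : Set G) ≤ M h hlt) : False := by
  have hn1 := h.one_lt_n
  have hm1 := h.one_lt_m
  set Mg : Subgroup G := M h hlt with hMg
  set Z : Subgroup G := Subgroup.center G with hZ
  have hZM : Z ≤ Mg := center_le_M h hlt
  -- `|G : M| ∣ m`
  have hA : Mg.index ∣ m := by
    obtain ⟨v0, hv0⟩ := h.ex_m
    have hv0M : v0 ∈ Mg := Or.inr hv0
    have hv0Z : v0 ∉ Z := by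
      intro hz
      have := (idx_eq_one_iff v0).2 hz
      omega
    have := Subgroup.index_dvd_of_le (hc v0 hv0M hv0Z)
    rwa [show (Subgroup.centralizer ({v0} : Set G)).index = m from hv0] at this
  -- an element outside `M` meets `M` in `Z`
  have hmeet : ∀ y : G, y ∉ Mg → Subgroup.centralizer ({y} : Set G) ⊓ Mg = Z := by
    intro y hy
    apply le_antisymm
    · intro v hv
      obtain ⟨hv1, hv2⟩ := Subgroup.mem_inf.1 hv
      by_contra hvz
      apply hy
      apply hc v hv2 hvz
      rw [mem_cent_singleton] at hv1 ⊢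
      exact hv1.symm
    · apply le_inf _ hZM
      intro z hz
      rw [mem_cent_singleton]
      exact (Subgroup.mem_center_iff.1 hz y)
  -- `|M : Z| ∣ n`
  obtain ⟨x, hx⟩ := h.ex_n
  have hxM : x ∉ Mg := (not_mem_M_iff h hlt x).2 (Or.inl hx)
  have hB : Z.relIndex Mg ∣ n := by
    have h1 := relIndex_dvd_index_of_normal_right12 (Subgroup.centralizer ({x} : Set G)) Mg
    rw [show (Subgroup.centralizer ({x} : Set G)).index = n from hx,
      ← Subgroup.inf_relIndex_right, hmeet x hxM] at h1
    exact h1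
  -- `|C(g) : Z| ∣ |G : M|`
  obtain ⟨g, hg⟩ := h.ex_nm
  have hgM : g ∉ Mg := (not_mem_M_iff h hlt g).2 (Or.inr hg)
  set Cg : Subgroup G := Subgroup.centralizer ({g} : Set G) with hCg
  have hD : Z.relIndex Cg ∣ Mg.index := by
    have h1 : Mg.relIndex Cg ∣ Mg.index := Subgroup.relIndex_dvd_index_of_normal Mg Cg
    rw [← Subgroup.inf_relIndex_right, inf_comm, hmeet g hgM] at h1
    exact h1
  have hZC : Z ≤ Cg := by
    rw [← hmeet g hgM]
    exact inf_le_left
  -- counting
  have e1 : Z.relIndex Mg * Mg.index = Z.index := Subgroup.relIndex_mul_index hZM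
  have e2 : Z.relIndex Cg * Cg.index = Z.index := Subgroup.relIndex_mul_index hZC
  have e3 : Cg.index = n * m := hg
  have hApos : 0 < Mg.index := Nat.pos_of_ne_zero Subgroup.index_ne_zero_of_finite
  have hBpos : 0 < Z.relIndex Mg := by
    rcases Nat.eq_zero_or_pos (Z.relIndex Mg) with h0 | h0
    · rw [h0, zero_mul] at e1
      exact absurd e1.symm Subgroup.index_ne_zero_of_finite
    · exact h0
  have hDpos : 0 < Z.relIndex Cg := by
    rcases Nat.eq_zero_or_pos (Z.relIndex Cg) with h0 | h0
    · rw [h0, zero_mul] at e2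
      exact absurd e2.symm Subgroup.index_ne_zero_of_finite
    · exact h0
  have hAle : Mg.index ≤ m := Nat.le_of_dvd (by omega) hA
  have hBle : Z.relIndex Mg ≤ n := Nat.le_of_dvd (by omega) hB
  have hkey : Z.relIndex Cg * (n * m) = Z.relIndex Mg * Mg.index := by
    rw [e1, ← e3, e2]
  have hle : Z.relIndex Mg * Mg.index ≤ n * m := Nat.mul_le_mul hBle hAle
  have hD1 : Z.relIndex Cg = 1 := by
    have hnm : 0 < n * m := by positivity
    by_contra hne
    have h2 : 2 ≤ Z.relIndex Cg := by omega
    have : 2 * (n * m) ≤ Z.relIndex Cg * (n * m) := Nat.mul_le_mul_right _ h2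
    omega
  -- so `C(g) = Z`, and `g` is central
  have hCZ : Cg ≤ Z := Subgroup.relIndex_eq_one.1 hD1
  have hgC : g ∈ Cg := by
    rw [hCg, mem_cent_singleton]
  have hgZ : g ∈ Z := hCZ hgC
  have := (idx_eq_one_iff g).2 hgZ
  rw [hg] at this
  nlinarith

end Cfsg.Agent.Lib.Helper12.NM
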