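import Mathlib
import Cfsg.Agent.Lib.Helper16.NM.Base
import Cfsg.Agent.Lib.Helper21.ClassSize
import Cfsg.Agent.S4033
import Cfsg.Agent.S4034

/-!
# S4146 (helper16), leaf ML (main lemma: S4033 + S4034 on `C(u)` and `C(x)`) (helper12)
-/

set_option autoImplicit false

namespace Cfsg.Agent.Lib.Helper12.NM

open Cfsg.Agent.Lib.Helper22.ClsSet Cfsg.Agent.Lib.Helper16.NM

variable {G : Type*} [Group G] [Finite G] {n m : ℕ}

namespace MLaux

omit [Finite G] in
/-- the centralizer inside a subgroup -/
theorem centralizer_subtype12 (L : Subgroup G) (g : L) :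
    Subgroup.centralizer ({g} : Set L) =
      (Subgroup.centralizer ({(g : G)} : Set G)).subgroupOf L := by
  ext y
  rw [Subgroup.mem_subgroupOf, mem_cent_singleton, mem_cent_singleton]
  constructor
  · intro hy
    have := congrArg (Subtype.val) hy
    simpa using this
  · intro hy
    apply Subtype.ext
    simpa using hy

/-- `idx (u g) = idx_L g * idx u` for `L = C(u)` and `g ∈ L` of order prime to the order of `u` -/
theorem idx_mul_of_mem_cent12 (u : G) (g : Subgroup.centralizer ({u} : Set G))
    (hcop : (orderOf u).Coprime (orderOf g)) :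
    idx (u * (g : G)) = idx g * idx u := by
  have hcomm : Commute u (g : G) := by
    have := g.2
    rw [mem_cent_singleton] at this
    exact this
  have hcop' : (orderOf u).Coprime (orderOf (g : G)) := by
    rwa [Subgroup.orderOf_coe]
  unfold idx
  rw [cent_mul_of_coprime hcomm hcop', centralizer_subtype12]
  have := Subgroup.relIndex_mul_index (inf_le_left :
    Subgroup.centralizer ({u} : Set G) ⊓ Subgroup.centralizer ({(g : G)} : Set G) ≤
      Subgroup.centralizer ({u} : Set G))
  rw [Subgroup.inf_relIndex_left, Subgroup.relIndex] at this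
  exact this.symm

/-- a divisor of `s^α * q^β` is of that form -/
theorem dvd_pow_mul_pow12 {s q : ℕ} (hs : s.Prime) (hq : q.Prime) {α β k : ℕ}
    (hk : k ∣ s ^ α * q ^ β) : ∃ i j : ℕ, k = s ^ i * q ^ j := by
  obtain ⟨k1, k2, h1, h2, h3⟩ := (Nat.dvd_mul).1 hk
  obtain ⟨i, -, hi⟩ := (Nat.dvd_prime_pow hs).1 h1
  obtain ⟨j, -, hj⟩ := (Nat.dvd_prime_pow hq).1 h2
  exact ⟨i, j, by rw [← h3, hi, hj]⟩

/-- half of ML: `n = s^i * t^j` -/
theorem ML1 (h : CS G n m) {s t : ℕ} [hs : Fact s.Prime] [ht : Fact t.Prime] (hst : s ≠ t)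
    {u x : G} (hu : PEl s u) (hx : PEl t x) (hiu : idx u = m) (hix : idx x = n)
    (hc : Commute u x) : ∃ i j : ℕ, n = s ^ i * t ^ j := by
  have hn1 := h.one_lt_n
  have hm1 := h.one_lt_m
  obtain ⟨ku, hku⟩ := hu
  obtain ⟨kx, hkx⟩ := hx
  set L : Subgroup G := Subgroup.centralizer ({u} : Set G) with hL
  -- the `s`-regular elements of `L` have `L`-index `1` or `n`
  have hreg : ∀ g : L, (orderOf g).Coprime s → idx g = 1 ∨ idx g = n := by
    intro g hg
    have hcop : (orderOf u).Coprime (orderOf g) := by
      rw [hku]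
      exact Nat.Coprime.pow_left _ hg.symm
    have e := idx_mul_of_mem_cent12 u g hcop
    rw [hiu] at e
    rcases h.cs (u * (g : G)) with h1 | h1 | h1 | h1
    · rw [h1] at e
      have : m ∣ 1 := Dvd.intro_left _ e.symm
      have := Nat.le_of_dvd one_pos this
      omega
    · exfalso
      rw [h1] at e
      have hmn : m ∣ n := Dvd.intro_left _ e.symm
      have : m ∣ Nat.gcd n m := Nat.dvd_gcd hmn dvd_rfl
      rw [h.cop] at this
      have := Nat.le_of_dvd one_pos this
      omega
    · left
      rw [h1] at e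
      have : 1 * m = idx g * m := by rw [one_mul]; exact e
      exact (Nat.eq_of_mul_eq_mul_right (by omega) this).symm
    · right
      rw [h1] at e
      exact (Nat.eq_of_mul_eq_mul_right (by omega) e).symm
  -- `x` as an element of `L`
  have hxL : x ∈ L := by
    rw [hL, mem_cent_singleton]
    exact hc.eq
  set x' : L := ⟨x, hxL⟩ with hx'
  have hox' : orderOf x' = t ^ kx := by
    rw [← hkx, ← Subgroup.orderOf_coe]
  have hx'cop : (orderOf x').Coprime s := by
    rw [hox']
    exact Nat.Coprime.pow_left _ ((Nat.coprime_primes ht.out hs.out).2 hst.symm)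
  have hix' : idx x' = n := by
    have hcop : (orderOf u).Coprime (orderOf x') := by
      rw [hku]
      exact Nat.Coprime.pow_left _ hx'cop.symm
    have e := idx_mul_of_mem_cent12 u x' hcop
    have hcop2 : (orderOf u).Coprime (orderOf x) := by
      rw [hku, hkx]
      exact Nat.Coprime.pow _ _ ((Nat.coprime_primes hs.out ht.out).2 hst)
    have h1 : n ∣ idx (u * x) := by
      rw [← hix]
      exact idx_dvd_mul_right_of_coprime hc hcop2
    have h2 : m ∣ idx (u * x) := by
      rw [← hiu]
      exact idx_dvd_mul_left_of_coprime hc hcop2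
    have h3 := h.idx_of_dvd_dvd h1 h2
    rw [show ((x' : L) : G) = x from rfl, h3, hiu] at e
    exact (Nat.eq_of_mul_eq_mul_right (by omega) e).symm
  -- class sizes
  have hcls : ∀ g : L, (ConjClasses.mk g).carrier.ncard = idx g := by
    intro g
    rw [← Cfsg.Agent.Lib.Helper21.index_centralizer_eq_ncard_carrier]
    rfl
  have h2 : Set.ncard (Set.range fun y : {y : L // (orderOf y).Coprime s} =>
      (ConjClasses.mk (y : L)).carrier.ncard) = 2 := by
    have : (Set.range fun y : {y : L // (orderOf y).Coprime s} =>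
        (ConjClasses.mk (y : L)).carrier.ncard) = {1, n} := by
      ext k
      simp only [Set.mem_range, Set.mem_insert_iff, Set.mem_singleton_iff]
      constructor
      · rintro ⟨⟨g, hg⟩, rfl⟩
        show (ConjClasses.mk g).carrier.ncard = 1 ∨ (ConjClasses.mk g).carrier.ncard = n
        rw [hcls]
        exact hreg g hg
      · rintro (hk | hk)
        · refine ⟨⟨1, by simp⟩, ?_⟩
          show (ConjClasses.mk (1 : L)).carrier.ncard = k
          rw [hcls, hk]
          exact idx_one
        · refine ⟨⟨x', hx'cop⟩, ?_⟩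
          show (ConjClasses.mk x').carrier.ncard = k
          rw [hcls, hix', hk]
    rw [this]
    exact Set.ncard_pair (by omega)
  rcases Cfsg.Agent.S4033.result hs.out h2 with hA | hB
  · -- abelian `s`-complement: all `s`-regular class sizes are `s`-powers
    have := (Cfsg.Agent.S4034.result (G := L) hs.out).2 hA x' hx'cop
    obtain ⟨k, hk⟩ := this
    rw [hcls, hix'] at hk
    exact ⟨k, 0, by rw [hk, pow_zero, mul_one]⟩
  · obtain ⟨q, hqf, P, Q, A, hqs, hAZ, hcard, hnor, hinf, hsup⟩ := hB
    have := hqf
    have := hnor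
    set N : Subgroup L := (P : Subgroup L) ⊔ (Q : Subgroup L) with hN
    -- `A` is normal
    have hAn : A.Normal := by
      constructor
      intro a ha g
      have hz := hAZ ha
      rw [Subgroup.mem_center_iff] at hz
      have : g * a * g⁻¹ = a := by
        rw [hz g, mul_assoc, mul_inv_cancel, mul_one]
      rwa [this]
    -- `A.index = card N`
    have hAidx : A.index = Nat.card N := by
      have e1 : A.relIndex (N ⊔ A) = A.relIndex N := Subgroup.relIndex_sup_right N A
      rw [hsup, Subgroup.relIndex_top_right] at e1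
      rw [e1, ← Subgroup.inf_relIndex_right, inf_comm, hinf, Subgroup.relIndex_bot_left]
    obtain ⟨α, hα⟩ := (IsPGroup.iff_card).1 P.isPGroup'
    obtain ⟨β, hβ⟩ := (IsPGroup.iff_card).1 Q.isPGroup'
    have hNcard : Nat.card N = s ^ α * q ^ β := by
      rw [hcard, hα, hβ]
    -- `n` divides `A.index`
    have hZle : A ≤ Subgroup.centralizer ({x'} : Set L) := by
      intro a ha
      rw [mem_cent_singleton]
      have hz := hAZ ha
      rw [Subgroup.mem_center_iff] at hz
      exact hz x'
    have hndvd : n ∣ s ^ α * q ^ β := by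
      rw [← hNcard, ← hAidx, ← hix']
      exact Subgroup.index_dvd_of_le hZle
    by_cases hqt : q = t
    · subst hqt
      exact dvd_pow_mul_pow12 hs.out hqf.out hndvd
    · -- `x'` lies in `A`, so it is central: impossible
      exfalso
      have h1 : orderOf (QuotientGroup.mk' A x') ∣ orderOf x' := orderOf_map_dvd _ _
      have h2' : orderOf (QuotientGroup.mk' A x') ∣ A.index := by
        rw [Subgroup.index_eq_card]
        exact orderOf_dvd_natCard _
      rw [hAidx, hNcard] at h2'
      rw [hox'] at h1
      have hcop : (t ^ kx).Coprime (s ^ α * q ^ β) := by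
        apply Nat.Coprime.mul_right
        · exact Nat.Coprime.pow _ _ ((Nat.coprime_primes ht.out hs.out).2 hst.symm)
        · exact Nat.Coprime.pow _ _ ((Nat.coprime_primes ht.out hqf.out).2 (Ne.symm hqt))
      have h3 : orderOf (QuotientGroup.mk' A x') = 1 :=
        Nat.eq_one_of_dvd_coprimes hcop h1 h2'
      rw [orderOf_eq_one_iff] at h3
      have hxA : x' ∈ A := (QuotientGroup.eq_one_iff x').1 h3
      have hxZ : x' ∈ Subgroup.center L := hAZ hxA
      have := (idx_eq_one_iff x').2 hxZ
      rw [hix'] at this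
      omega

end MLaux

open MLaux

/-- ML (main lemma, S4033+S4034 on `C(u)` and `C(x)`) -/
theorem ML (h : CS G n m) {s t : ℕ} [Fact s.Prime] [Fact t.Prime] (hst : s ≠ t)
    {u x : G} (hu : PEl s u) (hx : PEl t x) (hiu : idx u = m) (hix : idx x = n)
    (hc : Commute u x) :
    (∃ a b : ℕ, n = t ^ a ∧ m = s ^ b) ∨ (∃ a b : ℕ, n = s ^ a ∧ m = t ^ b) := by
  have hs : s.Prime := Fact.out
  have ht : t.Prime := Fact.out
  have hn1 := h.one_lt_n
  have hm1 := h.one_lt_m
  obtain ⟨i, j, hn⟩ := ML1 h hst hu hx hiu hix hc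
  obtain ⟨i', j', hm⟩ := ML1 h.symm hst.symm hx hu hix hiu hc.symm
  have hcop := h.cop
  -- `s` does not divide both, `t` does not divide both
  have hs_not : ¬ (s ∣ n ∧ s ∣ m) := by
    rintro ⟨h1, h2⟩
    have : s ∣ Nat.gcd n m := Nat.dvd_gcd h1 h2
    rw [hcop] at this
    exact hs.one_lt.ne' (Nat.dvd_one.1 this)
  have ht_not : ¬ (t ∣ n ∧ t ∣ m) := by
    rintro ⟨h1, h2⟩
    have : t ∣ Nat.gcd n m := Nat.dvd_gcd h1 h2
    rw [hcop] at this
    exact ht.one_lt.ne' (Nat.dvd_one.1 this)
  rcases Nat.eq_zero_or_pos i with hi | hi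
  · rcases Nat.eq_zero_or_pos j with hj | hj
    · exfalso
      rw [hi, hj, pow_zero, pow_zero, mul_one] at hn
      omega
    · -- `n = t^j`, so `t ∤ m`, `i' = 0`
      have htn : t ∣ n := by
        rw [hn]
        exact Dvd.dvd.mul_left (dvd_pow_self t (by omega)) _
      have hi' : i' = 0 := by
        by_contra hne
        apply ht_not
        refine ⟨htn, ?_⟩
        rw [hm]
        exact Dvd.dvd.mul_right (dvd_pow_self t hne) _
      left
      refine ⟨j, j', ?_, ?_⟩
      · rw [hn, hi, pow_zero, one_mul]
      · rw [hm, hi', pow_zero, one_mul]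
  · have hsn : s ∣ n := by
      rw [hn]
      exact Dvd.dvd.mul_right (dvd_pow_self s (by omega)) _
    have hj' : j' = 0 := by
      by_contra hne
      apply hs_not
      refine ⟨hsn, ?_⟩
      rw [hm]
      exact Dvd.dvd.mul_left (dvd_pow_self s hne) _
    rcases Nat.eq_zero_or_pos j with hj | hj
    · right
      refine ⟨i, i', ?_, ?_⟩
      · rw [hn, hj, pow_zero, mul_one]
      · rw [hm, hj', pow_zero, mul_one]
    · exfalso
      have htn : t ∣ n := by
        rw [hn]
        exact Dvd.dvd.mul_left (dvd_pow_self t (by omega)) _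
      have hi' : i' = 0 := by
        by_contra hne
        apply ht_not
        refine ⟨htn, ?_⟩
        rw [hm]
        exact Dvd.dvd.mul_right (dvd_pow_self t hne) _
      rw [hi', hj', pow_zero, pow_zero, mul_one] at hm
      omega

end Cfsg.Agent.Lib.Helper12.NM
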