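import Cfsg.Agent.Lib.Helper9.PLengthFusion
import Cfsg.Agent.Lib.Helper9.PConstrained
import Cfsg.Agent.Lib.Helper12.HallHigman

set_option autoImplicit false

namespace Cfsg.Agent.Lib.Helper12

/-- A group with a normal `p`-subgroup of index prime to `p` is `p`-solvable. -/
theorem isPSolvable_of_normal_pGroup_of_coprime_index {G : Type*} [Group G] {p : ℕ}
    (N : Subgroup G) [hN : N.Normal] (hNp : ∃ m : ℕ, Nat.card N = p ^ m)
    (hidx : N.index.Coprime p) : Cfsg.IsPSolvable p G := by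
  refine ⟨2, ![⊥, N, ⊤], rfl, rfl, ?_, ?_, ?_⟩
  · intro i j hij
    fin_cases i <;> fin_cases j <;> simp at hij ⊢
  · intro i
    fin_cases i
    · show (⊥ : Subgroup G).Normal
      infer_instance
    · exact hN
    · show (⊤ : Subgroup G).Normal
      infer_instance
  · intro i
    fin_cases i
    · left
      obtain ⟨m, hm⟩ := hNp
      refine ⟨m, ?_⟩
      show (⊥ : Subgroup G).relIndex N = p ^ m
      rw [Subgroup.relIndex_bot_left, hm]
    · right
      show (N.relIndex ⊤).Coprime p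
      rw [Subgroup.relIndex_top_right]
      exact hidx

end Cfsg.Agent.Lib.Helper12

namespace Cfsg.Agent.Lib.Helper12

open Cfsg.Agent.Lib.Helper9 in
/-- `G = N_G(S) O_{p'}(G)` implies control of fusion in `S` by `N_G(S)`. -/
theorem fusion_of_normalizer_sup_pPrimeCore {G : Type*} [Group G] [Finite G] {p : ℕ} [Fact p.Prime]
    (S : Sylow p G)
    (h : Subgroup.normalizer ((S : Subgroup G) : Set G) ⊔ Cfsg.pPrimeCore p G = ⊤)
    (Q : Subgroup G) (hQ : Q ≤ (S : Subgroup G)) (g : G)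
    (hg : Q.map (MulAut.conj g).toMonoidHom ≤ (S : Subgroup G)) :
    ∃ n ∈ Subgroup.normalizer ((S : Subgroup G) : Set G),
      ∃ c ∈ Subgroup.centralizer (Q : Set G), g = n * c := by
  haveI : (Cfsg.pPrimeCore p G).Normal := Cfsg.Agent.Lib.Helper12.pPrimeCore_normal' p
  have hx : g ∈ Subgroup.normalizer ((S : Subgroup G) : Set G) ⊔ Cfsg.pPrimeCore p G :=
    h ▸ Subgroup.mem_top g
  rw [← SetLike.mem_coe, Subgroup.mul_normal, Set.mem_mul] at hx
  obtain ⟨n, hn, k, hk, rfl⟩ := hx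
  refine ⟨n, hn, k, ?_, rfl⟩
  rw [Subgroup.mem_centralizer_iff]
  intro y hy
  have h1 : n * k * y * (n * k)⁻¹ ∈ (S : Subgroup G) := hg ⟨y, hy, rfl⟩
  have h2 : k * y * k⁻¹ ∈ (S : Subgroup G) := by
    have h3 := (Subgroup.mem_normalizer_iff.mp (Subgroup.inv_mem _ hn) _).mp h1
    have e : n⁻¹ * (n * k * y * (n * k)⁻¹) * n⁻¹⁻¹ = k * y * k⁻¹ := by group
    rwa [e] at h3
  have h4 := Cfsg.Agent.Lib.Helper9.conj_eq_of_mem_pPrimeCore S hk (hQ hy) h2
  calc y * k = (k * y * k⁻¹) * k := by rw [h4]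
    _ = k * y := by group

/-- `G = N_G(S) O_{p'}(G)` implies that `G` is `p`-constrained. -/
theorem isPConstrained_of_normalizer_sup_pPrimeCore {G : Type*} [Group G] [Finite G] {p : ℕ}
    [Fact p.Prime] (S : Sylow p G)
    (h : Subgroup.normalizer ((S : Subgroup G) : Set G) ⊔ Cfsg.pPrimeCore p G = ⊤) :
    Cfsg.IsPConstrained p G := by
  haveI : (Cfsg.pPrimeCore p G).Normal := Cfsg.Agent.Lib.Helper12.pPrimeCore_normal' p
  set K := Cfsg.pPrimeCore p G with hK
  set π := QuotientGroup.mk' K with hπ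
  have hπs : Function.Surjective π := QuotientGroup.mk'_surjective K
  -- the image of `S` is normal
  have hSn : ((S : Subgroup G).map π).Normal := by
    constructor
    rintro _ ⟨s, hs, rfl⟩ gb
    obtain ⟨g, rfl⟩ := hπs gb
    have hx : g ∈ Subgroup.normalizer ((S : Subgroup G) : Set G) ⊔ K := h ▸ Subgroup.mem_top g
    rw [← SetLike.mem_coe, Subgroup.mul_normal, Set.mem_mul] at hx
    obtain ⟨n, hn, k, hk, rfl⟩ := hx
    have hk1 : π k = 1 := (QuotientGroup.eq_one_iff k).mpr hk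
    refine ⟨n * s * n⁻¹, (Subgroup.mem_normalizer_iff.mp hn s).mp hs, ?_⟩
    simp only [map_mul, map_inv, hk1, mul_one]
  have hSp : IsPGroup p ↥((S : Subgroup G).map π) := S.isPGroup'.map π
  have hidx : ((S : Subgroup G).map π).index.Coprime p := by
    have h1 : ((S : Subgroup G).map π).index ∣ (S : Subgroup G).index :=
      Subgroup.index_map_dvd _ hπs
    have h2 : ¬ p ∣ (S : Subgroup G).index := S.not_dvd_index
    have h3 : ¬ p ∣ ((S : Subgroup G).map π).index := fun hd => h2 (dvd_trans hd h1)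
    exact ((Nat.Prime.coprime_iff_not_dvd Fact.out).mpr h3).symm
  have hsol : Cfsg.IsPSolvable p (G ⧸ K) :=
    isPSolvable_of_normal_pGroup_of_coprime_index ((S : Subgroup G).map π)
      (IsPGroup.iff_card.mp hSp) hidx
  have hHH := centralizer_pCore_le_pCore p hsol (Cfsg.Agent.Lib.Helper9.pPrimeCore_quotient_eq_bot p)
  intro P x hx
  rw [Cfsg.Agent.Lib.Helper9.mem_pPrimePCore_iff]
  exact hHH (Cfsg.Agent.Lib.Helper9.map_mem_centralizer_pCore_of_mem_centralizer_sylow p P hx)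

end Cfsg.Agent.Lib.Helper12

namespace Cfsg.Agent.Lib.Helper12

/-- If `G` is `p`-constrained and `N_G(S)` controls fusion in `S`, then `G = N_G(S) O_{p'}(G)`. -/
theorem normalizer_sup_pPrimeCore_of_isPConstrained_of_fusion {G : Type*} [Group G] [Finite G]
    {p : ℕ} [Fact p.Prime] (S : Sylow p G) (hc : Cfsg.IsPConstrained p G)
    (hf : ∀ Q : Subgroup G, Q ≤ (S : Subgroup G) → ∀ g : G,
      Q.map (MulAut.conj g).toMonoidHom ≤ (S : Subgroup G) →
      ∃ n ∈ Subgroup.normalizer ((S : Subgroup G) : Set G),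
        ∃ c ∈ Subgroup.centralizer (Q : Set G), g = n * c) :
    Subgroup.normalizer ((S : Subgroup G) : Set G) ⊔ Cfsg.pPrimeCore p G = ⊤ := by
  have hLn : (Cfsg.pPrimePCore p G).Normal := Cfsg.Agent.Lib.Helper12.pPrimePCore_normal' p
  set L := Cfsg.pPrimePCore p G with hL
  set K := Cfsg.pPrimeCore p G with hK
  -- `S ∩ L` as a Sylow subgroup of `L`
  have hp1 : IsPGroup p ↥(((S : Subgroup G) ⊓ L).subgroupOf L) := by
    have : IsPGroup p ↥((S : Subgroup G) ⊓ L) := S.isPGroup'.to_le inf_le_left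
    exact this.comap_subtype
  have hp2 : ¬ p ∣ (((S : Subgroup G) ⊓ L).subgroupOf L).index :=
    sylow_inf_pPrimePCore_relIndex S
  let P : Sylow p ↥L := hp1.toSylow hp2
  have hP' : (P : Subgroup ↥L).map L.subtype = (S : Subgroup G) ⊓ L := by
    show (((S : Subgroup G) ⊓ L).subgroupOf L).map L.subtype = (S : Subgroup G) ⊓ L
    rw [Subgroup.subgroupOf_map_subtype, inf_assoc, inf_idem]
  have hfr := Sylow.normalizer_sup_eq_top P
  rw [hP'] at hfr
  have hcP := hc P
  rw [hP'] at hcP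
  -- `L ≤ N_G(S) K`
  have hLle : L ≤ Subgroup.normalizer ((S : Subgroup G) : Set G) ⊔ K := by
    have h1 := pPrimeCore_sup_sylow_inf S
    rw [← hL, ← hK] at h1
    rw [← h1, sup_comm]
    exact sup_le_sup_right (le_trans inf_le_left Subgroup.le_normalizer) _
  -- `N_G(S ∩ L) ≤ N_G(S) L`
  have hNle : Subgroup.normalizer (((S : Subgroup G) ⊓ L : Subgroup G) : Set G) ≤
      Subgroup.normalizer ((S : Subgroup G) : Set G) ⊔ K := by
    intro g hg
    have hmap : ((S : Subgroup G) ⊓ L).map (MulAut.conj g).toMonoidHom ≤ (S : Subgroup G) := by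
      rintro _ ⟨y, hy, rfl⟩
      exact ((Subgroup.mem_normalizer_iff.mp hg y).mp hy).1
    obtain ⟨n, hn, c, hcc, rfl⟩ := hf _ inf_le_left g hmap
    exact Subgroup.mul_mem _ (Subgroup.mem_sup_left hn) (hLle (hcP hcc))
  rw [eq_top_iff, ← hfr]
  exact sup_le hNle hLle

end Cfsg.Agent.Lib.Helper12
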