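import Mathlib
import Cfsg.Agent.Lib.Helper12.NseA

/-!
Arithmetic of same-order counts (helper12): a `{2,3,5,7}`-smooth divisibility lemma and basic
consequences of `NseSys`.
-/

set_option autoImplicit false

namespace Cfsg.Agent.Lib.Helper12.Nse

/-- a number whose prime factors are among `2,3,5,7`, with bounded exponents, divides the bound -/
theorem dvd_of_smooth (k : ℕ) (hk : k ≠ 0)
    (hp : ∀ p, p.Prime → p ∣ k → p = 2 ∨ p = 3 ∨ p = 5 ∨ p = 7) (A B C D : ℕ)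
    (h2 : ¬ 2 ^ (A + 1) ∣ k) (h3 : ¬ 3 ^ (B + 1) ∣ k) (h5 : ¬ 5 ^ (C + 1) ∣ k)
    (h7 : ¬ 7 ^ (D + 1) ∣ k) :
    k ∣ 2 ^ A * 3 ^ B * 5 ^ C * 7 ^ D := by
  have hsupp : k.factorization.support ⊆ ({2, 3, 5, 7} : Finset ℕ) := by
    intro q hq
    rw [Nat.support_factorization, Nat.mem_primeFactors] at hq
    rcases hp q hq.1 hq.2.1 with rfl | rfl | rfl | rfl <;> simp
  have hprod := Nat.prod_factorization_pow_eq_self hk
  rw [Finsupp.prod_of_support_subset _ hsupp _ (fun i _ => pow_zero i)] at hprod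
  have hle : ∀ (q E : ℕ), q.Prime → ¬ q ^ (E + 1) ∣ k → k.factorization q ≤ E := by
    intro q E hq hnd
    by_contra hlt
    exact hnd ((hq.pow_dvd_iff_le_factorization hk).mpr (by omega))
  have e2 := hle 2 A Nat.prime_two h2
  have e3 := hle 3 B Nat.prime_three h3
  have e5 := hle 5 C Nat.prime_five h5
  have e7 := hle 7 D (by norm_num) h7
  rw [← hprod]
  rw [Finset.prod_insert (by decide), Finset.prod_insert (by decide), Finset.prod_insert (by decide),
    Finset.prod_singleton]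
  rw [mul_assoc, mul_assoc]
  exact mul_dvd_mul (pow_dvd_pow 2 e2) (mul_dvd_mul (pow_dvd_pow 3 e3)
    (mul_dvd_mul (pow_dvd_pow 5 e5) (pow_dvd_pow 7 e7)))

variable {N : ℕ} {m : ℕ → ℕ}

theorem NseSys.m_zero (h : NseSys N m) : m 0 = 0 := by
  by_contra h0
  have h1 := h.dvd 0 h0
  rw [zero_dvd_iff] at h1
  have h2 := h.Npos
  omega

theorem NseSys.two_dvd (h : NseSys N m) (k : ℕ) (hk : 3 ≤ k) : 2 ∣ m k :=
  dvd_trans (even_iff_two_dvd.mp (Nat.totient_even (by omega))) (h.tot k)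

theorem NseSys.zero_of_not_dvd (h : NseSys N m) (k : ℕ) (hk : ¬ k ∣ N) : m k = 0 := by
  by_contra h0
  exact hk (h.dvd k h0)

theorem NseSys.frob_prime (h : NseSys N m) (p : ℕ) (hp : p.Prime) (hpN : p ∣ N) :
    p ∣ m p + 1 := by
  have hf := h.frob p hpN
  rw [Nat.Prime.sum_divisors hp, h.m_one] at hf
  exact hf

theorem NseSys.pred_dvd_prime (h : NseSys N m) (p : ℕ) (hp : p.Prime) : (p - 1) ∣ m p := by
  have := h.tot p
  rwa [Nat.totient_prime hp] at this

/-- the prime divisors of `k` with `m k ≠ 0` are prime divisors of `N` -/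
theorem NseSys.prime_dvd (h : NseSys N m) (k : ℕ) (hk : m k ≠ 0) (p : ℕ) (hpk : p ∣ k) : p ∣ N :=
  dvd_trans hpk (h.dvd k hk)

theorem NseSys.ne_zero_of_ne (h : NseSys N m) (k : ℕ) (hk : m k ≠ 0) : k ≠ 0 := by
  rintro rfl
  exact hk h.m_zero

end Cfsg.Agent.Lib.Helper12.Nse
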