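import Mathlib

/-!
Element-order counts in the alternating groups `A₄`, `A₅`, `A₆` (helper12), by kernel evaluation
over `Equiv.Perm (Fin n)`; the resulting sets of same-order counts (`nse`).
-/

set_option autoImplicit false

namespace Cfsg.Agent.Lib.Helper12.Nse

open Equiv

/-- counting a subtype of the alternating group inside the full symmetric group -/
theorem natCard_alt_subtype {n : ℕ} (P : Perm (Fin n) → Prop) [DecidablePred P] :
    Nat.card {g : alternatingGroup (Fin n) // P g.1} =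
      (Finset.univ.filter (fun g : Perm (Fin n) => Perm.sign g = 1 ∧ P g)).card := by
  classical
  rw [Nat.card_congr (Equiv.subtypeSubtypeEquivSubtypeInter
    (fun g : Perm (Fin n) => g ∈ alternatingGroup (Fin n)) P)]
  rw [Nat.card_eq_fintype_card, Fintype.card_subtype]
  apply congrArg Finset.card
  ext g
  simp [Perm.mem_alternatingGroup]

theorem orderOf_eq_four_iff {G : Type*} [Group G] (g : G) :
    orderOf g = 4 ↔ g ^ 4 = 1 ∧ g ^ 2 ≠ 1 := by
  constructor
  · intro h
    refine ⟨by rw [← h]; exact pow_orderOf_eq_one g, fun h2 => ?_⟩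
    have := orderOf_dvd_of_pow_eq_one h2
    rw [h] at this
    omega
  · rintro ⟨h4, h2⟩
    exact orderOf_eq_prime_pow (p := 2) (n := 1) (by simpa using h2) (by simpa using h4)

theorem natCard_alt_orderOf_prime {n : ℕ} (p : ℕ) [Fact p.Prime] :
    Nat.card {g : alternatingGroup (Fin n) // orderOf g = p} =
      (Finset.univ.filter (fun g : Perm (Fin n) => Perm.sign g = 1 ∧ (g ^ p = 1 ∧ g ≠ 1))).card := by
  rw [← natCard_alt_subtype (fun g => g ^ p = 1 ∧ g ≠ 1)]
  apply Nat.card_congr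
  apply Equiv.subtypeEquivRight
  intro g
  rw [← Subgroup.orderOf_coe, orderOf_eq_prime_iff]

theorem natCard_alt_orderOf_four {n : ℕ} :
    Nat.card {g : alternatingGroup (Fin n) // orderOf g = 4} =
      (Finset.univ.filter (fun g : Perm (Fin n) => Perm.sign g = 1 ∧ (g ^ 4 = 1 ∧ g ^ 2 ≠ 1))).card := by
  rw [← natCard_alt_subtype (fun g => g ^ 4 = 1 ∧ g ^ 2 ≠ 1)]
  apply Nat.card_congr
  apply Equiv.subtypeEquivRight
  intro g
  rw [← Subgroup.orderOf_coe, orderOf_eq_four_iff]

theorem natCard_orderOf_eq_one {G : Type*} [Group G] :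
    Nat.card {g : G // orderOf g = 1} = 1 := by
  rw [Nat.card_eq_one_iff_unique]
  refine ⟨⟨?_⟩, ⟨⟨1, orderOf_one⟩⟩⟩
  rintro ⟨a, ha⟩ ⟨b, hb⟩
  rw [orderOf_eq_one_iff] at ha hb
  subst ha; subst hb; rfl

/-! ### `A₄` -/

set_option maxRecDepth 100000 in
theorem a4_perm_pow (g : Perm (Fin 4)) (hg : Perm.sign g = 1) : g ^ 2 = 1 ∨ g ^ 3 = 1 := by
  revert g
  decide +kernel

set_option maxRecDepth 100000 in
theorem a4_card2 : Nat.card {g : alternatingGroup (Fin 4) // orderOf g = 2} = 3 := by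
  have : Fact (Nat.Prime 2) := ⟨Nat.prime_two⟩
  rw [natCard_alt_orderOf_prime 2]
  decide +kernel

set_option maxRecDepth 100000 in
theorem a4_card3 : Nat.card {g : alternatingGroup (Fin 4) // orderOf g = 3} = 8 := by
  have : Fact (Nat.Prime 3) := ⟨Nat.prime_three⟩
  rw [natCard_alt_orderOf_prime 3]
  decide +kernel

theorem a4_orderOf (g : alternatingGroup (Fin 4)) :
    orderOf g = 1 ∨ orderOf g = 2 ∨ orderOf g = 3 := by
  have hs : Perm.sign (g : Perm (Fin 4)) = 1 := Perm.mem_alternatingGroup.mp g.2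
  rw [← Subgroup.orderOf_coe]
  rcases a4_perm_pow g.1 hs with h | h
  · rcases (Nat.dvd_prime Nat.prime_two).mp (orderOf_dvd_of_pow_eq_one h) with h1 | h1 <;> simp [h1]
  · rcases (Nat.dvd_prime Nat.prime_three).mp (orderOf_dvd_of_pow_eq_one h) with h1 | h1 <;> simp [h1]

theorem exists_of_natCard_ne_zero {α : Type*} {P : α → Prop} (h : Nat.card {a : α // P a} ≠ 0) :
    ∃ a, P a := by
  by_contra hne
  push Not at hne
  have : IsEmpty {a : α // P a} := ⟨fun a => hne a.1 a.2⟩
  exact h Nat.card_of_isEmpty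

/-- the set of same-order counts of `A₄` -/
theorem a4_nse : ((fun m : ℕ => Nat.card {g : alternatingGroup (Fin 4) // orderOf g = m}) ''
    Set.range (orderOf : alternatingGroup (Fin 4) → ℕ)) = {1, 3, 8} := by
  ext c
  simp only [Set.mem_image, Set.mem_range, Set.mem_insert_iff, Set.mem_singleton_iff]
  constructor
  · rintro ⟨m, ⟨g, rfl⟩, rfl⟩
    rcases a4_orderOf g with h | h | h <;> rw [h]
    · exact Or.inl natCard_orderOf_eq_one
    · exact Or.inr (Or.inl a4_card2)
    · exact Or.inr (Or.inr a4_card3)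
  · rintro (rfl | rfl | rfl)
    · exact ⟨1, ⟨1, orderOf_one⟩, natCard_orderOf_eq_one⟩
    · exact ⟨2, exists_of_natCard_ne_zero (by rw [a4_card2]; norm_num), a4_card2⟩
    · exact ⟨3, exists_of_natCard_ne_zero (by rw [a4_card3]; norm_num), a4_card3⟩

/-! ### `A₅` -/

set_option maxRecDepth 1000000 in
theorem a5_perm_pow (g : Perm (Fin 5)) (hg : Perm.sign g = 1) :
    g ^ 2 = 1 ∨ g ^ 3 = 1 ∨ g ^ 5 = 1 := by
  revert g
  decide +kernel

set_option maxRecDepth 1000000 in
theorem a5_card2 : Nat.card {g : alternatingGroup (Fin 5) // orderOf g = 2} = 15 := by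
  have : Fact (Nat.Prime 2) := ⟨Nat.prime_two⟩
  rw [natCard_alt_orderOf_prime 2]
  decide +kernel

set_option maxRecDepth 1000000 in
theorem a5_card3 : Nat.card {g : alternatingGroup (Fin 5) // orderOf g = 3} = 20 := by
  have : Fact (Nat.Prime 3) := ⟨Nat.prime_three⟩
  rw [natCard_alt_orderOf_prime 3]
  decide +kernel

set_option maxRecDepth 1000000 in
theorem a5_card5 : Nat.card {g : alternatingGroup (Fin 5) // orderOf g = 5} = 24 := by
  have : Fact (Nat.Prime 5) := ⟨Nat.prime_five⟩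
  rw [natCard_alt_orderOf_prime 5]
  decide +kernel

theorem a5_orderOf (g : alternatingGroup (Fin 5)) :
    orderOf g = 1 ∨ orderOf g = 2 ∨ orderOf g = 3 ∨ orderOf g = 5 := by
  have hs : Perm.sign (g : Perm (Fin 5)) = 1 := Perm.mem_alternatingGroup.mp g.2
  rw [← Subgroup.orderOf_coe]
  rcases a5_perm_pow g.1 hs with h | h | h
  · rcases (Nat.dvd_prime Nat.prime_two).mp (orderOf_dvd_of_pow_eq_one h) with h1 | h1 <;> simp [h1]
  · rcases (Nat.dvd_prime Nat.prime_three).mp (orderOf_dvd_of_pow_eq_one h) with h1 | h1 <;> simp [h1]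
  · rcases (Nat.dvd_prime Nat.prime_five).mp (orderOf_dvd_of_pow_eq_one h) with h1 | h1 <;> simp [h1]

/-- the set of same-order counts of `A₅` -/
theorem a5_nse : ((fun m : ℕ => Nat.card {g : alternatingGroup (Fin 5) // orderOf g = m}) ''
    Set.range (orderOf : alternatingGroup (Fin 5) → ℕ)) = {1, 15, 20, 24} := by
  ext c
  simp only [Set.mem_image, Set.mem_range, Set.mem_insert_iff, Set.mem_singleton_iff]
  constructor
  · rintro ⟨m, ⟨g, rfl⟩, rfl⟩
    rcases a5_orderOf g with h | h | h | h <;> rw [h]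
    · exact Or.inl natCard_orderOf_eq_one
    · exact Or.inr (Or.inl a5_card2)
    · exact Or.inr (Or.inr (Or.inl a5_card3))
    · exact Or.inr (Or.inr (Or.inr a5_card5))
  · rintro (rfl | rfl | rfl | rfl)
    · exact ⟨1, ⟨1, orderOf_one⟩, natCard_orderOf_eq_one⟩
    · exact ⟨2, exists_of_natCard_ne_zero (by rw [a5_card2]; norm_num), a5_card2⟩
    · exact ⟨3, exists_of_natCard_ne_zero (by rw [a5_card3]; norm_num), a5_card3⟩
    · exact ⟨5, exists_of_natCard_ne_zero (by rw [a5_card5]; norm_num), a5_card5⟩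

/-! ### `A₆` -/

set_option maxRecDepth 1000000 in
theorem a6_perm_pow' (g : Perm (Fin 6)) (hg : Perm.sign g = 1) :
    g ^ 3 = 1 ∨ g ^ 4 = 1 ∨ g ^ 5 = 1 := by
  revert g
  decide +kernel

set_option maxRecDepth 1000000 in
theorem a6_card2 : Nat.card {g : alternatingGroup (Fin 6) // orderOf g = 2} = 45 := by
  have : Fact (Nat.Prime 2) := ⟨Nat.prime_two⟩
  rw [natCard_alt_orderOf_prime 2]
  decide +kernel

set_option maxRecDepth 1000000 in
theorem a6_card3 : Nat.card {g : alternatingGroup (Fin 6) // orderOf g = 3} = 80 := by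
  have : Fact (Nat.Prime 3) := ⟨Nat.prime_three⟩
  rw [natCard_alt_orderOf_prime 3]
  decide +kernel

set_option maxRecDepth 1000000 in
theorem a6_card4 : Nat.card {g : alternatingGroup (Fin 6) // orderOf g = 4} = 90 := by
  rw [natCard_alt_orderOf_four]
  decide +kernel

set_option maxRecDepth 1000000 in
theorem a6_card5 : Nat.card {g : alternatingGroup (Fin 6) // orderOf g = 5} = 144 := by
  have : Fact (Nat.Prime 5) := ⟨Nat.prime_five⟩
  rw [natCard_alt_orderOf_prime 5]
  decide +kernel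

theorem a6_orderOf' (g : alternatingGroup (Fin 6)) :
    orderOf g = 1 ∨ orderOf g = 2 ∨ orderOf g = 3 ∨ orderOf g = 4 ∨ orderOf g = 5 := by
  have hs : Perm.sign (g : Perm (Fin 6)) = 1 := Perm.mem_alternatingGroup.mp g.2
  rw [← Subgroup.orderOf_coe]
  rcases a6_perm_pow' g.1 hs with h | h | h
  · rcases (Nat.dvd_prime Nat.prime_three).mp (orderOf_dvd_of_pow_eq_one h) with h1 | h1 <;> simp [h1]
  · have h4 : orderOf (g : Perm (Fin 6)) ≤ 4 := Nat.le_of_dvd (by norm_num) (orderOf_dvd_of_pow_eq_one h)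
    have hd := orderOf_dvd_of_pow_eq_one h
    interval_cases (orderOf (g : Perm (Fin 6))) <;> simp_all
  · rcases (Nat.dvd_prime Nat.prime_five).mp (orderOf_dvd_of_pow_eq_one h) with h1 | h1 <;> simp [h1]

/-- the set of same-order counts of `A₆` -/
theorem a6_nse : ((fun m : ℕ => Nat.card {g : alternatingGroup (Fin 6) // orderOf g = m}) ''
    Set.range (orderOf : alternatingGroup (Fin 6) → ℕ)) = {1, 45, 80, 90, 144} := by
  ext c
  simp only [Set.mem_image, Set.mem_range, Set.mem_insert_iff, Set.mem_singleton_iff]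
  constructor
  · rintro ⟨m, ⟨g, rfl⟩, rfl⟩
    rcases a6_orderOf' g with h | h | h | h | h <;> rw [h]
    · exact Or.inl natCard_orderOf_eq_one
    · exact Or.inr (Or.inl a6_card2)
    · exact Or.inr (Or.inr (Or.inl a6_card3))
    · exact Or.inr (Or.inr (Or.inr (Or.inl a6_card4)))
    · exact Or.inr (Or.inr (Or.inr (Or.inr a6_card5)))
  · rintro (rfl | rfl | rfl | rfl | rfl)
    · exact ⟨1, ⟨1, orderOf_one⟩, natCard_orderOf_eq_one⟩
    · exact ⟨2, exists_of_natCard_ne_zero (by rw [a6_card2]; norm_num), a6_card2⟩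
    · exact ⟨3, exists_of_natCard_ne_zero (by rw [a6_card3]; norm_num), a6_card3⟩
    · exact ⟨4, exists_of_natCard_ne_zero (by rw [a6_card4]; norm_num), a6_card4⟩
    · exact ⟨5, exists_of_natCard_ne_zero (by rw [a6_card5]; norm_num), a6_card5⟩

end Cfsg.Agent.Lib.Helper12.Nse
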