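import Mathlib
import Cfsg.Agent.Lib.Helper12.NseB

/-!
Arithmetic of the same-order counts `{1, 3, 8}` of `A₄` (helper12).
-/

set_option autoImplicit false

namespace Cfsg.Agent.Lib.Helper12.Nse

variable {N : ℕ} {m : ℕ → ℕ}

theorem arith_A4 (h : NseSys N m)
    (hS : ∀ k, m k = 0 ∨ m k = 1 ∨ m k = 3 ∨ m k = 8)
    (h3 : ∃ k, m k = 3) (h8 : ∃ k, m k = 8) :
    N = 12 ∧ m 3 = 8 := by
  have hm0 := h.m_zero
  have hm1 := h.m_one
  have hNpos := h.Npos
  have hbig : ∀ k, 3 ≤ k → m k = 0 ∨ m k = 8 := by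
    intro k hk
    have h2 := h.two_dvd k hk
    rcases hS k with h' | h' | h' | h' <;> omega
  have hm2 : m 2 = 3 := by
    obtain ⟨k, hk⟩ := h3
    have hk3 : k < 3 := by
      by_contra hlt
      rcases hbig k (by omega) with h' | h' <;> omega
    interval_cases k <;> omega
  -- primes
  have hprime : ∀ p, p.Prime → p ∣ N → p = 2 ∨ p = 3 := by
    intro p hp hpN
    by_cases hp2 : p = 2
    · exact Or.inl hp2
    right
    have hp3 : 3 ≤ p := by have := hp.two_le; omega
    have hmp : m p = 8 := by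
      rcases hbig p hp3 with h' | h'
      · exact absurd h' (h.cauchy p hp hpN)
      · exact h'
    have hf := h.frob_prime p hp hpN
    rw [hmp] at hf
    have h9 : p ∣ 3 ^ 2 := by simpa using hf
    exact (Nat.prime_dvd_prime_iff_eq hp Nat.prime_three).mp (hp.dvd_of_dvd_pow h9)
  have hprime' : ∀ p, p.Prime → p ∣ N → p = 2 ∨ p = 3 ∨ p = 5 ∨ p = 7 := by
    intro p hp hpN
    rcases hprime p hp hpN with h' | h'
    · exact Or.inl h'
    · exact Or.inr (Or.inl h')
  have hm3 : m 3 = 0 ∨ m 3 = 8 := hbig 3 (by norm_num)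
  have hm4 : m 4 = 0 ∨ m 4 = 8 := hbig 4 (by norm_num)
  have hm6 : m 6 = 0 ∨ m 6 = 8 := hbig 6 (by norm_num)
  have hm8 : m 8 = 0 ∨ m 8 = 8 := hbig 8 (by norm_num)
  have hm12 : m 12 = 0 ∨ m 12 = 8 := hbig 12 (by norm_num)
  have hm9 : m 9 = 0 := by
    have ht := h.tot 9
    rw [show Nat.totient 9 = 6 from by decide +kernel] at ht
    rcases hbig 9 (by norm_num) with h' | h' <;> omega
  have hm27 : m 27 = 0 := by
    have ht := h.tot 27
    rw [show Nat.totient 27 = 18 from by decide +kernel] at ht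
    rcases hbig 27 (by norm_num) with h' | h' <;> omega
  have h3N : 3 ∣ N → m 3 = 8 := by
    intro h3N
    rcases hm3 with h' | h'
    · exact absurd h' (h.cauchy 3 Nat.prime_three h3N)
    · exact h'
  have hn8 : ¬ 8 ∣ N := by
    intro h8N
    have hf := h.frob 8 h8N
    simp [Nat.divisors_ofNat] at hf
    omega
  have hn27 : ¬ 27 ∣ N := by
    intro h27N
    have hf := h.frob 27 h27N
    simp [Nat.divisors_ofNat] at hf
    have := h3N (by omega)
    omega
  have hn5 : ¬ 5 ∣ N := fun h5 => by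
    rcases hprime 5 Nat.prime_five h5 with h' | h' <;> omega
  have hn7 : ¬ 7 ∣ N := fun h7 => by
    rcases hprime 7 (by norm_num) h7 with h' | h' <;> omega
  have hN36 : N ∣ 36 := by
    have := dvd_of_smooth N (by omega) hprime' 2 2 0 0 (by norm_num; exact hn8)
      (by norm_num; exact hn27) (by norm_num; exact hn5) (by norm_num; exact hn7)
    simpa using this
  -- support
  have hsupp : ∀ k, m k ≠ 0 → k ∈ ({1, 2, 3, 4, 6, 12} : Finset ℕ) := by
    intro k hk
    have hk36 : k ∣ 36 := dvd_trans (h.dvd k hk) hN36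
    have hmem : k ∈ Nat.divisors 36 := Nat.mem_divisors.mpr ⟨hk36, by norm_num⟩
    rw [show Nat.divisors 36 = {1, 2, 3, 4, 6, 9, 12, 18, 36} from by decide] at hmem
    simp only [Finset.mem_insert, Finset.mem_singleton] at hmem
    rcases hmem with rfl | rfl | rfl | rfl | rfl | rfl | rfl | rfl | rfl
    · simp
    · simp
    · simp
    · simp
    · simp
    · exact absurd hm9 hk
    · simp
    · exact absurd hm9 (h.closed 18 9 hk (by norm_num))
    · exact absurd hm9 (h.closed 36 9 hk (by norm_num))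
  have hsum := h.sum _ hsupp
  simp [Finset.sum_insert] at hsum
  -- 8 is attained
  have hN12 : 12 ≤ N := by
    obtain ⟨k, hk⟩ := h8
    have hmem := hsupp k (by omega)
    simp only [Finset.mem_insert, Finset.mem_singleton] at hmem
    rcases hmem with rfl | rfl | rfl | rfl | rfl | rfl <;> omega
  have hNle : N ≤ 36 := Nat.le_of_dvd (by norm_num) hN36
  have hcases : N = 12 ∨ N = 36 := by
    have hmem : N ∈ Nat.divisors 36 := Nat.mem_divisors.mpr ⟨hN36, by norm_num⟩
    rw [show Nat.divisors 36 = {1, 2, 3, 4, 6, 9, 12, 18, 36} from by decide] at hmem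
    simp only [Finset.mem_insert, Finset.mem_singleton] at hmem
    omega
  rcases hcases with hN | hN
  · refine ⟨hN, h3N ?_⟩
    omega
  · exfalso
    have hf := h.frob 6 (by omega)
    simp [Nat.divisors_ofNat] at hf
    omega

end Cfsg.Agent.Lib.Helper12.Nse
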