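import Mathlib
import Cfsg.Agent.Lib.Helper12.NseB

/-!
Arithmetic of the same-order counts `{1, 15, 20, 24}` of `A₅` (helper12).
-/

set_option autoImplicit false

namespace Cfsg.Agent.Lib.Helper12.Nse

variable {N : ℕ} {m : ℕ → ℕ}

set_option maxHeartbeats 1600000 in
theorem arith_A5 (h : NseSys N m)
    (hS : ∀ k, m k = 0 ∨ m k = 1 ∨ m k = 15 ∨ m k = 20 ∨ m k = 24)
    (h15 : ∃ k, m k = 15) (h20 : ∃ k, m k = 20) (h24 : ∃ k, m k = 24) :
    N = 60 ∧ m 3 = 20 ∧ m 5 = 24 ∧ (∀ k, m k ≠ 0 → k = 1 ∨ k = 2 ∨ k = 3 ∨ k = 5) := by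
  have hm0 := h.m_zero
  have hm1 := h.m_one
  have hNpos := h.Npos
  have hbig : ∀ k, 3 ≤ k → m k = 0 ∨ m k = 20 ∨ m k = 24 := by
    intro k hk
    have h2 := h.two_dvd k hk
    rcases hS k with h' | h' | h' | h' | h' <;> omega
  have hm2 : m 2 = 15 := by
    obtain ⟨k, hk⟩ := h15
    have hk3 : k < 3 := by
      by_contra hlt
      rcases hbig k (by omega) with h' | h' | h' <;> omega
    interval_cases k <;> omega
  -- totient-restricted values
  have tv : ∀ k t, 3 ≤ k → Nat.totient k = t → ¬ t ∣ 20 → m k = 0 ∨ m k = 24 := by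
    intro k t hk ht hnd
    have h1 := h.tot k
    rw [ht] at h1
    rcases hbig k hk with h' | h' | h'
    · exact Or.inl h'
    · rw [h'] at h1; exact absurd h1 hnd
    · exact Or.inr h'
  have tz : ∀ k t, 3 ≤ k → Nat.totient k = t → ¬ t ∣ 20 → ¬ t ∣ 24 → m k = 0 := by
    intro k t hk ht hnd hnd'
    have h1 := h.tot k
    rw [ht] at h1
    rcases hbig k hk with h' | h' | h'
    · exact h'
    · rw [h'] at h1; exact absurd h1 hnd
    · rw [h'] at h1; exact absurd h1 hnd'
  have hm3 : m 3 = 0 ∨ m 3 = 20 := by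
    rcases hbig 3 (by norm_num) with h' | h' | h'
    · exact Or.inl h'
    · exact Or.inr h'
    · exfalso
      have hf := h.frob_prime 3 Nat.prime_three (h.dvd 3 (by omega))
      omega
  have hm5 : m 5 = 0 ∨ m 5 = 24 := by
    rcases hbig 5 (by norm_num) with h' | h' | h'
    · exact Or.inl h'
    · exfalso
      have hf := h.frob_prime 5 Nat.prime_five (h.dvd 5 (by omega))
      omega
    · exact Or.inr h'
  have h3N : 3 ∣ N → m 3 = 20 := by
    intro h3N
    rcases hm3 with h' | h'
    · exact absurd h' (h.cauchy 3 Nat.prime_three h3N)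
    · exact h'
  have h5N : 5 ∣ N → m 5 = 24 := by
    intro h5N
    rcases hm5 with h' | h'
    · exact absurd h' (h.cauchy 5 Nat.prime_five h5N)
    · exact h'
  -- primes
  have hprime : ∀ p, p.Prime → p ∣ N → p = 2 ∨ p = 3 ∨ p = 5 ∨ p = 7 := by
    intro p hp hpN
    by_cases hp2 : p = 2
    · exact Or.inl hp2
    have hp3 : 3 ≤ p := by have := hp.two_le; omega
    have hf := h.frob_prime p hp hpN
    rcases hbig p hp3 with h' | h' | h'
    · exact absurd h' (h.cauchy p hp hpN)
    · rw [h'] at hf
      have h21 : p ∣ 3 * 7 := by simpa using hf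
      rcases (Nat.Prime.dvd_mul hp).mp h21 with h'' | h''
      · exact Or.inr (Or.inl ((Nat.prime_dvd_prime_iff_eq hp Nat.prime_three).mp h''))
      · exact Or.inr (Or.inr (Or.inr ((Nat.prime_dvd_prime_iff_eq hp (by norm_num)).mp h'')))
    · rw [h'] at hf
      have h25 : p ∣ 5 ^ 2 := by simpa using hf
      exact Or.inr (Or.inr (Or.inl
        ((Nat.prime_dvd_prime_iff_eq hp Nat.prime_five).mp (hp.dvd_of_dvd_pow h25))))
  have hn7 : ¬ 7 ∣ N := by
    intro h7
    have h1 := h.cauchy 7 (by norm_num) h7
    have hf := h.frob_prime 7 (by norm_num) h7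
    have ht := h.pred_dvd_prime 7 (by norm_num)
    rcases hbig 7 (by norm_num) with h' | h' | h' <;> omega
  -- individual values
  have hm4 := hbig 4 (by norm_num)
  have hm8 := hbig 8 (by norm_num)
  have hm12 := hbig 12 (by norm_num)
  have hm9 := tv 9 6 (by norm_num) (by decide +kernel) (by norm_num)
  have hm16 := tv 16 8 (by norm_num) (by decide +kernel) (by norm_num)
  have hm18 := tv 18 6 (by norm_num) (by decide +kernel) (by norm_num)
  have hm20 := tv 20 8 (by norm_num) (by decide +kernel) (by norm_num)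
  have hm24 := tv 24 8 (by norm_num) (by decide +kernel) (by norm_num)
  have hm36 := tv 36 12 (by norm_num) (by decide +kernel) (by norm_num)
  have hm72 := tv 72 24 (by norm_num) (by decide +kernel) (by norm_num)
  have hm27 := tz 27 18 (by norm_num) (by decide +kernel) (by norm_num) (by norm_num)
  have hm32 := tz 32 16 (by norm_num) (by decide +kernel) (by norm_num) (by norm_num)
  have hm40 := tz 40 16 (by norm_num) (by decide +kernel) (by norm_num) (by norm_num)
  have hm48 := tz 48 16 (by norm_num) (by decide +kernel) (by norm_num) (by norm_num)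
  have hm6 : m 6 = 0 ∨ m 6 = 24 := by
    rcases hbig 6 (by norm_num) with h' | h' | h'
    · exact Or.inl h'
    · exfalso
      have h6N := h.dvd 6 (by omega)
      have hf := h.frob 6 h6N
      simp [Nat.divisors_ofNat] at hf
      have h3 := h3N (by omega)
      clear * - hf h3 h' hm1 hm2
      omega
    · exact Or.inr h'
  have hm10 : m 10 = 0 ∨ m 10 = 20 := by
    rcases hbig 10 (by norm_num) with h' | h' | h'
    · exact Or.inl h'
    · exact Or.inr h'
    · exfalso
      have h10N := h.dvd 10 (by omega)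
      have hf := h.frob 10 h10N
      simp [Nat.divisors_ofNat] at hf
      have h5 := h5N (by omega)
      clear * - hf h5 h' hm1 hm2
      omega
  have hm15 : m 15 = 0 := by
    rcases tv 15 8 (by norm_num) (by decide +kernel) (by norm_num) with h' | h'
    · exact h'
    · exfalso
      have h15N := h.dvd 15 (by omega)
      have hf := h.frob 15 h15N
      simp [Nat.divisors_ofNat] at hf
      have h3 := h3N (by omega)
      have h5 := h5N (by omega)
      clear * - hf h3 h5 h' hm1
      omega
  have hm25 : m 25 = 0 := by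
    have ht := h.tot 25
    rw [show Nat.totient 25 = 20 from by decide +kernel] at ht
    rcases hbig 25 (by norm_num) with h' | h' | h'
    · exact h'
    · exfalso
      have h25N := h.dvd 25 (by omega)
      have hf := h.frob 25 h25N
      simp [Nat.divisors_ofNat] at hf
      have h5 := h5N (by omega)
      clear * - hf h5 h' hm1
      omega
    · exfalso
      clear * - ht h'
      omega
  -- closure facts
  have c8_4 : m 8 ≠ 0 → m 4 ≠ 0 := fun hk => h.closed 8 4 hk (by norm_num)
  have c12_4 : m 12 ≠ 0 → m 4 ≠ 0 := fun hk => h.closed 12 4 hk (by norm_num)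
  have c12_6 : m 12 ≠ 0 → m 6 ≠ 0 := fun hk => h.closed 12 6 hk (by norm_num)
  have c16_8 : m 16 ≠ 0 → m 8 ≠ 0 := fun hk => h.closed 16 8 hk (by norm_num)
  have c20_4 : m 20 ≠ 0 → m 4 ≠ 0 := fun hk => h.closed 20 4 hk (by norm_num)
  have c20_10 : m 20 ≠ 0 → m 10 ≠ 0 := fun hk => h.closed 20 10 hk (by norm_num)
  have c24_4 : m 24 ≠ 0 → m 4 ≠ 0 := fun hk => h.closed 24 4 hk (by norm_num)
  have c36_4 : m 36 ≠ 0 → m 4 ≠ 0 := fun hk => h.closed 36 4 hk (by norm_num)
  have c72_4 : m 72 ≠ 0 → m 4 ≠ 0 := fun hk => h.closed 72 4 hk (by norm_num)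
  -- Frobenius facts
  have f8 : 8 ∣ N → 8 ∣ 16 + m 4 + m 8 := by
    intro hd
    have hf := h.frob 8 hd
    simp [Nat.divisors_ofNat] at hf
    clear * - hf hm1 hm2
    omega
  have f12 : 12 ∣ N → 12 ∣ 16 + m 3 + m 4 + m 6 + m 12 := by
    intro hd
    have hf := h.frob 12 hd
    simp [Nat.divisors_ofNat] at hf
    clear * - hf hm1 hm2
    omega
  have f16 : 16 ∣ N → 16 ∣ 16 + m 4 + m 8 + m 16 := by
    intro hd
    have hf := h.frob 16 hd
    simp [Nat.divisors_ofNat] at hf
    clear * - hf hm1 hm2
    omega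
  have f20 : 20 ∣ N → 20 ∣ 16 + m 4 + m 5 + m 10 + m 20 := by
    intro hd
    have hf := h.frob 20 hd
    simp [Nat.divisors_ofNat] at hf
    clear * - hf hm1 hm2
    omega
  have hn27 : ¬ 27 ∣ N := by
    intro h27N
    have hf := h.frob 27 h27N
    simp [Nat.divisors_ofNat] at hf
    have h3 := h3N (by clear * - h27N; omega)
    clear * - hf h3 hm9 hm27 hm1
    omega
  -- support
  have hkprime : ∀ k, m k ≠ 0 → ∀ p, p.Prime → p ∣ k → p = 2 ∨ p = 3 ∨ p = 5 ∨ p = 7 :=
    fun k hk p hp hpk => hprime p hp (h.prime_dvd k hk p hpk)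
  have hsupp : ∀ k, m k ≠ 0 →
      k ∈ ({1, 2, 3, 4, 5, 6, 8, 9, 10, 12, 16, 18, 20, 24, 36, 72} : Finset ℕ) := by
    intro k hk
    have hk720 : k ∣ 720 := by
      have := dvd_of_smooth k (h.ne_zero_of_ne k hk) (hkprime k hk) 4 2 1 0
        (fun hd => h.closed k 32 hk (by simpa using hd) hm32)
        (fun hd => h.closed k 27 hk (by simpa using hd) hm27)
        (fun hd => h.closed k 25 hk (by simpa using hd) hm25)
        (fun hd => hn7 (h.prime_dvd k hk 7 (by simpa using hd)))
      simpa using this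
    have hmem : k ∈ Nat.divisors 720 := Nat.mem_divisors.mpr ⟨hk720, by norm_num⟩
    rw [show Nat.divisors 720 = {1, 2, 3, 4, 5, 6, 8, 9, 10, 12, 15, 16, 18, 20, 24, 30, 36, 40,
      45, 48, 60, 72, 80, 90, 120, 144, 180, 240, 360, 720} from by decide +kernel] at hmem
    simp only [Finset.mem_insert, Finset.mem_singleton] at hmem
    have m15 : ¬ 15 ∣ k := fun hd => h.closed k 15 hk hd hm15
    have m40 : ¬ 40 ∣ k := fun hd => h.closed k 40 hk hd hm40
    have m48 : ¬ 48 ∣ k := fun hd => h.closed k 48 hk hd hm48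
    simp only [Finset.mem_insert, Finset.mem_singleton]
    clear * - hmem m15 m40 m48
    omega
  have hsum := h.sum _ hsupp
  simp [Finset.sum_insert] at hsum
  -- divisibility by 4 of the individual counts
  have q3 : 4 ∣ m 3 := by clear * - hm3; omega
  have q4 : 4 ∣ m 4 := by clear * - hm4; omega
  have q5 : 4 ∣ m 5 := by clear * - hm5; omega
  have q6 : 4 ∣ m 6 := by clear * - hm6; omega
  have q8 : 4 ∣ m 8 := by clear * - hm8; omega
  have q9 : 4 ∣ m 9 := by clear * - hm9; omega
  have q10 : 4 ∣ m 10 := by clear * - hm10; omega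
  have q12 : 4 ∣ m 12 := by clear * - hm12; omega
  have q16 : 4 ∣ m 16 := by clear * - hm16; omega
  have q18 : 4 ∣ m 18 := by clear * - hm18; omega
  have q20 : 4 ∣ m 20 := by clear * - hm20; omega
  have q24 : 4 ∣ m 24 := by clear * - hm24; omega
  have q36 : 4 ∣ m 36 := by clear * - hm36; omega
  have q72 : 4 ∣ m 72 := by clear * - hm72; omega
  have h4N : 4 ∣ N := by
    clear * - hsum hm1 hm2 q3 q4 q5 q6 q8 q9 q10 q12 q16 q18 q20 q24 q36 q72
    omega
  -- attained values
  obtain ⟨k20, hk20⟩ := h20
  have hmem20 := hsupp k20 (by clear * - hk20; omega)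
  simp only [Finset.mem_insert, Finset.mem_singleton] at hmem20
  obtain ⟨k24, hk24⟩ := h24
  have hmem24 := hsupp k24 (by clear * - hk24; omega)
  simp only [Finset.mem_insert, Finset.mem_singleton] at hmem24
  have a20 : m 3 = 20 ∨ m 4 = 20 ∨ m 8 = 20 ∨ m 10 = 20 ∨ m 12 = 20 := by
      rcases hmem20 with rfl | rfl | rfl | rfl | rfl | rfl | rfl | rfl | rfl | rfl | rfl | rfl | rfl | rfl | rfl | rfl
      · clear * - hk20 hm1; omega
      · clear * - hk20 hm2; omega
      · clear * - hk20 hm3; omega
      · clear * - hk20 hm4; omega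
      · clear * - hk20 hm5; omega
      · clear * - hk20 hm6; omega
      · clear * - hk20 hm8; omega
      · clear * - hk20 hm9; omega
      · clear * - hk20 hm10; omega
      · clear * - hk20 hm12; omega
      · clear * - hk20 hm16; omega
      · clear * - hk20 hm18; omega
      · clear * - hk20 hm20; omega
      · clear * - hk20 hm24; omega
      · clear * - hk20 hm36; omega
      · clear * - hk20 hm72; omega
  have a24 : m 4 = 24 ∨ m 5 = 24 ∨ m 6 = 24 ∨ m 8 = 24 ∨ m 9 = 24 ∨ m 12 = 24 ∨ m 16 = 24 ∨
      m 18 = 24 ∨ m 20 = 24 ∨ m 24 = 24 ∨ m 36 = 24 ∨ m 72 = 24 := by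
      rcases hmem24 with rfl | rfl | rfl | rfl | rfl | rfl | rfl | rfl | rfl | rfl | rfl | rfl | rfl | rfl | rfl | rfl
      · clear * - hk24 hm1; omega
      · clear * - hk24 hm2; omega
      · clear * - hk24 hm3; omega
      · clear * - hk24 hm4; omega
      · clear * - hk24 hm5; omega
      · clear * - hk24 hm6; omega
      · clear * - hk24 hm8; omega
      · clear * - hk24 hm9; omega
      · clear * - hk24 hm10; omega
      · clear * - hk24 hm12; omega
      · clear * - hk24 hm16; omega
      · clear * - hk24 hm18; omega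
      · clear * - hk24 hm20; omega
      · clear * - hk24 hm24; omega
      · clear * - hk24 hm36; omega
      · clear * - hk24 hm72; omega
  have hN60 : 60 ≤ N := by
    clear * - hsum hm1 hm2 a20 a24
    omega
  by_cases h3 : 3 ∣ N
  · have e3 := h3N h3
    have h12N : 12 ∣ N := by clear * - h3 h4N; omega
    have h12 := f12 h12N
    by_cases h5 : 5 ∣ N
    · -- case A : 60 ∣ N
      have e5 := h5N h5
      have h20N : 20 ∣ N := by clear * - h5 h4N; omega
      have h20' := f20 h20N
      have e4 : m 4 = 0 := by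
        clear * - h12 h20' e3 e5 hm4 hm6 hm12 hm10 hm20
        omega
      have z8 : m 8 = 0 := by
        by_contra hne
        exact c8_4 hne e4
      have z12 : m 12 = 0 := by
        by_contra hne
        exact c12_4 hne e4
      have z16 : m 16 = 0 := by
        by_contra hne
        exact c16_8 hne z8
      have z20 : m 20 = 0 := by
        by_contra hne
        exact c20_4 hne e4
      have z24 : m 24 = 0 := by
        by_contra hne
        exact c24_4 hne e4
      have z36 : m 36 = 0 := by
        by_contra hne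
        exact c36_4 hne e4
      have z72 : m 72 = 0 := by
        by_contra hne
        exact c72_4 hne e4
      have hN : N = 60 ∧ m 6 = 0 ∧ m 9 = 0 ∧ m 10 = 0 ∧ m 18 = 0 := by
        clear * - hsum hm1 hm2 e3 e4 e5 z8 z12 z16 z20 z24 z36 z72 hm6 hm9 hm10 hm18 h3 h4N h5
        omega
      obtain ⟨hN, z6, z9, z10, z18⟩ := hN
      refine ⟨hN, e3, e5, ?_⟩
      intro k hk
      have hmem := hsupp k hk
      simp only [Finset.mem_insert, Finset.mem_singleton] at hmem
      rcases hmem with rfl | rfl | rfl | rfl | rfl | rfl | rfl | rfl | rfl | rfl | rfl | rfl |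
        rfl | rfl | rfl | rfl
      · simp
      · simp
      · simp
      · exact absurd e4 hk
      · simp
      · exact absurd z6 hk
      · exact absurd z8 hk
      · exact absurd z9 hk
      · exact absurd z10 hk
      · exact absurd z12 hk
      · exact absurd z16 hk
      · exact absurd z18 hk
      · exact absurd z20 hk
      · exact absurd z24 hk
      · exact absurd z36 hk
      · exact absurd z72 hk
    · -- case B : 3 ∣ N, 5 ∤ N
      exfalso
      have z5 : m 5 = 0 := h.zero_of_not_dvd 5 h5
      have z10 : m 10 = 0 := h.zero_of_not_dvd 10 (by clear * - h5; omega)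
      have z20 : m 20 = 0 := h.zero_of_not_dvd 20 (by clear * - h5; omega)
      have n4 : m 4 ≠ 20 ∧ m 12 ≠ 20 := by
        clear * - h12 e3 hm4 hm6 hm12 c12_4 c12_6
        omega
      have n8 : m 8 ≠ 20 := by
        intro e8
        have h8N : 8 ∣ N := h.dvd 8 (by clear * - e8; omega)
        have h8 := f8 h8N
        clear * - h8 e8 hm4 n4
        omega
      have r4 : 24 ∣ m 4 := by clear * - hm4 n4; omega
      have r6 : 24 ∣ m 6 := by clear * - hm6; omega
      have r8 : 24 ∣ m 8 := by clear * - hm8 n8; omega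
      have r9 : 24 ∣ m 9 := by clear * - hm9; omega
      have r12 : 24 ∣ m 12 := by clear * - hm12 n4; omega
      have r16 : 24 ∣ m 16 := by clear * - hm16; omega
      have r18 : 24 ∣ m 18 := by clear * - hm18; omega
      have r24 : 24 ∣ m 24 := by clear * - hm24; omega
      have r36 : 24 ∣ m 36 := by clear * - hm36; omega
      have r72 : 24 ∣ m 72 := by clear * - hm72; omega
      have hn8 : ¬ 8 ∣ N := by
        clear * - hsum hm1 hm2 e3 z5 z10 z20 r4 r6 r8 r9 r12 r16 r18 r24 r36 r72
        omega
      have hN36 : N ∣ 36 := by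
        have := dvd_of_smooth N (by clear * - hNpos; omega) hprime 2 2 0 0 (by norm_num; exact hn8)
          (by norm_num; exact hn27) (by norm_num; exact h5) (by norm_num; exact hn7)
        simpa using this
      have hle : N ≤ 36 := Nat.le_of_dvd (by norm_num) hN36
      clear * - hle hN60
      omega
  · -- case C : 3 ∤ N
    exfalso
    have z3 : m 3 = 0 := h.zero_of_not_dvd 3 h3
    have z6 : m 6 = 0 := h.zero_of_not_dvd 6 (by clear * - h3; omega)
    have z9 : m 9 = 0 := h.zero_of_not_dvd 9 (by clear * - h3; omega)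
    have z12 : m 12 = 0 := h.zero_of_not_dvd 12 (by clear * - h3; omega)
    have z18 : m 18 = 0 := h.zero_of_not_dvd 18 (by clear * - h3; omega)
    have z24 : m 24 = 0 := h.zero_of_not_dvd 24 (by clear * - h3; omega)
    have z36 : m 36 = 0 := h.zero_of_not_dvd 36 (by clear * - h3; omega)
    have z72 : m 72 = 0 := h.zero_of_not_dvd 72 (by clear * - h3; omega)
    have d8 : m 8 ≠ 0 → 8 ∣ N := h.dvd 8
    have d16 : m 16 ≠ 0 → 16 ∣ N := h.dvd 16
    by_cases h5 : 5 ∣ N
    · -- case C2
      have e5 := h5N h5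
      have h20N : 20 ∣ N := by clear * - h5 h4N; omega
      have h20' := f20 h20N
      have n4 : m 4 ≠ 24 ∧ m 20 = 0 := by
        clear * - h20' e5 hm4 hm10 hm20 c20_4 c20_10
        omega
      have hN' : N = 80 ∨ N = 100 := by
        clear * - hsum hm1 hm2 z3 z6 z9 z12 z18 z24 z36 z72 e5 n4 hm4 hm8 hm10 hm16 h20N h3 hN60
        omega
      rcases hN' with hN | hN
      · have h8 := f8 (by clear * - hN; omega)
        have h16 := f16 (by clear * - hN; omega)
        clear * - hsum hm1 hm2 z3 z6 z9 z12 z18 z24 z36 z72 e5 n4 hm4 hm8 hm10 hm16 hN h8 h16 c8_4 c16_8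
        omega
      · have z8 : m 8 = 0 := h.zero_of_not_dvd 8 (by clear * - hN; omega)
        have z16 : m 16 = 0 := h.zero_of_not_dvd 16 (by clear * - hN; omega)
        clear * - hsum hm1 hm2 z3 z6 z9 z12 z18 z24 z36 z72 e5 n4 hm4 z8 hm10 z16 hN
        omega
    · -- case C1
      have z5 : m 5 = 0 := h.zero_of_not_dvd 5 h5
      have z10 : m 10 = 0 := h.zero_of_not_dvd 10 (by clear * - h5; omega)
      have z20 : m 20 = 0 := h.zero_of_not_dvd 20 (by clear * - h5; omega)
      have hle88 : N ≤ 88 := by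
        clear * - hsum hm1 hm2 z3 z5 z6 z9 z10 z12 z18 z20 z24 z36 z72 hm4 hm8 hm16
        omega
      have hN64 : N ∣ 64 := by
        have := dvd_of_smooth N (by clear * - hNpos; omega) hprime 6 0 0 0
          (by norm_num; intro hd; have := Nat.le_of_dvd hNpos hd; clear * - this hle88; omega)
          (by norm_num; exact h3) (by norm_num; exact h5) (by norm_num; exact hn7)
        simpa using this
      have hN : N = 64 := by
        have hmem : N ∈ Nat.divisors 64 := Nat.mem_divisors.mpr ⟨hN64, by norm_num⟩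
        rw [show Nat.divisors 64 = {1, 2, 4, 8, 16, 32, 64} from by decide +kernel] at hmem
        simp only [Finset.mem_insert, Finset.mem_singleton] at hmem
        clear * - hmem hN60
        omega
      have h8 := f8 (by clear * - hN; omega)
      have h16 := f16 (by clear * - hN; omega)
      clear * - hsum hm1 hm2 z3 z5 z6 z9 z10 z12 z18 z20 z24 z36 z72 hm4 hm8 hm16 hN h8 h16 c8_4 c16_8 a20
      omega

end Cfsg.Agent.Lib.Helper12.Nse
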