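import Mathlib
import Cfsg.Agent.Lib.Helper12.NseB

/-!
Arithmetic of the same-order counts `{1, 45, 80, 90, 144}` of `A₆` (helper12).
-/

set_option autoImplicit false

namespace Cfsg.Agent.Lib.Helper12.Nse

variable {N : ℕ} {m : ℕ → ℕ}

set_option maxHeartbeats 1600000 in
theorem arith_A6 (h : NseSys N m)
    (hS : ∀ k, m k = 0 ∨ m k = 1 ∨ m k = 45 ∨ m k = 80 ∨ m k = 90 ∨ m k = 144)
    (h45 : ∃ k, m k = 45) (h80 : ∃ k, m k = 80) (h90 : ∃ k, m k = 90) (h144 : ∃ k, m k = 144) :
    N = 360 ∧ m 3 = 80 ∧ m 5 = 144 ∧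
      (∀ k, m k ≠ 0 → k = 1 ∨ k = 2 ∨ k = 3 ∨ k = 4 ∨ k = 5) := by
  have hm0 := h.m_zero
  have hm1 := h.m_one
  have hNpos := h.Npos
  have hbig : ∀ k, 3 ≤ k → m k = 0 ∨ m k = 80 ∨ m k = 90 ∨ m k = 144 := by
    intro k hk
    have h2 := h.two_dvd k hk
    rcases hS k with h' | h' | h' | h' | h' | h' <;> omega
  have hm2 : m 2 = 45 := by
    obtain ⟨k, hk⟩ := h45
    have hk3 : k < 3 := by
      by_contra hlt
      rcases hbig k (by omega) with h' | h' | h' | h' <;> omega
    interval_cases k <;> omega
  -- totient-restricted values: `m k` is `0` or a multiple of `t = φ(k)` among 80, 90, 144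
  have tv : ∀ k t, 3 ≤ k → Nat.totient k = t →
      m k = 0 ∨ (m k = 80 ∧ t ∣ 80) ∨ (m k = 90 ∧ t ∣ 90) ∨ (m k = 144 ∧ t ∣ 144) := by
    intro k t hk ht
    have h1 := h.tot k
    rw [ht] at h1
    rcases hbig k hk with h' | h' | h' | h'
    · exact Or.inl h'
    · rw [h'] at h1; exact Or.inr (Or.inl ⟨h', h1⟩)
    · rw [h'] at h1; exact Or.inr (Or.inr (Or.inl ⟨h', h1⟩))
    · rw [h'] at h1; exact Or.inr (Or.inr (Or.inr ⟨h', h1⟩))
  have hm3 : m 3 = 0 ∨ m 3 = 80 := by
    rcases hbig 3 (by norm_num) with h' | h' | h' | h'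
    · exact Or.inl h'
    · exact Or.inr h'
    · exfalso
      have hf := h.frob_prime 3 Nat.prime_three (h.dvd 3 (by omega))
      omega
    · exfalso
      have hf := h.frob_prime 3 Nat.prime_three (h.dvd 3 (by omega))
      omega
  have hm5 : m 5 = 0 ∨ m 5 = 144 := by
    rcases hbig 5 (by norm_num) with h' | h' | h' | h'
    · exact Or.inl h'
    · exfalso
      have hf := h.frob_prime 5 Nat.prime_five (h.dvd 5 (by omega))
      omega
    · exfalso
      have hf := h.frob_prime 5 Nat.prime_five (h.dvd 5 (by omega))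
      omega
    · exact Or.inr h'
  have hm7 : m 7 = 0 ∨ m 7 = 90 := by
    rcases hbig 7 (by norm_num) with h' | h' | h' | h'
    · exact Or.inl h'
    · exfalso
      have hf := h.frob_prime 7 (by norm_num) (h.dvd 7 (by omega))
      omega
    · exact Or.inr h'
    · exfalso
      have hf := h.frob_prime 7 (by norm_num) (h.dvd 7 (by omega))
      omega
  have h3N : 3 ∣ N → m 3 = 80 := by
    intro h3N
    rcases hm3 with h' | h'
    · exact absurd h' (h.cauchy 3 Nat.prime_three h3N)
    · exact h'
  have h5N : 5 ∣ N → m 5 = 144 := by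
    intro h5N
    rcases hm5 with h' | h'
    · exact absurd h' (h.cauchy 5 Nat.prime_five h5N)
    · exact h'
  have h7N : 7 ∣ N → m 7 = 90 := by
    intro h7N
    rcases hm7 with h' | h'
    · exact absurd h' (h.cauchy 7 (by norm_num) h7N)
    · exact h'
  -- primes
  have hprime : ∀ p, p.Prime → p ∣ N → p = 2 ∨ p = 3 ∨ p = 5 ∨ p = 7 := by
    intro p hp hpN
    by_cases hp2 : p = 2
    · exact Or.inl hp2
    have hp3 : 3 ≤ p := by have := hp.two_le; omega
    have hf := h.frob_prime p hp hpN
    have ht := h.pred_dvd_prime p hp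
    rcases hbig p hp3 with h' | h' | h' | h'
    · exact absurd h' (h.cauchy p hp hpN)
    · rw [h'] at hf
      have h81 : p ∣ 3 ^ 4 := by simpa using hf
      exact Or.inr (Or.inl
        ((Nat.prime_dvd_prime_iff_eq hp Nat.prime_three).mp (hp.dvd_of_dvd_pow h81)))
    · rw [h'] at hf
      have h91 : p ∣ 7 * 13 := by simpa using hf
      rcases (Nat.Prime.dvd_mul hp).mp h91 with h'' | h''
      · exact Or.inr (Or.inr (Or.inr ((Nat.prime_dvd_prime_iff_eq hp (by norm_num)).mp h'')))
      · exfalso
        have e13 := (Nat.prime_dvd_prime_iff_eq hp (by norm_num)).mp h''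
        subst e13
        omega
    · rw [h'] at hf
      have h145 : p ∣ 5 * 29 := by simpa using hf
      rcases (Nat.Prime.dvd_mul hp).mp h145 with h'' | h''
      · exact Or.inr (Or.inr (Or.inl ((Nat.prime_dvd_prime_iff_eq hp Nat.prime_five).mp h'')))
      · exfalso
        have e29 := (Nat.prime_dvd_prime_iff_eq hp (by norm_num)).mp h''
        subst e29
        omega
  -- `7 ∤ N`
  have hn7 : ¬ 7 ∣ N := by
    intro h7
    have e7 := h7N h7
    have z49 : m 49 = 0 := by
      rcases tv 49 42 (by norm_num) (by decide +kernel) with h' | h' | h' | h'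
      · exact h'
      · omega
      · omega
      · omega
    have hn49 : ¬ 49 ∣ N := by
      intro h49
      have hf := h.frob 49 h49
      simp [Nat.divisors_ofNat] at hf
      omega
    obtain ⟨n, hn1, hn2, hn3⟩ := h.syl 7 1 (by norm_num) (by norm_num) (by simpa using h7)
      (by simpa using hn49) (by simpa using (show m 7 ≠ 0 by omega))
    rw [show (7 : ℕ) ^ 1 = 7 from by norm_num, show Nat.totient 7 = 6 from by decide +kernel,
      e7] at hn1
    have en : n = 15 := by omega
    subst en
    rw [show (7 : ℕ) ^ 1 = 7 from by norm_num] at hn3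
    have h35 : 35 ∣ N := by omega
    have e5 := h5N (by omega)
    have hf := h.frob 35 h35
    simp [Nat.divisors_ofNat] at hf
    rcases tv 35 24 (by norm_num) (by decide +kernel) with h' | h' | h' | h' <;> omega
  -- the 2-part
  have hm4 : m 4 = 0 ∨ m 4 = 90 := by
    rcases hbig 4 (by norm_num) with h' | h' | h' | h'
    · exact Or.inl h'
    · exfalso
      have hf := h.frob 4 (h.dvd 4 (by omega))
      simp [Nat.divisors_ofNat] at hf
      omega
    · exact Or.inr h'
    · exfalso
      have hf := h.frob 4 (h.dvd 4 (by omega))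
      simp [Nat.divisors_ofNat] at hf
      omega
  have h4N : 4 ∣ N → m 4 = 90 := by
    intro hd
    have hf := h.frob 4 hd
    simp [Nat.divisors_ofNat] at hf
    rcases hm4 with h' | h' <;> omega
  have hn16 : ¬ 16 ∣ N := by
    intro h16
    have e4 := h4N (by omega)
    have hf8 := h.frob 8 (by omega)
    simp [Nat.divisors_ofNat] at hf8
    have hf16 := h.frob 16 h16
    simp [Nat.divisors_ofNat] at hf16
    have t16 := tv 16 8 (by norm_num) (by decide +kernel)
    have b8 := hbig 8 (by norm_num)
    clear * - hf8 hf16 t16 b8 e4 hm1 hm2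
    omega
  have z8 : m 8 = 0 := by
    by_contra hne
    have h8N := h.dvd 8 hne
    have e4 := h4N (by omega)
    have hf8 := h.frob 8 h8N
    simp [Nat.divisors_ofNat] at hf8
    obtain ⟨n, hn1, hn2, hn3⟩ := h.syl 2 3 Nat.prime_two (by norm_num) (by simpa using h8N)
      (by simpa using hn16) (by simpa using hne)
    rw [show (2 : ℕ) ^ 3 = 8 from by norm_num, show Nat.totient 8 = 4 from by decide +kernel] at hn1
    have b8 := hbig 8 (by norm_num)
    clear * - hn1 hn2 b8 hne hf8 e4 hm1 hm2
    omega
  -- the 3-part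
  have t9 : m 9 = 0 ∨ m 9 = 90 ∨ m 9 = 144 := by
    rcases tv 9 6 (by norm_num) (by decide +kernel) with h' | h' | h' | h' <;> omega
  have t27 : m 27 = 0 ∨ m 27 = 90 ∨ m 27 = 144 := by
    rcases tv 27 18 (by norm_num) (by decide +kernel) with h' | h' | h' | h' <;> omega
  have z9 : m 9 = 0 := by
    by_contra hne
    have h9N := h.dvd 9 hne
    have e3 := h3N (by omega)
    have hn27 : ¬ 27 ∣ N := by
      intro h27
      have hf := h.frob 27 h27
      simp [Nat.divisors_ofNat] at hf
      clear * - hf hm1 e3 t9 t27 hne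
      omega
    obtain ⟨n, hn1, hn2, hn3⟩ := h.syl 3 2 Nat.prime_three (by norm_num) (by simpa using h9N)
      (by simpa using hn27) (by simpa using hne)
    rw [show (3 : ℕ) ^ 2 = 9 from by norm_num, show Nat.totient 9 = 6 from by decide +kernel] at hn1
    clear * - hn1 hn2 t9 hne
    omega
  -- the 5-part
  have t25 : m 25 = 0 ∨ m 25 = 80 := by
    rcases tv 25 20 (by norm_num) (by decide +kernel) with h' | h' | h' | h' <;> omega
  have z125 : m 125 = 0 := by
    rcases tv 125 100 (by norm_num) (by decide +kernel) with h' | h' | h' | h' <;> omega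
  have z25 : m 25 = 0 := by
    by_contra hne
    have h25N := h.dvd 25 hne
    have e5 := h5N (by omega)
    have hn125 : ¬ 125 ∣ N := by
      intro h125
      have hf := h.frob 125 h125
      simp [Nat.divisors_ofNat] at hf
      clear * - hf hm1 e5 t25 z125
      omega
    obtain ⟨n, hn1, hn2, hn3⟩ := h.syl 5 2 Nat.prime_five (by norm_num) (by simpa using h25N)
      (by simpa using hn125) (by simpa using hne)
    rw [show (5 : ℕ) ^ 2 = 25 from by norm_num, show Nat.totient 25 = 20 from by decide +kernel]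
      at hn1
    clear * - hn1 hn2 t25 hne
    omega
  have hn25 : ¬ 25 ∣ N := by
    intro h25
    have e5 := h5N (by omega)
    have hf := h.frob 25 h25
    simp [Nat.divisors_ofNat] at hf
    clear * - hf hm1 e5 z25
    omega
  have z15 : m 15 = 0 := by
    by_contra hne
    have h15N := h.dvd 15 hne
    have e3 := h3N (by omega)
    have e5 := h5N (by omega)
    have hf := h.frob 15 h15N
    simp [Nat.divisors_ofNat] at hf
    rcases tv 15 8 (by norm_num) (by decide +kernel) with h' | h' | h' | h' <;> omega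
  -- support
  have hkprime : ∀ k, m k ≠ 0 → ∀ p, p.Prime → p ∣ k → p = 2 ∨ p = 3 ∨ p = 5 ∨ p = 7 :=
    fun k hk p hp hpk => hprime p hp (h.prime_dvd k hk p hpk)
  have hsupp : ∀ k, m k ≠ 0 → k ∈ ({1, 2, 3, 4, 5, 6, 10, 12, 20} : Finset ℕ) := by
    intro k hk
    have hk60 : k ∣ 60 := by
      have := dvd_of_smooth k (h.ne_zero_of_ne k hk) (hkprime k hk) 2 1 1 0
        (fun hd => h.closed k 8 hk (by simpa using hd) z8)
        (fun hd => h.closed k 9 hk (by simpa using hd) z9)
        (fun hd => h.closed k 25 hk (by simpa using hd) z25)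
        (fun hd => hn7 (h.prime_dvd k hk 7 (by simpa using hd)))
      simpa using this
    have hmem : k ∈ Nat.divisors 60 := Nat.mem_divisors.mpr ⟨hk60, by norm_num⟩
    rw [show Nat.divisors 60 = {1, 2, 3, 4, 5, 6, 10, 12, 15, 20, 30, 60} from by decide +kernel]
      at hmem
    simp only [Finset.mem_insert, Finset.mem_singleton] at hmem
    have m15 : ¬ 15 ∣ k := fun hd => h.closed k 15 hk hd z15
    simp only [Finset.mem_insert, Finset.mem_singleton]
    clear * - hmem m15
    omega
  have hsum := h.sum _ hsupp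
  simp [Finset.sum_insert] at hsum
  -- further values
  have hm6 : m 6 = 0 ∨ m 6 = 90 ∨ m 6 = 144 := by
    rcases hbig 6 (by norm_num) with h' | h' | h' | h'
    · exact Or.inl h'
    · exfalso
      have h6N := h.dvd 6 (by omega)
      have e3 := h3N (by omega)
      have hf := h.frob 6 h6N
      simp [Nat.divisors_ofNat] at hf
      clear * - hf e3 h' hm1 hm2
      omega
    · exact Or.inr (Or.inl h')
    · exact Or.inr (Or.inr h')
  have hm10 : m 10 = 0 ∨ m 10 = 80 := by
    rcases tv 10 4 (by norm_num) (by decide +kernel) with h' | h' | h' | h'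
    · exact Or.inl h'
    · exact Or.inr h'.1
    · omega
    · exfalso
      have h10N := h.dvd 10 (by omega)
      have e5 := h5N (by omega)
      have hf := h.frob 10 h10N
      simp [Nat.divisors_ofNat] at hf
      clear * - hf e5 h' hm1 hm2
      omega
  have hm12 : m 12 = 0 ∨ m 12 = 80 ∨ m 12 = 144 := by
    rcases tv 12 4 (by norm_num) (by decide +kernel) with h' | h' | h' | h' <;> omega
  have hm20 : m 20 = 0 ∨ m 20 = 80 ∨ m 20 = 144 := by
    rcases tv 20 8 (by norm_num) (by decide +kernel) with h' | h' | h' | h' <;> omega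
  have f12 : 12 ∣ N → 12 ∣ 46 + m 3 + m 4 + m 6 + m 12 := by
    intro hd
    have hf := h.frob 12 hd
    simp [Nat.divisors_ofNat] at hf
    clear * - hf hm1 hm2
    omega
  have c12_6 : m 12 ≠ 0 → m 6 ≠ 0 := fun hk => h.closed 12 6 hk (by norm_num)
  have c12_4 : m 12 ≠ 0 → m 4 ≠ 0 := fun hk => h.closed 12 4 hk (by norm_num)
  have c6_3 : m 6 ≠ 0 → m 3 ≠ 0 := fun hk => h.closed 6 3 hk (by norm_num)
  have d12 : m 12 ≠ 0 → 12 ∣ N := h.dvd 12
  -- attained values
  obtain ⟨k144, hk144⟩ := h144
  have hmem144 := hsupp k144 (by clear * - hk144; omega)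
  simp only [Finset.mem_insert, Finset.mem_singleton] at hmem144
  have a144 : m 5 = 144 ∨ m 6 = 144 ∨ m 12 = 144 ∨ m 20 = 144 := by
    rcases hmem144 with rfl | rfl | rfl | rfl | rfl | rfl | rfl | rfl | rfl
    · clear * - hk144 hm1; omega
    · clear * - hk144 hm2; omega
    · clear * - hk144 hm3; omega
    · clear * - hk144 hm4; omega
    · clear * - hk144; omega
    · clear * - hk144; omega
    · clear * - hk144 hm10; omega
    · clear * - hk144; omega
    · clear * - hk144; omega
  obtain ⟨k90, hk90⟩ := h90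
  have hmem90 := hsupp k90 (by clear * - hk90; omega)
  simp only [Finset.mem_insert, Finset.mem_singleton] at hmem90
  have a90 : m 4 = 90 ∨ m 6 = 90 := by
    rcases hmem90 with rfl | rfl | rfl | rfl | rfl | rfl | rfl | rfl | rfl
    · clear * - hk90 hm1; omega
    · clear * - hk90 hm2; omega
    · clear * - hk90 hm3; omega
    · clear * - hk90; omega
    · clear * - hk90 hm5; omega
    · clear * - hk90; omega
    · clear * - hk90 hm10; omega
    · clear * - hk90 hm12; omega
    · clear * - hk90 hm20; omega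
  by_cases h5 : 5 ∣ N
  · -- `5 ∣ N`
    have e5 := h5N h5
    obtain ⟨n, hn1, hn2, hn3⟩ := h.syl 5 1 Nat.prime_five (by norm_num) (by simpa using h5)
      (by simpa using hn25) (by simpa using (show m 5 ≠ 0 by clear * - e5; omega))
    rw [show (5 : ℕ) ^ 1 = 5 from by norm_num, show Nat.totient 5 = 4 from by decide +kernel,
      e5] at hn1
    have en : n = 36 := by clear * - hn1; omega
    subst en
    rw [show (5 : ℕ) ^ 1 = 5 from by norm_num] at hn3
    have h180 : 180 ∣ N := by clear * - hn3 h5; omega
    have e4 := h4N (by clear * - h180; omega)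
    have e3 := h3N (by clear * - h180; omega)
    have hN : N = 360 ∧ m 6 = 0 ∧ m 10 = 0 ∧ m 12 = 0 ∧ m 20 = 0 := by
      clear * - hsum hm1 hm2 e3 e4 e5 hm6 hm10 hm12 hm20 h180
      omega
    obtain ⟨hN, z6, z10, z12, z20⟩ := hN
    refine ⟨hN, e3, e5, ?_⟩
    intro k hk
    have hmem := hsupp k hk
    simp only [Finset.mem_insert, Finset.mem_singleton] at hmem
    rcases hmem with rfl | rfl | rfl | rfl | rfl | rfl | rfl | rfl | rfl
    · simp
    · simp
    · simp
    · simp
    · simp
    · exact absurd z6 hk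
    · exact absurd z10 hk
    · exact absurd z12 hk
    · exact absurd z20 hk
  · -- `5 ∤ N`
    exfalso
    have z5 : m 5 = 0 := h.zero_of_not_dvd 5 h5
    have z10 : m 10 = 0 := h.zero_of_not_dvd 10 (by clear * - h5; omega)
    have z20 : m 20 = 0 := h.zero_of_not_dvd 20 (by clear * - h5; omega)
    have e6 : m 6 = 144 := by
      by_contra hne
      have e12 : m 12 = 144 := by clear * - a144 z5 z20 hne; omega
      have h12N := d12 (by clear * - e12; omega)
      have h12 := f12 h12N
      have n6 := c12_6 (by clear * - e12; omega)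
      have n4 := c12_4 (by clear * - e12; omega)
      have n3 := c6_3 n6
      clear * - h12 e12 n6 n4 n3 hm3 hm4 hm6 hne
      omega
    have n3 := c6_3 (by clear * - e6; omega)
    have e3 : m 3 = 80 := by clear * - n3 hm3; omega
    have e4 : m 4 = 90 := by clear * - a90 e6; omega
    rcases hm12 with e12 | e12 | e12
    · have hN : N = 360 := by
        clear * - hsum hm1 hm2 e3 e4 z5 e6 z10 e12 z20
        omega
      clear * - hN h5
      omega
    · have h12 := f12 (d12 (by clear * - e12; omega))
      clear * - h12 e3 e4 e6 e12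
      omega
    · have hN : N = 504 := by
        clear * - hsum hm1 hm2 e3 e4 z5 e6 z10 e12 z20
        omega
      clear * - hN hn7
      omega

end Cfsg.Agent.Lib.Helper12.Nse
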