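import Mathlib
import Cfsg.Agent.Lib.Helper12.NseA

/-!
Group-theoretic lemmas for `nse`-recognition of `A₅`, `A₆` (helper12): elements of order prime to the
index lie in a normal subgroup; a conjugation fixed-point lemma; simplicity from element counts.
-/

set_option autoImplicit false

namespace Cfsg.Agent.Lib.Helper12.Nse

universe u

/-- an element whose order is prime to the index of a normal subgroup lies in it -/
theorem mem_of_coprime_index {G : Type*} [Group G] [Finite G] (N : Subgroup G) [N.Normal] (g : G)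
    (h : Nat.Coprime (orderOf g) N.index) : g ∈ N := by
  rw [← QuotientGroup.eq_one_iff]
  have h1 : orderOf (g : G ⧸ N) ∣ orderOf g := by
    apply orderOf_dvd_of_pow_eq_one
    rw [← QuotientGroup.mk_pow, pow_orderOf_eq_one]
    rfl
  have h2 : orderOf (g : G ⧸ N) ∣ N.index := by
    rw [Subgroup.index_eq_card]
    exact orderOf_dvd_natCard _
  have h3 : orderOf (g : G ⧸ N) ∣ 1 := by
    rw [← Nat.Coprime.gcd_eq_one h]
    exact Nat.dvd_gcd h1 h2
  exact orderOf_eq_one_iff.mp (Nat.dvd_one.mp h3)

/-- conjugation by an element `y` with `y ^ p = 1` has a fixed point on every finite stable set of size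
prime to `p` -/
theorem exists_conj_fixed {G : Type*} [Group G] [Finite G] (p : ℕ) [Fact p.Prime] (y : G)
    (hy : y ^ p = 1) (X : Set G) (hX : ∀ x ∈ X, y * x * y⁻¹ ∈ X) (hp : ¬ p ∣ Nat.card X) :
    ∃ x ∈ X, y * x * y⁻¹ = x := by
  classical
  have : Fintype X := Fintype.ofFinite X
  let τ : Equiv.Perm G := (MulAut.conj y).toEquiv
  have hτ : ∀ x, x ∈ X → τ x ∈ X := fun x hx => by
    change y * x * y⁻¹ ∈ X
    exact hX x hx
  let σ : Equiv.Perm X := τ.subtypePermOfFintype hτ
  have hpow : ∀ (k : ℕ) (x : X), ((σ ^ k) x : G) = y ^ k * x * (y ^ k)⁻¹ := by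
    intro k
    induction k with
    | zero => intro x; simp
    | succ k ih =>
      intro x
      rw [pow_succ', Equiv.Perm.mul_apply, Equiv.Perm.subtypePermOfFintype_apply]
      change y * ((σ ^ k) x : G) * y⁻¹ = _
      rw [ih, pow_succ']
      group
  have hσ : σ ^ p ^ 1 = 1 := by
    rw [pow_one]
    ext x
    rw [hpow, hy]
    simp
  obtain ⟨a, ha⟩ := Equiv.Perm.exists_fixed_point_of_prime
    (by rwa [← Nat.card_eq_fintype_card]) hσ
  refine ⟨a.1, a.2, ?_⟩
  have h1 := congrArg Subtype.val ha
  rw [Equiv.Perm.subtypePermOfFintype_apply] at h1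
  exact h1

/-- counting the elements of two distinct nontrivial orders inside a subgroup -/
theorem card_ge_of_orders_mem {G : Type*} [Group G] [Finite G] (N : Subgroup G) (p q : ℕ)
    (hpq : p ≠ q) (hp1 : p ≠ 1) (hq1 : q ≠ 1) (hp : ∀ g : G, orderOf g = p → g ∈ N)
    (hq : ∀ g : G, orderOf g = q → g ∈ N) :
    Nat.card {g : G // orderOf g = p} + Nat.card {g : G // orderOf g = q} + 1 ≤ Nat.card N := by
  have hsub : ({g : G | orderOf g = p} ∪ {g : G | orderOf g = q}) ∪ {1} ⊆ (N : Set G) := by
    rintro g ((hg | hg) | hg)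
    · exact hp g hg
    · exact hq g hg
    · rw [Set.mem_singleton_iff] at hg
      rw [hg]
      exact N.one_mem
  have hle := Set.ncard_le_ncard hsub (Set.toFinite _)
  have hd1 : Disjoint {g : G | orderOf g = p} {g : G | orderOf g = q} := by
    rw [Set.disjoint_left]
    intro g hg hg'
    exact hpq (hg.symm.trans hg')
  have hd2 : Disjoint ({g : G | orderOf g = p} ∪ {g : G | orderOf g = q}) {1} := by
    rw [Set.disjoint_left]
    rintro g (hg | hg) hg'
    · rw [Set.mem_singleton_iff] at hg'
      subst hg'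
      exact hp1 (hg.symm.trans orderOf_one)
    · rw [Set.mem_singleton_iff] at hg'
      subst hg'
      exact hq1 (hg.symm.trans orderOf_one)
  rw [Set.ncard_union_eq hd2 (Set.toFinite _) (Set.toFinite _),
    Set.ncard_union_eq hd1 (Set.toFinite _) (Set.toFinite _), Set.ncard_singleton] at hle
  have e1 : Nat.card {g : G // orderOf g = p} = {g : G | orderOf g = p}.ncard :=
    Nat.card_coe_set_eq _
  have e2 : Nat.card {g : G // orderOf g = q} = {g : G | orderOf g = q}.ncard :=
    Nat.card_coe_set_eq _
  have e3 : Nat.card N = (N : Set G).ncard := Nat.card_coe_set_eq _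
  rw [e1, e2, e3]
  exact hle

/-- counting the elements of one nontrivial order inside a subgroup -/
theorem card_ge_of_order_mem {G : Type*} [Group G] [Finite G] (N : Subgroup G) (p : ℕ)
    (hp1 : p ≠ 1) (hp : ∀ g : G, orderOf g = p → g ∈ N) :
    Nat.card {g : G // orderOf g = p} + 1 ≤ Nat.card N := by
  have hsub : {g : G | orderOf g = p} ∪ {1} ⊆ (N : Set G) := by
    rintro g (hg | hg)
    · exact hp g hg
    · rw [Set.mem_singleton_iff] at hg
      rw [hg]
      exact N.one_mem
  have hle := Set.ncard_le_ncard hsub (Set.toFinite _)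
  have hd2 : Disjoint {g : G | orderOf g = p} {1} := by
    rw [Set.disjoint_left]
    rintro g hg hg'
    rw [Set.mem_singleton_iff] at hg'
    subst hg'
    exact hp1 (hg.symm.trans orderOf_one)
  rw [Set.ncard_union_eq hd2 (Set.toFinite _) (Set.toFinite _), Set.ncard_singleton] at hle
  have e1 : Nat.card {g : G // orderOf g = p} = {g : G | orderOf g = p}.ncard :=
    Nat.card_coe_set_eq _
  have e3 : Nat.card N = (N : Set G).ncard := Nat.card_coe_set_eq _
  rw [e1, e3]
  exact hle

/-- a normal subgroup of order prime to `5` in a group all of whose element orders are at most `5`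
and which has an element of order `5` has order `≡ 1 mod 5` -/
theorem five_dvd_card_normal_sub_one {G : Type*} [Group G] [Finite G] (hspec : ∀ g : G, orderOf g ≤ 5)
    (y : G) (hy : orderOf y = 5) (N : Subgroup G) [N.Normal] (h5 : ¬ 5 ∣ Nat.card N) :
    5 ∣ Nat.card N - 1 := by
  by_contra hnd
  have : Fact (Nat.Prime 5) := ⟨Nat.prime_five⟩
  have hy5 : y ^ 5 = 1 := by rw [← hy]; exact pow_orderOf_eq_one y
  let X : Set G := (N : Set G) \ {1}
  have hXcard : Nat.card X = Nat.card N - 1 := by
    rw [Nat.card_coe_set_eq, Set.ncard_sdiff (by simp), Set.ncard_singleton,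
      ← Nat.card_coe_set_eq]
    rfl
  have hX : ∀ x ∈ X, y * x * y⁻¹ ∈ X := by
    rintro x ⟨hxN, hx1⟩
    refine ⟨Subgroup.Normal.conj_mem inferInstance x hxN y, ?_⟩
    rw [Set.mem_singleton_iff] at hx1 ⊢
    intro h
    apply hx1
    have : x = y⁻¹ * (y * x * y⁻¹) * y := by group
    rw [this, h]
    group
  obtain ⟨x, ⟨hxN, hx1⟩, hfix⟩ := exists_conj_fixed 5 y hy5 X hX (by rw [hXcard]; exact hnd)
  rw [Set.mem_singleton_iff] at hx1
  have hcomm : Commute y x := by
    have : y * x = x * y := by
      calc y * x = y * x * y⁻¹ * y := by group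
        _ = x * y := by rw [hfix]
    exact this
  have hox : orderOf x ∣ Nat.card N := by
    have := orderOf_dvd_natCard (⟨x, hxN⟩ : N)
    rwa [Subgroup.orderOf_mk] at this
  have hcop : Nat.Coprime (orderOf y) (orderOf x) := by
    rw [hy]
    apply (Nat.Prime.coprime_iff_not_dvd Nat.prime_five).mpr
    intro h
    exact h5 (dvd_trans h hox)
  have hmul := hcomm.orderOf_mul_eq_mul_orderOf_of_coprime hcop
  have hle := hspec (y * x)
  rw [hmul, hy] at hle
  have hpos : 0 < orderOf x := orderOf_pos x
  have h1 : orderOf x = 1 := by omega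
  exact hx1 (orderOf_eq_one_iff.mp h1)

/-- no normal subgroup of order `6` under the same hypotheses -/
theorem no_normal_six {G : Type u} [Group G] [Finite G] (hspec : ∀ g : G, orderOf g ≤ 5)
    (y : G) (hy : orderOf y = 5) (N : Subgroup G) [N.Normal] (h6 : Nat.card N = 6) : False := by
  have : Fact (Nat.Prime 5) := ⟨Nat.prime_five⟩
  have hy5 : y ^ 5 = 1 := by rw [← hy]; exact pow_orderOf_eq_one y
  -- the number of elements of order 3 in `N` is between 1 and 4
  have hsys := nseSys_of_group N
  rw [h6] at hsys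
  have hsum := hsys.sum (Nat.divisors 6) (fun k hk => Nat.mem_divisors.mpr ⟨hsys.dvd k hk, by norm_num⟩)
  simp [Nat.divisors_ofNat] at hsum
  have h2 := hsys.cauchy 2 Nat.prime_two (by norm_num)
  have h3 := hsys.cauchy 3 Nat.prime_three (by norm_num)
  have h1 := hsys.m_one
  beta_reduce at h1 h2 h3
  let X : Set G := {g : G | g ∈ N ∧ orderOf g = 3}
  have hXcard : Nat.card X = Nat.card {x : N // orderOf x = 3} := by
    apply Nat.card_congr
    exact
      { toFun := fun g => ⟨⟨g.1, g.2.1⟩, by rw [Subgroup.orderOf_mk]; exact g.2.2⟩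
        invFun := fun x => ⟨x.1.1, x.1.2, by rw [Subgroup.orderOf_coe]; exact x.2⟩
        left_inv := fun g => rfl
        right_inv := fun x => rfl }
  have hX : ∀ x ∈ X, y * x * y⁻¹ ∈ X := by
    rintro x ⟨hxN, hx3⟩
    refine ⟨Subgroup.Normal.conj_mem inferInstance x hxN y, ?_⟩
    have : y * x * y⁻¹ = MulAut.conj y x := rfl
    rw [this, MulEquiv.orderOf_eq]
    exact hx3
  obtain ⟨x, ⟨hxN, hx3⟩, hfix⟩ := exists_conj_fixed 5 y hy5 X hX (by rw [hXcard]; omega)
  have hcomm : Commute y x := by
    have : y * x = x * y := by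
      calc y * x = y * x * y⁻¹ * y := by group
        _ = x * y := by rw [hfix]
    exact this
  have hcop : Nat.Coprime (orderOf y) (orderOf x) := by
    rw [hy, hx3]; norm_num
  have hmul := hcomm.orderOf_mul_eq_mul_orderOf_of_coprime hcop
  have hle := hspec (y * x)
  rw [hmul, hy, hx3] at hle
  omega

end Cfsg.Agent.Lib.Helper12.Nse
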