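import Mathlib
import Cfsg.Agent.Lib.Helper12.NseG

/-!
Endgames for `nse`-recognition (helper12): a group of order 12 with eight elements of order 3 is `A₄`
(core-free subgroup argument, after helper29's `nonempty_mulEquiv_A4`), and groups of order 60 / 360
with the element counts of `A₅` / `A₆` are simple.
-/

set_option autoImplicit false

namespace Cfsg.Agent.Lib.Helper12.Nse

universe u

/-- the hypotheses on the set of same-order counts, unpacked -/
theorem nse_unpack {G : Type*} [Group G] [Finite G] (S : Set ℕ)
    (h : ((fun m : ℕ => Nat.card {g : G // orderOf g = m}) '' Set.range (orderOf : G → ℕ)) = S) :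
    (∀ k, Nat.card {g : G // orderOf g = k} = 0 ∨ Nat.card {g : G // orderOf g = k} ∈ S) ∧
      (∀ s ∈ S, ∃ k, Nat.card {g : G // orderOf g = k} = s) := by
  constructor
  · intro k
    by_cases h0 : Nat.card {g : G // orderOf g = k} = 0
    · exact Or.inl h0
    · right
      obtain ⟨g, hg⟩ := exists_of_card_subtype_ne_zero h0
      rw [← h]
      exact ⟨k, ⟨g, hg⟩, rfl⟩
  · intro s hs
    rw [← h] at hs
    obtain ⟨k, -, hk⟩ := hs
    exact ⟨k, hk⟩

/-- recognition of `A₄`: order 12 with a core-free subgroup of order 3
(helper29's argument from `S4083`) -/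
theorem nonempty_mulEquiv_alt4_of_core {H : Type*} [Group H] [Finite H] (hcard : Nat.card H = 12)
    (Y : Subgroup H) (hY : Nat.card Y = 3) (hcore : Y.normalCore = ⊥) :
    Nonempty (H ≃* alternatingGroup (Fin 4)) := by
  classical
  have hidx : Y.index = 4 := by
    have := Subgroup.card_mul_index Y
    rw [hY, hcard] at this
    omega
  have hcardQ : Nat.card (H ⧸ Y) = 4 := hidx
  have e : (H ⧸ Y) ≃ Fin 4 := Finite.equivFinOfCardEq hcardQ
  let φ : H →* Equiv.Perm (H ⧸ Y) := MulAction.toPermHom H (H ⧸ Y)
  have hφ : Function.Injective φ := by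
    rw [← MonoidHom.ker_eq_bot_iff, ← Subgroup.normalCore_eq_ker, hcore]
  let ψ : H →* Equiv.Perm (Fin 4) := (e.permCongrHom).toMonoidHom.comp φ
  have hψ : Function.Injective ψ := (e.permCongrHom).injective.comp hφ
  have hrange : Nat.card ψ.range = 12 := by
    rw [← hcard]
    exact (Nat.card_congr (MonoidHom.ofInjective hψ).toEquiv).symm
  have hidx2 : ψ.range.index = 2 := by
    have := Subgroup.card_mul_index ψ.range
    rw [hrange, Nat.card_perm, Nat.card_fin] at this
    have h24 : Nat.factorial 4 = 24 := rfl
    rw [h24] at this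
    omega
  have hA := Equiv.Perm.eq_alternatingGroup_of_index_eq_two hidx2
  exact ⟨(MonoidHom.ofInjective hψ).trans (MulEquiv.subgroupCongr hA)⟩

/-- a group of order 12 with eight elements of order 3 is `A₄` -/
theorem alt4_of_counts {G : Type*} [Group G] [Finite G] (hcard : Nat.card G = 12)
    (h3 : Nat.card {g : G // orderOf g = 3} = 8) : Nonempty (G ≃* alternatingGroup (Fin 4)) := by
  obtain ⟨g, hg⟩ := exists_of_card_subtype_ne_zero (P := fun g : G => orderOf g = 3) (by omega)
  let Y : Subgroup G := Subgroup.zpowers g
  have hY : Nat.card Y = 3 := by rw [Nat.card_zpowers, hg]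
  refine nonempty_mulEquiv_alt4_of_core hcard Y hY ?_
  have hle : Y.normalCore ≤ Y := Subgroup.normalCore_le Y
  have hdvd : Nat.card Y.normalCore ∣ 3 := by
    rw [← hY]
    exact Subgroup.card_dvd_of_le hle
  rcases (Nat.dvd_prime Nat.prime_three).mp hdvd with h1 | h1
  · exact Subgroup.eq_bot_of_card_eq _ h1
  · exfalso
    have heq : Y.normalCore = Y := Subgroup.eq_of_le_of_card_ge hle (by rw [h1, hY])
    have hn : Y.Normal := by
      rw [← heq]
      infer_instance
    have hidx : Y.index = 4 := by
      have := Subgroup.card_mul_index Y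
      rw [hY, hcard] at this
      omega
    have hall : ∀ x : G, orderOf x = 3 → x ∈ Y := by
      intro x hx
      apply mem_of_coprime_index
      rw [hx, hidx]
      norm_num
    have := card_ge_of_order_mem Y 3 (by norm_num) hall
    omega

/-- a group of order 60 with the element counts of `A₅` is simple -/
theorem isSimpleGroup_of_counts_60 {G : Type u} [Group G] [Finite G] (hcard : Nat.card G = 60)
    (hspec : ∀ k, Nat.card {g : G // orderOf g = k} ≠ 0 → k = 1 ∨ k = 2 ∨ k = 3 ∨ k = 5)
    (h3 : Nat.card {g : G // orderOf g = 3} = 20) (h5 : Nat.card {g : G // orderOf g = 5} = 24) :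
    IsSimpleGroup G := by
  have hspec' : ∀ g : G, orderOf g ≤ 5 := by
    intro g
    have := hspec (orderOf g) (card_subtype_ne_zero_of_exists ⟨g, rfl⟩)
    omega
  obtain ⟨y, hy⟩ := exists_of_card_subtype_ne_zero (P := fun g : G => orderOf g = 5) (by omega)
  have claimA : ∀ N : Subgroup G, N.Normal → 5 ∣ Nat.card N → N = ⊤ := by
    intro N hN h5N
    by_contra hne
    have hmul := N.card_mul_index
    rw [hcard] at hmul
    have hn5 : ¬ 5 ∣ N.index := by
      intro h5i
      have := Nat.mul_dvd_mul h5N h5i
      rw [hmul] at this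
      omega
    have hall5 : ∀ x : G, orderOf x = 5 → x ∈ N := by
      intro x hx
      apply mem_of_coprime_index
      rw [hx]
      exact (Nat.Prime.coprime_iff_not_dvd Nat.prime_five).mpr hn5
    have hge := card_ge_of_order_mem N 5 (by norm_num) hall5
    rw [h5] at hge
    have hidx1 : N.index ≠ 1 := fun h => hne (Subgroup.index_eq_one.mp h)
    have hidx0 : N.index ≠ 0 := by
      intro h
      rw [h, mul_zero] at hmul
      omega
    have hidx2 : N.index = 2 := by
      by_contra hne2
      have h3i : 3 ≤ N.index := by omega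
      have := Nat.mul_le_mul hge h3i
      rw [hmul] at this
      omega
    have hall3 : ∀ x : G, orderOf x = 3 → x ∈ N := by
      intro x hx
      apply mem_of_coprime_index
      rw [hx, hidx2]
      norm_num
    have hge2 := card_ge_of_orders_mem N 3 5 (by norm_num) (by norm_num) (by norm_num) hall3 hall5
    rw [h3, h5] at hge2
    rw [hidx2] at hmul
    omega
  have claimB : ∀ N : Subgroup G, N.Normal → N ≠ ⊥ → 5 ∣ Nat.card N := by
    intro N hN hne
    by_contra h5
    have hsub := five_dvd_card_normal_sub_one hspec' y hy N h5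
    have hdvd : Nat.card N ∣ 12 := by
      have h1 : Nat.card N ∣ 12 * 5 := by
        have := Subgroup.card_subgroup_dvd_card N
        rwa [hcard] at this
      exact Nat.Coprime.dvd_of_dvd_mul_right
        ((Nat.coprime_comm).mp ((Nat.Prime.coprime_iff_not_dvd Nat.prime_five).mpr h5)) h1
    have hmem : Nat.card N ∈ Nat.divisors 12 := Nat.mem_divisors.mpr ⟨hdvd, by norm_num⟩
    rw [show Nat.divisors 12 = {1, 2, 3, 4, 6, 12} from by decide +kernel] at hmem
    simp only [Finset.mem_insert, Finset.mem_singleton] at hmem
    have hn1 : Nat.card N ≠ 1 := fun h => hne (Subgroup.eq_bot_of_card_eq _ h)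
    have h6 : Nat.card N = 6 := by omega
    exact no_normal_six hspec' y hy N h6
  have hnt : Nontrivial G := by
    rw [← Finite.one_lt_card_iff_nontrivial, hcard]
    norm_num
  refine { toNontrivial := hnt, eq_bot_or_eq_top_of_normal := ?_ }
  intro N hN
  by_cases hb : N = ⊥
  · exact Or.inl hb
  · exact Or.inr (claimA N hN (claimB N hN hb))

/-- a group of order 360 with the element counts of `A₆` is simple -/
theorem isSimpleGroup_of_counts_360 {G : Type u} [Group G] [Finite G] (hcard : Nat.card G = 360)
    (hspec : ∀ k, Nat.card {g : G // orderOf g = k} ≠ 0 → k = 1 ∨ k = 2 ∨ k = 3 ∨ k = 4 ∨ k = 5)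
    (h3 : Nat.card {g : G // orderOf g = 3} = 80) (h5 : Nat.card {g : G // orderOf g = 5} = 144) :
    IsSimpleGroup G := by
  have hspec' : ∀ g : G, orderOf g ≤ 5 := by
    intro g
    have := hspec (orderOf g) (card_subtype_ne_zero_of_exists ⟨g, rfl⟩)
    omega
  obtain ⟨y, hy⟩ := exists_of_card_subtype_ne_zero (P := fun g : G => orderOf g = 5) (by omega)
  have claimA : ∀ N : Subgroup G, N.Normal → 5 ∣ Nat.card N → N = ⊤ := by
    intro N hN h5N
    by_contra hne
    have hmul := N.card_mul_index
    rw [hcard] at hmul
    have hn5 : ¬ 5 ∣ N.index := by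
      intro h5i
      have := Nat.mul_dvd_mul h5N h5i
      rw [hmul] at this
      omega
    have hall5 : ∀ x : G, orderOf x = 5 → x ∈ N := by
      intro x hx
      apply mem_of_coprime_index
      rw [hx]
      exact (Nat.Prime.coprime_iff_not_dvd Nat.prime_five).mpr hn5
    have hge := card_ge_of_order_mem N 5 (by norm_num) hall5
    rw [h5] at hge
    have hidx1 : N.index ≠ 1 := fun h => hne (Subgroup.index_eq_one.mp h)
    have hidx0 : N.index ≠ 0 := by
      intro h
      rw [h, mul_zero] at hmul
      omega
    have hidx2 : N.index = 2 := by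
      by_contra hne2
      have h3i : 3 ≤ N.index := by omega
      have := Nat.mul_le_mul hge h3i
      rw [hmul] at this
      omega
    have hall3 : ∀ x : G, orderOf x = 3 → x ∈ N := by
      intro x hx
      apply mem_of_coprime_index
      rw [hx, hidx2]
      norm_num
    have hge2 := card_ge_of_orders_mem N 3 5 (by norm_num) (by norm_num) (by norm_num) hall3 hall5
    rw [h3, h5] at hge2
    rw [hidx2] at hmul
    omega
  have claimB : ∀ N : Subgroup G, N.Normal → N ≠ ⊥ → 5 ∣ Nat.card N := by
    intro N hN hne
    by_contra h5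
    have hsub := five_dvd_card_normal_sub_one hspec' y hy N h5
    have hdvd : Nat.card N ∣ 72 := by
      have h1 : Nat.card N ∣ 72 * 5 := by
        have := Subgroup.card_subgroup_dvd_card N
        rwa [hcard] at this
      exact Nat.Coprime.dvd_of_dvd_mul_right
        ((Nat.coprime_comm).mp ((Nat.Prime.coprime_iff_not_dvd Nat.prime_five).mpr h5)) h1
    have hmem : Nat.card N ∈ Nat.divisors 72 := Nat.mem_divisors.mpr ⟨hdvd, by norm_num⟩
    rw [show Nat.divisors 72 = {1, 2, 3, 4, 6, 8, 9, 12, 18, 24, 36, 72} from by decide +kernel]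
      at hmem
    simp only [Finset.mem_insert, Finset.mem_singleton] at hmem
    have hn1 : Nat.card N ≠ 1 := fun h => hne (Subgroup.eq_bot_of_card_eq _ h)
    have h6 : Nat.card N = 6 ∨ Nat.card N = 36 := by omega
    rcases h6 with h6 | h36
    · exact no_normal_six hspec' y hy N h6
    · -- the quotient of order 10 has a subgroup of index 2
      have hmul := N.card_mul_index
      rw [hcard, h36] at hmul
      have hidx : N.index = 10 := by omega
      have hQ : Nat.card (G ⧸ N) = 10 := by rw [← Subgroup.index_eq_card, hidx]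
      have : Fact (Nat.Prime 5) := ⟨Nat.prime_five⟩
      obtain ⟨K, hK⟩ := Sylow.exists_subgroup_card_pow_prime 5 (G := G ⧸ N) (n := 1)
        (by rw [hQ]; norm_num)
      have hKidx : K.index = 2 := by
        have := K.card_mul_index
        rw [hK, hQ] at this
        omega
      have hKn : K.Normal := Subgroup.normal_of_index_eq_two hKidx
      let M : Subgroup G := K.comap (QuotientGroup.mk' N)
      have hMn : M.Normal := Subgroup.Normal.comap hKn _
      have hMidx : M.index = 2 := by
        rw [Subgroup.index_comap_of_surjective _ (QuotientGroup.mk'_surjective N)]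
        exact hKidx
      have hMmul := M.card_mul_index
      rw [hcard, hMidx] at hMmul
      have hM5 : 5 ∣ Nat.card M := by omega
      have hMtop := claimA M hMn hM5
      rw [hMtop, Subgroup.index_top] at hMidx
      omega
  have hnt : Nontrivial G := by
    rw [← Finite.one_lt_card_iff_nontrivial, hcard]
    norm_num
  refine { toNontrivial := hnt, eq_bot_or_eq_top_of_normal := ?_ }
  intro N hN
  by_cases hb : N = ⊥
  · exact Or.inl hb
  · exact Or.inr (claimA N hN (claimB N hN hb))

end Cfsg.Agent.Lib.Helper12.Nse
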