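import Mathlib
import Cfsg.Prelude.Def_GeometricClasses
import Cfsg.Agent.Lib.Helper20.AschDefs
import Cfsg.Agent.Lib.Helper29.SpAschDefs
import Cfsg.Agent.Lib.Helper29.SpAschTools
import Cfsg.Agent.Lib.Helper18.OAschDefs
import Cfsg.Agent.Lib.Helper18.OAschG
import Cfsg.Agent.Lib.Helper18.ReidxDefs
import Cfsg.Agent.Lib.Helper18.AschA89Defs
import Cfsg.Agent.Lib.Helper27.AschTW2
import Cfsg.Agent.Lib.Helper20.FCMain
import Cfsg.Agent.Lib.Helper29.SpAschQU

/-!
S5673 (Aschbacher for `Ω_{2m+1}(q)`, planner helper18), packet O-OB: `two_ne_zero_of_odd`, `bfm_symm`, `gramMatrix_bfm`,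
`isSymmetricForm_bfm`, `polar_qf`, `isometryGroup_qf`, `og_of_octx`, `adjM_adjM`, `isNondegenerateQuadraticForm_qf`, `bfm_reindex`,
NIL1 `sq_eq_one_of_scalar_isoG'`, UNI2 `unitary_conj'` (exact signatures of `notes/S5673_leaves.lean`).  Taker: helper12.
By-products: `eq_bfm_gramMatrix` (a bilinear form is `bfm` of its Gram matrix), `det_gramMatrix_ne_zero`, `qf_smul`,
`bfm_comp_equiv`.
-/

set_option autoImplicit false
set_option linter.unusedSectionVars false
set_option linter.unusedVariables false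

namespace Cfsg.Agent.Lib.Helper12.OAschLeaf
open Matrix Cfsg Cfsg.Geo Cfsg.Agent.Lib.Helper20.Asch Cfsg.Agent.Lib.Helper29.SpAsch Cfsg.Agent.Lib.Helper18.OAsch
  Cfsg.Agent.Lib.Helper18.Reidx Cfsg.Agent.Lib.Helper18.AschA89 Cfsg.Agent.Lib.Helper27.AschLeaf
open scoped Kronecker

variable {F : Type*} [Field F] [Fintype F] {n : ℕ} {G : Matrix (Fin n) (Fin n) F} {H N : Subgroup (GL (Fin n) F)}

section basics
variable {κ : Type} [Fintype κ] [DecidableEq κ]

/-- OB1 -/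
theorem two_ne_zero_of_odd (h : Odd (Fintype.card F)) : (2 : F) ≠ 0 := by
  intro h2
  have hdvd : ringChar F ∣ 2 := by
    have : ((2 : ℕ) : F) = 0 := by exact_mod_cast h2
    exact ringChar.dvd this
  have hchar : ringChar F = 2 := by
    rcases (Nat.dvd_prime Nat.prime_two).1 hdvd with h' | h'
    · exact absurd h' (CharP.ringChar_ne_one)
    · exact h'
  have := FiniteField.even_card_iff_char_two.1 hchar
  rcases h with ⟨k, hk⟩
  omega

/-- OB2 -/
theorem bfm_symm {G : Matrix κ κ F} (hs : Gᵀ = G) (u v : κ → F) : bfm G u v = bfm G v u :=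
  Cfsg.Agent.Lib.Helper27.AschO4.bf_symm G hs u v

/-- OB3 -/
theorem gramMatrix_bfm (G : Matrix κ κ F) : gramMatrix (bfm G) = G := by
  ext a b
  exact bfm_entry a b

/-- OB4 -/
theorem isSymmetricForm_bfm {G : Matrix κ κ F} (hs : Gᵀ = G) (hd : G.det ≠ 0) : IsSymmetricForm (bfm G) :=
  ⟨bfm_bilinear G, bfm_symm hs, Cfsg.Agent.Lib.Helper27.AschO4.bf_nondeg G hd⟩

/-- OB5 -/
theorem polar_qf {G : Matrix κ κ F} (h2 : (2 : F) ≠ 0) (hs : Gᵀ = G) : QuadraticMap.polar (qf G) = bfm G := by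
  funext u v
  unfold QuadraticMap.polar qf
  rw [Cfsg.Agent.Lib.Helper29.SpAsch.bfm_add_left, Cfsg.Agent.Lib.Helper29.SpAsch.bfm_add_right,
    Cfsg.Agent.Lib.Helper29.SpAsch.bfm_add_right, bfm_symm hs v u]
  field_simp
  ring

/-- OB7 -/
theorem isometryGroup_qf {G : Matrix κ κ F} (h2 : (2 : F) ≠ 0) (hs : Gᵀ = G) : isometryGroup F (qf G) = isoG G := by
  ext g
  constructor
  · intro hg u v
    have hq : ∀ w : κ → F, qf G ((g : Matrix κ κ F) *ᵥ w) = qf G w := fun w => hg w w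
    show bfm G ((g : Matrix κ κ F) *ᵥ u) ((g : Matrix κ κ F) *ᵥ v) = bfm G u v
    rw [← polar_qf h2 hs]
    unfold QuadraticMap.polar
    rw [← Matrix.mulVec_add, hq, hq, hq]
  · intro hg u v
    show qf G ((g : Matrix κ κ F) *ᵥ u) = qf G u
    unfold qf
    rw [show bfm G ((g : Matrix κ κ F) *ᵥ u) ((g : Matrix κ κ F) *ᵥ u) = bfm G u u from hg u u]

/-- a bilinear form is `bfm` of its Gram matrix -/
lemma eq_bfm_gramMatrix {f : (κ → F) → (κ → F) → F} (hf : IsBilinearForm f) (u v : κ → F) :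
    f u v = bfm (gramMatrix f) u v := by
  classical
  have h0l : ∀ w, f 0 w = 0 := by
    intro w
    have := hf.smul_left 0 0 w
    rwa [zero_smul, zero_mul] at this
  have h0r : ∀ w, f w 0 = 0 := by
    intro w
    have := hf.smul_right 0 w 0
    rwa [zero_smul, zero_mul] at this
  have hsl : ∀ (s : Finset κ) (g : κ → κ → F) (w : κ → F), f (∑ i ∈ s, g i) w = ∑ i ∈ s, f (g i) w := by
    intro s g w
    induction s using Finset.induction_on with
    | empty => simp [h0l]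
    | insert a s ha ih => rw [Finset.sum_insert ha, Finset.sum_insert ha, hf.add_left, ih]
  have hsr : ∀ (s : Finset κ) (g : κ → κ → F) (w : κ → F), f w (∑ i ∈ s, g i) = ∑ i ∈ s, f w (g i) := by
    intro s g w
    induction s using Finset.induction_on with
    | empty => simp [h0r]
    | insert a s ha ih => rw [Finset.sum_insert ha, Finset.sum_insert ha, hf.add_right, ih]
  have hx : ∀ x : κ → F, x = ∑ a, x a • (Pi.single a (1 : F) : κ → F) := by
    intro x
    ext j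
    simp [Finset.sum_apply, Pi.single_apply]
  conv_lhs => rw [hx u, hx v]
  rw [hsl]
  unfold bfm dotProduct
  apply Finset.sum_congr rfl
  intro a _
  rw [hsr, Matrix.mulVec, dotProduct, Finset.mul_sum]
  apply Finset.sum_congr rfl
  intro b _
  rw [hf.smul_left, hf.smul_right]
  unfold gramMatrix
  ring

/-- the Gram matrix of a non-degenerate bilinear form is invertible -/
lemma det_gramMatrix_ne_zero {f : (κ → F) → (κ → F) → F} (hf : IsBilinearForm f) (hnd : IsNondegenerateForm f) :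
    (gramMatrix f).det ≠ 0 := by
  intro hdet
  obtain ⟨v, hv, hGv⟩ := Matrix.exists_mulVec_eq_zero_iff.2 hdet
  obtain ⟨⟨x, hx⟩, -⟩ := hnd v hv
  apply hx
  rw [eq_bfm_gramMatrix hf]
  unfold bfm
  rw [hGv, dotProduct_zero]

/-- OB8 -/
theorem og_of_octx {Q : (Fin n → F) → F} (hc : OCtx Q) : ∃ G : Matrix (Fin n) (Fin n) F, OG G ∧ Q = qf G := by
  have h2 := two_ne_zero_of_odd hc.oddq
  refine ⟨gramMatrix (QuadraticMap.polar Q), ⟨?_, ?_, hc.oddq, hc.oddn, hc.three, hc.disc⟩, ?_⟩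
  · ext a b
    rw [Matrix.transpose_apply]
    unfold gramMatrix
    exact QuadraticMap.polar_comm Q _ _
  · exact det_gramMatrix_ne_zero hc.nd.polar_bilinear hc.nd.nondegenerate
  · funext v
    unfold qf
    rw [← eq_bfm_gramMatrix hc.nd.polar_bilinear]
    unfold QuadraticMap.polar
    have h4 : Q (v + v) = 2 ^ 2 * Q v := by
      rw [← two_smul F v]
      exact hc.nd.smul 2 v
    rw [h4]
    field_simp
    ring

/-- OB10 -/
theorem adjM_adjM {G : Matrix κ κ F} (hs : Gᵀ = G) (hd : G.det ≠ 0) (T : Matrix κ κ F) : adjM G (adjM G T) = T := by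
  unfold adjM
  have hi : (G⁻¹)ᵀ = G⁻¹ := by rw [Matrix.transpose_nonsing_inv, hs]
  rw [Matrix.transpose_mul, Matrix.transpose_mul, Matrix.transpose_transpose, hs, hi]
  calc G⁻¹ * (G * (T * G⁻¹)) * G = (G⁻¹ * G) * T * (G⁻¹ * G) := by simp only [mul_assoc]
    _ = T := by rw [J_inv_mul hd, one_mul, mul_one]

lemma qf_smul (G : Matrix κ κ F) (c : F) (v : κ → F) : qf G (c • v) = c ^ 2 * qf G v := by
  unfold qf
  rw [Cfsg.Agent.Lib.Helper29.SpAsch.bfm_smul_left, Cfsg.Agent.Lib.Helper29.SpAsch.bfm_smul_right]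
  ring

/-- OB16 -/
theorem isNondegenerateQuadraticForm_qf {G : Matrix κ κ F} (h2 : (2 : F) ≠ 0) (hs : Gᵀ = G) (hd : G.det ≠ 0) :
    IsNondegenerateQuadraticForm (qf G) := by
  refine ⟨qf_smul G, ?_, ?_⟩
  · rw [polar_qf h2 hs]
    exact bfm_bilinear G
  · rw [polar_qf h2 hs]
    exact Cfsg.Agent.Lib.Helper27.AschO4.bf_nondeg G hd

lemma bfm_comp_equiv {κ' : Type} [Fintype κ'] [DecidableEq κ'] (M : Matrix κ κ F) (e : κ ≃ κ') (x y : κ' → F) :
    bfm M (x ∘ e) (y ∘ e) = bfm (Matrix.reindex e e M) x y := by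
  unfold bfm dotProduct Matrix.mulVec dotProduct
  rw [← Equiv.sum_comp e]
  apply Finset.sum_congr rfl
  intro a _
  congr 1
  rw [← Equiv.sum_comp e]
  apply Finset.sum_congr rfl
  intro b _
  simp [Matrix.reindex_apply, Matrix.submatrix_apply]

/-- OB15 -/
theorem bfm_reindex {κ' : Type} [Fintype κ'] [DecidableEq κ'] (G P : Matrix κ κ F) (e : κ ≃ κ') (x y : κ' → F) :
    bfm G (P *ᵥ (x ∘ e)) (P *ᵥ (y ∘ e)) = bfm (Matrix.reindex e e (Pᵀ * G * P)) x y := by
  rw [bfm_mulVec, bfm_comp_equiv]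

end basics

/-- a scalar `c • 1` of `isoG G` has `c * c = 1` (`n > 0`, `det G ≠ 0`) -/
lemma scalar_sq' (hd : G.det ≠ 0) (hpos : 0 < n) {x : GL (Fin n) F} (hx : x ∈ isoG G) (c : F)
    (hc : (x : Matrix (Fin n) (Fin n) F) = c • (1 : Matrix (Fin n) (Fin n) F)) : c * c = 1 := by
  have : Nonempty (Fin n) := ⟨⟨0, hpos⟩⟩
  rw [mem_isoG_iff, hc] at hx
  have h1 : (c * c) • G = G := by
    rw [Matrix.transpose_smul, Matrix.transpose_one, Matrix.smul_mul, Matrix.one_mul, Matrix.mul_smul,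
      Matrix.mul_one, smul_smul] at hx
    exact hx
  have hG0 : G ≠ 0 := by
    intro h
    rw [h, Matrix.det_zero] at hd
    exact hd rfl
  by_contra hne
  apply hG0
  have h2 : (c * c - 1) • G = 0 := by rw [sub_smul, h1, one_smul, sub_self]
  rcases smul_eq_zero.1 h2 with h | h
  · exact absurd (sub_eq_zero.1 h) hne
  · exact h

/-- NIL1 -/
theorem sq_eq_one_of_scalar_isoG' (hd : G.det ≠ 0) {x : GL (Fin n) F} (hx : x ∈ isoG G)
    (hs : x ∈ scalars (Fin n) F) : x * x = 1 := by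
  rcases Nat.eq_zero_or_pos n with h0 | hpos
  · subst h0
    exact Units.ext (Matrix.ext fun i => i.elim0)
  obtain ⟨c, hc⟩ := (mem_scalars_iff _).1 hs
  have hcc := scalar_sq' hd hpos hx (c : F) hc
  apply Units.ext
  rw [Units.val_mul, hc, Units.val_one, Matrix.smul_mul, Matrix.one_mul, smul_smul, hcc, one_smul]

/-- UNI2 -/
theorem unitary_conj' (hd : G.det ≠ 0) (hNI : N ≤ isoG G) (σ : F ≃+* F) (U : Matrix (Fin n) (Fin n) F)
    (hU : U.det ≠ 0) (g : (Fin n → F) → (Fin n → F) → F)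
    (hrep : ∀ u v : Fin n → F, g u v = u ⬝ᵥ (U *ᵥ (fun i => σ (v i))))
    (hfix : FixesForm (matrixSet N) g) :
    ∃ C : GL (Fin n) F, ∀ x ∈ N, (x : Matrix (Fin n) (Fin n) F).map σ =
      ((C⁻¹ : GL (Fin n) F) : Matrix (Fin n) (Fin n) F) * (x : Matrix (Fin n) (Fin n) F) * (C : Matrix (Fin n) (Fin n) F) := by
  classical
  have hUi : U⁻¹ * U = 1 := Matrix.nonsing_inv_mul U (Ne.isUnit hU)
  have hUi' : U * U⁻¹ = 1 := Matrix.mul_nonsing_inv U (Ne.isUnit hU)
  let C : GL (Fin n) F := ⟨G⁻¹ * U, U⁻¹ * G, by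
      calc G⁻¹ * U * (U⁻¹ * G) = G⁻¹ * (U * U⁻¹) * G := by simp only [mul_assoc]
        _ = 1 := by rw [hUi', mul_one, J_inv_mul hd], by
      calc U⁻¹ * G * (G⁻¹ * U) = U⁻¹ * (G * G⁻¹) * U := by simp only [mul_assoc]
        _ = 1 := by rw [J_mul_inv hd, mul_one, hUi]⟩
  refine ⟨C, fun x hx => ?_⟩
  have hCv : (C : Matrix (Fin n) (Fin n) F) = G⁻¹ * U := rfl
  have hCi : ((C⁻¹ : GL (Fin n) F) : Matrix (Fin n) (Fin n) F) = U⁻¹ * G := rfl
  have hGx : (x : Matrix (Fin n) (Fin n) F)ᵀ * G * (x : Matrix (Fin n) (Fin n) F) = G :=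
    (mem_isoG_iff x).1 (hNI hx)
  have hUx : (x : Matrix (Fin n) (Fin n) F)ᵀ * U * (x : Matrix (Fin n) (Fin n) F).map σ = U := by
    apply Cfsg.Agent.Lib.Helper7.AschLeaf.eq_of_forall_dot (σ : F →+* F)
    intro u v
    have h1 := hfix _ ⟨x, hx, rfl⟩ u v
    rw [hrep, hrep] at h1
    have h2 := Cfsg.Agent.Lib.Helper7.AschLeaf.dot_conj (σ : F →+* F) U
      (x : Matrix (Fin n) (Fin n) F) u v
    exact h2.symm.trans h1
  have h1 := Cfsg.Agent.Lib.Helper29.SpAschLeaf.conj_mul_transpose hd _ hGx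
  have h2 : U * (x : Matrix (Fin n) (Fin n) F).map σ =
      G * (x : Matrix (Fin n) (Fin n) F) * G⁻¹ * U := by
    calc U * (x : Matrix (Fin n) (Fin n) F).map σ
        = (G * (x : Matrix (Fin n) (Fin n) F) * G⁻¹ * (x : Matrix (Fin n) (Fin n) F)ᵀ) *
            (U * (x : Matrix (Fin n) (Fin n) F).map σ) := by rw [h1, one_mul]
      _ = G * (x : Matrix (Fin n) (Fin n) F) * G⁻¹ *
            ((x : Matrix (Fin n) (Fin n) F)ᵀ * U * (x : Matrix (Fin n) (Fin n) F).map σ) := by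
          simp only [mul_assoc]
      _ = _ := by rw [hUx]
  rw [hCv, hCi]
  calc (x : Matrix (Fin n) (Fin n) F).map σ
      = (U⁻¹ * U) * (x : Matrix (Fin n) (Fin n) F).map σ := by rw [hUi, one_mul]
    _ = U⁻¹ * (U * (x : Matrix (Fin n) (Fin n) F).map σ) := by rw [mul_assoc]
    _ = U⁻¹ * G * (x : Matrix (Fin n) (Fin n) F) * (G⁻¹ * U) := by rw [h2]; simp only [mul_assoc]

end Cfsg.Agent.Lib.Helper12.OAschLeaf
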