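import Mathlib
import Cfsg.Prelude.Def_GeometricClasses
import Cfsg.Agent.Lib.Helper20.AschDefs
import Cfsg.Agent.Lib.Helper29.SpAschDefs
import Cfsg.Agent.Lib.Helper29.SpAschTools
import Cfsg.Agent.Lib.Helper18.OAschDefs
import Cfsg.Agent.Lib.Helper18.OAschG
import Cfsg.Agent.Lib.Helper18.ReidxDefs
import Cfsg.Agent.Lib.Helper18.AschA89Defs
import Cfsg.Agent.Lib.Helper27.AschTW2
import Cfsg.Agent.Lib.Helper20.FCMain
import Cfsg.Agent.Lib.Helper20.AschA89F2J
import Cfsg.Agent.Lib.Helper12.OAschOB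

/-!
S5673 (Aschbacher for `Ω_{2m+1}(q)`, planner helper18), packet O-WC: `wreath_change_basis`, `gram_of_tensorPower`,
`gram_of_symmetricForm` (exact signatures of `notes/S5673_leaves.lean`).  Taker: helper12.
By-products: `ptensU bs` (the pure tensor of units as a unit), `ptensU_mem`, `map_conj_mul_of_mem`,
`tensorWreathSubgroup_mul_ptensU`, `reindex_congr_mul`.
-/

set_option autoImplicit false
set_option linter.unusedSectionVars false
set_option linter.unusedVariables false

namespace Cfsg.Agent.Lib.Helper12.OAschLeaf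
open Matrix Cfsg Cfsg.Geo Cfsg.Agent.Lib.Helper20.Asch Cfsg.Agent.Lib.Helper29.SpAsch Cfsg.Agent.Lib.Helper18.OAsch
  Cfsg.Agent.Lib.Helper18.Reidx Cfsg.Agent.Lib.Helper18.AschA89 Cfsg.Agent.Lib.Helper27.AschLeaf
open scoped Kronecker

variable {F : Type*} [Field F] [Fintype F] {n : ℕ} {G : Matrix (Fin n) (Fin n) F} {H N : Subgroup (GL (Fin n) F)}

/-- the pure tensor of units, as a unit -/
def ptensU {k t : ℕ} (bs : Fin t → GL (Fin k) F) : GL (Fin t → Fin k) F :=
  ⟨ptens k t fun i => ((bs i : GL (Fin k) F) : Matrix (Fin k) (Fin k) F),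
    ptens k t fun i => (((bs i)⁻¹ : GL (Fin k) F) : Matrix (Fin k) (Fin k) F), by
      rw [Cfsg.Agent.Lib.Helper20.AschLeaf.ptens_mul]
      have : (fun i => ((bs i : GL (Fin k) F) : Matrix (Fin k) (Fin k) F) *
          (((bs i)⁻¹ : GL (Fin k) F) : Matrix (Fin k) (Fin k) F)) = fun _ => 1 := by
        funext i
        rw [← Units.val_mul, mul_inv_cancel, Units.val_one]
      rw [this, Cfsg.Agent.Lib.Helper20.AschLeaf.ptens_one], by
      rw [Cfsg.Agent.Lib.Helper20.AschLeaf.ptens_mul]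
      have : (fun i => (((bs i)⁻¹ : GL (Fin k) F) : Matrix (Fin k) (Fin k) F) *
          ((bs i : GL (Fin k) F) : Matrix (Fin k) (Fin k) F)) = fun _ => 1 := by
        funext i
        rw [← Units.val_mul, inv_mul_cancel, Units.val_one]
      rw [this, Cfsg.Agent.Lib.Helper20.AschLeaf.ptens_one]⟩

lemma ptensU_val {k t : ℕ} (bs : Fin t → GL (Fin k) F) :
    ((ptensU bs : GL (Fin t → Fin k) F) : Matrix (Fin t → Fin k) (Fin t → Fin k) F) =
      ptens k t fun i => ((bs i : GL (Fin k) F) : Matrix (Fin k) (Fin k) F) := rfl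

lemma ptensU_mem {k t : ℕ} (bs : Fin t → GL (Fin k) F) : ptensU bs ∈ tensorWreathStandard k t F :=
  Subgroup.subset_closure (Or.inl ⟨bs, fun x y => rfl⟩)

/-- conjugating a subgroup by `P * R` with `R` in the subgroup is conjugating by `P` -/
lemma map_conj_mul_of_mem {Γ : Type*} [Group Γ] (S : Subgroup Γ) (P R : Γ) (hR : R ∈ S) :
    S.map (MulAut.conj (P * R)).toMonoidHom = S.map (MulAut.conj P).toMonoidHom := by
  ext g
  simp only [Subgroup.mem_map, MulEquiv.coe_toMonoidHom, MulAut.conj_apply]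
  constructor
  · rintro ⟨s, hs, rfl⟩
    exact ⟨R * s * R⁻¹, S.mul_mem (S.mul_mem hR hs) (S.inv_mem hR), by group⟩
  · rintro ⟨s, hs, rfl⟩
    exact ⟨R⁻¹ * s * R, S.mul_mem (S.mul_mem (S.inv_mem hR) hs) hR, by group⟩

/-- the wreath subgroup does not change under a change of basis inside the tensor factors -/
lemma tensorWreathSubgroup_mul_ptensU {k t : ℕ} (e : Fin n ≃ (Fin t → Fin k)) (P : GL (Fin n) F)
    (bs : Fin t → GL (Fin k) F) :
    tensorWreathSubgroup k t e (P * glReindex e.symm (ptensU bs)) = tensorWreathSubgroup k t e P := by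
  unfold tensorWreathSubgroup
  apply map_conj_mul_of_mem
  exact Subgroup.mem_map_of_mem _ (ptensU_mem bs)

/-- Gram matrices under `P ↦ P * reindex e.symm B` -/
lemma reindex_congr_mul {κ : Type} [Fintype κ] [DecidableEq κ] (e : Fin n ≃ κ) (P M : Matrix (Fin n) (Fin n) F)
    (B : Matrix κ κ F) :
    Matrix.reindex e e ((P * Matrix.reindex e.symm e.symm B)ᵀ * M * (P * Matrix.reindex e.symm e.symm B)) =
      Bᵀ * Matrix.reindex e e (Pᵀ * M * P) * B := by
  have h1 : ∀ X Y : Matrix (Fin n) (Fin n) F,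
      Matrix.reindex e e (X * Y) = Matrix.reindex e e X * Matrix.reindex e e Y := by
    intro X Y
    rw [Matrix.reindex_apply, Matrix.reindex_apply, Matrix.reindex_apply, Matrix.submatrix_mul_equiv]
  have h2 : Matrix.reindex e e (Matrix.reindex e.symm e.symm B) = B := by
    ext a b
    simp [Matrix.reindex_apply]
  have h3 : Matrix.reindex e e (Matrix.reindex e.symm e.symm B)ᵀ = Bᵀ := by
    ext a b
    simp [Matrix.reindex_apply]
  rw [Matrix.transpose_mul]
  have e1 : (Matrix.reindex e.symm e.symm B)ᵀ * Pᵀ * M * (P * Matrix.reindex e.symm e.symm B) =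
      (Matrix.reindex e.symm e.symm B)ᵀ * (Pᵀ * M * P) * Matrix.reindex e.symm e.symm B := by
    simp only [mul_assoc]
  rw [e1, h1, h1, h2, h3]

/-- WC -/
theorem wreath_change_basis {k t : ℕ} (e : Fin n ≃ (Fin t → Fin k)) (P : GL (Fin n) F) (bs : Fin t → GL (Fin k) F) :
    ∃ P' : GL (Fin n) F, tensorWreathSubgroup k t e P' = tensorWreathSubgroup k t e P ∧
      ∀ M : Matrix (Fin n) (Fin n) F,
        Matrix.reindex e e ((P' : Matrix (Fin n) (Fin n) F)ᵀ * M * (P' : Matrix (Fin n) (Fin n) F)) =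
          (ptens k t fun i => ((bs i : GL (Fin k) F) : Matrix (Fin k) (Fin k) F))ᵀ *
            Matrix.reindex e e ((P : Matrix (Fin n) (Fin n) F)ᵀ * M * (P : Matrix (Fin n) (Fin n) F)) *
            ptens k t fun i => ((bs i : GL (Fin k) F) : Matrix (Fin k) (Fin k) F) := by
  refine ⟨P * glReindex e.symm (ptensU bs), tensorWreathSubgroup_mul_ptensU e P bs, fun M => ?_⟩
  have hv : ((P * glReindex e.symm (ptensU bs) : GL (Fin n) F) : Matrix (Fin n) (Fin n) F) =
      (P : Matrix (Fin n) (Fin n) F) * Matrix.reindex e.symm e.symm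
        (ptens k t fun i => ((bs i : GL (Fin k) F) : Matrix (Fin k) (Fin k) F)) := rfl
  rw [hv]
  exact reindex_congr_mul e _ M _

/-- GTP -/
theorem gram_of_tensorPower {k t : ℕ} (e : Fin n ≃ (Fin t → Fin k)) (P : GL (Fin n) F)
    (f₁ : (Fin k → F) → (Fin k → F) → F) (hT : IsTensorPowerFormStructure id (bfm G) f₁ e P) :
    ∃ c : F, c ≠ 0 ∧ Matrix.reindex e e ((P : Matrix (Fin n) (Fin n) F)ᵀ * G * (P : Matrix (Fin n) (Fin n) F)) =
      c • ptens k t fun _ => gramMatrix f₁ := by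
  obtain ⟨c, hc, h⟩ := hT
  refine ⟨c, hc, ?_⟩
  apply bfm_injective
  intro x y
  rw [← bfm_reindex, h x y]
  unfold bfm
  simp only [dotProduct, Matrix.mulVec, Matrix.smul_apply, ptens_apply, id, smul_eq_mul]
  rw [Finset.mul_sum]
  apply Finset.sum_congr rfl
  intro a _
  rw [Finset.mul_sum, Finset.mul_sum]
  apply Finset.sum_congr rfl
  intro b _
  ring

/-- GS -/
theorem gram_of_symmetricForm {k : ℕ} (f₁ : (Fin k → F) → (Fin k → F) → F) (hf₁ : IsSymmetricForm f₁) :
    (gramMatrix f₁)ᵀ = gramMatrix f₁ ∧ (gramMatrix f₁).det ≠ 0 := by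
  refine ⟨?_, det_gramMatrix_ne_zero hf₁.bilinear hf₁.nondegenerate⟩
  ext a b
  rw [Matrix.transpose_apply]
  unfold gramMatrix
  exact hf₁.symm _ _

end Cfsg.Agent.Lib.Helper12.OAschLeaf
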