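import Cfsg.Agent.Lib.Helper17.OC2Defs
import Cfsg.Agent.Lib.Helper25.SpinForms
import Cfsg.Agent.Lib.Helper14.OrthOdd

/-!
helper12, S5677 (helper17's market), leaf **L3** `exists_sing_perp` (exact signature), with the
one-sided core `exists_sing_perp_of_ne`.
-/

set_option autoImplicit false
set_option linter.unusedSectionVars false
set_option linter.unusedVariables false

namespace Cfsg.Agent.Lib.Helper12.OC2Leaf

open Module QuadraticMap Matrix Cfsg.Agent.Lib.Helper25.CD Cfsg.Agent.Lib.Helper25.Spin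
  Cfsg.Agent.Lib.Helper15 Cfsg.Agent.Lib.Helper5.NSMax Cfsg.Agent.Lib.Helper5.PairMax
  Cfsg.Agent.Lib.Helper17.OC2

variable {ι : Type} [Fintype ι] [DecidableEq ι] {F : Type*} [Field F] [Fintype F]
  {Q : QuadraticForm F (ι → F)} {t : ℕ} {D : Fin t → Submodule F (ι → F)} {k : ℕ}
  {M : Subgroup ↥(Cfsg.isometryGroup F ⇑Q)}

/-- one-sided version: if `Q (w - x) ≠ 0`, `Q w = Q x`, the reflection in `w - x` carries a singular vector
orthogonal to `w` to one orthogonal to `x` -/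
theorem exists_sing_perp_of_ne {U : Submodule F (ι → F)} {z₀ w x : ι → F} (hz₀ : z₀ ∈ U)
    (hz₀0 : z₀ ≠ 0) (hQz₀ : Q z₀ = 0) (hw : w ∈ U) (hzw : polar Q z₀ w = 0) (hx : x ∈ U)
    (hQ : Q w = Q x) (hne : Q (w - x) ≠ 0) :
    ∃ z ∈ U, z ≠ 0 ∧ Q z = 0 ∧ polar Q z x = 0 := by
  refine ⟨reflE Q (w - x) z₀, ?_, ?_, ?_, ?_⟩
  · rw [reflE_apply]
    exact U.sub_mem hz₀ (U.smul_mem _ (U.sub_mem hw hx))
  · intro h0
    apply hz₀0
    have := (reflE Q (w - x)).injective (h0.trans (map_zero _).symm)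
    exact this
  · rw [Q_reflE, hQz₀]
  · have h1 : reflE Q (w - x) w = x := reflE_swap Q hQ hne
    have h2 := polar_of_iso Q (g := reflE Q (w - x)) (fun y => Q_reflE Q (w - x) y) z₀ w
    rw [h1] at h2
    rw [h2, hzw]

/-- L3 -/
theorem exists_sing_perp (h2 : (2 : F) ≠ 0) {U : Submodule F (ι → F)} {z₀ w₀ x : ι → F} (hz₀ : z₀ ∈ U)
    (hz₀0 : z₀ ≠ 0) (hQz₀ : Q z₀ = 0) (hw₀ : w₀ ∈ U) (hzw : polar Q z₀ w₀ = 0) (hx : x ∈ U)
    {γ : F} (hγ : γ ≠ 0) (hQx : Q x = γ ^ 2 * Q w₀) (hQw : Q w₀ ≠ 0) :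
    ∃ z ∈ U, z ≠ 0 ∧ Q z = 0 ∧ polar Q z x = 0 := by
  have hQx0 : Q x ≠ 0 := by
    rw [hQx]
    exact mul_ne_zero (pow_ne_zero 2 hγ) hQw
  have hQw1 : Q (γ • w₀) = Q x := by
    rw [QuadraticMap.map_smul, hQx, smul_eq_mul]; ring
  have hQw2 : Q ((-γ) • w₀) = Q x := by
    rw [QuadraticMap.map_smul, hQx, smul_eq_mul]; ring
  by_cases hne : Q (γ • w₀ - x) ≠ 0
  · exact exists_sing_perp_of_ne hz₀ hz₀0 hQz₀ (U.smul_mem γ hw₀)
      (by rw [polar_smul_right, hzw, smul_zero]) hx hQw1 hne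
  · push Not at hne
    have hne' : Q ((-γ) • w₀ - x) ≠ 0 := by
      intro h0
      have e1 : Q (γ • w₀ - x) = Q (γ • w₀) + Q x - polar Q (γ • w₀) x := by
        rw [sub_eq_add_neg, QuadraticMap.map_add (⇑Q), QuadraticMap.map_neg, polar_neg_right]
        ring
      have e2 : Q ((-γ) • w₀ - x) = Q (γ • w₀) + Q x + polar Q (γ • w₀) x := by
        have : (-γ) • w₀ - x = -(γ • w₀ + x) := by module
        rw [this, QuadraticMap.map_neg, QuadraticMap.map_add (⇑Q)]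
      have e3 : (2 : F) * 2 * Q x = 0 := by
        have : Q (γ • w₀ - x) + Q ((-γ) • w₀ - x) = 0 := by rw [hne, h0, add_zero]
        rw [e1, e2, hQw1] at this
        linear_combination this
      exact hQx0 ((mul_eq_zero.1 e3).resolve_left (mul_ne_zero h2 h2))
    exact exists_sing_perp_of_ne hz₀ hz₀0 hQz₀ (U.smul_mem (-γ) hw₀)
      (by rw [polar_smul_right, hzw, smul_zero]) hx hQw2 hne'

end Cfsg.Agent.Lib.Helper12.OC2Leaf
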