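import Cfsg.Agent.Lib.Helper17.OC2Defs
import Cfsg.Agent.Lib.Helper25.SpinForms
import Cfsg.Agent.Lib.Helper14.OrthOdd

/-!
helper12, S5677 (helper17's market), leaf **L4** `exists_sing_perp5` (exact signature), with the
dimension lemma `finrank_le_inf_ker_add_one`.
-/

set_option autoImplicit false
set_option linter.unusedSectionVars false
set_option linter.unusedVariables false

namespace Cfsg.Agent.Lib.Helper12.OC2Leaf

open Module QuadraticMap Matrix Cfsg.Agent.Lib.Helper25.CD Cfsg.Agent.Lib.Helper25.Spin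
  Cfsg.Agent.Lib.Helper15 Cfsg.Agent.Lib.Helper5.NSMax Cfsg.Agent.Lib.Helper5.PairMax
  Cfsg.Agent.Lib.Helper17.OC2

variable {ι : Type} [Fintype ι] [DecidableEq ι] {F : Type*} [Field F] [Fintype F]
  {Q : QuadraticForm F (ι → F)} {t : ℕ} {D : Fin t → Submodule F (ι → F)} {k : ℕ}
  {M : Subgroup ↥(Cfsg.isometryGroup F ⇑Q)}

/-- a hyperplane section loses at most one dimension -/
theorem finrank_le_inf_ker_add_one {V : Type*} [AddCommGroup V] [Module F V] [FiniteDimensional F V]
    (U : Submodule F V) (φ : V →ₗ[F] F) :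
    finrank F U ≤ finrank F ↥(U ⊓ LinearMap.ker φ) + 1 := by
  have h1 := Submodule.finrank_sup_add_finrank_inf_eq U (LinearMap.ker φ)
  have h2 := LinearMap.finrank_range_add_finrank_ker φ
  have h3 : finrank F (LinearMap.range φ) ≤ 1 := by
    have := Submodule.finrank_le (LinearMap.range φ)
    rwa [finrank_self] at this
  have h4 := Submodule.finrank_le (U ⊔ LinearMap.ker φ)
  omega

/-- L4 -/
theorem exists_sing_perp5 {U : Submodule F (ι → F)} (h5 : 5 ≤ finrank F U) (x : ι → F) :
    ∃ z ∈ U, z ≠ 0 ∧ Q z = 0 ∧ polar Q z x = 0 := by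
  have h1 := finrank_le_inf_ker_add_one U (polarBilin Q x)
  obtain ⟨z, hz, hz0, hQz⟩ := exists_singular_in Q (U ⊓ LinearMap.ker (polarBilin Q x)) (by omega)
  refine ⟨z, hz.1, hz0, hQz, ?_⟩
  have h2 : z ∈ LinearMap.ker (polarBilin Q x) := hz.2
  rw [LinearMap.mem_ker, polarBilin_apply_apply] at h2
  rw [polar_comm]
  exact h2

end Cfsg.Agent.Lib.Helper12.OC2Leaf
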