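import Cfsg.Agent.Lib.Helper17.OC2Defs
import Cfsg.Agent.Lib.Helper25.SpinForms
import Cfsg.Agent.Lib.Helper14.OrthOdd

/-!
helper12, S5677 (helper17's market), leaf **L5** `exists_triple` (exact signature), with
`exists_nonsing_of_ndOn` (a nonzero nondegenerate subspace contains a nonsingular vector).
-/

set_option autoImplicit false
set_option linter.unusedSectionVars false
set_option linter.unusedVariables false

namespace Cfsg.Agent.Lib.Helper12.OC2Leaf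

open Module QuadraticMap Matrix Cfsg.Agent.Lib.Helper25.CD Cfsg.Agent.Lib.Helper25.Spin
  Cfsg.Agent.Lib.Helper15 Cfsg.Agent.Lib.Helper5.NSMax Cfsg.Agent.Lib.Helper5.PairMax
  Cfsg.Agent.Lib.Helper17.OC2

variable {ι : Type} [Fintype ι] [DecidableEq ι] {F : Type*} [Field F] [Fintype F]
  {Q : QuadraticForm F (ι → F)} {t : ℕ} {D : Fin t → Submodule F (ι → F)} {k : ℕ}
  {M : Subgroup ↥(Cfsg.isometryGroup F ⇑Q)}

/-- a nonzero subspace on which the polar form is nondegenerate contains a nonsingular vector -/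
theorem exists_nonsing_of_ndOn {P : Submodule F (ι → F)} (hP : NdOn Q P) {w : ι → F} (hw : w ∈ P)
    (hw0 : w ≠ 0) : ∃ w₀ ∈ P, Q w₀ ≠ 0 := by
  obtain ⟨w', hw', hww'⟩ : ∃ w' ∈ P, polar Q w w' ≠ 0 := by
    by_contra hcon
    push Not at hcon
    exact hw0 (hP w hw hcon)
  by_cases h1 : Q w = 0
  swap
  · exact ⟨w, hw, h1⟩
  by_cases h2 : Q w' = 0
  swap
  · exact ⟨w', hw', h2⟩
  refine ⟨w + w', P.add_mem hw hw', ?_⟩
  rw [QuadraticMap.map_add (⇑Q), h1, h2, zero_add, zero_add]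
  exact hww'

/-- L5 -/
theorem exists_triple (h2 : (2 : F) ≠ 0) {U : Submodule F (ι → F)} (hU : NdOn Q U)
    (h3 : 3 ≤ finrank F U) :
    ∃ z₀ ∈ U, ∃ w₀ ∈ U, z₀ ≠ 0 ∧ Q z₀ = 0 ∧ polar Q z₀ w₀ = 0 ∧ Q w₀ ≠ 0 := by
  obtain ⟨z₀, hz₀, hz₀0, hQz₀⟩ := exists_singular_in Q U h3
  obtain ⟨f₀, hf₀, hQf₀, hzf⟩ := exists_hyp_partner Q U hU hz₀ hz₀0 hQz₀
  have hnd := perpPair_nd Q U hU hz₀ hf₀ hQz₀ hQf₀ hzf
  have hfr := perpPair_finrank Q U hz₀ hf₀ hQz₀ hQf₀ hzf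
  have hpos : 0 < finrank F ↥(perpPair Q U z₀ f₀) := by omega
  obtain ⟨w, hw0⟩ := (finrank_pos_iff_exists_ne_zero.1 hpos)
  have hw0' : (w : ι → F) ≠ 0 := fun h => hw0 (Subtype.ext h)
  obtain ⟨w₀, hw₀, hQw₀⟩ := exists_nonsing_of_ndOn hnd w.2 hw0'
  rw [mem_perpPair] at hw₀
  exact ⟨z₀, hz₀, w₀, hw₀.1, hz₀0, hQz₀, hw₀.2.1, hQw₀⟩

end Cfsg.Agent.Lib.Helper12.OC2Leaf
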