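import Mathlib
import Cfsg.Prelude.Def_GeometricClasses
import Cfsg.Agent.Lib.Lead.OEQF
import Cfsg.Agent.Lib.Helper9.PlusPlane
import Cfsg.Agent.Lib.Helper25.OmegaNonMax
import Cfsg.Agent.Lib.Helper18.OAschTR
import Cfsg.Agent.Lib.Helper1.OmMN13
import Cfsg.Agent.Lib.Helper28.OmME3
import Cfsg.Agent.Lib.Helper15.UniForm

/-!
OMEGA-EVEN project (planner lead), market OE-ROWS, Block E: E0 `two_eq_zero_of_not_odd`, E1 `nd_perp`, E2 `even_finrank_of_nd`,
E3 `ts_ne_top` (exact signatures of `notes/OmEven_rows_leaves.lean`).  Taker: helper12.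
By-products: `polar_self_of_two_eq_zero`, `restrict_nondeg_of_nondegOn` (the restricted polar form of a non-degenerate subspace).
-/

set_option autoImplicit false
set_option linter.unusedSectionVars false
set_option linter.unusedVariables false

namespace Cfsg.Agent.Lib.Helper12.OELeaf

open Cfsg Cfsg.Geo Matrix Module QuadraticMap Cfsg.Agent.Lib.Lead.OE

section generic
variable {ι : Type} [Fintype ι] [DecidableEq ι] {F : Type*} [Field F] [Fintype F]
  (Q : QuadraticForm F (ι → F))

/-- E0. -/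
theorem two_eq_zero_of_not_odd (h : ¬ Odd (Fintype.card F)) : (2 : F) = 0 := by
  have hev : Fintype.card F % 2 = 0 := by
    rcases Nat.even_or_odd (Fintype.card F) with h' | h'
    · exact Nat.even_iff.1 h'
    · exact absurd h' h
  have hchar : ringChar F = 2 := FiniteField.even_card_iff_char_two.2 hev
  have : CharP F 2 := ringChar.of_eq hchar
  exact CharTwo.two_eq_zero

/-- E1. -/
theorem nd_perp (hQ : (polarBilin Q).Nondegenerate) {W : Submodule F (ι → F)} (h1 : W ≠ ⊤)
    (hW : IsNondegenerateOn (polar ⇑Q) W) :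
    ∃ U : Submodule F (ι → F), U ≠ ⊥ ∧ finrank F U + finrank F W = Fintype.card ι ∧
      IsNondegenerateOn (polar ⇑Q) U ∧
      subspaceStabilizer W ⊓ isometryGroup F ⇑Q ≤ subspaceStabilizer U := by
  obtain ⟨hcompl, hnd⟩ := Cfsg.Agent.Lib.Helper28.OmMLeaf.orth_props28 Q hQ hW
  have hfr : finrank F (Cfsg.Agent.Lib.Helper28.OmMLeaf.perp28 Q W) = finrank F (ι → F) - finrank F W :=
    LinearMap.BilinForm.finrank_orthogonal hQ W
  rw [Module.finrank_fintype_fun_eq_card] at hfr
  have hlt : finrank F W < Fintype.card ι := by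
    have := Submodule.finrank_lt h1
    rwa [Module.finrank_fintype_fun_eq_card] at this
  refine ⟨Cfsg.Agent.Lib.Helper28.OmMLeaf.perp28 Q W, ?_, ?_, hnd, Cfsg.Agent.Lib.Helper28.OmMLeaf.stab_orth28 Q⟩
  · intro hbot
    rw [hbot, finrank_bot] at hfr
    omega
  · rw [hfr]
    omega

/-- in characteristic 2 the polar form is alternating -/
lemma polar_self_of_two_eq_zero (h2 : (2 : F) = 0) (v : ι → F) : polar ⇑Q v v = 0 := by
  unfold polar
  have h4 : Q (v + v) = 2 * 2 * Q v := by
    rw [← two_smul F v, QuadraticMap.map_smul, smul_eq_mul]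
  rw [h4, h2]
  ring_nf
  rw [show (2 : F) = 0 from h2]
  ring

/-- E2. -/
theorem even_finrank_of_nd (h2 : (2 : F) = 0) {W : Submodule F (ι → F)}
    (hW : IsNondegenerateOn (polar ⇑Q) W) : Even (finrank F W) := by
  let C : LinearMap.BilinForm F W := LinearMap.BilinForm.restrict (polarBilin Q) W
  have hC : C.IsAlt := by
    intro x
    show polar ⇑Q (x : ι → F) (x : ι → F) = 0
    exact polar_self_of_two_eq_zero Q h2 _
  obtain ⟨m, hm⟩ := Cfsg.Agent.Lib.Helper15.UniForm.even_rank_alt C hC
  have hker : LinearMap.ker C = ⊥ := by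
    rw [Submodule.eq_bot_iff]
    intro x hx
    by_contra hne
    have hne' : (x : ι → F) ≠ 0 := fun h => hne (Subtype.ext h)
    obtain ⟨-, ⟨y, hy, hxy⟩⟩ := hW x x.2 hne'
    apply hxy
    rw [LinearMap.mem_ker] at hx
    have := LinearMap.congr_fun hx ⟨y, hy⟩
    exact this
  rw [hker, finrank_bot, zero_add] at hm
  exact ⟨m, by rw [hm]; ring⟩

/-- E3. -/
theorem ts_ne_top (hQ : (polarBilin Q).Nondegenerate) (hι : 1 ≤ Fintype.card ι)
    {W : Submodule F (ι → F)} (hts : IsTotallySingularQuad ⇑Q W) : W ≠ ⊤ := by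
  intro htop
  have hzero : ∀ v : ι → F, Q v = 0 := fun v => hts v (by rw [htop]; exact Submodule.mem_top)
  obtain ⟨i⟩ : Nonempty ι := Fintype.card_pos_iff.1 (by omega)
  have hne : (Pi.single i (1 : F) : ι → F) ≠ 0 := by
    intro h
    have := congrFun h i
    simp at this
  apply hne
  apply hQ.1
  intro y
  rw [polarBilin_apply_apply]
  unfold polar
  rw [hzero, hzero, hzero]
  ring

end generic

end Cfsg.Agent.Lib.Helper12.OELeaf
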