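import Mathlib
import Cfsg.Prelude.Def_ClassicalGeometry
import Cfsg.Prelude.Def_GeometricClasses
import Cfsg.Agent.Lib.Helper5.TSMax
import Cfsg.Agent.Lib.Helper5.LSubC
import Cfsg.Agent.Lib.Helper9.QuadBridge
import Cfsg.Agent.Lib.Helper19.OSubDefs
import Cfsg.Agent.Lib.Helper19.OSubBasic
import Cfsg.Agent.Lib.Helper19.OSubDescent
import Cfsg.Agent.Lib.Helper19.OSubEM
import Cfsg.Agent.Lib.Helper15.QuadClass
import Cfsg.Agent.Lib.Helper25.OrthGeom
import Cfsg.Agent.Lib.Helper25.SingPts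
import Cfsg.Agent.Lib.Helper25.CDClifford
import Cfsg.Agent.Lib.Helper25.OmegaNonMax

/-! S5702 round 2, leaf K0: an isometry `z ≠ 1` all of whose displacements are multiples of one vector
is a reflection, hence not in `Ω`. -/

set_option autoImplicit false
set_option linter.unusedSectionVars false
set_option linter.unusedVariables false

namespace Cfsg.Agent.Lib.Helper12.OSubLeaf
open Cfsg Matrix QuadraticMap Module Cfsg.Agent.Lib.Helper25.Siegel Cfsg.Agent.Lib.Helper19.OSub
open scoped commutatorElement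

variable {ι : Type} [Fintype ι] [DecidableEq ι] {F : Type*} [Field F] [Fintype F]
  {F₀ : Subfield F} {Q : QuadraticForm F (ι → F)} {M : Subgroup (GL ι F)}

/-- the rank-one displacement formula: an isometry `z ≠ 1` with all displacements in `F u` is the
reflection in `u`, and `Q u ≠ 0` (any characteristic) -/
theorem rank_one_eq_refl (hQ : (polarBilin Q).Nondegenerate) {z : GL ι F}
    (hz : z ∈ Cfsg.isometryGroup F ⇑Q) (hz1 : z ≠ 1) {u : ι → F}
    (hu : ∀ x, ∃ c : F, mv z x - x = c • u) :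
    Q u ≠ 0 ∧ ∀ x, mv z x = x - ((Q u)⁻¹ * polar Q u x) • u := by
  classical
  -- some vector is moved
  obtain ⟨x₀, hx₀⟩ : ∃ x₀, mv z x₀ ≠ x₀ := by
    by_contra hcon
    push Not at hcon
    apply hz1
    apply gl_ext
    intro x
    rw [hcon x, mv_one]
  obtain ⟨c₀, hc₀⟩ := hu x₀
  have hc₀0 : c₀ ≠ 0 := by
    intro h0
    apply hx₀
    rw [h0, zero_smul] at hc₀
    exact sub_eq_zero.mp hc₀
  have hu0 : u ≠ 0 := by
    intro h0
    apply hx₀
    rw [h0, smul_zero] at hc₀
    exact sub_eq_zero.mp hc₀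
  -- the isometry condition
  have key : ∀ x c, mv z x - x = c • u → c * (c * Q u + polar Q x u) = 0 := by
    intro x c hc
    have h1 : mv z x = x + c • u := by rw [← hc]; abel
    have h2 : Q (mv z x) = Q x := iso_Q hz x
    rw [h1] at h2
    have h3 : Q (x + c • u) = Q x + Q (c • u) + polar Q x (c • u) := by
      unfold polar; ring
    rw [h3, QuadraticMap.map_smul, polar_smul_right, smul_eq_mul, smul_eq_mul] at h2
    linear_combination h2
  have key' : ∀ x c, mv z x - x = c • u → c ≠ 0 → c * Q u = - polar Q x u := by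
    intro x c hc hc0
    have := key x c hc
    rcases mul_eq_zero.mp this with h | h
    · exact absurd h hc0
    · linear_combination h
  have h₀ := key' x₀ c₀ hc₀ hc₀0
  have all : ∀ x c, mv z x - x = c • u → c * Q u = - polar Q x u := by
    intro x c hc
    by_cases hc0 : c = 0
    · -- then `x + x₀` is moved by `c₀ u`
      have h1 : mv z (x + x₀) - (x + x₀) = c₀ • u := by
        rw [mv_add]
        have e : mv z x + mv z x₀ - (x + x₀) = (mv z x - x) + (mv z x₀ - x₀) := by abel
        rw [e, hc, hc₀, hc0, zero_smul, zero_add]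
      have h2 := key' (x + x₀) c₀ h1 hc₀0
      rw [polar_add_left] at h2
      rw [hc0, zero_mul]
      linear_combination h2 - h₀
    · exact key' x c hc hc0
  have hQu : Q u ≠ 0 := by
    intro h0
    apply hu0
    apply hQ.1 u
    intro y
    rw [polarBilin_apply_apply]
    obtain ⟨c, hc⟩ := hu y
    have := all y c hc
    rw [h0, mul_zero] at this
    rw [polar_comm]
    linear_combination this
  refine ⟨hQu, fun x => ?_⟩
  obtain ⟨c, hc⟩ := hu x
  have h1 : mv z x = x + c • u := by rw [← hc]; abel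
  have h2 := all x c hc
  have h3 : c = - ((Q u)⁻¹ * polar Q u x) := by
    rw [polar_comm Q u x]
    field_simp
    linear_combination h2
  rw [h1, h3, neg_smul, sub_eq_add_neg]

/-- K0 -/
theorem not_omega_of_rank_one (hc2 : (2 : F) = 0) (hQ : (polarBilin Q).Nondegenerate)
    (hn : 5 ≤ Fintype.card ι) {z : GL ι F}
    (hz : z ∈ Cfsg.isometryGroup F ⇑Q) (hz1 : z ≠ 1) {u : ι → F}
    (hu : ∀ x, ∃ c : F, mv z x - x = c • u) : z ∉ Cfsg.Geo.omegaGL ⇑Q := by
  obtain ⟨hQu, hform⟩ := rank_one_eq_refl hQ hz hz1 hu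
  intro hom
  have hg : (⟨z, hz⟩ : ↥(Cfsg.isometryGroup F ⇑Q)) = Cfsg.Agent.Lib.Helper25.CD.reflM Q u := by
    apply Cfsg.Agent.Lib.Helper25.CD.toOG_injective
    apply LinearEquiv.ext
    intro x
    rw [Cfsg.Agent.Lib.Helper25.CD.toOG_reflM, Cfsg.Agent.Lib.Helper25.CD.reflE_apply]
    exact hform x
  have hmem : (⟨z, hz⟩ : ↥(Cfsg.isometryGroup F ⇑Q)) ∈ Cfsg.Omega F ⇑Q :=
    (Cfsg.Agent.Lib.Helper25.Fam.coe_mem_omegaGL Q).mp hom
  rw [hg] at hmem
  have : CharP F 2 := CharTwo.of_one_ne_zero_of_two_eq_zero one_ne_zero hc2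
  exact Cfsg.Agent.Lib.Helper25.CD.reflM_not_mem_omega Q hQ (Or.inr (by omega)) hQu hmem

end Cfsg.Agent.Lib.Helper12.OSubLeaf
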