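import Mathlib
import Cfsg.Prelude.Def_ClassicalGeometry
import Cfsg.Prelude.Def_GeometricClasses
import Cfsg.Agent.Lib.Helper5.TSMax
import Cfsg.Agent.Lib.Helper5.LSubC
import Cfsg.Agent.Lib.Helper9.QuadBridge
import Cfsg.Agent.Lib.Helper19.OSubDefs
import Cfsg.Agent.Lib.Helper19.OSubBasic
import Cfsg.Agent.Lib.Helper19.OSubDescent
import Cfsg.Agent.Lib.Helper19.OSubEM
import Cfsg.Agent.Lib.Helper15.QuadClass
import Cfsg.Agent.Lib.Helper25.OrthGeom
import Cfsg.Agent.Lib.Helper25.SingPts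
import Cfsg.Agent.Lib.Helper25.CDClifford
import Cfsg.Agent.Lib.Helper12.OSubK0

/-! S5702 round 2, leaf K3a: a rational singular vector in the image of `z - 1` for a rationally acting
isometric involution `z ≠ 1` in `Ω`, characteristic 2. -/

set_option autoImplicit false
set_option linter.unusedSectionVars false
set_option linter.unusedVariables false

namespace Cfsg.Agent.Lib.Helper12.OSubLeaf
open Cfsg Matrix QuadraticMap Module Cfsg.Agent.Lib.Helper25.Siegel Cfsg.Agent.Lib.Helper19.OSub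
open scoped commutatorElement

variable {ι : Type} [Fintype ι] [DecidableEq ι] {F : Type*} [Field F] [Fintype F]
  {F₀ : Subfield F} {Q : QuadraticForm F (ι → F)} {M : Subgroup (GL ι F)}

/-- square roots in a finite subfield of characteristic 2 -/
theorem exists_sqrt_sub (hc2 : (2 : F) = 0) {r : F} (hr : r ∈ F₀) : ∃ l ∈ F₀, l * l = r := by
  classical
  have hinj : Function.Injective (fun x : F₀ => x * x) := by
    intro x y hxy
    have h1 : ((x : F) - y) * ((x : F) - y) = 0 := by
      have h2 : (x : F) * x = (y : F) * y := by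
        have := congrArg (fun t : F₀ => (t : F)) hxy
        simpa using this
      have e : ((x : F) - y) * ((x : F) - y) = (x : F) * x + (y : F) * y - 2 * ((x : F) * y) := by
        ring
      rw [e, hc2, zero_mul, sub_zero, h2]
      have : (y : F) * y + (y : F) * y = 2 * ((y : F) * y) := by ring
      rw [this, hc2, zero_mul]
    have h3 : (x : F) - y = 0 := by
      rcases mul_eq_zero.mp h1 with h | h <;> exact h
    exact Subtype.ext (sub_eq_zero.mp h3)
  have hsurj : Function.Surjective (fun x : F₀ => x * x) :=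
    Finite.injective_iff_surjective.mp hinj
  obtain ⟨l, hl⟩ := hsurj ⟨r, hr⟩
  refine ⟨(l : F), l.2, ?_⟩
  have := congrArg (fun t : F₀ => (t : F)) hl
  simpa using this

/-- displacements of an isometric involution are pairwise orthogonal in characteristic 2 -/
theorem polar_disp (hc2 : (2 : F) = 0) {z : GL ι F} (hsq : z * z = 1)
    (hiso : z ∈ Cfsg.isometryGroup F ⇑Q) (x y : ι → F) :
    polar Q (mv z x - x) (mv z y - y) = 0 := by
  have h1 : polar Q (mv z x) (mv z y) = polar Q x y := iso_polar hiso x y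
  have h2 : polar Q x (mv z y) = polar Q (mv z x) y := by
    have := iso_polar hiso x (mv z y)
    rw [mv_sq hsq] at this
    exact this.symm
  rw [polar_sub_left, polar_sub_right, polar_sub_right, h1, h2]
  have e : polar Q x y - polar Q (mv z x) y - (polar Q (mv z x) y - polar Q x y)
      = 2 * (polar Q x y - polar Q (mv z x) y) := by ring
  rw [e, hc2, zero_mul]

/-- K3a -/
theorem exists_sing_im (h : QCtx F₀ Q) (hc2 : (2 : F) = 0) {z : GL ι F} (hz : RatInv F₀ Q z)
    (hz1 : z ≠ 1) (hom : z ∈ Cfsg.Geo.omegaGL ⇑Q) :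
    ∃ a c : ι → F, RatV F₀ a ∧ a ≠ 0 ∧ Q a = 0 ∧ mv z c - c = a := by
  classical
  -- displacement of basis vectors
  set N : (ι → F) → (ι → F) := fun x => mv z x - x with hN
  have hNrat : ∀ x, RatV F₀ x → RatV F₀ (N x) := fun x hx => ratV_sub (hz.rat x hx) hx
  have hNadd : ∀ x y, N (x + y) = N x + N y := by
    intro x y; simp only [hN, mv_add]; abel
  have hNsmul : ∀ (c : F) x, N (c • x) = c • N x := by
    intro c x; simp only [hN, mv_smul, smul_sub]
  have hNsum : ∀ (s : Finset ι) (f : ι → (ι → F)), N (∑ i ∈ s, f i) = ∑ i ∈ s, N (f i) := by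
    intro s f
    induction s using Finset.induction_on with
    | empty => simp [hN]
    | insert a s ha ih => rw [Finset.sum_insert ha, Finset.sum_insert ha, hNadd, ih]
  -- some basis vector is moved
  obtain ⟨i₁, hi₁⟩ : ∃ i, N (Pi.single i (1 : F)) ≠ 0 := by
    by_contra hcon
    push Not at hcon
    apply hz1
    apply gl_ext
    intro x
    rw [mv_one]
    have h0 : N x = 0 := by
      rw [sum_single x, hNsum]
      apply Finset.sum_eq_zero
      intro i _
      rw [hNsmul, hcon i, smul_zero]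
    exact sub_eq_zero.mp h0
  set c₁ : ι → F := Pi.single i₁ 1 with hc₁
  set a₁ : ι → F := N c₁ with ha₁
  have ha₁rat : RatV F₀ a₁ := hNrat _ (ratV_single i₁)
  by_cases hQ1 : Q a₁ = 0
  · exact ⟨a₁, c₁, ha₁rat, hi₁, hQ1, rfl⟩
  -- some basis vector has displacement outside `F a₁`
  obtain ⟨i₂, hi₂⟩ : ∃ i, ∀ c : F, N (Pi.single i (1 : F)) ≠ c • a₁ := by
    by_contra hcon
    push Not at hcon
    choose cf hcf using hcon
    apply Cfsg.Agent.Lib.Helper12.OSubLeaf.not_omega_of_rank_one hc2 h.nd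
      (by have := h.card; omega) hz.iso hz1 (u := a₁) ?_ hom
    intro x
    refine ⟨∑ i, x i * cf i, ?_⟩
    show N x = _
    conv_lhs => rw [sum_single x]
    rw [hNsum, Finset.sum_smul]
    apply Finset.sum_congr rfl
    intro i _
    rw [hNsmul, hcf i, smul_smul]
  set c₂ : ι → F := Pi.single i₂ 1 with hc₂
  set a₂ : ι → F := N c₂ with ha₂
  have ha₂rat : RatV F₀ a₂ := hNrat _ (ratV_single i₂)
  have ha₂0 : a₂ ≠ 0 := by
    intro h0
    exact hi₂ 0 (by rw [zero_smul]; exact h0)
  by_cases hQ2 : Q a₂ = 0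
  · exact ⟨a₂, c₂, ha₂rat, ha₂0, hQ2, rfl⟩
  -- combine
  have hr : Q a₁ / Q a₂ ∈ F₀ := F₀.div_mem (h.ratQ _ ha₁rat) (h.ratQ _ ha₂rat)
  obtain ⟨l, hl, hll⟩ := exists_sqrt_sub hc2 hr
  have hl0 : l ≠ 0 := by
    intro h0
    rw [h0, mul_zero] at hll
    exact (div_ne_zero hQ1 hQ2) hll.symm
  refine ⟨a₁ + l • a₂, c₁ + l • c₂, ratV_add ha₁rat (ratV_smul hl ha₂rat), ?_, ?_, ?_⟩
  · intro h0
    apply hi₂ (-(l⁻¹))
    have h1 : l • a₂ = -a₁ := by
      rw [eq_neg_iff_add_eq_zero, add_comm]; exact h0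
    calc a₂ = l⁻¹ • (l • a₂) := by rw [smul_smul, inv_mul_cancel₀ hl0, one_smul]
      _ = -(l⁻¹) • a₁ := by rw [h1, smul_neg, neg_smul]
  · have hpol : polar Q a₁ a₂ = 0 := polar_disp hc2 hz.sq hz.iso c₁ c₂
    have h3 : Q (a₁ + l • a₂) = Q a₁ + Q (l • a₂) + polar Q a₁ (l • a₂) := by
      unfold polar; ring
    rw [h3, QuadraticMap.map_smul, polar_smul_right, hpol, smul_zero, add_zero, smul_eq_mul, hll,
      div_mul_cancel₀ _ hQ2]
    have : Q a₁ + Q a₁ = 2 * Q a₁ := by ring
    rw [this, hc2, zero_mul]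
  · show N (c₁ + l • c₂) = _
    rw [hNadd, hNsmul]

end Cfsg.Agent.Lib.Helper12.OSubLeaf
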