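import Mathlib
import Cfsg.Prelude.Def_ClassicalGeometry
import Cfsg.Prelude.Def_GeometricClasses
import Cfsg.Agent.Lib.Helper5.TSMax
import Cfsg.Agent.Lib.Helper5.LSubC
import Cfsg.Agent.Lib.Helper9.QuadBridge
import Cfsg.Agent.Lib.Helper19.OSubDefs
import Cfsg.Agent.Lib.Helper19.OSubBasic
import Cfsg.Agent.Lib.Helper19.OSubDescent
import Cfsg.Agent.Lib.Helper19.OSubEM
import Cfsg.Agent.Lib.Helper15.QuadClass
import Cfsg.Agent.Lib.Helper25.OrthGeom
import Cfsg.Agent.Lib.Helper25.SingPts
import Cfsg.Agent.Lib.Helper25.CDClifford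

/-! S5702 round 2, leaf K3b0: the rational fixed vectors of a rationally acting matrix have full
dimension. -/

set_option autoImplicit false
set_option linter.unusedSectionVars false
set_option linter.unusedVariables false

namespace Cfsg.Agent.Lib.Helper12.OSubLeaf
open Cfsg Matrix QuadraticMap Module Cfsg.Agent.Lib.Helper25.Siegel Cfsg.Agent.Lib.Helper19.OSub
open scoped commutatorElement

variable {ι : Type} [Fintype ι] [DecidableEq ι] {F : Type*} [Field F] [Fintype F]
  {F₀ : Subfield F} {Q : QuadraticForm F (ι → F)} {M : Subgroup (GL ι F)}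

/-- the rational fixed vectors of `z`, as an `F₀`-subspace of `F₀^ι` -/
def fixRat (F₀ : Subfield F) (z : GL ι F) : Submodule F₀ (ι → F₀) where
  carrier := {u | mv z (up F₀ u) = up F₀ u}
  add_mem' := by
    intro u v hu hv
    show mv z (up F₀ (u + v)) = up F₀ (u + v)
    rw [up_add, mv_add, hu, hv]
  zero_mem' := by
    show mv z (up F₀ 0) = up F₀ 0
    rw [up_zero, mv_zero]
  smul_mem' := by
    intro c u hu
    show mv z (up F₀ (c • u)) = up F₀ (c • u)
    rw [up_smul, mv_smul, hu]

theorem mem_fixRat (z : GL ι F) (u : ι → F₀) : u ∈ fixRat F₀ z ↔ mv z (up F₀ u) = up F₀ u :=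
  Iff.rfl

/-- K3b0: the rational fixed vectors of a rationally acting matrix have full dimension (all characteristics) -/
theorem finrank_fix_rat {z : GL ι F} (hrat : ∀ x, RatV F₀ x → RatV F₀ (mv z x)) :
    ∃ W : Submodule F₀ (ι → F₀), (∀ u, u ∈ W ↔ mv z (up F₀ u) = up F₀ u) ∧
      finrank F (Eig z 1) ≤ finrank F₀ W := by
  classical
  refine ⟨fixRat F₀ z, fun u => Iff.rfl, ?_⟩
  -- a basis of `F` over `F₀`
  let b := Module.finBasis F₀ F
  -- a basis of `W` over `F₀`
  let c := Module.finBasis F₀ (fixRat F₀ z)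
  -- the `F`-span of the lifted basis
  let S : Submodule F (ι → F) := Submodule.span F (Set.range fun j => up F₀ ((c j : fixRat F₀ z) : ι → F₀))
  have hS : finrank F S ≤ finrank F₀ (fixRat F₀ z) := by
    have := finrank_range_le_card (R := F) (fun j => up F₀ ((c j : fixRat F₀ z) : ι → F₀))
    simpa [S, Set.finrank] using this
  -- every lifted element of `W` lies in `S`
  have hWS : ∀ w : ι → F₀, w ∈ fixRat F₀ z → up F₀ w ∈ S := by
    intro w hw
    have h1 := c.sum_repr ⟨w, hw⟩
    have h2 : w = ∑ j, (c.repr ⟨w, hw⟩ j) • ((c j : fixRat F₀ z) : ι → F₀) := by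
      have := congrArg (fun t : fixRat F₀ z => (t : ι → F₀)) h1
      simp only [Submodule.coe_sum, Submodule.coe_smul] at this
      exact this.symm
    have h3 : up F₀ w = ∑ j, ((c.repr ⟨w, hw⟩ j : F₀) : F) • up F₀ ((c j : fixRat F₀ z) : ι → F₀) := by
      conv_lhs => rw [h2]
      funext i
      simp only [up_apply, Finset.sum_apply, Pi.smul_apply, smul_eq_mul]
      push_cast
      rfl
    rw [h3]
    apply Submodule.sum_mem
    intro j _
    exact Submodule.smul_mem _ _ (Submodule.subset_span ⟨j, rfl⟩)
  -- the eigenspace lies in `S`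
  have hES : Eig z 1 ≤ S := by
    intro x hx
    rw [mem_Eig, one_smul] at hx
    -- coordinates of `x`
    let u : Fin (finrank F₀ F) → (ι → F₀) := fun k i => b.repr (x i) k
    have hx_sum : x = ∑ k, b k • up F₀ (u k) := by
      funext i
      simp only [Finset.sum_apply, Pi.smul_apply, up_apply, smul_eq_mul]
      have := b.sum_repr (x i)
      conv_lhs => rw [← this]
      apply Finset.sum_congr rfl
      intro k _
      show (b.repr (x i) k) • b k = b k * ((b.repr (x i) k : F₀) : F)
      rw [Subfield.smul_def, smul_eq_mul, mul_comm]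
    -- images of the coordinate vectors
    have hex : ∀ k, ∃ u' : ι → F₀, up F₀ u' = mv z (up F₀ (u k)) :=
      fun k => exists_up (hrat _ (ratV_up (u k)))
    choose u' hu' using hex
    have hzx : mv z x = ∑ k, b k • up F₀ (u' k) := by
      conv_lhs => rw [hx_sum]
      unfold mv
      rw [Matrix.mulVec_sum]
      apply Finset.sum_congr rfl
      intro k _
      rw [Matrix.mulVec_smul]
      congr 1
      exact (hu' k).symm
    have heq : ∀ k, u' k = u k := by
      intro k
      funext i
      have h1 : (∑ k, b k • up F₀ (u' k)) i = (∑ k, b k • up F₀ (u k)) i := by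
        rw [← hzx, ← hx_sum, hx]
      simp only [Finset.sum_apply, Pi.smul_apply, up_apply, smul_eq_mul] at h1
      have e1 : ∀ (v : Fin (finrank F₀ F) → (ι → F₀)),
          ∑ k, (v k i) • b k = ∑ k, b k * ((v k i : F₀) : F) := by
        intro v
        apply Finset.sum_congr rfl
        intro k _
        rw [Subfield.smul_def, smul_eq_mul, mul_comm]
      have h2 : ∑ k, (u' k i) • b k = ∑ k, (u k i) • b k := by
        rw [e1 u', e1 u]
        exact h1
      have h3 := b.linearIndependent
      rw [Fintype.linearIndependent_iff] at h3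
      have h4 : ∑ k, (u' k i - u k i) • b k = 0 := by
        simp only [sub_smul, Finset.sum_sub_distrib, h2, sub_self]
      exact sub_eq_zero.mp (h3 _ h4 k)
    have hmem : ∀ k, u k ∈ fixRat F₀ z := by
      intro k
      rw [mem_fixRat, ← hu' k, heq k]
    rw [hx_sum]
    apply Submodule.sum_mem
    intro k _
    exact Submodule.smul_mem _ _ (hWS _ (hmem k))
  exact (Submodule.finrank_mono hES).trans hS

end Cfsg.Agent.Lib.Helper12.OSubLeaf
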