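import Mathlib
import Cfsg.Prelude.Def_ClassicalGeometry
import Cfsg.Prelude.Def_GeometricClasses
import Cfsg.Agent.Lib.Helper2.OTGDefs
import Cfsg.Agent.Lib.Helper25.OTOmega
import Cfsg.Agent.Lib.Helper25.OrthGeom

/-!
S5681 / S5709 PART (GA') (helper2's market), block G, leaves G1-G3 (helper12):
`exists_TSL_of_sing`, `exists_sing_not_mem`, `exists_TSL_span`, exact signatures of
`notes/S5681_GA_leaves.lean`.
-/

set_option autoImplicit false
set_option linter.unusedSectionVars false
set_option linter.unusedVariables false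

namespace Cfsg.Agent.Lib.Helper12.OTGLeaf
open Matrix Module QuadraticMap
open Cfsg.Agent.Lib.Helper25.Tens Cfsg.Agent.Lib.Helper19.OSub Cfsg.Agent.Lib.Helper25.OT
open Cfsg.Agent.Lib.Helper2.SOT (fB gim mem_gim fB_add_left fB_add_right fB_smul_left fB_smul_right
  fB_comm)
open Cfsg.Agent.Lib.Helper2.OTG
open scoped Kronecker

variable {F : Type*} [Field F] [Fintype F] {a b : ℕ} {G1 : Matrix (Fin a) (Fin a) F}
  {G2 : Matrix (Fin b) (Fin b) F} {M : Subgroup (GL (Idx a b) F)}

/-- (G1) `B` contains a t.s. line through every singular point. -/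
theorem exists_TSL_of_sing (h : Ctx a b G1 G2) (y : Fin b → F) (hy : y ≠ 0) (hyy : fB G2 y y = 0) :
    ∃ z : Fin b → F, TSL G2 y z := by
  have hQ := QB_nondeg h
  have hQy : QB G2 y = 0 := (QB_eq_zero_iff G2 h.two y).2 hyy
  obtain ⟨s, hQs, hys⟩ := Cfsg.Agent.Lib.Helper25.Fam.exists_sing_partner (QB G2) hQ hy hQy
  have hfr : 5 ≤ finrank F (Fin b → F) := by
    rw [Module.finrank_fin_fun]
    exact h.hb
  obtain ⟨z, hz0, hQz, hyz, hsz⟩ := Cfsg.Agent.Lib.Helper25.OGeom.exists_sing_perp_pair (QB G2) hQ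
    hfr hQy hQs (by rw [hys]; exact one_ne_zero)
  refine ⟨z, ⟨hyy, (QB_eq_zero_iff G2 h.two z).1 hQz, ?_, ?_⟩⟩
  · rw [← polar_QB h.symm2 h.two]
    exact hyz
  · rw [LinearIndependent.pair_iff]
    intro c d hcd
    have h1 : polar (QB G2) s (c • y + d • z) = 0 := by
      rw [hcd]
      simp
    rw [polar_add_right, polar_smul_right, polar_smul_right, hsz, polar_comm, hys] at h1
    have hc : c = 0 := by simpa using h1
    refine ⟨hc, ?_⟩
    rw [hc, zero_smul, zero_add] at hcd
    rcases smul_eq_zero.1 hcd with h0 | h0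
    · exact h0
    · exact absurd h0 hz0

/-- (G2) singular vectors span `B`: a proper subspace misses one. -/
theorem exists_sing_not_mem (h : Ctx a b G1 G2) (S : Submodule F (Fin b → F)) (hS : S ≠ ⊤) :
    ∃ y : Fin b → F, y ≠ 0 ∧ fB G2 y y = 0 ∧ y ∉ S := by
  have hQ := QB_nondeg h
  have hfr : 3 ≤ finrank F (Fin b → F) := by
    rw [Module.finrank_fin_fun]
    have := h.hb
    omega
  have hspan := Cfsg.Agent.Lib.Helper25.OGeom.span_singular_eq_top (QB G2) hQ hfr
  by_contra hcon
  push Not at hcon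
  apply hS
  rw [eq_top_iff, ← hspan, Submodule.span_le]
  intro x hx
  have hQx : QB G2 x = 0 := hx
  by_cases hx0 : x = 0
  · rw [hx0]
    exact S.zero_mem
  · exact hcon x hx0 ((QB_eq_zero_iff G2 h.two x).1 hQx)

/-- (G3) a t.s. 2-space is a t.s. line. -/
theorem exists_TSL_span (h : Ctx a b G1 G2) (S : Submodule F (Fin b → F)) (hS2 : finrank F S = 2)
    (hSts : ∀ s ∈ S, ∀ s' ∈ S, fB G2 s s' = 0) :
    ∃ y z : Fin b → F, TSL G2 y z ∧ Submodule.span F {y, z} = S := by
  let bs := Module.finBasisOfFinrankEq F S hS2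
  have hy : (bs 0 : Fin b → F) ∈ S := (bs 0).2
  have hz : (bs 1 : Fin b → F) ∈ S := (bs 1).2
  have hli : LinearIndependent F ![(bs 0 : Fin b → F), (bs 1 : Fin b → F)] := by
    have h1 : LinearIndependent F (fun i => (bs i : Fin b → F)) :=
      bs.linearIndependent.map' S.subtype (Submodule.ker_subtype S)
    convert h1 using 1
    funext i
    fin_cases i <;> rfl
  refine ⟨bs 0, bs 1, ⟨hSts _ hy _ hy, hSts _ hz _ hz, hSts _ hy _ hz, hli⟩, ?_⟩
  apply Submodule.eq_of_le_of_finrank_eq
  · rw [Submodule.span_le]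
    intro x hx
    rcases hx with rfl | rfl
    · exact hy
    · exact hz
  · rw [hS2]
    have h1 := finrank_span_eq_card hli
    rw [Fintype.card_fin] at h1
    have h2 : Set.range ![(bs 0 : Fin b → F), (bs 1 : Fin b → F)] =
        ({(bs 0 : Fin b → F), (bs 1 : Fin b → F)} : Set (Fin b → F)) := by
      ext x
      simp only [Matrix.range_cons, Matrix.range_empty, Set.union_empty, Set.union_singleton,
        Set.mem_insert_iff, Set.mem_singleton_iff]
      exact or_comm
    rw [h2] at h1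
    exact h1

end Cfsg.Agent.Lib.Helper12.OTGLeaf
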