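import Mathlib
import Cfsg.Prelude.Def_ClassicalGeometry
import Cfsg.Prelude.Def_GeometricClasses
import Cfsg.Agent.Lib.Helper2.OTGDefs
import Cfsg.Agent.Lib.Helper25.OTOmega
import Cfsg.Agent.Lib.Helper25.OrthGeom
import Cfsg.Agent.Lib.Helper12.OTGG1

/-!
S5681 / S5709 PART (GA') (helper2's market), block G, leaf G4 `endgame_three` (helper12).
-/

set_option autoImplicit false
set_option linter.unusedSectionVars false
set_option linter.unusedVariables false

namespace Cfsg.Agent.Lib.Helper12.OTGLeaf
open Matrix Module QuadraticMap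
open Cfsg.Agent.Lib.Helper25.Tens Cfsg.Agent.Lib.Helper19.OSub Cfsg.Agent.Lib.Helper25.OT
open Cfsg.Agent.Lib.Helper2.SOT (fB gim mem_gim fB_add_left fB_add_right fB_smul_left fB_smul_right
  fB_comm)
open Cfsg.Agent.Lib.Helper2.OTG
open scoped Kronecker

section abstract
open Cfsg.Agent.Lib.Helper15 Cfsg.Agent.Lib.Helper25.MaxTS Cfsg.Agent.Lib.Helper25.Fam
  Cfsg.Agent.Lib.Helper25.OGeom

variable {F V : Type*} [Field F] [AddCommGroup V] [Module F V] (Q : QuadraticForm F V)

/-- the singular vectors of a nondegenerate subspace of dimension at least three span it -/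
theorem span_singular_in [Finite F] [FiniteDimensional F V] (W : Submodule F V) (hW : NdOn Q W)
    (h3 : 3 ≤ finrank F W) : W ≤ Submodule.span F {x : V | x ∈ W ∧ Q x = 0} := by
  obtain ⟨e, heW, he0, hQe⟩ := exists_singular_in Q W h3
  obtain ⟨f, hfW, hQf, hef⟩ := exists_hyp_partner Q W hW heW he0 hQe
  intro x hxW
  obtain ⟨y, hy⟩ : ∃ y, y = x - polar Q x f • e - polar Q x e • f := ⟨_, rfl⟩
  have hyW : y ∈ W := by
    rw [hy]
    exact W.sub_mem (W.sub_mem hxW (W.smul_mem _ heW)) (W.smul_mem _ hfW)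
  have hye : polar Q y e = 0 := by
    rw [hy, polar_sub_left, polar_sub_left, polar_smul_left, polar_smul_left, polar_self0 Q hQe,
      polar_comm Q f e, hef]
    simp
  have hyf : polar Q y f = 0 := by
    rw [hy, polar_sub_left, polar_sub_left, polar_smul_left, polar_smul_left, polar_self0 Q hQf,
      hef]
    simp
  have hz : Q (y - Q y • e + f) = 0 := by
    have e1 : y - Q y • e + f = (y + (-Q y) • e) + (1 : F) • f := by module
    rw [e1, Q_add_smul, Q_add_smul, hQe, hQf, polar_add_left, polar_smul_left, hye, hyf, hef]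
    simp
  have hzW : y - Q y • e + f ∈ W := W.add_mem (W.sub_mem hyW (W.smul_mem _ heW)) hfW
  have hx : x = (y - Q y • e + f) + (Q y + polar Q x f) • e + (polar Q x e - 1) • f := by
    rw [hy]
    module
  rw [hx]
  exact add_mem (add_mem (Submodule.subset_span ⟨hzW, hz⟩)
    (Submodule.smul_mem _ _ (Submodule.subset_span ⟨heW, hQe⟩)))
    (Submodule.smul_mem _ _ (Submodule.subset_span ⟨hfW, hQf⟩))

end abstract

variable {F : Type*} [Field F] [Fintype F] {a b : ℕ} {G1 : Matrix (Fin a) (Fin a) F}
  {G2 : Matrix (Fin b) (Fin b) F} {M : Subgroup (GL (Idx a b) F)}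

/-- `finrank (S ⊔ ⟨y⟩) = finrank S + 1` for `y ∉ S` -/
theorem finrank_sup_span_singleton {K W : Type*} [Field K] [AddCommGroup W] [Module K W]
    [FiniteDimensional K W] (S : Submodule K W) {y : W} (hy : y ∉ S) :
    finrank K (S ⊔ Submodule.span K {y} : Submodule K W) = finrank K S + 1 := by
  have hy0 : y ≠ 0 := by
    rintro rfl
    exact hy S.zero_mem
  have hd : Disjoint S (Submodule.span K {y}) := (Submodule.disjoint_span_singleton' hy0).2 hy
  have h1 := Submodule.finrank_sup_add_finrank_inf_eq S (Submodule.span K {y})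
  rw [hd.eq_bot, finrank_bot, add_zero, finrank_span_singleton hy0] at h1
  exact h1

/-- (G4) the case `dim S = 3` of the endgame. -/
theorem endgame_three (h : Ctx a b G1 G2) (S : Submodule F (Fin b → F)) (hS3 : finrank F S = 3) :
    ∃ y z : Fin b → F, TSL G2 y z ∧
      ¬ (finrank F (Submodule.span F {y, z} ⊔ S : Submodule F (Fin b → F)) = 4 ∧
        NondegOn G2 (Submodule.span F {y, z} ⊔ S)) := by
  by_contra hcon
  push Not at hcon
  have hQ := QB_nondeg h
  have hb := h.hb
  have hStop : S ≠ ⊤ := by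
    intro h0
    rw [h0, finrank_top, Module.finrank_fin_fun] at hS3
    omega
  obtain ⟨y, hy0, hyy, hyS⟩ := exists_sing_not_mem h S hStop
  have hQy : QB G2 y = 0 := (QB_eq_zero_iff G2 h.two y).2 hyy
  obtain ⟨T, hTdef⟩ : ∃ T : Submodule F (Fin b → F), T = S ⊔ Submodule.span F {y} := ⟨_, rfl⟩
  have hT4 : finrank F T = 4 := by
    rw [hTdef, finrank_sup_span_singleton S hyS, hS3]
  have hST : S ≤ T := by rw [hTdef]; exact le_sup_left
  have hyT : y ∈ T := by
    rw [hTdef]
    exact Submodule.mem_sup_right (Submodule.mem_span_singleton_self y)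
  -- for a t.s. line through `y` the span with `S` is `T`
  have hline : ∀ z, TSL G2 y z → Submodule.span F {y, z} ⊔ S = T := by
    intro z hz
    symm
    apply Submodule.eq_of_le_of_finrank_eq
    · rw [hTdef]
      apply sup_le le_sup_right
      apply le_sup_of_le_left
      apply Submodule.span_mono
      intro x hx
      rw [Set.mem_singleton_iff] at hx
      rw [hx]
      exact Set.mem_insert _ _
    · rw [hT4, (hcon y z hz).1]
  -- every singular vector of `y^⊥` lies in `T`
  have hclaim : ∀ x : Fin b → F, QB G2 x = 0 → polar (QB G2) y x = 0 → x ∈ T := by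
    intro x hQx hyx
    by_cases hx : x ∈ Submodule.span F {y}
    · rw [hTdef]
      exact Submodule.mem_sup_right hx
    · have hli : LinearIndependent F ![y, x] := by
        rw [LinearIndependent.pair_iff' hy0]
        intro c hc
        apply hx
        rw [Submodule.mem_span_singleton]
        exact ⟨c, hc⟩
      have hz : TSL G2 y x := ⟨hyy, (QB_eq_zero_iff G2 h.two x).1 hQx, by
        rw [← polar_QB h.symm2 h.two]; exact hyx, hli⟩
      rw [← hline x hz]
      apply Submodule.mem_sup_left
      apply Submodule.subset_span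
      exact Set.mem_insert_of_mem _ rfl
  -- hyperbolic partner and `U = ⟨y, s⟩^⊥`
  obtain ⟨s, hQs, hys⟩ := Cfsg.Agent.Lib.Helper25.Fam.exists_sing_partner (QB G2) hQ hy0 hQy
  have hUnd := Cfsg.Agent.Lib.Helper15.perpPair_nd (QB G2) ⊤
    (Cfsg.Agent.Lib.Helper15.ndOn_top (QB G2) hQ) (e := y) (f := s) Submodule.mem_top
    Submodule.mem_top hQy hQs hys
  have hUfr := Cfsg.Agent.Lib.Helper15.perpPair_finrank (QB G2) ⊤ (e := y) (f := s)
    Submodule.mem_top Submodule.mem_top hQy hQs hys
  rw [finrank_top, Module.finrank_fin_fun] at hUfr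
  obtain ⟨U, hUdef⟩ : ∃ U : Submodule F (Fin b → F),
      U = Cfsg.Agent.Lib.Helper15.perpPair (QB G2) ⊤ y s := ⟨_, rfl⟩
  rw [← hUdef] at hUnd hUfr
  have hUmem : ∀ x, x ∈ U ↔ polar (QB G2) y x = 0 ∧ polar (QB G2) s x = 0 := by
    intro x
    rw [hUdef, Cfsg.Agent.Lib.Helper15.mem_perpPair]
    simp
  have hUT : U ≤ T := by
    refine (span_singular_in (QB G2) U hUnd (by omega)).trans ?_
    rw [Submodule.span_le]
    rintro x ⟨hxU, hQx⟩
    exact hclaim x hQx ((hUmem x).1 hxU).1
  have hyU : y ∉ U := by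
    intro hyU
    have := ((hUmem y).1 hyU).2
    rw [polar_comm, hys] at this
    exact one_ne_zero this
  have hPT : U ⊔ Submodule.span F {y} = T := by
    apply Submodule.eq_of_le_of_finrank_le
    · apply sup_le hUT
      rw [Submodule.span_le]
      intro x hx
      rw [Set.mem_singleton_iff] at hx
      rw [hx]
      exact hyT
    · rw [hT4, finrank_sup_span_singleton U hyU]
      omega
  -- `y` is in the radical of `T`
  have hrad : ∀ d ∈ T, fB G2 y d = 0 := by
    intro d hd
    rw [← hPT, Submodule.mem_sup] at hd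
    obtain ⟨u, hu, w, hw, rfl⟩ := hd
    rw [Submodule.mem_span_singleton] at hw
    obtain ⟨c, rfl⟩ := hw
    rw [fB_add_right, fB_smul_right, hyy, mul_zero, add_zero, ← polar_QB h.symm2 h.two]
    exact ((hUmem u).1 hu).1
  obtain ⟨z0, hz0⟩ := exists_TSL_of_sing h y hy0 hyy
  have hnd := (hcon y z0 hz0).2
  rw [hline z0 hz0] at hnd
  exact hy0 (hnd y hyT hrad)

end Cfsg.Agent.Lib.Helper12.OTGLeaf
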