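import Mathlib
import Cfsg.Prelude.Def_ClassicalGeometry
import Cfsg.Prelude.Def_GeometricClasses
import Cfsg.Agent.Lib.Helper2.OTGDefs
import Cfsg.Agent.Lib.Helper2.OTGW
import Cfsg.Agent.Lib.Helper12.OTGG4

/-!
S5681 / S5709 PART (GA') (helper2's market), block G, leaf G5 `endgame` (helper12).
-/

set_option autoImplicit false
set_option linter.unusedSectionVars false
set_option linter.unusedVariables false

namespace Cfsg.Agent.Lib.Helper12.OTGLeaf
open Matrix Module QuadraticMap
open Cfsg.Agent.Lib.Helper25.Tens Cfsg.Agent.Lib.Helper19.OSub Cfsg.Agent.Lib.Helper25.OT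
open Cfsg.Agent.Lib.Helper2.SOT (fB gim mem_gim fB_add_left fB_add_right fB_smul_left fB_smul_right
  fB_comm)
open Cfsg.Agent.Lib.Helper2.OTG
open scoped Kronecker

variable {F : Type*} [Field F] [Fintype F] {a b : ℕ} {G1 : Matrix (Fin a) (Fin a) F}
  {G2 : Matrix (Fin b) (Fin b) F} {M : Subgroup (GL (Idx a b) F)}

/-- `g W` has the dimension of `W` -/
theorem finrank_gim (g : GL (Idx a b) F) (W : Submodule F (Idx a b → F)) :
    finrank F (gim g W) = finrank F W := by
  unfold gim
  have hinj : Function.Injective (Matrix.toLin' (g : Matrix (Idx a b) (Idx a b) F)) := by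
    intro v w hvw
    have h1 := congrArg (fun u => ((g⁻¹ : GL (Idx a b) F) : Matrix (Idx a b) (Idx a b) F) *ᵥ u) hvw
    simp only [Matrix.toLin'_apply, Matrix.mulVec_mulVec, ← Units.val_mul, inv_mul_cancel,
      Units.val_one, Matrix.one_mulVec] at h1
    exact h1
  exact (Submodule.equivMapOfInjective _ hinj W).finrank_eq.symm

/-- (G5) the endgame: `S(L)` cannot hold for all t.s. lines `L`. -/
theorem endgame (h : Ctx a b G1 G2) {y' z' : Fin b → F} (hL' : TSL G2 y' z')
    (g : GL (Idx a b) F) (hg : g ∈ OV G1 G2)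
    (hall : ∀ y z : Fin b → F, TSL G2 y z → SLs G2 y z g y' z') : False := by
  have ha : 0 < a := by have := h.ha; omega
  have hb := h.hb
  obtain ⟨W', hW'def⟩ : ∃ W' : Submodule F (Idx a b → F), W' = gim g (WL y' z') := ⟨_, rfl⟩
  have hW'fr : finrank F W' = 2 * a := by
    rw [hW'def, finrank_gim, Cfsg.Agent.Lib.Helper2.OTGLeaf.finrank_WL hL']
  obtain ⟨S, hSdef⟩ : ∃ S : Submodule F (Fin b → F), S = suppB W' := ⟨_, rfl⟩
  have hW'S : W' ≤ AT S := by
    rw [hSdef]
    exact le_AT_suppB W'
  -- (*) for every t.s. line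
  have hstar : ∀ y z : Fin b → F, TSL G2 y z →
      finrank F (Submodule.span F {y, z} ⊔ S : Submodule F (Fin b → F)) = 4 ∧
        NondegOn G2 (Submodule.span F {y, z} ⊔ S) := by
    intro y z hL
    obtain ⟨hK, D, hDnd, hsup⟩ := hall y z hL
    rw [← hW'def] at hK hsup
    have hWLfr := Cfsg.Agent.Lib.Helper2.OTGLeaf.finrank_WL (a := a) hL
    have hD4 : finrank F D = 4 := by
      have h1 := Submodule.finrank_sup_add_finrank_inf_eq (WL y z : Submodule F (Idx a b → F)) W'
      rw [hK, finrank_bot, add_zero, hsup, finrank_AT, hWLfr, hW'fr] at h1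
      have h2 : a * finrank F D = a * 4 := by omega
      exact Nat.eq_of_mul_eq_mul_left ha h2
    have hSD : S ≤ D := by
      rw [hSdef]
      apply suppB_le
      rw [← hsup]
      exact le_sup_right
    have hLD : Submodule.span F {y, z} ≤ D := by
      rw [← AT_le_AT_iff (a := a) ha, ← Cfsg.Agent.Lib.Helper2.OTGLeaf.WL_eq_AT, ← hsup]
      exact le_sup_left
    have hDle : D ≤ Submodule.span F {y, z} ⊔ S := by
      rw [← AT_le_AT_iff (a := a) ha, ← hsup]
      apply sup_le
      · rw [Cfsg.Agent.Lib.Helper2.OTGLeaf.WL_eq_AT]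
        exact AT_mono le_sup_left
      · exact hW'S.trans (AT_mono le_sup_right)
    have hDeq : Submodule.span F {y, z} ⊔ S = D := le_antisymm (sup_le hLD hSD) hDle
    rw [hDeq]
    exact ⟨hD4, hDnd⟩
  -- `2 ≤ dim S ≤ 4`
  have hS2 : 2 ≤ finrank F S := by
    have h1 := Submodule.finrank_mono hW'S
    rw [hW'fr, finrank_AT, mul_comm 2 a] at h1
    exact Nat.le_of_mul_le_mul_left h1 ha
  have hS4 : finrank F S ≤ 4 := by
    have h1 := (hstar y' z' hL').1
    rw [← h1]
    exact Submodule.finrank_mono le_sup_right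
  have hcases : finrank F S = 2 ∨ finrank F S = 3 ∨ finrank F S = 4 := by omega
  rcases hcases with h2 | h3 | h4
  · -- `dim S = 2`: `W' = A ⊗ S`, `S` totally singular
    have hW'eq : W' = AT S := by
      apply Submodule.eq_of_le_of_finrank_eq hW'S
      rw [hW'fr, finrank_AT, h2, mul_comm]
    have hW'ts : ∀ w ∈ W', ∀ w' ∈ W', fV G1 G2 w w' = 0 := by
      intro w hw w' hw'
      rw [hW'def, mem_gim] at hw hw'
      obtain ⟨v, hv, rfl⟩ := hw
      obtain ⟨v', hv', rfl⟩ := hw'
      rw [fV_mv h.symm1 h.symm2 h.two hg]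
      exact Cfsg.Agent.Lib.Helper2.OTGLeaf.WL_isotropic h hL' hv v' hv'
    obtain ⟨i, j, hij⟩ : ∃ i j, G1 i j ≠ 0 := by
      by_contra hcon
      push Not at hcon
      have h0 : G1 = 0 := by
        ext i j
        exact hcon i j
      haveI : Nonempty (Fin a) := ⟨⟨0, ha⟩⟩
      exact h.nd1 (by rw [h0]; exact Matrix.det_zero)
    have hSts : ∀ s ∈ S, ∀ s' ∈ S, fB G2 s s' = 0 := by
      intro s hs s' hs'
      have h1 : pt (Pi.single i (1 : F)) s ∈ W' := by
        rw [hW'eq]
        exact pt_mem_AT _ hs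
      have h2' : pt (Pi.single j (1 : F)) s' ∈ W' := by
        rw [hW'eq]
        exact pt_mem_AT _ hs'
      have h3 := hW'ts _ h1 _ h2'
      rw [fV_pt] at h3
      have h4 : fB G1 (Pi.single i (1 : F)) (Pi.single j (1 : F)) = G1 i j := by
        unfold fB
        simp
      rw [h4] at h3
      rcases mul_eq_zero.1 h3 with h5 | h5
      · exact absurd h5 hij
      · exact h5
    obtain ⟨y₁, z₁, hL₁, hspan⟩ := exists_TSL_span h S h2 hSts
    have h5 := (hstar y₁ z₁ hL₁).1
    rw [hspan, sup_idem, h2] at h5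
    omega
  · -- `dim S = 3`
    obtain ⟨y, z, hL, hnot⟩ := endgame_three h S h3
    exact hnot (hstar y z hL)
  · -- `dim S = 4`: every t.s. line lies in `S`
    have hStop : S ≠ ⊤ := by
      intro h0
      rw [h0, finrank_top, Module.finrank_fin_fun] at h4
      omega
    obtain ⟨y, hy0, hyy, hyS⟩ := exists_sing_not_mem h S hStop
    obtain ⟨z, hL⟩ := exists_TSL_of_sing h y hy0 hyy
    have h5 := (hstar y z hL).1
    have h6 : S = Submodule.span F {y, z} ⊔ S := by
      apply Submodule.eq_of_le_of_finrank_eq le_sup_right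
      rw [h4, h5]
    apply hyS
    rw [h6]
    apply Submodule.mem_sup_left
    apply Submodule.subset_span
    exact Set.mem_insert _ _

end Cfsg.Agent.Lib.Helper12.OTGLeaf
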