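import Mathlib
import Cfsg.Agent.Lib.Helper2.SOTDefs
import Cfsg.Agent.Lib.Helper27.SOTLADefs
import Cfsg.Agent.Lib.Helper13.OTUCalc
import Cfsg.Agent.Lib.Helper13.OTLADefs
import Cfsg.Agent.Lib.Helper28.SOTBDefs
import Cfsg.Agent.Lib.Helper28.SOTBKB
import Cfsg.Agent.Lib.Helper29.OTLAC0
import Cfsg.Agent.Lib.Helper15.OTLAR11

/-!
S5681 + S5709 (LA') (sub-market of helper13), leaves (P1a) `exists_yel` and (P1b) `exists_yel'` of
`notes/S5681_LA_leaves.lean` (exact signatures): the elements `y_v = 1 ⊗ η_{e_o,v}`, `y'_v = 1 ⊗ η_{e_o',v}` of `M`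
(`v ∈ B₀`), with their blocks.  By-products: `isOrthB_of_fB`, `isIso_kel_one_of_orth`, `yel_blk` (all blocks of
`1 ⊗ η_{e_z,v}` for a hyperbolic index pair `(z, w)`).
-/

set_option autoImplicit false
set_option linter.unusedSectionVars false
set_option linter.unusedVariables false

namespace Cfsg.Agent.Lib.Helper12.OTLALeaf
open Matrix
open Cfsg.Agent.Lib.Helper25.Tens Cfsg.Agent.Lib.Helper19.OSub
open Cfsg.Agent.Lib.Helper2.SOT Cfsg.Agent.Lib.Helper27.SOTLA Cfsg.Agent.Lib.Helper13.OTU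
open Cfsg.Agent.Lib.Helper13.OTLA
open Cfsg.Agent.Lib.Helper28.SOTB
open scoped Kronecker

variable {F : Type*} [Field F] [Fintype F] {a b : ℕ} {G₁ : Matrix (Fin a) (Fin a) F}
  {G₂ : Matrix (Fin b) (Fin b) F} {o o' p p' : Fin b} {Om M : Subgroup (GL (Idx a b) F)}

/-- a matrix preserving `fB G₂` is orthogonal (matrix form) -/
lemma isOrthB_of_fB {β : Matrix (Fin b) (Fin b) F}
    (h : ∀ y y' : Fin b → F, fB G₂ (β *ᵥ y) (β *ᵥ y') = fB G₂ y y') : IsOrthB G₂ β := by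
  unfold IsOrthB
  ext k l
  have e := h (Pi.single k 1) (Pi.single l 1)
  unfold fB at e
  rw [Matrix.mulVec_mulVec, Matrix.dotProduct_mulVec, Matrix.vecMul_mulVec,
    Matrix.dotProduct_mulVec, Matrix.single_one_vecMul, Matrix.single_one_vecMul,
    dotProduct_single_one, dotProduct_single_one] at e
  rw [Matrix.mul_assoc]
  exact e

/-- `1 ⊗ β` is an isometry of `G₁ ⊗ G₂` if `β` is orthogonal for `G₂` -/
lemma isIso_kel_one_of_orth (β : GL (Fin b) F) (hβ : IsOrthB G₂ β.1) :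
    IsIso G₁ G₂ (kel (1 : GL (Fin a) F) β : GL (Idx a b) F).1 := by
  unfold IsIso KM
  unfold IsOrthB at hβ
  rw [kel_val, Units.val_one, ← Matrix.kroneckerMap_transpose, Matrix.transpose_one,
    ← Matrix.mul_kronecker_mul, ← Matrix.mul_kronecker_mul, Matrix.one_mul, Matrix.mul_one, hβ]

/-- all blocks of `1 ⊗ η_{e_z,v}`, `(z, w)` a hyperbolic index pair, `v w = 0` -/
lemma yel_blk (hs2 : G₂ᵀ = G₂) (h2 : (2 : F) ≠ 0) {z w : Fin b} (hN : NormG G₂ z w) (v : Fin b → F)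
    (hvw : v w = 0) (k l : Fin b) :
    blk (kel (1 : GL (Fin a) F) (etaGL G₂ (Pi.single z 1) v) : GL (Idx a b) F).1 k l =
      ((if k = l then 1 else 0) + (if l = w then v k else 0) - (if k = z then (G₂ *ᵥ v) l else 0) -
        (if l = w ∧ k = z then fB G₂ v v / 2 else 0)) • (1 : Matrix (Fin a) (Fin a) F) := by
  rw [kel_val, Units.val_one, blk_kron,
    Cfsg.Agent.Lib.Helper28.SOTBLeaf.etaGL_entry hs2 h2 hN v hvw]

/-- `1 ⊗ η_{e_z,v}` is an isometry -/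
lemma yel_iso (hs2 : G₂ᵀ = G₂) (h2 : (2 : F) ≠ 0) {z w : Fin b} (hN : NormG G₂ z w) (v : Fin b → F)
    (hvw : v w = 0) :
    IsIso G₁ G₂ (kel (1 : GL (Fin a) F) (etaGL G₂ (Pi.single z 1) v) : GL (Idx a b) F).1 := by
  have hz : fB G₂ (Pi.single z (1 : F)) (Pi.single z 1) = 0 := hN.fB_oo hs2
  have hzv : fB G₂ (Pi.single z (1 : F)) v = 0 := by
    rw [fB_single_left, hN.mulVec_o, hvw]
  exact isIso_kel_one_of_orth _ (isOrthB_of_fB (fun y y' => etaGL_isom hs2 h2 hz hzv y y'))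

/-- (P1a) the elements `y_v = 1 ⊗ η_{e_o,v}` of `Y`, `v ∈ B₀`: `θ`-part `v` in column `p`, `ρ`-part `-(G₂ v)` in row `o`. -/
theorem exists_yel (h : LBase G₁ G₂ o o' p p' Om M) (v : Fin b → F) (hv : IsB0 o o' p p' v) :
    ∃ y : GL (Idx a b) F, y ∈ M ∧ y ∈ KG a b F ∧ UL o o' p p' y.1 ∧
      (∀ m : Fin b, cls o o' p p' m = 1 → blk y.1 m p = v m • (1 : Matrix (Fin a) (Fin a) F)) ∧
      (∀ m : Fin b, cls o o' p p' m = 1 → blk y.1 m p' = 0) ∧
      (∀ m : Fin b, cls o o' p p' m = 1 →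
        blk y.1 o m = (-((G₂ *ᵥ v) m)) • (1 : Matrix (Fin a) (Fin a) F)) ∧
      (∀ m : Fin b, cls o o' p p' m = 1 → blk y.1 o' m = 0) := by
  have hA := h.adp
  have hs2 := h.symm2
  have h2 := h.two
  obtain ⟨hvo, hvo', hvp, hvp'⟩ := hv
  have hN : NormG G₂ o p := ⟨hA.hop, hA.row_o, hA.row_p⟩
  have hN' : NormG G₂ o' p' := ⟨hA.ho'p', hA.row_o', hA.row_p'⟩
  have hGo : (G₂ *ᵥ v) o = 0 := by rw [hN.mulVec_o, hvp]
  have hGo' : (G₂ *ᵥ v) o' = 0 := by rw [hN'.mulVec_o, hvp']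
  have hK : (kel (1 : GL (Fin a) F) (etaGL G₂ (Pi.single o 1) v) : GL (Idx a b) F) ∈ KG a b F :=
    kel_mem_KG _ _
  have hU : UL o o' p p' (kel (1 : GL (Fin a) F) (etaGL G₂ (Pi.single o 1) v) : GL (Idx a b) F).1 := by
    intro k l hkl
    rw [yel_blk hs2 h2 hN v hvp]
    have hkl' : ¬ ((k = o ∨ k = o') ∧ ¬ (l = o ∨ l = o')) ∧ ¬ ((l = p ∨ l = p') ∧ ¬ (k = p ∨ k = p')) := by
      constructor
      · intro hc
        exact hkl (Or.inl ⟨(Cfsg.Agent.Lib.Helper29.OTLALeaf.mem_TL o o' k).2 hc.1,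
          fun hl => hc.2 ((Cfsg.Agent.Lib.Helper29.OTLALeaf.mem_TL o o' l).1 hl)⟩)
      · intro hc
        exact hkl (Or.inr ⟨(Cfsg.Agent.Lib.Helper29.OTLALeaf.mem_TL p p' l).2 hc.1,
          fun hl => hc.2 ((Cfsg.Agent.Lib.Helper29.OTLALeaf.mem_TL p p' k).1 hl)⟩)
    obtain ⟨h1, h3⟩ := hkl'
    by_cases hlp : l = p
    · subst hlp
      have hk : k = l ∨ k = p' := by
        by_contra hc
        exact h3 ⟨Or.inl rfl, hc⟩
      have hko : k ≠ o := by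
        rcases hk with hk | hk
        · rw [hk]; exact hA.hop.symm
        · rw [hk]; exact hA.hop'.symm
      have hvk : v k = 0 := by
        rcases hk with hk | hk
        · rw [hk]; exact hvp
        · rw [hk]; exact hvp'
      simp [hko, hvk]
    · by_cases hko : k = o
      · subst hko
        have hl : l = k ∨ l = o' := by
          by_contra hc
          exact h1 ⟨Or.inl rfl, hc⟩
        have hGl : (G₂ *ᵥ v) l = 0 := by
          rcases hl with hl | hl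
          · rw [hl]; exact hGo
          · rw [hl]; exact hGo'
        simp [hlp, hGl]
      · simp [hlp, hko]
  refine ⟨kel (1 : GL (Fin a) F) (etaGL G₂ (Pi.single o 1) v),
    Cfsg.Agent.Lib.Helper15.OTLALeaf.uform_KG_mem_M h hK (yel_iso hs2 h2 hN v hvp) hU, hK, hU,
    ?_, ?_, ?_, ?_⟩
  · intro m hm
    obtain ⟨hmo, hmo', hmp, hmp'⟩ := (Cfsg.Agent.Lib.Helper29.OTLALeaf.cls_eq_one_iff hA m).1 hm
    rw [yel_blk hs2 h2 hN v hvp]
    simp [hmo, hmp]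
  · intro m hm
    obtain ⟨hmo, hmo', hmp, hmp'⟩ := (Cfsg.Agent.Lib.Helper29.OTLALeaf.cls_eq_one_iff hA m).1 hm
    rw [yel_blk hs2 h2 hN v hvp]
    simp [hmo, hmp', hA.hpp'.symm]
  · intro m hm
    obtain ⟨hmo, hmo', hmp, hmp'⟩ := (Cfsg.Agent.Lib.Helper29.OTLALeaf.cls_eq_one_iff hA m).1 hm
    rw [yel_blk hs2 h2 hN v hvp]
    simp [Ne.symm hmo, hmp]
  · intro m hm
    obtain ⟨hmo, hmo', hmp, hmp'⟩ := (Cfsg.Agent.Lib.Helper29.OTLALeaf.cls_eq_one_iff hA m).1 hm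
    rw [yel_blk hs2 h2 hN v hvp]
    simp [Ne.symm hmo', hmp, hA.hoo'.symm]

/-- (P1b) the same at `(o', p')`: `y'_v = 1 ⊗ η_{e_o',v}`. -/
theorem exists_yel' (h : LBase G₁ G₂ o o' p p' Om M) (v : Fin b → F) (hv : IsB0 o o' p p' v) :
    ∃ y : GL (Idx a b) F, y ∈ M ∧ y ∈ KG a b F ∧ UL o o' p p' y.1 ∧
      (∀ m : Fin b, cls o o' p p' m = 1 → blk y.1 m p = 0) ∧
      (∀ m : Fin b, cls o o' p p' m = 1 → blk y.1 m p' = v m • (1 : Matrix (Fin a) (Fin a) F)) ∧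
      (∀ m : Fin b, cls o o' p p' m = 1 → blk y.1 o m = 0) ∧
      (∀ m : Fin b, cls o o' p p' m = 1 →
        blk y.1 o' m = (-((G₂ *ᵥ v) m)) • (1 : Matrix (Fin a) (Fin a) F)) := by
  have hA := h.adp
  have hs2 := h.symm2
  have h2 := h.two
  obtain ⟨hvo, hvo', hvp, hvp'⟩ := hv
  have hN : NormG G₂ o p := ⟨hA.hop, hA.row_o, hA.row_p⟩
  have hN' : NormG G₂ o' p' := ⟨hA.ho'p', hA.row_o', hA.row_p'⟩
  have hGo : (G₂ *ᵥ v) o = 0 := by rw [hN.mulVec_o, hvp]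
  have hGo' : (G₂ *ᵥ v) o' = 0 := by rw [hN'.mulVec_o, hvp']
  have hK : (kel (1 : GL (Fin a) F) (etaGL G₂ (Pi.single o' 1) v) : GL (Idx a b) F) ∈ KG a b F :=
    kel_mem_KG _ _
  have hU : UL o o' p p' (kel (1 : GL (Fin a) F) (etaGL G₂ (Pi.single o' 1) v) : GL (Idx a b) F).1 := by
    intro k l hkl
    rw [yel_blk hs2 h2 hN' v hvp']
    have hkl' : ¬ ((k = o ∨ k = o') ∧ ¬ (l = o ∨ l = o')) ∧ ¬ ((l = p ∨ l = p') ∧ ¬ (k = p ∨ k = p')) := by
      constructor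
      · intro hc
        exact hkl (Or.inl ⟨(Cfsg.Agent.Lib.Helper29.OTLALeaf.mem_TL o o' k).2 hc.1,
          fun hl => hc.2 ((Cfsg.Agent.Lib.Helper29.OTLALeaf.mem_TL o o' l).1 hl)⟩)
      · intro hc
        exact hkl (Or.inr ⟨(Cfsg.Agent.Lib.Helper29.OTLALeaf.mem_TL p p' l).2 hc.1,
          fun hl => hc.2 ((Cfsg.Agent.Lib.Helper29.OTLALeaf.mem_TL p p' k).1 hl)⟩)
    obtain ⟨h1, h3⟩ := hkl'
    by_cases hlp : l = p'
    · subst hlp
      have hk : k = p ∨ k = l := by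
        by_contra hc
        exact h3 ⟨Or.inr rfl, hc⟩
      have hko : k ≠ o' := by
        rcases hk with hk | hk
        · rw [hk]; exact hA.ho'p.symm
        · rw [hk]; exact hA.ho'p'.symm
      have hvk : v k = 0 := by
        rcases hk with hk | hk
        · rw [hk]; exact hvp
        · rw [hk]; exact hvp'
      simp [hko, hvk]
    · by_cases hko : k = o'
      · subst hko
        have hl : l = o ∨ l = k := by
          by_contra hc
          exact h1 ⟨Or.inr rfl, hc⟩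
        have hGl : (G₂ *ᵥ v) l = 0 := by
          rcases hl with hl | hl
          · rw [hl]; exact hGo
          · rw [hl]; exact hGo'
        simp [hlp, hGl]
      · simp [hlp, hko]
  refine ⟨kel (1 : GL (Fin a) F) (etaGL G₂ (Pi.single o' 1) v),
    Cfsg.Agent.Lib.Helper15.OTLALeaf.uform_KG_mem_M h hK (yel_iso hs2 h2 hN' v hvp') hU, hK, hU,
    ?_, ?_, ?_, ?_⟩
  · intro m hm
    obtain ⟨hmo, hmo', hmp, hmp'⟩ := (Cfsg.Agent.Lib.Helper29.OTLALeaf.cls_eq_one_iff hA m).1 hm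
    rw [yel_blk hs2 h2 hN' v hvp']
    simp [hmo', hmp, hA.hpp']
  · intro m hm
    obtain ⟨hmo, hmo', hmp, hmp'⟩ := (Cfsg.Agent.Lib.Helper29.OTLALeaf.cls_eq_one_iff hA m).1 hm
    rw [yel_blk hs2 h2 hN' v hvp']
    simp [hmo', hmp']
  · intro m hm
    obtain ⟨hmo, hmo', hmp, hmp'⟩ := (Cfsg.Agent.Lib.Helper29.OTLALeaf.cls_eq_one_iff hA m).1 hm
    rw [yel_blk hs2 h2 hN' v hvp']
    simp [Ne.symm hmo, hmp', hA.hoo']
  · intro m hm
    obtain ⟨hmo, hmo', hmp, hmp'⟩ := (Cfsg.Agent.Lib.Helper29.OTLALeaf.cls_eq_one_iff hA m).1 hm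
    rw [yel_blk hs2 h2 hN' v hvp']
    simp [Ne.symm hmo', hmp']

end Cfsg.Agent.Lib.Helper12.OTLALeaf
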