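import Mathlib
import Cfsg.Agent.Lib.Helper20.ActionBridge
import Cfsg.Agent.S0058

/-!
# Groups of automorphisms of odd prime power order acting on finite `2`-groups (basic tools)

`fixOf e`, `fixAll E`, invariant subgroups, the fixed point lemma for invariant subsets and the
generation lemma for noncyclic abelian coprime actions in `MulAut` form.
-/

set_option autoImplicit false

namespace Cfsg.Agent.Lib.Helper12.OddTwo

open Subgroup

variable {W : Type*} [Group W]

/-- fixed points of one automorphism -/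
def fixOf (e : MulAut W) : Subgroup W where
  carrier := {x | e x = x}
  mul_mem' := by
    intro a b ha hb
    simp only [Set.mem_ofPred_eq] at *
    rw [map_mul, ha, hb]
  one_mem' := map_one e
  inv_mem' := by
    intro a ha
    simp only [Set.mem_ofPred_eq] at *
    rw [map_inv, ha]

theorem mem_fixOf {e : MulAut W} {x : W} : x ∈ fixOf e ↔ e x = x := Iff.rfl

/-- common fixed points of a group of automorphisms -/
def fixAll (E : Subgroup (MulAut W)) : Subgroup W where
  carrier := {x | ∀ e ∈ E, e x = x}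
  mul_mem' := by
    intro a b ha hb e he
    rw [map_mul, ha e he, hb e he]
  one_mem' := fun e _ => map_one e
  inv_mem' := by
    intro a ha e he
    rw [map_inv, ha e he]

theorem mem_fixAll {E : Subgroup (MulAut W)} {x : W} : x ∈ fixAll E ↔ ∀ e ∈ E, e x = x := Iff.rfl

/-- `X` is invariant under `E` -/
def Inv (E : Subgroup (MulAut W)) (X : Subgroup W) : Prop := ∀ e ∈ E, ∀ x ∈ X, e x ∈ X

variable {E : Subgroup (MulAut W)}

theorem Inv.apply_mem_iff {X : Subgroup W} (hX : Inv E X) {e : MulAut W} (he : e ∈ E) (x : W) :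
    e x ∈ X ↔ x ∈ X := by
  constructor
  · intro h
    have := hX e⁻¹ (E.inv_mem he) _ h
    rwa [MulAut.inv_apply_self] at this
  · exact hX e he x

theorem Inv.inf {X Y : Subgroup W} (hX : Inv E X) (hY : Inv E Y) : Inv E (X ⊓ Y) :=
  fun e he x hx => ⟨hX e he x hx.1, hY e he x hx.2⟩

theorem inv_top : Inv E (⊤ : Subgroup W) := fun _ _ _ _ => Subgroup.mem_top _

theorem inv_fixAll : Inv E (fixAll E) := by
  intro e he x hx
  rw [mem_fixAll.mp hx e he]
  exact hx

theorem inv_fixOf (hab : ∀ a ∈ E, ∀ b ∈ E, a * b = b * a) {e : MulAut W} (he : e ∈ E) :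
    Inv E (fixOf e) := by
  intro f hf x hx
  rw [mem_fixOf] at hx ⊢
  have h1 : (e * f) x = (f * e) x := by rw [hab e he f hf]
  rw [MulAut.mul_apply, MulAut.mul_apply, hx] at h1
  exact h1

theorem Inv.centralizer {X : Subgroup W} (hX : Inv E X) : Inv E (Subgroup.centralizer (X : Set W)) := by
  intro e he c hc
  rw [Subgroup.mem_centralizer_iff] at hc ⊢
  intro y hy
  have hy' : e⁻¹ y ∈ X := hX e⁻¹ (E.inv_mem he) y hy
  have h1 := hc (e⁻¹ y) hy'
  have h2 := congrArg e h1
  rw [map_mul, map_mul, MulAut.apply_inv_self] at h2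
  exact h2

theorem inv_center : Inv E (Subgroup.center W) := by
  intro e he c hc
  rw [Subgroup.mem_center_iff] at hc ⊢
  intro y
  have h1 := hc (e⁻¹ y)
  have h2 := congrArg e h1
  rw [map_mul, map_mul, MulAut.apply_inv_self] at h2
  exact h2

theorem Inv.mono {E' : Subgroup (MulAut W)} {X : Subgroup W} (hX : Inv E X) (h : E' ≤ E) :
    Inv E' X := fun e he x hx => hX e (h he) x hx

/-- **Fixed point lemma.**  A `p`-group of automorphisms stabilizing a finite set whose size is
prime to `p` fixes a point of it. -/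
theorem exists_fixed_of_invariant [Finite W] {p : ℕ} [Fact p.Prime]
    (E : Subgroup (MulAut W)) (hE : IsPGroup p ↥E) (S : Set W)
    (hS : ∀ e ∈ E, ∀ s ∈ S, e s ∈ S) (hcard : ¬ p ∣ S.ncard) :
    ∃ s ∈ S, ∀ e ∈ E, e s = s := by
  let A : SubMulAction ↥E W :=
    { carrier := S
      smul_mem' := fun e s hs => hS e e.2 s hs }
  have hc : Nat.card ↥A = S.ncard := Nat.card_coe_set_eq S
  obtain ⟨⟨s, hs⟩, hfix⟩ := hE.nonempty_fixed_point_of_prime_not_dvd_card ↥A (by rw [hc]; exact hcard)
  refine ⟨s, hs, fun e he => ?_⟩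
  have := hfix ⟨e, he⟩
  exact congrArg Subtype.val this

/-- **Generation lemma** for a noncyclic abelian group of automorphisms of coprime order. -/
theorem le_of_forall_inf_fixOf_le [Finite W] (E : Subgroup (MulAut W))
    (hab : ∀ a ∈ E, ∀ b ∈ E, a * b = b * a) (hnc : ¬ IsCyclic ↥E)
    (X P : Subgroup W) (hX : Inv E X) (hcop : (Nat.card ↥E).Coprime (Nat.card ↥X))
    (h : ∀ e ∈ E, e ≠ 1 → X ⊓ fixOf e ≤ P) : X ≤ P := by
  classical
  let ι : W →* Cfsg.Agent.Lib.Helper20.Sd ↥E W := SemidirectProduct.inl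
  have hι : Function.Injective ι := SemidirectProduct.inl_injective
  let A := Cfsg.Agent.Lib.Helper20.sdA ↥E W
  let K := X.map ι
  let eA : ↥E ≃* ↥A := MonoidHom.ofInjective
    (SemidirectProduct.inr_injective (φ := MulDistribMulAction.toMulAut ↥E W))
  haveI : IsMulCommutative ↥A := by
    refine ⟨⟨?_⟩⟩
    intro a b
    obtain ⟨a', rfl⟩ := eA.surjective a
    obtain ⟨b', rfl⟩ := eA.surjective b
    rw [← map_mul, ← map_mul]
    congr 1
    apply Subtype.ext
    exact hab a' a'.2 b' b'.2
  have hncA : ¬ IsCyclic ↥A := by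
    intro hc
    exact hnc (isCyclic_of_surjective eA.symm.toMonoidHom eA.symm.surjective)
  have hAK : A ≤ Subgroup.normalizer (K : Set _) := by
    have := (Cfsg.Agent.Lib.Helper20.sd_invariant_iff (A := ↥E) (G := W) X).mp
      (fun a x hx => hX a a.2 x hx)
    exact this
  have hcard : (Nat.card ↥A).Coprime (Nat.card ↥K) := by
    rw [Cfsg.Agent.Lib.Helper20.card_sdA, Subgroup.card_map_of_injective hι]
    exact hcop
  have hgen := Cfsg.Agent.S0058.result A K hncA hAK hcard
  intro x hx
  have hxK : ι x ∈ K := Subgroup.mem_map_of_mem _ hx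
  rw [← hgen] at hxK
  have hle : (⨆ a ∈ {a | a ∈ A ∧ a ≠ 1}, K ⊓ Subgroup.centralizer {a}) ≤ P.map ι := by
    apply iSup₂_le
    rintro a ⟨⟨e, rfl⟩, hne⟩ y ⟨⟨w, hw, rfl⟩, hyc⟩
    have he1 : (e : MulAut W) ≠ 1 := by
      intro h1
      apply hne
      have : e = 1 := Subtype.ext h1
      rw [this, map_one]
    have hyc' : ι w ∈ Subgroup.centralizer {(SemidirectProduct.inr e :
        Cfsg.Agent.Lib.Helper20.Sd ↥E W)} := hyc
    rw [Subgroup.mem_centralizer_singleton_iff] at hyc'
    have hfix : (e : MulAut W) w = w := by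
      apply hι
      have h2 := Cfsg.Agent.Lib.Helper20.sd_inl_smul (A := ↥E) (G := W) e w
      show ι (e • w) = ι w
      rw [h2, ← hyc', mul_inv_cancel_right]
    exact Subgroup.mem_map_of_mem _ (h e e.2 he1 ⟨hw, hfix⟩)
  obtain ⟨w, hw, hwx⟩ := hle hxK
  rw [← hι hwx]
  exact hw

end Cfsg.Agent.Lib.Helper12.OddTwo
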