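import Mathlib
import Cfsg.Agent.Lib.Helper12.OddTwoA
import Cfsg.Agent.Lib.Helper18.UniqueInvolution
import Cfsg.Agent.Lib.Helper18.OddAut
import Cfsg.Agent.Lib.Helper2.QuatSylow

/-!
# Odd automorphisms of `2`-groups with a unique involution

Either the action is trivial or the group is quaternion of order `8` (abstract data `IsQ8`).
-/

set_option autoImplicit false

namespace Cfsg.Agent.Lib.Helper12.OddTwo

open Subgroup

variable {W : Type*} [Group W]

/-- abstract data of a quaternion group of order `8` with central involution `z` -/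
structure IsQ8 (Q : Subgroup W) (z : W) : Prop where
  card : Nat.card Q = 8
  hz : z ∈ Q
  hz1 : z ≠ 1
  hzz : z * z = 1
  sq : ∀ x ∈ Q, x = 1 ∨ x = z ∨ x * x = z
  nonab : ∃ x ∈ Q, ∃ y ∈ Q, x * y ≠ y * x

namespace IsQ8

variable {Q : Subgroup W} {z : W}

theorem eq_of_invol (h : IsQ8 Q z) {y : W} (hy : y ∈ Q) (hy1 : y ≠ 1) (hyy : y * y = 1) : y = z := by
  rcases h.sq y hy with h1 | h1 | h1
  · exact absurd h1 hy1
  · exact h1
  · rw [hyy] at h1; exact absurd h1.symm h.hz1

theorem z_comm (h : IsQ8 Q z) {y : W} (hy : y ∈ Q) : z * y = y * z := by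
  rcases h.sq y hy with h1 | h1 | h1
  · rw [h1, mul_one, one_mul]
  · rw [h1]
  · rw [← h1, mul_assoc]

theorem orderOf_z (h : IsQ8 Q z) : orderOf z = 2 := by
  apply orderOf_eq_prime
  · rw [pow_two]; exact h.hzz
  · exact h.hz1

theorem exists_noncentral (h : IsQ8 Q z) : ∃ b ∈ Q, b ≠ 1 ∧ b ≠ z := by
  obtain ⟨x, hx, y, hy, hxy⟩ := h.nonab
  refine ⟨x, hx, ?_, ?_⟩
  · rintro rfl
    apply hxy
    rw [one_mul, mul_one]
  · rintro rfl
    exact hxy (h.z_comm hy)

theorem z_fixed (h : IsQ8 Q z) {E : Subgroup (MulAut W)} (hinv : Inv E Q) : z ∈ fixAll E := by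
  intro e he
  apply h.eq_of_invol (hinv e he z h.hz)
  · intro h1
    apply h.hz1
    have := congrArg e.symm h1
    rwa [MulEquiv.symm_apply_apply, map_one] at this
  · rw [← map_mul, h.hzz, map_one]

theorem not_le_zpowers (h : IsQ8 Q z) : ¬ Q ≤ zpowers z := by
  intro hle
  obtain ⟨b, hb, hb1, hbz⟩ := h.exists_noncentral
  have := hle hb
  obtain ⟨k, hk⟩ := Subgroup.mem_zpowers_iff.mp this
  have h2 : z ^ (2 : ℤ) = 1 := by
    rw [zpow_ofNat, pow_two]; exact h.hzz
  rcases Int.emod_two_eq_zero_or_one k with h0 | h0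
  · apply hb1
    rw [← hk, ← Int.mul_ediv_add_emod k 2, h0, add_zero, zpow_mul, h2, one_zpow]
  · apply hbz
    rw [← hk, ← Int.mul_ediv_add_emod k 2, h0, zpow_add, zpow_mul, h2, one_zpow, one_mul, zpow_one]

/-- elements of `zpowers z` -/
theorem mem_zpowers_iff (h : IsQ8 Q z) (x : W) : x ∈ zpowers z ↔ x = 1 ∨ x = z := by
  constructor
  · intro hx
    obtain ⟨k, hk⟩ := Subgroup.mem_zpowers_iff.mp hx
    have h2 : z ^ (2 : ℤ) = 1 := by
      rw [zpow_ofNat, pow_two]; exact h.hzz
    rcases Int.emod_two_eq_zero_or_one k with h0 | h0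
    · left
      rw [← hk, ← Int.mul_ediv_add_emod k 2, h0, add_zero, zpow_mul, h2, one_zpow]
    · right
      rw [← hk, ← Int.mul_ediv_add_emod k 2, h0, zpow_add, zpow_mul, h2, one_zpow, one_mul, zpow_one]
  · rintro (rfl | rfl)
    · exact one_mem _
    · exact Subgroup.mem_zpowers _

theorem zpowers_le (h : IsQ8 Q z) : zpowers z ≤ Q := by
  rw [Subgroup.zpowers_le]; exact h.hz

end IsQ8

/-- A key counting lemma: a `p`-group (`p` odd) of automorphisms of a quaternion group of order `8`
fixing a noncentral element acts trivially. -/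
theorem IsQ8.le_fixAll_of_fixed [Finite W] {p : ℕ} [Fact p.Prime] (hp : p ≠ 2)
    {Q : Subgroup W} {z : W} (h : IsQ8 Q z) (E : Subgroup (MulAut W)) (hE : IsPGroup p ↥E)
    (hinv : Inv E Q) (b : W) (hb : b ∈ Q) (hb1 : b ≠ 1) (hbz : b ≠ z) (hfix : b ∈ fixAll E) :
    Q ≤ fixAll E := by
  set C := Q ⊓ fixAll E with hC
  have hbb : b * b = z := by
    rcases h.sq b hb with h1 | h1 | h1
    · exact absurd h1 hb1
    · exact absurd h1 hbz
    · exact h1
  have hzC : z ∈ C := by
    rw [← hbb]; exact C.mul_mem ⟨hb, hfix⟩ ⟨hb, hfix⟩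
  have hbC : b ∈ C := ⟨hb, hfix⟩
  have hdvd : Nat.card C ∣ 8 := by
    rw [← h.card]; exact Subgroup.card_dvd_of_le inf_le_left
  have h3 : 3 ≤ Nat.card C := by
    have hsub : ({1, b, z} : Set W) ⊆ (C : Set W) := by
      intro x hx
      rcases hx with rfl | rfl | rfl
      · exact one_mem _
      · exact hbC
      · exact hzC
    have h3' : ({1, b, z} : Set W).ncard = 3 :=
      Set.ncard_eq_three.mpr ⟨1, b, z, hb1.symm, h.hz1.symm, hbz, rfl⟩
    have := Set.ncard_le_ncard hsub (Set.toFinite _)
    rw [h3', ← Nat.card_coe_set_eq] at this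
    exact this
  have hcases : Nat.card C = 4 ∨ Nat.card C = 8 := by
    have hle : Nat.card C ≤ 8 := Nat.le_of_dvd (by norm_num) hdvd
    interval_cases hc : Nat.card C <;> simp_all
  rcases hcases with h4 | h8
  · exfalso
    let S : Set W := (Q : Set W) \ (C : Set W)
    have hScard : S.ncard = 4 := by
      have h1 : ((C : Set W)).ncard = 4 := by rw [← Nat.card_coe_set_eq]; exact h4
      have h2 : ((Q : Set W)).ncard = 8 := by rw [← Nat.card_coe_set_eq]; exact h.card
      have hsub : (C : Set W) ⊆ (Q : Set W) := fun x hx => hx.1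
      have := Set.ncard_sdiff hsub (Set.toFinite _)
      show ((Q : Set W) \ (C : Set W)).ncard = 4
      rw [this, h1, h2]
    have hSinv : ∀ e ∈ E, ∀ s ∈ S, e s ∈ S := by
      intro e he s hs
      refine ⟨hinv e he s hs.1, ?_⟩
      intro hes
      apply hs.2
      refine ⟨hs.1, ?_⟩
      exact (inv_fixAll.apply_mem_iff he s).mp hes.2
    have hnd : ¬ p ∣ S.ncard := by
      rw [hScard]
      intro hd
      have h22 : (4 : ℕ) = 2 ^ 2 := by norm_num
      rw [h22] at hd
      have := (Nat.prime_dvd_prime_iff_eq (Fact.out : p.Prime) Nat.prime_two).mp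
        ((Fact.out : p.Prime).dvd_of_dvd_pow hd)
      exact hp this
    obtain ⟨s, hs, hsfix⟩ := exists_fixed_of_invariant E hE S hSinv hnd
    exact hs.2 ⟨hs.1, hsfix⟩
  · have : C = Q := by
      apply Subgroup.eq_of_le_of_card_ge inf_le_left
      rw [h8, h.card]
    rw [← this]
    exact inf_le_right

/-- invariant subgroups of a quaternion group with nontrivial action -/
theorem IsQ8.inv_sub [Finite W] {p : ℕ} [Fact p.Prime] (hp : p ≠ 2)
    {Q : Subgroup W} {z : W} (h : IsQ8 Q z) (E : Subgroup (MulAut W)) (hE : IsPGroup p ↥E)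
    (hinv : Inv E Q) (hnt : ¬ Q ≤ fixAll E) (X : Subgroup W) (hX : Inv E X) (hXQ : X ≤ Q) :
    X ≤ zpowers z ∨ X = Q := by
  by_cases hall : ∀ x ∈ X, x = 1 ∨ x = z
  · left
    intro x hx
    exact (h.mem_zpowers_iff x).mpr (hall x hx)
  right
  push Not at hall
  obtain ⟨b, hbX, hb1, hbz⟩ := hall
  have hb : b ∈ Q := hXQ hbX
  have hbb : b * b = z := by
    rcases h.sq b hb with h1 | h1 | h1
    · exact absurd h1 hb1
    · exact absurd h1 hbz
    · exact h1
  have hzX : z ∈ X := by rw [← hbb]; exact X.mul_mem hbX hbX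
  have hdvd : Nat.card X ∣ 8 := by
    rw [← h.card]; exact Subgroup.card_dvd_of_le hXQ
  have h3 : 3 ≤ Nat.card X := by
    have hsub : ({1, b, z} : Set W) ⊆ (X : Set W) := by
      intro x hx
      rcases hx with rfl | rfl | rfl
      · exact one_mem _
      · exact hbX
      · exact hzX
    have h3' : ({1, b, z} : Set W).ncard = 3 :=
      Set.ncard_eq_three.mpr ⟨1, b, z, hb1.symm, h.hz1.symm, hbz, rfl⟩
    have := Set.ncard_le_ncard hsub (Set.toFinite _)
    rw [h3', ← Nat.card_coe_set_eq] at this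
    exact this
  have hcases : Nat.card X = 4 ∨ Nat.card X = 8 := by
    have hle : Nat.card X ≤ 8 := Nat.le_of_dvd (by norm_num) hdvd
    interval_cases hc : Nat.card X <;> simp_all
  rcases hcases with h4 | h8
  · exfalso
    apply hnt
    let S : Set W := (X : Set W) \ ({1, z} : Set W)
    have hScard : S.ncard = 2 := by
      have h1 : ((X : Set W)).ncard = 4 := by rw [← Nat.card_coe_set_eq]; exact h4
      have h2 : ({1, z} : Set W).ncard = 2 := Set.ncard_pair h.hz1.symm
      have hsub : ({1, z} : Set W) ⊆ (X : Set W) := by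
        intro x hx
        rcases hx with rfl | rfl
        · exact one_mem _
        · exact hzX
      have := Set.ncard_sdiff hsub (Set.toFinite _)
      show ((X : Set W) \ ({1, z} : Set W)).ncard = 2
      rw [this, h1, h2]
    have hzfix := h.z_fixed hinv
    have hSinv : ∀ e ∈ E, ∀ s ∈ S, e s ∈ S := by
      intro e he s hs
      refine ⟨hX e he s hs.1, ?_⟩
      intro hes
      apply hs.2
      rcases hes with hes | hes
      · left
        have := congrArg e.symm hes
        rwa [MulEquiv.symm_apply_apply, map_one] at this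
      · right
        have h1 : e s = e z := by rw [hes]; exact (hzfix e he).symm
        exact e.injective h1
    have hnd : ¬ p ∣ S.ncard := by
      rw [hScard]
      intro hd
      exact hp ((Nat.prime_dvd_prime_iff_eq (Fact.out : p.Prime) Nat.prime_two).mp hd)
    obtain ⟨s, hs, hsfix⟩ := exists_fixed_of_invariant E hE S hSinv hnd
    have hs1 : s ≠ 1 := fun h1 => hs.2 (Or.inl h1)
    have hsz : s ≠ z := fun h1 => hs.2 (Or.inr h1)
    exact h.le_fixAll_of_fixed hp E hE hinv s (hXQ hs.1) hs1 hsz hsfix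
  · apply Subgroup.eq_of_le_of_card_ge hXQ
    rw [h8, h.card]

/-- a nontrivial action on a quaternion group forces `p = 3` -/
theorem IsQ8.p_eq_three [Finite W] {p : ℕ} [Fact p.Prime] (hp : p ≠ 2)
    {Q : Subgroup W} {z : W} (h : IsQ8 Q z) (E : Subgroup (MulAut W)) (hE : IsPGroup p ↥E)
    (hinv : Inv E Q) (hnt : ¬ Q ≤ fixAll E) : p = 3 := by
  by_contra hp3
  apply hnt
  let S : Set W := (Q : Set W) \ ({1, z} : Set W)
  have hScard : S.ncard = 6 := by
    have h1 : ((Q : Set W)).ncard = 8 := by rw [← Nat.card_coe_set_eq]; exact h.card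
    have h2 : ({1, z} : Set W).ncard = 2 := Set.ncard_pair h.hz1.symm
    have hsub : ({1, z} : Set W) ⊆ (Q : Set W) := by
      intro x hx
      rcases hx with rfl | rfl
      · exact one_mem _
      · exact h.hz
    have := Set.ncard_sdiff hsub (Set.toFinite _)
    show ((Q : Set W) \ ({1, z} : Set W)).ncard = 6
    rw [this, h1, h2]
  have hzfix := h.z_fixed hinv
  have hSinv : ∀ e ∈ E, ∀ s ∈ S, e s ∈ S := by
    intro e he s hs
    refine ⟨hinv e he s hs.1, ?_⟩
    intro hes
    apply hs.2
    rcases hes with hes | hes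
    · left
      have := congrArg e.symm hes
      rwa [MulEquiv.symm_apply_apply, map_one] at this
    · right
      have h1 : e s = e z := by rw [hes]; exact (hzfix e he).symm
      exact e.injective h1
  have hnd : ¬ p ∣ S.ncard := by
    rw [hScard]
    intro hd
    have h6 : (6 : ℕ) = 2 * 3 := by norm_num
    rw [h6] at hd
    rcases (Fact.out : p.Prime).dvd_mul.mp hd with h2 | h3
    · exact hp ((Nat.prime_dvd_prime_iff_eq (Fact.out : p.Prime) Nat.prime_two).mp h2)
    · exact hp3 ((Nat.prime_dvd_prime_iff_eq (Fact.out : p.Prime) Nat.prime_three).mp h3)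
  obtain ⟨s, hs, hsfix⟩ := exists_fixed_of_invariant E hE S hSinv hnd
  have hs1 : s ≠ 1 := fun h1 => hs.2 (Or.inl h1)
  have hsz : s ≠ z := fun h1 => hs.2 (Or.inr h1)
  exact h.le_fixAll_of_fixed hp E hE hinv s hs.1 hs1 hsz hsfix

/-- the pointwise stabilizer of a quaternion group with nontrivial action has index `3` -/
theorem IsQ8.exists_index_three [Finite W]
    {Q : Subgroup W} {z : W} (h : IsQ8 Q z) (E : Subgroup (MulAut W)) (hE : IsPGroup 3 ↥E)
    (hinv : Inv E Q) (hnt : ¬ Q ≤ fixAll E) :
    ∃ K : Subgroup ↥E, K.index = 3 ∧ ∀ k ∈ K, ∀ x ∈ Q, (k : MulAut W) x = x := by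
  haveI : Fact (Nat.Prime 3) := ⟨Nat.prime_three⟩
  obtain ⟨b, hb, hb1, hbz⟩ := h.exists_noncentral
  let K : Subgroup ↥E := MulAction.stabilizer ↥E b
  have hKfix : ∀ k ∈ K, ∀ x ∈ Q, (k : MulAut W) x = x := by
    let E' : Subgroup (MulAut W) := K.map E.subtype
    have hE' : IsPGroup 3 ↥E' := (hE.to_subgroup K).map E.subtype
    have hle : E' ≤ E := by
      rintro _ ⟨k, _, rfl⟩
      exact k.2
    have hbfix : b ∈ fixAll E' := by
      rintro _ ⟨k, hk, rfl⟩
      exact MulAction.mem_stabilizer_iff.mp hk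
    have := h.le_fixAll_of_fixed (by norm_num) E' hE' (hinv.mono hle) b hb hb1 hbz hbfix
    intro k hk x hx
    exact this hx _ ⟨k, hk, rfl⟩
  refine ⟨K, ?_, hKfix⟩
  have hidx : K.index = (MulAction.orbit ↥E b).ncard := MulAction.index_stabilizer ↥E b
  let S : Set W := (Q : Set W) \ ({1, z} : Set W)
  have hScard : S.ncard = 6 := by
    have h1 : ((Q : Set W)).ncard = 8 := by rw [← Nat.card_coe_set_eq]; exact h.card
    have h2 : ({1, z} : Set W).ncard = 2 := Set.ncard_pair h.hz1.symm
    have hsub : ({1, z} : Set W) ⊆ (Q : Set W) := by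
      intro x hx
      rcases hx with rfl | rfl
      · exact one_mem _
      · exact h.hz
    have := Set.ncard_sdiff hsub (Set.toFinite _)
    show ((Q : Set W) \ ({1, z} : Set W)).ncard = 6
    rw [this, h1, h2]
  have hzfix := h.z_fixed hinv
  have horb : MulAction.orbit ↥E b ⊆ S := by
    rintro _ ⟨e, rfl⟩
    refine ⟨hinv e e.2 b hb, ?_⟩
    intro hes
    rcases hes with hes | hes
    · apply hb1
      have : (e : MulAut W) b = 1 := hes
      have := congrArg (e : MulAut W).symm this
      rwa [MulEquiv.symm_apply_apply, map_one] at this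
    · apply hbz
      have h1 : (e : MulAut W) b = (e : MulAut W) z := by
        rw [hzfix e e.2]; exact hes
      exact (e : MulAut W).injective h1
  have hle6 : K.index ≤ 6 := by
    rw [hidx, ← hScard]
    exact Set.ncard_le_ncard horb (Set.toFinite _)
  obtain ⟨n, hn⟩ := IsPGroup.iff_card.mp hE
  have hdvd : K.index ∣ 3 ^ n := by rw [← hn]; exact Subgroup.index_dvd_card K
  obtain ⟨j, _, hj⟩ := (Nat.dvd_prime_pow Nat.prime_three).mp hdvd
  have hj1 : j ≤ 1 := by
    by_contra hj2
    push Not at hj2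
    have : 3 ^ 2 ≤ 3 ^ j := Nat.pow_le_pow_right (by norm_num) hj2
    rw [← hj] at this
    omega
  interval_cases j
  · exfalso
    apply hnt
    rw [pow_zero, Subgroup.index_eq_one] at hj
    have hbfix : b ∈ fixAll E := by
      intro e he
      have : (⟨e, he⟩ : ↥E) ∈ K := by rw [hj]; exact Subgroup.mem_top _
      exact MulAction.mem_stabilizer_iff.mp this
    exact h.le_fixAll_of_fixed (by norm_num) E hE hinv b hb hb1 hbz hbfix
  · rw [hj, pow_one]

/-- **Structure lemma.**  A group of odd-order automorphisms stabilizing a `2`-subgroup with at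
most one involution fixes it pointwise, unless the subgroup is quaternion of order `8`. -/
theorem le_fixAll_or_isQ8 [Finite W] (hW : IsPGroup 2 W) (E : Subgroup (MulAut W))
    (hodd : ∀ e ∈ E, Odd (orderOf e)) (F : Subgroup W) (hF : Inv E F)
    (huniq : ∀ x ∈ F, ∀ y ∈ F, orderOf x = 2 → orderOf y = 2 → x = y) :
    F ≤ fixAll E ∨ ∃ z, IsQ8 F z := by
  have huniq' : ∀ s t : ↥F, orderOf s = 2 → orderOf t = 2 → s = t := by
    intro s t hs ht
    apply Subtype.ext
    apply huniq s s.2 t t.2
    · rw [Subgroup.orderOf_coe]; exact hs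
    · rw [Subgroup.orderOf_coe]; exact ht
  rcases Cfsg.Agent.Lib.Helper18.isCyclic_or_quaternion_of_unique_involution
    (hW.to_subgroup F) huniq' with hcyc | ⟨n, hn, ⟨ψ⟩⟩
  · -- cyclic case
    left
    obtain ⟨g, hg⟩ := IsCyclic.exists_generator (α := ↥F)
    obtain ⟨k, hk⟩ := (IsPGroup.iff_orderOf.mp hW) (g : W)
    intro x hx e he
    have hmem : ∀ y ∈ F, y ∈ zpowers (g : W) := by
      intro y hy
      obtain ⟨j, hj⟩ := Subgroup.mem_zpowers_iff.mp (hg ⟨y, hy⟩)
      refine Subgroup.mem_zpowers_iff.mpr ⟨j, ?_⟩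
      have := congrArg Subtype.val hj
      rwa [Subgroup.coe_zpow] at this
    have hfixg : e (g : W) = g :=
      Cfsg.Agent.Lib.Helper18.aut_fixes_of_odd_of_mem_zpowers e (orderOf e) (hodd e he)
        (pow_orderOf_eq_one e) (g : W) k hk (hmem _ (hF e he _ g.2))
    obtain ⟨j, hj⟩ := Subgroup.mem_zpowers_iff.mp (hmem x hx)
    rw [← hj, map_zpow, hfixg]
  · -- quaternion case
    haveI : NeZero (2 ^ n) := ⟨by positivity⟩
    obtain ⟨a, b, hq⟩ := Cfsg.Agent.Lib.Helper2.exists_quatData ψ
    have hpos : 0 < 2 ^ n := by positivity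
    have ha2m : a ^ (2 * 2 ^ n) = 1 := by rw [← hq.order_a]; exact pow_orderOf_eq_one a
    by_cases hn2 : 2 ≤ n
    · left
      have h4 : 4 ≤ 2 ^ n := by
        calc 4 = 2 ^ 2 := by norm_num
          _ ≤ 2 ^ n := Nat.pow_le_pow_right (by norm_num) hn2
      have key : ∀ e ∈ E, e a = a ∧ e b = b := by
        intro e he
        have hea : e a = a := by
          apply Cfsg.Agent.Lib.Helper18.aut_fixes_of_odd_of_mem_zpowers e (orderOf e) (hodd e he)
            (pow_orderOf_eq_one e) a (n + 1)
          · rw [hq.order_a, pow_succ']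
          · rcases hq.cover (e a) (hF e he a hq.ha) with ⟨i, hi⟩ | ⟨i, hi⟩
            · rw [hi]; exact Subgroup.pow_mem _ (Subgroup.mem_zpowers a) i
            · exfalso
              have h1 : e a * e a = a ^ 2 ^ n := by rw [hi]; exact hq.mul_self_of_not_mem i
              have h2 : (e a) ^ 4 = 1 := by
                have : (e a) ^ 4 = (e a * e a) * (e a * e a) := by
                  rw [← pow_two, ← pow_two, ← pow_mul]
                rw [this, h1, ← pow_add, ← two_mul]; exact ha2m
              have h3 := orderOf_dvd_of_pow_eq_one h2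
              rw [MulEquiv.orderOf_eq, hq.order_a] at h3
              have := Nat.le_of_dvd (by norm_num) h3
              omega
        refine ⟨hea, ?_⟩
        rcases hq.cover (e b) (hF e he b hq.hb) with ⟨i, hi⟩ | ⟨i, hi⟩
        · exfalso
          apply hq.not_mem
          have h1 : e b = e (a ^ i) := by rw [map_pow, hea]; exact hi
          rw [e.injective h1]
          exact Subgroup.pow_mem _ (Subgroup.mem_zpowers a) i
        · apply Cfsg.Agent.Lib.Helper18.aut_fixes_of_odd_of_coset e (orderOf e) (hodd e he)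
            (pow_orderOf_eq_one e) a b (n + 1) (by rw [pow_succ']; exact ha2m) hea (i : ℤ)
          rw [zpow_natCast]; exact hi
      intro x hx e he
      obtain ⟨hea, heb⟩ := key e he
      rcases hq.cover x hx with ⟨i, rfl⟩ | ⟨i, rfl⟩
      · rw [map_pow, hea]
      · rw [map_mul, map_pow, hea, heb]
    · right
      have hn1 : n = 1 := by omega
      subst hn1
      rw [pow_one] at hq ha2m
      refine ⟨a ^ 2, ?_⟩
      have hz1 : a ^ 2 ≠ 1 := hq.pow_m_ne_one (by norm_num)
      have hzz : a ^ 2 * a ^ 2 = 1 := by rw [← pow_add]; exact ha2m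
      refine ⟨by rw [hq.card], Subgroup.pow_mem _ hq.ha 2, hz1, hzz, ?_, ?_⟩
      · intro x hx
        rcases hq.cover x hx with ⟨i, rfl⟩ | ⟨i, rfl⟩
        · rcases Nat.even_or_odd' i with ⟨j, rfl | rfl⟩
          · rcases Nat.even_or_odd' j with ⟨l, rfl | rfl⟩
            · left
              rw [show 2 * (2 * l) = (2 * 2) * l by ring, pow_mul, ha2m, one_pow]
            · right; left
              rw [show 2 * (2 * l + 1) = (2 * 2) * l + 2 by ring, pow_add, pow_mul, ha2m, one_pow,
                one_mul]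
          · right; right
            rw [← pow_add, show 2 * j + 1 + (2 * j + 1) = (2 * 2) * j + 2 by ring, pow_add, pow_mul,
              ha2m, one_pow, one_mul]
        · right; right
          exact hq.mul_self_of_not_mem i
      · refine ⟨b, hq.hb, a, hq.ha, ?_⟩
        intro hcomm
        have h1 : b * a * b⁻¹ = a := by rw [hcomm, mul_inv_cancel_right]
        rw [hq.conj] at h1
        apply hz1
        rw [pow_two]
        calc a * a = a * a⁻¹ := by rw [h1]
          _ = 1 := mul_inv_cancel a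

end Cfsg.Agent.Lib.Helper12.OddTwo
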