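import Mathlib
import Cfsg.Agent.Lib.Helper12.OddTwoB

/-!
# Noncyclic abelian `3`-groups of automorphisms of `2`-groups fixing at most one involution:
the quaternion subgroups commute
-/

set_option autoImplicit false

namespace Cfsg.Agent.Lib.Helper12.OddTwo

open Subgroup

variable {W : Type*} [Group W]

theorem mem_zpowers_of_sq {z : W} (hzz : z * z = 1) (x : W) :
    x ∈ zpowers z ↔ x = 1 ∨ x = z := by
  constructor
  · intro hx
    obtain ⟨k, hk⟩ := Subgroup.mem_zpowers_iff.mp hx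
    have h2 : z ^ (2 : ℤ) = 1 := by
      rw [zpow_ofNat, pow_two]; exact hzz
    rcases Int.emod_two_eq_zero_or_one k with h0 | h0
    · left
      rw [← hk, ← Int.mul_ediv_add_emod k 2, h0, add_zero, zpow_mul, h2, one_zpow]
    · right
      rw [← hk, ← Int.mul_ediv_add_emod k 2, h0, zpow_add, zpow_mul, h2, one_zpow, one_mul, zpow_one]
  · rintro (rfl | rfl)
    · exact one_mem _
    · exact Subgroup.mem_zpowers _

theorem normal_zpowers_of_central {z : W} (hz : z ∈ Subgroup.center W) : (zpowers z).Normal := by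
  refine ⟨fun n hn g => ?_⟩
  have hc : zpowers z ≤ Subgroup.center W := by rw [Subgroup.zpowers_le]; exact hz
  have := Subgroup.mem_center_iff.mp (hc hn) g
  rw [this, mul_inv_cancel_right]
  exact hn

/-- an automorphism of odd order moving `x` at most by a fixed involution fixes `x` -/
theorem fix_of_mul_invol (e : MulAut W) (hodd : Odd (orderOf e)) {z : W} (hz1 : z ≠ 1)
    (hzz : z * z = 1) (hez : e z = z) (x : W) (h : e x = x ∨ e x = z * x) : e x = x := by
  rcases h with h | h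
  · exact h
  exfalso
  have hiter : ∀ k : ℕ, (e ^ k) x = z ^ k * x := by
    intro k
    induction k with
    | zero => simp
    | succ k ih =>
      rw [pow_succ', MulAut.mul_apply, ih, map_mul, map_pow, hez, h, pow_succ, mul_assoc]
  obtain ⟨j, hj⟩ := hodd
  have h1 := hiter (orderOf e)
  rw [pow_orderOf_eq_one, MulAut.one_apply, hj, pow_succ, pow_mul, pow_two, hzz, one_pow,
    one_mul] at h1
  apply hz1
  have : z * x = 1 * x := by rw [one_mul]; exact h1.symm
  exact mul_right_cancel this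

/-- the standing hypotheses -/
structure Ctx (E : Subgroup (MulAut W)) (z : W) : Prop where
  hW : IsPGroup 2 W
  hE : IsPGroup 3 ↥E
  hab : ∀ a ∈ E, ∀ b ∈ E, a * b = b * a
  hnc : ¬ IsCyclic ↥E
  huniq : ∀ e ∈ E, e ≠ 1 → ∀ x ∈ fixOf e, ∀ y ∈ fixOf e, orderOf x = 2 → orderOf y = 2 → x = y
  hz2 : orderOf z = 2
  hfix : ∀ x, x ∈ fixAll E ↔ x = 1 ∨ x = z

/-- the quaternion fixed point groups -/
structure Good (E : Subgroup (MulAut W)) (z : W) (Q : Subgroup W) : Prop where
  q8 : IsQ8 Q z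
  inv : Inv E Q
  nt : ¬ Q ≤ fixAll E
  fix : ∃ e ∈ E, e ≠ 1 ∧ Q = fixOf e

namespace Ctx

variable {E : Subgroup (MulAut W)} {z : W}

theorem hz1 (c : Ctx E z) : z ≠ 1 := by
  intro h
  have := c.hz2
  rw [h, orderOf_one] at this
  omega

theorem hzz (c : Ctx E z) : z * z = 1 := by
  rw [← pow_two, ← c.hz2]; exact pow_orderOf_eq_one z

theorem z_fix (c : Ctx E z) : z ∈ fixAll E := (c.hfix z).mpr (Or.inr rfl)

theorem fixAll_eq (c : Ctx E z) : fixAll E = zpowers z := by
  ext x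
  rw [c.hfix, mem_zpowers_of_sq c.hzz]

theorem hodd (c : Ctx E z) : ∀ e ∈ E, Odd (orderOf e) := by
  intro e he
  obtain ⟨k, hk⟩ := (IsPGroup.iff_orderOf.mp c.hE) ⟨e, he⟩
  rw [← Subgroup.orderOf_coe] at hk
  rw [show orderOf e = 3 ^ k from hk]
  exact Odd.pow (by decide)

theorem hcop [Finite W] (c : Ctx E z) (X : Subgroup W) :
    (Nat.card ↥E).Coprime (Nat.card ↥X) := by
  obtain ⟨a, ha⟩ := IsPGroup.iff_card.mp c.hE
  obtain ⟨b, hb⟩ := IsPGroup.iff_card.mp (c.hW.to_subgroup X)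
  rw [ha, hb]
  apply Nat.Coprime.pow
  decide

theorem fixAll_le_fixOf {e : MulAut W} (he : e ∈ E) : fixAll E ≤ fixOf e :=
  fun _ hx => hx e he

theorem dich [Finite W] (c : Ctx E z) {e : MulAut W} (he : e ∈ E) (he1 : e ≠ 1) :
    fixOf e ≤ zpowers z ∨ Good E z (fixOf e) := by
  have hinv : Inv E (fixOf e) := inv_fixOf c.hab he
  by_cases hnt : fixOf e ≤ fixAll E
  · left; rw [← c.fixAll_eq]; exact hnt
  right
  rcases le_fixAll_or_isQ8 c.hW E c.hodd (fixOf e) hinv (c.huniq e he he1) with h | ⟨z', hz'⟩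
  · exact absurd h hnt
  have hzz' : z = z' := hz'.eq_of_invol (fixAll_le_fixOf he c.z_fix) c.hz1 c.hzz
  subst hzz'
  exact ⟨hz', hinv, hnt, e, he, he1, rfl⟩

/-- generation in terms of the quaternion fixed point groups -/
theorem gen [Finite W] (c : Ctx E z) (X P : Subgroup W) (hX : Inv E X)
    (hz : X ⊓ zpowers z ≤ P) (h : ∀ Q, Good E z Q → X ⊓ Q ≤ P) : X ≤ P := by
  apply le_of_forall_inf_fixOf_le E c.hab c.hnc X P hX (c.hcop X)
  intro e he he1
  rcases c.dich he he1 with h1 | h1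
  · exact le_trans (inf_le_inf_left X h1) hz
  · exact h _ h1

theorem _root_.Cfsg.Agent.Lib.Helper12.OddTwo.Good.sub [Finite W] {Q : Subgroup W}
    (hQ : Good E z Q) (c : Ctx E z) (X : Subgroup W)
    (hX : Inv E X) : X ⊓ Q ≤ zpowers z ∨ Q ≤ X := by
  haveI : Fact (Nat.Prime 3) := ⟨Nat.prime_three⟩
  rcases hQ.q8.inv_sub (by norm_num) E c.hE hQ.inv hQ.nt (X ⊓ Q) (hX.inf hQ.inv) inf_le_right with
    h | h
  · exact Or.inl h
  · right
    rw [← h]; exact inf_le_left

/-- every nontrivial invariant subgroup contains `z` -/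
theorem z_mem [Finite W] (c : Ctx E z) (X : Subgroup W) (hX : Inv E X) (hne : X ≠ ⊥) : z ∈ X := by
  by_contra hzX
  apply hne
  rw [eq_bot_iff]
  apply le_of_forall_inf_fixOf_le E c.hab c.hnc X ⊥ hX (c.hcop X)
  intro e he he1
  by_contra hnb
  set Y := X ⊓ fixOf e with hY
  have hYne : Y ≠ ⊥ := fun h => hnb (by rw [h])
  obtain ⟨k, hk⟩ := IsPGroup.iff_card.mp (c.hW.to_subgroup Y)
  have hk0 : k ≠ 0 := by
    rintro rfl
    rw [pow_zero, Subgroup.card_eq_one] at hk
    exact hYne hk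
  have h2 : 2 ∣ Nat.card ↥Y := by rw [hk]; exact dvd_pow_self 2 hk0
  haveI : Fact (Nat.Prime 2) := ⟨Nat.prime_two⟩
  obtain ⟨t, ht⟩ := exists_prime_orderOf_dvd_card' 2 h2
  have ht' : orderOf (t : W) = 2 := by rw [Subgroup.orderOf_coe]; exact ht
  have : (t : W) = z :=
    c.huniq e he he1 t t.2.2 z (fixAll_le_fixOf he c.z_fix) ht' c.hz2
  apply hzX
  rw [← this]
  exact t.2.1

theorem z_central [Finite W] (c : Ctx E z) : z ∈ Subgroup.center W := by
  haveI : Nontrivial W := ⟨⟨z, 1, c.hz1⟩⟩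
  have := c.hW.bot_lt_center
  exact c.z_mem _ inv_center (ne_of_gt this)

end Ctx

end Cfsg.Agent.Lib.Helper12.OddTwo
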