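import Mathlib
import Cfsg.Agent.Lib.Helper12.OddTwoC

/-!
# The quaternion fixed point subgroups commute pairwise
-/

set_option autoImplicit false

namespace Cfsg.Agent.Lib.Helper12.OddTwo

open Subgroup

variable {W : Type*} [Group W]

section Z2

variable (N : Subgroup W) [N.Normal]

/-- the elements of `C` which are central in `C` modulo `N` -/
def Z2 (C : Subgroup W) : Subgroup W :=
  C ⊓ (Subgroup.centralizer ((C.map (QuotientGroup.mk' N) : Subgroup (W ⧸ N)) : Set (W ⧸ N))).comap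
    (QuotientGroup.mk' N)

theorem mem_Z2 {C : Subgroup W} {x : W} :
    x ∈ Z2 N C ↔ x ∈ C ∧ ∀ c ∈ C, (x * c)⁻¹ * (c * x) ∈ N := by
  unfold Z2
  rw [Subgroup.mem_inf, Subgroup.mem_comap, Subgroup.mem_centralizer_iff]
  constructor
  · rintro ⟨hx, h⟩
    refine ⟨hx, fun c hc => ?_⟩
    have h1 := h _ (Subgroup.mem_map_of_mem _ hc)
    rw [← map_mul, ← map_mul] at h1
    exact QuotientGroup.eq.mp h1.symm
  · rintro ⟨hx, h⟩
    refine ⟨hx, ?_⟩
    rintro _ ⟨c, hc, rfl⟩
    rw [← map_mul, ← map_mul]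
    exact (QuotientGroup.eq.mpr (h c hc)).symm

theorem Z2_le (C : Subgroup W) : Z2 N C ≤ C := inf_le_left

theorem inv_Z2 {E : Subgroup (MulAut W)} {C : Subgroup W} (hC : Inv E C) (hN : Inv E N) :
    Inv E (Z2 N C) := by
  intro e he x hx
  rw [mem_Z2] at hx ⊢
  refine ⟨hC e he x hx.1, fun c hc => ?_⟩
  have hc' : e⁻¹ c ∈ C := hC e⁻¹ (E.inv_mem he) c hc
  have h1 := hN e he _ (hx.2 _ hc')
  rw [map_mul, map_inv, map_mul, map_mul, MulAut.apply_inv_self] at h1
  exact h1

theorem exists_mem_Z2_not_mem [Finite W] (hW : IsPGroup 2 W) (C : Subgroup W) (hne : ¬ C ≤ N) :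
    ∃ x ∈ Z2 N C, x ∉ N := by
  haveI : Fact (Nat.Prime 2) := ⟨Nat.prime_two⟩
  let D : Subgroup (W ⧸ N) := C.map (QuotientGroup.mk' N)
  obtain ⟨c0, hc0, hc0N⟩ := Set.not_subset.mp hne
  haveI : Nontrivial ↥D := by
    refine ⟨⟨⟨QuotientGroup.mk' N c0, Subgroup.mem_map_of_mem _ hc0⟩, 1, ?_⟩⟩
    intro h
    apply hc0N
    have := congrArg Subtype.val h
    exact (QuotientGroup.eq_one_iff c0).mp this
  have hD : IsPGroup 2 ↥D := (hW.to_quotient N).to_subgroup D
  haveI := hD.center_nontrivial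
  obtain ⟨d, hd⟩ := exists_ne (1 : Subgroup.center ↥D)
  obtain ⟨x, hx, hxd⟩ := (d : ↥D).2
  refine ⟨x, ?_, ?_⟩
  · unfold Z2
    refine ⟨hx, ?_⟩
    show x ∈ Subgroup.comap (QuotientGroup.mk' N) (Subgroup.centralizer _)
    rw [Subgroup.mem_comap, Subgroup.mem_centralizer_iff]
    intro y hy
    have h1 := Subgroup.mem_center_iff.mp d.2 ⟨y, hy⟩
    have h2 := congrArg Subtype.val h1
    rw [Subgroup.coe_mul, Subgroup.coe_mul] at h2
    rw [hxd]
    exact h2
  · intro hxN
    apply hd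
    apply Subtype.ext
    apply Subtype.ext
    rw [← hxd]
    exact (QuotientGroup.eq_one_iff x).mpr hxN

end Z2

namespace Ctx

variable {E : Subgroup (MulAut W)} {z : W}

theorem inv_zpowers (c : Ctx E z) : Inv E (zpowers z) := by
  intro e he x hx
  rw [← c.fixAll_eq] at hx ⊢
  exact inv_fixAll e he x hx

/-- **Commuting theorem** (induction on the order of an invariant subgroup). -/
theorem comm_aux [Finite W] (c : Ctx E z) : ∀ n : ℕ, ∀ C : Subgroup W, Inv E C → Nat.card ↥C ≤ n →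
    ∀ Q₁ Q₂ : Subgroup W, Good E z Q₁ → Good E z Q₂ → Q₁ ≤ C → Q₂ ≤ C → Q₁ ≠ Q₂ →
    ∀ x ∈ Q₁, ∀ y ∈ Q₂, x * y = y * x := by
  intro n
  induction n with
  | zero =>
    intro C _ hcard
    have := Nat.card_pos (α := ↥C)
    omega
  | succ n ih =>
    intro C hC hcard Q₁ Q₂ hQ₁ hQ₂ h1C h2C hne
    haveI hNn : (zpowers z).Normal := normal_zpowers_of_central c.z_central
    have hCN : ¬ C ≤ zpowers z := fun h => hQ₁.q8.not_le_zpowers (le_trans h1C h)
    obtain ⟨x0, hx0, hx0N⟩ := exists_mem_Z2_not_mem (zpowers z) c.hW C hCN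
    have hZinv : Inv E (Z2 (zpowers z) C) := inv_Z2 (zpowers z) hC c.inv_zpowers
    -- some good `Q` lies in `Z2`
    have hex : ∃ Q, Good E z Q ∧ Q ≤ Z2 (zpowers z) C := by
      by_contra hno
      push Not at hno
      apply hx0N
      refine c.gen (Z2 (zpowers z) C) (zpowers z) hZinv inf_le_right ?_ hx0
      intro Q hQ
      rcases hQ.sub c _ hZinv with h | h
      · exact h
      · exact absurd h (hno Q hQ)
    obtain ⟨Q, hQ, hQZ⟩ := hex
    have hQC : Q ≤ C := le_trans hQZ (Z2_le _ C)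
    obtain ⟨e, he, he1, hQe⟩ := hQ.fix
    have hodd := c.hodd e he
    have hez : e z = z := c.z_fix e he
    -- the key subgroup
    set C' := C ⊓ Subgroup.centralizer (Q : Set W) with hC'
    have hC'inv : Inv E C' := hC.inf hQ.inv.centralizer
    have hC'lt : Nat.card ↥C' ≤ n := by
      by_contra hlt
      push Not at hlt
      have hge : Nat.card ↥C ≤ Nat.card ↥C' := by omega
      have heq : C' = C := Subgroup.eq_of_le_of_card_ge inf_le_left hge
      obtain ⟨u, hu, v, hv, huv⟩ := hQ.q8.nonab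
      apply huv
      have hvC : v ∈ C' := by rw [heq]; exact hQC hv
      exact ((Subgroup.mem_centralizer_iff.mp hvC.2) u hu)
    -- `e x * x⁻¹ ∈ C'` for `x ∈ C`
    have hu : ∀ x ∈ C, e x * x⁻¹ ∈ C' := by
      intro x hx
      refine ⟨C.mul_mem (hC e he x hx) (C.inv_mem hx), ?_⟩
      show e x * x⁻¹ ∈ Subgroup.centralizer (Q : Set W)
      rw [Subgroup.mem_centralizer_iff]
      intro q hq
      have hqfix : e q = q := by
        have : q ∈ fixOf e := by rw [← hQe]; exact hq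
        exact this
      have hm := ((mem_Z2 (zpowers z)).mp (hQZ hq)).2 x hx
      have hmfix : e ((q * x)⁻¹ * (x * q)) = (q * x)⁻¹ * (x * q) := by
        have : (q * x)⁻¹ * (x * q) ∈ fixAll E := by rw [c.fixAll_eq]; exact hm
        exact this e he
      rw [map_mul, map_inv, map_mul, map_mul, hqfix] at hmfix
      have h5 : Commute (e x * x⁻¹) q⁻¹ := by
        show e x * x⁻¹ * q⁻¹ = q⁻¹ * (e x * x⁻¹)
        have h6 : e x * x⁻¹ * q⁻¹ = e x * ((q * x)⁻¹ * (x * q)) * q⁻¹ * x⁻¹ := by group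
        rw [h6, ← hmfix]; group
      exact (Commute.inv_right_iff.mp h5).symm.eq
    -- every other good subgroup of `C` lies in `C'`
    have hother : ∀ Q', Good E z Q' → Q' ≤ C → Q' ≠ Q → Q' ≤ C' := by
      intro Q' hQ' hQ'C hne'
      rcases hQ'.sub c C' hC'inv with h | h
      · exfalso
        apply hne'
        have hle : Q' ≤ Q := by
          intro x hx
          rw [hQe]
          show e x = x
          apply fix_of_mul_invol e hodd c.hz1 c.hzz hez x
          have h1 : e x * x⁻¹ ∈ C' ⊓ Q' :=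
            ⟨hu x (hQ'C hx), Q'.mul_mem (hQ'.inv e he x hx) (Q'.inv_mem hx)⟩
          rcases (mem_zpowers_of_sq c.hzz _).mp (h h1) with h2 | h2
          · left; exact mul_inv_eq_one.mp h2
          · right; exact mul_inv_eq_iff_eq_mul.mp h2
        apply Subgroup.eq_of_le_of_card_ge hle
        rw [hQ'.q8.card, hQ.q8.card]
      · exact h
    -- conclusion
    intro x hx y hy
    by_cases h1 : Q₁ = Q
    · subst h1
      have := hother Q₂ hQ₂ h2C (Ne.symm hne) hy
      exact ((Subgroup.mem_centralizer_iff.mp this.2) x hx)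
    by_cases h2 : Q₂ = Q
    · subst h2
      have := hother Q₁ hQ₁ h1C hne hx
      exact ((Subgroup.mem_centralizer_iff.mp this.2) y hy).symm
    exact ih C' hC'inv hC'lt Q₁ Q₂ hQ₁ hQ₂ (hother Q₁ hQ₁ h1C h1) (hother Q₂ hQ₂ h2C h2) hne x hx y hy

theorem comm [Finite W] (c : Ctx E z) {Q₁ Q₂ : Subgroup W} (h₁ : Good E z Q₁) (h₂ : Good E z Q₂)
    (hne : Q₁ ≠ Q₂) : ∀ x ∈ Q₁, ∀ y ∈ Q₂, x * y = y * x :=
  c.comm_aux (Nat.card W) ⊤ inv_top (Subgroup.card_le_card_group ⊤) Q₁ Q₂ h₁ h₂ le_top le_top hne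

end Ctx

end Cfsg.Agent.Lib.Helper12.OddTwo
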