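import Mathlib
import Cfsg.Agent.Lib.Helper12.OddTwoD
import Cfsg.Agent.Lib.Helper4.Basic

/-!
# Order of `E`, order of `W`, centre
-/

set_option autoImplicit false

namespace Cfsg.Agent.Lib.Helper12.OddTwo

open Subgroup

variable {W : Type*} [Group W]

theorem fixOf_inv (e : MulAut W) : fixOf e⁻¹ = fixOf e := by
  ext x
  rw [mem_fixOf, mem_fixOf]
  constructor
  · intro h
    have := congrArg e h
    rw [MulAut.apply_inv_self] at this
    exact this.symm
  · intro h
    have := congrArg (e⁻¹ : MulAut W) h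
    rw [MulAut.inv_apply_self] at this
    exact this.symm

variable {E : Subgroup (MulAut W)} {z : W}

theorem Good.center_le [Finite W] {Q : Subgroup W} (hQ : Good E z Q) (c : Ctx E z) :
    Q ⊓ Subgroup.centralizer (Q : Set W) ≤ zpowers z := by
  haveI : Fact (Nat.Prime 3) := ⟨Nat.prime_three⟩
  rcases hQ.q8.inv_sub (by norm_num) E c.hE hQ.inv hQ.nt _ (hQ.inv.inf hQ.inv.centralizer)
    inf_le_left with h | h
  · exact h
  · exfalso
    obtain ⟨u, hu, v, hv, huv⟩ := hQ.q8.nonab
    apply huv
    have hvC : v ∈ Q ⊓ Subgroup.centralizer (Q : Set W) := by rw [h]; exact hv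
    exact ((Subgroup.mem_centralizer_iff.mp hvC.2) u hu)

namespace Ctx

/-- there are at least two quaternion fixed point groups -/
theorem false_of_unique [Finite W] (c : Ctx E z) {Q₀ : Subgroup W} (h₀ : Good E z Q₀)
    (hall : ∀ Q, Good E z Q → Q = Q₀) : False := by
  have htop : (⊤ : Subgroup W) ≤ Q₀ := by
    apply c.gen ⊤ Q₀ inv_top
    · exact le_trans inf_le_right h₀.q8.zpowers_le
    · intro Q hQ
      rw [hall Q hQ]
      exact inf_le_right
  obtain ⟨K, hK3, hKfix⟩ := h₀.q8.exists_index_three E c.hE h₀.inv h₀.nt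
  have hKbot : K = ⊥ := by
    rw [eq_bot_iff]
    intro k hk
    rw [Subgroup.mem_bot]
    apply Subtype.ext
    apply MulEquiv.ext
    intro x
    exact hKfix k hk x (htop (Subgroup.mem_top x))
  rw [hKbot, Subgroup.index_bot] at hK3
  haveI : Fact (Nat.Prime 3) := ⟨Nat.prime_three⟩
  exact c.hnc (isCyclic_of_prime_card hK3)

/-- two quaternion fixed point groups with a common nontrivial pointwise stabilizer coincide -/
theorem eq_of_common [Finite W] (c : Ctx E z) {Q₁ Q₂ : Subgroup W} (h₁ : Good E z Q₁)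
    (h₂ : Good E z Q₂) {f : MulAut W} (hf : f ∈ E) (hf1 : f ≠ 1) (hf₁ : Q₁ ≤ fixOf f)
    (hf₂ : Q₂ ≤ fixOf f) : Q₁ = Q₂ := by
  rcases c.dich hf hf1 with h | h
  · exact absurd (le_trans hf₁ h) h₁.q8.not_le_zpowers
  · have e1 : Q₁ = fixOf f := Subgroup.eq_of_le_of_card_ge hf₁ (by rw [h.q8.card, h₁.q8.card])
    have e2 : Q₂ = fixOf f := Subgroup.eq_of_le_of_card_ge hf₂ (by rw [h.q8.card, h₂.q8.card])
    rw [e1, e2]

theorem card_E [Finite W] (c : Ctx E z) {Q₀ : Subgroup W} (h₀ : Good E z Q₀) :
    Nat.card ↥E = 9 := by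
  haveI : Fact (Nat.Prime 3) := ⟨Nat.prime_three⟩
  obtain ⟨k, hk⟩ := IsPGroup.iff_card.mp c.hE
  have hk2 : 2 ≤ k := by
    by_contra hlt
    push Not at hlt
    apply c.hnc
    interval_cases k
    · rw [pow_zero] at hk
      haveI : Subsingleton ↥E := (Nat.card_eq_one_iff_unique.mp hk).1
      exact isCyclic_of_subsingleton
    · rw [pow_one] at hk
      exact isCyclic_of_prime_card hk
  by_cases hk3 : k = 2
  · rw [hk, hk3]; norm_num
  exfalso
  have h27 : 27 ≤ Nat.card ↥E := by
    rw [hk]
    calc 27 = 3 ^ 3 := by norm_num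
      _ ≤ 3 ^ k := Nat.pow_le_pow_right (by norm_num) (by omega)
  apply c.false_of_unique h₀
  intro Q hQ
  obtain ⟨K, hK3, hKfix⟩ := hQ.q8.exists_index_three E c.hE hQ.inv hQ.nt
  obtain ⟨K₀, hK₀3, hK₀fix⟩ := h₀.q8.exists_index_three E c.hE h₀.inv h₀.nt
  have hidx : (K ⊓ K₀).index ≤ 9 := by
    have := Subgroup.index_inf_le (H := K) (K := K₀)
    rw [hK3, hK₀3] at this
    exact this
  have hmul := Subgroup.card_mul_index (K ⊓ K₀)
  have hne : K ⊓ K₀ ≠ ⊥ := by
    intro hbot
    rw [hbot, Subgroup.card_bot, one_mul] at hmul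
    rw [hbot] at hidx
    omega
  obtain ⟨f, hf1⟩ := (Subgroup.ne_bot_iff_exists_ne_one).mp hne
  have hf1' : ((f : ↥E) : MulAut W) ≠ 1 := by
    intro h
    apply hf1
    apply Subtype.ext
    apply Subtype.ext
    exact h
  exact c.eq_of_common hQ h₀ (f : ↥E).2 hf1' (fun x hx => hKfix _ f.2.1 x hx)
    (fun x hx => hK₀fix _ f.2.2 x hx)

/-- the order of the product of `z` and finitely many quaternion fixed point groups -/
theorem card_sup [Finite W] (c : Ctx E z) : ∀ s : Finset (Subgroup W), (∀ Q ∈ s, Good E z Q) →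
    Nat.card ↥(zpowers z ⊔ s.sup id) = 2 * 4 ^ s.card := by
  classical
  intro s
  induction s using Finset.induction_on with
  | empty =>
    intro _
    rw [Finset.sup_empty, sup_bot_eq, Nat.card_zpowers, c.hz2, Finset.card_empty, pow_zero, mul_one]
  | insert Q' s hQ's ih =>
    intro hall
    have hQ' : Good E z Q' := hall Q' (Finset.mem_insert_self _ _)
    have hs : ∀ Q ∈ s, Good E z Q := fun Q hQ => hall Q (Finset.mem_insert_of_mem hQ)
    have ih' := ih hs
    set P := zpowers z ⊔ s.sup id with hP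
    have hPc : P ≤ Subgroup.centralizer (Q' : Set W) := by
      apply sup_le
      · rw [Subgroup.zpowers_le, Subgroup.mem_centralizer_iff]
        intro y _
        exact (Subgroup.mem_center_iff.mp c.z_central y)
      · apply Finset.sup_le
        intro Q hQ
        have hne : Q ≠ Q' := by
          rintro rfl
          exact hQ's hQ
        intro x hx
        rw [Subgroup.mem_centralizer_iff]
        intro y hy
        exact (c.comm (hs Q hQ) hQ' hne x hx y hy).symm
    have hnorm : Q' ≤ Subgroup.normalizer (P : Set W) := by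
      intro q hq
      rw [Subgroup.mem_normalizer_iff]
      intro x
      have key : ∀ y ∈ P, q * y * q⁻¹ = y := by
        intro y hy
        have := (Subgroup.mem_centralizer_iff.mp (hPc hy)) q hq
        rw [this, mul_inv_cancel_right]
      constructor
      · intro hx
        rw [key x hx]; exact hx
      · intro hx
        have := key _ hx
        have h2 : x = q * x * q⁻¹ := by
          have h3 : q⁻¹ * (q * (q * x * q⁻¹) * q⁻¹) * q = q⁻¹ * (q * x * q⁻¹) * q := by rw [this]
          have h4 : q⁻¹ * (q * (q * x * q⁻¹) * q⁻¹) * q = q * x * q⁻¹ := by group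
          have h5 : q⁻¹ * (q * x * q⁻¹) * q = x := by group
          rw [h4, h5] at h3
          exact h3.symm
        rw [h2]; exact hx
    have hinf : Q' ⊓ P = zpowers z := by
      apply le_antisymm
      · refine le_trans ?_ (hQ'.center_le c)
        intro x hx
        refine ⟨hx.1, ?_⟩
        show x ∈ Subgroup.centralizer (Q' : Set W)
        exact hPc hx.2
      · exact le_inf hQ'.q8.zpowers_le le_sup_left
    have hmul := Cfsg.Agent.Lib.Helper4.card_sup_mul_card_inf Q' P hnorm
    rw [hinf, Nat.card_zpowers, c.hz2, hQ'.q8.card, ih'] at hmul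
    have heq : zpowers z ⊔ (insert Q' s).sup id = Q' ⊔ P := by
      rw [Finset.sup_insert, hP, id, sup_left_comm]
    rw [heq, Finset.card_insert_of_notMem hQ's, pow_succ]
    omega

end Ctx

end Cfsg.Agent.Lib.Helper12.OddTwo
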