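import Mathlib
import Cfsg.Agent.Lib.Helper12.OddTwoE
import Cfsg.Agent.Lib.Helper16.Frattini
import Cfsg.Agent.Lib.Helper1.PGroup

/-!
# Counting the quaternion subgroups; centre, Frattini and derived subgroup
-/

set_option autoImplicit false

namespace Cfsg.Agent.Lib.Helper12.OddTwo

open Subgroup
open scoped commutatorElement

variable {W : Type*} [Group W]

variable {E : Subgroup (MulAut W)} {z : W}

namespace Ctx

/-- a finite set containing exactly the quaternion fixed point groups, of size at most `4` -/
theorem exists_finset [Finite W] (c : Ctx E z) (hE9 : Nat.card ↥E = 9) :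
    ∃ S : Finset (Subgroup W), (∀ Q, Q ∈ S ↔ Good E z Q) ∧ S.card ≤ 4 := by
  classical
  haveI : Fintype ↥E := Fintype.ofFinite _
  let f : ↥E → Subgroup W := fun e => fixOf (e : MulAut W)
  let T : Finset ↥E := Finset.univ.filter (fun e => e ≠ 1 ∧ Good E z (f e))
  refine ⟨T.image f, ?_, ?_⟩
  · intro Q
    rw [Finset.mem_image]
    constructor
    · rintro ⟨e, he, rfl⟩
      exact (Finset.mem_filter.mp he).2.2
    · intro hQ
      obtain ⟨e, he, he1, hQe⟩ := hQ.fix
      refine ⟨⟨e, he⟩, ?_, hQe.symm⟩
      rw [Finset.mem_filter]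
      refine ⟨Finset.mem_univ _, ?_, ?_⟩
      · intro h
        apply he1
        exact congrArg Subtype.val h
      · show Good E z (fixOf e)
        rw [← hQe]; exact hQ
  · have h1 : T.card = ∑ Q ∈ T.image f, (T.filter (fun e => f e = Q)).card :=
      Finset.card_eq_sum_card_fiberwise (fun e he => Finset.mem_image_of_mem f he)
    have h2 : ∑ _Q ∈ T.image f, 2 ≤ ∑ Q ∈ T.image f, (T.filter (fun e => f e = Q)).card := by
      apply Finset.sum_le_sum
      intro Q hQ
      obtain ⟨e, he, rfl⟩ := Finset.mem_image.mp hQ
      have heT := (Finset.mem_filter.mp he).2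
      have hne : e ≠ e⁻¹ := by
        intro h
        apply heT.1
        have h2 : e * e = 1 := by
          nth_rewrite 2 [h]
          exact mul_inv_cancel e
        have hodd : Odd (orderOf e) := by
          have := c.hodd (e : MulAut W) e.2
          rwa [Subgroup.orderOf_coe] at this
        have hd : orderOf e ∣ 2 := orderOf_dvd_of_pow_eq_one (by rw [pow_two]; exact h2)
        have : orderOf e = 1 := by
          rcases (Nat.dvd_prime Nat.prime_two).mp hd with h3 | h3
          · exact h3
          · rw [h3] at hodd; exact absurd hodd (by decide)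
        exact orderOf_eq_one_iff.mp this
      have hsub : ({e, e⁻¹} : Finset ↥E) ⊆ T.filter (fun e' => f e' = f e) := by
        intro e' he'
        rw [Finset.mem_insert, Finset.mem_singleton] at he'
        rcases he' with rfl | rfl
        · exact Finset.mem_filter.mpr ⟨he, rfl⟩
        · have hfe : f e⁻¹ = f e := by
            show fixOf ((e⁻¹ : ↥E) : MulAut W) = fixOf (e : MulAut W)
            rw [Subgroup.coe_inv, fixOf_inv]
          refine Finset.mem_filter.mpr ⟨?_, hfe⟩
          rw [Finset.mem_filter]
          refine ⟨Finset.mem_univ _, ?_, ?_⟩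
          · intro h
            apply heT.1
            exact inv_eq_one.mp h
          · rw [hfe]; exact heT.2
      have := Finset.card_le_card hsub
      rw [Finset.card_pair hne] at this
      exact this
    rw [Finset.sum_const, smul_eq_mul] at h2
    have h3 : T.card ≤ 8 := by
      have hsub : T ⊆ Finset.univ.erase 1 := by
        intro e he
        rw [Finset.mem_erase]
        exact ⟨(Finset.mem_filter.mp he).2.1, Finset.mem_univ _⟩
      have := Finset.card_le_card hsub
      rw [Finset.card_erase_of_mem (Finset.mem_univ _), Finset.card_univ, ← Nat.card_eq_fintype_card,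
        hE9] at this
      exact this
    omega

theorem top_eq [Finite W] (c : Ctx E z) (S : Finset (Subgroup W))
    (hS : ∀ Q, Good E z Q → Q ∈ S) : zpowers z ⊔ S.sup id = ⊤ := by
  rw [eq_top_iff]
  apply c.gen ⊤ _ inv_top
  · exact le_trans inf_le_right le_sup_left
  · intro Q hQ
    refine le_trans inf_le_right (le_trans ?_ le_sup_right)
    exact Finset.le_sup (f := id) (hS Q hQ)

theorem center_eq [Finite W] (c : Ctx E z) : Subgroup.center W = zpowers z := by
  apply le_antisymm
  · apply c.gen _ _ inv_center inf_le_right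
    intro Q hQ
    refine le_trans ?_ (hQ.center_le c)
    intro x hx
    refine ⟨hx.2, ?_⟩
    show x ∈ Subgroup.centralizer (Q : Set W)
    rw [Subgroup.mem_centralizer_iff]
    intro y _
    exact (Subgroup.mem_center_iff.mp hx.1 y)
  · rw [Subgroup.zpowers_le]; exact c.z_central

/-- the quotient by `⟨z⟩` is commutative -/
theorem quot_comm [Finite W] (c : Ctx E z) [(zpowers z).Normal] :
    ∀ a b : W ⧸ zpowers z, a * b = b * a := by
  -- squares of elements of good subgroups die in the quotient
  have hsq : ∀ Q, Good E z Q → ∀ q ∈ Q, (QuotientGroup.mk' (zpowers z) q) *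
      (QuotientGroup.mk' (zpowers z) q) = 1 := by
    intro Q hQ q hq
    rw [← map_mul]
    apply (QuotientGroup.eq_one_iff _).mpr
    rcases hQ.q8.sq q hq with h | h | h
    · rw [h, mul_one]; exact one_mem _
    · rw [h, c.hzz]; exact one_mem _
    · rw [h]; exact Subgroup.mem_zpowers z
  have hzc : ∀ b : W ⧸ zpowers z, QuotientGroup.mk' (zpowers z) z * b =
      b * QuotientGroup.mk' (zpowers z) z := by
    intro b
    have : QuotientGroup.mk' (zpowers z) z = 1 :=
      (QuotientGroup.eq_one_iff z).mpr (Subgroup.mem_zpowers z)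
    rw [this, one_mul, mul_one]
  -- each element of a good subgroup is central in the quotient
  have hcen : ∀ Q, Good E z Q → ∀ q ∈ Q, ∀ w : W, QuotientGroup.mk' (zpowers z) w *
      QuotientGroup.mk' (zpowers z) q = QuotientGroup.mk' (zpowers z) q *
        QuotientGroup.mk' (zpowers z) w := by
    intro Q hQ q hq w
    have hw : w ∈ (⊤ : Subgroup W) := Subgroup.mem_top w
    have hle : (⊤ : Subgroup W) ≤ (Subgroup.centralizer
        ({QuotientGroup.mk' (zpowers z) q} : Set (W ⧸ zpowers z))).comap
          (QuotientGroup.mk' (zpowers z)) := by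
      apply c.gen ⊤ _ inv_top
      · intro x hx
        rw [Subgroup.mem_comap, Subgroup.mem_centralizer_singleton_iff]
        have : QuotientGroup.mk' (zpowers z) x = 1 := (QuotientGroup.eq_one_iff x).mpr hx.2
        rw [this, one_mul, mul_one]
      · intro Q' hQ' x hx
        rw [Subgroup.mem_comap, Subgroup.mem_centralizer_singleton_iff]
        by_cases hne : Q' = Q
        · subst hne
          -- both in the same quaternion group
          have h1 := hsq Q' hQ' x hx.2
          have h2 := hsq Q' hQ' q hq
          have h3 := hsq Q' hQ' (x * q) (Q'.mul_mem hx.2 hq)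
          rw [map_mul] at h3
          set a := QuotientGroup.mk' (zpowers z) x
          set b := QuotientGroup.mk' (zpowers z) q
          have ha : a⁻¹ = a := inv_eq_of_mul_eq_one_right h1
          have hb : b⁻¹ = b := inv_eq_of_mul_eq_one_right h2
          have hab : (a * b)⁻¹ = a * b := inv_eq_of_mul_eq_one_right h3
          rw [mul_inv_rev, ha, hb] at hab
          exact hab.symm
        · rw [← map_mul, ← map_mul, c.comm hQ' hQ hne x hx.2 q hq]
    have := hle hw
    rw [Subgroup.mem_comap, Subgroup.mem_centralizer_singleton_iff] at this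
    exact this
  intro a b
  obtain ⟨x, rfl⟩ := QuotientGroup.mk'_surjective (zpowers z) a
  obtain ⟨y, rfl⟩ := QuotientGroup.mk'_surjective (zpowers z) b
  have hy : y ∈ (⊤ : Subgroup W) := Subgroup.mem_top y
  have hle : (⊤ : Subgroup W) ≤ (Subgroup.center (W ⧸ zpowers z)).comap
      (QuotientGroup.mk' (zpowers z)) := by
    apply c.gen ⊤ _ inv_top
    · intro u hu
      rw [Subgroup.mem_comap, Subgroup.mem_center_iff]
      intro g
      have : QuotientGroup.mk' (zpowers z) u = 1 := (QuotientGroup.eq_one_iff u).mpr hu.2
      rw [this, one_mul, mul_one]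
    · intro Q hQ u hu
      rw [Subgroup.mem_comap, Subgroup.mem_center_iff]
      intro g
      obtain ⟨w, rfl⟩ := QuotientGroup.mk'_surjective (zpowers z) g
      exact hcen Q hQ u hu.2 w
  have := hle hy
  rw [Subgroup.mem_comap, Subgroup.mem_center_iff] at this
  exact this _

/-- the quotient by `⟨z⟩` has exponent `2` -/
theorem quot_exp [Finite W] (c : Ctx E z) [(zpowers z).Normal] :
    ∀ a : W ⧸ zpowers z, a ^ 2 = 1 := by
  have hcomm := c.quot_comm
  let T : Subgroup W :=
    { carrier := {w | (QuotientGroup.mk' (zpowers z) w) ^ 2 = 1}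
      mul_mem' := by
        intro a b ha hb
        simp only [Set.mem_ofPred_eq] at *
        rw [map_mul, pow_two, mul_assoc, ← mul_assoc _ _ (QuotientGroup.mk' (zpowers z) b),
          hcomm (QuotientGroup.mk' (zpowers z) b) (QuotientGroup.mk' (zpowers z) a), mul_assoc,
          ← mul_assoc, ← pow_two, ← pow_two, ha, hb, one_mul]
      one_mem' := by
        simp only [Set.mem_ofPred_eq]
        rw [map_one, one_pow]
      inv_mem' := by
        intro a ha
        simp only [Set.mem_ofPred_eq] at *
        rw [map_inv, inv_pow, ha, inv_one] }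
  have hle : (⊤ : Subgroup W) ≤ T := by
    apply c.gen ⊤ _ inv_top
    · intro u hu
      show (QuotientGroup.mk' (zpowers z) u) ^ 2 = 1
      have : QuotientGroup.mk' (zpowers z) u = 1 := (QuotientGroup.eq_one_iff u).mpr hu.2
      rw [this, one_pow]
    · intro Q hQ q hq
      show (QuotientGroup.mk' (zpowers z) q) ^ 2 = 1
      rw [← map_pow]
      apply (QuotientGroup.eq_one_iff _).mpr
      rw [pow_two]
      rcases hQ.q8.sq q hq.2 with h | h | h
      · rw [h, mul_one]; exact one_mem _
      · rw [h, c.hzz]; exact one_mem _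
      · rw [h]; exact Subgroup.mem_zpowers z
  intro a
  obtain ⟨x, rfl⟩ := QuotientGroup.mk'_surjective (zpowers z) a
  exact hle (Subgroup.mem_top x)

theorem frattini_eq [Finite W] (c : Ctx E z) {Q₀ : Subgroup W} (h₀ : Good E z Q₀) :
    frattini W = zpowers z := by
  haveI hNn : (zpowers z).Normal := normal_zpowers_of_central c.z_central
  haveI : Fact (Nat.Prime 2) := ⟨Nat.prime_two⟩
  apply le_antisymm
  · have := Cfsg.Agent.Lib.Helper16.frattini_le_ker' (p := 2) c.quot_comm c.quot_exp
      (QuotientGroup.mk' (zpowers z))
    rwa [QuotientGroup.ker_mk'] at this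
  · rw [Subgroup.zpowers_le]
    obtain ⟨b, hb, hb1, hbz⟩ := h₀.q8.exists_noncentral
    have hbb : b * b = z := by
      rcases h₀.q8.sq b hb with h1 | h1 | h1
      · exact absurd h1 hb1
      · exact absurd h1 hbz
      · exact h1
    rw [← hbb, ← pow_two]
    exact Cfsg.Agent.Lib.Helper1.IsPGroup.pow_mem_frattini c.hW b

theorem commutator_eq [Finite W] (c : Ctx E z) {Q₀ : Subgroup W} (h₀ : Good E z Q₀) :
    commutator W = zpowers z := by
  haveI hNn : (zpowers z).Normal := normal_zpowers_of_central c.z_central
  have hle : commutator W ≤ zpowers z := by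
    haveI : IsMulCommutative (W ⧸ zpowers z) := ⟨⟨c.quot_comm⟩⟩
    exact Subgroup.Normal.quotient_commutative_iff_commutator_le.mp inferInstance
  apply le_antisymm hle
  rw [Subgroup.zpowers_le]
  obtain ⟨u, hu, v, hv, huv⟩ := h₀.q8.nonab
  have hmem : ⁅u, v⁆ ∈ commutator W := by
    rw [_root_.commutator_def]
    exact Subgroup.commutator_mem_commutator (Subgroup.mem_top u) (Subgroup.mem_top v)
  rcases (mem_zpowers_of_sq c.hzz _).mp (hle hmem) with h | h
  · exfalso
    apply huv
    rw [commutatorElement_def] at h
    have : u * v * u⁻¹ = v := by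
      rw [mul_inv_eq_one] at h
      exact h
    calc u * v = (u * v * u⁻¹) * u := by group
      _ = v * u := by rw [this]
  · rw [← h]; exact hmem

end Ctx

end Cfsg.Agent.Lib.Helper12.OddTwo
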