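/-
helper12: leaf OLk (`relIndex_ge_of_mid`) of helper11's S2146 market (`notes/S2146_leaves.lean`):
the exact statement, from `Om2OLkOf` and helper5's C3.
-/
import Mathlib
import Cfsg.Agent.Lib.Helper11.Om2Tools
import Cfsg.Agent.Lib.Helper12.Om2OLkOf
import Cfsg.Agent.Lib.Helper5.Om2C3

set_option autoImplicit false

open Cfsg.Agent.Lib.Helper11.Om2 MulAction
open scoped Pointwise

namespace Cfsg.Agent.Lib.Helper12.Om2Leaf

variable {F V G : Type*} [Field F] [AddCommGroup V] [Module F V] [Group G] [DistribMulAction G V]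
  (S : Setting F V G)

/-- OLk -/
theorem relIndex_ge_of_mid [Finite V] [Finite G] {m : ℕ} (hV : Nat.card V = 2 ^ (2 * m))
    (hs : Nat.card {v : V // S.Q v = 0} = 2 ^ (2 * m - 1) + 2 ^ (m - 1)) (hm : 4 ≤ m)
    (H : Subgroup G) {x : V} (hx0 : x ≠ 0) (hx : S.Q x = 0)
    (h : Nat.card (S.Dt H hx) = 2 ^ m) :
    2 ^ (m - 1) * (2 ^ m - 1) ≤ H.relIndex (stabilizer G x) := by
  refine relIndex_ge_of_mid_of S hV hs hm H hx0 hx h ?_
  intro hm4 hts
  subst hm4
  exact Cfsg.Agent.Lib.Helper5.Om2Leaf.exists_moves_three S hV hx0 hx _ (S.self_mem_Dt H hx) hts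
    (by rw [h]; norm_num)

end Cfsg.Agent.Lib.Helper12.Om2Leaf
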