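import Mathlib
import Cfsg.Prelude.Def_ClassicalGeometry
import Cfsg.Prelude.Def_GeometricClasses
import Cfsg.Agent.Lib.Helper13.DkGen
import Cfsg.Agent.Lib.Helper20.Om7S.Wrap
import Cfsg.Agent.Lib.Helper20.Om7S.KDefs
import Cfsg.Agent.Lib.Helper22.Om7SL0cd

/-!
# S5813 (omega7, planner helper20), subfield block, leaf K5 `k5_minors` (helper12)

If the minors of `⟨x, y⟩` against all rational totally singular pairs lie in `F₀`, so do all its minors against rational
pairs.  Exact statement of `notes/Om7S_leaves.lean`.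
-/

set_option linter.dupNamespace false
set_option linter.ambiguousOpen false

namespace Cfsg.Agent.Lib.Helper20.Om7S

set_option autoImplicit false
set_option linter.unusedSectionVars false
set_option linter.unusedVariables false

open Cfsg Matrix QuadraticMap Module Cfsg.Agent.Lib.Helper25.Siegel Cfsg.Agent.Lib.Helper19.OSub
open _root_.Cfsg _root_.Cfsg.Agent.Lib.Helper25.Siegel
open Cfsg.Agent.Lib.Helper26.OSubLeaf
open S7

namespace Cfsg.Agent.Lib.Helper12.Om7SLeaf

variable {ι : Type} [Fintype ι] [DecidableEq ι] {F : Type*} [Field F] [Fintype F]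
  {F₀ : Subfield F} {Q : QuadraticForm F (ι → F)} {M : Subgroup (GL ι F)}

/-! ### bilinearity of the minor in the last two arguments -/

theorem minor_add_left (x y a a' b : ι → F) :
    minor Q x y (a + a') b = minor Q x y a b + minor Q x y a' b := by
  unfold minor
  rw [polar_add_left, polar_add_left]; ring

theorem minor_add_right (x y a b b' : ι → F) :
    minor Q x y a (b + b') = minor Q x y a b + minor Q x y a b' := by
  unfold minor
  rw [polar_add_left, polar_add_left]; ring

theorem minor_smul_left (x y a b : ι → F) (c : F) :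
    minor Q x y (c • a) b = c * minor Q x y a b := by
  unfold minor
  rw [polar_smul_left, polar_smul_left, smul_eq_mul, smul_eq_mul]; ring

theorem minor_smul_right (x y a b : ι → F) (c : F) :
    minor Q x y a (c • b) = c * minor Q x y a b := by
  unfold minor
  rw [polar_smul_left, polar_smul_left, smul_eq_mul, smul_eq_mul]; ring

theorem minor_sub_right (x y a b b' : ι → F) :
    minor Q x y a (b - b') = minor Q x y a b - minor Q x y a b' := by
  unfold minor
  rw [polar_sub_left, polar_sub_left]; ring

theorem minor_self (x y a : ι → F) : minor Q x y a a = 0 := by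
  unfold minor; ring

theorem minor_swap (x y a b : ι → F) : minor Q x y b a = -minor Q x y a b := by
  unfold minor; ring

/-- the minor of a rational hyperbolic pair -/
theorem minor_hyp (h : QCtx F₀ Q) (h2 : (2 : F) ≠ 0) {x y : ι → F}
    (hD : ∀ u v : ι → F, RatV F₀ u → RatV F₀ v → Q u = 0 → Q v = 0 → polar Q u v = 0 →
      minor Q x y u v ∈ F₀)
    {e f : ι → F} (he : RatV F₀ e) (hf : RatV F₀ f) (hQe : Q e = 0) (hQf : Q f = 0)
    (hef : polar Q e f = 1) : minor Q x y e f ∈ F₀ := by
  obtain ⟨e', f', hp, hee', hef', hfe', hff'⟩ := Cfsg.Agent.Lib.Helper22.Om7SLeaf.exists_perp_pair h he hf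
  have he'f' : polar Q e' f' = 1 := hp.dd'
  have hf'e' : polar Q f' e' = 1 := by rw [polar_comm]; exact he'f'
  have hfe : polar Q f e = 1 := by rw [polar_comm]; exact hef
  have he'e : polar Q e' e = 0 := by rw [polar_comm]; exact hee'
  have hf'e : polar Q f' e = 0 := by rw [polar_comm]; exact hef'
  have he'f : polar Q e' f = 0 := by rw [polar_comm]; exact hfe'
  have hf'f : polar Q f' f = 0 := by rw [polar_comm]; exact hff'
  -- the four cross terms
  have c1 : minor Q x y e e' ∈ F₀ := hD e e' he hp.rat hQe hp.Qd hee'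
  have c2 : minor Q x y f' f ∈ F₀ := hD f' f hp.rat' hf hp.Qd' hQf hf'f
  have c3 : minor Q x y e f' ∈ F₀ := hD e f' he hp.rat' hQe hp.Qd' hef'
  have c4 : minor Q x y e' f ∈ F₀ := hD e' f hp.rat hf hp.Qd hQf he'f
  -- the two totally singular pairs
  have s1 : minor Q x y (e + f') (f - e') ∈ F₀ := by
    apply hD _ _ (ratV_add he hp.rat') (ratV_sub hf hp.rat)
    · rw [QuadraticMap.map_add Q, hQe, hp.Qd', hef']; ring
    · rw [sub_eq_add_neg, QuadraticMap.map_add Q, QuadraticMap.map_neg, hQf, hp.Qd, polar_neg_right, hfe']; ring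
    · rw [polar_add_left, polar_sub_right, polar_sub_right, hef, hee', hf'f, hf'e']; ring
  have s2 : minor Q x y (e + e') (f - f') ∈ F₀ := by
    apply hD _ _ (ratV_add he hp.rat) (ratV_sub hf hp.rat')
    · rw [QuadraticMap.map_add Q, hQe, hp.Qd, hee']; ring
    · rw [sub_eq_add_neg, QuadraticMap.map_add Q, QuadraticMap.map_neg, hQf, hp.Qd', polar_neg_right, hff']; ring
    · rw [polar_add_left, polar_sub_right, polar_sub_right, hef, hef', he'f, he'f']; ring
  have e1 : minor Q x y (e + f') (f - e') =
      minor Q x y e f - minor Q x y e e' + minor Q x y f' f + minor Q x y e' f' := by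
    rw [minor_add_left, minor_sub_right, minor_sub_right, minor_swap x y e' f']; ring
  have e2 : minor Q x y (e + e') (f - f') =
      minor Q x y e f - minor Q x y e f' + minor Q x y e' f - minor Q x y e' f' := by
    rw [minor_add_left, minor_sub_right, minor_sub_right]; ring
  have hsum : 2 * minor Q x y e f ∈ F₀ := by
    have h3 : 2 * minor Q x y e f =
        minor Q x y (e + f') (f - e') + minor Q x y (e + e') (f - f') + minor Q x y e e' -
          minor Q x y f' f + minor Q x y e f' - minor Q x y e' f := by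
      rw [e1, e2]; ring
    rw [h3]
    exact F₀.sub_mem (F₀.add_mem (F₀.sub_mem (F₀.add_mem (F₀.add_mem s1 s2) c1) c2) c3) c4
  have h2F : (2 : F) ∈ F₀ := by
    have : (2 : F) = 1 + 1 := by norm_num
    rw [this]; exact F₀.add_mem F₀.one_mem F₀.one_mem
  have := F₀.mul_mem (F₀.inv_mem h2F) hsum
  rwa [← mul_assoc, inv_mul_cancel₀ h2, one_mul] at this

theorem k5_minors (h : QCtx F₀ Q) (h2 : (2 : F) ≠ 0) {x y : ι → F}
    (hD : ∀ u v : ι → F, RatV F₀ u → RatV F₀ v → Q u = 0 → Q v = 0 → polar Q u v = 0 →
      minor Q x y u v ∈ F₀) :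
    ∀ a b : ι → F, RatV F₀ a → RatV F₀ b → minor Q x y a b ∈ F₀ := by
  -- singular against singular
  have hss : ∀ s s' : ι → F, RatV F₀ s → RatV F₀ s' → Q s = 0 → Q s' = 0 →
      minor Q x y s s' ∈ F₀ := by
    intro s s' hs hs' hQs hQs'
    by_cases hl : polar Q s s' = 0
    · exact hD s s' hs hs' hQs hQs' hl
    · have hlF : polar Q s s' ∈ F₀ := ratV_polar h hs hs'
      have hinv : (polar Q s s')⁻¹ ∈ F₀ := F₀.inv_mem hlF
      have h3 := minor_hyp h h2 hD hs (ratV_smul hinv hs') hQs
        (by rw [QuadraticMap.map_smul, hQs', smul_zero])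
        (by rw [polar_smul_right, smul_eq_mul, inv_mul_cancel₀ hl])
      rw [minor_smul_right] at h3
      have := F₀.mul_mem hlF h3
      rwa [← mul_assoc, mul_inv_cancel₀ hl, one_mul] at this
  -- second argument arbitrary
  have hsb : ∀ s : ι → F, RatV F₀ s → Q s = 0 → ∀ b, RatV F₀ b → minor Q x y s b ∈ F₀ := by
    intro s hs hQs
    apply Cfsg.Agent.Lib.Helper22.Om7SLeaf.rat_induction h (P := fun b => minor Q x y s b ∈ F₀)
    · intro b b' hb hb'
      show minor Q x y s (b + b') ∈ F₀
      rw [minor_add_right]; exact F₀.add_mem hb hb'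
    · intro c hc b hb
      show minor Q x y s (c • b) ∈ F₀
      rw [minor_smul_right]; exact F₀.mul_mem hc hb
    · intro s' hs' hQs'
      exact hss s s' hs hs' hQs hQs'
  intro a b ha hb
  revert b
  revert a
  apply Cfsg.Agent.Lib.Helper22.Om7SLeaf.rat_induction h (P := fun a => ∀ b, RatV F₀ b → minor Q x y a b ∈ F₀)
  · intro a a' hPa hPa' b hb
    rw [minor_add_left]; exact F₀.add_mem (hPa b hb) (hPa' b hb)
  · intro c hc a hPa b hb
    rw [minor_smul_left]; exact F₀.mul_mem hc (hPa b hb)
  · intro s hs hQs b hb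
    exact hsb s hs hQs b hb

end Cfsg.Agent.Lib.Helper12.Om7SLeaf

end Cfsg.Agent.Lib.Helper20.Om7S
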