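import Mathlib
import Cfsg.Prelude.Def_ClassicalGeometry
import Cfsg.Prelude.Def_GeometricClasses
import Cfsg.Agent.Lib.Helper13.DkGen
import Cfsg.Agent.Lib.Helper20.Om7S.Wrap
import Cfsg.Agent.Lib.Helper20.Om7S.KDefs
import Cfsg.Agent.Lib.Helper23.Om7SL0

/-!
# S5813 (omega7, planner helper20), subfield block, leaf K6 `k6_point` (helper12)

If all minors of the planes `⟨x, y⟩` and `⟨x, y'⟩` against rational pairs are rational and `x, y, y'` are independent,
then the point `⟨x⟩` is rational.  Exact statement of `notes/Om7S_leaves.lean`.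
-/

set_option linter.dupNamespace false
set_option linter.ambiguousOpen false

namespace Cfsg.Agent.Lib.Helper20.Om7S

set_option autoImplicit false
set_option linter.unusedSectionVars false
set_option linter.unusedVariables false

open Cfsg Matrix QuadraticMap Module Cfsg.Agent.Lib.Helper25.Siegel Cfsg.Agent.Lib.Helper19.OSub
open _root_.Cfsg _root_.Cfsg.Agent.Lib.Helper25.Siegel
open Cfsg.Agent.Lib.Helper26.OSubLeaf
open S7

namespace Cfsg.Agent.Lib.Helper12.Om7SLeaf

variable {ι : Type} [Fintype ι] [DecidableEq ι] {F : Type*} [Field F] [Fintype F]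
  {F₀ : Subfield F} {Q : QuadraticForm F (ι → F)} {M : Subgroup (GL ι F)}

/-- a non-zero vector is not orthogonal to all coordinate vectors -/
theorem exists_single_polar_ne (hnd : (polarBilin Q).Nondegenerate) {z : ι → F} (hz : z ≠ 0) :
    ∃ i : ι, polar Q (Pi.single i (1 : F)) z ≠ 0 := by
  by_contra hcon
  push Not at hcon
  apply hz
  apply hnd.2 z
  intro a
  have h1 := LinearMap.pi_apply_eq_sum_univ ((polarBilin Q).flip z) a
  rw [LinearMap.flip_apply, polarBilin_apply_apply] at h1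
  rw [polarBilin_apply_apply, h1]
  apply Finset.sum_eq_zero
  intro i _
  rw [LinearMap.flip_apply, polarBilin_apply_apply]
  have : (fun j => if i = j then (1 : F) else 0) = Pi.single i (1 : F) := by
    funext j
    by_cases hij : i = j
    · subst hij; simp
    · rw [if_neg hij, Pi.single_eq_of_ne (Ne.symm hij)]
  rw [this, hcon i, smul_zero]

/-- the rational vector `B(p,y) x - B(p,x) y` of the plane `⟨x, y⟩` -/
def wv (Q : QuadraticForm F (ι → F)) (x y p : ι → F) : ι → F :=
  polar Q p y • x - polar Q p x • y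

theorem polar_wv (x y p a : ι → F) : polar Q a (wv Q x y p) = minor Q x y a p := by
  unfold wv minor
  rw [polar_sub_right, polar_smul_right, polar_smul_right, smul_eq_mul, smul_eq_mul]; ring

theorem ratV_wv (h : QCtx F₀ Q) {x y : ι → F}
    (hD : ∀ a b : ι → F, RatV F₀ a → RatV F₀ b → minor Q x y a b ∈ F₀) {p : ι → F}
    (hp : RatV F₀ p) : RatV F₀ (wv Q x y p) := by
  apply S7.rd h
  intro a ha
  rw [polar_wv]
  exact hD a p ha hp

/-- two rational vectors with a non-zero minor -/
theorem exists_minor_ne (hnd : (polarBilin Q).Nondegenerate) {x y : ι → F}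
    (hxy : ∀ a b : F, a • x + b • y = 0 → a = 0 ∧ b = 0) :
    ∃ p q : ι → F, RatV F₀ p ∧ RatV F₀ q ∧ minor Q x y p q ≠ 0 := by
  have hx0 : x ≠ 0 := by
    rintro rfl
    have := (hxy 1 0 (by simp)).1
    exact one_ne_zero this
  obtain ⟨i, hi⟩ := exists_single_polar_ne hnd hx0
  have hz : polar Q (Pi.single i (1 : F)) x • y - polar Q (Pi.single i (1 : F)) y • x ≠ 0 := by
    intro h0
    have h1 := hxy (-polar Q (Pi.single i (1 : F)) y) (polar Q (Pi.single i (1 : F)) x)
      (by rw [← h0]; module)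
    exact hi h1.2
  obtain ⟨j, hj⟩ := exists_single_polar_ne hnd hz
  refine ⟨Pi.single i 1, Pi.single j 1, ratV_single i, ratV_single j, ?_⟩
  unfold minor
  intro h0
  apply hj
  rw [polar_sub_right, polar_smul_right, polar_smul_right, smul_eq_mul, smul_eq_mul]
  linear_combination h0

theorem k6_point (h : QCtx F₀ Q) {x y y' : ι → F} (hli : LinearIndependent F ![x, y, y'])
    (hD : ∀ a b : ι → F, RatV F₀ a → RatV F₀ b → minor Q x y a b ∈ F₀)
    (hD' : ∀ a b : ι → F, RatV F₀ a → RatV F₀ b → minor Q x y' a b ∈ F₀) :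
    ∃ μ : F, μ ≠ 0 ∧ RatV F₀ (μ • x) := by
  have hind : ∀ a b c : F, a • x + b • y + c • y' = 0 → a = 0 ∧ b = 0 ∧ c = 0 := by
    intro a b c habc
    have h1 := Fintype.linearIndependent_iff.mp hli ![a, b, c] (by
      rw [Fin.sum_univ_three]; simpa using habc)
    exact ⟨by simpa using h1 0, by simpa using h1 1, by simpa using h1 2⟩
  have hxy : ∀ a b : F, a • x + b • y = 0 → a = 0 ∧ b = 0 := by
    intro a b hab
    have := hind a b 0 (by rw [zero_smul, add_zero]; exact hab)
    exact ⟨this.1, this.2.1⟩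
  have hxy' : ∀ a b : F, a • x + b • y' = 0 → a = 0 ∧ b = 0 := by
    intro a b hab
    have := hind a 0 b (by rw [zero_smul, add_zero]; exact hab)
    exact ⟨this.1, this.2.2⟩
  obtain ⟨p, q, hp, hq, hpq⟩ := exists_minor_ne (F₀ := F₀) h.nd hxy
  obtain ⟨p', q', hp', hq', hpq'⟩ := exists_minor_ne (F₀ := F₀) h.nd hxy'
  -- the four rational vectors
  obtain ⟨r, hr⟩ : ∃ r : Fin 4 → (ι → F), r = ![wv Q x y p, wv Q x y q, wv Q x y' p', wv Q x y' q'] :=
    ⟨_, rfl⟩
  have hrat : ∀ i, RatV F₀ (r i) := by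
    intro i
    rw [hr]
    fin_cases i
    · exact ratV_wv h hD hp
    · exact ratV_wv h hD hq
    · exact ratV_wv h hD' hp'
    · exact ratV_wv h hD' hq'
  -- an explicit dependency
  obtain ⟨c, hc⟩ : ∃ c : Fin 4 → F, c = ![-(minor Q x y' p' q' * polar Q q x),
      minor Q x y' p' q' * polar Q p x, minor Q x y p q * polar Q q' x,
      -(minor Q x y p q * polar Q p' x)] := ⟨_, rfl⟩
  have hdep : ∑ i, c i • r i = 0 := by
    rw [Fin.sum_univ_four, hc, hr]
    simp only [Matrix.cons_val_zero, Matrix.cons_val_one, Matrix.cons_val_two, Matrix.cons_val_three,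
      Matrix.head_cons, Matrix.tail_cons]
    unfold wv minor
    module
  have hcne : ∃ i₀, c i₀ ≠ 0 := by
    by_contra hcon
    push Not at hcon
    have h0 := hcon 0
    have h1 := hcon 1
    rw [hc] at h0 h1
    simp only [Matrix.cons_val_zero, Matrix.cons_val_one, Matrix.head_cons] at h0 h1
    have hq0 : polar Q q x = 0 := by
      rcases mul_eq_zero.mp (neg_eq_zero.mp h0) with h3 | h3
      · exact absurd h3 hpq'
      · exact h3
    have hp0 : polar Q p x = 0 := by
      rcases mul_eq_zero.mp h1 with h3 | h3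
      · exact absurd h3 hpq'
      · exact h3
    apply hpq
    unfold minor
    rw [hp0, hq0]; ring
  obtain ⟨i₀, hi₀⟩ := hcne
  obtain ⟨c₀, hc₀F, ⟨i₁, hi₁⟩, hc₀⟩ := Cfsg.Agent.Lib.Helper23.Om7SLeaf.rat_dep hrat hdep hi₀
  rw [Fin.sum_univ_four, hr] at hc₀
  simp only [Matrix.cons_val_zero, Matrix.cons_val_one, Matrix.cons_val_two, Matrix.cons_val_three,
    Matrix.head_cons, Matrix.tail_cons] at hc₀
  -- coefficients
  obtain ⟨A, hA⟩ : ∃ A : F, A = c₀ 0 * polar Q p y + c₀ 1 * polar Q q y := ⟨_, rfl⟩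
  obtain ⟨B, hB⟩ : ∃ B : F, B = c₀ 0 * polar Q p x + c₀ 1 * polar Q q x := ⟨_, rfl⟩
  obtain ⟨A', hA'⟩ : ∃ A' : F, A' = c₀ 2 * polar Q p' y' + c₀ 3 * polar Q q' y' := ⟨_, rfl⟩
  obtain ⟨B', hB'⟩ : ∃ B' : F, B' = c₀ 2 * polar Q p' x + c₀ 3 * polar Q q' x := ⟨_, rfl⟩
  have hrel : (A + A') • x + (-B) • y + (-B') • y' = 0 := by
    rw [hA, hA', hB, hB', ← hc₀]
    unfold wv
    module
  obtain ⟨k1, k2, k3⟩ := hind _ _ _ hrel
  have hB0 : B = 0 := by simpa using k2
  have hB'0 : B' = 0 := by simpa using k3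
  have hr0 : A • x = c₀ 0 • wv Q x y p + c₀ 1 • wv Q x y q := by
    have : c₀ 0 • wv Q x y p + c₀ 1 • wv Q x y q = A • x - B • y := by
      rw [hA, hB]; unfold wv; module
    rw [this, hB0, zero_smul, sub_zero]
  refine ⟨A, ?_, ?_⟩
  · intro hA0
    -- all four coefficients vanish
    have e1 : c₀ 0 * polar Q p y + c₀ 1 * polar Q q y = 0 := by rw [← hA]; exact hA0
    have e2 : c₀ 0 * polar Q p x + c₀ 1 * polar Q q x = 0 := by rw [← hB]; exact hB0
    have hA'0 : A' = 0 := by
      have := k1; rw [hA0, zero_add] at this; exact this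
    have e3 : c₀ 2 * polar Q p' y' + c₀ 3 * polar Q q' y' = 0 := by rw [← hA']; exact hA'0
    have e4 : c₀ 2 * polar Q p' x + c₀ 3 * polar Q q' x = 0 := by rw [← hB']; exact hB'0
    have d0 : c₀ 0 * minor Q x y p q = 0 := by unfold minor; linear_combination (polar Q q y) * e2 - (polar Q q x) * e1
    have d1 : c₀ 1 * minor Q x y p q = 0 := by unfold minor; linear_combination (polar Q p x) * e1 - (polar Q p y) * e2
    have d2 : c₀ 2 * minor Q x y' p' q' = 0 := by unfold minor; linear_combination (polar Q q' y') * e4 - (polar Q q' x) * e3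
    have d3 : c₀ 3 * minor Q x y' p' q' = 0 := by unfold minor; linear_combination (polar Q p' x) * e3 - (polar Q p' y') * e4
    have z0 := (mul_eq_zero.mp d0).resolve_right hpq
    have z1 := (mul_eq_zero.mp d1).resolve_right hpq
    have z2 := (mul_eq_zero.mp d2).resolve_right hpq'
    have z3 := (mul_eq_zero.mp d3).resolve_right hpq'
    apply hi₁
    fin_cases i₁
    · exact z0
    · exact z1
    · exact z2
    · exact z3
  · rw [hr0]
    exact ratV_add (ratV_smul (hc₀F 0) (ratV_wv h hD hp)) (ratV_smul (hc₀F 1) (ratV_wv h hD hq))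

end Cfsg.Agent.Lib.Helper12.Om7SLeaf

end Cfsg.Agent.Lib.Helper20.Om7S
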