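import Mathlib
import Cfsg.Prelude.Def_GeometricClasses
import Cfsg.Agent.Lib.Helper12.C3SpC

/-! Helper12 library (OrC3, part A): a quadratic field subalgebra of a matrix algebra in odd
characteristic is generated by a square root of a nonsquare scalar; the quadratic algebra model and
its representation. -/

set_option autoImplicit false

namespace Cfsg.Agent.Lib.Helper12.OrC3

open Module Matrix

section gen

variable {F : Type*} [Field F] {ι : Type} [Fintype ι] [DecidableEq ι]

/-- a quadratic field subalgebra is generated by an element whose square is a nonsquare scalar -/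
theorem exists_gen (h2 : (2 : F) ≠ 0) (K : Subalgebra F (Matrix ι ι F))
    (hK : Cfsg.Geo.IsFieldSubalgebra 2 K) :
    ∃ (δ : F) (k : Matrix ι ι F), k ∈ K ∧ k * k = δ • (1 : Matrix ι ι F) ∧ (∀ r : F, r ^ 2 ≠ δ) ∧
      ∀ a ∈ K, ∃ s t : F, a = s • (1 : Matrix ι ι F) + t • k := by
  classical
  have hfin : finrank F ↥K = 2 := hK.finrank_eq
  haveI : FiniteDimensional F ↥K := FiniteDimensional.of_finrank_pos (by rw [hfin]; norm_num)
  -- an element outside the scalars
  obtain ⟨x, hx⟩ : ∃ x : ↥K, x ∉ Submodule.span F {(1 : ↥K)} := by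
    by_contra hcon
    push_neg at hcon
    have htop : Submodule.span F {(1 : ↥K)} = ⊤ := by
      rw [eq_top_iff]
      intro x _
      exact hcon x
    have h1 : finrank F (Submodule.span F {(1 : ↥K)}) ≤ 1 := by
      have := finrank_span_le_card (R := F) ({(1 : ↥K)} : Set ↥K)
      simpa using this
    rw [htop, finrank_top, hfin] at h1
    omega
  have h1ne : (1 : ↥K) ≠ 0 := by
    intro h
    apply hx
    have : x = x * 1 := (mul_one x).symm
    rw [this, h, mul_zero]
    exact Submodule.zero_mem _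
  have hli : LinearIndependent F ![(1 : ↥K), x] := by
    rw [LinearIndependent.pair_iff' h1ne]
    intro a ha
    apply hx
    rw [← ha]
    exact Submodule.smul_mem _ _ (Submodule.subset_span rfl)
  have hcard : Fintype.card (Fin 2) = finrank F ↥K := by rw [hfin]; rfl
  let b := basisOfLinearIndependentOfCardEqFinrank hli hcard
  have hb : ⇑b = ![(1 : ↥K), x] := coe_basisOfLinearIndependentOfCardEqFinrank hli hcard
  have hrep : ∀ a : ↥K, ∃ s t : F, a = s • (1 : ↥K) + t • x := by
    intro a
    refine ⟨b.repr a 0, b.repr a 1, ?_⟩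
    have := b.sum_repr a
    rw [Fin.sum_univ_two, hb] at this
    simpa using this.symm
  obtain ⟨c0, c1, hxx⟩ := hrep (x * x)
  -- complete the square
  obtain ⟨k, hk⟩ : ∃ k : ↥K, k = x - (c1 / 2) • (1 : ↥K) := ⟨_, rfl⟩
  obtain ⟨δ, hδ⟩ : ∃ δ : F, δ = c0 + c1 ^ 2 / 4 := ⟨_, rfl⟩
  have h4 : (4 : F) ≠ 0 := by
    have : (4 : F) = 2 * 2 := by norm_num
    rw [this]
    exact mul_ne_zero h2 h2
  have hkk : k * k = δ • (1 : ↥K) := by
    rw [hk, sub_mul, mul_sub, mul_sub, hxx, hδ]
    simp only [smul_mul_assoc, mul_smul_comm, one_mul, mul_one, smul_smul, sub_smul, add_smul]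
    have e1 : c1 / 2 * (c1 / 2) = c1 ^ 2 / 4 := by field_simp; ring
    have e2 : c1 = c1 / 2 + c1 / 2 := by field_simp; ring
    rw [e1]
    nth_rewrite 1 [e2]
    rw [add_smul]
    abel
  have hxk : x = k + (c1 / 2) • (1 : ↥K) := by rw [hk]; abel
  have hknot : ∀ s : F, k ≠ s • (1 : ↥K) := by
    intro s hs
    apply hx
    rw [hxk, hs, ← add_smul]
    exact Submodule.smul_mem _ _ (Submodule.subset_span rfl)
  refine ⟨δ, (k : Matrix ι ι F), k.2, ?_, ?_, ?_⟩
  · have := congrArg (Subtype.val) hkk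
    simpa using this
  · intro r hr
    -- `(k - r)(k + r) = 0`
    have hprod : (k - r • (1 : ↥K)) * (k + r • (1 : ↥K)) = 0 := by
      rw [sub_mul, mul_add, mul_add, hkk, ← hr]
      simp only [smul_mul_assoc, mul_smul_comm, one_mul, mul_one, smul_smul]
      rw [pow_two]
      abel
    have hne : k - r • (1 : ↥K) ≠ 0 := fun h => hknot r (sub_eq_zero.1 h)
    have hne' : ((k - r • (1 : ↥K) : ↥K) : Matrix ι ι F) ≠ 0 := fun h => hne (Subtype.ext h)
    obtain ⟨y, hy, hxy⟩ := hK.inv _ (k - r • (1 : ↥K)).2 hne'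
    have hcomm := hK.comm _ (k - r • (1 : ↥K)).2 y hy
    have h3 : k + r • (1 : ↥K) = 0 := by
      have h4' : (⟨y, hy⟩ : ↥K) * ((k - r • (1 : ↥K)) * (k + r • (1 : ↥K))) = 0 := by
        rw [hprod, mul_zero]
      rw [← mul_assoc] at h4'
      have h5 : (⟨y, hy⟩ : ↥K) * (k - r • (1 : ↥K)) = 1 := by
        apply Subtype.ext
        show y * ((k - r • (1 : ↥K) : ↥K) : Matrix ι ι F) = 1
        rw [← hcomm, hxy]
      rw [h5, one_mul] at h4'
      exact h4'
    apply hknot (-r)
    rw [neg_smul]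
    exact eq_neg_of_add_eq_zero_left h3
  · intro a ha
    obtain ⟨s, t, hst⟩ := hrep ⟨a, ha⟩
    refine ⟨s + t * (c1 / 2), t, ?_⟩
    have := congrArg (Subtype.val) hst
    simp only at this
    rw [this, hxk]
    simp only [Subalgebra.coe_add, Subalgebra.coe_smul, Subalgebra.coe_one, smul_add, smul_smul,
      add_smul]
    abel

end gen

end Cfsg.Agent.Lib.Helper12.OrC3
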