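import Mathlib
import Cfsg.Agent.Lib.Helper12.C3SpA
import Cfsg.Agent.Lib.Helper15.OrthSemi

/-! Helper12 library (OrC3, part B): a quadratic form `Q` over `F` on a space which is also a vector
space over an extension field `E` of `F` all of whose scalars are self-adjoint for the polar form of
`Q` is the trace of a quadratic form over `E`; consequences for `E`-linear isometries. -/

set_option autoImplicit false
set_option linter.unusedSectionVars false
set_option linter.unusedVariables false
set_option linter.style.haveILetI false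

namespace Cfsg.Agent.Lib.Helper12.OrC3

open Module QuadraticMap Cfsg.Agent.Lib.Helper12.C3Sp Cfsg.Agent.Lib.Helper12.Elus

section qe

variable {F E V : Type*} [Field F] [Field E] [Algebra F E] [FiniteDimensional F E]
  [Algebra.IsSeparable F E]
  [AddCommGroup V] [Module F V] [Module E V] [IsScalarTower F E V]
  (Q : QuadraticForm F V)

/-- self-adjointness of the scalars of `E` -/
abbrev SelfAdj : Prop :=
  ∀ (a : E) (u v : V), polarBilin Q (a • u) v = polarBilin Q u (a • v)

variable {Q}

/-- the `E`-bilinear form whose trace is the polar form of `Q` -/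
noncomputable def phi (hsa : SelfAdj (E := E) Q) : LinearMap.BilinForm E V :=
  trForm (polarBilin Q) (fun a u v => hsa a u v)

theorem trace_mul_phi (hsa : SelfAdj (E := E) Q) (a : E) (u v : V) :
    Algebra.trace F E (a * phi hsa u v) = polar Q (a • u) v := by
  unfold phi
  rw [trace_mul_trForm, polarBilin_apply_apply]

theorem trace_phi (hsa : SelfAdj (E := E) Q) (u v : V) :
    Algebra.trace F E (phi hsa u v) = polar Q u v := by
  have := trace_mul_phi hsa 1 u v
  rwa [one_mul, one_smul] at this

theorem phi_unique (hsa : SelfAdj (E := E) Q) (u v : V) (c : E)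
    (h : ∀ a : E, Algebra.trace F E (a * c) = polar Q (a • u) v) : phi hsa u v = c := by
  unfold phi
  rw [trForm_apply]
  apply trVal_unique
  intro a
  rw [h a, polarBilin_apply_apply]

theorem phi_symm (hsa : SelfAdj (E := E) Q) (u v : V) : phi hsa u v = phi hsa v u := by
  apply phi_unique
  intro a
  rw [trace_mul_phi, polar_comm]
  have := hsa a u v
  rw [polarBilin_apply_apply, polarBilin_apply_apply] at this
  rw [this, polar_comm]

theorem two_ne_zero_E (h2 : (2 : F) ≠ 0) : (2 : E) ≠ 0 := by
  intro h
  apply h2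
  have h1 : algebraMap F E 2 = 0 := by rw [map_ofNat]; exact h
  exact (map_eq_zero (algebraMap F E)).1 h1

/-- the quadratic form over `E` -/
noncomputable def QE (hsa : SelfAdj (E := E) Q) : QuadraticForm E V :=
  LinearMap.BilinMap.toQuadraticMap ((2⁻¹ : E) • phi hsa)

theorem QE_apply (hsa : SelfAdj (E := E) Q) (v : V) : QE hsa v = 2⁻¹ * phi hsa v v := by
  unfold QE
  rw [LinearMap.BilinMap.toQuadraticMap_apply, LinearMap.smul_apply, LinearMap.smul_apply,
    smul_eq_mul]

theorem polar_QE (h2 : (2 : F) ≠ 0) (hsa : SelfAdj (E := E) Q) (u v : V) :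
    polar (QE hsa) u v = phi hsa u v := by
  have h2E := two_ne_zero_E (E := E) h2
  unfold polar
  rw [QE_apply, QE_apply, QE_apply]
  simp only [map_add, LinearMap.add_apply]
  rw [phi_symm hsa v u]
  field_simp
  ring

theorem trace_mul_QE (h2 : (2 : F) ≠ 0) (hsa : SelfAdj (E := E) Q) (a : E) (v : V) :
    Algebra.trace F E (a * QE hsa v) = 2⁻¹ * polar Q (a • v) v := by
  rw [QE_apply]
  have e : a * (2⁻¹ * phi hsa v v) = (2⁻¹ : F) • (a * phi hsa v v) := by
    rw [Algebra.smul_def, map_inv₀, map_ofNat]
    ring
  rw [e, map_smul, trace_mul_phi, smul_eq_mul]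

theorem trace_QE (h2 : (2 : F) ≠ 0) (hsa : SelfAdj (E := E) Q) (v : V) :
    Algebra.trace F E (QE hsa v) = Q v := by
  have := trace_mul_QE h2 hsa 1 v
  rw [one_mul, one_smul, polar_self] at this
  rw [this, two_smul, ← two_mul, ← mul_assoc, inv_mul_cancel₀ h2, one_mul]

theorem Q_smul (h2 : (2 : F) ≠ 0) (hsa : SelfAdj (E := E) Q) (a : E) (v : V) :
    Q (a • v) = Algebra.trace F E (a * a * QE hsa v) := by
  rw [← trace_QE h2 hsa, QuadraticMap.map_smul, smul_eq_mul]

theorem QE_nd (h2 : (2 : F) ≠ 0) (hsa : SelfAdj (E := E) Q)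
    (hnd : (polarBilin Q).Nondegenerate) : (polarBilin (QE hsa)).Nondegenerate := by
  have key : ∀ x : V, (∀ y, polar (QE hsa) x y = 0) → x = 0 := by
    intro x hx
    apply hnd.1 x
    intro y
    rw [polarBilin_apply_apply, ← trace_phi hsa, ← polar_QE h2 hsa, hx, map_zero]
  constructor
  · intro x hx
    apply key
    intro y
    have := hx y
    rwa [polarBilin_apply_apply] at this
  · intro y hy
    apply key
    intro x
    have := hy x
    rw [polarBilin_apply_apply] at this
    rw [polar_comm]
    exact this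

/-- an `E`-linear `F`-isometry is an isometry of the form over `E` -/
theorem QE_iso (h2 : (2 : F) ≠ 0) (hsa : SelfAdj (E := E) Q) (g : V →ₗ[E] V)
    (hg : ∀ v, Q (g v) = Q v) (v : V) : QE hsa (g v) = QE hsa v := by
  have hpol : ∀ u w, polar Q (g u) (g w) = polar Q u w := by
    intro u w
    unfold polar
    rw [← map_add, hg, hg, hg]
  rw [QE_apply, QE_apply]
  congr 1
  apply phi_unique
  intro a
  rw [trace_mul_phi, ← hpol, map_smul]

end qe

section lemmaA

variable {F E V : Type*} [Field F] [Field E] [Algebra F E] [FiniteDimensional F E]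
  [Algebra.IsSeparable F E]
  [AddCommGroup V] [Module F V] [Module E V] [IsScalarTower F E V] [FiniteDimensional F V]
  {Q : QuadraticForm F V}

/-- the `F`-linear map underlying an `E`-linear map has the same commutator space -/
theorem movR_restrict (g : V →ₗ[E] V) :
    (movR g).restrictScalars F = movR (g.restrictScalars F) := by
  ext v
  constructor
  · rintro ⟨w, rfl⟩
    exact ⟨w, rfl⟩
  · rintro ⟨w, rfl⟩
    exact ⟨w, rfl⟩

theorem finrank_restrict (W : Submodule E V) :
    finrank F (W.restrictScalars F) = finrank F E * finrank E W := by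
  rw [Module.finrank_mul_finrank F E W]
  rfl

/-- Lemma A: an `E`-linear isometry of odd prime order prime to the characteristic has a commutator
space whose `E`-dimension is even -/
theorem even_finrank_mov (h2 : (2 : F) ≠ 0) (hsa : SelfAdj (E := E) Q)
    (hnd : (polarBilin Q).Nondegenerate) (g : V →ₗ[E] V) (hg : ∀ v, Q (g v) = Q v)
    (r : ℕ) [Fact r.Prime] (hr2 : r ≠ 2) (hgr : g ^ r = 1) (hr0 : (r : F) ≠ 0) :
    Even (finrank E (movR g)) := by
  haveI : FiniteDimensional E V := FiniteDimensional.right F E V
  have hr0E : (r : E) ≠ 0 := by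
    intro h
    apply hr0
    have h1 : algebraMap F E (r : F) = 0 := by rw [map_natCast]; exact h
    exact (map_eq_zero (algebraMap F E)).1 h1
  have hQE := QE_nd h2 hsa hnd
  have htop : Cfsg.Agent.Lib.Helper15.NdOn (QE hsa) ⊤ := by
    intro w _ hw
    apply hQE.1 w
    intro y
    rw [polarBilin_apply_apply]
    exact hw y Submodule.mem_top
  have hmov := Cfsg.Agent.Lib.Helper15.OrthSemi.ndOn_mov (QE hsa) htop g (QE_iso h2 hsa g hg) r hgr
    hr0E
  exact Cfsg.Agent.Lib.Helper15.OrthSemi.even_finrank_of_fpf (QE hsa) g (QE_iso h2 hsa g hg) r hr2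
    hgr hr0E (movR g) (movR_invariant g) le_rfl hmov

end lemmaA

end Cfsg.Agent.Lib.Helper12.OrC3
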