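import Mathlib
import Cfsg.Prelude.Def_GeometricClasses
import Cfsg.Agent.Lib.Helper12.OrC3B
import Cfsg.Agent.Lib.Helper12.C3SpE

/-! Helper12 library (OrC3, part C): matrix level. Elements of `GL` centralizing a self-adjoint
quadratic extension field and preserving a quadratic form: divisibility of the dimension of the
commutator space by four (odd order prime to the characteristic), evenness of the rank of
polynomial expressions. -/

set_option autoImplicit false
set_option linter.unusedSectionVars false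
set_option linter.unusedVariables false
set_option linter.style.haveILetI false

namespace Cfsg.Agent.Lib.Helper12.OrC3

open Module Matrix QuadraticMap Cfsg.Agent.Lib.Helper12.C3Sp Cfsg.Agent.Lib.Helper12.Elus

section mat

universe u

variable {F : Type u} [Field F] [Fintype F] {ι : Type} [Fintype ι] [DecidableEq ι]
  {E : Type*} [Field E] [Algebra F E] [FiniteDimensional F E] (ρ : E →ₐ[F] Matrix ι ι F)
  (Qs : QuadraticForm F (ι → F))

theorem selfAdj_of (hKf : Cfsg.Geo.IsSelfAdjointFor (polar Qs) ρ.range) :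
    letI := modOf ρ
    SelfAdj (E := E) Qs := by
  letI := modOf ρ
  intro a u v
  rw [polarBilin_apply_apply, polarBilin_apply_apply, smul_def, smul_def]
  exact hKf (ρ a) ⟨a, rfl⟩ u v

/-- the `E`-linear map of a centralizing matrix -/
noncomputable def linE (M : Matrix ι ι F) (hM : ∀ a : E, M * ρ a = ρ a * M) :
    letI := modOf ρ
    (ι → F) →ₗ[E] (ι → F) :=
  letI := modOf ρ
  { toFun := fun v => M *ᵥ v
    map_add' := fun u v => Matrix.mulVec_add M u v
    map_smul' := fun a v => by
      show M *ᵥ (a • v) = a • (M *ᵥ v)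
      rw [smul_def, smul_def, Matrix.mulVec_mulVec, Matrix.mulVec_mulVec, hM a] }

theorem linE_apply (M : Matrix ι ι F) (hM : ∀ a : E, M * ρ a = ρ a * M) (v : ι → F) :
    (letI := modOf ρ; linE ρ M hM v) = M *ᵥ v := rfl

theorem linE_restrict (M : Matrix ι ι F) (hM : ∀ a : E, M * ρ a = ρ a * M) :
    (letI := modOf ρ; haveI := isScalarTower ρ; (linE ρ M hM).restrictScalars F) =
      Matrix.toLin' M := by
  letI := modOf ρ
  haveI := isScalarTower ρ
  apply LinearMap.ext
  intro v
  rw [Matrix.toLin'_apply]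
  rfl

/-- the range of a matrix commuting with the field has even dimension -/
theorem even_finrank_range_of_comm (hE2 : finrank F E = 2) (M : Matrix ι ι F)
    (hM : ∀ a : E, M * ρ a = ρ a * M) :
    2 ∣ finrank F (LinearMap.range (Matrix.toLin' M)) := by
  letI := modOf ρ
  haveI := isScalarTower ρ
  rw [← hE2]
  apply dvd_finrank_of_invariant (E := E)
  rintro a _ ⟨w, rfl⟩
  refine ⟨a • w, ?_⟩
  rw [Matrix.toLin'_apply, Matrix.toLin'_apply, smul_def, smul_def, Matrix.mulVec_mulVec,
    Matrix.mulVec_mulVec, hM a]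

theorem comm_of_centK (g : GL ι F) (hg : g ∈ centK ρ.range) (a : E) :
    (g : Matrix ι ι F) * ρ a = ρ a * (g : Matrix ι ι F) :=
  (mem_centK _ g).1 hg (ρ a) ⟨a, rfl⟩

/-- Lemma A at matrix level -/
theorem four_dvd_mov_of_cent (h2 : (2 : F) ≠ 0) (hnd : (polarBilin Qs).Nondegenerate)
    (hKf : Cfsg.Geo.IsSelfAdjointFor (polar Qs) ρ.range) (hE2 : finrank F E = 2)
    (g : GL ι F) (hg : g ∈ centK ρ.range) (hiso : g ∈ Cfsg.isometryGroup F ⇑Qs)
    (r : ℕ) [Fact r.Prime] (hr2 : r ≠ 2) (hgr : g ^ r = 1) (hr0 : (r : F) ≠ 0) :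
    4 ∣ finrank F (movR (Matrix.toLin' (g : Matrix ι ι F))) := by
  letI := modOf ρ
  haveI := isScalarTower ρ
  have hsa := selfAdj_of ρ Qs hKf
  obtain ⟨gE, hgE⟩ : ∃ gE : (ι → F) →ₗ[E] (ι → F), gE = linE ρ (g : Matrix ι ι F)
    (comm_of_centK ρ g hg) := ⟨_, rfl⟩
  have hres : gE.restrictScalars F = Matrix.toLin' (g : Matrix ι ι F) := by
    rw [hgE]; exact linE_restrict ρ _ _
  have hgiso : ∀ v, Qs (gE v) = Qs v := by
    intro v
    rw [hgE, linE_apply]
    exact hiso v v
  have hpow : gE ^ r = 1 := by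
    apply LinearMap.ext
    intro v
    have h1 : ∀ n : ℕ, ∀ w, (gE ^ n) w = ((g : Matrix ι ι F) ^ n) *ᵥ w := by
      intro n
      induction n with
      | zero => intro w; simp
      | succ n ih =>
        intro w
        rw [pow_succ', Module.End.mul_apply, ih, hgE, linE_apply, Matrix.mulVec_mulVec,
          ← pow_succ']
    rw [h1 r v]
    have h3 : ((g : Matrix ι ι F) ^ r) = 1 := by
      rw [← Units.val_pow_eq_pow_val, hgr]; rfl
    rw [h3, Matrix.one_mulVec]
    rfl
  have hev := even_finrank_mov (E := E) h2 hsa hnd gE hgiso r hr2 hpow hr0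
  rw [← hres, ← movR_restrict, finrank_restrict, hE2]
  obtain ⟨m, hm⟩ := hev
  rw [hm]
  exact ⟨m, by ring⟩

end mat

end Cfsg.Agent.Lib.Helper12.OrC3
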