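import Mathlib
import Cfsg.Agent.Lib.Helper15.QuadType

/-! Helper12 library (OrC3, part D): the level sets of the trace of a function with values in a
quadratic extension `E` of a finite field `F`: a function of type `ε` and rank `n` over `E` has a
trace of type `ε` and rank `2n` over `F`. -/

set_option autoImplicit false
set_option linter.unusedSectionVars false
set_option linter.unusedVariables false
set_option linter.style.haveILetI false

namespace Cfsg.Agent.Lib.Helper12.OrC3

open Module Cfsg.Agent.Lib.Helper15.QuadType

section tracecount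

variable {F E : Type*} [Field F] [Fintype F] [Field E] [Fintype E] [Algebra F E]

/-- the fibres of the trace of a quadratic extension of finite fields -/
theorem card_trace_fibre (hE2 : finrank F E = 2) (f : F) :
    Nat.card {c : E // Algebra.trace F E c = f} = Fintype.card F := by
  classical
  haveI : FiniteDimensional F E := FiniteDimensional.of_finrank_pos (by rw [hE2]; norm_num)
  have hsurj : Function.Surjective (Algebra.trace F E) := Algebra.trace_surjective F E
  obtain ⟨c₀, hc₀⟩ := hsurj f
  have e : {c : E // Algebra.trace F E c = f} ≃ LinearMap.ker (Algebra.trace F E) :=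
    { toFun := fun c => ⟨c.1 - c₀, by rw [LinearMap.mem_ker, map_sub, c.2, hc₀, sub_self]⟩
      invFun := fun k => ⟨k.1 + c₀, by
        rw [map_add, (LinearMap.mem_ker.1 k.2), hc₀, zero_add]⟩
      left_inv := fun c => by apply Subtype.ext; simp
      right_inv := fun k => by apply Subtype.ext; simp }
  rw [Nat.card_congr e]
  have h1 := LinearMap.finrank_range_add_finrank_ker (Algebra.trace F E)
  have h2 : LinearMap.range (Algebra.trace F E) = ⊤ := LinearMap.range_eq_top.2 hsurj
  rw [h2, finrank_top, finrank_self, hE2] at h1
  have h3 : finrank F (LinearMap.ker (Algebra.trace F E)) = 1 := by omega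
  rw [Nat.card_eq_fintype_card, Module.card_eq_pow_finrank (K := F), h3, pow_one]

open scoped Classical in
/-- counting a level set of the trace through the level sets of the function -/
theorem card_trace_level {W : Type*} [Finite W] (QW : W → E) (f : F) :
    Nat.card {w : W // Algebra.trace F E (QW w) = f} =
      ∑ c : {c : E // Algebra.trace F E c = f}, Nat.card {w : W // QW w = c.1} := by
  classical
  have e : {w : W // Algebra.trace F E (QW w) = f} ≃
      Σ c : {c : E // Algebra.trace F E c = f}, {w : W // QW w = c.1} :=
    { toFun := fun w => ⟨⟨QW w.1, w.2⟩, ⟨w.1, rfl⟩⟩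
      invFun := fun s => ⟨s.2.1, by rw [s.2.2]; exact s.1.2⟩
      left_inv := fun w => rfl
      right_inv := by
        rintro ⟨⟨c, hc⟩, w, hw⟩
        dsimp only at hw
        subst hw
        rfl }
  rw [Nat.card_congr e, Nat.card_sigma]

/-- the type of the trace -/
theorem hasType_trace (hE2 : finrank F E = 2) {ε : ℤ} {n : ℕ} {W : Type*} [Finite W] {QW : W → E}
    (h : HasType ε n QW) : HasType ε (2 * n) (fun w => Algebra.trace F E (QW w)) := by
  classical
  have hcE : Fintype.card E = Fintype.card F ^ 2 := by
    rw [Module.card_eq_pow_finrank (K := F) (V := E), hE2]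
  obtain ⟨q, hq⟩ : ∃ q : ℤ, q = (Fintype.card F : ℤ) := ⟨_, rfl⟩
  have hq0 : q ≠ 0 := by
    rw [hq]
    have : 0 < Fintype.card F := Fintype.card_pos
    exact_mod_cast this.ne'
  have hQ' : (Fintype.card E : ℤ) = q ^ 2 := by rw [hcE, hq]; push_cast; ring
  apply hasType_of_apply
  intro f
  rw [card_trace_level]
  push_cast
  apply mul_left_cancel₀ hq0
  rw [← hq]
  have h1 : q * (q * ∑ c : {c : E // Algebra.trace F E c = f},
      (Nat.card {w : W // QW w = c.1} : ℤ)) =
      ∑ c : {c : E // Algebra.trace F E c = f},
        ((Fintype.card E : ℤ) * (Nat.card {w : W // QW w = c.1} : ℤ)) := by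
    rw [← mul_assoc, Finset.mul_sum, hQ']
    apply Finset.sum_congr rfl
    intro c _
    ring
  rw [h1]
  have h2 : ∀ c : {c : E // Algebra.trace F E c = f},
      (Fintype.card E : ℤ) * (Nat.card {w : W // QW w = c.1} : ℤ) =
        ((Fintype.card E : ℤ) ^ (2 * n) - ε * (Fintype.card E : ℤ) ^ n) +
          (if c.1 = 0 then ε * (Fintype.card E : ℤ) ^ (n + 1) else 0) := fun c => h.apply c.1
  rw [Finset.sum_congr rfl (fun c _ => h2 c), Finset.sum_add_distrib, Finset.sum_const,
    Finset.card_univ, ← Nat.card_eq_fintype_card, card_trace_fibre hE2 f, nsmul_eq_mul, ← hq, hQ']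
  have h3 : (∑ c : {c : E // Algebra.trace F E c = f},
      (if c.1 = 0 then ε * (q ^ 2) ^ (n + 1) else 0)) =
      if f = 0 then ε * (q ^ 2) ^ (n + 1) else 0 := by
    by_cases hf : f = 0
    · rw [if_pos hf]
      have hz : Algebra.trace F E (0 : E) = f := by rw [map_zero, hf]
      rw [Finset.sum_eq_single (⟨0, hz⟩ : {c : E // Algebra.trace F E c = f})]
      · rw [if_pos rfl]
      · intro c _ hc
        rw [if_neg]
        intro h0
        exact hc (Subtype.ext h0)
      · intro h0
        exact absurd (Finset.mem_univ _) h0
    · rw [if_neg hf]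
      apply Finset.sum_eq_zero
      intro c _
      rw [if_neg]
      intro h0
      apply hf
      rw [← c.2, h0, map_zero]
  rw [h3]
  by_cases hf : f = 0
  · rw [if_pos hf, if_pos hf]
    ring
  · rw [if_neg hf, if_neg hf]
    ring

end tracecount

end Cfsg.Agent.Lib.Helper12.OrC3
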