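import Mathlib
import Cfsg.Prelude.Def_GeometricClasses
import Cfsg.Agent.Lib.Helper12.OrC3C
import Cfsg.Agent.Lib.Helper12.OrC3D
import Cfsg.Agent.Lib.Helper14.OrthPlus

/-! Helper12 library (OrC3, part E): the centralizer of a self-adjoint quadratic extension field in
the isometry group of a quadratic form is the isometry group of the quadratic form over the
extension field; transport to standard coordinates. -/

set_option autoImplicit false
set_option linter.unusedSectionVars false
set_option linter.unusedVariables false
set_option linter.style.haveILetI false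

namespace Cfsg.Agent.Lib.Helper12.OrC3

open Module Matrix QuadraticMap Cfsg.Agent.Lib.Helper12.C3Sp Cfsg.Agent.Lib.Helper12.Elus

section e1

variable {E : Type*} [Field E] {V : Type*} [AddCommGroup V] [Module E V]
  {κ : Type} [Fintype κ] [DecidableEq κ]

/-- the isometries of a function `QE`, as linear equivalences -/
def IsoSet (QE : V → E) : Set (V ≃ₗ[E] V) := {g | ∀ v, QE (g v) = QE v}

/-- transport of linear automorphisms to matrices through a basis -/
noncomputable def basisGL (b : Basis κ E V) : GL κ E ≃ (V ≃ₗ[E] V) where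
  toFun g := (b.equivFun.trans (glLin g)).trans b.equivFun.symm
  invFun h := glLin.symm ((b.equivFun.symm.trans h).trans b.equivFun)
  left_inv g := by
    apply glLin.injective
    rw [MulEquiv.apply_symm_apply]
    apply LinearEquiv.ext
    intro v
    simp only [LinearEquiv.trans_apply, LinearEquiv.apply_symm_apply]
  right_inv h := by
    dsimp only
    rw [MulEquiv.apply_symm_apply]
    apply LinearEquiv.ext
    intro v
    simp only [LinearEquiv.trans_apply, LinearEquiv.symm_apply_apply]

theorem basisGL_apply (b : Basis κ E V) (g : GL κ E) (v : V) :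
    b.equivFun (basisGL b g v) = (g : Matrix κ κ E) *ᵥ b.equivFun v := by
  unfold basisGL
  show b.equivFun (((b.equivFun.trans (glLin g)).trans b.equivFun.symm) v) = _
  simp only [LinearEquiv.trans_apply, LinearEquiv.apply_symm_apply, glLin_apply]

theorem card_isoSet (QE : V → E) (std : (κ → E) → E) (b : Basis κ E V) (c : E) (hc : c ≠ 0)
    (h : ∀ v, c * std (b.equivFun v) = QE v) :
    Nat.card (IsoSet QE) = Nat.card ↥(Cfsg.isometryGroup E std) := by
  symm
  apply Nat.card_congr
  apply Equiv.subtypeEquiv (basisGL b)
  intro g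
  rw [Cfsg.Agent.Lib.Helper14.mem_isometryGroup_iff]
  constructor
  · intro hg v
    rw [← h, ← h, basisGL_apply, hg]
  · intro hg u
    have := hg (b.equivFun.symm u)
    rw [← h, ← h, basisGL_apply, LinearEquiv.apply_symm_apply] at this
    exact mul_left_cancel₀ hc this

end e1

section e2

universe u

variable {F : Type u} [Field F] [Fintype F] {ι : Type} [Fintype ι] [DecidableEq ι]
  {E : Type*} [Field E] [Algebra F E] [FiniteDimensional F E] (ρ : E →ₐ[F] Matrix ι ι F)
  (Qs : QuadraticForm F (ι → F))

/-- the centralizer of the field in the isometry group, as isometries over the field -/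
theorem card_cent_eq (h2 : (2 : F) ≠ 0)
    (hKf : Cfsg.Geo.IsSelfAdjointFor (polar Qs) ρ.range) :
    letI := modOf ρ
    haveI := isScalarTower ρ
    Nat.card ↥(centK ρ.range ⊓ Cfsg.isometryGroup F ⇑Qs) =
      Nat.card (IsoSet (E := E) (QE (selfAdj_of ρ Qs hKf))) := by
  letI := modOf ρ
  haveI := isScalarTower ρ
  have hsa := selfAdj_of ρ Qs hKf
  apply Nat.card_congr
  refine
    { toFun := fun g => ⟨
        { (glLin g.1 : (ι → F) ≃ₗ[F] (ι → F)) with
          map_smul' := fun a v => by
            show glLin g.1 (a • v) = a • glLin g.1 v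
            rw [glLin_apply, glLin_apply, smul_def, smul_def, Matrix.mulVec_mulVec,
              Matrix.mulVec_mulVec, comm_of_centK ρ g.1 (Subgroup.mem_inf.1 g.2).1 a] }, ?_⟩
      invFun := fun h => ⟨glLin.symm (h.1.restrictScalars F), ?_⟩
      left_inv := ?_
      right_inv := ?_ }
  · intro v
    show QE hsa (glLin g.1 v) = QE hsa v
    have hgiso : ∀ v, Qs ((g.1 : Matrix ι ι F) *ᵥ v) = Qs v :=
      (Cfsg.Agent.Lib.Helper14.mem_isometryGroup_iff _ g.1).1 (Subgroup.mem_inf.1 g.2).2
    have := QE_iso h2 hsa (linE ρ (g.1 : Matrix ι ι F)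
      (comm_of_centK ρ g.1 (Subgroup.mem_inf.1 g.2).1)) (fun v => by
        rw [linE_apply]; exact hgiso v) v
    rw [linE_apply] at this
    rw [glLin_apply]
    exact this
  · have hval : ∀ v, ((glLin.symm (h.1.restrictScalars F) : GL ι F) : Matrix ι ι F) *ᵥ v =
        h.1 v := by
      intro v
      rw [← glLin_apply, MulEquiv.apply_symm_apply]
      rfl
    rw [Subgroup.mem_inf]
    constructor
    · rw [mem_centK]
      rintro _ ⟨a, rfl⟩
      show ((glLin.symm (h.1.restrictScalars F) : GL ι F) : Matrix ι ι F) * ρ a =
        ρ a * ((glLin.symm (h.1.restrictScalars F) : GL ι F) : Matrix ι ι F)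
      apply Matrix.toLin'.injective
      apply LinearMap.ext
      intro v
      rw [Matrix.toLin'_apply, Matrix.toLin'_apply, ← Matrix.mulVec_mulVec, ← Matrix.mulVec_mulVec,
        hval, hval, ← smul_def, ← smul_def, map_smul]
    · rw [Cfsg.Agent.Lib.Helper14.mem_isometryGroup_iff]
      intro v
      rw [hval, ← trace_QE h2 hsa, h.2 v, trace_QE h2 hsa]
  · intro g
    apply Subtype.ext
    apply glLin.injective
    rw [MulEquiv.apply_symm_apply]
    apply LinearEquiv.ext
    intro v
    rfl
  · intro h
    apply Subtype.ext
    apply LinearEquiv.ext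
    intro v
    show glLin (glLin.symm (h.1.restrictScalars F)) v = h.1 v
    rw [MulEquiv.apply_symm_apply]
    rfl

end e2

end Cfsg.Agent.Lib.Helper12.OrC3
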