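import Mathlib
import Cfsg.Prelude.Def_GeometricClasses
import Cfsg.Agent.Lib.Helper12.OrC3E
import Cfsg.Agent.Lib.Helper14.OrthMinus
import Cfsg.Agent.Lib.Helper14.OrthOdd
import Cfsg.Agent.Lib.Helper15.BCOrth

/-! Helper12 library (OrC3, part F): the order of the centralizer of a self-adjoint quadratic
extension field in the isometry group of a quadratic form. -/

set_option autoImplicit false
set_option linter.unusedSectionVars false
set_option linter.unusedVariables false
set_option linter.style.haveILetI false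

namespace Cfsg.Agent.Lib.Helper12.OrC3

open Module Matrix QuadraticMap Cfsg.Agent.Lib.Helper12.C3Sp Cfsg.Agent.Lib.Helper12.Elus
  Cfsg.Agent.Lib.Helper15.QuadType

section card

universe u

variable {F : Type u} [Field F] [Fintype F] {ι : Type} [Fintype ι] [DecidableEq ι]
  {E : Type u} [Field E] [Fintype E] [Algebra F E] [FiniteDimensional F E]
  (ρ : E →ₐ[F] Matrix ι ι F) (Qs : QuadraticForm F (ι → F))

theorem finrank_E_of_card (hE2 : finrank F E = 2) (d : ℕ) (hι : Fintype.card ι = 2 * d) :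
    letI := modOf ρ
    finrank E (ι → F) = d := by
  letI := modOf ρ
  haveI := isScalarTower ρ
  have h1 := finrank_top_eq (F := F) (E := E) (V := ι → F)
  rw [Module.finrank_fintype_fun_eq_card, hι, hE2] at h1
  omega

/-- the type over the extension field is the type over the ground field -/
theorem hasType_QE (h2 : (2 : F) ≠ 0) (hnd : (polarBilin Qs).Nondegenerate)
    (hKf : Cfsg.Geo.IsSelfAdjointFor (polar Qs) ρ.range) (hE2 : finrank F E = 2)
    (n : ℕ) (hι : Fintype.card ι = 2 * (2 * n)) (ε : ℤ) (ht : HasType ε (2 * n) ⇑Qs) :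
    letI := modOf ρ
    haveI := isScalarTower ρ
    HasType ε n ⇑(QE (E := E) (selfAdj_of ρ Qs hKf)) := by
  letI := modOf ρ
  haveI := isScalarTower ρ
  haveI : FiniteDimensional E (ι → F) := Module.Finite.of_restrictScalars_finite F E (ι → F)
  have hsa := selfAdj_of ρ Qs hKf
  have hdim : finrank E (ι → F) = 2 * n := finrank_E_of_card ρ hE2 (2 * n) hι
  obtain ⟨ε', -, ht'⟩ := hasType_of_nondeg (QE hsa) (QE_nd h2 hsa hnd) n hdim
  have h3 := hasType_trace (F := F) hE2 ht'
  have h4 : (fun w => Algebra.trace F E (QE hsa w)) = ⇑Qs := by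
    funext w
    exact trace_QE h2 hsa w
  rw [h4] at h3
  have := h3.unique ht
  rw [← this]
  exact ht'

/-- plus type, `d = 2 (n + 1)` -/
theorem card_cent_plus (h2 : (2 : F) ≠ 0) (hnd : (polarBilin Qs).Nondegenerate)
    (hKf : Cfsg.Geo.IsSelfAdjointFor (polar Qs) ρ.range) (hE2 : finrank F E = 2)
    (n : ℕ) (hι : Fintype.card ι = 2 * (2 * (n + 1))) (ht : HasType 1 (2 * (n + 1)) ⇑Qs) :
    Nat.card ↥(centK ρ.range ⊓ Cfsg.isometryGroup F ⇑Qs) =
      2 * Fintype.card E ^ ((n + 1) * n) * (Fintype.card E ^ (n + 1) - 1) *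
        ∏ i ∈ Finset.range n, (Fintype.card E ^ (2 * (i + 1)) - 1) := by
  letI := modOf ρ
  haveI := isScalarTower ρ
  haveI : FiniteDimensional E (ι → F) := Module.Finite.of_restrictScalars_finite F E (ι → F)
  have hsa := selfAdj_of ρ Qs hKf
  have hdim : finrank E (ι → F) = 2 * (n + 1) := finrank_E_of_card ρ hE2 (2 * (n + 1)) hι
  have htE := hasType_QE ρ Qs h2 hnd hKf hE2 (n + 1) hι 1 ht
  obtain ⟨b, hb⟩ := univ_plus (QE hsa) (QE_nd h2 hsa hnd) (n + 1) (by omega) hdim htE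
  rw [card_cent_eq ρ Qs h2 hKf, card_isoSet (⇑(QE hsa)) (Cfsg.quadFormPlus (n + 1) E) b 1
    one_ne_zero (fun v => by rw [one_mul]; exact hb v),
    Cfsg.Agent.Lib.Helper14.card_isometry_plus n]

/-- minus type, `d = 2 (n + 1)` -/
theorem card_cent_minus (h2 : (2 : F) ≠ 0) (hnd : (polarBilin Qs).Nondegenerate)
    (hKf : Cfsg.Geo.IsSelfAdjointFor (polar Qs) ρ.range) (hE2 : finrank F E = 2)
    (n : ℕ) (hι : Fintype.card ι = 2 * (2 * (n + 1))) (ht : HasType (-1) (2 * (n + 1)) ⇑Qs) :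
    Nat.card ↥(centK ρ.range ⊓ Cfsg.isometryGroup F ⇑Qs) =
      2 * Fintype.card E ^ ((n + 1) * n) * (Fintype.card E ^ (n + 1) + 1) *
        ∏ i ∈ Finset.range n, (Fintype.card E ^ (2 * (i + 1)) - 1) := by
  letI := modOf ρ
  haveI := isScalarTower ρ
  haveI : FiniteDimensional E (ι → F) := Module.Finite.of_restrictScalars_finite F E (ι → F)
  have hsa := selfAdj_of ρ Qs hKf
  have hdim : finrank E (ι → F) = 2 * (n + 1) := finrank_E_of_card ρ hE2 (2 * (n + 1)) hι
  have htE := hasType_QE ρ Qs h2 hnd hKf hE2 (n + 1) hι (-1) ht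
  obtain ⟨a, c, hac⟩ := exists_aniso (F := E)
  obtain ⟨b, hb⟩ := univ_minus (QE hsa) (QE_nd h2 hsa hnd) n hdim htE hac
  rw [card_cent_eq ρ Qs h2 hKf, card_isoSet (⇑(QE hsa)) (Cfsg.quadFormMinus n E a c) b 1
    one_ne_zero (fun v => by rw [one_mul]; exact hb v),
    Cfsg.Agent.Lib.Helper14.OrthMinus.card_isometry_minus hac n]

/-- odd dimension over the extension field, `d = 2 m + 1` -/
theorem card_cent_odd (h2 : (2 : F) ≠ 0) (hnd : (polarBilin Qs).Nondegenerate)
    (hKf : Cfsg.Geo.IsSelfAdjointFor (polar Qs) ρ.range) (hE2 : finrank F E = 2)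
    (m : ℕ) (hι : Fintype.card ι = 2 * (2 * m + 1)) :
    Nat.card ↥(centK ρ.range ⊓ Cfsg.isometryGroup F ⇑Qs) =
      2 * Fintype.card E ^ (m ^ 2) *
        ∏ i ∈ Finset.range m, (Fintype.card E ^ (2 * (i + 1)) - 1) := by
  letI := modOf ρ
  haveI := isScalarTower ρ
  haveI : FiniteDimensional E (ι → F) := Module.Finite.of_restrictScalars_finite F E (ι → F)
  have hsa := selfAdj_of ρ Qs hKf
  have hdim : finrank E (ι → F) = 2 * m + 1 := finrank_E_of_card ρ hE2 (2 * m + 1) hι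
  obtain ⟨c, Eq, hc, hEq⟩ := Cfsg.Agent.Lib.Helper15.BCOrth.exists_equiv_odd (QE hsa)
    (QE_nd h2 hsa hnd) m hdim
  have h2E : (2 : E) ≠ 0 := two_ne_zero_E h2
  rw [card_cent_eq ρ Qs h2 hKf, card_isoSet (⇑(QE hsa)) (Cfsg.quadFormOdd m E)
    (Basis.ofEquivFun Eq) c hc (fun v => by rw [Basis.equivFun_ofEquivFun]; exact hEq v),
    Cfsg.Agent.Lib.Helper14.card_isometry_odd h2E m]

end card

end Cfsg.Agent.Lib.Helper12.OrC3
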