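import Mathlib
import Cfsg.Prelude.Def_GeometricClasses
import Cfsg.Agent.Lib.Helper12.OrC3F
import Cfsg.Agent.Lib.Helper12.C3SpD
import Cfsg.Agent.Lib.Helper25.SpinIndex

/-! Helper12 library (OrC3, part G): the primes dividing the index of the normalizer of a
self-adjoint quadratic extension field in `Ω` of a quadratic form. -/

set_option autoImplicit false
set_option linter.unusedSectionVars false
set_option linter.unusedVariables false
set_option linter.style.haveILetI false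

namespace Cfsg.Agent.Lib.Helper12.OrC3

open Module Matrix QuadraticMap Cfsg.Agent.Lib.Helper12.C3Sp Cfsg.Agent.Lib.Helper12.Elus
  Cfsg.Agent.Lib.Helper15.QuadType

section arith

theorem prodE_pos (q m : ℕ) (hq : 2 ≤ q) :
    0 < ∏ i ∈ Finset.range m, ((q ^ 2) ^ (2 * (i + 1)) - 1) := by
  apply Finset.prod_pos
  intro i _
  have h1 : 2 ≤ (q ^ 2) ^ (2 * (i + 1)) := by
    calc 2 ≤ q := hq
      _ = q ^ 1 := (pow_one q).symm
      _ ≤ q ^ (2 * (2 * (i + 1))) := Nat.pow_le_pow_right (by omega) (by omega)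
      _ = (q ^ 2) ^ (2 * (i + 1)) := pow_mul q 2 _
  omega

theorem dvd_filter_prod (q r m : ℕ) (hr : r.Prime)
    (h : r ∣ ∏ i ∈ (Finset.range (2 * m)).filter (fun i => ¬ 2 ∣ i + 1), (q ^ (2 * (i + 1)) - 1)) :
    ∃ j, Odd j ∧ j ≤ 2 * m ∧ r ∣ q ^ (2 * j) - 1 := by
  obtain ⟨i, hi, hdvd⟩ := (Prime.dvd_finsetProd_iff hr.prime _).1 h
  rw [Finset.mem_filter, Finset.mem_range] at hi
  refine ⟨i + 1, ?_, by omega, hdvd⟩
  rw [← Nat.not_even_iff_odd, even_iff_two_dvd]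
  exact hi.2

/-- the arithmetic of the index, even dimension over the extension field -/
theorem arith_even (q r M s b m : ℕ) (hq : 2 ≤ q) (hr : r.Prime) (hs : 0 < s)
    (hb : 2 * ((m + 1) * m) ≤ b)
    (h : r * M * (2 * (q ^ 2) ^ ((m + 1) * m) * s *
        ∏ i ∈ Finset.range m, ((q ^ 2) ^ (2 * (i + 1)) - 1)) =
      2 * q ^ b * s * ∏ i ∈ Finset.range (2 * m + 1), (q ^ (2 * (i + 1)) - 1)) :
    r ∣ q ∨ ∃ j, Odd j ∧ j ≤ 2 * m + 1 ∧ r ∣ q ^ (2 * j) - 1 := by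
  rw [Finset.prod_range_succ, prod_split q 2 m (by norm_num)] at h
  have hpos : 0 < 2 * (q ^ 2) ^ ((m + 1) * m) * s *
      ∏ i ∈ Finset.range m, ((q ^ 2) ^ (2 * (i + 1)) - 1) :=
    Nat.mul_pos (Nat.mul_pos (Nat.mul_pos (by norm_num) (pow_pos (pow_pos (by omega) _) _)) hs)
      (prodE_pos q m hq)
  have h2 : q ^ b = (q ^ 2) ^ ((m + 1) * m) * q ^ (b - 2 * ((m + 1) * m)) := by
    rw [← pow_mul, ← pow_add, Nat.add_sub_cancel' hb]
  have h3 : r * M * (2 * (q ^ 2) ^ ((m + 1) * m) * s *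
        ∏ i ∈ Finset.range m, ((q ^ 2) ^ (2 * (i + 1)) - 1)) =
      (q ^ (b - 2 * ((m + 1) * m)) *
        (∏ i ∈ (Finset.range (2 * m)).filter (fun i => ¬ 2 ∣ i + 1), (q ^ (2 * (i + 1)) - 1)) *
        (q ^ (2 * (2 * m + 1)) - 1)) *
      (2 * (q ^ 2) ^ ((m + 1) * m) * s *
        ∏ i ∈ Finset.range m, ((q ^ 2) ^ (2 * (i + 1)) - 1)) := by
    rw [h, h2]
    ring
  have h4 := Nat.eq_of_mul_eq_mul_right hpos h3
  have h5 : r ∣ q ^ (b - 2 * ((m + 1) * m)) *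
        (∏ i ∈ (Finset.range (2 * m)).filter (fun i => ¬ 2 ∣ i + 1), (q ^ (2 * (i + 1)) - 1)) *
        (q ^ (2 * (2 * m + 1)) - 1) := by
    rw [← h4]
    exact Dvd.intro _ rfl
  rcases (Nat.Prime.dvd_mul hr).1 h5 with h6 | h6
  · rcases (Nat.Prime.dvd_mul hr).1 h6 with h7 | h7
    · exact Or.inl (hr.dvd_of_dvd_pow h7)
    · obtain ⟨j, hj1, hj2, hj3⟩ := dvd_filter_prod q r m hr h7
      exact Or.inr ⟨j, hj1, by omega, hj3⟩
  · exact Or.inr ⟨2 * m + 1, ⟨m, rfl⟩, le_rfl, h6⟩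

/-- the arithmetic of the index, odd dimension over the extension field -/
theorem arith_odd (q r M s b m : ℕ) (hq : 2 ≤ q) (hr : r.Prime)
    (hb : 2 * (m ^ 2) ≤ b)
    (h : r * M * (2 * (q ^ 2) ^ (m ^ 2) *
        ∏ i ∈ Finset.range m, ((q ^ 2) ^ (2 * (i + 1)) - 1)) =
      2 * q ^ b * s * ∏ i ∈ Finset.range (2 * m), (q ^ (2 * (i + 1)) - 1)) :
    r ∣ q ∨ r ∣ s ∨ ∃ j, Odd j ∧ j ≤ 2 * m ∧ r ∣ q ^ (2 * j) - 1 := by
  rw [prod_split q 2 m (by norm_num)] at h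
  have hpos : 0 < 2 * (q ^ 2) ^ (m ^ 2) *
      ∏ i ∈ Finset.range m, ((q ^ 2) ^ (2 * (i + 1)) - 1) :=
    Nat.mul_pos (Nat.mul_pos (by norm_num) (pow_pos (pow_pos (by omega) _) _))
      (prodE_pos q m hq)
  have h2 : q ^ b = (q ^ 2) ^ (m ^ 2) * q ^ (b - 2 * (m ^ 2)) := by
    rw [← pow_mul, ← pow_add, Nat.add_sub_cancel' hb]
  have h3 : r * M * (2 * (q ^ 2) ^ (m ^ 2) *
        ∏ i ∈ Finset.range m, ((q ^ 2) ^ (2 * (i + 1)) - 1)) =
      (q ^ (b - 2 * (m ^ 2)) * s *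
        (∏ i ∈ (Finset.range (2 * m)).filter (fun i => ¬ 2 ∣ i + 1), (q ^ (2 * (i + 1)) - 1))) *
      (2 * (q ^ 2) ^ (m ^ 2) *
        ∏ i ∈ Finset.range m, ((q ^ 2) ^ (2 * (i + 1)) - 1)) := by
    rw [h, h2]
    ring
  have h4 := Nat.eq_of_mul_eq_mul_right hpos h3
  have h5 : r ∣ q ^ (b - 2 * (m ^ 2)) * s *
        (∏ i ∈ (Finset.range (2 * m)).filter (fun i => ¬ 2 ∣ i + 1), (q ^ (2 * (i + 1)) - 1)) := by
    rw [← h4]
    exact Dvd.intro _ rfl
  rcases (Nat.Prime.dvd_mul hr).1 h5 with h6 | h6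
  · rcases (Nat.Prime.dvd_mul hr).1 h6 with h7 | h7
    · exact Or.inl (hr.dvd_of_dvd_pow h7)
    · exact Or.inr (Or.inl h7)
  · exact Or.inr (Or.inr (dvd_filter_prod q r m hr h6))

end arith

section index

universe u

variable {F : Type u} [Field F] [Fintype F] {ι : Type} [Fintype ι] [DecidableEq ι]
  {E : Type u} [Field E] [Algebra F E]
  (ρ : E →ₐ[F] Matrix ι ι F) (Qs : QuadraticForm F (ι → F))

theorem omegaGL_le : Cfsg.Geo.omegaGL ⇑Qs ≤ Cfsg.isometryGroup F ⇑Qs := by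
  rintro _ ⟨g, -, rfl⟩
  exact g.2

theorem omegaGL_subgroupOf :
    (Cfsg.Geo.omegaGL ⇑Qs).subgroupOf (Cfsg.isometryGroup F ⇑Qs) = Cfsg.Omega F ⇑Qs := by
  unfold Cfsg.Geo.omegaGL Subgroup.subgroupOf
  exact Subgroup.comap_map_eq_self_of_injective (Subgroup.subtype_injective _) _

theorem omegaGL_relIndex (h2 : (2 : F) ≠ 0) (hnd : (polarBilin Qs).Nondegenerate)
    (hn : 2 ≤ Fintype.card ι) :
    (Cfsg.Geo.omegaGL ⇑Qs).relIndex (Cfsg.isometryGroup F ⇑Qs) = 4 := by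
  rw [Subgroup.relIndex, omegaGL_subgroupOf]
  exact Cfsg.Agent.Lib.Helper25.Spin.omega_index_four Qs h2 hnd hn

/-- the index of the normalizer in `Ω` times the order of the centralizer divides the order of
the isometry group -/
theorem relIndex_mul_card_dvd (h2 : (2 : F) ≠ 0) (hnd : (polarBilin Qs).Nondegenerate)
    (hn : 2 ≤ Fintype.card ι) :
    (Cfsg.Geo.subalgebraNormalizer ρ.range).relIndex (Cfsg.Geo.omegaGL ⇑Qs) *
      Nat.card ↥(centK ρ.range ⊓ Cfsg.isometryGroup F ⇑Qs) ∣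
      Nat.card ↥(Cfsg.isometryGroup F ⇑Qs) := by
  set N := Cfsg.Geo.subalgebraNormalizer ρ.range with hN
  set Ω := Cfsg.Geo.omegaGL ⇑Qs with hΩ
  set O := Cfsg.isometryGroup F ⇑Qs with hO
  set A := centK ρ.range ⊓ O with hA
  have hΩO : Ω ≤ O := omegaGL_le Qs
  have hAO : A ≤ O := inf_le_right
  have h1 : Nat.card ↥(N ⊓ Ω) * N.relIndex Ω = Nat.card ↥Ω := by
    have := Subgroup.relIndex_mul_relIndex ⊥ (N ⊓ Ω) Ω bot_le inf_le_right
    rwa [Subgroup.relIndex_bot_left, Subgroup.relIndex_bot_left, Subgroup.inf_relIndex_right]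
      at this
  have h3 : Nat.card ↥Ω * 4 = Nat.card ↥O := by
    have := Subgroup.relIndex_mul_relIndex ⊥ Ω O bot_le hΩO
    rwa [Subgroup.relIndex_bot_left, Subgroup.relIndex_bot_left,
      omegaGL_relIndex Qs h2 hnd hn] at this
  have h4 : Nat.card ↥(A ⊓ Ω) ∣ Nat.card ↥(N ⊓ Ω) :=
    Subgroup.card_dvd_of_le (inf_le_inf_right _ (inf_le_left.trans (centK_le ρ.range)))
  have h5 : Nat.card ↥(Ω ⊓ A) * Ω.relIndex A = Nat.card ↥A := by
    have := Subgroup.relIndex_mul_relIndex ⊥ (Ω ⊓ A) A bot_le inf_le_right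
    rwa [Subgroup.relIndex_bot_left, Subgroup.relIndex_bot_left, Subgroup.inf_relIndex_right]
      at this
  have h6 : Ω.relIndex A ∣ 4 := by
    rw [← Subgroup.relIndex_subgroupOf hAO]
    have h7 : Ω.subgroupOf O = Cfsg.Omega F ⇑Qs := omegaGL_subgroupOf Qs
    rw [h7]
    have h8 := Subgroup.relIndex_dvd_index_of_normal (Cfsg.Omega F ⇑Qs) (A.subgroupOf O)
    rwa [Cfsg.Agent.Lib.Helper25.Spin.omega_index_four Qs h2 hnd hn] at h8
  obtain ⟨c, hc⟩ := h4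
  obtain ⟨t', ht'⟩ := h6
  rw [inf_comm] at h5
  refine ⟨c * t', ?_⟩
  rw [← h3, ← h1, hc, ← h5, ht']
  ring

end index

section primes

universe u

variable {F : Type u} [Field F] [Fintype F] {ι : Type} [Fintype ι] [DecidableEq ι]
  {E : Type u} [Field E] [Fintype E] [Algebra F E] [FiniteDimensional F E]
  (ρ : E →ₐ[F] Matrix ι ι F) (Qs : QuadraticForm F (ι → F))

/-- the primes dividing the index -/
theorem primes_of_dvd (h2 : (2 : F) ≠ 0) (hnd : (polarBilin Qs).Nondegenerate)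
    (hKf : Cfsg.Geo.IsSelfAdjointFor (polar Qs) ρ.range) (hE2 : finrank F E = 2)
    (n : ℕ) (hι : Fintype.card ι = 2 * (n + 1)) (ε : ℤ) (hε : ε = 1 ∨ ε = -1)
    (ht : HasType ε (n + 1) ⇑Qs) (s : ℕ)
    (hs : (ε = 1 → s = Fintype.card F ^ (n + 1) - 1) ∧ (ε = -1 → s = Fintype.card F ^ (n + 1) + 1))
    (hO : Nat.card ↥(Cfsg.isometryGroup F ⇑Qs) =
      2 * Fintype.card F ^ ((n + 1) * n) * s *
        ∏ i ∈ Finset.range n, (Fintype.card F ^ (2 * (i + 1)) - 1))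
    (r : ℕ) (hr : r.Prime)
    (hΩ : r ∣ (Cfsg.Geo.subalgebraNormalizer ρ.range).relIndex (Cfsg.Geo.omegaGL ⇑Qs)) :
    r ∣ Fintype.card F ∨ (Odd (n + 1) ∧ r ∣ s) ∨
      ∃ j, Odd j ∧ j ≤ n ∧ r ∣ Fintype.card F ^ (2 * j) - 1 := by
  have hq : 2 ≤ Fintype.card F := Fintype.one_lt_card
  have hcE : Fintype.card E = Fintype.card F ^ 2 := by
    rw [← hE2]
    exact Module.card_eq_pow_finrank
  have hdvd := relIndex_mul_card_dvd ρ Qs h2 hnd (by omega)
  have hdvd2 : r * Nat.card ↥(centK ρ.range ⊓ Cfsg.isometryGroup F ⇑Qs) ∣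
      Nat.card ↥(Cfsg.isometryGroup F ⇑Qs) :=
    (Nat.mul_dvd_mul_right hΩ _).trans hdvd
  obtain ⟨M, hM⟩ := hdvd2
  have hspos : 0 < s := by
    rcases hε with h | h
    · rw [hs.1 h]
      have : 2 ≤ Fintype.card F ^ (n + 1) := by
        calc 2 ≤ Fintype.card F := hq
          _ = Fintype.card F ^ 1 := (pow_one _).symm
          _ ≤ Fintype.card F ^ (n + 1) := Nat.pow_le_pow_right (by omega) (by omega)
      omega
    · rw [hs.2 h]
      omega
  rcases Nat.even_or_odd' n with ⟨m, rfl | rfl⟩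
  · -- `d = 2 m + 1`
    have hA := card_cent_odd ρ Qs h2 hnd hKf hE2 m hι
    rw [hcE] at hA
    rw [hO, hA] at hM
    have h3 := arith_odd (Fintype.card F) r M s ((2 * m + 1) * (2 * m)) m hq hr (by nlinarith)
      (by rw [hM]; ring)
    rcases h3 with h4 | h4 | h4
    · exact Or.inl h4
    · exact Or.inr (Or.inl ⟨⟨m, rfl⟩, h4⟩)
    · exact Or.inr (Or.inr h4)
  · -- `d = 2 (m + 1)`
    have hι' : Fintype.card ι = 2 * (2 * (m + 1)) := by rw [hι]; ring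
    have e1 : 2 * m + 1 + 1 = 2 * (m + 1) := by ring
    rw [e1] at ht
    have hA : Nat.card ↥(centK ρ.range ⊓ Cfsg.isometryGroup F ⇑Qs) =
        2 * (Fintype.card F ^ 2) ^ ((m + 1) * m) * s *
          ∏ i ∈ Finset.range m, ((Fintype.card F ^ 2) ^ (2 * (i + 1)) - 1) := by
      have e2 : (Fintype.card F ^ 2) ^ (m + 1) = Fintype.card F ^ (2 * m + 1 + 1) := by
        rw [← pow_mul, e1]
      rcases hε with h | h
      · subst h
        rw [card_cent_plus ρ Qs h2 hnd hKf hE2 m hι' ht, hcE, hs.1 rfl, e2]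
      · subst h
        rw [card_cent_minus ρ Qs h2 hnd hKf hE2 m hι' ht, hcE, hs.2 rfl, e2]
    rw [hO, hA] at hM
    have h3 := arith_even (Fintype.card F) r M s ((2 * m + 1 + 1) * (2 * m + 1)) m hq hr hspos
      (by nlinarith) (by rw [hM]; ring)
    rcases h3 with h4 | h4
    · exact Or.inl h4
    · exact Or.inr (Or.inr h4)

end primes

end Cfsg.Agent.Lib.Helper12.OrC3
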