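import Mathlib
import Cfsg.Prelude.Def_GeometricClasses
import Cfsg.Agent.Lib.Helper12.OrC3C
import Cfsg.Agent.Lib.Helper12.C3SpF
import Cfsg.Agent.Lib.Helper24.OrO

/-! Helper12 library (OrC3, part H): elements of odd prime order of `Ω` which are not conjugate
into the normalizer of a self-adjoint quadratic extension field. -/

set_option autoImplicit false
set_option linter.unusedSectionVars false
set_option linter.unusedVariables false
set_option linter.style.haveILetI false

namespace Cfsg.Agent.Lib.Helper12.OrC3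

open Module Matrix QuadraticMap Cfsg.Agent.Lib.Helper12.C3Sp Cfsg.Agent.Lib.Helper12.Elus
  Cfsg.Agent.Lib.Helper15.QuadType

section conj

universe u

variable {F : Type u} [Field F] {ι : Type} [Fintype ι] [DecidableEq ι]

theorem finrank_range_toLin (M : Matrix ι ι F) :
    finrank F (LinearMap.range (Matrix.toLin' M)) = M.rank := by
  rw [Matrix.rank, Matrix.toLin'_apply']

/-- the rank of a conjugate -/
theorem rank_conj (M : Matrix ι ι F) (g : GL ι F) :
    (((g⁻¹ : GL ι F) : Matrix ι ι F) * M * (g : Matrix ι ι F)).rank = M.rank := by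
  have h1 : IsUnit (g : Matrix ι ι F).det := by
    rw [← Matrix.isUnit_iff_isUnit_det]
    exact g.isUnit
  have h2 : IsUnit ((g⁻¹ : GL ι F) : Matrix ι ι F).det := by
    rw [← Matrix.isUnit_iff_isUnit_det]
    exact (g⁻¹).isUnit
  rw [Matrix.rank_mul_eq_left_of_isUnit_det _ _ h1, Matrix.rank_mul_eq_right_of_isUnit_det _ _ h2]

theorem conj_sub_one (x g : GL ι F) :
    ((g⁻¹ * x * g : GL ι F) : Matrix ι ι F) - 1 =
      ((g⁻¹ : GL ι F) : Matrix ι ι F) * ((x : Matrix ι ι F) - 1) * (g : Matrix ι ι F) := by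
  rw [Units.val_mul, Units.val_mul, mul_sub, sub_mul, mul_one, gl_inv_mul]

theorem movR_toLin (M : Matrix ι ι F) :
    movR (Matrix.toLin' M) = LinearMap.range (Matrix.toLin' (M - 1)) := by
  unfold movR
  rw [map_sub, Matrix.toLin'_one]
  rfl

/-- the dimension of the commutator space of a conjugate -/
theorem finrank_mov_conj (x g : GL ι F) :
    finrank F (movR (Matrix.toLin' ((g⁻¹ * x * g : GL ι F) : Matrix ι ι F))) =
      finrank F (movR (Matrix.toLin' (x : Matrix ι ι F))) := by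
  rw [movR_toLin, movR_toLin, finrank_range_toLin, finrank_range_toLin, conj_sub_one, rank_conj]

/-- the rank of the square of the commutator map of a conjugate -/
theorem rank_sq_conj (x g : GL ι F) :
    ((((g⁻¹ * x * g : GL ι F) : Matrix ι ι F) - 1) *
      (((g⁻¹ * x * g : GL ι F) : Matrix ι ι F) - 1)).rank =
      (((x : Matrix ι ι F) - 1) * ((x : Matrix ι ι F) - 1)).rank := by
  rw [conj_sub_one]
  have e : ((g⁻¹ : GL ι F) : Matrix ι ι F) * ((x : Matrix ι ι F) - 1) * (g : Matrix ι ι F) *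
      (((g⁻¹ : GL ι F) : Matrix ι ι F) * ((x : Matrix ι ι F) - 1) * (g : Matrix ι ι F)) =
      ((g⁻¹ : GL ι F) : Matrix ι ι F) * (((x : Matrix ι ι F) - 1) * ((x : Matrix ι ι F) - 1)) *
        (g : Matrix ι ι F) := by
    calc _ = ((g⁻¹ : GL ι F) : Matrix ι ι F) * ((x : Matrix ι ι F) - 1) *
          ((g : Matrix ι ι F) * ((g⁻¹ : GL ι F) : Matrix ι ι F)) * ((x : Matrix ι ι F) - 1) *
          (g : Matrix ι ι F) := by simp only [mul_assoc]
      _ = _ := by rw [gl_mul_inv, mul_one]; simp only [mul_assoc]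
  rw [e, rank_conj]

end conj

section nonconj

universe u

variable {F : Type u} [Field F] [Fintype F] {ι : Type} [Fintype ι] [DecidableEq ι]
  {E : Type u} [Field E] [Algebra F E] [FiniteDimensional F E]
  (ρ : E →ₐ[F] Matrix ι ι F) (Qs : QuadraticForm F (ι → F))

/-- elements of odd prime order `r` prime to the characteristic whose commutator space has
dimension `2 j`, `j` odd, have no conjugate in the normalizer -/
theorem not_conj_semisimple [Nonempty ι] (h2 : (2 : F) ≠ 0) (hnd : (polarBilin Qs).Nondegenerate)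
    (hKf : Cfsg.Geo.IsSelfAdjointFor (polar Qs) ρ.range) (hE2 : finrank F E = 2)
    (r : ℕ) [Fact r.Prime] (hr2 : r ≠ 2) (hr0 : (r : F) ≠ 0)
    (x : GL ι F) (hx : x ∈ Cfsg.isometryGroup F ⇑Qs) (hxr : x ^ r = 1) (j : ℕ) (hj : Odd j)
    (hmov : finrank F (movR (Matrix.toLin' (x : Matrix ι ι F))) = 2 * j)
    (g : GL ι F) (hg : g ∈ Cfsg.isometryGroup F ⇑Qs) :
    g⁻¹ * x * g ∉ Cfsg.Geo.subalgebraNormalizer ρ.range := by
  intro hN
  have hr : r.Prime := Fact.out
  haveI : Finite E := Module.finite_of_finite F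
  have hpow : (g⁻¹ * x * g) ^ r = 1 := by
    have : g⁻¹ * x * g = g⁻¹ * x * g⁻¹⁻¹ := by rw [inv_inv]
    rw [this, conj_pow, hxr, mul_one, inv_inv, inv_mul_cancel]
  have hcop : (finrank F E).Coprime r := by
    rw [hE2]
    exact (Nat.coprime_primes Nat.prime_two hr).2 (Ne.symm hr2)
  have hcent : g⁻¹ * x * g ∈ centK ρ.range :=
    mem_centK_of_pow ρ r hcop _ hN 1 (by rw [hpow, one_smul]; rfl)
  have hiso : g⁻¹ * x * g ∈ Cfsg.isometryGroup F ⇑Qs :=
    Subgroup.mul_mem _ (Subgroup.mul_mem _ (Subgroup.inv_mem _ hg) hx) hg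
  have h4 := four_dvd_mov_of_cent ρ Qs h2 hnd hKf hE2 _ hcent hiso r hr2 hpow hr0
  rw [finrank_mov_conj, hmov] at h4
  obtain ⟨m, hm⟩ := hj
  omega

/-- elements of odd prime order whose squared commutator map has odd rank have no conjugate in
the normalizer -/
theorem not_conj_unipotent [Nonempty ι] (hE2 : finrank F E = 2)
    (r : ℕ) [Fact r.Prime] (hr2 : r ≠ 2)
    (x : GL ι F) (hxr : x ^ r = 1)
    (hrank : Odd (((x : Matrix ι ι F) - 1) * ((x : Matrix ι ι F) - 1)).rank)
    (g : GL ι F) :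
    g⁻¹ * x * g ∉ Cfsg.Geo.subalgebraNormalizer ρ.range := by
  intro hN
  have hr : r.Prime := Fact.out
  haveI : Finite E := Module.finite_of_finite F
  have hpow : (g⁻¹ * x * g) ^ r = 1 := by
    have : g⁻¹ * x * g = g⁻¹ * x * g⁻¹⁻¹ := by rw [inv_inv]
    rw [this, conj_pow, hxr, mul_one, inv_inv, inv_mul_cancel]
  have hcop : (finrank F E).Coprime r := by
    rw [hE2]
    exact (Nat.coprime_primes Nat.prime_two hr).2 (Ne.symm hr2)
  have hcent : g⁻¹ * x * g ∈ centK ρ.range :=
    mem_centK_of_pow ρ r hcop _ hN 1 (by rw [hpow, one_smul]; rfl)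
  have hcomm : ∀ a : E, (((g⁻¹ * x * g : GL ι F) : Matrix ι ι F) - 1) * ρ a =
      ρ a * (((g⁻¹ * x * g : GL ι F) : Matrix ι ι F) - 1) := by
    intro a
    rw [sub_mul, mul_sub, one_mul, mul_one, comm_of_centK ρ _ hcent a]
  have hcomm2 : ∀ a : E, ((((g⁻¹ * x * g : GL ι F) : Matrix ι ι F) - 1) *
      (((g⁻¹ * x * g : GL ι F) : Matrix ι ι F) - 1)) * ρ a =
      ρ a * ((((g⁻¹ * x * g : GL ι F) : Matrix ι ι F) - 1) *
      (((g⁻¹ * x * g : GL ι F) : Matrix ι ι F) - 1)) := by
    intro a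
    rw [mul_assoc, hcomm a, ← mul_assoc, hcomm a, mul_assoc]
  have h4 := even_finrank_range_of_comm ρ hE2 _ hcomm2
  rw [finrank_range_toLin, rank_sq_conj] at h4
  obtain ⟨m, hm⟩ := hrank
  omega

end nonconj

end Cfsg.Agent.Lib.Helper12.OrC3
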