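import Mathlib
import Cfsg.Prelude.Def_GeometricClasses
import Cfsg.Agent.Lib.Helper12.OrC3H

/-! Helper12 library (OrC3, part I): existence of the elements of odd prime order of `Ω` used in
part H: semisimple elements with a commutator space of prescribed dimension, and Siegel
transformations. -/

set_option autoImplicit false
set_option linter.unusedSectionVars false
set_option linter.unusedVariables false
set_option linter.style.haveILetI false

namespace Cfsg.Agent.Lib.Helper12.OrC3

open Module Matrix QuadraticMap Cfsg.Agent.Lib.Helper12.C3Sp Cfsg.Agent.Lib.Helper12.Elus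
  Cfsg.Agent.Lib.Helper15.QuadType

section semisimple

universe u

variable {F : Type u} [Field F] [Fintype F] {ι : Type} [Fintype ι] [DecidableEq ι]
  {p : ℕ} [Fact p.Prime] [CharP F p] (Qs : QuadraticForm F (ι → F))

theorem movR_conj {V' : Type*} [AddCommGroup V'] [Module F V'] (e : V' ≃ₗ[F] (ι → F))
    (y' : V' →ₗ[F] V') :
    movR (e.conj y') = (movR y').map (e : V' →ₗ[F] (ι → F)) := by
  ext v
  constructor
  · rintro ⟨w, rfl⟩
    refine ⟨(y' - 1) (e.symm w), ⟨_, rfl⟩, ?_⟩
    simp [LinearEquiv.conj_apply]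
  · rintro ⟨_, ⟨w, rfl⟩, rfl⟩
    refine ⟨e w, ?_⟩
    simp [LinearEquiv.conj_apply]

/-- semisimple elements of `Ω` of odd prime order with a commutator space of dimension `2 j` -/
theorem exists_semisimple (hnd : (polarBilin Qs).Nondegenerate) (d : ℕ) (ε : ℤ)
    (hε : ε = 1 ∨ ε = -1)
    (huniv : ∀ (V' : Type u) [AddCommGroup V'] [Module F V'] [FiniteDimensional F V']
      (Q' : QuadraticForm F V'), (polarBilin Q').Nondegenerate → finrank F V' = 2 * d →
      HasType ε d (fun v => Q' v) → ∃ e : V' ≃ₗ[F] (ι → F), ∀ v, Qs (e v) = Q' v)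
    (hodd : Fintype.card F ≠ 2) (r : ℕ) [Fact r.Prime] (hr2 : r ≠ 2) (hrp : r ≠ p) (j : ℕ)
    (hj1 : 1 ≤ j) (hjd : j ≤ d)
    (hdvd : orderOf ((Fintype.card F : ℕ) : ZMod r) ∣ 2 * j)
    (hcompat : j = d → (ε = 1 ↔ orderOf ((Fintype.card F : ℕ) : ZMod r) ∣ j)) :
    ∃ x : GL ι F, x ∈ Cfsg.Geo.omegaGL ⇑Qs ∧ x ^ r = 1 ∧
      (∀ z : F, (x : Matrix ι ι F) ≠ z • (1 : Matrix ι ι F)) ∧
      finrank F (movR (Matrix.toLin' (x : Matrix ι ι F))) = 2 * j := by
  obtain ⟨W, _, _, _, T, QW, hndW, hisoT, hTr, hfpf, hdimW⟩ :=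
    Cfsg.Agent.Lib.Helper24.Or.exists_mov_D1 (F := F) (p := p) r hr2 hrp j hdvd
  obtain ⟨V', _, _, _, Q', y', hnd', hdim', ht', hiso', hy'r, hmov', -⟩ :=
    Cfsg.Agent.Lib.Helper24.Or.assemble_even (p := p) QW hndW T hisoT r hrp hr2 hTr hfpf j hdimW d
      hjd ε hε hcompat
  obtain ⟨e, he⟩ := huniv V' Q' hnd' hdim' ht'
  obtain ⟨y, hy⟩ : ∃ y : (ι → F) →ₗ[F] (ι → F), y = e.conj y' := ⟨_, rfl⟩
  have hiso : ∀ v, Qs (y v) = Qs v := by
    intro v
    rw [hy, LinearEquiv.conj_apply]
    simp only [LinearMap.comp_apply, LinearEquiv.coe_coe]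
    rw [he, hiso', ← he, LinearEquiv.apply_symm_apply]
  have hyr : y ^ r = 1 := by
    rw [hy, Cfsg.Agent.Lib.Helper24.Or.conj_pow'', hy'r]
    apply LinearMap.ext
    intro v
    simp [LinearEquiv.conj_apply]
  have hmov : finrank F (movR y) = 2 * j := by
    rw [hy, movR_conj, LinearEquiv.finrank_map_eq, hmov']
  have hy1 : y ≠ 1 := by
    intro h1
    rw [h1] at hmov
    have : movR (1 : (ι → F) →ₗ[F] (ι → F)) = ⊥ := by
      unfold movR
      rw [sub_self]
      exact LinearMap.range_zero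
    rw [this, finrank_bot] at hmov
    omega
  obtain ⟨x, hxΩ, hxy, hord, -, hns⟩ :=
    Cfsg.Agent.Lib.Helper24.Or.exists_gl_of_isometry Qs hnd (Or.inl hodd) r hr2 y hiso hyr hy1
  refine ⟨x, hxΩ, ?_, hns, by rw [hxy]; exact hmov⟩
  rw [← hord]
  exact pow_orderOf_eq_one x

end semisimple

section siegel

universe u

variable {F : Type u} [Field F] [Fintype F] {ι : Type} [Fintype ι] [DecidableEq ι]
  {p : ℕ} [Fact p.Prime] [CharP F p] (Qs : QuadraticForm F (ι → F))

/-- the nilpotent part of a Siegel transformation -/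
noncomputable def siegelN (e w : ι → F) : (ι → F) →ₗ[F] (ι → F) :=
  (polarBilin Qs e).smulRight w - (polarBilin Qs w + Qs w • polarBilin Qs e).smulRight e

theorem siegelN_apply (e w v : ι → F) :
    siegelN Qs e w v = polar Qs e v • w - (polar Qs w v + Qs w * polar Qs e v) • e := by
  simp [siegelN, polarBilin_apply_apply]

theorem siegelN_e (e w : ι → F) (hQe : Qs e = 0) (hew : polar Qs e w = 0) :
    siegelN Qs e w e = 0 := by
  rw [siegelN_apply, polar_self, hQe, polar_comm Qs w e, hew]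
  simp

theorem siegelN_w (e w : ι → F) (hew : polar Qs e w = 0) :
    siegelN Qs e w w = (-(2 * Qs w)) • e := by
  rw [siegelN_apply, hew, polar_self]
  simp only [zero_smul, mul_zero, add_zero, zero_sub, nsmul_eq_mul, Nat.cast_ofNat, neg_smul]

theorem siegelN_sq (e w : ι → F) (hQe : Qs e = 0) (hew : polar Qs e w = 0) (v : ι → F) :
    siegelN Qs e w (siegelN Qs e w v) = (-(2 * Qs w * polar Qs e v)) • e := by
  conv_lhs => rw [siegelN_apply Qs e w v]
  rw [map_sub, map_smul, map_smul, siegelN_w Qs e w hew, siegelN_e Qs e w hQe hew, smul_zero,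
    sub_zero, smul_smul]
  congr 1
  ring

theorem siegelN_cube (e w : ι → F) (hQe : Qs e = 0) (hew : polar Qs e w = 0) :
    siegelN Qs e w ^ 3 = 0 := by
  apply LinearMap.ext
  intro v
  rw [pow_succ', pow_two, Module.End.mul_apply, Module.End.mul_apply,
    siegelN_sq Qs e w hQe hew v, map_smul, siegelN_e Qs e w hQe hew, smul_zero]
  rfl

theorem siegel_iso (e w : ι → F) (hQe : Qs e = 0) (hew : polar Qs e w = 0) (v : ι → F) :
    Qs ((1 + siegelN Qs e w) v) = Qs v := by
  rw [LinearMap.add_apply, Module.End.one_apply, siegelN_apply]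
  have hwe : polar Qs w e = 0 := by rw [polar_comm]; exact hew
  set a := polar Qs e v with ha
  set b := polar Qs w v with hb
  set c := Qs w with hc
  have h1 : Qs (v + (a • w - (b + c * a) • e)) =
      Qs v + Qs (a • w - (b + c * a) • e) + polar Qs v (a • w - (b + c * a) • e) := by
    rw [polar]; ring
  have h2 : Qs (a • w - (b + c * a) • e) =
      Qs (a • w) + Qs ((b + c * a) • e) - polar Qs (a • w) ((b + c * a) • e) := by
    have : a • w - (b + c * a) • e = a • w + (-(b + c * a)) • e := by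
      rw [neg_smul, sub_eq_add_neg]
    rw [this]
    have h3 : Qs (a • w + (-(b + c * a)) • e) =
        Qs (a • w) + Qs ((-(b + c * a)) • e) + polar Qs (a • w) ((-(b + c * a)) • e) := by
      rw [polar]; ring
    rw [h3, QuadraticMap.map_smul, QuadraticMap.map_smul, QuadraticMap.map_smul, hQe,
      polar_smul_right, polar_smul_right]
    simp only [smul_eq_mul, mul_zero, add_zero, neg_mul]
    ring
  rw [h1, h2, QuadraticMap.map_smul, QuadraticMap.map_smul, hQe, polar_smul_left,
    polar_smul_right, hwe, polar_sub_right, polar_smul_right, polar_smul_right,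
    polar_comm Qs v w, polar_comm Qs v e, ← ha, ← hb, ← hc]
  simp only [smul_eq_mul, mul_zero, add_zero, sub_zero]
  ring

theorem siegel_pow [Nonempty ι] (hp2 : p ≠ 2) (e w : ι → F) (hQe : Qs e = 0)
    (hew : polar Qs e w = 0) : (1 + siegelN Qs e w) ^ p = 1 := by
  haveI : CharP (Module.End F (ι → F)) p :=
    charP_of_injective_algebraMap (algebraMap F (Module.End F (ι → F))).injective p
  have hp : p.Prime := Fact.out
  have h3 : 3 ≤ p := by
    have := hp.two_le
    omega
  rw [add_pow_char_of_commute _ (Commute.one_left _), one_pow]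
  have : siegelN Qs e w ^ p = 0 := by
    have e1 : p = 3 + (p - 3) := by omega
    rw [e1, pow_add, siegelN_cube Qs e w hQe hew, zero_mul]
  rw [this, add_zero]

/-- Siegel transformations as elements of `Ω` -/
theorem exists_unipotent [Nonempty ι] (hp2 : p ≠ 2) (h2 : (2 : F) ≠ 0)
    (hnd : (polarBilin Qs).Nondegenerate) (hodd : Fintype.card F ≠ 2)
    (e w : ι → F) (he0 : e ≠ 0) (hQe : Qs e = 0) (hew : polar Qs e w = 0) (hQw : Qs w ≠ 0) :
    ∃ x : GL ι F, x ∈ Cfsg.Geo.omegaGL ⇑Qs ∧ x ^ p = 1 ∧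
      (∀ z : F, (x : Matrix ι ι F) ≠ z • (1 : Matrix ι ι F)) ∧
      (((x : Matrix ι ι F) - 1) * ((x : Matrix ι ι F) - 1)).rank = 1 := by
  obtain ⟨N, hN⟩ : ∃ N, N = siegelN Qs e w := ⟨_, rfl⟩
  obtain ⟨v₀, hv₀⟩ : ∃ v₀, polar Qs e v₀ ≠ 0 := by
    by_contra hcon
    push Not at hcon
    exact he0 (hnd.1 e (fun z => by rw [polarBilin_apply_apply]; exact hcon z))
  have hNN : ∀ v, N (N v) = (-(2 * Qs w * polar Qs e v)) • e := by
    intro v
    rw [hN]
    exact siegelN_sq Qs e w hQe hew v
  have hy1 : (1 + N : (ι → F) →ₗ[F] (ι → F)) ≠ 1 := by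
    intro h1
    have h3 : N = 0 := by
      have := congrArg (fun f => f - 1) h1
      simpa using this
    have h4 := hNN v₀
    rw [h3, LinearMap.zero_apply] at h4
    rcases smul_eq_zero.1 h4.symm with h5 | h5
    · rw [neg_eq_zero] at h5
      rcases mul_eq_zero.1 h5 with h6 | h6
      · rcases mul_eq_zero.1 h6 with h7 | h7
        · exact h2 h7
        · exact hQw h7
      · exact hv₀ h6
    · exact he0 h5
  obtain ⟨x, hxΩ, hxy, hord, -, hns⟩ :=
    Cfsg.Agent.Lib.Helper24.Or.exists_gl_of_isometry Qs hnd (Or.inl hodd) p hp2 (1 + N)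
      (by rw [hN]; exact siegel_iso Qs e w hQe hew)
      (by rw [hN]; exact siegel_pow Qs hp2 e w hQe hew) hy1
  refine ⟨x, hxΩ, ?_, hns, ?_⟩
  · rw [← hord]
    exact pow_orderOf_eq_one x
  · have h5 : Matrix.toLin' (((x : Matrix ι ι F) - 1) * ((x : Matrix ι ι F) - 1)) = N * N := by
      rw [Matrix.toLin'_mul, map_sub, hxy, Matrix.toLin'_one]
      have : (1 + N - LinearMap.id : (ι → F) →ₗ[F] (ι → F)) = N := by
        apply LinearMap.ext
        intro v
        simp
      rw [this]
      rfl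
    rw [← finrank_range_toLin, h5]
    have h6 : LinearMap.range (N * N) = Submodule.span F {e} := by
      apply le_antisymm
      · rintro _ ⟨v, rfl⟩
        rw [Module.End.mul_apply, hNN]
        exact Submodule.smul_mem _ _ (Submodule.subset_span rfl)
      · rw [Submodule.span_le, Set.singleton_subset_iff]
        refine ⟨(-(2 * Qs w * polar Qs e v₀))⁻¹ • v₀, ?_⟩
        rw [Module.End.mul_apply, map_smul, map_smul, hNN, smul_smul, inv_mul_cancel₀, one_smul]
        rw [neg_ne_zero]
        exact mul_ne_zero (mul_ne_zero h2 hQw) hv₀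
    rw [h6, finrank_span_singleton he0]

end siegel

end Cfsg.Agent.Lib.Helper12.OrC3
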