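import Mathlib
import Cfsg.Prelude.Def_GeometricClasses
import Cfsg.Agent.Lib.Helper12.OrC3G
import Cfsg.Agent.Lib.Helper12.OrC3I

/-! Helper12 library (OrC3, part J): the forward direction: an odd prime dividing the index of
the normalizer of a self-adjoint quadratic extension field in `Ω` is the order of an element of
`Ω` with no conjugate in the normalizer. -/

set_option autoImplicit false
set_option linter.unusedSectionVars false
set_option linter.unusedVariables false
set_option linter.style.haveILetI false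

namespace Cfsg.Agent.Lib.Helper12.OrC3

open Module Matrix QuadraticMap Cfsg.Agent.Lib.Helper12.C3Sp Cfsg.Agent.Lib.Helper12.Elus
  Cfsg.Agent.Lib.Helper15.QuadType

section arith

theorem pow_eq_one_of_dvd (q r k : ℕ) (hq : 0 < q) (h : r ∣ q ^ k - 1) :
    ((q : ℕ) : ZMod r) ^ k = 1 := by
  have h1 : ((q ^ k - 1 : ℕ) : ZMod r) = 0 := (ZMod.natCast_eq_zero_iff _ _).2 h
  rw [Nat.cast_sub (Nat.one_le_pow _ _ hq), Nat.cast_pow, Nat.cast_one, sub_eq_zero] at h1
  exact h1

theorem pow_eq_neg_one_of_dvd (q r k : ℕ) (h : r ∣ q ^ k + 1) :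
    ((q : ℕ) : ZMod r) ^ k = -1 := by
  have h1 : ((q ^ k + 1 : ℕ) : ZMod r) = 0 := (ZMod.natCast_eq_zero_iff _ _).2 h
  rw [Nat.cast_add, Nat.cast_pow, Nat.cast_one] at h1
  exact eq_neg_of_add_eq_zero_left h1

end arith

section fwd

universe u

variable {F : Type u} [Field F] [Fintype F] {ι : Type} [Fintype ι] [DecidableEq ι]
  {E : Type u} [Field E] [Fintype E] [Algebra F E] [FiniteDimensional F E]
  (ρ : E →ₐ[F] Matrix ι ι F) (Qs : QuadraticForm F (ι → F))

/-- the forward direction in general form -/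
theorem fwd_generic {p : ℕ} [Fact p.Prime] [CharP F p] [Nonempty ι] (h2 : (2 : F) ≠ 0) (hnd : (polarBilin Qs).Nondegenerate)
    (hKf : Cfsg.Geo.IsSelfAdjointFor (polar Qs) ρ.range) (hE2 : finrank F E = 2)
    (n : ℕ) (hι : Fintype.card ι = 2 * (n + 1)) (ε : ℤ) (hε : ε = 1 ∨ ε = -1)
    (ht : HasType ε (n + 1) ⇑Qs) (s : ℕ)
    (hs : (ε = 1 → s = Fintype.card F ^ (n + 1) - 1) ∧ (ε = -1 → s = Fintype.card F ^ (n + 1) + 1))
    (hO : Nat.card ↥(Cfsg.isometryGroup F ⇑Qs) =
      2 * Fintype.card F ^ ((n + 1) * n) * s *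
        ∏ i ∈ Finset.range n, (Fintype.card F ^ (2 * (i + 1)) - 1))
    (huniv : ∀ (V' : Type u) [AddCommGroup V'] [Module F V'] [FiniteDimensional F V']
      (Q' : QuadraticForm F V'), (polarBilin Q').Nondegenerate → finrank F V' = 2 * (n + 1) →
      HasType ε (n + 1) (fun v => Q' v) → ∃ e : V' ≃ₗ[F] (ι → F), ∀ v, Qs (e v) = Q' v)
    (e w : ι → F) (he0 : e ≠ 0) (hQe : Qs e = 0) (hew : polar Qs e w = 0) (hQw : Qs w ≠ 0)
    (r : ℕ) [Fact r.Prime] (hr2 : r ≠ 2)
    (hΩ : r ∣ (Cfsg.Geo.subalgebraNormalizer ρ.range).relIndex (Cfsg.Geo.omegaGL ⇑Qs)) :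
    ∃ x : GL ι F, x ∈ Cfsg.Geo.omegaGL ⇑Qs ∧ x ^ r = 1 ∧
      (∀ z : F, (x : Matrix ι ι F) ≠ z • (1 : Matrix ι ι F)) ∧
      ∀ g : GL ι F, g ∈ Cfsg.isometryGroup F ⇑Qs →
        g⁻¹ * x * g ∉ Cfsg.Geo.subalgebraNormalizer ρ.range := by
  have hr : r.Prime := Fact.out
  have hodd : Fintype.card F ≠ 2 := Cfsg.Agent.Lib.Helper25.Spin.card_ne_two h2
  have hqpos : 0 < Fintype.card F := Fintype.card_pos
  by_cases hrp : r = p
  · subst hrp
    obtain ⟨x, hxΩ, hxr, hns, hrank⟩ := exists_unipotent (p := r) Qs hr2 h2 hnd hodd e w he0 hQe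
      hew hQw
    refine ⟨x, hxΩ, hxr, hns, fun g _ => ?_⟩
    exact not_conj_unipotent ρ hE2 r hr2 x hxr (by rw [hrank]; exact odd_one) g
  · have hr0 : (r : F) ≠ 0 := by
      rw [Ne, CharP.cast_eq_zero_iff F p]
      intro hd
      exact hrp ((Nat.prime_dvd_prime_iff_eq Fact.out Fact.out).1 hd).symm
    have hndvd : ¬ r ∣ Fintype.card F := Cfsg.Agent.Lib.Helper24.Or.card_not_dvd' (p := p) r hrp
    have key : ∃ j, Odd j ∧ 1 ≤ j ∧ j ≤ n + 1 ∧
        orderOf ((Fintype.card F : ℕ) : ZMod r) ∣ 2 * j ∧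
        (j = n + 1 → (ε = 1 ↔ orderOf ((Fintype.card F : ℕ) : ZMod r) ∣ j)) := by
      rcases primes_of_dvd ρ Qs h2 hnd hKf hE2 n hι ε hε ht s hs hO r hr hΩ with h | h | h
      · exact absurd h hndvd
      · obtain ⟨hoddd, hrs⟩ := h
        refine ⟨n + 1, hoddd, by omega, le_rfl, ?_, fun _ => ?_⟩
        · rcases hε with h1 | h1
          · rw [hs.1 h1] at hrs
            have := pow_eq_one_of_dvd _ r (n + 1) hqpos hrs
            exact (orderOf_dvd_of_pow_eq_one this).trans (Dvd.intro_left _ rfl)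
          · rw [hs.2 h1] at hrs
            have := pow_eq_neg_one_of_dvd _ r (n + 1) hrs
            apply orderOf_dvd_of_pow_eq_one
            rw [mul_comm, pow_mul, this]
            norm_num
        · rcases hε with h1 | h1
          · rw [hs.1 h1] at hrs
            have := pow_eq_one_of_dvd _ r (n + 1) hqpos hrs
            exact ⟨fun _ => orderOf_dvd_of_pow_eq_one this, fun _ => h1⟩
          · rw [hs.2 h1] at hrs
            have h3 := pow_eq_neg_one_of_dvd _ r (n + 1) hrs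
            constructor
            · intro h4
              rw [h1] at h4
              norm_num at h4
            · intro h4
              exfalso
              have h5 := orderOf_dvd_iff_pow_eq_one.1 h4
              rw [h3] at h5
              have h6 : ((2 : ℕ) : ZMod r) = 0 := by
                push_cast
                linear_combination -h5
              rw [ZMod.natCast_eq_zero_iff] at h6
              exact hr2 ((Nat.prime_dvd_prime_iff_eq hr Nat.prime_two).1 h6)
      · obtain ⟨j, hjodd, hjn, hrj⟩ := h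
        have hj1 : 1 ≤ j := by
          obtain ⟨m, hm⟩ := hjodd
          omega
        refine ⟨j, hjodd, hj1, by omega, ?_, fun h4 => by omega⟩
        exact orderOf_dvd_of_pow_eq_one (pow_eq_one_of_dvd _ r (2 * j) hqpos hrj)
    obtain ⟨j, hjodd, hj1, hjd, hdvd, hcompat⟩ := key
    obtain ⟨x, hxΩ, hxr, hns, hmov⟩ := exists_semisimple (p := p) Qs hnd (n + 1) ε hε huniv hodd
      r hr2 hrp j hj1 hjd hdvd hcompat
    refine ⟨x, hxΩ, hxr, hns, fun g hg => ?_⟩
    exact not_conj_semisimple ρ Qs h2 hnd hKf hE2 r hr2 hr0 x (omegaGL_le Qs hxΩ) hxr j hjodd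
      hmov g hg

end fwd

end Cfsg.Agent.Lib.Helper12.OrC3
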