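import Mathlib
import Cfsg.Agent.Lib.Helper15.QuadType
import Cfsg.Agent.Lib.Helper25.SpinMatrix

/-! Helper12 library (OrC3, part K): the binary quadratic forms `z ↦ Tr (c z²)` on a quadratic
extension `E` of a finite field `F` of odd characteristic: their type determines the class of `c`
modulo squares. -/

set_option autoImplicit false
set_option linter.unusedSectionVars false
set_option linter.unusedVariables false
set_option linter.style.haveILetI false

namespace Cfsg.Agent.Lib.Helper12.OrC3

open Module QuadraticMap Cfsg.Agent.Lib.Helper15.QuadType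

section trq

variable {F E : Type*} [Field F] [Fintype F] [Field E] [Fintype E] [Algebra F E]

theorem card_E_eq_sq (hE2 : finrank F E = 2) : Fintype.card E = Fintype.card F ^ 2 := by
  rw [Module.card_eq_pow_finrank (K := F) (V := E), hE2]

theorem two_ne_zero_E' (h2 : (2 : F) ≠ 0) : (2 : E) ≠ 0 := by
  intro h
  apply h2
  have h1 : algebraMap F E 2 = 0 := by rw [map_ofNat]; exact h
  exact (map_eq_zero (algebraMap F E)).1 h1

/-- the elements of `F` are squares in `E` -/
theorem isSquare_algebraMap (h2 : (2 : F) ≠ 0) (hE2 : finrank F E = 2) (f : F) :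
    IsSquare (algebraMap F E f) := by
  by_cases hf : f = 0
  · rw [hf, map_zero]
    exact ⟨0, by simp⟩
  have hF2 : ringChar F ≠ 2 := Cfsg.Agent.Lib.Helper25.Spin.ringChar_ne_two h2
  have hE2' : ringChar E ≠ 2 := Cfsg.Agent.Lib.Helper25.Spin.ringChar_ne_two (two_ne_zero_E' h2)
  have hf' : algebraMap F E f ≠ 0 := by
    rw [Ne, map_eq_zero]
    exact hf
  rw [FiniteField.isSquare_iff hE2' hf', card_E_eq_sq hE2]
  have hodd := FiniteField.odd_card_of_char_ne_two hF2
  obtain ⟨m, hm⟩ : ∃ m, Fintype.card F = 2 * m + 1 := ⟨Fintype.card F / 2, by omega⟩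
  have e1 : Fintype.card F ^ 2 / 2 = (Fintype.card F - 1) * (m + 1) := by
    rw [hm]
    have : (2 * m + 1) ^ 2 = 2 * (2 * m * (m + 1)) + 1 := by ring
    rw [this]
    have : 2 * m + 1 - 1 = 2 * m := by omega
    rw [this]
    omega
  rw [e1, pow_mul, ← map_pow, FiniteField.pow_card_sub_one_eq_one f hf, map_one, one_pow]

/-- a generator of the kernel of the trace -/
theorem exists_trace_zero (hE2 : finrank F E = 2) :
    ∃ κ : E, κ ≠ 0 ∧ Algebra.trace F E κ = 0 ∧
      ∀ e : E, Algebra.trace F E e = 0 → ∃ f : F, e = f • κ := by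
  haveI : FiniteDimensional F E := FiniteDimensional.of_finrank_pos (by rw [hE2]; norm_num)
  have hsurj : Function.Surjective (Algebra.trace F E) := Algebra.trace_surjective F E
  have h1 := LinearMap.finrank_range_add_finrank_ker (Algebra.trace F E)
  have h2 : LinearMap.range (Algebra.trace F E) = ⊤ := LinearMap.range_eq_top.2 hsurj
  rw [h2, finrank_top, finrank_self, hE2] at h1
  have h3 : finrank F (LinearMap.ker (Algebra.trace F E)) = 1 := by omega
  obtain ⟨κ, hκ⟩ := finrank_eq_one_iff'.1 h3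
  refine ⟨κ.1, ?_, LinearMap.mem_ker.1 κ.2, ?_⟩
  · intro h0
    exact hκ.1 (Subtype.ext h0)
  · intro e he
    obtain ⟨f, hf⟩ := hκ.2 ⟨e, LinearMap.mem_ker.2 he⟩
    exact ⟨f, (congrArg Subtype.val hf).symm⟩

variable (F) in
/-- `z ↦ Tr (c z²)` has a nonzero zero -/
def TrIso (c : E) : Prop := ∃ z : E, z ≠ 0 ∧ Algebra.trace F E (c * z ^ 2) = 0

theorem trIso_iff (h2 : (2 : F) ≠ 0) (hE2 : finrank F E = 2) (κ : E) (hκ0 : κ ≠ 0)
    (hκ : Algebra.trace F E κ = 0)
    (hker : ∀ e : E, Algebra.trace F E e = 0 → ∃ f : F, e = f • κ) (c : E) (hc : c ≠ 0) :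
    TrIso F c ↔ IsSquare (c * κ⁻¹) := by
  constructor
  · rintro ⟨z, hz0, hz⟩
    obtain ⟨f, hf⟩ := hker _ hz
    obtain ⟨g, hg⟩ := isSquare_algebraMap (E := E) h2 hE2 f
    refine ⟨g * z⁻¹, ?_⟩
    have h3 : c * z ^ 2 = g * g * κ := by rw [hf, Algebra.smul_def, hg]
    have : c = g * g * κ * (z⁻¹) ^ 2 := by
      rw [← h3]
      field_simp
    rw [this]
    field_simp
  · rintro ⟨s, hs⟩
    have hs0 : s ≠ 0 := by
      rintro rfl
      rw [mul_zero] at hs
      exact (mul_ne_zero hc (inv_ne_zero hκ0)) hs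
    refine ⟨s⁻¹, inv_ne_zero hs0, ?_⟩
    have : c * s⁻¹ ^ 2 = κ := by
      have h3 : c = s * s * κ := by
        rw [← hs]
        field_simp
      rw [h3]
      field_simp
    rw [this, hκ]

/-- forms of the same kind differ by a square -/
theorem exists_sq_of_trIso_iff (h2 : (2 : F) ≠ 0) (hE2 : finrank F E = 2) (c c' : E)
    (hc : c ≠ 0) (hc' : c' ≠ 0) (h : TrIso F c ↔ TrIso F c') :
    ∃ s : E, s ≠ 0 ∧ c = c' * s ^ 2 := by
  obtain ⟨κ, hκ0, hκ, hker⟩ := exists_trace_zero (F := F) (E := E) hE2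
  rw [trIso_iff h2 hE2 κ hκ0 hκ hker c hc, trIso_iff h2 hE2 κ hκ0 hκ hker c' hc'] at h
  have h3 := (Cfsg.Agent.Lib.Helper25.Spin.isSquare_mul_iff (mul_ne_zero hc (inv_ne_zero hκ0))
    (mul_ne_zero hc' (inv_ne_zero hκ0))).2 h
  obtain ⟨s, hs⟩ := h3
  have hs0 : s ≠ 0 := by
    rintro rfl
    rw [mul_zero] at hs
    exact (mul_ne_zero (mul_ne_zero hc (inv_ne_zero hκ0)) (mul_ne_zero hc' (inv_ne_zero hκ0))) hs
  refine ⟨s * κ * c'⁻¹, mul_ne_zero (mul_ne_zero hs0 hκ0) (inv_ne_zero hc'), ?_⟩
  have h4 : c * c' = s * s * κ * κ := by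
    have : c * κ⁻¹ * (c' * κ⁻¹) * (κ * κ) = s * s * (κ * κ) := by rw [hs]
    rw [← mul_assoc (s * s)] at this
    rw [← this]
    field_simp
  have h5 : c = s * s * κ * κ * c'⁻¹ := by
    rw [← h4]
    field_simp
  rw [h5]
  field_simp

end trq

section trqf

variable {F E : Type*} [Field F] [Fintype F] [Field E] [Fintype E] [Algebra F E]
  [FiniteDimensional F E] [Algebra.IsSeparable F E]

/-- the quadratic form `z ↦ Tr (c z²)` -/
noncomputable def trQF (c : E) : QuadraticForm F E :=
  LinearMap.BilinMap.toQuadraticMap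
    ((Algebra.traceForm F E).compl₁₂ (LinearMap.mulLeft F c) LinearMap.id)

theorem trQF_apply (c z : E) : trQF (F := F) c z = Algebra.trace F E (c * z ^ 2) := by
  unfold trQF
  rw [LinearMap.BilinMap.toQuadraticMap_apply, LinearMap.compl₁₂_apply, Algebra.traceForm_apply,
    LinearMap.mulLeft_apply, LinearMap.id_apply, pow_two, mul_assoc]

theorem polar_trQF (c z w : E) :
    polar (trQF (F := F) c) z w = 2 * Algebra.trace F E (c * z * w) := by
  unfold trQF
  rw [LinearMap.BilinMap.polar_toQuadraticMap, LinearMap.compl₁₂_apply, LinearMap.compl₁₂_apply,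
    Algebra.traceForm_apply, Algebra.traceForm_apply, LinearMap.mulLeft_apply,
    LinearMap.mulLeft_apply, LinearMap.id_apply, LinearMap.id_apply]
  have : c * w * z = c * z * w := by ring
  rw [this]
  ring

theorem trQF_nd (h2 : (2 : F) ≠ 0) (c : E) (hc : c ≠ 0) :
    (polarBilin (trQF (F := F) c)).Nondegenerate := by
  have key : ∀ x : E, (∀ y, polar (trQF (F := F) c) x y = 0) → x = 0 := by
    intro x hx
    have h1 : c * x = 0 := by
      apply (traceForm_nondegenerate F E).1 (c * x)
      intro y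
      have := hx y
      rw [polar_trQF] at this
      rw [Algebra.traceForm_apply]
      exact (mul_eq_zero.1 this).resolve_left h2
    exact (mul_eq_zero.1 h1).resolve_left hc
  constructor
  · intro x hx
    apply key
    intro y
    have := hx y
    rwa [polarBilin_apply_apply] at this
  · intro y hy
    apply key
    intro x
    have := hy x
    rw [polarBilin_apply_apply] at this
    rw [polar_comm]
    exact this

/-- the sign of `c` -/
noncomputable def tauE (F : Type*) {E : Type*} [Field F] [Field E] [Algebra F E] (c : E) : ℤ :=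
  open Classical in if TrIso F c then 1 else -1

theorem tauE_sq (c : E) : tauE F c * tauE F c = 1 := by
  unfold tauE
  split_ifs <;> norm_num

theorem tauE_ne_zero (c : E) : tauE F c ≠ 0 := by
  intro h
  have := tauE_sq (F := F) c
  rw [h] at this
  norm_num at this

/-- the type of `z ↦ Tr (c z²)` -/
theorem hasType_trQF (h2 : (2 : F) ≠ 0) (hE2 : finrank F E = 2) (c : E) (hc : c ≠ 0) :
    HasType (tauE F c) 1 (fun z : E => Algebra.trace F E (c * z ^ 2)) := by
  obtain ⟨ε, hε, ht⟩ := hasType_of_nondeg (trQF (F := F) c) (trQF_nd h2 c hc) 1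
    (by rw [hE2])
  have hfun : (fun z : E => Algebra.trace F E (c * z ^ 2)) = ⇑(trQF (F := F) c) := by
    funext z
    rw [trQF_apply]
  rw [hfun]
  have hq : 2 ≤ Fintype.card F := Fintype.one_lt_card
  have h0 := ht.1
  have hmem : ∀ z : E, trQF (F := F) c z = 0 ↔ Algebra.trace F E (c * z ^ 2) = 0 := by
    intro z
    rw [trQF_apply]
  have : ε = tauE F c := by
    unfold tauE
    rcases hε with rfl | rfl
    · rw [if_pos]
      -- more than one zero
      by_contra hcon
      have hone : Nat.card {v : E // trQF (F := F) c v = 0} = 1 := by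
        rw [Nat.card_eq_one_iff_unique]
        refine ⟨⟨fun x y => ?_⟩, ⟨⟨0, QuadraticMap.map_zero _⟩⟩⟩
        have hx : x.1 = 0 := by
          by_contra hx0
          exact hcon ⟨x.1, hx0, (hmem _).1 x.2⟩
        have hy : y.1 = 0 := by
          by_contra hy0
          exact hcon ⟨y.1, hy0, (hmem _).1 y.2⟩
        exact Subtype.ext (hx.trans hy.symm)
      rw [hone] at h0
      have hq' : (2 : ℤ) ≤ (Fintype.card F : ℤ) := by exact_mod_cast hq
      have h5 : 2 * ((Fintype.card F : ℤ) * ((Fintype.card F : ℤ) - 1)) = 0 := by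
        push_cast at h0
        linear_combination (-1 : ℤ) * h0
      rcases mul_eq_zero.1 h5 with h6 | h6
      · omega
      · rcases mul_eq_zero.1 h6 with h7 | h7 <;> omega
    · rw [if_neg]
      rintro ⟨z, hz0, hz⟩
      have htwo : 2 ≤ Nat.card {v : E // trQF (F := F) c v = 0} := by
        have : (⟨0, QuadraticMap.map_zero _⟩ : {v : E // trQF (F := F) c v = 0}) ≠
            ⟨z, (hmem z).2 hz⟩ := by
          intro h
          exact hz0 (congrArg Subtype.val h).symm
        haveI : Nontrivial {v : E // trQF (F := F) c v = 0} := ⟨_, _, this⟩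
        exact Finite.one_lt_card
      have h3 : (2 : ℤ) ≤ (Nat.card {v : E // trQF (F := F) c v = 0} : ℤ) := by exact_mod_cast htwo
      have hq' : (2 : ℤ) ≤ (Fintype.card F : ℤ) := by exact_mod_cast hq
      have h5 : (Fintype.card F : ℤ) * (Nat.card {v : E // trQF (F := F) c v = 0} : ℤ) =
          (Fintype.card F : ℤ) := by
        rw [h0]
        ring
      nlinarith
  rw [← this]
  exact ht

end trqf

end Cfsg.Agent.Lib.Helper12.OrC3
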