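import Mathlib
import Cfsg.Agent.Lib.Helper12.OrC3K

/-! Helper12 library (OrC3, part L): the types of the diagonal forms
`z ↦ Tr (∑ c_j z_j²)` over a quadratic extension of a finite field of odd characteristic. -/

set_option autoImplicit false
set_option linter.unusedSectionVars false
set_option linter.unusedVariables false
set_option linter.style.haveILetI false

namespace Cfsg.Agent.Lib.Helper12.OrC3

open Module QuadraticMap Cfsg.Agent.Lib.Helper15.QuadType

section model

variable {F E : Type*} [Field F] [Fintype F] [Field E] [Fintype E] [Algebra F E]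
  [FiniteDimensional F E] [Algebra.IsSeparable F E]

/-- the type of a diagonal form -/
theorem hasType_weighted (h2 : (2 : F) ≠ 0) (hE2 : finrank F E = 2) :
    ∀ (m : ℕ) (cvec : Fin m → E), (∀ j, cvec j ≠ 0) →
      HasType (∏ j, tauE F (cvec j)) m
        (fun z : Fin m → E => Algebra.trace F E (∑ j, cvec j * z j ^ 2)) := by
  intro m
  induction m with
  | zero =>
    intro cvec _
    have hf : ∀ z : Fin 0 → E, Algebra.trace F E (∑ j, cvec j * z j ^ 2) = 0 := by
      intro z
      rw [Finset.univ_eq_empty, Finset.sum_empty, map_zero]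
    have hprod : ∏ j, tauE F (cvec j) = 1 := by
      rw [Finset.univ_eq_empty, Finset.prod_empty]
    rw [hprod]
    constructor
    · have : Nat.card {v : Fin 0 → E // Algebra.trace F E (∑ j, cvec j * v j ^ 2) = 0} = 1 := by
        rw [Nat.card_eq_one_iff_unique]
        exact ⟨⟨fun x y => Subtype.ext (Subsingleton.elim _ _)⟩, ⟨⟨0, hf 0⟩⟩⟩
      rw [this]
      simp
    · intro c hc
      have : Nat.card {v : Fin 0 → E // Algebra.trace F E (∑ j, cvec j * v j ^ 2) = c} = 0 := by
        rw [Nat.card_eq_zero]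
        left
        constructor
        rintro ⟨v, hv⟩
        rw [hf v] at hv
        exact hc hv.symm
      rw [this]
      simp
  | succ m ih =>
    intro cvec hcvec
    have h1 := hasType_trQF (F := F) h2 hE2 (cvec 0) (hcvec 0)
    have h3 := ih (fun j => cvec (Fin.succ j)) (fun j => hcvec _)
    have h4 := h1.prod h3
    rw [Nat.add_comm 1 m] at h4
    rw [Fin.prod_univ_succ]
    apply h4.congr (Fin.consEquiv (fun _ : Fin (m + 1) => E))
    rintro ⟨a, y⟩
    show Algebra.trace F E (∑ j, cvec j * (Fin.cons a y : Fin (m + 1) → E) j ^ 2) =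
      Algebra.trace F E (cvec 0 * a ^ 2) + Algebra.trace F E (∑ j, cvec (Fin.succ j) * y j ^ 2)
    rw [Fin.sum_univ_succ, map_add]
    simp only [Fin.cons_zero, Fin.cons_succ]

/-- the weights `1, …, 1, c` -/
def cv (n : ℕ) (c : E) (j : Fin (n + 1)) : E := if j = Fin.last n then c else 1

theorem cv_last (n : ℕ) (c : E) : cv n c (Fin.last n) = c := by
  unfold cv
  rw [if_pos rfl]

theorem cv_castSucc (n : ℕ) (c : E) (j : Fin n) : cv n c (Fin.castSucc j) = 1 := by
  unfold cv
  rw [if_neg (Fin.castSucc_lt_last j).ne]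

theorem cv_ne_zero (n : ℕ) (c : E) (hc : c ≠ 0) (j : Fin (n + 1)) : cv n c j ≠ 0 := by
  unfold cv
  split_ifs
  · exact hc
  · exact one_ne_zero

/-- two diagonal forms `⟨1, …, 1, c⟩` and `⟨1, …, 1, c'⟩` with isometric traces -/
theorem sq_of_hasType (h2 : (2 : F) ≠ 0) (hE2 : finrank F E = 2) (n : ℕ) (c c' : E) (hc : c ≠ 0)
    (hc' : c' ≠ 0) (ε : ℤ)
    (h : HasType ε (n + 1)
      (fun z : Fin (n + 1) → E => Algebra.trace F E (∑ j, cv n c j * z j ^ 2)))
    (h' : HasType ε (n + 1)
      (fun z : Fin (n + 1) → E => Algebra.trace F E (∑ j, cv n c' j * z j ^ 2))) :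
    ∃ s : E, s ≠ 0 ∧ c = c' * s ^ 2 := by
  have e1 := h.unique (hasType_weighted (F := F) h2 hE2 (n + 1) (cv n c) (cv_ne_zero n c hc))
  have e2 := h'.unique (hasType_weighted (F := F) h2 hE2 (n + 1) (cv n c') (cv_ne_zero n c' hc'))
  rw [Fin.prod_univ_castSucc] at e1 e2
  simp only [cv_castSucc, cv_last] at e1 e2
  have h3 : tauE F c = tauE F c' := by
    have h4 : (∏ _j : Fin n, tauE F (1 : E)) ≠ 0 :=
      Finset.prod_ne_zero_iff.2 (fun _ _ => tauE_ne_zero (F := F) (1 : E))
    have h5 : (∏ _j : Fin n, tauE F (1 : E)) * tauE F c =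
        (∏ _j : Fin n, tauE F (1 : E)) * tauE F c' := by rw [← e1, ← e2]
    exact mul_left_cancel₀ h4 h5
  apply exists_sq_of_trIso_iff (F := F) h2 hE2 c c' hc hc'
  unfold tauE at h3
  by_cases hi : TrIso F c <;> by_cases hi' : TrIso F c'
  · exact ⟨fun _ => hi', fun _ => hi⟩
  · rw [if_pos hi, if_neg hi'] at h3
    norm_num at h3
  · rw [if_neg hi, if_pos hi'] at h3
    norm_num at h3
  · exact ⟨fun h => absurd h hi, fun h => absurd h hi'⟩

end model

end Cfsg.Agent.Lib.Helper12.OrC3
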