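import Mathlib
import Cfsg.Prelude.Def_GeometricClasses
import Cfsg.Agent.Lib.Helper12.OrC3F
import Cfsg.Agent.Lib.Helper12.OrC3L
import Cfsg.Agent.Lib.Helper15.QuadOrth
import Cfsg.Agent.Lib.Helper15.QuadClass

/-! Helper12 library (OrC3, part M): two self-adjoint embeddings of a quadratic extension field
into the matrix algebra are conjugate under the isometry group of the quadratic form. -/

set_option autoImplicit false
set_option linter.unusedSectionVars false
set_option linter.unusedVariables false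
set_option linter.style.haveILetI false

namespace Cfsg.Agent.Lib.Helper12.OrC3

open Module Matrix QuadraticMap Cfsg.Agent.Lib.Helper12.C3Sp Cfsg.Agent.Lib.Helper12.Elus
  Cfsg.Agent.Lib.Helper15.QuadType

section orthsum

variable {R M : Type*} [CommRing R] [AddCommGroup M] [Module R M] (Q : QuadraticForm R M)

/-- a quadratic form on a combination of pairwise orthogonal vectors -/
theorem map_sum_orth {κ : Type*} [DecidableEq κ] (u : κ → M)
    (horth : ∀ i j, i ≠ j → polar Q (u i) (u j) = 0) (a : κ → R) (s : Finset κ) :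
    Q (∑ i ∈ s, a i • u i) = ∑ i ∈ s, a i * a i * Q (u i) := by
  induction s using Finset.induction_on with
  | empty => simp
  | insert i s hi ih =>
    rw [Finset.sum_insert hi, Finset.sum_insert hi]
    have h1 : Q (a i • u i + ∑ j ∈ s, a j • u j) =
        Q (a i • u i) + Q (∑ j ∈ s, a j • u j) + polar Q (a i • u i) (∑ j ∈ s, a j • u j) := by
      rw [polar]; ring
    have h2 : polar Q (a i • u i) (∑ j ∈ s, a j • u j) = 0 := by
      have := map_sum (polarBilin Q (a i • u i)) (fun j => a j • u j) s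
      simp only [polarBilin_apply_apply] at this
      rw [this]
      apply Finset.sum_eq_zero
      intro j hj
      have hij : i ≠ j := fun h => hi (h ▸ hj)
      rw [polar_smul_left, polar_smul_right, horth i j hij, smul_zero, smul_zero]
    rw [h1, h2, ih, QuadraticMap.map_smul, add_zero, smul_eq_mul]

end orthsum

section nf

universe u

variable {F : Type u} [Field F] [Fintype F] {ι : Type} [Fintype ι] [DecidableEq ι]
  {E : Type u} [Field E] [Fintype E] [Algebra F E] [FiniteDimensional F E]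
  (ρ : E →ₐ[F] Matrix ι ι F) (Qs : QuadraticForm F (ι → F))

/-- the coordinate map attached to a family of vectors -/
noncomputable def phiMap {m : ℕ} (u : Fin m → (ι → F)) : (Fin m → E) →ₗ[F] (ι → F) where
  toFun z := ∑ j, ρ (z j) *ᵥ u j
  map_add' z w := by
    simp only [Pi.add_apply, map_add, Matrix.add_mulVec, Finset.sum_add_distrib]
  map_smul' f z := by
    simp only [Pi.smul_apply, map_smul, Matrix.smul_mulVec, Finset.smul_sum, RingHom.id_apply]

theorem phiMap_apply {m : ℕ} (u : Fin m → (ι → F)) (z : Fin m → E) :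
    phiMap ρ u z = ∑ j, ρ (z j) *ᵥ u j := rfl

theorem phiMap_mul {m : ℕ} (u : Fin m → (ι → F)) (a : E) (z : Fin m → E) :
    phiMap ρ u (fun j => a * z j) = ρ a *ᵥ phiMap ρ u z := by
  rw [phiMap_apply, phiMap_apply, Matrix.mulVec_sum]
  apply Finset.sum_congr rfl
  intro j _
  rw [map_mul, Matrix.mulVec_mulVec]

/-- the normal form -/
def IsNF (n : ℕ) (u : Fin (n + 1) → (ι → F)) (c : E) : Prop :=
  Function.Bijective (phiMap ρ u) ∧
    ∀ z : Fin (n + 1) → E, Qs (phiMap ρ u z) = Algebra.trace F E (∑ j, cv n c j * z j ^ 2)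

/-- existence of the normal form -/
theorem exists_nf (h2 : (2 : F) ≠ 0) (hnd : (polarBilin Qs).Nondegenerate)
    (hKf : Cfsg.Geo.IsSelfAdjointFor (polar Qs) ρ.range) (hE2 : finrank F E = 2)
    (n : ℕ) (hι : Fintype.card ι = 2 * (n + 1)) :
    ∃ (u : Fin (n + 1) → (ι → F)) (c : E), c ≠ 0 ∧ IsNF ρ Qs n u c := by
  letI := modOf ρ
  haveI := isScalarTower ρ
  haveI : FiniteDimensional E (ι → F) := Module.Finite.of_restrictScalars_finite F E (ι → F)
  have hsa := selfAdj_of ρ Qs hKf
  have hdim : finrank E (ι → F) = n + 1 := finrank_E_of_card ρ hE2 (n + 1) hι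
  have h2E : (2 : E) ≠ 0 := two_ne_zero_E h2
  have hndE := QE_nd h2 hsa hnd
  obtain ⟨u, -, horth, hone, hlast⟩ := Cfsg.Agent.Lib.Helper15.orth_family (F := E) h2E (QE hsa) n ⊤
    (Cfsg.Agent.Lib.Helper15.ndOn_top (QE hsa) hndE) (by rw [finrank_top, hdim])
  have hne : ∀ i, QE hsa (u i) ≠ 0 := by
    intro i
    by_cases hi : i = Fin.last n
    · rw [hi]; exact hlast
    · rw [hone i hi]; exact one_ne_zero
  have hli := Cfsg.Agent.Lib.Helper15.orth_linearIndependent h2E (QE hsa) u horth hne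
  have hcard : Fintype.card (Fin (n + 1)) = finrank E (ι → F) := by rw [Fintype.card_fin, hdim]
  obtain ⟨b, hb⟩ : ∃ b : Basis (Fin (n + 1)) E (ι → F), ⇑b = u :=
    ⟨basisOfLinearIndependentOfCardEqFinrank' u hli hcard,
      coe_basisOfLinearIndependentOfCardEqFinrank' _ _ _⟩
  have hphi : ∀ z : Fin (n + 1) → E, phiMap ρ u z = b.equivFun.symm z := by
    intro z
    rw [phiMap_apply, Basis.equivFun_symm_apply, hb]
    apply Finset.sum_congr rfl
    intro j _
    rw [smul_def]
  refine ⟨u, QE hsa (u (Fin.last n)), hlast, ?_, ?_⟩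
  · have : (phiMap ρ u : (Fin (n + 1) → E) → (ι → F)) = ⇑b.equivFun.symm := funext hphi
    rw [this]
    exact b.equivFun.symm.bijective
  · intro z
    have h3 : phiMap ρ u z = ∑ j ∈ Finset.univ, z j • u j := by
      rw [phiMap_apply]
      apply Finset.sum_congr rfl
      intro j _
      rw [smul_def]
    rw [h3, ← trace_QE h2 hsa, map_sum_orth (QE hsa) u horth z Finset.univ]
    congr 1
    apply Finset.sum_congr rfl
    intro j _
    by_cases hj : j = Fin.last n
    · rw [hj, cv_last]; ring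
    · have : cv n (QE hsa (u (Fin.last n))) j = 1 := by
        unfold cv
        rw [if_neg hj]
      rw [this, hone j hj]; ring

/-- rescaling the last vector -/
theorem IsNF.rescale {n : ℕ} {u : Fin (n + 1) → (ι → F)} {c' : E} (h : IsNF ρ Qs n u c')
    (c s : E) (hs : s ≠ 0) (hc : c = c' * s ^ 2) :
    IsNF ρ Qs n (fun j => ρ (cv n s j) *ᵥ u j) c := by
  have hD : ∀ z : Fin (n + 1) → E, phiMap ρ (fun j => ρ (cv n s j) *ᵥ u j) z =
      phiMap ρ u (fun j => z j * cv n s j) := by
    intro z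
    rw [phiMap_apply, phiMap_apply]
    apply Finset.sum_congr rfl
    intro j _
    rw [Matrix.mulVec_mulVec, ← map_mul]
  constructor
  · have hfun : (phiMap ρ (fun j => ρ (cv n s j) *ᵥ u j) : (Fin (n + 1) → E) → (ι → F)) =
        (phiMap ρ u) ∘ (fun z j => z j * cv n s j) := funext hD
    rw [hfun]
    apply h.1.comp
    constructor
    · intro z w hzw
      funext j
      have := congrFun hzw j
      exact mul_right_cancel₀ (cv_ne_zero n s hs j) this
    · intro w
      refine ⟨fun j => w j * (cv n s j)⁻¹, ?_⟩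
      funext j
      show w j * (cv n s j)⁻¹ * cv n s j = w j
      rw [mul_assoc, inv_mul_cancel₀ (cv_ne_zero n s hs j), mul_one]
  · intro z
    rw [hD, h.2]
    congr 1
    apply Finset.sum_congr rfl
    intro j _
    by_cases hj : j = Fin.last n
    · rw [hj, cv_last, cv_last, cv_last, hc]; ring
    · have e1 : ∀ t : E, cv n t j = 1 := by
        intro t
        unfold cv
        rw [if_neg hj]
      rw [e1, e1, e1]; ring

/-- two normal forms with the same last coefficient are related by an isometry -/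
theorem exists_iso_of_nf (ρ' : E →ₐ[F] Matrix ι ι F) {n : ℕ} {u u' : Fin (n + 1) → (ι → F)}
    {c : E} (h : IsNF ρ Qs n u c) (h' : IsNF ρ' Qs n u' c) :
    ∃ g : (ι → F) ≃ₗ[F] (ι → F), (∀ v, Qs (g v) = Qs v) ∧
      ∀ (a : E) (v : ι → F), g (ρ a *ᵥ v) = ρ' a *ᵥ g v := by
  obtain ⟨Φ, hΦ⟩ : ∃ Φ : (Fin (n + 1) → E) ≃ₗ[F] (ι → F), ∀ z, Φ z = phiMap ρ u z :=
    ⟨LinearEquiv.ofBijective (phiMap ρ u) h.1, fun z => rfl⟩
  obtain ⟨Φ', hΦ'⟩ : ∃ Φ' : (Fin (n + 1) → E) ≃ₗ[F] (ι → F), ∀ z, Φ' z = phiMap ρ' u' z :=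
    ⟨LinearEquiv.ofBijective (phiMap ρ' u') h'.1, fun z => rfl⟩
  refine ⟨Φ.symm.trans Φ', ?_, ?_⟩
  · intro v
    obtain ⟨z, rfl⟩ := Φ.surjective v
    rw [LinearEquiv.trans_apply, LinearEquiv.symm_apply_apply, hΦ', hΦ, h'.2, h.2]
  · intro a v
    obtain ⟨z, rfl⟩ := Φ.surjective v
    rw [LinearEquiv.trans_apply, LinearEquiv.trans_apply, LinearEquiv.symm_apply_apply, hΦ,
      ← phiMap_mul, ← hΦ, LinearEquiv.symm_apply_apply, hΦ', hΦ', phiMap_mul]

/-- two self-adjoint embeddings of a quadratic extension field are conjugate under the isometry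
group -/
theorem exists_conj (ρ' : E →ₐ[F] Matrix ι ι F) (h2 : (2 : F) ≠ 0)
    (hnd : (polarBilin Qs).Nondegenerate)
    (hKf : Cfsg.Geo.IsSelfAdjointFor (polar Qs) ρ.range)
    (hKf' : Cfsg.Geo.IsSelfAdjointFor (polar Qs) ρ'.range) (hE2 : finrank F E = 2)
    (n : ℕ) (hι : Fintype.card ι = 2 * (n + 1)) :
    ∃ g : (ι → F) ≃ₗ[F] (ι → F), (∀ v, Qs (g v) = Qs v) ∧
      ∀ (a : E) (v : ι → F), g (ρ a *ᵥ v) = ρ' a *ᵥ g v := by
  obtain ⟨u, c, hc, hnf⟩ := exists_nf ρ Qs h2 hnd hKf hE2 n hι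
  obtain ⟨u', c', hc', hnf'⟩ := exists_nf ρ' Qs h2 hnd hKf' hE2 n hι
  obtain ⟨ε, -, ht⟩ := hasType_of_nondeg Qs hnd (n + 1)
    (by rw [Module.finrank_fintype_fun_eq_card, hι])
  have ht1 : HasType ε (n + 1)
      (fun z : Fin (n + 1) → E => Algebra.trace F E (∑ j, cv n c j * z j ^ 2)) := by
    apply ht.congr (Equiv.ofBijective _ hnf.1).symm
    intro v
    rw [← hnf.2]
    congr 1
    exact Equiv.ofBijective_apply_symm_apply _ hnf.1 v
  have ht2 : HasType ε (n + 1)
      (fun z : Fin (n + 1) → E => Algebra.trace F E (∑ j, cv n c' j * z j ^ 2)) := by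
    apply ht.congr (Equiv.ofBijective _ hnf'.1).symm
    intro v
    rw [← hnf'.2]
    congr 1
    exact Equiv.ofBijective_apply_symm_apply _ hnf'.1 v
  obtain ⟨s, hs, hcs⟩ := sq_of_hasType (F := F) h2 hE2 n c c' hc hc' ε ht1 ht2
  exact exists_iso_of_nf ρ Qs ρ' hnf (hnf'.rescale ρ' Qs c s hs hcs)

end nf

end Cfsg.Agent.Lib.Helper12.OrC3
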