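import Mathlib

/-! Helper12 library (OrC3, part N): self-adjoint square roots of a scalar built blockwise on an
orthogonal basis whose members are paired by a fixed-point-free involution. -/

set_option autoImplicit false
set_option linter.unusedSectionVars false
set_option linter.unusedVariables false
set_option linter.style.haveILetI false

namespace Cfsg.Agent.Lib.Helper12.OrC3

open Module QuadraticMap

section binary

variable {F : Type*} [Field F] [Fintype F]

/-- binary diagonal forms over a finite field of odd order represent everything -/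
theorem exists_binary_rep (hodd : Fintype.card F % 2 = 1) (g δ : F) (hg : g ≠ 0) :
    ∃ s t : F, s ^ 2 + g * t ^ 2 = δ := by
  obtain ⟨a, b, hab⟩ := FiniteField.exists_root_sum_quadratic (R := F)
    (f := Polynomial.X ^ 2) (g := Polynomial.C g * Polynomial.X ^ 2 - Polynomial.C δ)
    (Polynomial.degree_X_pow 2) (by
      rw [Polynomial.degree_sub_eq_left_of_degree_lt]
      · rw [Polynomial.degree_C_mul_X_pow 2 hg]
        rfl
      · rw [Polynomial.degree_C_mul_X_pow 2 hg]
        exact lt_of_le_of_lt Polynomial.degree_C_le (by norm_num)) hodd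
  simp only [Polynomial.eval_pow, Polynomial.eval_X, Polynomial.eval_sub, Polynomial.eval_C,
    Polynomial.eval_mul] at hab
  exact ⟨a, b, by linear_combination hab⟩

end binary

section kprime

variable {F V : Type*} [Field F] [AddCommGroup V] [Module F V] (Q : QuadraticForm F V)
  {I : Type*} [Fintype I] [DecidableEq I] (e : Basis I F V) (σ : I → I)

/-- the coefficients of the blockwise square root -/
theorem exists_coeffs [Fintype F] (hodd : Fintype.card F % 2 = 1) (hne : ∀ i, Q (e i) ≠ 0)
    (hσ : ∀ i, σ (σ i) = i) (rep : I → Prop) [DecidablePred rep]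
    (hrep : ∀ i, rep (σ i) ↔ ¬ rep i) (δ : F) :
    ∃ α β : I → F, (∀ i, α (σ i) = -α i) ∧
      (∀ i, Q (e (σ i)) * β i = Q (e i) * β (σ i)) ∧ ∀ i, α i ^ 2 + β i * β (σ i) = δ := by
  have hex : ∀ i, ∃ st : F × F, st.1 ^ 2 + (Q (e (σ i)) / Q (e i)) * st.2 ^ 2 = δ := by
    intro i
    obtain ⟨s, t, hst⟩ := exists_binary_rep hodd (Q (e (σ i)) / Q (e i)) δ
      (div_ne_zero (hne _) (hne _))
    exact ⟨(s, t), hst⟩
  choose st hst using hex
  refine ⟨fun i => if rep i then (st i).1 else -(st (σ i)).1,
    fun i => if rep i then (st i).2 else (Q (e i) / Q (e (σ i))) * (st (σ i)).2, ?_, ?_, ?_⟩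
  · intro i
    by_cases hi : rep i
    · have hi' : ¬ rep (σ i) := fun h => ((hrep i).1 h) hi
      simp only [if_pos hi, if_neg hi', hσ]
    · have hi' : rep (σ i) := (hrep i).2 hi
      simp only [if_neg hi, if_pos hi', neg_neg]
  · intro i
    by_cases hi : rep i
    · have hi' : ¬ rep (σ i) := fun h => ((hrep i).1 h) hi
      simp only [if_pos hi, if_neg hi', hσ]
      have := hne i
      field_simp
    · have hi' : rep (σ i) := (hrep i).2 hi
      simp only [if_neg hi, if_pos hi']
      have := hne (σ i)
      field_simp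
  · intro i
    by_cases hi : rep i
    · have hi' : ¬ rep (σ i) := fun h => ((hrep i).1 h) hi
      simp only [if_pos hi, if_neg hi', hσ]
      rw [← hst i]
      ring
    · have hi' : rep (σ i) := (hrep i).2 hi
      simp only [if_neg hi, if_pos hi']
      rw [← hst (σ i), hσ]
      ring

/-- the blockwise linear map -/
noncomputable def kMap (α β : I → F) : V →ₗ[F] V :=
  e.constr F (fun i => α i • e i + β i • e (σ i))

theorem kMap_basis (α β : I → F) (i : I) : kMap e σ α β (e i) = α i • e i + β i • e (σ i) := by
  unfold kMap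
  rw [Basis.constr_basis]

theorem kMap_sq (hσ : ∀ i, σ (σ i) = i) (α β : I → F) (δ : F) (hα : ∀ i, α (σ i) = -α i)
    (hδ : ∀ i, α i ^ 2 + β i * β (σ i) = δ) (u : V) :
    kMap e σ α β (kMap e σ α β u) = δ • u := by
  have h : (kMap e σ α β) ∘ₗ (kMap e σ α β) = δ • LinearMap.id := by
    apply e.ext
    intro i
    rw [LinearMap.comp_apply, kMap_basis, map_add, map_smul, map_smul, kMap_basis, kMap_basis,
      hσ, hα, LinearMap.smul_apply, LinearMap.id_apply, ← hδ i]
    module
  have := LinearMap.congr_fun h u
  rwa [LinearMap.comp_apply, LinearMap.smul_apply, LinearMap.id_apply] at this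

theorem polar_basis (horth : ∀ i i', i ≠ i' → polar Q (e i) (e i') = 0) (i i' : I) :
    polar Q (e i) (e i') = if i = i' then 2 * Q (e i) else 0 := by
  by_cases h : i = i'
  · rw [if_pos h, ← h, polar_self]
    simp
  · rw [if_neg h, horth i i' h]

theorem kMap_selfAdj (horth : ∀ i i', i ≠ i' → polar Q (e i) (e i') = 0)
    (hσ : ∀ i, σ (σ i) = i) (α β : I → F)
    (hβ : ∀ i, Q (e (σ i)) * β i = Q (e i) * β (σ i)) (u u' : V) :
    polar Q (kMap e σ α β u) u' = polar Q u (kMap e σ α β u') := by
  have h : (polarBilin Q) ∘ₗ (kMap e σ α β) = (polarBilin Q).compl₂ (kMap e σ α β) := by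
    apply LinearMap.ext_basis e e
    intro i i'
    rw [LinearMap.comp_apply, LinearMap.compl₂_apply, polarBilin_apply_apply,
      polarBilin_apply_apply, kMap_basis, kMap_basis, polar_add_left, polar_add_right,
      polar_smul_left, polar_smul_left, polar_smul_right, polar_smul_right]
    simp only [polar_basis Q e horth, smul_eq_mul]
    by_cases h1 : i = i'
    · subst h1
      have hcomm : (i = σ i) ↔ (σ i = i) := eq_comm
      simp only [hcomm]
      by_cases h3 : σ i = i
      · rw [if_pos h3, if_pos h3, h3]
      · rw [if_neg h3, if_neg h3]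
    · rw [if_neg h1]
      by_cases h3 : σ i = i'
      · have h4 : i = σ i' := by rw [← h3, hσ]
        rw [if_pos h3, if_pos h4, ← h3]
        have := hβ i
        linear_combination 2 * this
      · have h4 : ¬ i = σ i' := by
          intro h
          apply h3
          rw [h, hσ]
        rw [if_neg h3, if_neg h4]
        ring
  have := LinearMap.congr_fun (LinearMap.congr_fun h u) u'
  rwa [LinearMap.comp_apply, LinearMap.compl₂_apply, polarBilin_apply_apply,
    polarBilin_apply_apply] at this

/-- maps which are diagonal on the basis, with equal entries on paired vectors, commute with the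
blockwise map -/
theorem kMap_comm (α β : I → F) (x : V →ₗ[F] V) (ε : I → F)
    (hx : ∀ i, x (e i) = ε i • e i) (hε : ∀ i, ε (σ i) = ε i) (u : V) :
    x (kMap e σ α β u) = kMap e σ α β (x u) := by
  have h : x ∘ₗ (kMap e σ α β) = (kMap e σ α β) ∘ₗ x := by
    apply e.ext
    intro i
    rw [LinearMap.comp_apply, LinearMap.comp_apply, kMap_basis, map_add, map_smul, map_smul, hx,
      hx, map_smul, kMap_basis, hε]
    module
  exact LinearMap.congr_fun h u

/-- maps which exchange paired vectors with opposite signs anticommute with the blockwise map -/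
theorem kMap_anticomm (hσ : ∀ i, σ (σ i) = i) (hne : ∀ i, Q (e i) ≠ 0) (α β : I → F)
    (hα : ∀ i, α (σ i) = -α i)
    (hβ : ∀ i, Q (e (σ i)) * β i = Q (e i) * β (σ i)) (x : V →ₗ[F] V) (η : I → F)
    (hx : ∀ i, x (e i) = η i • e (σ i)) (hη : ∀ i, η (σ i) = -η i)
    (ha : ∀ i, Q (e (σ i)) = Q (e i)) (u : V) :
    x (kMap e σ α β u) = -kMap e σ α β (x u) := by
  have hβ' : ∀ i, β (σ i) = β i := by
    intro i
    have := hβ i
    rw [ha i] at this
    exact (mul_left_cancel₀ (hne i) this).symm
  have h : x ∘ₗ (kMap e σ α β) = -((kMap e σ α β) ∘ₗ x) := by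
    apply e.ext
    intro i
    rw [LinearMap.neg_apply, LinearMap.comp_apply, LinearMap.comp_apply, kMap_basis, map_add,
      map_smul, map_smul, hx, hx, map_smul, kMap_basis, hσ, hη, hα, hβ']
    module
  have := LinearMap.congr_fun h u
  rwa [LinearMap.neg_apply, LinearMap.comp_apply, LinearMap.comp_apply] at this

end kprime

end Cfsg.Agent.Lib.Helper12.OrC3
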