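import Mathlib
import Cfsg.Agent.Lib.Helper12.OrC3N
import Cfsg.Agent.Lib.Helper15.QuadOrth
import Cfsg.Agent.Lib.Helper15.QuadClass
import Cfsg.Agent.Lib.Helper24.OrQ

/-! Helper12 library (OrC3, part O): orthogonal bases adapted to an isometry whose square is
`1` or `-1`, and self-adjoint square roots of a scalar which commute or anticommute with the
isometry. -/

set_option autoImplicit false
set_option linter.unusedSectionVars false
set_option linter.unusedVariables false
set_option linter.style.haveILetI false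

namespace Cfsg.Agent.Lib.Helper12.OrC3

open Module QuadraticMap Cfsg.Agent.Lib.Helper12.Elus Cfsg.Agent.Lib.Helper15

section flip

/-- the pairing `2k ↔ 2k+1` of `Fin N`, `N` even -/
def flipFin (N : ℕ) (hN : Even N) (i : Fin N) : Fin N :=
  ⟨if i.1 % 2 = 0 then i.1 + 1 else i.1 - 1, by
    obtain ⟨k, hk⟩ := hN
    have := i.2
    split_ifs <;> omega⟩

theorem flipFin_val (N : ℕ) (hN : Even N) (i : Fin N) :
    (flipFin N hN i).1 = if i.1 % 2 = 0 then i.1 + 1 else i.1 - 1 := rfl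

theorem flipFin_flipFin (N : ℕ) (hN : Even N) (i : Fin N) : flipFin N hN (flipFin N hN i) = i := by
  apply Fin.ext
  rw [flipFin_val, flipFin_val]
  split_ifs <;> omega

theorem flipFin_parity (N : ℕ) (hN : Even N) (i : Fin N) :
    (flipFin N hN i).1 % 2 = 0 ↔ ¬ i.1 % 2 = 0 := by
  rw [flipFin_val]
  split_ifs <;> omega

end flip

section sqneg

variable {F V : Type*} [Field F] [AddCommGroup V] [Module F V] [FiniteDimensional F V]
  (Q : QuadraticForm F V) (y : V →ₗ[F] V)

theorem polar_iso' (hiso : ∀ v, Q (y v) = Q v) (u v : V) : polar Q (y u) (y v) = polar Q u v := by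
  rw [QuadraticMap.polar, QuadraticMap.polar, ← map_add, hiso, hiso, hiso]

theorem polar_skew (hiso : ∀ v, Q (y v) = Q v) (hy : ∀ v, y (y v) = -v) (u v : V) :
    polar Q u (y v) = -polar Q (y u) v := by
  rw [← polar_iso' Q y hiso u (y v), hy, polar_neg_right]

theorem polar_self_skew (h2 : (2 : F) ≠ 0) (hiso : ∀ v, Q (y v) = Q v) (hy : ∀ v, y (y v) = -v)
    (u : V) : polar Q u (y u) = 0 := by
  have h1 := polar_skew Q y hiso hy u u
  rw [polar_comm Q (y u) u] at h1
  have h3 : (2 : F) * polar Q u (y u) = 0 := by linear_combination h1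
  exact (mul_eq_zero.1 h3).resolve_left h2

/-- a nondegenerate subspace which is not zero has a nonsingular vector -/
theorem exists_nonsing (h2 : (2 : F) ≠ 0) (W : Submodule F V) (hW : NdOn Q W) (hW0 : W ≠ ⊥) :
    ∃ v ∈ W, Q v ≠ 0 := by
  by_contra hcon
  push Not at hcon
  obtain ⟨w, hw, hw0⟩ := Submodule.exists_mem_ne_zero_of_ne_bot hW0
  apply hw0
  apply hW w hw
  intro w' hw'
  rw [QuadraticMap.polar, hcon _ (W.add_mem hw hw'), hcon w hw, hcon w' hw']
  ring

/-- families `v` such that the `v j` and the `y (v j)` are pairwise orthogonal -/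
theorem exists_sqneg_family (h2 : (2 : F) ≠ 0) (hiso : ∀ v, Q (y v) = Q v)
    (hy : ∀ v, y (y v) = -v) :
    ∀ (m : ℕ) (W : Submodule F V), NdOn Q W → (∀ u ∈ W, y u ∈ W) → finrank F W = 2 * m →
      ∃ v : Fin m → V, (∀ j, v j ∈ W) ∧ (∀ j, Q (v j) ≠ 0) ∧
        (∀ j j', j ≠ j' → polar Q (v j) (v j') = 0) ∧
        ∀ j j', j ≠ j' → polar Q (v j) (y (v j')) = 0 := by
  intro m
  induction m with
  | zero =>
    intro W _ _ _
    exact ⟨Fin.elim0, fun j => j.elim0, fun j => j.elim0, fun j => j.elim0, fun j => j.elim0⟩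
  | succ m ih =>
    intro W hW hWy hdim
    have hW0 : W ≠ ⊥ := by
      intro h
      rw [h, finrank_bot] at hdim
      omega
    obtain ⟨v₀, hv₀W, hv₀⟩ := exists_nonsing Q h2 W hW hW0
    have hxx : polar Q v₀ v₀ ≠ 0 := by
      rw [polar_self]
      simp only [nsmul_eq_mul, Nat.cast_ofNat]
      exact mul_ne_zero h2 hv₀
    have hW₁ := perpOne_nd Q W hW hv₀W hxx
    have hdim₁ := perpOne_finrank Q W hv₀W hxx
    have hyv₀ : y v₀ ∈ perpOne Q W v₀ := by
      rw [mem_perpOne]
      exact ⟨hWy v₀ hv₀W, polar_self_skew Q y h2 hiso hy v₀⟩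
    have hyy : polar Q (y v₀) (y v₀) ≠ 0 := by
      rw [polar_iso' Q y hiso]
      exact hxx
    have hW₂ := perpOne_nd Q (perpOne Q W v₀) hW₁ hyv₀ hyy
    have hdim₂ := perpOne_finrank Q (perpOne Q W v₀) hyv₀ hyy
    have hmem : ∀ u, u ∈ perpOne Q (perpOne Q W v₀) (y v₀) ↔
        u ∈ W ∧ polar Q v₀ u = 0 ∧ polar Q (y v₀) u = 0 := by
      intro u
      rw [mem_perpOne, mem_perpOne, and_assoc]
    have hinv : ∀ u ∈ perpOne Q (perpOne Q W v₀) (y v₀),
        y u ∈ perpOne Q (perpOne Q W v₀) (y v₀) := by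
      intro u hu
      rw [hmem] at hu ⊢
      obtain ⟨hu1, hu2, hu3⟩ := hu
      refine ⟨hWy u hu1, ?_, ?_⟩
      · rw [polar_skew Q y hiso hy, hu3, neg_zero]
      · rw [polar_iso' Q y hiso, hu2]
    obtain ⟨v', hv'W, hv'ne, hv'o, hv'y⟩ := ih _ hW₂ hinv (by omega)
    refine ⟨Fin.cons v₀ v', ?_, ?_, ?_, ?_⟩
    · intro j
      refine Fin.cases ?_ (fun j => ?_) j
      · rw [Fin.cons_zero]; exact hv₀W
      · rw [Fin.cons_succ]; exact ((hmem _).1 (hv'W j)).1
    · intro j
      refine Fin.cases ?_ (fun j => ?_) j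
      · rw [Fin.cons_zero]; exact hv₀
      · rw [Fin.cons_succ]; exact hv'ne j
    · intro j j'
      refine Fin.cases ?_ (fun j => ?_) j <;> refine Fin.cases ?_ (fun j' => ?_) j'
      · intro h; exact absurd rfl h
      · intro _
        rw [Fin.cons_zero, Fin.cons_succ]
        exact ((hmem _).1 (hv'W j')).2.1
      · intro _
        rw [Fin.cons_zero, Fin.cons_succ, polar_comm]
        exact ((hmem _).1 (hv'W j)).2.1
      · intro h
        rw [Fin.cons_succ, Fin.cons_succ]
        exact hv'o j j' (fun h' => h (by rw [h']))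
    · intro j j'
      refine Fin.cases ?_ (fun j => ?_) j <;> refine Fin.cases ?_ (fun j' => ?_) j'
      · intro h; exact absurd rfl h
      · intro _
        rw [Fin.cons_zero, Fin.cons_succ]
        exact ((hmem _).1 (hinv _ (hv'W j'))).2.1
      · intro _
        rw [Fin.cons_zero, Fin.cons_succ, polar_comm]
        exact ((hmem _).1 (hv'W j)).2.2
      · intro h
        rw [Fin.cons_succ, Fin.cons_succ]
        exact hv'y j j' (fun h' => h (by rw [h']))

/-- the adapted basis of an isometry with square `-1` -/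
theorem exists_sqneg_basis (h2 : (2 : F) ≠ 0) (hnd : (polarBilin Q).Nondegenerate)
    (hiso : ∀ v, Q (y v) = Q v) (hy : ∀ v, y (y v) = -v) (d : ℕ) (hdim : finrank F V = 2 * d) :
    ∃ e : Basis (Fin d ⊕ Fin d) F V, (∀ i i', i ≠ i' → polar Q (e i) (e i') = 0) ∧
      (∀ i, Q (e i) ≠ 0) ∧ (∀ j, y (e (Sum.inl j)) = e (Sum.inr j)) ∧
      (∀ j, y (e (Sum.inr j)) = -e (Sum.inl j)) := by
  obtain ⟨v, -, hvne, hvo, hvy⟩ := exists_sqneg_family Q y h2 hiso hy d ⊤ (ndOn_top Q hnd)
    (fun _ _ => Submodule.mem_top) (by rw [finrank_top, hdim])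
  obtain ⟨f, hf⟩ : ∃ f : Fin d ⊕ Fin d → V, f = Sum.elim v (fun j => y (v j)) := ⟨_, rfl⟩
  have hforth : ∀ i i', i ≠ i' → polar Q (f i) (f i') = 0 := by
    intro i i' hii
    rw [hf]
    rcases i with j | j <;> rcases i' with j' | j'
    · exact hvo j j' (fun h => hii (by rw [h]))
    · by_cases hjj : j = j'
      · rw [hjj]
        exact polar_self_skew Q y h2 hiso hy _
      · exact hvy j j' hjj
    · show polar Q (y (v j)) (v j') = 0
      rw [polar_comm]
      by_cases hjj : j' = j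
      · rw [hjj]
        exact polar_self_skew Q y h2 hiso hy _
      · exact hvy j' j hjj
    · show polar Q (y (v j)) (y (v j')) = 0
      rw [polar_iso' Q y hiso]
      exact hvo j j' (fun h => hii (by rw [h]))
  have hfne : ∀ i, Q (f i) ≠ 0 := by
    intro i
    rw [hf]
    rcases i with j | j
    · exact hvne j
    · show Q (y (v j)) ≠ 0
      rw [hiso]
      exact hvne j
  have hli := orth_linearIndependent h2 Q f hforth hfne
  have hcard : Fintype.card (Fin d ⊕ Fin d) = finrank F V := by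
    rw [Fintype.card_sum, Fintype.card_fin, hdim]
    ring
  obtain ⟨e, he⟩ : ∃ e : Basis (Fin d ⊕ Fin d) F V, ⇑e = f :=
    ⟨basisOfLinearIndependentOfCardEqFinrank' f hli hcard,
      coe_basisOfLinearIndependentOfCardEqFinrank' _ _ _⟩
  refine ⟨e, by rw [he]; exact hforth, by rw [he]; exact hfne, ?_, ?_⟩
  · intro j
    rw [he, hf]
    rfl
  · intro j
    rw [he, hf]
    show y (y (v j)) = -v j
    exact hy _

end sqneg

section invol

variable {F V : Type*} [Field F] [Fintype F] [AddCommGroup V] [Module F V]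
  [FiniteDimensional F V] (Q : QuadraticForm F V) (y : V →ₗ[F] V)

/-- the adapted basis of an involution -/
theorem exists_invol_basis (h2 : (2 : F) ≠ 0) (hnd : (polarBilin Q).Nondegenerate)
    (hiso : ∀ v, Q (y v) = Q v) (hy : y ^ 2 = 1) (np nm : ℕ)
    (hp : finrank F (fixE y) = np + 1) (hm : finrank F (movR y) = nm + 1) :
    ∃ e : Basis (Fin (np + 1) ⊕ Fin (nm + 1)) F V,
      (∀ i i', i ≠ i' → polar Q (e i) (e i') = 0) ∧
      (∀ i, Q (e i) ≠ 0) ∧ (∀ j, y (e (Sum.inl j)) = e (Sum.inl j)) ∧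
      (∀ j, y (e (Sum.inr j)) = -e (Sum.inr j)) := by
  have : Fact (Nat.Prime 2) := ⟨Nat.prime_two⟩
  have hr0 : ((2 : ℕ) : F) ≠ 0 := by exact_mod_cast h2
  have hnd' : ∀ u, (∀ z, polar Q u z = 0) → u = 0 :=
    fun u hu => hnd.1 u (fun z => by rw [polarBilin_apply_apply]; exact hu z)
  have hP := Cfsg.Agent.Lib.Helper24.Or.nd15_of_un Q _
    (Cfsg.Agent.Lib.Helper24.Or.ndOn_fix Q y 2 hnd' hiso hy hr0)
  have hM := Cfsg.Agent.Lib.Helper24.Or.nd15_of_un Q _
    (Cfsg.Agent.Lib.Helper24.Or.ndOn_mov Q y 2 hnd' hiso hy hr0)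
  obtain ⟨a, haW, hao, ha1, hal⟩ := orth_family h2 Q np (fixE y) hP hp
  obtain ⟨b, hbW, hbo, hb1, hbl⟩ := orth_family h2 Q nm (movR y) hM hm
  have hane : ∀ i, Q (a i) ≠ 0 := by
    intro i
    by_cases hi : i = Fin.last np
    · rw [hi]; exact hal
    · rw [ha1 i hi]; exact one_ne_zero
  have hbne : ∀ i, Q (b i) ≠ 0 := by
    intro i
    by_cases hi : i = Fin.last nm
    · rw [hi]; exact hbl
    · rw [hb1 i hi]; exact one_ne_zero
  obtain ⟨f, hf⟩ : ∃ f : Fin (np + 1) ⊕ Fin (nm + 1) → V, f = Sum.elim a b := ⟨_, rfl⟩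
  have hab : ∀ j j', polar Q (a j) (b j') = 0 := by
    intro j j'
    have := Cfsg.Agent.Lib.Helper12.Un.fix_orth_mov (Cfsg.Agent.Lib.Helper24.Or.pB Q) y
      (Cfsg.Agent.Lib.Helper24.Or.polar_iso Q y hiso) (a j) (b j') (haW j) (hbW j')
    rwa [Cfsg.Agent.Lib.Helper24.Or.pB, polarBilin_apply_apply] at this
  have hforth : ∀ i i', i ≠ i' → polar Q (f i) (f i') = 0 := by
    intro i i' hii
    rw [hf]
    rcases i with j | j <;> rcases i' with j' | j'
    · exact hao j j' (fun h => hii (by rw [h]))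
    · exact hab j j'
    · show polar Q (b j) (a j') = 0
      rw [polar_comm]
      exact hab j' j
    · exact hbo j j' (fun h => hii (by rw [h]))
  have hfne : ∀ i, Q (f i) ≠ 0 := by
    intro i
    rw [hf]
    rcases i with j | j
    · exact hane j
    · exact hbne j
  have hli := orth_linearIndependent h2 Q f hforth hfne
  have hsum := Cfsg.Agent.Lib.Helper24.Or.finrank_fix_add_mov' y 2 hy hr0
  have hcard : Fintype.card (Fin (np + 1) ⊕ Fin (nm + 1)) = finrank F V := by
    rw [Fintype.card_sum, Fintype.card_fin, Fintype.card_fin, ← hsum, hp, hm]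
  obtain ⟨e, he⟩ : ∃ e : Basis (Fin (np + 1) ⊕ Fin (nm + 1)) F V, ⇑e = f :=
    ⟨basisOfLinearIndependentOfCardEqFinrank' f hli hcard,
      coe_basisOfLinearIndependentOfCardEqFinrank' _ _ _⟩
  refine ⟨e, by rw [he]; exact hforth, by rw [he]; exact hfne, ?_, ?_⟩
  · intro j
    rw [he, hf]
    exact (mem_fixE y _).1 (haW j)
  · intro j
    rw [he, hf]
    exact Cfsg.Agent.Lib.Helper24.Or.mov_neg y hy _ (hbW j)

end invol

end Cfsg.Agent.Lib.Helper12.OrC3
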