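import Mathlib
import Cfsg.Agent.Lib.Helper12.OrC3O
import Cfsg.Agent.Lib.Helper25.CDBasic

/-! Helper12 library (OrC3, part P): for an isometry `y` with `y² = ±1` of a quadratic space over
a finite field of odd order, a self-adjoint square root of a prescribed scalar which commutes or
anticommutes with `y` and with the conjugate of `y` under a reflection. -/

set_option autoImplicit false
set_option linter.unusedSectionVars false
set_option linter.unusedVariables false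
set_option linter.style.haveILetI false

namespace Cfsg.Agent.Lib.Helper12.OrC3

open Module QuadraticMap Cfsg.Agent.Lib.Helper12.Elus Cfsg.Agent.Lib.Helper15
  Cfsg.Agent.Lib.Helper25.CD

section invol

variable {F V : Type*} [Field F] [Fintype F] [AddCommGroup V] [Module F V]
  [FiniteDimensional F V] (Q : QuadraticForm F V) (y : V →ₗ[F] V)

/-- involutions -/
theorem kprime_invol (hodd : Fintype.card F % 2 = 1) (h2 : (2 : F) ≠ 0)
    (hnd : (polarBilin Q).Nondegenerate)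
    (hiso : ∀ v, Q (y v) = Q v) (hy : y ^ 2 = 1) (np nm : ℕ)
    (hp : finrank F (fixE y) = np + 1) (hm : finrank F (movR y) = nm + 1)
    (hpe : Even (np + 1)) (hme : Even (nm + 1)) (δ : F) :
    ∃ k' : V →ₗ[F] V, (∀ u, k' (k' u) = δ • u) ∧
      (∀ u u', polar Q (k' u) u' = polar Q u (k' u')) ∧ (∀ u, y (k' u) = k' (y u)) ∧
      ∃ v₀, Q v₀ ≠ 0 ∧ y v₀ = v₀ := by
  classical
  obtain ⟨e, horth, hne, hfix, hmov⟩ := exists_invol_basis Q y h2 hnd hiso hy np nm hp hm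
  obtain ⟨σ, hσdef⟩ : ∃ σ : Fin (np + 1) ⊕ Fin (nm + 1) → Fin (np + 1) ⊕ Fin (nm + 1),
      σ = Sum.map (flipFin _ hpe) (flipFin _ hme) := ⟨_, rfl⟩
  have hσ : ∀ i, σ (σ i) = i := by
    intro i
    rw [hσdef]
    rcases i with j | j
    · simp only [Sum.map_inl, flipFin_flipFin]
    · simp only [Sum.map_inr, flipFin_flipFin]
  obtain ⟨par, hpar⟩ : ∃ par : Fin (np + 1) ⊕ Fin (nm + 1) → ℕ,
      par = Sum.elim (fun j => j.1 % 2) (fun j => j.1 % 2) := ⟨_, rfl⟩
  have hrep : ∀ i, par (σ i) = 0 ↔ ¬ par i = 0 := by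
    intro i
    rw [hσdef, hpar]
    rcases i with j | j
    · simp only [Sum.map_inl, Sum.elim_inl]
      exact flipFin_parity _ hpe j
    · simp only [Sum.map_inr, Sum.elim_inr]
      exact flipFin_parity _ hme j
  obtain ⟨α, β, hα, hβ, hδ⟩ := exists_coeffs Q e σ hodd hne hσ (fun i => par i = 0) hrep δ
  obtain ⟨ε, hε⟩ : ∃ ε : Fin (np + 1) ⊕ Fin (nm + 1) → F,
      ε = Sum.elim (fun _ => 1) (fun _ => -1) := ⟨_, rfl⟩
  refine ⟨kMap e σ α β, kMap_sq e σ hσ α β δ hα hδ, kMap_selfAdj Q e σ horth hσ α β hβ,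
    kMap_comm e σ α β y ε ?_ ?_, e (Sum.inl 0), hne _, hfix 0⟩
  · intro i
    rw [hε]
    rcases i with j | j
    · rw [Sum.elim_inl, one_smul]
      exact hfix j
    · rw [Sum.elim_inr, neg_smul, one_smul]
      exact hmov j
  · intro i
    rw [hε, hσdef]
    rcases i with j | j
    · simp only [Sum.map_inl, Sum.elim_inl]
    · simp only [Sum.map_inr, Sum.elim_inr]

end invol

section sqneg

variable {F V : Type*} [Field F] [Fintype F] [AddCommGroup V] [Module F V]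
  [FiniteDimensional F V] (Q : QuadraticForm F V) (y : V →ₗ[F] V)

/-- isometries with square `-1` -/
theorem kprime_sqneg (hodd : Fintype.card F % 2 = 1) (h2 : (2 : F) ≠ 0)
    (hnd : (polarBilin Q).Nondegenerate)
    (hiso : ∀ v, Q (y v) = Q v) (hy : ∀ v, y (y v) = -v) (d : ℕ) (hd : 1 ≤ d)
    (hdim : finrank F V = 2 * d) (δ : F) :
    ∃ k' : V →ₗ[F] V, (∀ u, k' (k' u) = δ • u) ∧
      (∀ u u', polar Q (k' u) u' = polar Q u (k' u')) ∧ (∀ u, y (k' u) = -k' (y u)) ∧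
      ∃ v₀, Q v₀ ≠ 0 ∧
        ∀ u, reflE Q v₀ (y (reflE Q v₀ (k' u))) = -k' (reflE Q v₀ (y (reflE Q v₀ u))) := by
  classical
  obtain ⟨e, horth, hne, hinl, hinr⟩ := exists_sqneg_basis Q y h2 hnd hiso hy d hdim
  obtain ⟨σ, hσdef⟩ : ∃ σ : Fin d ⊕ Fin d → Fin d ⊕ Fin d, σ = Sum.swap := ⟨_, rfl⟩
  have hσ : ∀ i, σ (σ i) = i := by
    intro i
    rw [hσdef, Sum.swap_swap]
  have hrep : ∀ i : Fin d ⊕ Fin d, (σ i).isLeft = true ↔ ¬ i.isLeft = true := by
    intro i
    rw [hσdef]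
    rcases i with j | j <;> simp
  obtain ⟨α, β, hα, hβ, hδ⟩ := exists_coeffs Q e σ hodd hne hσ (fun i => i.isLeft = true) hrep δ
  obtain ⟨η, hη⟩ : ∃ η : Fin d ⊕ Fin d → F, η = Sum.elim (fun _ => 1) (fun _ => -1) := ⟨_, rfl⟩
  have hyη : ∀ i, y (e i) = η i • e (σ i) := by
    intro i
    rw [hη, hσdef]
    rcases i with j | j
    · rw [Sum.elim_inl, one_smul, Sum.swap_inl]
      exact hinl j
    · rw [Sum.elim_inr, neg_smul, one_smul, Sum.swap_inr]
      exact hinr j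
  have hησ : ∀ i, η (σ i) = -η i := by
    intro i
    rw [hη, hσdef]
    rcases i with j | j
    · simp only [Sum.swap_inl, Sum.elim_inr, Sum.elim_inl]
    · simp only [Sum.swap_inr, Sum.elim_inr, Sum.elim_inl, neg_neg]
  have ha : ∀ i, Q (e (σ i)) = Q (e i) := by
    intro i
    rw [hσdef]
    rcases i with j | j
    · rw [Sum.swap_inl, ← hinl j, hiso]
    · rw [Sum.swap_inr]
      have := hinr j
      have h3 : e (Sum.inl j) = -y (e (Sum.inr j)) := by rw [this, neg_neg]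
      rw [h3, QuadraticMap.map_neg, hiso]
  obtain ⟨i₀, hi₀⟩ : ∃ i₀ : Fin d ⊕ Fin d, i₀ = Sum.inl ⟨0, hd⟩ := ⟨_, rfl⟩
  obtain ⟨γ, hγ⟩ : ∃ γ : Fin d ⊕ Fin d → F, γ = fun i => if i = i₀ then -1 else 1 := ⟨_, rfl⟩
  have hc : ∀ i, reflE Q (e i₀) (e i) = γ i • e i := by
    intro i
    rw [reflE_apply, hγ]
    by_cases hi : i = i₀
    · simp only [if_pos hi]
      rw [hi, polar_self]
      simp only [nsmul_eq_mul, Nat.cast_ofNat]
      have h3 : (Q (e i₀))⁻¹ * (2 * Q (e i₀)) = 2 := by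
        have := hne i₀
        field_simp
      rw [h3]
      module
    · simp only [if_neg hi]
      rw [horth i₀ i (Ne.symm hi), mul_zero, zero_smul, sub_zero, one_smul]
  have hγγ : ∀ i, γ i * γ i = 1 := by
    intro i
    rw [hγ]
    by_cases hi : i = i₀
    · simp only [if_pos hi]; ring
    · simp only [if_neg hi]; ring
  obtain ⟨yc, hyc⟩ : ∃ yc : V →ₗ[F] V,
      yc = ((reflE Q (e i₀) : V ≃ₗ[F] V) : V →ₗ[F] V) ∘ₗ y ∘ₗ
        ((reflE Q (e i₀) : V ≃ₗ[F] V) : V →ₗ[F] V) := ⟨_, rfl⟩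
  have hycapp : ∀ u, yc u = reflE Q (e i₀) (y (reflE Q (e i₀) u)) := by
    intro u
    rw [hyc]
    rfl
  have hycη : ∀ i, yc (e i) = (γ i * η i * γ (σ i)) • e (σ i) := by
    intro i
    rw [hycapp, hc, map_smul, hyη, map_smul, map_smul, hc, smul_smul, smul_smul]
  have hycσ : ∀ i, γ (σ i) * η (σ i) * γ (σ (σ i)) = -(γ i * η i * γ (σ i)) := by
    intro i
    rw [hσ, hησ]
    ring
  refine ⟨kMap e σ α β, kMap_sq e σ hσ α β δ hα hδ, kMap_selfAdj Q e σ horth hσ α β hβ,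
    kMap_anticomm Q e σ hσ hne α β hα hβ y η hyη hησ ha, e i₀, hne _, ?_⟩
  intro u
  have := kMap_anticomm Q e σ hσ hne α β hα hβ yc (fun i => γ i * η i * γ (σ i)) hycη hycσ ha u
  rw [hycapp, hycapp] at this
  exact this

end sqneg

end Cfsg.Agent.Lib.Helper12.OrC3
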