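import Mathlib
import Cfsg.Prelude.Def_GeometricClasses
import Cfsg.Agent.Lib.Helper12.OrC3A
import Cfsg.Agent.Lib.Helper12.OrC3M
import Cfsg.Agent.Lib.Helper12.C3SpK

/-! Helper12 library (OrC3, part Q): the quadratic algebra `F[X]/(X² - δ)` as a model of a
quadratic field subalgebra of the matrix algebra generated by a square root `k` of `δ`;
matrices commuting or anticommuting with `k` normalize the subalgebra. -/

set_option autoImplicit false
set_option linter.unusedSectionVars false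
set_option linter.unusedVariables false
set_option linter.style.haveILetI false

namespace Cfsg.Agent.Lib.Helper12.OrC3

open Module Matrix QuadraticMap Cfsg.Agent.Lib.Helper12.C3Sp Cfsg.Agent.Lib.Helper12.Elus

section model

universe u

variable {F : Type u} [Field F] {ι : Type} [Fintype ι] [DecidableEq ι]

theorem trace_omega (δ : F) :
    Algebra.trace F (QuadraticAlgebra F δ 0) (QuadraticAlgebra.omega) = 0 := by
  rw [Algebra.trace_eq_matrix_trace (QuadraticAlgebra.basis δ 0), Matrix.trace, Fin.sum_univ_two]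
  have h0 : (QuadraticAlgebra.basis δ (0 : F)) 0 = ⟨1, 0⟩ := by
    rw [QuadraticAlgebra.basis, Basis.coe_ofEquivFun]
    simp
  have h1 : (QuadraticAlgebra.basis δ (0 : F)) 1 = ⟨0, 1⟩ := by
    rw [QuadraticAlgebra.basis, Basis.coe_ofEquivFun]
    simp
  simp [Algebra.leftMulMatrix_eq_repr_mul, QuadraticAlgebra.basis_repr_apply, h0, h1]

/-- the representation of the quadratic algebra attached to a square root of `δ` -/
noncomputable def rhoOf (δ : F) (k : Matrix ι ι F) (hk : k * k = δ • (1 : Matrix ι ι F)) :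
    QuadraticAlgebra F δ 0 →ₐ[F] Matrix ι ι F :=
  QuadraticAlgebra.lift ⟨k, by rw [hk, zero_smul, add_zero]⟩

theorem rhoOf_apply (δ : F) (k : Matrix ι ι F) (hk : k * k = δ • (1 : Matrix ι ι F))
    (z : QuadraticAlgebra F δ 0) : rhoOf δ k hk z = z.re • (1 : Matrix ι ι F) + z.im • k := rfl

theorem rhoOf_omega (δ : F) (k : Matrix ι ι F) (hk : k * k = δ • (1 : Matrix ι ι F)) :
    rhoOf δ k hk QuadraticAlgebra.omega = k := by
  rw [rhoOf_apply, QuadraticAlgebra.omega_re, QuadraticAlgebra.omega_im, zero_smul, one_smul,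
    zero_add]

theorem rhoOf_range (δ : F) (k : Matrix ι ι F) (hk : k * k = δ • (1 : Matrix ι ι F))
    (K : Subalgebra F (Matrix ι ι F)) (hkK : k ∈ K)
    (hgen : ∀ a ∈ K, ∃ s t : F, a = s • (1 : Matrix ι ι F) + t • k) :
    (rhoOf δ k hk).range = K := by
  ext a
  constructor
  · rintro ⟨z, rfl⟩
    show rhoOf δ k hk z ∈ K
    rw [rhoOf_apply]
    exact K.add_mem (K.smul_mem K.one_mem _) (K.smul_mem hkK _)
  · intro ha
    obtain ⟨s, t, rfl⟩ := hgen a ha
    exact ⟨⟨s, t⟩, rfl⟩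

/-- the range is self-adjoint when `k` is -/
theorem rhoOf_selfAdj (δ : F) (k : Matrix ι ι F) (hk : k * k = δ • (1 : Matrix ι ι F))
    (Qs : QuadraticForm F (ι → F))
    (hsa : ∀ u v : ι → F, polar Qs (k *ᵥ u) v = polar Qs u (k *ᵥ v)) :
    Cfsg.Geo.IsSelfAdjointFor (polar Qs) (rhoOf δ k hk).range := by
  rintro _ ⟨z, rfl⟩ u v
  show polar Qs (rhoOf δ k hk z *ᵥ u) v = polar Qs u (rhoOf δ k hk z *ᵥ v)
  rw [rhoOf_apply, Matrix.add_mulVec, Matrix.add_mulVec, Matrix.smul_mulVec, Matrix.smul_mulVec,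
    Matrix.smul_mulVec, Matrix.smul_mulVec, Matrix.one_mulVec, Matrix.one_mulVec, polar_add_left,
    polar_add_right, polar_smul_left, polar_smul_left, polar_smul_right, polar_smul_right, hsa]

/-- conjugation of the quadratic algebra -/
def conjQ (δ : F) : QuadraticAlgebra F δ 0 ≃ QuadraticAlgebra F δ 0 where
  toFun z := ⟨z.re, -z.im⟩
  invFun z := ⟨z.re, -z.im⟩
  left_inv z := by
    rcases z with ⟨a, b⟩
    show (⟨a, - -b⟩ : QuadraticAlgebra F δ 0) = ⟨a, b⟩
    rw [neg_neg]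
  right_inv z := by
    rcases z with ⟨a, b⟩
    show (⟨a, - -b⟩ : QuadraticAlgebra F δ 0) = ⟨a, b⟩
    rw [neg_neg]

/-- matrices commuting with `k` normalize the field -/
theorem mem_normalizer_of_comm (δ : F) [Fact (∀ r : F, r ^ 2 ≠ δ + 0 * r)] (k : Matrix ι ι F)
    (hk : k * k = δ • (1 : Matrix ι ι F)) (Y : GL ι F) (h : (Y : Matrix ι ι F) * k = k * (Y : Matrix ι ι F)) :
    Y ∈ Cfsg.Geo.subalgebraNormalizer (rhoOf δ k hk).range := by
  apply mem_normalizer_of_twist (rhoOf δ k hk) Y (Equiv.refl _)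
  intro z
  rw [Equiv.refl_apply, rhoOf_apply, mul_add, add_mul, Matrix.mul_smul, Matrix.mul_smul,
    Matrix.smul_mul, Matrix.smul_mul, mul_one, one_mul, h]

/-- matrices anticommuting with `k` normalize the field -/
theorem mem_normalizer_of_anticomm (δ : F) [Fact (∀ r : F, r ^ 2 ≠ δ + 0 * r)]
    (k : Matrix ι ι F)
    (hk : k * k = δ • (1 : Matrix ι ι F))
    (Y : GL ι F) (h : (Y : Matrix ι ι F) * k = -(k * (Y : Matrix ι ι F))) :
    Y ∈ Cfsg.Geo.subalgebraNormalizer (rhoOf δ k hk).range := by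
  apply mem_normalizer_of_twist (rhoOf δ k hk) Y (conjQ δ)
  intro z
  rw [rhoOf_apply, rhoOf_apply, mul_add, add_mul, Matrix.mul_smul, Matrix.mul_smul,
    Matrix.smul_mul, Matrix.smul_mul, mul_one, one_mul, h]
  show _ = z.re • (Y : Matrix ι ι F) + (-z.im) • (k * (Y : Matrix ι ι F))
  rw [neg_smul, smul_neg]

/-- transport of a commutation relation along an intertwiner -/
theorem twist_conj (k k' : Matrix ι ι F) (ε : F) (X G : GL ι F)
    (hG : (G : Matrix ι ι F) * k = k' * (G : Matrix ι ι F))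
    (hX : (X : Matrix ι ι F) * k' = ε • (k' * (X : Matrix ι ι F))) :
    ((G⁻¹ * X * G : GL ι F) : Matrix ι ι F) * k =
      ε • (k * ((G⁻¹ * X * G : GL ι F) : Matrix ι ι F)) := by
  have hG' : ((G⁻¹ : GL ι F) : Matrix ι ι F) * k' = k * ((G⁻¹ : GL ι F) : Matrix ι ι F) := by
    calc ((G⁻¹ : GL ι F) : Matrix ι ι F) * k'
        = ((G⁻¹ : GL ι F) : Matrix ι ι F) * k' * ((G : Matrix ι ι F) *
            ((G⁻¹ : GL ι F) : Matrix ι ι F)) := by rw [gl_mul_inv, mul_one]
      _ = ((G⁻¹ : GL ι F) : Matrix ι ι F) * (k' * (G : Matrix ι ι F)) *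
            ((G⁻¹ : GL ι F) : Matrix ι ι F) := by simp only [mul_assoc]
      _ = ((G⁻¹ : GL ι F) : Matrix ι ι F) * ((G : Matrix ι ι F) * k) *
            ((G⁻¹ : GL ι F) : Matrix ι ι F) := by rw [hG]
      _ = (((G⁻¹ : GL ι F) : Matrix ι ι F) * (G : Matrix ι ι F)) * k *
            ((G⁻¹ : GL ι F) : Matrix ι ι F) := by simp only [mul_assoc]
      _ = k * ((G⁻¹ : GL ι F) : Matrix ι ι F) := by rw [gl_inv_mul, one_mul]
  rw [Units.val_mul, Units.val_mul]
  calc ((G⁻¹ : GL ι F) : Matrix ι ι F) * (X : Matrix ι ι F) * (G : Matrix ι ι F) * k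
      = ((G⁻¹ : GL ι F) : Matrix ι ι F) * (X : Matrix ι ι F) * ((G : Matrix ι ι F) * k) := by
        simp only [mul_assoc]
    _ = ((G⁻¹ : GL ι F) : Matrix ι ι F) * ((X : Matrix ι ι F) * k') * (G : Matrix ι ι F) := by
        rw [hG]; simp only [mul_assoc]
    _ = ε • ((((G⁻¹ : GL ι F) : Matrix ι ι F) * k') * (X : Matrix ι ι F) * (G : Matrix ι ι F)) := by
        rw [hX, Matrix.mul_smul, Matrix.smul_mul]; simp only [mul_assoc]
    _ = ε • (k * (((G⁻¹ : GL ι F) : Matrix ι ι F) * (X : Matrix ι ι F) * (G : Matrix ι ι F))) := by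
        rw [hG']; simp only [mul_assoc]

end model

end Cfsg.Agent.Lib.Helper12.OrC3
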