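import Mathlib
import Cfsg.Prelude.Def_GeometricClasses
import Cfsg.Agent.Lib.Helper12.OrC3Q
import Cfsg.Agent.Lib.Helper25.SpinIndex

/-! Helper12 library (OrC3, part R): moving a conjugating isometry into `Ω`, using a reflection
and a product of two reflections of nonsquare spinor norm. -/

set_option autoImplicit false
set_option linter.unusedSectionVars false
set_option linter.unusedVariables false
set_option linter.style.haveILetI false

namespace Cfsg.Agent.Lib.Helper12.OrC3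

open Module Matrix QuadraticMap Cfsg.Agent.Lib.Helper12.C3Sp Cfsg.Agent.Lib.Helper12.Elus
  Cfsg.Agent.Lib.Helper25.Spin Cfsg.Agent.Lib.Helper25.CD

section adjust

variable {F : Type*} [Field F] [Fintype F] {ι : Type} [Fintype ι] [DecidableEq ι]
  (Qs : QuadraticForm F (ι → F))

theorem mem_omegaGL_of_mem (g : ↥(Cfsg.isometryGroup F ⇑Qs)) (hg : g ∈ Cfsg.Omega F ⇑Qs) :
    (g : GL ι F) ∈ Cfsg.Geo.omegaGL ⇑Qs :=
  Subgroup.mem_map.2 ⟨g, hg, rfl⟩

/-- an isometry of even word length can be moved into `Ω` by a product of two reflections of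
nonsquare norm -/
theorem exists_even_adjust (h2 : (2 : F) ≠ 0) (hnd : (polarBilin Qs).Nondegenerate)
    (Nsub : Subgroup (GL ι F)) (x : GL ι F) (vs : List (ι → F)) (hvs : ∀ v ∈ vs, Qs v ≠ 0)
    (hev : Even vs.length)
    (u₁ u₂ : ι → F) (hu₁ : Qs u₁ ≠ 0) (hu₂ : Qs u₂ ≠ 0) (hns : ¬ IsSquare (Qs u₁ * Qs u₂))
    (hn : ((wordG Qs [u₁, u₂] : ↥(Cfsg.isometryGroup F ⇑Qs)) : GL ι F) ∈ Nsub)
    (h1 : ((wordG Qs vs : ↥(Cfsg.isometryGroup F ⇑Qs)) : GL ι F)⁻¹ * x *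
      ((wordG Qs vs : ↥(Cfsg.isometryGroup F ⇑Qs)) : GL ι F) ∈ Nsub) :
    ∃ g ∈ Cfsg.Geo.omegaGL ⇑Qs, g⁻¹ * x * g ∈ Nsub := by
  by_cases hsq : IsSquare (normProd Qs vs)
  · exact ⟨_, mem_omegaGL_of_mem Qs _ ((mem_omega_iff Qs h2 hnd hvs).2 ⟨hev, hsq⟩), h1⟩
  · have hvs' : ∀ v ∈ vs ++ [u₁, u₂], Qs v ≠ 0 := by
      intro v hv
      rcases List.mem_append.1 hv with h | h
      · exact hvs v h
      · simp only [List.mem_cons, List.not_mem_nil, or_false] at h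
        rcases h with rfl | rfl
        · exact hu₁
        · exact hu₂
    have hlen : Even (vs ++ [u₁, u₂]).length := by
      rw [List.length_append]
      exact hev.add ⟨1, rfl⟩
    have e : normProd Qs [u₁, u₂] = Qs u₁ * Qs u₂ := by
      rw [normProd_cons, normProd_cons, normProd_nil, mul_one]
    have hsq' : IsSquare (normProd Qs (vs ++ [u₁, u₂])) := by
      rw [normProd_append, e, isSquare_mul_iff (normProd_ne_zero Qs hvs) (mul_ne_zero hu₁ hu₂)]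
      exact ⟨fun h => absurd h hsq, fun h => absurd h hns⟩
    refine ⟨_, mem_omegaGL_of_mem Qs _ ((mem_omega_iff Qs h2 hnd hvs').2 ⟨hlen, hsq'⟩), ?_⟩
    rw [wordG_append, Subgroup.coe_mul]
    have e2 : (((wordG Qs vs : ↥(Cfsg.isometryGroup F ⇑Qs)) : GL ι F) *
        ((wordG Qs [u₁, u₂] : ↥(Cfsg.isometryGroup F ⇑Qs)) : GL ι F))⁻¹ * x *
        (((wordG Qs vs : ↥(Cfsg.isometryGroup F ⇑Qs)) : GL ι F) *
        ((wordG Qs [u₁, u₂] : ↥(Cfsg.isometryGroup F ⇑Qs)) : GL ι F)) =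
        ((wordG Qs [u₁, u₂] : ↥(Cfsg.isometryGroup F ⇑Qs)) : GL ι F)⁻¹ *
        (((wordG Qs vs : ↥(Cfsg.isometryGroup F ⇑Qs)) : GL ι F)⁻¹ * x *
          ((wordG Qs vs : ↥(Cfsg.isometryGroup F ⇑Qs)) : GL ι F)) *
        ((wordG Qs [u₁, u₂] : ↥(Cfsg.isometryGroup F ⇑Qs)) : GL ι F) := by
      rw [_root_.mul_inv_rev]
      simp only [mul_assoc]
    rw [e2]
    exact Nsub.mul_mem (Nsub.mul_mem (Nsub.inv_mem hn) h1) hn

/-- moving a conjugating isometry into `Ω` -/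
theorem exists_adjust (h2 : (2 : F) ≠ 0) (hnd : (polarBilin Qs).Nondegenerate)
    (Nsub : Subgroup (GL ι F)) (x : GL ι F) (h : ↥(Cfsg.isometryGroup F ⇑Qs))
    (v₀ : ι → F) (hv₀ : Qs v₀ ≠ 0)
    (u₁ u₂ : ι → F) (hu₁ : Qs u₁ ≠ 0) (hu₂ : Qs u₂ ≠ 0) (hns : ¬ IsSquare (Qs u₁ * Qs u₂))
    (hn : ((wordG Qs [u₁, u₂] : ↥(Cfsg.isometryGroup F ⇑Qs)) : GL ι F) ∈ Nsub)
    (h1 : (h : GL ι F)⁻¹ * x * (h : GL ι F) ∈ Nsub)
    (h1' : ((reflM Qs v₀ * h : ↥(Cfsg.isometryGroup F ⇑Qs)) : GL ι F)⁻¹ * x *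
      ((reflM Qs v₀ * h : ↥(Cfsg.isometryGroup F ⇑Qs)) : GL ι F) ∈ Nsub) :
    ∃ g ∈ Cfsg.Geo.omegaGL ⇑Qs, g⁻¹ * x * g ∈ Nsub := by
  obtain ⟨vs, hvs, rfl⟩ := exists_word Qs h2 hnd h
  rcases Nat.even_or_odd vs.length with hev | hoddl
  · exact exists_even_adjust Qs h2 hnd Nsub x vs hvs hev u₁ u₂ hu₁ hu₂ hns hn h1
  · have hvs' : ∀ v ∈ v₀ :: vs, Qs v ≠ 0 := by
      intro v hv
      rcases List.mem_cons.1 hv with rfl | h
      · exact hv₀
      · exact hvs v h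
    have hev : Even (v₀ :: vs).length := by
      rw [List.length_cons]
      exact hoddl.add_one
    rw [← wordG_cons] at h1'
    exact exists_even_adjust Qs h2 hnd Nsub x (v₀ :: vs) hvs' hev u₁ u₂ hu₁ hu₂ hns hn h1'

end adjust

section nelt

variable {F : Type*} [Field F] [Fintype F] {ι : Type} [Fintype ι] [DecidableEq ι]
  (Qs : QuadraticForm F (ι → F))

/-- the product of the reflections in `w` and `k w` commutes with `k` -/
theorem pair_comm (h2 : (2 : F) ≠ 0) (δ : F) (hδ : δ ≠ 0) (k : Matrix ι ι F)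
    (hk : k * k = δ • (1 : Matrix ι ι F))
    (hsa : ∀ u v : ι → F, polar Qs (k *ᵥ u) v = polar Qs u (k *ᵥ v))
    (w : ι → F) (hw : Qs w ≠ 0) (hperp : polar Qs w (k *ᵥ w) = 0) :
    Qs (k *ᵥ w) = δ * Qs w ∧
    (((wordG Qs [w, k *ᵥ w] : ↥(Cfsg.isometryGroup F ⇑Qs)) : GL ι F) : Matrix ι ι F) * k =
      k * (((wordG Qs [w, k *ᵥ w] : ↥(Cfsg.isometryGroup F ⇑Qs)) : GL ι F) : Matrix ι ι F) := by
  have hkk : ∀ u : ι → F, k *ᵥ (k *ᵥ u) = δ • u := by
    intro u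
    rw [Matrix.mulVec_mulVec, hk, Matrix.smul_mulVec, Matrix.one_mulVec]
  have hQk : Qs (k *ᵥ w) = δ * Qs w := by
    have h3 : polar Qs (k *ᵥ w) (k *ᵥ w) = δ * polar Qs w w := by
      rw [hsa, hkk, polar_smul_right, smul_eq_mul]
    rw [polar_self, polar_self] at h3
    simp only [nsmul_eq_mul, Nat.cast_ofNat] at h3
    have h4 : (2 : F) * Qs (k *ᵥ w) = 2 * (δ * Qs w) := by linear_combination h3
    exact mul_left_cancel₀ h2 h4
  refine ⟨hQk, ?_⟩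
  apply matrix_eq_of_mulVec
  intro u
  rw [wordG_coe]
  simp only [List.map_cons, List.map_nil, List.prod_cons, List.prod_nil, mul_one]
  rw [← Matrix.mulVec_mulVec, ← Matrix.mulVec_mulVec, ← Matrix.mulVec_mulVec,
    ← Matrix.mulVec_mulVec, reflectionMatrix_mulVec, reflectionMatrix_mulVec,
    reflectionMatrix_mulVec, reflectionMatrix_mulVec, reflE_apply, reflE_apply, reflE_apply,
    reflE_apply]
  have hperp' : polar Qs (k *ᵥ w) w = 0 := by rw [polar_comm]; exact hperp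
  have e1 : polar Qs (k *ᵥ w) (k *ᵥ u) = δ * polar Qs w u := by
    rw [hsa, hkk, polar_smul_right, smul_eq_mul]
  have e2 : polar Qs w (k *ᵥ u) = polar Qs (k *ᵥ w) u := (hsa w u).symm
  simp only [polar_sub_right, polar_smul_right, hperp, smul_eq_mul, mul_zero, sub_zero,
    Matrix.mulVec_sub, Matrix.mulVec_smul, hkk, e1, e2, hQk]
  have hδw : δ * Qs w ≠ 0 := mul_ne_zero hδ hw
  match_scalars <;> field_simp

end nelt

end Cfsg.Agent.Lib.Helper12.OrC3
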