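import Mathlib
import Cfsg.Prelude.Def_GeometricClasses
import Cfsg.Agent.Lib.Helper12.OrC3P
import Cfsg.Agent.Lib.Helper12.OrC3R
import Cfsg.Agent.Lib.Helper24.OrQ

/-! Helper12 library (OrC3, part S): the backward direction: every element of `Ω` whose square is
a scalar is conjugate under `Ω` to an element of the normalizer of a given self-adjoint quadratic
field subalgebra. -/

set_option autoImplicit false
set_option linter.unusedSectionVars false
set_option linter.unusedVariables false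
set_option linter.style.haveILetI false

namespace Cfsg.Agent.Lib.Helper12.OrC3

open Module Matrix QuadraticMap Cfsg.Agent.Lib.Helper12.C3Sp Cfsg.Agent.Lib.Helper12.Elus
  Cfsg.Agent.Lib.Helper25.Spin Cfsg.Agent.Lib.Helper25.CD

section nelt

universe u

variable {F : Type u} [Field F] [Fintype F] {ι : Type} [Fintype ι] [DecidableEq ι]
  (Qs : QuadraticForm F (ι → F))

/-- a nonsingular vector `w` orthogonal to `k w` -/
theorem exists_perp_vec (h2 : (2 : F) ≠ 0) (hnd : (polarBilin Qs).Nondegenerate)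
    (δ : F) [Fact (∀ r : F, r ^ 2 ≠ δ + 0 * r)] (k : Matrix ι ι F)
    (hk : k * k = δ • (1 : Matrix ι ι F))
    (hKf : Cfsg.Geo.IsSelfAdjointFor (polar Qs) (rhoOf δ k hk).range)
    (n : ℕ) (hn : 1 ≤ n) (hι : Fintype.card ι = 2 * (n + 1)) :
    ∃ w : ι → F, Qs w ≠ 0 ∧ polar Qs w (k *ᵥ w) = 0 := by
  haveI : Finite (QuadraticAlgebra F δ 0) := Module.finite_of_finite F
  letI : Fintype (QuadraticAlgebra F δ 0) := Fintype.ofFinite _
  have hE2 : finrank F (QuadraticAlgebra F δ 0) = 2 := QuadraticAlgebra.finrank_eq_two δ 0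
  letI := modOf (rhoOf δ k hk)
  haveI := isScalarTower (rhoOf δ k hk)
  haveI : FiniteDimensional (QuadraticAlgebra F δ 0) (ι → F) :=
    Module.Finite.of_restrictScalars_finite F (QuadraticAlgebra F δ 0) (ι → F)
  have hsa := selfAdj_of (rhoOf δ k hk) Qs hKf
  have hdim : finrank (QuadraticAlgebra F δ 0) (ι → F) = n + 1 :=
    finrank_E_of_card (rhoOf δ k hk) hE2 (n + 1) hι
  have hndE := QE_nd h2 hsa hnd
  obtain ⟨w, -, hw⟩ := Cfsg.Agent.Lib.Helper15.exists_represents_one (QE hsa) ⊤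
    (Cfsg.Agent.Lib.Helper15.ndOn_top (QE hsa) hndE) (by rw [finrank_top, hdim]; omega)
  have htr1 : Algebra.trace F (QuadraticAlgebra F δ 0) 1 = 2 := by
    have := Algebra.trace_algebraMap (S := QuadraticAlgebra F δ 0) (1 : F)
    rw [map_one, hE2] at this
    rw [this]
    simp
  refine ⟨w, ?_, ?_⟩
  · rw [← trace_QE h2 hsa, hw, htr1]
    exact h2
  · have h3 := trace_mul_QE h2 hsa (QuadraticAlgebra.omega) w
    rw [hw, mul_one, trace_omega, smul_def, rhoOf_omega] at h3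
    rw [polar_comm]
    have h4 : (2 : F)⁻¹ ≠ 0 := inv_ne_zero h2
    exact (mul_eq_zero.1 h3.symm).resolve_left h4

end nelt

section bwd

universe u

variable {F : Type u} [Field F] [Fintype F] {ι : Type} [Fintype ι] [DecidableEq ι]
  (Qs : QuadraticForm F (ι → F))

/-- the common part: from a self-adjoint square root of `δ` twisted by `x` and by a conjugate of
`x` under a reflection to an `Ω`-conjugate of `x` in the normalizer -/
theorem bwd_of_kprime (h2 : (2 : F) ≠ 0) (hnd : (polarBilin Qs).Nondegenerate)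
    (δ : F) [Fact (∀ r : F, r ^ 2 ≠ δ + 0 * r)] (k : Matrix ι ι F)
    (hk : k * k = δ • (1 : Matrix ι ι F))
    (hKf : Cfsg.Geo.IsSelfAdjointFor (polar Qs) (rhoOf δ k hk).range)
    (n : ℕ) (hn : 1 ≤ n) (hι : Fintype.card ι = 2 * (n + 1))
    (x : GL ι F) (hxO : x ∈ Cfsg.isometryGroup F ⇑Qs)
    (k' : (ι → F) →ₗ[F] (ι → F)) (hsq : ∀ u, k' (k' u) = δ • u)
    (hsa : ∀ u u', polar Qs (k' u) u' = polar Qs u (k' u'))
    (ε : F) (hε : ε = 1 ∨ ε = -1)
    (hx : ∀ u, (x : Matrix ι ι F) *ᵥ (k' u) = ε • k' ((x : Matrix ι ι F) *ᵥ u))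
    (v₀ : ι → F) (hv₀ : Qs v₀ ≠ 0)
    (hxc : ∀ u, reflE Qs v₀ ((x : Matrix ι ι F) *ᵥ (reflE Qs v₀ (k' u))) =
      ε • k' (reflE Qs v₀ ((x : Matrix ι ι F) *ᵥ (reflE Qs v₀ u)))) :
    ∃ g ∈ Cfsg.Geo.omegaGL ⇑Qs,
      g⁻¹ * x * g ∈ Cfsg.Geo.subalgebraNormalizer (rhoOf δ k hk).range := by
  haveI : Finite (QuadraticAlgebra F δ 0) := Module.finite_of_finite F
  letI : Fintype (QuadraticAlgebra F δ 0) := Fintype.ofFinite _
  have hE2 : finrank F (QuadraticAlgebra F δ 0) = 2 := QuadraticAlgebra.finrank_eq_two δ 0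
  have hδ0 : δ ≠ 0 := by
    intro h0
    have := (Fact.out : ∀ r : F, r ^ 2 ≠ δ + 0 * r) 0
    apply this
    rw [h0]
    ring
  have hδns : ¬ IsSquare δ := by
    rintro ⟨r, hr⟩
    have := (Fact.out : ∀ r : F, r ^ 2 ≠ δ + 0 * r) r
    apply this
    rw [hr]
    ring
  -- the matrix of `k'`
  obtain ⟨kM, hkM⟩ : ∃ kM : Matrix ι ι F, kM = LinearMap.toMatrix' k' := ⟨_, rfl⟩
  have hkMv : ∀ u, kM *ᵥ u = k' u := by
    intro u
    rw [hkM, ← Matrix.toLin'_apply, Matrix.toLin'_toMatrix']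
  have hkMsq : kM * kM = δ • (1 : Matrix ι ι F) := by
    apply matrix_eq_of_mulVec
    intro u
    rw [← Matrix.mulVec_mulVec, hkMv, hkMv, hsq, Matrix.smul_mulVec, Matrix.one_mulVec]
  have hKf' : Cfsg.Geo.IsSelfAdjointFor (polar Qs) (rhoOf δ kM hkMsq).range := by
    apply rhoOf_selfAdj
    intro u v
    rw [hkMv, hkMv]
    exact hsa u v
  -- the conjugating isometry
  obtain ⟨g, hgiso, hgint⟩ := exists_conj (rhoOf δ k hk) Qs (rhoOf δ kM hkMsq) h2 hnd hKf hKf'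
    hE2 n hι
  obtain ⟨G, hG⟩ : ∃ G : GL ι F, G = glLin.symm g := ⟨_, rfl⟩
  have hGv : ∀ v, (G : Matrix ι ι F) *ᵥ v = g v := by
    intro v
    rw [hG, ← glLin_apply, MulEquiv.apply_symm_apply]
  have hGO : G ∈ Cfsg.isometryGroup F ⇑Qs := by
    rw [Cfsg.Agent.Lib.Helper14.mem_isometryGroup_iff]
    intro u
    rw [hGv]
    exact hgiso u
  have hGk : (G : Matrix ι ι F) * k = kM * (G : Matrix ι ι F) := by
    apply matrix_eq_of_mulVec
    intro v
    rw [← Matrix.mulVec_mulVec, ← Matrix.mulVec_mulVec, hGv, hGv]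
    have := hgint QuadraticAlgebra.omega v
    rwa [rhoOf_omega, rhoOf_omega] at this
  -- membership in the normalizer from a twisted commutation relation
  have hmem : ∀ Y : GL ι F, (Y : Matrix ι ι F) * k = ε • (k * (Y : Matrix ι ι F)) →
      Y ∈ Cfsg.Geo.subalgebraNormalizer (rhoOf δ k hk).range := by
    intro Y hY
    rcases hε with rfl | rfl
    · rw [one_smul] at hY
      exact mem_normalizer_of_comm δ k hk Y hY
    · rw [neg_smul, one_smul] at hY
      exact mem_normalizer_of_anticomm δ k hk Y hY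
  have hX : (x : Matrix ι ι F) * kM = ε • (kM * (x : Matrix ι ι F)) := by
    apply matrix_eq_of_mulVec
    intro u
    rw [← Matrix.mulVec_mulVec, Matrix.smul_mulVec, ← Matrix.mulVec_mulVec, hkMv, hkMv]
    exact hx u
  have h1 : G⁻¹ * x * G ∈ Cfsg.Geo.subalgebraNormalizer (rhoOf δ k hk).range :=
    hmem _ (twist_conj k kM ε x G hGk hX)
  -- the reflection
  obtain ⟨c, hc⟩ : ∃ c : ↥(Cfsg.isometryGroup F ⇑Qs), c = reflM Qs v₀ := ⟨_, rfl⟩
  have hcv : ∀ u, ((c : GL ι F) : Matrix ι ι F) *ᵥ u = reflE Qs v₀ u := by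
    intro u
    rw [hc, reflM_coe, reflectionMatrix_mulVec]
  have hcinv : c⁻¹ = c := by
    rw [hc]
    exact inv_eq_of_mul_eq_one_left (reflM_mul_self Qs v₀)
  have hXc : (((c : GL ι F)⁻¹ * x * (c : GL ι F) : GL ι F) : Matrix ι ι F) * kM =
      ε • (kM * (((c : GL ι F)⁻¹ * x * (c : GL ι F) : GL ι F) : Matrix ι ι F)) := by
    have hci : (c : GL ι F)⁻¹ = (c : GL ι F) := by
      rw [← Subgroup.coe_inv, hcinv]
    rw [hci]
    apply matrix_eq_of_mulVec
    intro u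
    rw [Units.val_mul, Units.val_mul, Matrix.smul_mulVec]
    simp only [← Matrix.mulVec_mulVec]
    rw [hkMv, hkMv, hcv, hcv, hcv, hcv]
    exact hxc u
  have h1' : ((c * ⟨G, hGO⟩ : ↥(Cfsg.isometryGroup F ⇑Qs)) : GL ι F)⁻¹ * x *
      ((c * ⟨G, hGO⟩ : ↥(Cfsg.isometryGroup F ⇑Qs)) : GL ι F) ∈
      Cfsg.Geo.subalgebraNormalizer (rhoOf δ k hk).range := by
    have e : ((c * ⟨G, hGO⟩ : ↥(Cfsg.isometryGroup F ⇑Qs)) : GL ι F)⁻¹ * x *
        ((c * ⟨G, hGO⟩ : ↥(Cfsg.isometryGroup F ⇑Qs)) : GL ι F) =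
        G⁻¹ * ((c : GL ι F)⁻¹ * x * (c : GL ι F)) * G := by
      rw [Subgroup.coe_mul]
      show ((c : GL ι F) * G)⁻¹ * x * ((c : GL ι F) * G) = _
      rw [_root_.mul_inv_rev]
      simp only [mul_assoc]
    rw [e]
    exact hmem _ (twist_conj k kM ε _ G hGk hXc)
  -- the product of two reflections
  obtain ⟨w, hw, hperp⟩ := exists_perp_vec Qs h2 hnd δ k hk hKf n hn hι
  have hsak : ∀ u v : ι → F, polar Qs (k *ᵥ u) v = polar Qs u (k *ᵥ v) := by
    intro u v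
    have := hKf (rhoOf δ k hk QuadraticAlgebra.omega) ⟨_, rfl⟩ u v
    rwa [rhoOf_omega] at this
  obtain ⟨hQkw, hcomm⟩ := pair_comm Qs h2 δ hδ0 k hk hsak w hw hperp
  have hkw : Qs (k *ᵥ w) ≠ 0 := by
    rw [hQkw]
    exact mul_ne_zero hδ0 hw
  have hns : ¬ IsSquare (Qs w * Qs (k *ᵥ w)) := by
    rintro ⟨s, hs⟩
    apply hδns
    refine ⟨s / Qs w, ?_⟩
    rw [hQkw] at hs
    field_simp
    linear_combination hs
  have hn' : ((wordG Qs [w, k *ᵥ w] : ↥(Cfsg.isometryGroup F ⇑Qs)) : GL ι F) ∈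
      Cfsg.Geo.subalgebraNormalizer (rhoOf δ k hk).range :=
    mem_normalizer_of_comm δ k hk _ hcomm
  have h1'' : ((c * ⟨G, hGO⟩ : ↥(Cfsg.isometryGroup F ⇑Qs)) : GL ι F)⁻¹ * x *
      ((c * ⟨G, hGO⟩ : ↥(Cfsg.isometryGroup F ⇑Qs)) : GL ι F) ∈
      Cfsg.Geo.subalgebraNormalizer (rhoOf δ k hk).range := h1'
  rw [hc] at h1''
  exact exists_adjust Qs h2 hnd _ x ⟨G, hGO⟩ v₀ hv₀ w (k *ᵥ w) hw hkw hns hn' h1 h1''

end bwd

end Cfsg.Agent.Lib.Helper12.OrC3
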