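import Mathlib
import Cfsg.Prelude.Def_GeometricClasses
import Cfsg.Agent.Lib.Helper12.OrC3S

/-! Helper12 library (OrC3, part T): the backward direction in general form. -/

set_option autoImplicit false
set_option linter.unusedSectionVars false
set_option linter.unusedVariables false
set_option linter.style.haveILetI false

namespace Cfsg.Agent.Lib.Helper12.OrC3

open Module Matrix QuadraticMap Cfsg.Agent.Lib.Helper12.C3Sp Cfsg.Agent.Lib.Helper12.Elus
  Cfsg.Agent.Lib.Helper25.Spin Cfsg.Agent.Lib.Helper25.CD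

section bwd

universe u

variable {F : Type u} [Field F] [Fintype F] {ι : Type} [Fintype ι] [DecidableEq ι]
  (Qs : QuadraticForm F (ι → F))

/-- a reflection in a fixed vector commutes with the isometry -/
theorem reflE_comm_of_fix (y : (ι → F) →ₗ[F] (ι → F)) (hiso : ∀ v, Qs (y v) = Qs v)
    (v₀ : ι → F) (hv₀ : y v₀ = v₀) (u : ι → F) :
    reflE Qs v₀ (y u) = y (reflE Qs v₀ u) := by
  rw [reflE_apply, reflE_apply, map_sub, map_smul, hv₀]
  have : polar Qs v₀ (y u) = polar Qs v₀ u := by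
    nth_rewrite 1 [← hv₀]
    exact polar_iso' Qs y hiso v₀ u
  rw [this]

/-- the backward direction -/
theorem bwd_generic (h2 : (2 : F) ≠ 0) (hodd : Fintype.card F % 2 = 1)
    (hnd : (polarBilin Qs).Nondegenerate) (K : Subalgebra F (Matrix ι ι F))
    (hK : Cfsg.Geo.IsFieldSubalgebra 2 K) (hKf : Cfsg.Geo.IsSelfAdjointFor (polar Qs) K)
    (n : ℕ) (hn : 1 ≤ n) (hι : Fintype.card ι = 2 * (n + 1))
    (x : GL ι F) (hx : x ∈ Cfsg.Geo.omegaGL ⇑Qs) (z : F)
    (hz : ((x ^ 2 : GL ι F) : Matrix ι ι F) = z • (1 : Matrix ι ι F))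
    (hns : ∀ z : F, (x : Matrix ι ι F) ≠ z • (1 : Matrix ι ι F)) :
    ∃ g ∈ Cfsg.Geo.omegaGL ⇑Qs, g⁻¹ * x * g ∈ Cfsg.Geo.subalgebraNormalizer K := by
  obtain ⟨δ, k, hkK, hkk, hδns, hgen⟩ := exists_gen h2 K hK
  haveI : Fact (∀ r : F, r ^ 2 ≠ δ + 0 * r) := ⟨fun r => by
    rw [zero_mul, add_zero]
    exact hδns r⟩
  have hρK : (rhoOf δ k hkk).range = K := rhoOf_range δ k hkk K hkK hgen
  rw [← hρK] at hKf ⊢
  have hxO : x ∈ Cfsg.isometryGroup F ⇑Qs :=
    Cfsg.Agent.Lib.Helper24.Or.iso_of_mem_omega _ x hx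
  obtain ⟨y, hy⟩ : ∃ y : (ι → F) →ₗ[F] (ι → F), y = Matrix.toLin' (x : Matrix ι ι F) := ⟨_, rfl⟩
  have hyv : ∀ u, y u = (x : Matrix ι ι F) *ᵥ u := by
    intro u
    rw [hy, Matrix.toLin'_apply]
  have hyiso : ∀ v, Qs (y v) = Qs v := by
    intro v
    rw [hyv]
    exact hxO v v
  have hyy : ∀ v, y (y v) = z • v := by
    intro v
    rw [hyv, hyv, Matrix.mulVec_mulVec, ← pow_two, ← Units.val_pow_eq_pow_val, hz,
      Matrix.smul_mulVec, Matrix.one_mulVec]
  have hdimV : finrank F (ι → F) = 2 * (n + 1) := by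
    rw [Module.finrank_fintype_fun_eq_card, hι]
  have htop0 : (⊤ : Submodule F (ι → F)) ≠ ⊥ := by
    intro h
    have := finrank_top F (ι → F)
    rw [h, finrank_bot, hdimV] at this
    omega
  obtain ⟨v₁, -, hv₁⟩ := exists_nonsing Qs h2 ⊤ (Cfsg.Agent.Lib.Helper15.ndOn_top Qs hnd) htop0
  have hzz : z * z = 1 := by
    have h1 : Qs (y (y v₁)) = Qs v₁ := by rw [hyiso, hyiso]
    rw [hyy, QuadraticMap.map_smul, smul_eq_mul] at h1
    have h3 : (z * z - 1) * Qs v₁ = 0 := by linear_combination h1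
    rcases mul_eq_zero.1 h3 with h4 | h4
    · linear_combination h4
    · exact absurd h4 hv₁
  have hz1 : z = 1 ∨ z = -1 := by
    have h3 : (z - 1) * (z + 1) = 0 := by linear_combination hzz
    rcases mul_eq_zero.1 h3 with h4 | h4
    · exact Or.inl (by linear_combination h4)
    · exact Or.inr (by linear_combination h4)
  rcases hz1 with rfl | rfl
  · -- involutions
    have : Fact (Nat.Prime 2) := ⟨Nat.prime_two⟩
    have hr0 : ((2 : ℕ) : F) ≠ 0 := by exact_mod_cast h2
    have hy2 : y ^ 2 = 1 := by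
      apply LinearMap.ext
      intro v
      rw [pow_two, Module.End.mul_apply, hyy, one_smul, Module.End.one_apply]
    have hsum := Cfsg.Agent.Lib.Helper24.Or.finrank_fix_add_mov' y 2 hy2 hr0
    rw [hdimV] at hsum
    have hmov0 : finrank F (movR y) ≠ 0 := by
      intro h0
      have hbot : movR y = ⊥ := Submodule.finrank_eq_zero.1 h0
      apply hns 1
      apply matrix_eq_of_mulVec
      intro v
      rw [one_smul, Matrix.one_mulVec, ← hyv]
      have h3 : (y - 1) v ∈ movR y := ⟨v, rfl⟩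
      rw [hbot, Submodule.mem_bot, LinearMap.sub_apply, Module.End.one_apply, sub_eq_zero] at h3
      exact h3
    have hfix0 : finrank F (fixE y) ≠ 0 := by
      intro h0
      have htop : movR y = ⊤ := by
        apply Submodule.eq_top_of_finrank_eq
        rw [hdimV]
        omega
      apply hns (-1)
      apply matrix_eq_of_mulVec
      intro v
      rw [neg_smul, one_smul, Matrix.neg_mulVec, Matrix.one_mulVec, ← hyv]
      exact Cfsg.Agent.Lib.Helper24.Or.mov_neg y hy2 v (by rw [htop]; trivial)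
    obtain ⟨np, hp⟩ : ∃ np, finrank F (fixE y) = np + 1 :=
      ⟨finrank F (fixE y) - 1, by omega⟩
    obtain ⟨nm, hm⟩ : ∃ nm, finrank F (movR y) = nm + 1 :=
      ⟨finrank F (movR y) - 1, by omega⟩
    have hme : Even (nm + 1) := by
      have hy2' : (Matrix.toLin' (x : Matrix ι ι F)) ^ 2 = 1 := by rw [← hy]; exact hy2
      exact (Cfsg.Agent.Lib.Helper24.Or.omega_invol_struct Qs h2 hnd x hx hy2' nm
        (by rw [← hy]; exact hm)).1
    have hpe : Even (np + 1) := by
      rw [hp, hm] at hsum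
      obtain ⟨a, ha⟩ := hme
      exact ⟨n + 1 - a, by omega⟩
    obtain ⟨k', hsq, hsa, hcomm, v₀, hv₀, hyv₀⟩ := kprime_invol Qs y hodd h2 hnd hyiso hy2 np nm
      hp hm hpe hme δ
    apply bwd_of_kprime Qs h2 hnd δ k hkk hKf n hn hι x hxO k' hsq hsa 1 (Or.inl rfl) ?_ v₀ hv₀ ?_
    · intro u
      rw [one_smul, ← hyv, ← hyv]
      exact hcomm u
    · intro u
      rw [one_smul, ← hyv, ← hyv, reflE_comm_of_fix Qs y hyiso v₀ hyv₀,
        reflE_comm_of_fix Qs y hyiso v₀ hyv₀, reflE_reflE, reflE_reflE]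
      exact hcomm u
  · -- square `-1`
    have hyy' : ∀ v, y (y v) = -v := by
      intro v
      rw [hyy, neg_smul, one_smul]
    obtain ⟨k', hsq, hsa, hanti, v₀, hv₀, hc⟩ := kprime_sqneg Qs y hodd h2 hnd hyiso hyy' (n + 1)
      (by omega) hdimV δ
    apply bwd_of_kprime Qs h2 hnd δ k hkk hKf n hn hι x hxO k' hsq hsa (-1) (Or.inr rfl) ?_ v₀
      hv₀ ?_
    · intro u
      rw [neg_smul, one_smul, ← hyv, ← hyv]
      exact hanti u
    · intro u
      rw [neg_smul, one_smul, ← hyv, ← hyv]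
      exact hc u

end bwd

end Cfsg.Agent.Lib.Helper12.OrC3
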