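import Mathlib
import Cfsg.Prelude.Def_GeometricClasses
import Cfsg.Agent.Lib.Helper12.OrC3J
import Cfsg.Agent.Lib.Helper12.OrC3T

/-! Helper12 library (OrC3, part U): the quadratic field extension subgroups of the orthogonal
groups of plus type: the prime `2` is the only prime divisor `r` of the index all of whose
elements of order `r` modulo scalars are conjugate into the subgroup. -/

set_option autoImplicit false
set_option linter.unusedSectionVars false
set_option linter.unusedVariables false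
set_option linter.style.haveILetI false

namespace Cfsg.Agent.Lib.Helper12.OrC3

open Module Matrix QuadraticMap Cfsg.Agent.Lib.Helper12.C3Sp Cfsg.Agent.Lib.Helper12.Elus
  Cfsg.Agent.Lib.Helper15 Cfsg.Agent.Lib.Helper15.QuadType Cfsg.Agent.Lib.Helper24.Or

section plus

universe u

variable {F : Type u} [Field F] [Fintype F]

/-- a singular vector and a nonsingular vector orthogonal to it -/
theorem plus_vectors (d : ℕ) (hd : 2 ≤ d) :
    ∃ e w : Fin d ⊕ Fin d → F, e ≠ 0 ∧ plusQF d e = 0 ∧ polar (plusQF d) e w = 0 ∧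
      plusQF d w ≠ 0 := by
  classical
  obtain ⟨i0, hi0⟩ : ∃ i0 : Fin d, i0 = ⟨0, by omega⟩ := ⟨_, rfl⟩
  obtain ⟨i1, hi1⟩ : ∃ i1 : Fin d, i1 = ⟨1, by omega⟩ := ⟨_, rfl⟩
  have h01 : i0 ≠ i1 := by
    rw [hi0, hi1]
    intro h
    have := congrArg Fin.val h
    simp at this
  refine ⟨Pi.single (Sum.inl i0) 1, Pi.single (Sum.inl i1) 1 + Pi.single (Sum.inr i1) 1,
    ?_, ?_, ?_, ?_⟩
  · intro h
    have := congrFun h (Sum.inl i0)
    simp at this
  · rw [plusQF_apply]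
    apply Finset.sum_eq_zero
    intro i _
    simp
  · rw [polar_plusQF']
    apply Finset.sum_eq_zero
    intro i _
    by_cases hi : i = i0
    · subst hi
      simp [h01]
    · simp [hi]
  · rw [plusQF_apply, Finset.sum_eq_single i1]
    · simp
    · intro i _ hi
      simp [Pi.single_apply, hi]
    · intro h
      exact absurd (Finset.mem_univ _) h

/-- S5977 -/
theorem plus_main {p : ℕ} [Fact p.Prime] [CharP F p] (hodd : Odd (Fintype.card F)) (d : ℕ) (hd : 4 ≤ d)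
    (K : Subalgebra F (Matrix (Fin d ⊕ Fin d) (Fin d ⊕ Fin d) F))
    (hK : Cfsg.Geo.IsFieldSubalgebra 2 K)
    (hKf : Cfsg.Geo.IsSelfAdjointFor (QuadraticMap.polar (Cfsg.quadFormPlus d F)) K)
    (r : ℕ) [Fact r.Prime]
    (hΩ : r ∣ (Cfsg.Geo.subalgebraNormalizer K).relIndex
      (Cfsg.Geo.omegaGL (Cfsg.quadFormPlus d F))) :
    (∀ x ∈ Cfsg.Geo.omegaGL (Cfsg.quadFormPlus d F),
      (∃ z : F, ((x ^ r : GL (Fin d ⊕ Fin d) F) : Matrix (Fin d ⊕ Fin d) (Fin d ⊕ Fin d) F) =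
        z • (1 : Matrix (Fin d ⊕ Fin d) (Fin d ⊕ Fin d) F)) →
      (∀ z : F, (x : Matrix (Fin d ⊕ Fin d) (Fin d ⊕ Fin d) F) ≠
        z • (1 : Matrix (Fin d ⊕ Fin d) (Fin d ⊕ Fin d) F)) →
      ∃ g ∈ Cfsg.Geo.omegaGL (Cfsg.quadFormPlus d F),
        g⁻¹ * x * g ∈ Cfsg.Geo.subalgebraNormalizer K) ↔ r = 2 := by
  classical
  have h2 : (2 : F) ≠ 0 := two_ne_zero_of_odd hodd
  have hodd' : Fintype.card F % 2 = 1 := Nat.odd_iff.1 hodd
  have hnd := plusQF_nondegenerate (F := F) d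
  obtain ⟨n, rfl⟩ : ∃ n, d = n + 1 := ⟨d - 1, by omega⟩
  have hι : Fintype.card (Fin (n + 1) ⊕ Fin (n + 1)) = 2 * (n + 1) := card_idx_plus (n + 1)
  rw [← coe_plusQF] at hKf hΩ ⊢
  constructor
  · intro h
    by_contra hr2
    obtain ⟨δ, k, hkK, hkk, hδns, hgen⟩ := exists_gen h2 K hK
    haveI : Fact (∀ r : F, r ^ 2 ≠ δ + 0 * r) := ⟨fun r => by
      rw [zero_mul, add_zero]
      exact hδns r⟩
    have hρK : (rhoOf δ k hkk).range = K := rhoOf_range δ k hkk K hkK hgen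
    haveI : Finite (QuadraticAlgebra F δ 0) := Module.finite_of_finite F
    letI : Fintype (QuadraticAlgebra F δ 0) := Fintype.ofFinite _
    have hE2 : finrank F (QuadraticAlgebra F δ 0) = 2 := QuadraticAlgebra.finrank_eq_two δ 0
    haveI : Nonempty (Fin (n + 1) ⊕ Fin (n + 1)) := ⟨Sum.inl 0⟩
    obtain ⟨e, w, he0, hQe, hew, hQw⟩ := plus_vectors (F := F) (n + 1) (by omega)
    rw [← hρK] at hKf hΩ h
    obtain ⟨x, hxΩ, hxr, hns, hno⟩ := fwd_generic (p := p) (rhoOf δ k hkk) (plusQF (n + 1)) h2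
      hnd hKf hE2 n hι 1 (Or.inl rfl)
      (by rw [coe_plusQF]; exact hasType_plus (n + 1))
      (Fintype.card F ^ (n + 1) - 1) ⟨fun _ => rfl, fun h => by norm_num at h⟩
      (by rw [coe_plusQF]; exact Cfsg.Agent.Lib.Helper14.card_isometry_plus n)
      (by
        intro V' _ _ _ Q' hnd' hdim' ht'
        obtain ⟨b, hb⟩ := univ_plus Q' hnd' (n + 1) (by omega) hdim' ht'
        exact ⟨b.equivFun, fun v => by rw [plusQF_eq]; exact hb v⟩)
      e w he0 hQe hew hQw r hr2 hΩ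
    obtain ⟨g, hgΩ, hg⟩ := h x hxΩ ⟨1, by rw [hxr, one_smul]; rfl⟩ hns
    exact hno g (omegaGL_le _ hgΩ) hg
  · rintro rfl x hx ⟨z, hz⟩ hns
    exact bwd_generic (plusQF (n + 1)) h2 hodd' hnd K hK hKf n (by omega) hι x hx z hz hns

end plus

end Cfsg.Agent.Lib.Helper12.OrC3
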