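import Mathlib
import Cfsg.Prelude.Def_GeometricClasses
import Cfsg.Agent.Lib.Helper12.OrC3J
import Cfsg.Agent.Lib.Helper12.OrC3T

/-! Helper12 library (OrC3, part V): the quadratic field extension subgroups of the orthogonal
groups of minus type: the prime `2` is the only prime divisor `r` of the index all of whose
elements of order `r` modulo scalars are conjugate into the subgroup. -/

set_option autoImplicit false
set_option linter.unusedSectionVars false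
set_option linter.unusedVariables false
set_option linter.style.haveILetI false
set_option linter.unusedSimpArgs false

namespace Cfsg.Agent.Lib.Helper12.OrC3

open Module Matrix QuadraticMap Cfsg.Agent.Lib.Helper12.C3Sp Cfsg.Agent.Lib.Helper12.Elus
  Cfsg.Agent.Lib.Helper15 Cfsg.Agent.Lib.Helper15.QuadType Cfsg.Agent.Lib.Helper24.Or

section minus

universe u

variable {F : Type u} [Field F] [Fintype F]

/-- a singular vector and a nonsingular vector orthogonal to it, minus type -/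
theorem minus_vectors (k : ℕ) (hk : 1 ≤ k) (a b : F) :
    ∃ e w : (Fin k ⊕ Fin k) ⊕ Fin 2 → F, e ≠ 0 ∧ minusQFab k a b e = 0 ∧
      polar (minusQFab k a b) e w = 0 ∧ minusQFab k a b w ≠ 0 := by
  classical
  obtain ⟨i0, hi0⟩ : ∃ i0 : Fin k, i0 = ⟨0, by omega⟩ := ⟨_, rfl⟩
  refine ⟨Pi.single (Sum.inl (Sum.inl i0)) 1, Pi.single (Sum.inr 0) 1, ?_, ?_, ?_, ?_⟩
  · intro h
    have := congrFun h (Sum.inl (Sum.inl i0))
    simp at this
  · rw [minusQFab_eq]
    unfold Cfsg.quadFormMinus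
    simp
  · rw [polar_minusQFab]
    simp [dotProduct]
  · rw [minusQFab_eq]
    unfold Cfsg.quadFormMinus
    simp

/-- S5978 (with `n` in place of `d - 1`) -/
theorem minus_main {p : ℕ} [Fact p.Prime] [CharP F p] (hodd : Odd (Fintype.card F)) (n : ℕ)
    (hn3 : 3 ≤ n) (a b : F)
    (hab : ∀ x y : F, x ^ 2 + a * x * y + b * y ^ 2 = 0 → x = 0 ∧ y = 0)
    (K : Subalgebra F (Matrix ((Fin n ⊕ Fin n) ⊕ Fin 2)
      ((Fin n ⊕ Fin n) ⊕ Fin 2) F))
    (hK : Cfsg.Geo.IsFieldSubalgebra 2 K)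
    (hKf : Cfsg.Geo.IsSelfAdjointFor (QuadraticMap.polar (Cfsg.quadFormMinus n F a b)) K)
    (r : ℕ) [Fact r.Prime]
    (hΩ : r ∣ (Cfsg.Geo.subalgebraNormalizer K).relIndex
      (Cfsg.Geo.omegaGL (Cfsg.quadFormMinus n F a b))) :
    (∀ x ∈ Cfsg.Geo.omegaGL (Cfsg.quadFormMinus n F a b),
      (∃ z : F, ((x ^ r : GL ((Fin n ⊕ Fin n) ⊕ Fin 2) F) :
          Matrix ((Fin n ⊕ Fin n) ⊕ Fin 2) ((Fin n ⊕ Fin n) ⊕ Fin 2) F) =
        z • (1 : Matrix ((Fin n ⊕ Fin n) ⊕ Fin 2)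
          ((Fin n ⊕ Fin n) ⊕ Fin 2) F)) →
      (∀ z : F, (x : Matrix ((Fin n ⊕ Fin n) ⊕ Fin 2)
          ((Fin n ⊕ Fin n) ⊕ Fin 2) F) ≠
        z • (1 : Matrix ((Fin n ⊕ Fin n) ⊕ Fin 2)
          ((Fin n ⊕ Fin n) ⊕ Fin 2) F)) →
      ∃ g ∈ Cfsg.Geo.omegaGL (Cfsg.quadFormMinus n F a b),
        g⁻¹ * x * g ∈ Cfsg.Geo.subalgebraNormalizer K) ↔ r = 2 := by
  classical
  have h2 : (2 : F) ≠ 0 := two_ne_zero_of_odd hodd
  have hodd' : Fintype.card F % 2 = 1 := Nat.odd_iff.1 hodd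
  have hnd := minusQF_nd (F := F) n a b hab
  have hι : Fintype.card ((Fin n ⊕ Fin n) ⊕ Fin 2) = 2 * (n + 1) := card_idx_minus n
  rw [← coe_minusQF] at hKf hΩ ⊢
  constructor
  · intro h
    by_contra hr2
    obtain ⟨δ, k, hkK, hkk, hδns, hgen⟩ := exists_gen h2 K hK
    haveI : Fact (∀ r : F, r ^ 2 ≠ δ + 0 * r) := ⟨fun r => by
      rw [zero_mul, add_zero]
      exact hδns r⟩
    have hρK : (rhoOf δ k hkk).range = K := rhoOf_range δ k hkk K hkK hgen
    haveI : Finite (QuadraticAlgebra F δ 0) := Module.finite_of_finite F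
    letI : Fintype (QuadraticAlgebra F δ 0) := Fintype.ofFinite _
    have hE2 : finrank F (QuadraticAlgebra F δ 0) = 2 := QuadraticAlgebra.finrank_eq_two δ 0
    haveI : Nonempty ((Fin n ⊕ Fin n) ⊕ Fin 2) := ⟨Sum.inr 0⟩
    obtain ⟨e, w, he0, hQe, hew, hQw⟩ := minus_vectors (F := F) n (by omega) a b
    rw [← hρK] at hKf hΩ h
    obtain ⟨x, hxΩ, hxr, hns, hno⟩ := fwd_generic (p := p) (rhoOf δ k hkk) (minusQFab n a b) h2
      hnd hKf hE2 n hι (-1) (Or.inr rfl)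
      (hasType_minusQF n a b hab)
      (Fintype.card F ^ (n + 1) + 1) ⟨fun h => by norm_num at h, fun _ => rfl⟩
      (by rw [coe_minusQF]; exact Cfsg.Agent.Lib.Helper14.OrthMinus.card_isometry_minus hab n)
      (by
        intro V' _ _ _ Q' hnd' hdim' ht'
        obtain ⟨b', hb'⟩ := univ_minus Q' hnd' n hdim' ht' hab
        exact ⟨b'.equivFun, fun v => by rw [minusQFab_eq]; exact hb' v⟩)
      e w he0 hQe hew hQw r hr2 hΩ
    obtain ⟨g, hgΩ, hg⟩ := h x hxΩ ⟨1, by rw [hxr, one_smul]; rfl⟩ hns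
    exact hno g (omegaGL_le _ hgΩ) hg
  · rintro rfl x hx ⟨z, hz⟩ hns
    exact bwd_generic (minusQFab n a b) h2 hodd' hnd K hK hKf n (by omega) hι x hx z hz hns

end minus

end Cfsg.Agent.Lib.Helper12.OrC3
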