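import Mathlib
import Cfsg.Agent.Lib.Helper12.UnB
import Cfsg.Agent.Lib.Helper22.NdUnA
import Cfsg.Agent.Lib.Helper15.OrthSemi
import Cfsg.Agent.Lib.Helper15.PolarForms

set_option autoImplicit false
set_option linter.unusedSectionVars false

/-!
# Quadratic spaces in odd characteristic: nondegenerate subspaces and their types
-/

namespace Cfsg.Agent.Lib.Helper12.OrN

open Module QuadraticMap

section basic

variable {F V : Type*} [Field F] [AddCommGroup V] [Module F V] (Q : QuadraticForm F V)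

/-- the polar form as a sesquilinear form for the identity -/
noncomputable def pB : V →ₗ[F] V →ₛₗ[RingHom.id F] F := polarBilin Q

theorem pB_apply (u v : V) : pB Q u v = polar Q u v := rfl

theorem pB_id (a : F) : (RingHom.id F) ((RingHom.id F) a) = a := rfl

theorem pB_sym (u v : V) : pB Q v u = (RingHom.id F) (pB Q u v) := by
  rw [pB_apply, pB_apply, polar_comm]
  rfl

theorem pB_self (h2 : (2 : F) ≠ 0) (v : V) : pB Q v v = 0 ↔ Q v = 0 := by
  rw [pB_apply, polar_self, two_nsmul, ← two_mul]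
  constructor
  · intro h
    exact (mul_eq_zero.1 h).resolve_left h2
  · intro h
    rw [h, mul_zero]

/-- nondegeneracy of the polar form on a subspace -/
def Nd (W : Submodule F V) : Prop := Un.NdOn (pB Q) W

theorem nd_iff (W : Submodule F V) : Nd Q W ↔ Cfsg.Agent.Lib.Helper15.NdOn Q W := by
  constructor
  · intro h w hw hall
    by_contra hw0
    obtain ⟨v, hv, hne⟩ := h w hw hw0
    exact hne (hall v hv)
  · intro h w hw hw0
    by_contra hcon
    push Not at hcon
    exact hw0 (h w hw hcon)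

theorem nd_top (hQ : (polarBilin Q).Nondegenerate) : Nd Q ⊤ :=
  (nd_iff Q ⊤).2 (Cfsg.Agent.Lib.Helper15.ndOn_top Q hQ)

theorem nd_bot : Nd Q ⊥ := Un.ndOn_bot (pB Q)

/-- a nonzero nondegenerate subspace contains a nonsingular vector (odd characteristic) -/
theorem exists_nonsing (U : Submodule F V) (hU : Nd Q U) (hU0 : U ≠ ⊥) :
    ∃ v ∈ U, Q v ≠ 0 := by
  by_contra hcon
  push Not at hcon
  obtain ⟨u, hu, hu0⟩ := (Submodule.ne_bot_iff U).1 hU0
  obtain ⟨v, hv, hne⟩ := hU u hu hu0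
  apply hne
  rw [pB_apply, polar, hcon _ (U.add_mem hu hv), hcon u hu, hcon v hv]
  ring

theorem nd_span_singleton (h2 : (2 : F) ≠ 0) (v : V) (hv : Q v ≠ 0) :
    Nd Q (Submodule.span F {v}) := by
  apply Un.ndOn_span_singleton
  intro h
  exact hv ((pB_self Q h2 v).1 h)

end basic

section fd

variable {F V : Type*} [Field F] [AddCommGroup V] [Module F V] [FiniteDimensional F V]
  (Q : QuadraticForm F V)

/-- nondegenerate subspaces of every dimension -/
theorem exists_nd_sub (h2 : (2 : F) ≠ 0) (U : Submodule F V) (hU : Nd Q U) (j : ℕ)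
    (hj : j ≤ finrank F U) :
    ∃ W : Submodule F V, W ≤ U ∧ Nd Q W ∧ finrank F W = j := by
  obtain ⟨t, ht, hsel⟩ := Cfsg.Agent.Lib.Helper22.NdUn.gdl_const (pB Q) pB_id (pB_sym Q)
    (fun W => Nd Q W) 1 (fun _ h => h)
    (fun U C hU hC hCU => Un.ndOn_inf_orth (pB Q) pB_id (pB_sym Q) U C hU hCU hC)
    (fun C W hC hW hWC => Un.ndOn_sup (pB Q) (pB_sym Q) C W hC hW (fun a ha c hc => hWC hc a ha))
    (fun U hU hU0 => by
      obtain ⟨v, hvU, hvv⟩ := exists_nonsing Q U hU hU0
      have hv0 : v ≠ 0 := by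
        intro h0
        rw [h0, QuadraticMap.map_zero] at hvv
        exact hvv rfl
      refine ⟨Submodule.span F {v}, nd_span_singleton Q h2 v hvv, ?_, ?_,
        finrank_span_singleton hv0⟩
      · rw [Submodule.span_le]
        intro x hx
        rw [Set.mem_singleton_iff.1 hx]
        exact hvU
      · intro h0
        have : v ∈ Submodule.span F {v} := Submodule.mem_span_singleton_self v
        rw [h0] at this
        exact hv0 ((Submodule.mem_bot F).1 this)) U hU
  rw [one_mul] at ht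
  obtain ⟨W, hW, hWU, hWdim⟩ := hsel j (by omega)
  exact ⟨W, hWU, hW, by rw [hWdim, one_mul]⟩

end fd

section types

variable {F V : Type*} [Field F] [Fintype F] [AddCommGroup V] [Module F V]
  [FiniteDimensional F V] (Q : QuadraticForm F V)

open Cfsg.Agent.Lib.Helper15 Cfsg.Agent.Lib.Helper15.QuadType Cfsg.Agent.Lib.Helper15.OrthSemi
  Cfsg.Agent.Lib.Helper15.PolarForms

/-- the nondegenerate even-dimensional subspace `W` has type `ε` -/
def TypeOn (W : Submodule F V) (ε : ℤ) : Prop :=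
  HasType ε (finrank F W / 2) (fun w : W => Q (w : V))

/-- `W` contains a totally singular subspace of half its dimension -/
def IsPlus (W : Submodule F V) : Prop :=
  ∃ U : Submodule F V, U ≤ W ∧ (∀ u ∈ U, Q u = 0) ∧ 2 * finrank F U = finrank F W

theorem typeOn_exists (W : Submodule F V) (hW : Nd Q W) (hev : Even (finrank F W)) :
    ∃ ε : ℤ, (ε = 1 ∨ ε = -1) ∧ TypeOn Q W ε := by
  obtain ⟨n, hn⟩ := hev
  have hdim : finrank F W = 2 * (finrank F W / 2) := by omega
  obtain ⟨ε, hε, ht⟩ := hasType_of_nondeg (resQ Q W)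
    (nondegenerate_resQ Q W ((nd_iff Q W).1 hW)) _ hdim
  exact ⟨ε, hε, ht⟩

omit [FiniteDimensional F V] in
theorem typeOn_unique (W : Submodule F V) {ε ε' : ℤ} (h : TypeOn Q W ε) (h' : TypeOn Q W ε') :
    ε = ε' :=
  HasType.unique h h'

theorem typeOn_one_iff (W : Submodule F V) (hW : Nd Q W) (hev : Even (finrank F W)) :
    TypeOn Q W 1 ↔ IsPlus Q W := by
  obtain ⟨n, hn⟩ := hev
  have hdim : finrank F W = 2 * (finrank F W / 2) := by omega
  have hnd := nondegenerate_resQ Q W ((nd_iff Q W).1 hW)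
  constructor
  · intro ht
    rcases Nat.eq_zero_or_pos (finrank F W / 2) with h0 | hpos
    · refine ⟨⊥, bot_le, ?_, ?_⟩
      · intro u hu
        rw [(Submodule.mem_bot F).1 hu, QuadraticMap.map_zero]
      · rw [finrank_bot]
        omega
    · obtain ⟨U', hU', hU'dim⟩ := exists_ts_of_hasType_one (resQ Q W) hnd _ hpos hdim ht
      refine ⟨U'.map W.subtype, ?_, ?_, ?_⟩
      · rintro _ ⟨u, -, rfl⟩
        exact u.2
      · rintro _ ⟨u, hu, rfl⟩
        exact hU' u hu
      · rw [Submodule.finrank_map_subtype_eq, hU'dim]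
        omega
  · rintro ⟨U, hUW, hUts, hUdim⟩
    have e := Submodule.comapSubtypeEquivOfLe hUW
    apply hasType_one_of_ts (resQ Q W) hnd _ hdim (U.comap W.subtype)
    · intro u hu
      exact hUts _ hu
    · rw [e.finrank_eq]
      omega

/-- the type is invariant under injective isometries -/
theorem typeOn_map {V' : Type*} [AddCommGroup V'] [Module F V'] [FiniteDimensional F V']
    (Q' : QuadraticForm F V') (f : V →ₗ[F] V') (hf : Function.Injective f)
    (hQ : ∀ v, Q' (f v) = Q v) (W : Submodule F V) (ε : ℤ) (h : TypeOn Q W ε) :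
    TypeOn Q' (W.map f) ε := by
  unfold TypeOn at h ⊢
  have e := Submodule.equivMapOfInjective f hf W
  rw [← e.finrank_eq]
  refine h.congr (Submodule.equivMapOfInjective f hf W).toEquiv (fun w => ?_)
  show Q' (((Submodule.equivMapOfInjective f hf W) w : W.map f) : V') = Q (w : V)
  rw [Submodule.coe_equivMapOfInjective_apply, hQ]

theorem disjoint_of_orth (W₁ W₂ : Submodule F V) (h₁ : Nd Q W₁)
    (horth : ∀ a ∈ W₁, ∀ b ∈ W₂, polar Q a b = 0) : W₁ ⊓ W₂ = ⊥ := by
  rw [eq_bot_iff]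
  have h2 := (Un.ndOn_iff_disjoint (pB Q) (pB_sym Q) W₁).1 h₁
  rw [← h2.eq_bot]
  exact inf_le_inf le_rfl (fun b hb a ha => horth a ha b hb)

theorem finrank_sup_of_orth (W₁ W₂ : Submodule F V) (h₁ : Nd Q W₁)
    (horth : ∀ a ∈ W₁, ∀ b ∈ W₂, polar Q a b = 0) :
    finrank F ↥(W₁ ⊔ W₂) = finrank F W₁ + finrank F W₂ := by
  have := Submodule.finrank_sup_add_finrank_inf_eq W₁ W₂
  rw [disjoint_of_orth Q W₁ W₂ h₁ horth, finrank_bot, add_zero] at this
  exact this

theorem nd_sup (W₁ W₂ : Submodule F V) (h₁ : Nd Q W₁) (h₂ : Nd Q W₂)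
    (horth : ∀ a ∈ W₁, ∀ b ∈ W₂, polar Q a b = 0) : Nd Q (W₁ ⊔ W₂) :=
  Un.ndOn_sup (pB Q) (pB_sym Q) W₁ W₂ h₁ h₂ horth

/-- the type of an orthogonal sum is the product of the types -/
theorem typeOn_sup (W₁ W₂ : Submodule F V) (h₁ : Nd Q W₁)
    (horth : ∀ a ∈ W₁, ∀ b ∈ W₂, polar Q a b = 0)
    (he₁ : Even (finrank F W₁)) (he₂ : Even (finrank F W₂)) {ε₁ ε₂ : ℤ}
    (t₁ : TypeOn Q W₁ ε₁) (t₂ : TypeOn Q W₂ ε₂) : TypeOn Q (W₁ ⊔ W₂) (ε₁ * ε₂) := by
  have hdisj := disjoint_of_orth Q W₁ W₂ h₁ horth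
  have hdim := finrank_sup_of_orth Q W₁ W₂ h₁ horth
  obtain ⟨a, ha⟩ := he₁
  obtain ⟨b, hb⟩ := he₂
  have hn : finrank F ↥(W₁ ⊔ W₂) / 2 = finrank F W₁ / 2 + finrank F W₂ / 2 := by omega
  unfold TypeOn at t₁ t₂ ⊢
  rw [hn]
  have hmem : ∀ p : W₁ × W₂, (p.1 : V) + (p.2 : V) ∈ W₁ ⊔ W₂ := fun p =>
    Submodule.add_mem_sup p.1.2 p.2.2
  have hbij : Function.Bijective (fun p : W₁ × W₂ => (⟨(p.1 : V) + (p.2 : V), hmem p⟩ :
      ↥(W₁ ⊔ W₂))) := by
    constructor
    · rintro ⟨x, y⟩ ⟨x', y'⟩ hxy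
      have h3 : (x : V) + (y : V) = (x' : V) + (y' : V) := congrArg Subtype.val hxy
      have h4 : (x : V) - (x' : V) ∈ W₁ ⊓ W₂ := by
        refine ⟨W₁.sub_mem x.2 x'.2, ?_⟩
        have : (x : V) - (x' : V) = (y' : V) - (y : V) := by
          rw [sub_eq_sub_iff_add_eq_add, h3, add_comm]
        rw [SetLike.mem_coe, this]
        exact W₂.sub_mem y'.2 y.2
      rw [hdisj, Submodule.mem_bot, sub_eq_zero] at h4
      have h5 : (y : V) = (y' : V) := by
        rw [h4] at h3
        exact add_left_cancel h3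
      exact Prod.ext (Subtype.ext h4) (Subtype.ext h5)
    · rintro ⟨w, hw⟩
      obtain ⟨x, hx, y, hy, rfl⟩ := Submodule.mem_sup.1 hw
      exact ⟨(⟨x, hx⟩, ⟨y, hy⟩), rfl⟩
  have : Finite V := Module.finite_of_finite F
  refine (HasType.prod t₁ t₂).congr (Equiv.ofBijective _ hbij) ?_
  rintro ⟨x, y⟩
  show Q ((x : V) + (y : V)) = Q (x : V) + Q (y : V)
  rw [QuadraticMap.map_add Q, horth x x.2 y y.2, add_zero]

theorem exists_hyp_pair (U : Submodule F V) (hU : Nd Q U) (h3 : 3 ≤ finrank F U) :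
    ∃ e f : V, e ∈ U ∧ f ∈ U ∧ Q e = 0 ∧ Q f = 0 ∧ polar Q e f = 1 := by
  obtain ⟨e, heU, he0, he⟩ := exists_singular_in Q U h3
  obtain ⟨f, hfU, hf, hef⟩ := exists_hyp_partner Q U ((nd_iff Q U).1 hU) heU he0 he
  exact ⟨e, f, heU, hfU, he, hf, hef⟩

theorem hyp_plane_facts (U : Submodule F V) (e f : V) (heU : e ∈ U) (hfU : f ∈ U)
    (he : Q e = 0) (hf : Q f = 0) (hef : polar Q e f = 1) :
    Nd Q (Submodule.span F {e, f}) ∧ finrank F (Submodule.span F {e, f}) = 2 ∧
      TypeOn Q (Submodule.span F {e, f}) 1 ∧ Submodule.span F {e, f} ≤ U ∧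
      (∀ a ∈ Submodule.span F {e, f}, ∀ b ∈ perpPair Q U e f, polar Q a b = 0) := by
  have he0 : e ≠ 0 := by
    rintro rfl
    rw [polar_zero_left] at hef
    exact zero_ne_one hef
  obtain ⟨h1, h2⟩ := Un.ndOn_span_pair (pB Q) (pB_sym Q) e f
    (by rw [pB_apply]; exact polar_self_of_singular Q he)
    (by rw [pB_apply, hef]; exact one_ne_zero)
  have hle : Submodule.span F {e, f} ≤ U := by
    rw [Submodule.span_le]
    rintro x (rfl | hx)
    · exact heU
    · rw [Set.mem_singleton_iff.1 hx]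
      exact hfU
  refine ⟨h1, h2, ?_, hle, ?_⟩
  · rw [typeOn_one_iff Q _ h1 (by rw [h2]; exact ⟨1, rfl⟩)]
    refine ⟨Submodule.span F {e}, ?_, ?_, ?_⟩
    · apply Submodule.span_mono
      intro x hx
      rw [Set.mem_singleton_iff.1 hx]
      exact Set.mem_insert _ _
    · intro u hu
      obtain ⟨c, rfl⟩ := Submodule.mem_span_singleton.1 hu
      rw [QuadraticMap.map_smul, he, smul_zero]
    · rw [finrank_span_singleton he0, h2]
  · intro a ha b hb
    obtain ⟨α, β, rfl⟩ := Submodule.mem_span_pair.1 ha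
    obtain ⟨-, hbe, hbf⟩ := (mem_perpPair Q U e f b).1 hb
    rw [polar_add_left, polar_smul_left, polar_smul_left, hbe, hbf, smul_zero, smul_zero,
      add_zero]

/-- an anisotropic plane inside a nondegenerate subspace of dimension at least three -/
theorem exists_minus_plane (h2 : (2 : F) ≠ 0) (U : Submodule F V) (hU : Nd Q U)
    (h3 : 3 ≤ finrank F U) :
    ∃ T : Submodule F V, T ≤ U ∧ Nd Q T ∧ finrank F T = 2 ∧ TypeOn Q T (-1) := by
  obtain ⟨e, f, heU, hfU, he, hf, hef⟩ := exists_hyp_pair Q U hU h3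
  have hPnd : Nd Q (perpPair Q U e f) :=
    (nd_iff Q _).2 (perpPair_nd Q U ((nd_iff Q U).1 hU) heU hfU he hf hef)
  have hPdim := perpPair_finrank Q U heU hfU he hf hef
  have hP0 : perpPair Q U e f ≠ ⊥ := by
    intro h0
    rw [h0, finrank_bot] at hPdim
    omega
  obtain ⟨z, hzP, hQz⟩ := exists_nonsing Q _ hPnd hP0
  obtain ⟨hzU, hze, hzf⟩ := (mem_perpPair Q U e f z).1 hzP
  obtain ⟨ν, hν⟩ := FiniteField.exists_nonsquare (F := F) (by
    intro h
    have : CharP F 2 := by rw [← h]; exact ringChar.charP F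
    exact h2 (CharTwo.two_eq_zero))
  have hν0 : ν ≠ 0 := by
    rintro rfl
    exact hν ⟨0, by ring⟩
  set a : F := -(Q z) / ν with ha
  have ha0 : a ≠ 0 := by
    rw [ha]
    exact div_ne_zero (neg_ne_zero.2 hQz) hν0
  set u : V := e + a • f with hu
  have hQu : Q u = a := by
    rw [hu, QuadraticMap.map_add Q, QuadraticMap.map_smul, he, hf, polar_smul_right, hef]
    simp
  have huz : polar Q u z = 0 := by
    rw [hu, polar_add_left, polar_smul_left, hze, hzf, smul_zero, add_zero]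
  have huU : u ∈ U := U.add_mem heU (U.smul_mem _ hfU)
  have hu0 : u ≠ 0 := by
    intro h0
    rw [h0, QuadraticMap.map_zero] at hQu
    exact ha0 hQu.symm
  have hz0 : z ≠ 0 := by
    rintro rfl
    rw [QuadraticMap.map_zero] at hQz
    exact hQz rfl
  have horth : ∀ x ∈ Submodule.span F {u}, ∀ y ∈ Submodule.span F {z}, polar Q x y = 0 := by
    intro x hx y hy
    obtain ⟨α, rfl⟩ := Submodule.mem_span_singleton.1 hx
    obtain ⟨β, rfl⟩ := Submodule.mem_span_singleton.1 hy
    rw [polar_smul_left, polar_smul_right, huz, smul_zero, smul_zero]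
  have hund : Nd Q (Submodule.span F {u}) := nd_span_singleton Q h2 u (by rw [hQu]; exact ha0)
  have hznd : Nd Q (Submodule.span F {z}) := nd_span_singleton Q h2 z hQz
  have hTnd := nd_sup Q _ _ hund hznd horth
  have hTdim := finrank_sup_of_orth Q _ _ hund horth
  rw [finrank_span_singleton hu0, finrank_span_singleton hz0] at hTdim
  refine ⟨Submodule.span F {u} ⊔ Submodule.span F {z}, ?_, hTnd, hTdim, ?_⟩
  · apply sup_le
    · rw [Submodule.span_singleton_le_iff_mem]
      exact huU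
    · rw [Submodule.span_singleton_le_iff_mem]
      exact hzU
  · obtain ⟨ε, hε, ht⟩ := typeOn_exists Q _ hTnd (by rw [hTdim]; exact ⟨1, rfl⟩)
    rcases hε with rfl | rfl
    · exfalso
      obtain ⟨U₀, hU₀T, hU₀ts, hU₀dim⟩ := (typeOn_one_iff Q _ hTnd
        (by rw [hTdim]; exact ⟨1, rfl⟩)).1 ht
      have hU₀0 : U₀ ≠ ⊥ := by
        intro h0
        rw [h0, finrank_bot, hTdim] at hU₀dim
        omega
      obtain ⟨w, hw, hw0⟩ := (Submodule.ne_bot_iff U₀).1 hU₀0
      obtain ⟨x, hx, y, hy, rfl⟩ := Submodule.mem_sup.1 (hU₀T hw)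
      obtain ⟨α, rfl⟩ := Submodule.mem_span_singleton.1 hx
      obtain ⟨β, rfl⟩ := Submodule.mem_span_singleton.1 hy
      have h4 := hU₀ts _ hw
      rw [QuadraticMap.map_add Q, QuadraticMap.map_smul, QuadraticMap.map_smul, polar_smul_left,
        polar_smul_right, huz, hQu, smul_zero, smul_zero, add_zero, smul_eq_mul, smul_eq_mul,
        ha] at h4
      have h5 : β * β * ν = α * α := by
        have h6 : Q z * (β * β * ν - α * α) = 0 := by
          field_simp at h4
          linear_combination h4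
        have := (mul_eq_zero.1 h6).resolve_left hQz
        linear_combination this
      by_cases hβ : β = 0
      · have hα : α = 0 := by
          rw [hβ] at h5
          have : α * α = 0 := by rw [← h5]; ring
          exact mul_self_eq_zero.1 this
        apply hw0
        rw [hα, hβ, zero_smul, zero_smul, add_zero]
      · apply hν
        refine ⟨α / β, ?_⟩
        field_simp
        linear_combination h5
    · exact ht

/-- nondegenerate subspaces of both types in every even dimension strictly between `0` and the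
dimension -/
theorem exists_typed_sub (h2 : (2 : F) ≠ 0) :
    ∀ (s : ℕ) (U : Submodule F V), Nd Q U → 0 < s → 2 * s < finrank F U →
      ∀ ε : ℤ, (ε = 1 ∨ ε = -1) →
        ∃ T : Submodule F V, T ≤ U ∧ Nd Q T ∧ finrank F T = 2 * s ∧ TypeOn Q T ε := by
  intro s
  induction s with
  | zero =>
    intro U _ h0
    omega
  | succ s ih =>
    intro U hU _ hdim ε hε
    obtain ⟨e, f, heU, hfU, he, hf, hef⟩ := exists_hyp_pair Q U hU (by omega)
    obtain ⟨hHnd, hHdim, hHt, hHU, hHorth⟩ := hyp_plane_facts Q U e f heU hfU he hf hef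
    rcases Nat.eq_zero_or_pos s with rfl | hs
    · rcases hε with rfl | rfl
      · exact ⟨_, hHU, hHnd, hHdim, hHt⟩
      · exact exists_minus_plane Q h2 U hU (by omega)
    · have hPnd : Nd Q (perpPair Q U e f) :=
        (nd_iff Q _).2 (perpPair_nd Q U ((nd_iff Q U).1 hU) heU hfU he hf hef)
      have hPdim := perpPair_finrank Q U heU hfU he hf hef
      obtain ⟨T', hT'P, hT'nd, hT'dim, hT't⟩ := ih (perpPair Q U e f) hPnd hs (by omega) ε hε
      have horth : ∀ a ∈ Submodule.span F {e, f}, ∀ b ∈ T', polar Q a b = 0 :=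
        fun a ha b hb => hHorth a ha b (hT'P hb)
      refine ⟨Submodule.span F {e, f} ⊔ T', sup_le hHU (hT'P.trans (perpPair_le Q U e f)),
        nd_sup Q _ _ hHnd hT'nd horth, ?_, ?_⟩
      · rw [finrank_sup_of_orth Q _ _ hHnd horth, hHdim, hT'dim]
        ring
      · have := typeOn_sup Q _ _ hHnd horth (by rw [hHdim]; exact ⟨1, rfl⟩)
          (by rw [hT'dim]; exact ⟨s, by ring⟩) hHt hT't
        rwa [one_mul] at this

end types

end Cfsg.Agent.Lib.Helper12.OrN
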