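import Mathlib
import Cfsg.Agent.Lib.Helper12.OrNB

set_option autoImplicit false
set_option linter.unusedSectionVars false

/-!
# Semisimple isometries of odd prime order: which nondegenerate subspaces of given dimension and
type are fixed
-/

namespace Cfsg.Agent.Lib.Helper12.OrN

open Module Polynomial QuadraticMap Cfsg.Agent.Lib.Helper12.Elus Cfsg.Agent.Lib.Helper12.Un
  Cfsg.Agent.Lib.Helper15 Cfsg.Agent.Lib.Helper15.QuadType

section ss

variable {F V : Type*} [Field F] [Fintype F] [AddCommGroup V] [Module F V]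
  [FiniteDimensional F V] {p : ℕ} [Fact p.Prime] [CharP F p]
  (Q : QuadraticForm F V) (y : V →ₗ[F] V) (r : ℕ) [Fact r.Prime]

/-- the type of a nondegenerate invariant subspace without fixed vectors -/
theorem type_of_fpf (hx : ∀ v, Q (y v) = Q v) (hrp : r ≠ p) (hy : y ^ r = 1)
    (W : Submodule F V) (hW : ∀ u ∈ W, y u ∈ W) (hWM : W ≤ movR y) (ε : ℤ)
    (ht : TypeOn Q W ε) :
    ((Fintype.card F : ℕ) : ZMod r) ^ (finrank F W / 2) = (ε : ZMod r) := by
  have hr : r.Prime := Fact.out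
  have hr0 : (r : F) ≠ 0 := cast_ne_zero_of_ne r hrp
  have : Finite V := Module.finite_of_finite F
  apply HasType.zmod ht r _ (card_not_dvd (F := F) r hr hrp)
  have h1 := QuadReal.dvd_card_level (OrthSemi.resQ Q W) (y.restrict hW) r hr
    (by
      rw [Module.End.pow_restrict]
      apply LinearMap.ext
      intro w
      apply Subtype.ext
      rw [LinearMap.coe_restrict_apply, hy]
      rfl)
    (fun u => hx u)
    (by
      intro v hv
      have h2 : (v : V) ∈ fixE y ⊓ movR y := by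
        refine ⟨(mem_fixE y v).2 ?_, hWM v.2⟩
        have := congrArg Subtype.val hv
        rwa [LinearMap.coe_restrict_apply] at this
      rw [fix_inf_mov y r hy hr0] at h2
      exact Subtype.ext ((Submodule.mem_bot F).1 h2))
    1 one_ne_zero
  exact h1

/-- a nontrivial isometry of order `r` moves at least a block -/
theorem le_finrank_mov (h2 : (2 : F) ≠ 0) (hQ : Nd Q ⊤) (hx : ∀ v, Q (y v) = Q v) (hrp : r ≠ p)
    (hr2 : r ≠ 2) (hy : y ^ r = 1) (hy1 : y ≠ 1) :
    Sp.blockDim (Fintype.card F) r ≤ finrank F (movR y) := by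
  have hr0 : (r : F) ≠ 0 := cast_ne_zero_of_ne r hrp
  have hMnd : Nd Q (movR y) :=
    (nd_iff Q _).2 (OrthSemi.ndOn_mov Q ((nd_iff Q ⊤).1 hQ) y hx r hy hr0)
  obtain ⟨t, ht, -⟩ := chain Q y r h2 hx hrp hr2 hy (movR y) (movR_invariant y) le_rfl hMnd
  rcases Nat.eq_zero_or_pos t with rfl | htpos
  · exfalso
    apply hy1
    rw [mul_zero] at ht
    have h0 : movR y = ⊥ := Submodule.finrank_eq_zero.1 ht
    apply LinearMap.ext
    intro v
    have : (y - 1) v ∈ movR y := ⟨v, rfl⟩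
    rw [h0, Submodule.mem_bot, LinearMap.sub_apply, sub_eq_zero] at this
    exact this
  · rw [ht]
    exact Nat.le_mul_of_pos_right _ htpos

theorem blockDim_even (q : ℕ) : Even (Sp.blockDim q r) := by
  unfold Sp.blockDim
  split_ifs with h
  · exact h
  · exact ⟨orderOf (q : ZMod r), by ring⟩

/-- the backward direction: constructing a fixed nondegenerate subspace of given dimension and
type -/
theorem bwd_ss (h2 : (2 : F) ≠ 0) (hQ : Nd Q ⊤) (hx : ∀ v, Q (y v) = Q v) (hrp : r ≠ p)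
    (hr2 : r ≠ 2) (hy : y ^ r = 1) (m : ℕ) (hme : Even m) (hmn : m < finrank F V)
    (ε : ℤ) (hε : ε = 1 ∨ ε = -1)
    (hcond : m % Sp.blockDim (Fintype.card F) r = 0 →
      ((Fintype.card F : ℕ) : ZMod r) ^ (m / 2) = (ε : ZMod r))
    (hrem : m % Sp.blockDim (Fintype.card F) r ≠ 0 →
      m % Sp.blockDim (Fintype.card F) r < finrank F V % Sp.blockDim (Fintype.card F) r) :
    ∃ W : Submodule F V, finrank F W = m ∧ Nd Q W ∧ TypeOn Q W ε ∧ ∀ u ∈ W, y u ∈ W := by
  have hr : r.Prime := Fact.out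
  have hr0 : (r : F) ≠ 0 := cast_ne_zero_of_ne r hrp
  have hr3 : 2 < r := lt_of_le_of_ne hr.two_le (Ne.symm hr2)
  have hone : (1 : ZMod r) ≠ -1 := by
    intro h
    have h3 : ((2 : ℕ) : ZMod r) = 0 := by
      push_cast
      linear_combination h
    rw [ZMod.natCast_eq_zero_iff] at h3
    exact absurd (Nat.le_of_dvd (by norm_num) h3) (by omega)
  set c := Sp.blockDim (Fintype.card F) r with hc
  have hcev : Even c := blockDim_even r _
  have hcpos : 0 < c := Sp.blockDim_pos (F := F) r hrp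
  have hQ' := (nd_iff Q ⊤).1 hQ
  have hMnd : Nd Q (movR y) := (nd_iff Q _).2 (OrthSemi.ndOn_mov Q hQ' y hx r hy hr0)
  have hFnd : Nd Q (fixE y) := (nd_iff Q _).2 (OrthSemi.ndOn_fix Q hQ' y hx r hy hr0)
  obtain ⟨t, ht, hsel⟩ := chain Q y r h2 hx hrp hr2 hy (movR y) (movR_invariant y) le_rfl hMnd
  rw [← hc] at ht hsel
  have hdims := finrank_fix_add_mov y
  rw [ht] at hdims
  -- the general construction: a block part plus a typed part of the fixed space
  have build : ∀ j : ℕ, j ≤ t → c * j ≤ m → 0 < m - c * j → m - c * j < finrank F (fixE y) →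
      ∃ W : Submodule F V, finrank F W = m ∧ Nd Q W ∧ TypeOn Q W ε ∧ ∀ u ∈ W, y u ∈ W := by
    intro j hjt hjm hpos hlt
    obtain ⟨W₁, hW₁inv, hW₁nd, hW₁M, hW₁dim⟩ := hsel j hjt
    obtain ⟨cj, hcj⟩ : ∃ cj, cj = c * j := ⟨_, rfl⟩
    rw [← hcj] at hjm hpos hlt hW₁dim
    have hW₁ev : Even (finrank F W₁) := by
      rw [hW₁dim, hcj]
      exact hcev.mul_right j
    obtain ⟨ε₁, hε₁, ht₁⟩ := typeOn_exists Q W₁ hW₁nd hW₁ev
    obtain ⟨a, ha⟩ := hme
    obtain ⟨b, hb⟩ := hW₁ev
    have hε' : ε * ε₁ = 1 ∨ ε * ε₁ = -1 := by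
      rcases hε with rfl | rfl <;> rcases hε₁ with rfl | rfl <;> simp
    obtain ⟨T, hTF, hTnd, hTdim, hTt⟩ := exists_typed_sub Q h2 (a - b) (fixE y) hFnd
      (by omega) (by omega) (ε * ε₁) hε'
    have horth : ∀ u ∈ W₁, ∀ v ∈ T, polar Q u v = 0 := by
      intro u hu v hv
      obtain ⟨w, rfl⟩ := hW₁M hu
      exact OrthSemi.mov_perp_fix Q y hx v ((mem_fixE y v).1 (hTF hv)) w
    refine ⟨W₁ ⊔ T, ?_, nd_sup Q W₁ T hW₁nd hTnd horth, ?_, ?_⟩
    · rw [finrank_sup_of_orth Q W₁ T hW₁nd horth, hTdim]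
      omega
    · have h3 := typeOn_sup Q W₁ T hW₁nd horth ⟨b, hb⟩ (by rw [hTdim]; exact ⟨a - b, by ring⟩)
        ht₁ hTt
      have h4 : ε₁ * (ε * ε₁) = ε := by
        rcases hε₁ with rfl | rfl <;> ring
      rwa [h4] at h3
    · exact sup_invariant y W₁ T hW₁inv (fixE_invariant y T hTF)
  have hdm := Nat.div_add_mod m c
  by_cases hjt : m / c ≤ t
  · by_cases h0 : m % c = 0
    · -- an exact sum of blocks
      obtain ⟨W₁, hW₁inv, hW₁nd, hW₁M, hW₁dim⟩ := hsel (m / c) hjt
      have hW₁m : finrank F W₁ = m := by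
        rw [hW₁dim]
        omega
      obtain ⟨ε₁, hε₁, ht₁⟩ := typeOn_exists Q W₁ hW₁nd (by rw [hW₁m]; exact hme)
      have h3 := type_of_fpf Q y r hx hrp hy W₁ hW₁inv hW₁M ε₁ ht₁
      rw [hW₁m, hcond h0] at h3
      have h4 : ε₁ = ε := by
        rcases hε with rfl | rfl <;> rcases hε₁ with rfl | rfl
        · rfl
        · exfalso
          apply hone
          push_cast at h3
          exact h3
        · exfalso
          apply hone
          push_cast at h3
          exact h3.symm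
        · rfl
      rw [h4] at ht₁
      exact ⟨W₁, hW₁m, hW₁nd, ht₁, hW₁inv⟩
    · have h5 := hrem h0
      have h6 : finrank F V % c ≤ finrank F (fixE y) := by
        have h7 : finrank F V % c = finrank F (fixE y) % c := by
          rw [← hdims, Nat.add_mul_mod_self_left]
        rw [h7]
        exact Nat.mod_le _ _
      exact build (m / c) hjt (by omega) (by omega) (by omega)
  · push Not at hjt
    have h5 : c * (t + 1) ≤ m := by
      have h6 : t + 1 ≤ m / c := hjt
      calc c * (t + 1) ≤ c * (m / c) := Nat.mul_le_mul_left c h6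
        _ ≤ m := Nat.mul_div_le m c
    have h6 : c * (t + 1) = c * t + c := by ring
    exact build t le_rfl (by omega) (by omega) (by omega)

/-- the forward direction: what a fixed nondegenerate subspace of an isometry with a small fixed
space looks like -/
theorem fwd_ss (h2 : (2 : F) ≠ 0) (hx : ∀ v, Q (y v) = Q v) (hrp : r ≠ p)
    (hr2 : r ≠ 2) (hy : y ^ r = 1)
    (hfix : finrank F (fixE y) < Sp.blockDim (Fintype.card F) r)
    (W : Submodule F V) (hWinv : ∀ u ∈ W, y u ∈ W) (hWnd : Nd Q W) (ε : ℤ)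
    (ht : TypeOn Q W ε) :
    finrank F W % Sp.blockDim (Fintype.card F) r ≤ finrank F (fixE y) ∧
    (finrank F W % Sp.blockDim (Fintype.card F) r = 0 →
      ((Fintype.card F : ℕ) : ZMod r) ^ (finrank F W / 2) = (ε : ZMod r)) := by
  have hr0 : (r : F) ≠ 0 := cast_ne_zero_of_ne r hrp
  have hRnd : Nd Q (W ⊓ movR y) :=
    ndOn_inf_mov (pB Q) y (pB_sym Q) (pB_iso Q y hx) r hy hr0 W hWinv hWnd
  obtain ⟨t, ht', -⟩ := chain Q y r h2 hx hrp hr2 hy (W ⊓ movR y)
    (Sp.inf_invariant y _ _ hWinv (movR_invariant y)) inf_le_right hRnd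
  obtain ⟨c, hc⟩ : ∃ c, c = Sp.blockDim (Fintype.card F) r := ⟨_, rfl⟩
  rw [← hc] at ht' hfix ⊢
  have hsplit := Sp.inv_split y r hy hr0 W hWinv
  have hdisj : (W ⊓ fixE y) ⊓ (W ⊓ movR y) = ⊥ := by
    rw [eq_bot_iff, ← fix_inf_mov y r hy hr0]
    exact inf_le_inf inf_le_right inf_le_right
  have hdim := Submodule.finrank_sup_add_finrank_inf_eq (W ⊓ fixE y) (W ⊓ movR y)
  rw [hsplit, hdisj, finrank_bot, add_zero, ht'] at hdim
  have hle : finrank F ↥(W ⊓ fixE y) ≤ finrank F (fixE y) := Submodule.finrank_mono inf_le_right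
  have hmod : finrank F W % c = finrank F ↥(W ⊓ fixE y) := by
    rw [hdim, Nat.add_mul_mod_self_left]
    exact Nat.mod_eq_of_lt (by omega)
  refine ⟨by omega, fun h0 => ?_⟩
  have hbot : W ⊓ fixE y = ⊥ := Submodule.finrank_eq_zero.1 (by omega)
  have hWM : W ≤ movR y := by
    rw [hbot, bot_sup_eq] at hsplit
    rw [← hsplit]
    exact inf_le_right
  exact type_of_fpf Q y r hx hrp hy W hWinv hWM ε ht

end ss

end Cfsg.Agent.Lib.Helper12.OrN
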