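import Mathlib
import Cfsg.Agent.Lib.Helper12.OrNC
import Cfsg.Agent.Lib.Helper15.NonsingPts
import Cfsg.Agent.Lib.Helper15.OrthReal

set_option autoImplicit false
set_option linter.unusedSectionVars false

/-!
# A semisimple element of odd prime order of the odd-dimensional orthogonal group with the smallest
possible fixed space
-/

namespace Cfsg.Agent.Lib.Helper12.OrN

open Module Polynomial QuadraticMap Cfsg.Agent.Lib.Helper12.Elus Cfsg.Agent.Lib.Helper15
open scoped Matrix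

universe u

section model

variable {F : Type u} [Field F]

theorem orthReal_of_qReal {N : ℕ} {f : F[X]} (hf : QuadReal.QReal N f) :
    OrthReal.OrthReal N f ∧ f.eval 1 ≠ 0 := by
  obtain ⟨W, _, _, _, T, Q, hnd, hinv, hpow, hcp, hfix⟩ := hf
  refine ⟨⟨W, inferInstance, inferInstance, inferInstance, T, polarBilin Q, ?_, ?_, ?_, hpow,
    hcp⟩, ?_⟩
  · intro u v
    rw [polarBilin_apply_apply, polarBilin_apply_apply, polar_comm]
  · intro u hu
    exact hnd.1 u hu
  · intro u v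
    exact OrthSemi.polar_iso Q T hinv u v
  · intro h0
    have hroot : T.charpoly.IsRoot 1 := by rw [hcp]; exact h0
    obtain ⟨v, hv⟩ :=
      ((Module.End.hasEigenvalue_iff_isRoot_charpoly T 1).2 hroot).exists_hasEigenvector
    have := hfix v (by rw [hv.apply_eq_smul, one_smul])
    exact hv.2 this

variable [Fintype F] {p : ℕ} [Fact p.Prime] [CharP F p]

theorem orderOf_dvd_blockDim (q r : ℕ) : orderOf (q : ZMod r) ∣ Sp.blockDim q r := by
  unfold Sp.blockDim
  split_ifs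
  · exact dvd_rfl
  · exact dvd_mul_left _ _

/-- the model element -/
theorem exists_model (h2 : (2 : F) ≠ 0) (r : ℕ) [Fact r.Prime] (hr2 : r ≠ 2) (hrp : r ≠ p)
    (d : ℕ) :
    ∃ B : Matrix (Unit ⊕ (Fin d ⊕ Fin d)) (Unit ⊕ (Fin d ⊕ Fin d)) F,
      (∀ u, Cfsg.quadFormOdd d F (B *ᵥ u) = Cfsg.quadFormOdd d F u) ∧ B ^ r = 1 ∧
      finrank F (fixE (Matrix.toLin' B)) ≤ (2 * d + 1) % Sp.blockDim (Fintype.card F) r := by
  classical
  have hr : r.Prime := Fact.out
  obtain ⟨c, hc⟩ : ∃ c, c = Sp.blockDim (Fintype.card F) r := ⟨_, rfl⟩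
  rw [← hc]
  have hcev : Even c := by rw [hc]; exact blockDim_even r _
  obtain ⟨c', hc'⟩ := hcev
  obtain ⟨k, hk⟩ : ∃ k, k = (2 * d + 1) / c := ⟨_, rfl⟩
  obtain ⟨ρ, hρ⟩ : ∃ ρ, ρ = (2 * d + 1) % c := ⟨_, rfl⟩
  rw [← hρ]
  have hdm : c * k + ρ = 2 * d + 1 := by rw [hk, hρ]; exact Nat.div_add_mod _ _
  have hidvd : orderOf ((Fintype.card F : ℕ) : ZMod r) ∣ 2 * (c' * k) := by
    have h1 : 2 * (c' * k) = c * k := by rw [hc']; ring
    rw [h1]
    exact Dvd.dvd.mul_right (by rw [hc]; exact orderOf_dvd_blockDim _ _) k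
  obtain ⟨f₀, hf₀, hdeg₀⟩ := NonsingPts.exists_qreal (F := F) rfl r _ hr hr2 hrp rfl (c' * k) hidvd
  obtain ⟨ho, hev1⟩ := orthReal_of_qReal hf₀
  have hf := (OrthReal.orthReal_fixed (F := F) r ρ).mul ho
  have hf₀0 : f₀ ≠ 0 := by
    intro h
    rw [h, eval_zero] at hev1
    exact hev1 rfl
  have hX : (X - 1 : F[X]) = X - C 1 := by rw [map_one]
  have hXne : (X - 1 : F[X]) ^ ρ ≠ 0 := by
    rw [hX]
    exact pow_ne_zero _ (X_sub_C_ne_zero 1)
  have hdeg : ((X - 1 : F[X]) ^ ρ * f₀).natDegree = 2 * d + 1 := by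
    rw [natDegree_mul hXne hf₀0, hX, natDegree_pow, natDegree_X_sub_C, hdeg₀, mul_one]
    have h1 : 2 * (c' * k) = c * k := by rw [hc']; ring
    omega
  obtain ⟨B, hB1, hB2, hB3⟩ := OrthReal.exists_orthogonal_odd h2 hf d hdeg
  refine ⟨B, hB1, hB3, ?_⟩
  have h3 := LinearMap.finrank_eigenspace_le (Matrix.toLin' B) 1
  have h4 : Module.End.eigenspace (Matrix.toLin' B) 1 = fixE (Matrix.toLin' B) := by
    rw [Module.End.eigenspace_def, one_smul]
    rfl
  rw [h4, Matrix.charpoly_toLin', hB2, rootMultiplicity_mul (mul_ne_zero hXne hf₀0), hX,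
    rootMultiplicity_X_sub_C_pow, rootMultiplicity_eq_zero (by exact hev1), add_zero] at h3
  exact h3

end model

end Cfsg.Agent.Lib.Helper12.OrN
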