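import Mathlib
import Cfsg.Agent.Lib.Helper12.OrNC
import Cfsg.Agent.S0750

set_option autoImplicit false
set_option linter.unusedSectionVars false
set_option linter.style.haveILetI false

/-!
# Counting nondegenerate subspaces of given dimension and type modulo a prime
-/

namespace Cfsg.Agent.Lib.Helper12.OrN

open Module QuadraticMap Cfsg.Agent.Lib.Helper12.Elus Cfsg.Agent.Lib.Helper12.Un
  Cfsg.Agent.Lib.Helper15 Cfsg.Agent.Lib.Helper15.QuadType

section maps

variable {F V V' : Type*} [Field F] [AddCommGroup V] [Module F V] [AddCommGroup V']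
  [Module F V'] (Q : QuadraticForm F V) (Q' : QuadraticForm F V')

theorem polar_map (f : V →ₗ[F] V') (hQ : ∀ v, Q' (f v) = Q v) (u v : V) :
    polar Q' (f u) (f v) = polar Q u v := by
  unfold polar
  rw [← map_add, hQ, hQ, hQ]

/-- nondegeneracy is invariant under isometries -/
theorem nd_map (f : V →ₗ[F] V') (hf : Function.Injective f) (hQ : ∀ v, Q' (f v) = Q v)
    (W : Submodule F V) : Nd Q' (W.map f) ↔ Nd Q W := by
  constructor
  · intro h u hu hu0
    obtain ⟨v', ⟨v, hv, rfl⟩, hne⟩ := h (f u) ⟨u, hu, rfl⟩ (fun h0 => hu0 (hf (by rw [h0, map_zero])))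
    refine ⟨v, hv, ?_⟩
    rw [pB_apply] at hne ⊢
    rwa [polar_map Q Q' f hQ] at hne
  · rintro h _ ⟨u, hu, rfl⟩ hu0
    obtain ⟨v, hv, hne⟩ := h u hu (fun h0 => hu0 (by rw [h0, map_zero]))
    refine ⟨f v, ⟨v, hv, rfl⟩, ?_⟩
    rw [pB_apply] at hne ⊢
    rwa [polar_map Q Q' f hQ]

end maps

section act

variable {F V : Type*} [Field F] [AddCommGroup V] [Module F V]

/-- linear automorphisms act on subspaces -/
@[reducible] def subAct : MulAction (V ≃ₗ[F] V) (Submodule F V) where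
  smul g W := W.map (g : V →ₗ[F] V)
  one_smul W := Submodule.map_id W
  mul_smul g h W := by
    show W.map ((g : V →ₗ[F] V).comp (h : V →ₗ[F] V)) =
      (W.map (h : V →ₗ[F] V)).map (g : V →ₗ[F] V)
    rw [Submodule.map_comp]

theorem card_orbit_dvd (G : Subgroup (V ≃ₗ[F] V)) (S : Set (Submodule F V))
    (W₁ : Submodule F V)
    (hS : ∀ W, W ∈ S ↔ ∃ g ∈ G, W₁.map ((g : V ≃ₗ[F] V) : V →ₗ[F] V) = W) :
    Nat.card S ∣ Nat.card G := by
  letI := subAct (F := F) (V := V)
  have h1 : S = MulAction.orbit G W₁ := by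
    ext W
    rw [hS]
    constructor
    · rintro ⟨g, hg, rfl⟩
      exact ⟨⟨g, hg⟩, rfl⟩
    · rintro ⟨⟨g, hg⟩, rfl⟩
      exact ⟨g, hg, rfl⟩
  rw [h1, Nat.card_congr (MulAction.orbitEquivQuotientStabilizer G W₁)]
  exact Subgroup.index_dvd_card _

/-- the isometry group of a quadratic form -/
def isoGrp (Q : QuadraticForm F V) : Subgroup (V ≃ₗ[F] V) where
  carrier := {g | ∀ v, Q (g v) = Q v}
  mul_mem' := by
    intro a b ha hb v
    show Q (a (b v)) = Q v
    rw [ha, hb]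
  one_mem' := fun v => rfl
  inv_mem' := by
    intro a ha v
    have h1 := ha (a⁻¹ v)
    have h2 : a (a⁻¹ v) = v := a.apply_symm_apply v
    rw [h2] at h1
    exact h1.symm

theorem mem_isoGrp (Q : QuadraticForm F V) (g : V ≃ₗ[F] V) :
    g ∈ isoGrp Q ↔ ∀ v, Q (g v) = Q v := Iff.rfl

theorem coe_pow_apply (g : V ≃ₗ[F] V) (n : ℕ) :
    ((g ^ n : V ≃ₗ[F] V) : V →ₗ[F] V) = (g : V →ₗ[F] V) ^ n := by
  induction n with
  | zero => rfl
  | succ n ih =>
    rw [pow_succ, pow_succ, ← ih]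
    rfl

end act

section count

variable {F V : Type*} [Field F] [Fintype F] [AddCommGroup V] [Module F V]
  [FiniteDimensional F V] {p : ℕ} [Fact p.Prime] [CharP F p] (Q : QuadraticForm F V)
  (r : ℕ) [Fact r.Prime]

/-- the order of the isometry group of a small space is prime to `r` -/
theorem not_dvd_card_isoGrp (h2 : (2 : F) ≠ 0) (hQ : Nd Q ⊤) (hrp : r ≠ p) (hr2 : r ≠ 2)
    (hdim : finrank F V < Sp.blockDim (Fintype.card F) r) : ¬ r ∣ Nat.card (isoGrp Q) := by
  intro hdvd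
  have : Finite V := Module.finite_of_finite F
  have : Finite (V ≃ₗ[F] V) := DFunLike.finite _
  obtain ⟨g, hg⟩ := exists_prime_orderOf_dvd_card' r hdvd
  have hgr : (g : V ≃ₗ[F] V) ^ r = 1 := by
    have := pow_orderOf_eq_one g
    rw [hg] at this
    have h3 := congrArg Subtype.val this
    exact h3
  have hy : ((g : V ≃ₗ[F] V) : V →ₗ[F] V) ^ r = 1 := by
    rw [← coe_pow_apply, hgr]
    rfl
  have hy1 : ((g : V ≃ₗ[F] V) : V →ₗ[F] V) ≠ 1 := by
    intro h1
    have h3 : g = 1 := by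
      apply Subtype.ext
      apply LinearEquiv.toLinearMap_injective
      exact h1
    rw [h3, orderOf_one] at hg
    exact (Fact.out : r.Prime).one_lt.ne hg
  have h4 := le_finrank_mov Q _ r h2 hQ (fun v => g.2 v) hrp hr2 hy hy1
  have h5 := Submodule.finrank_le (movR ((g : V ≃ₗ[F] V) : V →ₗ[F] V))
  omega

/-- the nondegenerate subspaces of given dimension and type -/
def typedSet (m : ℕ) (ε : ℤ) : Set (Submodule F V) :=
  {W | finrank F W = m ∧ Nd Q W ∧ TypeOn Q W ε}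

/-- the isometry group is transitive on nondegenerate subspaces of given dimension and type -/
theorem typedSet_orbit (hQ : (polarBilin Q).Nondegenerate) (m : ℕ) (hm : 2 ≤ m) (hme : Even m)
    (ε : ℤ) (hε : ε = 1 ∨ ε = -1) (W₁ : Submodule F V) (hW₁ : W₁ ∈ typedSet Q m ε)
    (W : Submodule F V) :
    W ∈ typedSet Q m ε ↔ ∃ g ∈ isoGrp Q, W₁.map ((g : V ≃ₗ[F] V) : V →ₗ[F] V) = W := by
  obtain ⟨hd₁, hnd₁, ht₁⟩ := hW₁
  constructor
  · rintro ⟨hd, hnd, ht⟩
    obtain ⟨n, hn⟩ := hme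
    have hn1 : 1 ≤ n := by omega
    obtain ⟨e, he⟩ := PolarForms.exists_equiv_of_same_type (OrthSemi.resQ Q W)
      (OrthSemi.nondegenerate_resQ Q W ((nd_iff Q W).1 hnd)) (OrthSemi.resQ Q W₁)
      (OrthSemi.nondegenerate_resQ Q W₁ ((nd_iff Q W₁).1 hnd₁)) n hn1 (by omega) (by omega) ε hε
      (by
        have : finrank F W / 2 = n := by omega
        rw [← this]
        exact ht)
      (by
        have : finrank F W₁ / 2 = n := by omega
        rw [← this]
        exact ht₁)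
    obtain ⟨g, hg1, hg2⟩ := Cfsg.Agent.S0750.S0750aux.main Q hQ W₁ W e (fun x => he x)
    refine ⟨g, hg1, ?_⟩
    apply le_antisymm
    · rintro _ ⟨x, hx, rfl⟩
      have := hg2 ⟨x, hx⟩
      show g x ∈ W
      rw [show g x = ((e ⟨x, hx⟩ : W) : V) from this]
      exact (e ⟨x, hx⟩).2
    · intro w hw
      refine ⟨(e.symm ⟨w, hw⟩ : W₁), (e.symm ⟨w, hw⟩).2, ?_⟩
      have := hg2 (e.symm ⟨w, hw⟩)
      rw [LinearEquiv.apply_symm_apply] at this
      exact this
  · rintro ⟨g, hg, rfl⟩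
    refine ⟨?_, ?_, ?_⟩
    · rw [← hd₁]
      exact LinearEquiv.finrank_map_eq g W₁
    · exact (nd_map Q Q (g : V →ₗ[F] V) g.injective hg W₁).2 hnd₁
    · exact typeOn_map Q Q (g : V →ₗ[F] V) g.injective hg W₁ ε ht₁

/-- in a small space the number of nondegenerate subspaces of given dimension and type is prime
to `r` -/
theorem not_dvd_card_typedSet (h2 : (2 : F) ≠ 0) (hQ : (polarBilin Q).Nondegenerate) (hrp : r ≠ p)
    (hr2 : r ≠ 2) (hdim : finrank F V < Sp.blockDim (Fintype.card F) r) (m : ℕ) (hm : 2 ≤ m)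
    (hme : Even m) (ε : ℤ) (hε : ε = 1 ∨ ε = -1) (hne : (typedSet Q m ε).Nonempty) :
    ¬ r ∣ Nat.card (typedSet Q m ε) := by
  obtain ⟨W₁, hW₁⟩ := hne
  have h1 := card_orbit_dvd (isoGrp Q) (typedSet Q m ε) W₁
    (typedSet_orbit Q hQ m hm hme ε hε W₁ hW₁)
  intro h3
  exact not_dvd_card_isoGrp Q r h2 (nd_top Q hQ) hrp hr2 hdim (h3.trans h1)

end count

end Cfsg.Agent.Lib.Helper12.OrN
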