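import Mathlib
import Cfsg.Agent.Lib.Helper12.OrNE

set_option autoImplicit false
set_option linter.unusedSectionVars false
set_option linter.style.haveILetI false

/-!
# Counting nondegenerate subspaces modulo `r` via the fixed points of an element of order `r`
-/

namespace Cfsg.Agent.Lib.Helper12.OrN

open Module QuadraticMap Cfsg.Agent.Lib.Helper12.Elus Cfsg.Agent.Lib.Helper12.Un
  Cfsg.Agent.Lib.Helper15 Cfsg.Agent.Lib.Helper15.QuadType

section comap

variable {F V V' : Type*} [Field F] [Fintype F] [AddCommGroup V] [Module F V]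
  [FiniteDimensional F V] [AddCommGroup V'] [Module F V'] [FiniteDimensional F V']
  (Q : QuadraticForm F V) (Q' : QuadraticForm F V')

theorem typeOn_of_map (f : V →ₗ[F] V') (hf : Function.Injective f)
    (hQ : ∀ v, Q' (f v) = Q v) (W : Submodule F V) (ε : ℤ) (h : TypeOn Q' (W.map f) ε) :
    TypeOn Q W ε := by
  unfold TypeOn at h ⊢
  have e := Submodule.equivMapOfInjective f hf W
  rw [← e.finrank_eq] at h
  refine h.congr (Submodule.equivMapOfInjective f hf W).symm.toEquiv (fun w => ?_)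
  obtain ⟨v, rfl⟩ := (Submodule.equivMapOfInjective f hf W).surjective w
  show Q ((((Submodule.equivMapOfInjective f hf W).symm
    ((Submodule.equivMapOfInjective f hf W) v)) : W) : V) = Q' _
  rw [LinearEquiv.symm_apply_apply, Submodule.coe_equivMapOfInjective_apply, hQ]

end comap

section count

variable {F V : Type*} [Field F] [Fintype F] [AddCommGroup V] [Module F V]
  [FiniteDimensional F V] {p : ℕ} [Fact p.Prime] [CharP F p] (Q : QuadraticForm F V)
  (r : ℕ) [Fact r.Prime]

/-- small fixed nondegenerate subspaces lie in the fixed space -/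
theorem le_fix_of_small (h2 : (2 : F) ≠ 0) (y : V →ₗ[F] V) (hx : ∀ v, Q (y v) = Q v)
    (hrp : r ≠ p) (hr2 : r ≠ 2) (hy : y ^ r = 1) (W : Submodule F V)
    (hWinv : ∀ u ∈ W, y u ∈ W) (hWnd : Nd Q W)
    (hsmall : finrank F W < Sp.blockDim (Fintype.card F) r) : W ≤ fixE y := by
  have hr0 : (r : F) ≠ 0 := cast_ne_zero_of_ne r hrp
  have hRnd : Nd Q (W ⊓ movR y) :=
    ndOn_inf_mov (pB Q) y (pB_sym Q) (pB_iso Q y hx) r hy hr0 W hWinv hWnd
  obtain ⟨t, ht', -⟩ := chain Q y r h2 hx hrp hr2 hy (W ⊓ movR y)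
    (Sp.inf_invariant y _ _ hWinv (movR_invariant y)) inf_le_right hRnd
  have hle : finrank F ↥(W ⊓ movR y) ≤ finrank F W := Submodule.finrank_mono inf_le_left
  have ht0 : t = 0 := by
    by_contra hne
    have : Sp.blockDim (Fintype.card F) r ≤ Sp.blockDim (Fintype.card F) r * t :=
      Nat.le_mul_of_pos_right _ (Nat.pos_of_ne_zero hne)
    omega
  rw [ht0, mul_zero] at ht'
  have hbot : W ⊓ movR y = ⊥ := Submodule.finrank_eq_zero.1 ht'
  have hsplit := Sp.inv_split y r hy hr0 W hWinv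
  rw [hbot, sup_bot_eq] at hsplit
  rw [← hsplit]
  exact inf_le_right

/-- the number of nondegenerate subspaces of given small dimension and type is prime to `r` if
some element of order dividing `r` with a small fixed space fixes one of them -/
theorem not_dvd_card_of_fixed (h2 : (2 : F) ≠ 0) (hQ : (polarBilin Q).Nondegenerate)
    (hrp : r ≠ p) (hr2 : r ≠ 2) (g : V ≃ₗ[F] V) (hg : ∀ v, Q (g v) = Q v) (hgr : g ^ r = 1)
    (hfix : finrank F (fixE ((g : V ≃ₗ[F] V) : V →ₗ[F] V)) < Sp.blockDim (Fintype.card F) r)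
    (m : ℕ) (hm : 2 ≤ m) (hme : Even m) (hmc : m < Sp.blockDim (Fintype.card F) r)
    (ε : ℤ) (hε : ε = 1 ∨ ε = -1)
    (hex : ∃ W ∈ typedSet Q m ε, ∀ u ∈ W, g u ∈ W) :
    ¬ r ∣ Nat.card (typedSet Q m ε) := by
  classical
  have hr : r.Prime := Fact.out
  have hr0 : (r : F) ≠ 0 := cast_ne_zero_of_ne r hrp
  have hVfin : Finite V := Module.finite_of_finite F
  have hSfin : Finite (Submodule F V) := Finite.of_injective (fun W => (W : Set V))
    SetLike.coe_injective
  obtain ⟨y, hydef⟩ : ∃ y : V →ₗ[F] V, y = ((g : V ≃ₗ[F] V) : V →ₗ[F] V) := ⟨_, rfl⟩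
  rw [← hydef] at hfix
  have hyg : ∀ v, y v = g v := fun v => by rw [hydef]; rfl
  have hx : ∀ v, Q (y v) = Q v := fun v => by rw [hyg]; exact hg v
  have hy : y ^ r = 1 := by
    rw [hydef, ← coe_pow_apply, hgr]
    rfl
  have hyinj : Function.Injective y := by
    rw [hydef]
    exact g.injective
  obtain ⟨C, hC⟩ : ∃ C, C = fixE y := ⟨_, rfl⟩
  rw [← hC] at hfix
  have hCnd : Nd Q C := by
    rw [hC]
    exact (nd_iff Q _).2 (OrthSemi.ndOn_fix Q (ndOn_top Q hQ) y hx r hy hr0)
  have hQC : (polarBilin (OrthSemi.resQ Q C)).Nondegenerate :=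
    OrthSemi.nondegenerate_resQ Q C ((nd_iff Q C).1 hCnd)
  have hsubQ : ∀ v : C, Q (C.subtype v) = OrthSemi.resQ Q C v := fun v => rfl
  have hsubinj : Function.Injective C.subtype := Submodule.injective_subtype C
  -- the permutation
  have hmapmem : ∀ W ∈ typedSet Q m ε, W.map y ∈ typedSet Q m ε := by
    rintro W ⟨h1, h3, h4⟩
    refine ⟨?_, (nd_map Q Q y hyinj hx W).2 h3, typeOn_map Q Q y hyinj hx W ε h4⟩
    rw [← h1]
    exact (Submodule.equivMapOfInjective y hyinj W).finrank_eq.symm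
  have : Fintype ↥(typedSet Q m ε) := Fintype.ofFinite _
  let f : Function.End ↥(typedSet Q m ε) := fun W => ⟨W.1.map y, hmapmem W.1 W.2⟩
  have hfk : ∀ (k : ℕ) (W : ↥(typedSet Q m ε)), ((f ^ k) W).1 = W.1.map (y ^ k) := by
    intro k
    induction k with
    | zero =>
      intro W
      show W.1 = W.1.map (1 : V →ₗ[F] V)
      exact (Submodule.map_id W.1).symm
    | succ k ih =>
      intro W
      rw [pow_succ', pow_succ']
      show ((f ^ k) W).1.map y = W.1.map (y * y ^ k)
      rw [ih, Module.End.mul_eq_comp, Submodule.map_comp]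
  have hf : f ^ r ^ 1 = 1 := by
    funext W
    apply Subtype.ext
    rw [pow_one, hfk, hy]
    exact Submodule.map_id W.1
  have h1 := Equiv.Perm.card_fixedPoints_modEq hf
  -- the fixed points
  have φmem : ∀ W' ∈ typedSet (OrthSemi.resQ Q C) m ε, W'.map C.subtype ∈ typedSet Q m ε := by
    rintro W' ⟨h3, h4, h5⟩
    refine ⟨?_, (nd_map (OrthSemi.resQ Q C) Q C.subtype hsubinj hsubQ W').2 h4,
      typeOn_map (OrthSemi.resQ Q C) Q C.subtype hsubinj hsubQ W' ε h5⟩
    rw [Submodule.finrank_map_subtype_eq, h3]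
  have hCfix : ∀ v ∈ C, y v = v := by
    intro v hv
    rw [hC] at hv
    exact (mem_fixE y v).1 hv
  have φfix : ∀ W' : Submodule F C, (W'.map C.subtype).map y = W'.map C.subtype := by
    intro W'
    apply le_antisymm
    · rintro _ ⟨_, ⟨w, hw, rfl⟩, rfl⟩
      have h3 : y (C.subtype w) = C.subtype w := hCfix _ w.2
      rw [h3]
      exact ⟨w, hw, rfl⟩
    · rintro _ ⟨w, hw, rfl⟩
      have h3 : y (C.subtype w) = C.subtype w := hCfix _ w.2
      exact ⟨C.subtype w, ⟨w, hw, rfl⟩, h3⟩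
  have ψmem : ∀ W ∈ typedSet Q m ε, W.map y = W →
      W.comap C.subtype ∈ typedSet (OrthSemi.resQ Q C) m ε ∧
        (W.comap C.subtype).map C.subtype = W := by
    rintro W ⟨h3, h4, h5⟩ hWy
    have hWinv : ∀ u ∈ W, y u ∈ W := by
      intro u hu
      rw [← hWy]
      exact ⟨u, hu, rfl⟩
    have hWC : W ≤ C := by
      rw [hC]
      exact le_fix_of_small Q r h2 y hx hrp hr2 hy W hWinv h4 (by rw [h3]; exact hmc)
    have h6 : (W.comap C.subtype).map C.subtype = W := by
      rw [Submodule.map_comap_subtype]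
      exact inf_eq_right.2 hWC
    refine ⟨⟨?_, ?_, ?_⟩, h6⟩
    · rw [← Submodule.finrank_map_subtype_eq, h6, h3]
    · rw [← nd_map (OrthSemi.resQ Q C) Q C.subtype hsubinj hsubQ, h6]
      exact h4
    · apply typeOn_of_map (OrthSemi.resQ Q C) Q C.subtype hsubinj hsubQ
      rw [h6]
      exact h5
  have hcard : Fintype.card (Function.fixedPoints f) =
      Nat.card (typedSet (OrthSemi.resQ Q C) m ε) := by
    rw [← Nat.card_eq_fintype_card]
    symm
    apply Nat.card_congr
    refine Equiv.ofBijective (fun W' => ⟨⟨W'.1.map C.subtype, φmem W'.1 W'.2⟩,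
      Subtype.ext (φfix W'.1)⟩) ⟨?_, ?_⟩
    · intro W₁ W₂ h12
      have h3 : W₁.1.map C.subtype = W₂.1.map C.subtype :=
        congrArg (fun z : Function.fixedPoints f => z.1.1) h12
      exact Subtype.ext (Submodule.map_injective_of_injective hsubinj h3)
    · rintro ⟨⟨W, hW⟩, hWfix⟩
      have hWy : W.map y = W := congrArg Subtype.val hWfix
      obtain ⟨h3, h4⟩ := ψmem W hW hWy
      exact ⟨⟨W.comap C.subtype, h3⟩, Subtype.ext (Subtype.ext h4)⟩
  -- the count in the fixed space
  have hne : (typedSet (OrthSemi.resQ Q C) m ε).Nonempty := by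
    obtain ⟨W, hW, hWinv⟩ := hex
    have hWy : W.map y = W := by
      apply le_antisymm
      · rintro _ ⟨u, hu, rfl⟩
        rw [hyg]
        exact hWinv u hu
      · apply (Submodule.eq_of_le_of_finrank_eq _ _).ge
        · rintro _ ⟨u, hu, rfl⟩
          rw [hyg]
          exact hWinv u hu
        · exact (Submodule.equivMapOfInjective y hyinj W).finrank_eq.symm
    exact ⟨_, (ψmem W hW hWy).1⟩
  have h5 := not_dvd_card_typedSet (OrthSemi.resQ Q C) r h2 hQC hrp hr2 hfix m hm hme ε hε hne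
  intro hdvd
  apply h5
  rw [← hcard]
  rw [Nat.card_eq_fintype_card] at hdvd
  exact (Nat.modEq_zero_iff_dvd).1 (h1.symm.trans ((Nat.modEq_zero_iff_dvd).2 hdvd))

end count

end Cfsg.Agent.Lib.Helper12.OrN
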