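import Mathlib
import Cfsg.Agent.Lib.Helper12.OrNA
import Cfsg.Agent.Lib.Helper25.SpinIndex

set_option autoImplicit false
set_option linter.unusedSectionVars false

/-!
# Involutions of quadratic spaces in odd characteristic: fixed nondegenerate subspaces of given
dimension and type
-/

namespace Cfsg.Agent.Lib.Helper12.OrN

open Module QuadraticMap Cfsg.Agent.Lib.Helper12.Un Cfsg.Agent.Lib.Helper15
  Cfsg.Agent.Lib.Helper15.QuadType

section plane

variable {F V : Type*} [Field F] [Fintype F] [AddCommGroup V] [Module F V]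
  [FiniteDimensional F V] (Q : QuadraticForm F V)

/-- the plane spanned by two orthogonal nonsingular vectors: nondegeneracy and type -/
theorem plane_facts (h2 : (2 : F) ≠ 0) (v u : V) (hv : Q v ≠ 0) (hu : Q u ≠ 0)
    (hvu : polar Q v u = 0) :
    Nd Q (Submodule.span F {v} ⊔ Submodule.span F {u}) ∧
      finrank F ↥(Submodule.span F {v} ⊔ Submodule.span F {u}) = 2 ∧
      (IsSquare (-(Q v * Q u)) → TypeOn Q (Submodule.span F {v} ⊔ Submodule.span F {u}) 1) ∧
      (¬ IsSquare (-(Q v * Q u)) →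
        TypeOn Q (Submodule.span F {v} ⊔ Submodule.span F {u}) (-1)) := by
  have hv0 : v ≠ 0 := by
    rintro rfl
    rw [QuadraticMap.map_zero] at hv
    exact hv rfl
  have hu0 : u ≠ 0 := by
    rintro rfl
    rw [QuadraticMap.map_zero] at hu
    exact hu rfl
  have horth : ∀ x ∈ Submodule.span F {v}, ∀ y ∈ Submodule.span F {u}, polar Q x y = 0 := by
    intro x hx y hy
    obtain ⟨α, rfl⟩ := Submodule.mem_span_singleton.1 hx
    obtain ⟨β, rfl⟩ := Submodule.mem_span_singleton.1 hy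
    rw [polar_smul_left, polar_smul_right, hvu, smul_zero, smul_zero]
  have hvnd : Nd Q (Submodule.span F {v}) := nd_span_singleton Q h2 v hv
  have hund : Nd Q (Submodule.span F {u}) := nd_span_singleton Q h2 u hu
  have hLnd := nd_sup Q _ _ hvnd hund horth
  have hLdim := finrank_sup_of_orth Q _ _ hvnd horth
  rw [finrank_span_singleton hv0, finrank_span_singleton hu0] at hLdim
  have hLev : Even (finrank F ↥(Submodule.span F {v} ⊔ Submodule.span F {u})) := by
    rw [hLdim]
    exact ⟨1, rfl⟩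
  have hQlin : ∀ α β : F, Q (α • v + β • u) = α * α * Q v + β * β * Q u := by
    intro α β
    rw [QuadraticMap.map_add Q, QuadraticMap.map_smul, QuadraticMap.map_smul, polar_smul_left,
      polar_smul_right, hvu, smul_zero, smul_zero, add_zero, smul_eq_mul, smul_eq_mul]
  have hvmem : v ∈ Submodule.span F {v} ⊔ Submodule.span F {u} :=
    (le_sup_left : Submodule.span F {v} ≤ _) (Submodule.mem_span_singleton_self v)
  have humem : u ∈ Submodule.span F {v} ⊔ Submodule.span F {u} :=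
    (le_sup_right : Submodule.span F {u} ≤ _) (Submodule.mem_span_singleton_self u)
  refine ⟨hLnd, hLdim, ?_, ?_⟩
  · rintro ⟨s, hs⟩
    rw [typeOn_one_iff Q _ hLnd hLev]
    have hw0 : s • v + Q v • u ≠ 0 := by
      intro h0
      have h3 : polar Q (s • v + Q v • u) u = 0 := by rw [h0, polar_zero_left]
      rw [polar_add_left, polar_smul_left, polar_smul_left, hvu, smul_zero, zero_add, polar_self,
        smul_eq_mul, two_nsmul, ← two_mul] at h3
      rcases mul_eq_zero.1 h3 with h4 | h4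
      · exact hv h4
      · rcases mul_eq_zero.1 h4 with h5 | h5
        · exact h2 h5
        · exact hu h5
    refine ⟨Submodule.span F {s • v + Q v • u}, ?_, ?_, ?_⟩
    · rw [Submodule.span_singleton_le_iff_mem]
      exact Submodule.add_mem _ (Submodule.smul_mem _ _ hvmem) (Submodule.smul_mem _ _ humem)
    · intro w hw
      obtain ⟨c, rfl⟩ := Submodule.mem_span_singleton.1 hw
      rw [QuadraticMap.map_smul, hQlin, smul_eq_mul]
      have : s * s * Q v + Q v * Q v * Q u = 0 := by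
        rw [← hs]
        ring
      rw [this, mul_zero]
    · rw [finrank_span_singleton hw0, hLdim]
  · intro hns
    obtain ⟨ε, hε, ht⟩ := typeOn_exists Q _ hLnd hLev
    rcases hε with rfl | rfl
    · exfalso
      obtain ⟨U₀, hU₀T, hU₀ts, hU₀dim⟩ := (typeOn_one_iff Q _ hLnd hLev).1 ht
      have hU₀0 : U₀ ≠ ⊥ := by
        intro h0
        rw [h0, finrank_bot, hLdim] at hU₀dim
        omega
      obtain ⟨w, hw, hw0⟩ := (Submodule.ne_bot_iff U₀).1 hU₀0
      obtain ⟨x, hx, y, hy, rfl⟩ := Submodule.mem_sup.1 (hU₀T hw)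
      obtain ⟨α, rfl⟩ := Submodule.mem_span_singleton.1 hx
      obtain ⟨β, rfl⟩ := Submodule.mem_span_singleton.1 hy
      have h4 := hU₀ts _ hw
      rw [hQlin] at h4
      by_cases hβ : β = 0
      · have hα : α = 0 := by
          rw [hβ] at h4
          have h5 : α * α * Q v = 0 := by linear_combination h4
          rcases mul_eq_zero.1 h5 with h6 | h6
          · exact mul_self_eq_zero.1 h6
          · exact absurd h6 hv
        apply hw0
        rw [hα, hβ, zero_smul, zero_smul, add_zero]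
      · apply hns
        refine ⟨α * Q v / β, ?_⟩
        rw [div_mul_div_comm, eq_div_iff (mul_ne_zero hβ hβ)]
        linear_combination (-(Q v)) * h4
    · exact ht

end plane

section invol

variable {F V : Type*} [Field F] [Fintype F] [AddCommGroup V] [Module F V]
  [FiniteDimensional F V] (Q : QuadraticForm F V)

/-- an isometric involution whose fixed space has odd dimension fixes nondegenerate subspaces
of every even dimension and type -/
theorem bwd_invol (h2 : (2 : F) ≠ 0) (hQ : (polarBilin Q).Nondegenerate) (t : V →ₗ[F] V)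
    (ht : ∀ v, Q (t v) = Q v) (htt : ∀ v, t (t v) = v)
    (hodd : Odd (finrank F (LinearMap.ker (t - LinearMap.id))))
    (he : 2 ≤ finrank F (LinearMap.ker (t + LinearMap.id))) (m : ℕ) (hm : 2 ≤ m)
    (hme : Even m) (hmn : m < finrank F V) (ε : ℤ) (hε : ε = 1 ∨ ε = -1) :
    ∃ W : Submodule F V, finrank F W = m ∧ Nd Q W ∧ TypeOn Q W ε ∧ ∀ u ∈ W, t u ∈ W := by
  have hQ' : Cfsg.Agent.Lib.Helper15.NdOn Q ⊤ := ndOn_top Q hQ
  obtain ⟨P, hP⟩ : ∃ P, P = LinearMap.ker (t - LinearMap.id) := ⟨_, rfl⟩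
  obtain ⟨N, hN⟩ : ∃ N, N = LinearMap.ker (t + LinearMap.id) := ⟨_, rfl⟩
  rw [← hP] at hodd
  rw [← hN] at he
  have hPfix : ∀ a ∈ P, t a = a := fun a ha => (OrthSemi.mem_ker_sub_id t a).1 (hP ▸ ha)
  have hNneg : ∀ b ∈ N, t b = -b := fun b hb => (OrthSemi.mem_ker_add_id t b).1 (hN ▸ hb)
  have hPN : ∀ a ∈ P, ∀ b ∈ N, polar Q a b = 0 := fun a ha b hb =>
    OrthSemi.invol_orth Q h2 t ht a b (hPfix a ha) (hNneg b hb)
  have hsplit : P ⊔ N = ⊤ := by
    have := OrthSemi.invol_split h2 t htt ⊤ (fun _ _ => Submodule.mem_top)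
    rwa [top_inf_eq, top_inf_eq, ← hP, ← hN] at this
  have hdims : finrank F P + finrank F N = finrank F V := by
    have := OrthSemi.invol_finrank h2 t htt ⊤ (fun _ _ => Submodule.mem_top)
    rwa [top_inf_eq, top_inf_eq, ← hP, ← hN, finrank_top] at this
  have hPnd : Nd Q P := (nd_iff Q P).2 (OrthSemi.ndOn_left_of_orth Q P N ⊤ hsplit hPN hQ')
  have hNnd : Nd Q N := (nd_iff Q N).2 (OrthSemi.ndOn_right_of_orth Q P N ⊤ hsplit hPN hQ')
  -- a nonsingular fixed vector
  have hP0 : P ≠ ⊥ := by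
    intro h0
    rw [h0, finrank_bot] at hodd
    exact absurd hodd (by decide)
  obtain ⟨v, hvP, hQv⟩ := exists_nonsing Q P hPnd hP0
  have hv0 : v ≠ 0 := by
    rintro rfl
    rw [QuadraticMap.map_zero] at hQv
    exact hQv rfl
  have hvle : Submodule.span F {v} ≤ P := by
    rw [Submodule.span_singleton_le_iff_mem]
    exact hvP
  have hvnd : Nd Q (Submodule.span F {v}) := nd_span_singleton Q h2 v hQv
  have hP'nd : Nd Q (P ⊓ orth (pB Q) (Submodule.span F {v})) :=
    ndOn_inf_orth (pB Q) pB_id (pB_sym Q) P _ hPnd hvle hvnd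
  have hP'dim := finrank_inf_orth (pB Q) pB_id (pB_sym Q) P _ hvle hvnd
  rw [finrank_span_singleton hv0] at hP'dim
  -- the even parts
  obtain ⟨f', hf'⟩ := hodd
  obtain ⟨m', hm'⟩ := hme
  obtain ⟨a', ha'⟩ : ∃ a', a' = min (m - 2) (finrank F P - 1) := ⟨_, rfl⟩
  have ha'ev : Even a' := by
    rcases le_total (m - 2) (finrank F P - 1) with h | h
    · rw [ha', min_eq_left h]
      exact ⟨m' - 1, by omega⟩
    · rw [ha', min_eq_right h]
      exact ⟨f', by omega⟩
  obtain ⟨Tp, hTple, hTpnd, hTpdim⟩ := exists_nd_sub Q h2 _ hP'nd a' (by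
    rw [ha']
    have := min_le_right (m - 2) (finrank F P - 1)
    omega)
  obtain ⟨Tn, hTnle, hTnnd, hTndim⟩ := exists_nd_sub Q h2 N hNnd (m - 2 - a') (by
    rw [ha']
    rcases le_total (m - 2) (finrank F P - 1) with h | h
    · rw [min_eq_left h]
      omega
    · rw [min_eq_right h]
      omega)
  have hb'ev : Even (m - 2 - a') := by
    obtain ⟨a'', ha''⟩ := ha'ev
    exact ⟨m' - 1 - a'', by omega⟩
  obtain ⟨εp, hεp, htp⟩ := typeOn_exists Q Tp hTpnd (by rw [hTpdim]; exact ha'ev)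
  obtain ⟨εn, hεn, htn⟩ := typeOn_exists Q Tn hTnnd (by rw [hTndim]; exact hb'ev)
  -- the remaining part of the `-1`-eigenspace
  have hRnd : Nd Q (N ⊓ orth (pB Q) Tn) :=
    ndOn_inf_orth (pB Q) pB_id (pB_sym Q) N _ hNnd hTnle hTnnd
  have hRdim := finrank_inf_orth (pB Q) pB_id (pB_sym Q) N _ hTnle hTnnd
  rw [hTndim] at hRdim
  have hR2 : 2 ≤ finrank F ↥(N ⊓ orth (pB Q) Tn) := by
    rw [ha'] at hRdim
    rcases le_total (m - 2) (finrank F P - 1) with h | h
    · rw [min_eq_left h] at hRdim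
      omega
    · rw [min_eq_right h] at hRdim
      omega
  obtain ⟨ν, hν⟩ := FiniteField.exists_nonsquare (F := F) (by
    intro h
    have : CharP F 2 := by rw [← h]; exact ringChar.charP F
    exact h2 (CharTwo.two_eq_zero))
  obtain ⟨κ, hκ⟩ : ∃ κ : F, κ = if ε * εp * εn = 1 then -(Q v) else -(ν * Q v) := ⟨_, rfl⟩
  obtain ⟨u', hu'⟩ := Cfsg.Agent.Lib.Helper25.Spin.exists_rep (OrthSemi.resQ Q (N ⊓ orth (pB Q) Tn))
    (OrthSemi.nondegenerate_resQ Q _ ((nd_iff Q _).1 hRnd)) hR2 κ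
  obtain ⟨u, huR⟩ := u'
  have hQu : Q u = κ := hu'
  have huN : u ∈ N := huR.1
  have hν0 : ν ≠ 0 := by
    rintro rfl
    exact hν ⟨0, by ring⟩
  have hκ0 : κ ≠ 0 := by
    rw [hκ]
    split_ifs
    · exact neg_ne_zero.2 hQv
    · exact neg_ne_zero.2 (mul_ne_zero hν0 hQv)
  have hvu : polar Q v u = 0 := hPN v hvP u huN
  obtain ⟨hLnd, hLdim, hLplus, hLminus⟩ := plane_facts Q h2 v u hQv (by rw [hQu]; exact hκ0) hvu
  have hLt : TypeOn Q (Submodule.span F {v} ⊔ Submodule.span F {u}) (ε * εp * εn) := by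
    by_cases h1 : ε * εp * εn = 1
    · rw [h1]
      apply hLplus
      rw [hQu, hκ, if_pos h1]
      exact ⟨Q v, by ring⟩
    · have h3 : ε * εp * εn = -1 := by
        rcases hε with rfl | rfl <;> rcases hεp with rfl | rfl <;> rcases hεn with rfl | rfl <;>
          simp at h1 ⊢
      rw [h3]
      apply hLminus
      rw [hQu, hκ, if_neg h1]
      rintro ⟨s, hs⟩
      apply hν
      refine ⟨s / Q v, ?_⟩
      rw [div_mul_div_comm, eq_div_iff (mul_ne_zero hQv hQv)]
      linear_combination hs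
  -- assembling
  have hTpP : Tp ≤ P := hTple.trans inf_le_left
  have h12 : ∀ a ∈ Tp, ∀ b ∈ Tn, polar Q a b = 0 := fun a ha b hb =>
    hPN a (hTpP ha) b (hTnle hb)
  have h3 : ∀ a ∈ Tp ⊔ Tn, ∀ b ∈ Submodule.span F {v} ⊔ Submodule.span F {u},
      polar Q a b = 0 := by
    intro a ha b hb
    obtain ⟨a₁, ha₁, a₂, ha₂, rfl⟩ := Submodule.mem_sup.1 ha
    obtain ⟨b₁, hb₁, b₂, hb₂, rfl⟩ := Submodule.mem_sup.1 hb
    obtain ⟨α, rfl⟩ := Submodule.mem_span_singleton.1 hb₁
    obtain ⟨β, rfl⟩ := Submodule.mem_span_singleton.1 hb₂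
    have e1 : polar Q a₁ v = 0 := by
      rw [polar_comm]
      exact (hTple ha₁).2 v (Submodule.mem_span_singleton_self v)
    have e2 : polar Q a₁ u = 0 := hPN a₁ (hTpP ha₁) u huN
    have e3 : polar Q a₂ v = 0 := by
      rw [polar_comm]
      exact hPN v hvP a₂ (hTnle ha₂)
    have e4 : polar Q a₂ u = 0 := huR.2 a₂ ha₂
    rw [polar_add_left, polar_add_right, polar_add_right, polar_smul_right, polar_smul_right,
      polar_smul_right, polar_smul_right, e1, e2, e3, e4]
    simp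
  have hTnd := nd_sup Q Tp Tn hTpnd hTnnd h12
  have hTdim := finrank_sup_of_orth Q Tp Tn hTpnd h12
  have hTt := typeOn_sup Q Tp Tn hTpnd h12 (by rw [hTpdim]; exact ha'ev)
    (by rw [hTndim]; exact hb'ev) htp htn
  have ha'le : a' ≤ m - 2 := by
    rw [ha']
    exact min_le_left _ _
  refine ⟨(Tp ⊔ Tn) ⊔ (Submodule.span F {v} ⊔ Submodule.span F {u}), ?_,
    nd_sup Q _ _ hTnd hLnd h3, ?_, ?_⟩
  · rw [finrank_sup_of_orth Q _ _ hTnd h3, hTdim, hTpdim, hTndim, hLdim]
    omega
  · have h5 := typeOn_sup Q _ _ hTnd h3 (by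
      rw [hTdim, hTpdim, hTndim]
      exact ha'ev.add hb'ev) (by rw [hLdim]; exact ⟨1, rfl⟩) hTt hLt
    have h6 : εp * εn * (ε * εp * εn) = ε := by
      rcases hεp with rfl | rfl <;> rcases hεn with rfl | rfl <;> ring
    rwa [h6] at h5
  · intro w hw
    obtain ⟨a, ha, b, hb, rfl⟩ := Submodule.mem_sup.1 hw
    obtain ⟨a₁, ha₁, a₂, ha₂, rfl⟩ := Submodule.mem_sup.1 ha
    obtain ⟨b₁, hb₁, b₂, hb₂, rfl⟩ := Submodule.mem_sup.1 hb
    obtain ⟨α, rfl⟩ := Submodule.mem_span_singleton.1 hb₁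
    obtain ⟨β, rfl⟩ := Submodule.mem_span_singleton.1 hb₂
    rw [map_add, map_add, map_add, map_smul, map_smul, hPfix a₁ (hTpP ha₁),
      hNneg a₂ (hTnle ha₂), hPfix v hvP, hNneg u huN]
    apply Submodule.add_mem_sup
    · exact Submodule.add_mem_sup ha₁ (Tn.neg_mem ha₂)
    · apply Submodule.add_mem_sup (Submodule.smul_mem _ _ (Submodule.mem_span_singleton_self v))
      rw [smul_neg]
      exact Submodule.neg_mem _ (Submodule.smul_mem _ _ (Submodule.mem_span_singleton_self u))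

end invol

end Cfsg.Agent.Lib.Helper12.OrN
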