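import Mathlib
import Cfsg.Agent.Lib.Helper12.OrND
import Cfsg.Agent.Lib.Helper12.OrNF
import Cfsg.Agent.Lib.Helper12.OrNG
import Cfsg.Agent.Lib.Helper25.SpinForms
import Cfsg.Agent.Lib.Helper15.UniOmega2

set_option autoImplicit false
set_option linter.unusedSectionVars false

/-!
# The odd-dimensional orthogonal group: elements of prime order `r ≠ p` and nondegenerate
subspaces of given dimension and type (matrix formulation)
-/

namespace Cfsg.Agent.Lib.Helper12.OrN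

open Module QuadraticMap Matrix Cfsg.Agent.Lib.Helper12.Elus Cfsg.Agent.Lib.Helper15
  Cfsg.Agent.Lib.Helper15.QuadType

universe u

section gl

variable {F : Type*} [Field F] {ι : Type*} [Fintype ι] [DecidableEq ι]

/-- invertible matrices as linear automorphisms -/
noncomputable def glToLE : GL ι F →* ((ι → F) ≃ₗ[F] (ι → F)) :=
  (LinearMap.GeneralLinearGroup.generalLinearEquiv F (ι → F)).toMonoidHom.comp
    Matrix.GeneralLinearGroup.toLin.toMonoidHom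

theorem glToLE_coe (x : GL ι F) :
    ((glToLE x : (ι → F) ≃ₗ[F] (ι → F)) : (ι → F) →ₗ[F] (ι → F)) =
      Matrix.toLin' (x : Matrix ι ι F) := by
  apply LinearMap.ext
  intro v
  rfl

theorem glToLE_apply (x : GL ι F) (v : ι → F) :
    glToLE x v = (x : Matrix ι ι F) *ᵥ v := rfl

theorem toLin'_pow_eq_one (x : GL ι F) (r : ℕ) (hx : x ^ r = 1) :
    (Matrix.toLin' (x : Matrix ι ι F)) ^ r = 1 := by
  rw [← glToLE_coe, ← coe_pow_apply, ← map_pow, hx, map_one]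
  rfl

end gl

section glue

variable {F : Type u} [Field F] [Fintype F] (d : ℕ)

/-- the standard odd-dimensional form as a bundled quadratic form -/
noncomputable def Qd (h2 : (2 : F) ≠ 0) : QuadraticForm F (Unit ⊕ (Fin d ⊕ Fin d) → F) :=
  Cfsg.Agent.Lib.Helper25.Spin.qfOf (Cfsg.Agent.Lib.Helper14.isQF_odd (m := d) h2)

theorem Qd_coe (h2 : (2 : F) ≠ 0) : ⇑(Qd d h2) = Cfsg.quadFormOdd d F := rfl

theorem Qd_apply (h2 : (2 : F) ≠ 0) (v : Unit ⊕ (Fin d ⊕ Fin d) → F) :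
    Qd d h2 v = Cfsg.quadFormOdd d F v := rfl

theorem Qd_nondeg (h2 : (2 : F) ≠ 0) : (polarBilin (Qd d h2)).Nondegenerate :=
  Cfsg.Agent.Lib.Helper25.Spin.qfOf_nondeg _

theorem finrank_Vd : finrank F (Unit ⊕ (Fin d ⊕ Fin d) → F) = 2 * d + 1 := by
  rw [Module.finrank_fintype_fun_eq_card]
  simp
  ring

theorem geo_nd_iff (h2 : (2 : F) ≠ 0) (W : Submodule F (Unit ⊕ (Fin d ⊕ Fin d) → F)) :
    Cfsg.Geo.IsNondegenerateOn (QuadraticMap.polar (Cfsg.quadFormOdd d F)) W ↔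
      Nd (Qd d h2) W := by
  constructor
  · intro h u hu hu0
    obtain ⟨v, hv, hne⟩ := (h u hu hu0).2
    exact ⟨v, hv, hne⟩
  · intro h w hw hw0
    obtain ⟨v, hv, hne⟩ := h w hw hw0
    have hne' : QuadraticMap.polar (Cfsg.quadFormOdd d F) w v ≠ 0 := hne
    refine ⟨⟨v, hv, ?_⟩, ⟨v, hv, hne'⟩⟩
    rw [QuadraticMap.polar_comm]
    exact hne'

theorem geo_plus_iff (h2 : (2 : F) ≠ 0) (W : Submodule F (Unit ⊕ (Fin d ⊕ Fin d) → F)) :
    Cfsg.Geo.IsPlusTypeOn (Cfsg.quadFormOdd d F) W ↔ IsPlus (Qd d h2) W := Iff.rfl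

theorem mem_typed_plus (h2 : (2 : F) ≠ 0) (m : ℕ) (hme : Even m)
    (W : Submodule F (Unit ⊕ (Fin d ⊕ Fin d) → F)) :
    (finrank F W = m ∧
      Cfsg.Geo.IsNondegenerateOn (QuadraticMap.polar (Cfsg.quadFormOdd d F)) W ∧
      Cfsg.Geo.IsPlusTypeOn (Cfsg.quadFormOdd d F) W) ↔ W ∈ typedSet (Qd d h2) m 1 := by
  constructor
  · rintro ⟨h1, h3, h4⟩
    have hnd := (geo_nd_iff d h2 W).1 h3
    exact ⟨h1, hnd, (typeOn_one_iff _ W hnd (by rw [h1]; exact hme)).2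
      ((geo_plus_iff d h2 W).1 h4)⟩
  · rintro ⟨h1, h3, h4⟩
    exact ⟨h1, (geo_nd_iff d h2 W).2 h3, (geo_plus_iff d h2 W).2
      ((typeOn_one_iff _ W h3 (by rw [h1]; exact hme)).1 h4)⟩

theorem mem_typed_minus (h2 : (2 : F) ≠ 0) (m : ℕ) (hme : Even m)
    (W : Submodule F (Unit ⊕ (Fin d ⊕ Fin d) → F)) :
    (finrank F W = m ∧
      Cfsg.Geo.IsNondegenerateOn (QuadraticMap.polar (Cfsg.quadFormOdd d F)) W ∧
      ¬ Cfsg.Geo.IsPlusTypeOn (Cfsg.quadFormOdd d F) W) ↔ W ∈ typedSet (Qd d h2) m (-1) := by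
  constructor
  · rintro ⟨h1, h3, h4⟩
    have hnd := (geo_nd_iff d h2 W).1 h3
    have hev : Even (finrank F W) := by rw [h1]; exact hme
    obtain ⟨ε, hε, ht⟩ := typeOn_exists _ W hnd hev
    rcases hε with rfl | rfl
    · exact absurd ((geo_plus_iff d h2 W).2 ((typeOn_one_iff _ W hnd hev).1 ht)) h4
    · exact ⟨h1, hnd, ht⟩
  · rintro ⟨h1, h3, h4⟩
    have hev : Even (finrank F W) := by rw [h1]; exact hme
    refine ⟨h1, (geo_nd_iff d h2 W).2 h3, ?_⟩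
    intro hplus
    have h5 := (typeOn_one_iff _ W h3 hev).2 ((geo_plus_iff d h2 W).1 hplus)
    have := typeOn_unique _ W h4 h5
    omega

/-- elements of `Ω` are isometries of determinant one -/
theorem facts_of_mem_omega (h2 : (2 : F) ≠ 0) (x : GL (Unit ⊕ (Fin d ⊕ Fin d)) F)
    (hx : x ∈ Cfsg.Geo.omegaGL (Cfsg.quadFormOdd d F)) :
    (∀ v, Qd d h2 (Matrix.toLin'
      (x : Matrix (Unit ⊕ (Fin d ⊕ Fin d)) (Unit ⊕ (Fin d ⊕ Fin d)) F) v) = Qd d h2 v) ∧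
      (x : Matrix (Unit ⊕ (Fin d ⊕ Fin d)) (Unit ⊕ (Fin d ⊕ Fin d)) F).det = 1 := by
  have hx' : x ∈ Cfsg.Geo.omegaGL ⇑(Qd d h2) := hx
  obtain ⟨g, hg, rfl⟩ := Subgroup.mem_map.1 hx'
  constructor
  · intro v
    have := g.2 v v
    exact this
  · have h3 := Cfsg.Agent.Lib.Helper25.Spin.omega_le_special (Qd d h2) h2 (Qd_nondeg d h2) hg
    have h4 : (Matrix.GeneralLinearGroup.det.comp
        (Cfsg.isometryGroup F ⇑(Qd d h2)).subtype) g = 1 := h3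
    have h5 := congrArg Units.val h4
    exact h5

variable {p : ℕ} [Fact p.Prime] [CharP F p]

/-- the model element inside `Ω` -/
theorem exists_model_omega (h2 : (2 : F) ≠ 0) (r : ℕ) [Fact r.Prime] (hr2 : r ≠ 2)
    (hrp : r ≠ p) (hcd : Sp.blockDim (Fintype.card F) r ≤ 2 * d + 1) :
    ∃ x : GL (Unit ⊕ (Fin d ⊕ Fin d)) F, x ∈ Cfsg.Geo.omegaGL (Cfsg.quadFormOdd d F) ∧
      orderOf x = r ∧
      finrank F (fixE (Matrix.toLin'
        (x : Matrix (Unit ⊕ (Fin d ⊕ Fin d)) (Unit ⊕ (Fin d ⊕ Fin d)) F))) ≤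
        (2 * d + 1) % Sp.blockDim (Fintype.card F) r := by
  have hr : r.Prime := Fact.out
  obtain ⟨B, hB1, hB3, hBfix⟩ := exists_model (F := F) (p := p) h2 r hr2 hrp d
  have hBB : B * B ^ (r - 1) = 1 := by
    rw [← pow_succ', Nat.sub_add_cancel hr.pos, hB3]
  have hBB' : B ^ (r - 1) * B = 1 := by
    rw [← pow_succ, Nat.sub_add_cancel hr.pos, hB3]
  let x : GL (Unit ⊕ (Fin d ⊕ Fin d)) F := ⟨B, B ^ (r - 1), hBB, hBB'⟩
  have hxr : x ^ r = 1 := by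
    apply Units.ext
    rw [Units.val_pow_eq_pow_val]
    exact hB3
  have hxmem : x ∈ Cfsg.isometryGroup F ⇑(Qd d h2) := by
    intro u v
    exact hB1 u
  have hg : (⟨x, hxmem⟩ : ↥(Cfsg.isometryGroup F ⇑(Qd d h2))) ∈ Cfsg.Omega F ⇑(Qd d h2) := by
    apply Cfsg.Agent.Lib.Helper15.UniOmega2.mem_omega_of_odd_order (Qd d h2) (Qd_nondeg d h2)
      _ _ r (hr.odd_of_ne_two hr2)
    · apply Subtype.ext
      exact hxr
    · right
      simp
      omega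
  have hcpos : 0 < Sp.blockDim (Fintype.card F) r := Sp.blockDim_pos (F := F) r hrp
  refine ⟨x, Subgroup.mem_map.2 ⟨⟨x, hxmem⟩, hg, rfl⟩, ?_, hBfix⟩
  apply orderOf_eq_prime hxr
  intro h1
  have hB1' : B = 1 := by
    have := congrArg (fun z : GL (Unit ⊕ (Fin d ⊕ Fin d)) F =>
      (z : Matrix (Unit ⊕ (Fin d ⊕ Fin d)) (Unit ⊕ (Fin d ⊕ Fin d)) F)) h1
    exact this
  rw [hB1', Matrix.toLin'_one] at hBfix
  have h3 : fixE (LinearMap.id : (Unit ⊕ (Fin d ⊕ Fin d) → F) →ₗ[F] _) = ⊤ := by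
    rw [eq_top_iff]
    intro v _
    exact (mem_fixE _ v).2 rfl
  rw [h3, finrank_top, finrank_Vd] at hBfix
  have := Nat.mod_lt (2 * d + 1) hcpos
  omega

end glue

end Cfsg.Agent.Lib.Helper12.OrN
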