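import Mathlib
import Cfsg.Agent.Lib.Helper12.OrNH

set_option autoImplicit false
set_option linter.unusedSectionVars false

/-!
# The odd-dimensional orthogonal group: the criterion for elements of odd prime order `r ≠ p`
-/

namespace Cfsg.Agent.Lib.Helper12.OrN

open Module QuadraticMap Matrix Cfsg.Agent.Lib.Helper12.Elus Cfsg.Agent.Lib.Helper15
  Cfsg.Agent.Lib.Helper15.QuadType

universe u

theorem mod_parity (c m n : ℕ) (hc : Even c) (hm : Even m) (hn : Odd n) (h : m % c ≤ n % c) :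
    m % c < n % c := by
  obtain ⟨c', hc'⟩ := hc
  obtain ⟨m', hm'⟩ := hm
  obtain ⟨n', hn'⟩ := hn
  have h1 := Nat.div_add_mod m c
  have h2 := Nat.div_add_mod n c
  have h3 : c * (m / c) = 2 * (c' * (m / c)) := by rw [hc']; ring
  have h4 : c * (n / c) = 2 * (c' * (n / c)) := by rw [hc']; ring
  omega

section core

variable {F : Type u} [Field F] [Fintype F] {p : ℕ} [Fact p.Prime] [CharP F p]

/-- the criterion for all elements of odd prime order `r ≠ p` of `Ω_{2d+1}(q)` to fix a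
nondegenerate `m`-space of type `ε` -/
theorem core_ss (h2 : (2 : F) ≠ 0) (d m : ℕ) (hm : 2 ≤ m) (hme : Even m)
    (hmn : m ≤ 2 * d) (r : ℕ) [Fact r.Prime] (hr2 : r ≠ 2) (hrp : r ≠ p) (ε : ℤ)
    (hε : ε = 1 ∨ ε = -1) (hrΩ : r ∣ Nat.card (typedSet (Qd d h2) m ε)) :
    (∀ x : GL (Unit ⊕ (Fin d ⊕ Fin d)) F, x ∈ Cfsg.Geo.omegaGL (Cfsg.quadFormOdd d F) →
      orderOf x = r → ∃ W ∈ typedSet (Qd d h2) m ε,
        W.map (Matrix.toLin' (x : Matrix (Unit ⊕ (Fin d ⊕ Fin d)) (Unit ⊕ (Fin d ⊕ Fin d)) F)) ≤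
          W) ↔
    (Sp.blockDim (Fintype.card F) r ≤ m ∧
      m % Sp.blockDim (Fintype.card F) r < (2 * d + 1) % Sp.blockDim (Fintype.card F) r ∧
      (m % Sp.blockDim (Fintype.card F) r = 0 →
        ((Fintype.card F : ℕ) : ZMod r) ^ (m / 2) = (ε : ZMod r))) := by
  have hr : r.Prime := Fact.out
  have hQ := Qd_nondeg (F := F) d h2
  have hdimV := finrank_Vd (F := F) d
  obtain ⟨c, hc⟩ : ∃ c, c = Sp.blockDim (Fintype.card F) r := ⟨_, rfl⟩
  rw [← hc]
  have hcpos : 0 < c := by rw [hc]; exact Sp.blockDim_pos (F := F) r hrp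
  have hcev : Even c := by rw [hc]; exact blockDim_even r _
  constructor
  · intro H
    -- the model element and its consequences
    have hmodel : c ≤ 2 * d + 1 → ∃ x : GL (Unit ⊕ (Fin d ⊕ Fin d)) F,
        (∀ v, Qd d h2 (Matrix.toLin'
          (x : Matrix (Unit ⊕ (Fin d ⊕ Fin d)) (Unit ⊕ (Fin d ⊕ Fin d)) F) v) = Qd d h2 v) ∧
        x ^ r = 1 ∧
        finrank F (fixE (Matrix.toLin'
          (x : Matrix (Unit ⊕ (Fin d ⊕ Fin d)) (Unit ⊕ (Fin d ⊕ Fin d)) F))) ≤ (2 * d + 1) % c ∧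
        ∃ W ∈ typedSet (Qd d h2) m ε, ∀ u ∈ W, Matrix.toLin'
          (x : Matrix (Unit ⊕ (Fin d ⊕ Fin d)) (Unit ⊕ (Fin d ⊕ Fin d)) F) u ∈ W := by
      intro hcn
      obtain ⟨x, hxΩ, hxord, hxfix⟩ := exists_model_omega (F := F) (p := p) d h2 r hr2 hrp
        (by rw [← hc]; exact hcn)
      rw [← hc] at hxfix
      obtain ⟨W, hW, hWinv⟩ := H x hxΩ hxord
      refine ⟨x, (facts_of_mem_omega d h2 x hxΩ).1, ?_, hxfix, W, hW, ?_⟩
      · rw [← hxord]
        exact pow_orderOf_eq_one x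
      · intro u hu
        exact hWinv ⟨u, hu, rfl⟩
    have hcm : c ≤ m := by
      by_contra hlt
      push Not at hlt
      by_cases hcn : c ≤ 2 * d + 1
      · obtain ⟨x, hxiso, hxr, hxfix, W, hW, hWinv⟩ := hmodel hcn
        have hlt2 := Nat.mod_lt (2 * d + 1) hcpos
        refine not_dvd_card_of_fixed (Qd d h2) r h2 hQ hrp hr2 (glToLE x) ?_ ?_ ?_ m hm hme
          (by rw [← hc]; exact hlt) ε hε ⟨W, hW, ?_⟩ hrΩ
        · intro v
          exact hxiso v
        · rw [← map_pow, hxr, map_one]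
        · rw [glToLE_coe, ← hc]
          omega
        · intro u hu
          exact hWinv u hu
      · push Not at hcn
        have hne : (typedSet (Qd d h2) m ε).Nonempty := by
          obtain ⟨m', hm'⟩ := hme
          obtain ⟨T, -, hTnd, hTdim, hTt⟩ := exists_typed_sub (Qd d h2) h2 m' ⊤ (nd_top _ hQ)
            (by omega) (by rw [finrank_top, hdimV]; omega) ε hε
          exact ⟨T, by rw [hTdim, hm']; ring, hTnd, hTt⟩
        exact not_dvd_card_typedSet (Qd d h2) r h2 hQ hrp hr2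
          (by rw [hdimV, ← hc]; exact hcn) m hm hme ε hε hne hrΩ
    obtain ⟨x, hxiso, hxr, hxfix, W, ⟨hWdim, hWnd, hWt⟩, hWinv⟩ := hmodel (by omega)
    have hlt2 := Nat.mod_lt (2 * d + 1) hcpos
    obtain ⟨h3, h4⟩ := fwd_ss (Qd d h2) _ r h2 hxiso hrp hr2 (toLin'_pow_eq_one x r hxr)
      (by rw [← hc]; omega) W hWinv hWnd ε hWt
    rw [← hc, hWdim] at h3 h4
    exact ⟨hcm, mod_parity c m (2 * d + 1) hcev hme ⟨d, rfl⟩ (by omega), h4⟩
  · rintro ⟨-, h3, h4⟩ x hxΩ hxord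
    have hxr : x ^ r = 1 := by
      rw [← hxord]
      exact pow_orderOf_eq_one x
    obtain ⟨W, hWdim, hWnd, hWt, hWinv⟩ := bwd_ss (Qd d h2) _ r h2 (nd_top _ hQ)
      (facts_of_mem_omega d h2 x hxΩ).1 hrp hr2 (toLin'_pow_eq_one x r hxr) m hme
      (by rw [hdimV]; omega) ε hε (by rw [← hc]; exact h4)
      (by rw [← hc, hdimV]; exact fun _ => h3)
    refine ⟨W, ⟨hWdim, hWnd, hWt⟩, ?_⟩
    rintro _ ⟨u, hu, rfl⟩
    exact hWinv u hu

end core

end Cfsg.Agent.Lib.Helper12.OrN
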