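import Mathlib
import Cfsg.Agent.Lib.Helper12.OrNI
import Cfsg.Agent.Lib.Helper15.QuadClasses

set_option autoImplicit false
set_option linter.unusedSectionVars false

/-!
# The odd-dimensional orthogonal group: involutions, and the arithmetic form of the criterion
-/

namespace Cfsg.Agent.Lib.Helper12.OrN

open Module QuadraticMap Matrix Cfsg.Agent.Lib.Helper12.Elus Cfsg.Agent.Lib.Helper15
  Cfsg.Agent.Lib.Helper15.QuadType

universe u

section arith

theorem blockDim_eq (q r i c : ℕ) (hi : i = orderOf (q : ZMod r))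
    (hc : c = if Even i then i else 2 * i) : Sp.blockDim q r = c := by
  unfold Sp.blockDim
  rw [← hi]
  exact hc.symm

theorem pos_mod_of_odd (c n : ℕ) (hc : Even c) (hn : Odd n) : 0 < n % c := by
  obtain ⟨c', hc'⟩ := hc
  obtain ⟨n', hn'⟩ := hn
  have h2 := Nat.div_add_mod n c
  have h4 : c * (n / c) = 2 * (c' * (n / c)) := by rw [hc']; ring
  omega

variable {r : ℕ} [Fact r.Prime]

theorem pow_half_even (hr2 : r ≠ 2) (q i m : ℕ) (hi : i = orderOf (q : ZMod r)) (hipos : 0 < i)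
    (hev : Even i) (hme : Even m) (h0 : m % i = 0) :
    ((q : ZMod r) ^ (m / 2) = 1 ↔ Even (m / i)) ∧ ((q : ZMod r) ^ (m / 2) = -1 ↔ Odd (m / i)) := by
  obtain ⟨m', hm'⟩ := hme
  have h1 : 2 * (m / 2) = m := by omega
  have hd : i ∣ 2 * (m / 2) := by
    rw [h1]
    exact Nat.dvd_of_mod_eq_zero h0
  have h3 := QuadClasses.pow_of_even_order (q : ZMod r) i (m / 2) hipos hi hev hd
  rw [h1] at h3
  rw [h3]
  exact QuadClasses.neg_one_pow_zmod r hr2 (m / i)

theorem pow_half_odd (q i m : ℕ) (hi : i = orderOf (q : ZMod r)) (h0 : m % (2 * i) = 0) :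
    (q : ZMod r) ^ (m / 2) = 1 := by
  obtain ⟨k, hk⟩ := Nat.dvd_of_mod_eq_zero h0
  have h1 : m / 2 = i * k := by
    rw [hk, mul_assoc, Nat.mul_div_cancel_left _ (by norm_num : 0 < 2)]
  rw [h1, pow_mul, hi, pow_orderOf_eq_one, one_pow]

theorem one_ne_neg_one_zmod (hr2 : r ≠ 2) : (1 : ZMod r) ≠ -1 := by
  intro h
  have hr : r.Prime := Fact.out
  have h3 : ((2 : ℕ) : ZMod r) = 0 := by
    push_cast
    linear_combination h
  rw [ZMod.natCast_eq_zero_iff] at h3
  have := Nat.le_of_dvd (by norm_num) h3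
  have := hr.two_le
  omega

theorem rhs_plus (hr2 : r ≠ 2) (q i c m n : ℕ) (hi : i = orderOf (q : ZMod r)) (hipos : 0 < i)
    (hc : c = if Even i then i else 2 * i) (hme : Even m) (hn : Odd n) :
    (c ≤ m ∧ m % c < n % c ∧ (m % c = 0 → (q : ZMod r) ^ (m / 2) = ((1 : ℤ) : ZMod r))) ↔
    ((2 < r ∧ Odd i ∧ c ≤ m ∧ (m % c = 0 ∨ (0 < m % c ∧ m % c < n % c))) ∨
     (2 < r ∧ Even i ∧ i ≤ m ∧ m % c < n % c ∧ (0 < m % c ∨ Even (m / i)))) := by
  have hr : r.Prime := Fact.out
  have h2r : 2 < r := lt_of_le_of_ne hr.two_le (Ne.symm hr2)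
  rw [Int.cast_one]
  rcases Nat.even_or_odd i with hev | hodd
  · rw [if_pos hev] at hc
    subst hc
    constructor
    · rintro ⟨h1, h3, h4⟩
      right
      refine ⟨h2r, hev, h1, h3, ?_⟩
      by_cases h0 : m % c = 0
      · right
        exact (pow_half_even hr2 q c m hi hipos hev hme h0).1.1 (h4 h0)
      · left
        omega
    · rintro (⟨-, hodd, -⟩ | ⟨-, -, h1, h3, h5⟩)
      · exact absurd hev (Nat.not_even_iff_odd.2 hodd)
      · refine ⟨h1, h3, fun h0 => ?_⟩
        exact (pow_half_even hr2 q c m hi hipos hev hme h0).1.2 (h5.resolve_left (by omega))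
  · rw [if_neg (Nat.not_even_iff_odd.2 hodd)] at hc
    have hcev : Even c := ⟨i, by rw [hc]; ring⟩
    have hpos := pos_mod_of_odd c n hcev hn
    constructor
    · rintro ⟨h1, h3, -⟩
      left
      refine ⟨h2r, hodd, h1, ?_⟩
      by_cases h0 : m % c = 0
      · left
        exact h0
      · right
        exact ⟨by omega, h3⟩
    · rintro (⟨-, -, h1, h5⟩ | ⟨-, hev, -⟩)
      · refine ⟨h1, ?_, fun h0 => ?_⟩
        · rcases h5 with h0 | ⟨-, h6⟩
          · rw [h0]
            exact hpos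
          · exact h6
        · rw [hc] at h0
          exact pow_half_odd q i m hi h0
      · exact absurd hev (Nat.not_even_iff_odd.2 hodd)

theorem rhs_minus (hr2 : r ≠ 2) (q i c m n : ℕ) (hi : i = orderOf (q : ZMod r)) (hipos : 0 < i)
    (hc : c = if Even i then i else 2 * i) (hme : Even m) :
    (c ≤ m ∧ m % c < n % c ∧ (m % c = 0 → (q : ZMod r) ^ (m / 2) = ((-1 : ℤ) : ZMod r))) ↔
    ((Odd i ∧ c ≤ m ∧ 0 < m % c ∧ m % c < n % c) ∨
     (Even i ∧ i ≤ m ∧ m % c < n % c ∧ (0 < m % c ∨ Odd (m / i)))) := by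
  rw [Int.cast_neg, Int.cast_one]
  rcases Nat.even_or_odd i with hev | hodd
  · rw [if_pos hev] at hc
    subst hc
    constructor
    · rintro ⟨h1, h3, h4⟩
      right
      refine ⟨hev, h1, h3, ?_⟩
      by_cases h0 : m % c = 0
      · right
        exact (pow_half_even hr2 q c m hi hipos hev hme h0).2.1 (h4 h0)
      · left
        omega
    · rintro (⟨hodd, -⟩ | ⟨-, h1, h3, h5⟩)
      · exact absurd hev (Nat.not_even_iff_odd.2 hodd)
      · refine ⟨h1, h3, fun h0 => ?_⟩
        exact (pow_half_even hr2 q c m hi hipos hev hme h0).2.2 (h5.resolve_left (by omega))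
  · rw [if_neg (Nat.not_even_iff_odd.2 hodd)] at hc
    constructor
    · rintro ⟨h1, h3, h4⟩
      left
      refine ⟨hodd, h1, ?_, h3⟩
      by_contra h0
      have h0' : m % c = 0 := by omega
      have h5 := h4 h0'
      rw [hc] at h0'
      rw [pow_half_odd q i m hi h0'] at h5
      exact one_ne_neg_one_zmod hr2 h5
    · rintro (⟨-, h1, h5, h6⟩ | ⟨hev, -⟩)
      · exact ⟨h1, h6, fun h0 => by omega⟩
      · exact absurd hev (Nat.not_even_iff_odd.2 hodd)

end arith

section two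

variable {F : Type u} [Field F] [Fintype F]

/-- involutions of `Ω_{2d+1}(q)` fix nondegenerate subspaces of every even dimension and type -/
theorem core_two (h2 : (2 : F) ≠ 0) (d m : ℕ) (hm : 2 ≤ m) (hme : Even m) (hmn : m ≤ 2 * d)
    (ε : ℤ) (hε : ε = 1 ∨ ε = -1) (x : GL (Unit ⊕ (Fin d ⊕ Fin d)) F)
    (hxΩ : x ∈ Cfsg.Geo.omegaGL (Cfsg.quadFormOdd d F)) (hxord : orderOf x = 2) :
    ∃ W ∈ typedSet (Qd d h2) m ε,
      W.map (Matrix.toLin' (x : Matrix (Unit ⊕ (Fin d ⊕ Fin d)) (Unit ⊕ (Fin d ⊕ Fin d)) F)) ≤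
        W := by
  have hQ := Qd_nondeg (F := F) d h2
  have hdimV := finrank_Vd (F := F) d
  obtain ⟨hiso, hdet⟩ := facts_of_mem_omega d h2 x hxΩ
  obtain ⟨t, ht⟩ : ∃ t, t = Matrix.toLin'
    (x : Matrix (Unit ⊕ (Fin d ⊕ Fin d)) (Unit ⊕ (Fin d ⊕ Fin d)) F) := ⟨_, rfl⟩
  rw [← ht] at hiso ⊢
  have hx2 : x ^ 2 = 1 := by
    rw [← hxord]
    exact pow_orderOf_eq_one x
  have ht2 : t ^ 2 = 1 := by
    rw [ht]
    exact toLin'_pow_eq_one x 2 hx2
  have htt : ∀ v, t (t v) = v := by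
    intro v
    have := congrArg (fun f : Module.End F (Unit ⊕ (Fin d ⊕ Fin d) → F) => f v) ht2
    exact this
  have hdett : LinearMap.det t = 1 := by
    rw [ht, LinearMap.det_toLin', hdet]
  have hne : (-1 : F) ≠ 1 := by
    intro h
    apply h2
    linear_combination -h
  have h3 := Cfsg.Agent.Lib.Helper25.GraphSplit.det_invol h2 t htt
  rw [hdett] at h3
  have hev : Even (finrank F (LinearMap.ker (t + LinearMap.id))) :=
    (neg_one_pow_eq_one_iff_even hne).1 h3.symm
  have hsum := Cfsg.Agent.Lib.Helper25.GraphSplit.finrank_eigen_add h2 t htt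
  rw [hdimV] at hsum
  have hodd : Odd (finrank F (LinearMap.ker (t - LinearMap.id))) := by
    obtain ⟨k, hk⟩ := hev
    exact ⟨d - k, by omega⟩
  have he0 : finrank F (LinearMap.ker (t + LinearMap.id)) ≠ 0 := by
    intro h0
    have h4 : LinearMap.ker (t - LinearMap.id) = ⊤ := by
      apply Submodule.eq_top_of_finrank_eq
      rw [hdimV]
      omega
    have h5 : t = LinearMap.id := by
      apply LinearMap.ext
      intro v
      have : v ∈ LinearMap.ker (t - LinearMap.id) := by rw [h4]; exact Submodule.mem_top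
      exact (OrthSemi.mem_ker_sub_id t v).1 this
    have h6 : x = 1 := by
      apply Units.ext
      apply Matrix.toLin'.injective
      rw [← ht, h5, Units.val_one, Matrix.toLin'_one]
    rw [h6, orderOf_one] at hxord
    omega
  have he2 : 2 ≤ finrank F (LinearMap.ker (t + LinearMap.id)) := by
    obtain ⟨k, hk⟩ := hev
    omega
  obtain ⟨W, hWdim, hWnd, hWt, hWinv⟩ := bwd_invol (Qd d h2) h2 hQ t hiso htt hodd he2 m hm hme
    (by rw [hdimV]; omega) ε hε
  refine ⟨W, ⟨hWdim, hWnd, hWt⟩, ?_⟩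
  rintro _ ⟨u, hu, rfl⟩
  exact hWinv u hu

end two

end Cfsg.Agent.Lib.Helper12.OrN
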