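import Mathlib
import Cfsg.Agent.Lib.Helper12.OrNH
import Cfsg.Agent.Lib.Helper15.UniOmega3

set_option autoImplicit false
set_option linter.unusedSectionVars false

/-!
# Unipotent elements of the odd-dimensional orthogonal group all of whose fixed nondegenerate
even-dimensional subspaces are hyperbolic
-/

namespace Cfsg.Agent.Lib.Helper12.OrN

open Module QuadraticMap Matrix Cfsg.Agent.Lib.Helper12.Elus Cfsg.Agent.Lib.Helper12.Un
  Cfsg.Agent.Lib.Helper15 Cfsg.Agent.Lib.Helper15.QuadType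

universe u

section unip

variable {F V : Type*} [Field F] [Fintype F] [AddCommGroup V] [Module F V]
  [FiniteDimensional F V] (Q : QuadraticForm F V)

/-- if an isometry `t` has at most one Jordan block of size different from two (in the sense of
the dimension counts `c₀`, `a₀`), every `t`-invariant nondegenerate even-dimensional subspace
is hyperbolic -/
theorem plus_of_unip (h2 : (2 : F) ≠ 0) (t : V →ₗ[F] V) (ht : ∀ v, Q (t v) = Q v)
    (c₀ a₀ : ℕ) (hca : c₀ + a₀ ≤ 1)
    (hE : finrank F (fixE t) ≤ finrank F ↥(fixE t ⊓ movR t) + c₀)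
    (ha : finrank F ↥((movR t).map (t - 1)) ≤ a₀)
    (W : Submodule F V) (hWinv : ∀ u ∈ W, t u ∈ W) (hWnd : Nd Q W)
    (hWev : Even (finrank F W)) : IsPlus Q W := by
  obtain ⟨K, hK⟩ : ∃ K, K = W ⊓ fixE t := ⟨_, rfl⟩
  obtain ⟨NW, hNW⟩ : ∃ NW, NW = W.map (t - 1) := ⟨_, rfl⟩
  have h1 := finrank_eq_fix_add_map t W
  rw [← hK, ← hNW] at h1
  have hKW : K ≤ W := by rw [hK]; exact inf_le_left
  have hKfix : ∀ k ∈ K, t k = k := fun k hk => (mem_fixE t k).1 (by rw [hK] at hk; exact hk.2)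
  have hNWW : NW ≤ W := by rw [hNW]; exact map_sub_one_le t W hWinv
  have hmovorth : ∀ v ∈ movR t, v ∈ orth (pB Q) K := by
    rintro _ ⟨z, rfl⟩ k hk
    rw [pB_apply]
    exact OrthSemi.fix_perp_mov Q t ht k (hKfix k hk) z
  have hNWmov : NW ≤ movR t := by rw [hNW]; exact map_sub_one_le_movR t W
  have hNWorth : NW ≤ W ⊓ orth (pB Q) K := fun v hv => ⟨hNWW hv, hmovorth v (hNWmov hv)⟩
  have hdim3 := finrank_inf_orth' (pB Q) pB_id (pB_sym Q) W K hWnd hKW
  have hNWeq : NW = W ⊓ orth (pB Q) K :=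
    Submodule.eq_of_le_of_finrank_eq hNWorth (by omega)
  obtain ⟨R, hR⟩ : ∃ R, R = K ⊓ NW := ⟨_, rfl⟩
  have h5 := finrank_eq_fix_add_map t NW
  have h6 : NW ⊓ fixE t = R := by
    rw [hR, hK]
    apply le_antisymm
    · intro v hv
      exact ⟨⟨hNWW hv.1, hv.2⟩, hv.1⟩
    · intro v hv
      exact ⟨hv.2, hv.1.2⟩
  rw [h6] at h5
  have h7 : finrank F ↥(NW.map (t - 1)) ≤ a₀ :=
    (Submodule.finrank_mono (Submodule.map_mono hNWmov)).trans ha
  -- the part of `K` inside the image
  have h8 : K ⊓ (fixE t ⊓ movR t) ≤ R := by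
    intro v hv
    rw [hR]
    refine ⟨hv.1, ?_⟩
    rw [hNWeq]
    exact ⟨hKW hv.1, hmovorth v hv.2.2⟩
  have h9 := Submodule.finrank_sup_add_finrank_inf_eq K (fixE t ⊓ movR t)
  have h10 : finrank F ↥(K ⊔ (fixE t ⊓ movR t)) ≤ finrank F (fixE t) := by
    apply Submodule.finrank_mono
    apply sup_le
    · rw [hK]
      exact inf_le_right
    · exact inf_le_left
  have h11 := Submodule.finrank_mono h8
  -- `R` is totally singular
  have hRK : R ≤ K := by rw [hR]; exact inf_le_left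
  have hRW : R ≤ W := hRK.trans hKW
  have hRiso : R ≤ orth (pB Q) R := by
    intro v hv v' hv'
    rw [hR] at hv
    have : v ∈ W ⊓ orth (pB Q) K := by rw [← hNWeq]; exact hv.2
    exact this.2 v' (hRK hv')
  have h12 := iso_finrank_le (pB Q) pB_id (pB_sym Q) W R hWnd hRW hRiso
  have h13 := Submodule.finrank_mono hRK
  obtain ⟨m', hm'⟩ := hWev
  refine ⟨R, hRW, ?_, by omega⟩
  intro v hv
  exact (pB_self Q h2 v).1 (hRiso hv v hv)

end unip

section elt

variable {F : Type u} [Field F] [Fintype F] {p : ℕ} [Fact p.Prime] [CharP F p]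

open Cfsg.Agent.Lib.Helper15.NilpotentConj Cfsg.Agent.Lib.Helper15.UniForm
  Cfsg.Agent.Lib.Helper15.UniModels Cfsg.Agent.Lib.Helper15.UniJordan
  Cfsg.Agent.Lib.Helper15.UniOmega Cfsg.Agent.Lib.Helper15.UniOmega2
  Cfsg.Agent.Lib.Helper15.UniOmega3

/-- the Jordan type used: all blocks of size two except one of size one or three -/
def unipType (d : ℕ) : Multiset ℕ :=
  if Even d then Multiset.replicate d 2 + {1} else Multiset.replicate (d - 1) 2 + {3}

theorem kapm_unipType (d : ℕ) (hd : 1 ≤ d) :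
    kapm (unipType d) 1 + (if Even d then 0 else 1) = d + 1 ∧
      kapm (unipType d) 2 + (if Even d then 0 else 1) = 2 * d + 1 := by
  unfold unipType kapm
  split_ifs with h
  · simp [Multiset.map_add, Multiset.map_replicate, Multiset.sum_replicate]
    ring
  · simp [Multiset.map_add, Multiset.map_replicate, Multiset.sum_replicate]
    omega

/-- an element of order `p` of `Ω_{2d+1}(q)` all of whose fixed nondegenerate even-dimensional
subspaces are hyperbolic -/
theorem exists_unip_omega (h2 : (2 : F) ≠ 0) (d : ℕ) (hd : 3 ≤ d) :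
    ∃ x : GL (Unit ⊕ (Fin d ⊕ Fin d)) F, x ∈ Cfsg.Geo.omegaGL (Cfsg.quadFormOdd d F) ∧
      orderOf x = p ∧
      ∀ W : Submodule F (Unit ⊕ (Fin d ⊕ Fin d) → F),
        W.map (Matrix.toLin'
          (x : Matrix (Unit ⊕ (Fin d ⊕ Fin d)) (Unit ⊕ (Fin d ⊕ Fin d)) F)) ≤ W →
        Nd (Qd d h2) W → Even (finrank F W) → IsPlus (Qd d h2) W := by
  classical
  have hp := (Fact.out : p.Prime)
  have hp2 : p ≠ 2 := by
    rintro rfl
    exact h2 (CharTwo.two_eq_zero)
  have hp3 : 3 ≤ p := by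
    have := hp.two_le
    omega
  obtain ⟨μ, hμdef⟩ : ∃ μ, μ = unipType d := ⟨_, rfl⟩
  have hμ : ∀ e ∈ μ, 0 < e ∧ e ≤ p := by
    intro e he
    rw [hμdef] at he
    unfold unipType at he
    split_ifs at he
    all_goals
      rw [Multiset.mem_add, Multiset.mem_replicate, Multiset.mem_singleton] at he
      rcases he with ⟨_, rfl⟩ | rfl <;> omega
  have hμ1 : ∀ b ∈ μ, 1 ≤ b := fun b hb => (hμ b hb).1
  have hpar : ∀ e : ℕ, Even e → Even (μ.count e) := by
    intro e he
    rw [hμdef]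
    unfold unipType
    split_ifs with hde
    · rw [Multiset.count_add, Multiset.count_replicate, Multiset.count_singleton]
      have he1 : e ≠ 1 := by
        rintro rfl
        exact absurd he (by decide)
      rw [if_neg he1, add_zero]
      split_ifs
      · exact hde
      · exact Even.zero
    · rw [Multiset.count_add, Multiset.count_replicate, Multiset.count_singleton]
      have he1 : e ≠ 3 := by
        rintro rfl
        exact absurd he (by decide)
      rw [if_neg he1, add_zero]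
      split_ifs
      · obtain ⟨k, hk⟩ := Nat.not_even_iff_odd.1 hde
        exact ⟨k, by omega⟩
      · exact Even.zero
  have hsum : μ.sum = 2 * d + 1 := by
    rw [hμdef]
    unfold unipType
    split_ifs with hde
    · rw [Multiset.sum_add, Multiset.sum_replicate, Multiset.sum_singleton, smul_eq_mul]
      ring
    · rw [Multiset.sum_add, Multiset.sum_replicate, Multiset.sum_singleton, smul_eq_mul]
      omega
  have hcard : Multiset.card μ ≠ μ.sum := by
    rw [hsum, hμdef]
    unfold unipType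
    split_ifs with hde
    · rw [Multiset.card_add, Multiset.card_replicate, Multiset.card_singleton]
      omega
    · rw [Multiset.card_add, Multiset.card_replicate, Multiset.card_singleton]
      omega
  obtain ⟨W₀, _, _, _, T₀, QW, hnd, hinv, hnil, hk⟩ := oU_of_parity (F := F) h2 μ hμ1 hpar
  have hfr : finrank F W₀ = 2 * d + 1 := by
    rw [finrank_of_kap (T₀ - 1) μ hk hnil, hsum]
  have hnd₀ := Qd_nondeg (F := F) d h2
  have hfr₀ := finrank_Vd (F := F) d
  obtain ⟨c, hc, g, hg⟩ := exists_isometry_scalar h2 QW hnd (Qd d h2) hnd₀ (by rw [hfr, hfr₀])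
    (by rw [hfr]; exact ⟨d, rfl⟩)
  obtain ⟨A, hAΩ, hord, hnilA, hkA⟩ := exists_omega_element p hp2 (Qd d h2) hnd₀ μ hμ hcard T₀
    hnil hk QW hinv c hc g hg
  have hxmem : (A : GL (Unit ⊕ (Fin d ⊕ Fin d)) F) ∈
      Cfsg.Geo.omegaGL (Cfsg.quadFormOdd d F) := Subgroup.mem_map.2 ⟨A, hAΩ, rfl⟩
  refine ⟨A, hxmem, hord, ?_⟩
  obtain ⟨t, ht⟩ : ∃ t, t = Matrix.toLin' ((A : GL (Unit ⊕ (Fin d ⊕ Fin d)) F) :
    Matrix (Unit ⊕ (Fin d ⊕ Fin d)) (Unit ⊕ (Fin d ⊕ Fin d)) F) := ⟨_, rfl⟩
  rw [← ht] at hkA ⊢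
  have hiso : ∀ v, Qd d h2 (t v) = Qd d h2 v := by
    rw [ht]
    exact (facts_of_mem_omega d h2 _ hxmem).1
  -- the dimension counts
  have hk1 : kap (t - 1) 1 = finrank F (fixE t) := by
    unfold kap
    rw [pow_one]
    rfl
  have hrange2 : (movR t).map (t - 1) = LinearMap.range ((t - 1) ^ 2) := by
    rw [pow_two, Module.End.mul_eq_comp, LinearMap.range_comp]
    rfl
  have hk2 : finrank F ↥((movR t).map (t - 1)) + kap (t - 1) 2 = 2 * d + 1 := by
    rw [hrange2]
    unfold kap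
    rw [LinearMap.finrank_range_add_finrank_ker, hfr₀]
  have h5 := finrank_eq_fix_add_map t (movR t)
  have h6 := finrank_fix_add_mov t
  rw [hfr₀] at h6
  have h7 : movR t ⊓ fixE t = fixE t ⊓ movR t := inf_comm _ _
  rw [h7] at h5
  obtain ⟨hm1, hm2⟩ := kapm_unipType d (by omega)
  rw [← hμdef, ← hkA 1, hk1] at hm1
  rw [← hμdef, ← hkA 2] at hm2
  intro W hWinv hWnd hWev
  have hWinv' : ∀ u ∈ W, t u ∈ W := fun u hu => hWinv ⟨u, hu, rfl⟩
  by_cases hde : Even d
  · rw [if_pos hde] at hm1 hm2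
    exact plus_of_unip (Qd d h2) h2 t hiso 1 0 (by norm_num) (by omega) (by omega) W hWinv' hWnd
      hWev
  · rw [if_neg hde] at hm1 hm2
    exact plus_of_unip (Qd d h2) h2 t hiso 0 1 (by norm_num) (by omega) (by omega) W hWinv' hWnd
      hWev

end elt

end Cfsg.Agent.Lib.Helper12.OrN
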