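import Mathlib
import Cfsg.Agent.Lib.Helper12.OrNK

set_option autoImplicit false
set_option linter.unusedSectionVars false

/-!
# Isometric subspaces of a quadratic space: gluing, Witt's theorem, embeddings (odd characteristic)
-/

namespace Cfsg.Agent.Lib.Helper12.OrP

open Module QuadraticMap Cfsg.Agent.Lib.Helper12.Elus Cfsg.Agent.Lib.Helper12.Un
  Cfsg.Agent.Lib.Helper12.OrN

section iso

variable {F V : Type*} [Field F] [AddCommGroup V] [Module F V] (Q : QuadraticForm F V)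

/-- the subspaces `A` and `B` are isometric -/
def Iso (A B : Submodule F V) : Prop :=
  ∃ e : A ≃ₗ[F] B, ∀ w : A, Q ((e w : B) : V) = Q (w : V)

theorem iso_refl (A : Submodule F V) : Iso Q A A := ⟨LinearEquiv.refl F A, fun _ => rfl⟩

theorem iso_symm {A B : Submodule F V} (h : Iso Q A B) : Iso Q B A := by
  obtain ⟨e, he⟩ := h
  refine ⟨e.symm, fun w => ?_⟩
  have := he (e.symm w)
  rw [LinearEquiv.apply_symm_apply] at this
  exact this.symm

theorem iso_trans {A B C : Submodule F V} (h₁ : Iso Q A B) (h₂ : Iso Q B C) : Iso Q A C := by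
  obtain ⟨e₁, he₁⟩ := h₁
  obtain ⟨e₂, he₂⟩ := h₂
  refine ⟨e₁.trans e₂, fun w => ?_⟩
  rw [LinearEquiv.trans_apply, he₂, he₁]

theorem iso_of_eq {A B : Submodule F V} (h : A = B) : Iso Q A B := by
  subst h
  exact iso_refl Q A

theorem iso_finrank {A B : Submodule F V} (h : Iso Q A B) : finrank F A = finrank F B := by
  obtain ⟨e, -⟩ := h
  exact e.finrank_eq

theorem iso_polar {A B : Submodule F V} (e : A ≃ₗ[F] B)
    (he : ∀ w : A, Q ((e w : B) : V) = Q (w : V)) (a a' : A) :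
    polar Q ((e a : B) : V) ((e a' : B) : V) = polar Q (a : V) (a' : V) := by
  have h1 : ((e a : B) : V) + ((e a' : B) : V) = ((e (a + a') : B) : V) := by
    rw [map_add]
    rfl
  have h2 : (a : V) + (a' : V) = ((a + a' : A) : V) := rfl
  unfold polar
  rw [h1, h2, he, he, he]

theorem iso_nd {A B : Submodule F V} (h : Iso Q A B) (hA : Nd Q A) : Nd Q B := by
  obtain ⟨e, he⟩ := h
  intro b hb hb0
  have ha0 : ((e.symm ⟨b, hb⟩ : A) : V) ≠ 0 := by
    intro h0
    apply hb0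
    have h1 : e.symm ⟨b, hb⟩ = 0 := Subtype.ext h0
    have h3 : (⟨b, hb⟩ : B) = 0 := by
      rw [← e.apply_symm_apply ⟨b, hb⟩, h1, map_zero]
    exact congrArg Subtype.val h3
  obtain ⟨v, hv, hne⟩ := hA _ (e.symm ⟨b, hb⟩).2 ha0
  refine ⟨((e ⟨v, hv⟩ : B) : V), (e ⟨v, hv⟩).2, ?_⟩
  rw [pB_apply] at hne ⊢
  have h1 := iso_polar Q e he (e.symm ⟨b, hb⟩) ⟨v, hv⟩
  rw [e.apply_symm_apply] at h1
  rw [h1]
  exact hne

theorem iso_map (f : V →ₗ[F] V) (hf : Function.Injective f) (hQ : ∀ v, Q (f v) = Q v)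
    (A : Submodule F V) : Iso Q A (A.map f) := by
  refine ⟨Submodule.equivMapOfInjective f hf A, fun w => ?_⟩
  rw [Submodule.coe_equivMapOfInjective_apply, hQ]

/-- gluing isometries along orthogonal decompositions -/
theorem iso_glue (A₁ A₂ B₁ B₂ : Submodule F V) (hA : A₁ ⊓ A₂ = ⊥) (hB : B₁ ⊓ B₂ = ⊥)
    (hAo : ∀ a ∈ A₁, ∀ b ∈ A₂, polar Q a b = 0) (hBo : ∀ a ∈ B₁, ∀ b ∈ B₂, polar Q a b = 0)
    (h₁ : Iso Q A₁ B₁) (h₂ : Iso Q A₂ B₂) : Iso Q (A₁ ⊔ A₂) (B₁ ⊔ B₂) := by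
  obtain ⟨e₁, he₁⟩ := h₁
  obtain ⟨e₂, he₂⟩ := h₂
  have key : ∀ (C₁ C₂ : Submodule F V), C₁ ⊓ C₂ = ⊥ →
      ∃ E : (C₁ × C₂) ≃ₗ[F] ↥(C₁ ⊔ C₂), ∀ p : C₁ × C₂, ((E p : ↥(C₁ ⊔ C₂)) : V) = p.1 + p.2 := by
    intro C₁ C₂ hC
    have hinj : Function.Injective (C₁.subtype.coprod C₂.subtype) := by
      rw [← LinearMap.ker_eq_bot, LinearMap.ker_coprod_of_disjoint_range]
      · rw [Submodule.ker_subtype, Submodule.ker_subtype]
        exact Submodule.prod_bot
      · rw [Submodule.range_subtype, Submodule.range_subtype, disjoint_iff]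
        exact hC
    have hrange : LinearMap.range (C₁.subtype.coprod C₂.subtype) = C₁ ⊔ C₂ := by
      rw [LinearMap.range_coprod, Submodule.range_subtype, Submodule.range_subtype]
    refine ⟨(LinearEquiv.ofInjective _ hinj).trans (LinearEquiv.ofEq _ _ hrange), fun p => ?_⟩
    rfl
  obtain ⟨EA, hEA⟩ := key A₁ A₂ hA
  obtain ⟨EB, hEB⟩ := key B₁ B₂ hB
  refine ⟨(EA.symm.trans (e₁.prodCongr e₂)).trans EB, fun w => ?_⟩
  obtain ⟨p, rfl⟩ := EA.surjective w
  rw [LinearEquiv.trans_apply, LinearEquiv.trans_apply, LinearEquiv.symm_apply_apply, hEB, hEA]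
  have h3 : ∀ x y : V, Q (x + y) = Q x + Q y + polar Q x y := by
    intro x y
    unfold polar
    ring
  rw [h3, h3]
  show Q ((e₁ p.1 : B₁) : V) + Q ((e₂ p.2 : B₂) : V) + polar Q ((e₁ p.1 : B₁) : V) ((e₂ p.2 : B₂) : V)
    = _
  rw [he₁, he₂, hAo _ p.1.2 _ p.2.2, hBo _ (e₁ p.1).2 _ (e₂ p.2).2]

theorem iso_span_singleton (a c : V) (ha : a ≠ 0) (hc : c ≠ 0) (hac : Q a = Q c) :
    Iso Q (Submodule.span F {a}) (Submodule.span F {c}) := by
  refine ⟨(LinearEquiv.toSpanNonzeroSingleton F V a ha).symm.trans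
    (LinearEquiv.toSpanNonzeroSingleton F V c hc), fun w => ?_⟩
  obtain ⟨t, rfl⟩ := (LinearEquiv.toSpanNonzeroSingleton F V a ha).surjective w
  rw [LinearEquiv.trans_apply, LinearEquiv.symm_apply_apply]
  rw [LinearEquiv.toSpanNonzeroSingleton_apply, LinearEquiv.toSpanNonzeroSingleton_apply]
  show Q (t • c) = Q (t • a)
  rw [QuadraticMap.map_smul, QuadraticMap.map_smul, hac]

/-- Witt's theorem: isometric subspaces are conjugate under the isometry group -/
theorem iso_witt [FiniteDimensional F V] (hQ : (polarBilin Q).Nondegenerate)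
    {A B : Submodule F V} (h : Iso Q A B) :
    ∃ g ∈ isoGrp Q, A.map ((g : V ≃ₗ[F] V) : V →ₗ[F] V) = B := by
  obtain ⟨e, he⟩ := h
  obtain ⟨g, hg1, hg2⟩ := Cfsg.Agent.S0750.S0750aux.main Q hQ A B e he
  refine ⟨g, hg1, ?_⟩
  apply le_antisymm
  · rintro _ ⟨x, hx, rfl⟩
    have := hg2 ⟨x, hx⟩
    show g x ∈ B
    rw [show g x = ((e ⟨x, hx⟩ : B) : V) from this]
    exact (e ⟨x, hx⟩).2
  · intro w hw
    refine ⟨(e.symm ⟨w, hw⟩ : A), (e.symm ⟨w, hw⟩).2, ?_⟩
    have := hg2 (e.symm ⟨w, hw⟩)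
    rw [LinearEquiv.apply_symm_apply] at this
    exact this

end iso

section embed

variable {F V : Type*} [Field F] [Fintype F] [AddCommGroup V] [Module F V]
  [FiniteDimensional F V] (Q : QuadraticForm F V)

theorem quad_add (x y : V) : Q (x + y) = Q x + Q y + polar Q x y := by
  unfold polar
  ring

/-- a nondegenerate space of dimension at least two represents every nonzero scalar -/
theorem exists_repr (h2 : (2 : F) ≠ 0) (C : Submodule F V) (hC : Nd Q C)
    (hdim : 2 ≤ finrank F C) (α : F) : ∃ c ∈ C, Q c = α := by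
  classical
  have hC0 : C ≠ ⊥ := by
    rintro rfl
    rw [finrank_bot] at hdim
    omega
  obtain ⟨u, hu, hQu⟩ := exists_nonsing Q C hC hC0
  have hund : Nd Q (Submodule.span F {u}) := nd_span_singleton Q h2 u hQu
  have huC : Submodule.span F {u} ≤ C := (Submodule.span_singleton_le_iff_mem u C).2 hu
  have hu0 : u ≠ 0 := by
    rintro rfl
    exact hQu (QuadraticMap.map_zero Q)
  have hC'nd : Nd Q (C ⊓ orth (pB Q) (Submodule.span F {u})) :=
    ndOn_inf_orth (pB Q) pB_id (pB_sym Q) C _ hC huC hund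
  have hC'dim := finrank_inf_orth (pB Q) pB_id (pB_sym Q) C _ huC hund
  rw [finrank_span_singleton hu0] at hC'dim
  have hC'0 : C ⊓ orth (pB Q) (Submodule.span F {u}) ≠ ⊥ := by
    intro h0
    rw [h0, finrank_bot] at hC'dim
    omega
  obtain ⟨v, hv, hQv⟩ := exists_nonsing Q _ hC'nd hC'0
  have huv : polar Q u v = 0 := hv.2 u (Submodule.mem_span_singleton_self u)
  have hodd : Fintype.card F % 2 = 1 :=
    FiniteField.odd_card_of_char_ne_two (Cfsg.Agent.Lib.Helper25.Spin.ringChar_ne_two h2)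
  obtain ⟨a, b, hab⟩ := FiniteField.exists_root_sum_quadratic
    (f := Polynomial.C (Q u) * Polynomial.X ^ 2)
    (g := Polynomial.C (Q v) * Polynomial.X ^ 2 - Polynomial.C α)
    (by rw [Polynomial.degree_C_mul_X_pow 2 hQu]; rfl)
    (by
      rw [Polynomial.degree_sub_eq_left_of_degree_lt]
      · rw [Polynomial.degree_C_mul_X_pow 2 hQv]; rfl
      · rw [Polynomial.degree_C_mul_X_pow 2 hQv]
        exact lt_of_le_of_lt Polynomial.degree_C_le (by norm_num)) hodd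
  simp only [Polynomial.eval_mul, Polynomial.eval_C, Polynomial.eval_pow, Polynomial.eval_X,
    Polynomial.eval_sub] at hab
  refine ⟨a • u + b • v, C.add_mem (C.smul_mem a hu) (C.smul_mem b hv.1), ?_⟩
  rw [quad_add, QuadraticMap.map_smul, QuadraticMap.map_smul, polar_smul_left, polar_smul_right,
    huv]
  simp only [smul_eq_mul, mul_zero, add_zero]
  linear_combination hab

/-- a nondegenerate space embeds isometrically in every nondegenerate space of larger
dimension -/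
theorem exists_embed (h2 : (2 : F) ≠ 0) : ∀ (n : ℕ) (A C : Submodule F V), finrank F A = n →
    Nd Q A → Nd Q C → n < finrank F C → ∃ A' : Submodule F V, A' ≤ C ∧ Iso Q A A' := by
  intro n
  induction n with
  | zero =>
    intro A C hA _ _ _
    have hA0 : A = ⊥ := Submodule.finrank_eq_zero.1 hA
    exact ⟨⊥, bot_le, iso_of_eq Q hA0⟩
  | succ n ih =>
    intro A C hA hAnd hCnd hlt
    have hA0 : A ≠ ⊥ := by
      rintro rfl
      rw [finrank_bot] at hA
      omega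
    obtain ⟨a, ha, hQa⟩ := exists_nonsing Q A hAnd hA0
    have ha0 : a ≠ 0 := by
      rintro rfl
      exact hQa (QuadraticMap.map_zero Q)
    have hand : Nd Q (Submodule.span F {a}) := nd_span_singleton Q h2 a hQa
    have haA : Submodule.span F {a} ≤ A := (Submodule.span_singleton_le_iff_mem a A).2 ha
    have hA₁nd : Nd Q (A ⊓ orth (pB Q) (Submodule.span F {a})) :=
      ndOn_inf_orth (pB Q) pB_id (pB_sym Q) A _ hAnd haA hand
    have hA₁dim := finrank_inf_orth (pB Q) pB_id (pB_sym Q) A _ haA hand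
    rw [finrank_span_singleton ha0] at hA₁dim
    obtain ⟨hAsup, hAdisj⟩ := sup_inf_orth (pB Q) pB_id (pB_sym Q) A _ haA hand
    obtain ⟨c, hc, hQc⟩ := exists_repr Q h2 C hCnd (by omega) (Q a)
    have hc0 : c ≠ 0 := by
      rintro rfl
      rw [QuadraticMap.map_zero] at hQc
      exact hQa hQc.symm
    have hcnd : Nd Q (Submodule.span F {c}) := nd_span_singleton Q h2 c (by rw [hQc]; exact hQa)
    have hcC : Submodule.span F {c} ≤ C := (Submodule.span_singleton_le_iff_mem c C).2 hc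
    have hC₁nd : Nd Q (C ⊓ orth (pB Q) (Submodule.span F {c})) :=
      ndOn_inf_orth (pB Q) pB_id (pB_sym Q) C _ hCnd hcC hcnd
    have hC₁dim := finrank_inf_orth (pB Q) pB_id (pB_sym Q) C _ hcC hcnd
    rw [finrank_span_singleton hc0] at hC₁dim
    obtain ⟨A₁', hA₁'C, hiso⟩ := ih (A ⊓ orth (pB Q) (Submodule.span F {a}))
      (C ⊓ orth (pB Q) (Submodule.span F {c})) (by omega) hA₁nd hC₁nd (by omega)
    refine ⟨Submodule.span F {c} ⊔ A₁', sup_le hcC (hA₁'C.trans inf_le_left), ?_⟩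
    have hcorth : ∀ x ∈ Submodule.span F {c}, ∀ y ∈ A₁', polar Q x y = 0 := by
      intro x hx y hy
      exact (hA₁'C hy).2 x hx
    have hglue := iso_glue Q (Submodule.span F {a}) (A ⊓ orth (pB Q) (Submodule.span F {a}))
      (Submodule.span F {c}) A₁' hAdisj.eq_bot
      (disjoint_of_orth Q _ _ hcnd hcorth)
      (fun x hx y hy => hy.2 x hx) hcorth
      (iso_span_singleton Q a c ha0 hc0 hQc.symm) hiso
    rw [hAsup] at hglue
    exact hglue

/-- completing a nondegenerate subspace `W₂` by a subspace of an orthogonal nondegenerate space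
`C` to a subspace isometric to a given one -/
theorem exists_complete (h2 : (2 : F) ≠ 0) (W₀ W₂ C : Submodule F V) (hW₀ : Nd Q W₀)
    (hW₂ : Nd Q W₂) (hC : Nd Q C) (horth : ∀ a ∈ W₂, ∀ b ∈ C, polar Q a b = 0)
    (h1 : finrank F W₂ < finrank F W₀) (h3 : finrank F W₀ < finrank F W₂ + finrank F C) :
    ∃ W₁ : Submodule F V, W₁ ≤ C ∧ Iso Q (W₁ ⊔ W₂) W₀ := by
  obtain ⟨W₂', hW₂'le, hiso₂⟩ := exists_embed Q h2 _ W₂ W₀ rfl hW₂ hW₀ h1
  have hW₂'nd : Nd Q W₂' := iso_nd Q hiso₂ hW₂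
  have hTnd : Nd Q (W₀ ⊓ orth (pB Q) W₂') :=
    ndOn_inf_orth (pB Q) pB_id (pB_sym Q) W₀ _ hW₀ hW₂'le hW₂'nd
  have hTdim := finrank_inf_orth (pB Q) pB_id (pB_sym Q) W₀ _ hW₂'le hW₂'nd
  obtain ⟨hsup, hdisj⟩ := sup_inf_orth (pB Q) pB_id (pB_sym Q) W₀ _ hW₂'le hW₂'nd
  have hd2 := iso_finrank Q hiso₂
  obtain ⟨W₁, hW₁C, hiso₁⟩ := exists_embed Q h2 _ (W₀ ⊓ orth (pB Q) W₂') C rfl hTnd hC
    (by omega)
  refine ⟨W₁, hW₁C, ?_⟩
  have hW₁nd : Nd Q W₁ := iso_nd Q hiso₁ hTnd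
  have ho : ∀ a ∈ W₁, ∀ b ∈ W₂, polar Q a b = 0 := by
    intro a ha b hb
    rw [polar_comm]
    exact horth b hb a (hW₁C ha)
  have hglue := iso_glue Q W₁ W₂ (W₀ ⊓ orth (pB Q) W₂') W₂'
    (disjoint_of_orth Q _ _ hW₁nd ho)
    (by rw [inf_comm]; exact hdisj.eq_bot) ho
    (fun a ha b hb => by rw [polar_comm]; exact ha.2 b hb)
    (iso_symm Q hiso₁) hiso₂
  rw [sup_comm (W₀ ⊓ orth (pB Q) W₂') W₂', hsup] at hglue
  exact hglue

end embed

end Cfsg.Agent.Lib.Helper12.OrP
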