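import Mathlib
import Cfsg.Agent.Lib.Helper12.OrPA

set_option autoImplicit false
set_option linter.unusedSectionVars false
set_option linter.style.haveILetI false

/-!
# Counting the subspaces isometric to a given one modulo a prime
-/

namespace Cfsg.Agent.Lib.Helper12.OrP

open Module QuadraticMap Cfsg.Agent.Lib.Helper12.Elus Cfsg.Agent.Lib.Helper12.Un
  Cfsg.Agent.Lib.Helper12.OrN Cfsg.Agent.Lib.Helper15

section maps

variable {F V V' : Type*} [Field F] [AddCommGroup V] [Module F V] [AddCommGroup V']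
  [Module F V'] (Q : QuadraticForm F V) (Q' : QuadraticForm F V')

/-- isometric subspaces under an isometric embedding -/
theorem iso_map_iff (f : V' →ₗ[F] V) (hf : Function.Injective f) (hQ : ∀ v, Q (f v) = Q' v)
    (A B : Submodule F V') : Iso Q (A.map f) (B.map f) ↔ Iso Q' A B := by
  have eA := Submodule.equivMapOfInjective f hf A
  have eB := Submodule.equivMapOfInjective f hf B
  constructor
  · rintro ⟨e, he⟩
    refine ⟨((Submodule.equivMapOfInjective f hf A).trans e).trans
      (Submodule.equivMapOfInjective f hf B).symm, fun w => ?_⟩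
    rw [LinearEquiv.trans_apply, LinearEquiv.trans_apply]
    have h1 := he ((Submodule.equivMapOfInjective f hf A) w)
    rw [Submodule.coe_equivMapOfInjective_apply, hQ] at h1
    rw [← h1, ← hQ]
    congr 1
    have h3 := Submodule.coe_equivMapOfInjective_apply f hf B
      ((Submodule.equivMapOfInjective f hf B).symm (e ((Submodule.equivMapOfInjective f hf A) w)))
    rw [LinearEquiv.apply_symm_apply] at h3
    exact h3.symm
  · rintro ⟨e, he⟩
    refine ⟨((Submodule.equivMapOfInjective f hf A).symm.trans e).trans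
      (Submodule.equivMapOfInjective f hf B), fun w => ?_⟩
    obtain ⟨a, rfl⟩ := (Submodule.equivMapOfInjective f hf A).surjective w
    rw [LinearEquiv.trans_apply, LinearEquiv.trans_apply, LinearEquiv.symm_apply_apply,
      Submodule.coe_equivMapOfInjective_apply, Submodule.coe_equivMapOfInjective_apply, hQ, hQ, he]

end maps

section count

variable {F V : Type*} [Field F] [Fintype F] [AddCommGroup V] [Module F V]
  [FiniteDimensional F V] {p : ℕ} [Fact p.Prime] [CharP F p] (Q : QuadraticForm F V)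
  (r : ℕ) [Fact r.Prime]

/-- the subspaces isometric to `W₀` -/
def isoSet (W₀ : Submodule F V) : Set (Submodule F V) := {W | Iso Q W W₀}

theorem isoSet_orbit (hQ : (polarBilin Q).Nondegenerate) (W₀ W₁ : Submodule F V)
    (hW₁ : W₁ ∈ isoSet Q W₀) (W : Submodule F V) :
    W ∈ isoSet Q W₀ ↔ ∃ g ∈ isoGrp Q, W₁.map ((g : V ≃ₗ[F] V) : V →ₗ[F] V) = W := by
  constructor
  · intro hW
    exact iso_witt Q hQ (iso_trans Q hW₁ (iso_symm Q hW))
  · rintro ⟨g, hg, rfl⟩
    exact iso_trans Q (iso_symm Q (iso_map Q (g : V →ₗ[F] V) g.injective hg W₁)) hW₁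

/-- in a small space the number of subspaces isometric to a given one is prime to `r` -/
theorem not_dvd_card_isoSet_small (h2 : (2 : F) ≠ 0) (hQ : (polarBilin Q).Nondegenerate)
    (hrp : r ≠ p) (hr2 : r ≠ 2) (hdim : finrank F V < Sp.blockDim (Fintype.card F) r)
    (W₀ : Submodule F V) (hne : (isoSet Q W₀).Nonempty) :
    ¬ r ∣ Nat.card (isoSet Q W₀) := by
  obtain ⟨W₁, hW₁⟩ := hne
  have h1 := card_orbit_dvd (isoGrp Q) (isoSet Q W₀) W₁ (isoSet_orbit Q hQ W₀ W₁ hW₁)
  intro h3
  exact not_dvd_card_isoGrp Q r h2 (nd_top Q hQ) hrp hr2 hdim (h3.trans h1)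

/-- the number of subspaces isometric to a small nondegenerate `W₀` is prime to `r` if some
isometry of order dividing `r` has a small fixed space, larger than `W₀` -/
theorem not_dvd_card_isoSet (h2 : (2 : F) ≠ 0) (hQ : (polarBilin Q).Nondegenerate)
    (hrp : r ≠ p) (hr2 : r ≠ 2) (y : V →ₗ[F] V) (hx : ∀ v, Q (y v) = Q v) (hy : y ^ r = 1)
    (hfix : finrank F (fixE y) < Sp.blockDim (Fintype.card F) r)
    (W₀ : Submodule F V) (hW₀ : Nd Q W₀)
    (hmc : finrank F W₀ < Sp.blockDim (Fintype.card F) r)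
    (hlt : finrank F W₀ < finrank F (fixE y)) :
    ¬ r ∣ Nat.card (isoSet Q W₀) := by
  classical
  have hr : r.Prime := Fact.out
  have hr0 : (r : F) ≠ 0 := cast_ne_zero_of_ne r hrp
  have hVfin : Finite V := Module.finite_of_finite F
  have hSfin : Finite (Submodule F V) := Finite.of_injective (fun W => (W : Set V))
    SetLike.coe_injective
  have hyinj : Function.Injective y := by
    intro a b hab
    have h1 : ∀ v, (y ^ (r - 1)) (y v) = v := by
      intro v
      have : (y ^ (r - 1) * y) v = v := by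
        rw [← pow_succ, Nat.sub_add_cancel hr.pos, hy]
        rfl
      exact this
    rw [← h1 a, ← h1 b, hab]
  obtain ⟨C, hC⟩ : ∃ C, C = fixE y := ⟨_, rfl⟩
  rw [← hC] at hfix hlt
  have hCnd : Nd Q C := by
    rw [hC]
    exact (nd_iff Q _).2 (OrthSemi.ndOn_fix Q (ndOn_top Q hQ) y hx r hy hr0)
  have hQC : (polarBilin (OrthSemi.resQ Q C)).Nondegenerate :=
    OrthSemi.nondegenerate_resQ Q C ((nd_iff Q C).1 hCnd)
  have hsubQ : ∀ v : C, Q (C.subtype v) = OrthSemi.resQ Q C v := fun v => rfl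
  have hsubinj : Function.Injective C.subtype := Submodule.injective_subtype C
  -- the permutation
  have hmapmem : ∀ W ∈ isoSet Q W₀, W.map y ∈ isoSet Q W₀ := by
    intro W hW
    exact iso_trans Q (iso_symm Q (iso_map Q y hyinj hx W)) hW
  have : Fintype ↥(isoSet Q W₀) := Fintype.ofFinite _
  let f : Function.End ↥(isoSet Q W₀) := fun W => ⟨W.1.map y, hmapmem W.1 W.2⟩
  have hfk : ∀ (k : ℕ) (W : ↥(isoSet Q W₀)), ((f ^ k) W).1 = W.1.map (y ^ k) := by
    intro k
    induction k with
    | zero =>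
      intro W
      show W.1 = W.1.map (1 : V →ₗ[F] V)
      exact (Submodule.map_id W.1).symm
    | succ k ih =>
      intro W
      rw [pow_succ', pow_succ']
      show ((f ^ k) W).1.map y = W.1.map (y * y ^ k)
      rw [ih, Module.End.mul_eq_comp, Submodule.map_comp]
  have hf : f ^ r ^ 1 = 1 := by
    funext W
    apply Subtype.ext
    rw [pow_one, hfk, hy]
    exact Submodule.map_id W.1
  have h1 := Equiv.Perm.card_fixedPoints_modEq hf
  -- the subspaces of the fixed space
  obtain ⟨W₁, hW₁C, hW₁iso⟩ := exists_embed Q h2 _ W₀ C rfl hW₀ hCnd hlt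
  obtain ⟨W₁', hW₁'⟩ : ∃ W₁' : Submodule F C, W₁' = W₁.comap C.subtype := ⟨_, rfl⟩
  have hW₁'map : W₁'.map C.subtype = W₁ := by
    rw [hW₁', Submodule.map_comap_subtype]
    exact inf_eq_right.2 hW₁C
  let S' : Set (Submodule F C) := {W' | Iso Q (W'.map C.subtype) W₀}
  have hS'W₁ : W₁' ∈ S' := by
    show Iso Q (W₁'.map C.subtype) W₀
    rw [hW₁'map]
    exact iso_symm Q hW₁iso
  have hS'orbit : ∀ W' : Submodule F C, W' ∈ S' ↔ ∃ g ∈ isoGrp (OrthSemi.resQ Q C),
      W₁'.map ((g : C ≃ₗ[F] C) : C →ₗ[F] C) = W' := by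
    intro W'
    constructor
    · intro hW'
      have h3 : Iso Q (W₁'.map C.subtype) (W'.map C.subtype) :=
        iso_trans Q hS'W₁ (iso_symm Q hW')
      exact iso_witt (OrthSemi.resQ Q C) hQC
        ((iso_map_iff Q (OrthSemi.resQ Q C) C.subtype hsubinj hsubQ W₁' W').1 h3)
    · rintro ⟨g, hg, rfl⟩
      have h3 : Iso (OrthSemi.resQ Q C) W₁' (W₁'.map ((g : C ≃ₗ[F] C) : C →ₗ[F] C)) :=
        iso_map (OrthSemi.resQ Q C) (g : C →ₗ[F] C) g.injective hg W₁'
      have h4 := (iso_map_iff Q (OrthSemi.resQ Q C) C.subtype hsubinj hsubQ W₁' _).2 h3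
      exact iso_trans Q (iso_symm Q h4) hS'W₁
  have hS'card : ¬ r ∣ Nat.card S' := by
    have h3 := card_orbit_dvd (isoGrp (OrthSemi.resQ Q C)) S' W₁' hS'orbit
    intro h4
    exact not_dvd_card_isoGrp (OrthSemi.resQ Q C) r h2 (nd_top _ hQC) hrp hr2
      hfix (h4.trans h3)
  -- the fixed points
  have hCfix : ∀ v ∈ C, y v = v := by
    intro v hv
    rw [hC] at hv
    exact (mem_fixE y v).1 hv
  have φfix : ∀ W' : Submodule F C, (W'.map C.subtype).map y = W'.map C.subtype := by
    intro W'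
    apply le_antisymm
    · rintro _ ⟨_, ⟨w, hw, rfl⟩, rfl⟩
      have h3 : y (C.subtype w) = C.subtype w := hCfix _ w.2
      rw [h3]
      exact ⟨w, hw, rfl⟩
    · rintro _ ⟨w, hw, rfl⟩
      have h3 : y (C.subtype w) = C.subtype w := hCfix _ w.2
      exact ⟨C.subtype w, ⟨w, hw, rfl⟩, h3⟩
  have ψmem : ∀ W ∈ isoSet Q W₀, W.map y = W →
      W.comap C.subtype ∈ S' ∧ (W.comap C.subtype).map C.subtype = W := by
    intro W hW hWy
    have hWinv : ∀ u ∈ W, y u ∈ W := by
      intro u hu
      rw [← hWy]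
      exact ⟨u, hu, rfl⟩
    have hWnd : Nd Q W := iso_nd Q (iso_symm Q hW) hW₀
    have hWC : W ≤ C := by
      rw [hC]
      exact le_fix_of_small Q r h2 y hx hrp hr2 hy W hWinv hWnd
        (by rw [iso_finrank Q hW]; exact hmc)
    have h6 : (W.comap C.subtype).map C.subtype = W := by
      rw [Submodule.map_comap_subtype]
      exact inf_eq_right.2 hWC
    refine ⟨?_, h6⟩
    show Iso Q ((W.comap C.subtype).map C.subtype) W₀
    rw [h6]
    exact hW
  have hcard : Fintype.card (Function.fixedPoints f) = Nat.card S' := by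
    rw [← Nat.card_eq_fintype_card]
    symm
    apply Nat.card_congr
    refine Equiv.ofBijective (fun W' => ⟨⟨W'.1.map C.subtype, W'.2⟩,
      Subtype.ext (φfix W'.1)⟩) ⟨?_, ?_⟩
    · intro W₁ W₂ h12
      have h3 : W₁.1.map C.subtype = W₂.1.map C.subtype :=
        congrArg (fun z : Function.fixedPoints f => z.1.1) h12
      exact Subtype.ext (Submodule.map_injective_of_injective hsubinj h3)
    · rintro ⟨⟨W, hW⟩, hWfix⟩
      have hWy : W.map y = W := congrArg Subtype.val hWfix
      obtain ⟨h3, h4⟩ := ψmem W hW hWy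
      exact ⟨⟨W.comap C.subtype, h3⟩, Subtype.ext (Subtype.ext h4)⟩
  intro hdvd
  apply hS'card
  rw [← hcard]
  rw [Nat.card_eq_fintype_card] at hdvd
  exact (Nat.modEq_zero_iff_dvd).1 (h1.symm.trans ((Nat.modEq_zero_iff_dvd).2 hdvd))

end count

end Cfsg.Agent.Lib.Helper12.OrP
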