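import Mathlib
import Cfsg.Agent.Lib.Helper12.OrPB

set_option autoImplicit false
set_option linter.unusedSectionVars false

/-!
# Semisimple elements of odd prime order and invariant subspaces isometric to a given
odd-dimensional nondegenerate subspace
-/

namespace Cfsg.Agent.Lib.Helper12.OrP

open Module QuadraticMap Cfsg.Agent.Lib.Helper12.Elus Cfsg.Agent.Lib.Helper12.Un
  Cfsg.Agent.Lib.Helper12.OrN Cfsg.Agent.Lib.Helper15

section ss

variable {F V : Type*} [Field F] [Fintype F] [AddCommGroup V] [Module F V]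
  [FiniteDimensional F V] {p : ℕ} [Fact p.Prime] [CharP F p] (Q : QuadraticForm F V)
  (y : V →ₗ[F] V) (r : ℕ) [Fact r.Prime]

/-- the dimension of an invariant nondegenerate subspace modulo the block dimension -/
theorem fwd_dim (h2 : (2 : F) ≠ 0) (hx : ∀ v, Q (y v) = Q v) (hrp : r ≠ p)
    (hr2 : r ≠ 2) (hy : y ^ r = 1)
    (W : Submodule F V) (hWinv : ∀ u ∈ W, y u ∈ W) (hWnd : Nd Q W) :
    finrank F W % Sp.blockDim (Fintype.card F) r ≤ finrank F (fixE y) := by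
  have hr0 : (r : F) ≠ 0 := cast_ne_zero_of_ne r hrp
  have hRnd : Nd Q (W ⊓ movR y) :=
    ndOn_inf_mov (pB Q) y (pB_sym Q) (pB_iso Q y hx) r hy hr0 W hWinv hWnd
  obtain ⟨t, ht', -⟩ := chain Q y r h2 hx hrp hr2 hy (W ⊓ movR y)
    (Sp.inf_invariant y _ _ hWinv (movR_invariant y)) inf_le_right hRnd
  obtain ⟨c, hc⟩ : ∃ c, c = Sp.blockDim (Fintype.card F) r := ⟨_, rfl⟩
  rw [← hc] at ht' ⊢
  have hsplit := Sp.inv_split y r hy hr0 W hWinv
  have hdisj : (W ⊓ fixE y) ⊓ (W ⊓ movR y) = ⊥ := by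
    rw [eq_bot_iff, ← fix_inf_mov y r hy hr0]
    exact inf_le_inf inf_le_right inf_le_right
  have hdim := Submodule.finrank_sup_add_finrank_inf_eq (W ⊓ fixE y) (W ⊓ movR y)
  rw [hsplit, hdisj, finrank_bot, add_zero, ht'] at hdim
  have hle : finrank F ↥(W ⊓ fixE y) ≤ finrank F (fixE y) := Submodule.finrank_mono inf_le_right
  have hmod : finrank F W % c = finrank F ↥(W ⊓ fixE y) % c := by
    rw [hdim, Nat.add_mul_mod_self_left]
  have := Nat.mod_le (finrank F ↥(W ⊓ fixE y)) c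
  omega

/-- the dimension of the fixed space modulo the block dimension -/
theorem fix_mod (h2 : (2 : F) ≠ 0) (hQ : (polarBilin Q).Nondegenerate)
    (hx : ∀ v, Q (y v) = Q v) (hrp : r ≠ p) (hr2 : r ≠ 2) (hy : y ^ r = 1) :
    ∃ t, finrank F V = finrank F (fixE y) + Sp.blockDim (Fintype.card F) r * t := by
  have hr0 : (r : F) ≠ 0 := cast_ne_zero_of_ne r hrp
  have hMnd : Nd Q (movR y) :=
    (nd_iff Q _).2 (OrthSemi.ndOn_mov Q (ndOn_top Q hQ) y hx r hy hr0)
  obtain ⟨t, ht, -⟩ := chain Q y r h2 hx hrp hr2 hy (movR y) (movR_invariant y) le_rfl hMnd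
  refine ⟨t, ?_⟩
  rw [← ht]
  exact (finrank_fix_add_mov y).symm

/-- constructing an invariant subspace isometric to a given odd-dimensional one -/
theorem bwd_par (h2 : (2 : F) ≠ 0) (hQ : (polarBilin Q).Nondegenerate)
    (hx : ∀ v, Q (y v) = Q v) (hrp : r ≠ p) (hr2 : r ≠ 2) (hy : y ^ r = 1)
    (W₀ : Submodule F V) (hW₀ : Nd Q W₀) (hodd : Odd (finrank F W₀))
    (hlt : finrank F W₀ < finrank F V)
    (hcond : finrank F W₀ % Sp.blockDim (Fintype.card F) r < finrank F (fixE y)) :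
    ∃ W : Submodule F V, Iso Q W W₀ ∧ ∀ u ∈ W, y u ∈ W := by
  have hr0 : (r : F) ≠ 0 := cast_ne_zero_of_ne r hrp
  have hMnd : Nd Q (movR y) :=
    (nd_iff Q _).2 (OrthSemi.ndOn_mov Q (ndOn_top Q hQ) y hx r hy hr0)
  have hCnd : Nd Q (fixE y) :=
    (nd_iff Q _).2 (OrthSemi.ndOn_fix Q (ndOn_top Q hQ) y hx r hy hr0)
  obtain ⟨t, ht, hsel⟩ := chain Q y r h2 hx hrp hr2 hy (movR y) (movR_invariant y) le_rfl hMnd
  have hfm := finrank_fix_add_mov y
  obtain ⟨c, hc⟩ : ∃ c, c = Sp.blockDim (Fintype.card F) r := ⟨_, rfl⟩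
  rw [← hc] at ht hsel hcond
  have hcev : Even c := by rw [hc]; exact blockDim_even r _
  have hcpos : 0 < c := by rw [hc]; exact Sp.blockDim_pos (F := F) r hrp
  obtain ⟨m, hm⟩ : ∃ m, m = finrank F W₀ := ⟨_, rfl⟩
  rw [← hm] at hodd hlt hcond
  have hmod0 : m % c ≠ 0 := by
    intro h0
    have hdvd : 2 ∣ m := hcev.two_dvd.trans (Nat.dvd_of_mod_eq_zero h0)
    have := Nat.odd_iff.1 hodd
    omega
  have hdm := Nat.div_add_mod m c
  obtain ⟨s, hs⟩ : ∃ s, s = min (m / c) t := ⟨_, rfl⟩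
  have hst : s ≤ t := by rw [hs]; exact min_le_right _ _
  have hsk : s ≤ m / c := by rw [hs]; exact min_le_left _ _
  obtain ⟨W₂, hW₂inv, hW₂nd, hW₂M, hW₂dim⟩ := hsel s hst
  have hcs : c * s ≤ c * (m / c) := Nat.mul_le_mul_left c hsk
  have h1 : finrank F W₂ < finrank F W₀ := by
    rw [hW₂dim, ← hm]
    omega
  have h3 : finrank F W₀ < finrank F W₂ + finrank F (fixE y) := by
    rw [hW₂dim, ← hm]
    rcases le_total (m / c) t with hkt | hkt
    · have : s = m / c := by rw [hs]; exact min_eq_left hkt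
      rw [this]
      omega
    · have : s = t := by rw [hs]; exact min_eq_right hkt
      rw [this]
      omega
  obtain ⟨W₁, hW₁C, hiso⟩ := exists_complete Q h2 W₀ W₂ (fixE y) hW₀ hW₂nd hCnd
    (fun a ha b hb => by
      rw [polar_comm]
      exact fix_orth_mov (pB Q) y (pB_iso Q y hx) b a hb (hW₂M ha)) h1 h3
  refine ⟨W₁ ⊔ W₂, hiso, ?_⟩
  exact sup_invariant y W₁ W₂ (fixE_invariant y W₁ hW₁C) hW₂inv

end ss

end Cfsg.Agent.Lib.Helper12.OrP
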