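import Mathlib
import Cfsg.Agent.Lib.Helper12.OrPC
import Cfsg.Agent.Lib.Helper15.QuadClasses
import Cfsg.Agent.Lib.Helper15.F2Forms
import Cfsg.Agent.Lib.Helper15.UnitaryQuad

set_option autoImplicit false
set_option linter.unusedSectionVars false

/-!
# Semisimple elements of odd prime order of the even-dimensional orthogonal groups with the
smallest possible fixed space
-/

namespace Cfsg.Agent.Lib.Helper12.OrP

open Module Polynomial QuadraticMap Cfsg.Agent.Lib.Helper12.Elus Cfsg.Agent.Lib.Helper12.Un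
  Cfsg.Agent.Lib.Helper12.OrN Cfsg.Agent.Lib.Helper15 Cfsg.Agent.Lib.Helper15.QuadType
  Cfsg.Agent.Lib.Helper15.QuadReal Cfsg.Agent.Lib.Helper15.QuadClasses
  Cfsg.Agent.Lib.Helper14.QuadExt
open scoped Matrix

universe u

section model

variable {F : Type u} [Field F] [Fintype F]

/-- quadratic spaces of every even dimension and type -/
theorem exists_space (k₁ : ℕ) (ε₀ : ℤ) (hε₀ : ε₀ = 1 ∨ ε₀ = -1) (h0 : k₁ = 0 → ε₀ = 1) :
    ∃ (V₁ : Type u) (_ : AddCommGroup V₁) (_ : Module F V₁) (_ : FiniteDimensional F V₁)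
      (Q₁ : QuadraticForm F V₁), (polarBilin Q₁).Nondegenerate ∧ finrank F V₁ = 2 * k₁ ∧
        HasType ε₀ k₁ (fun v => Q₁ v) := by
  rcases hε₀ with rfl | rfl
  · refine ⟨Fin k₁ ⊕ Fin k₁ → F, inferInstance, inferInstance, inferInstance, plusQF k₁,
      plusQF_nondegenerate k₁, ?_, ?_⟩
    · rw [Module.finrank_fintype_fun_eq_card]
      simp
      ring
    · exact (hasType_plus (F := F) k₁).congr (Equiv.refl _) (fun v => plusQF_eq k₁ v)
  · obtain ⟨k, rfl⟩ : ∃ k, k₁ = k + 1 := by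
      rcases Nat.eq_zero_or_pos k₁ with h | h
      · have := h0 h
        omega
      · exact ⟨k₁ - 1, by omega⟩
    obtain ⟨a, b, hab⟩ := exists_aniso (F := F)
    refine ⟨(Fin k ⊕ Fin k) ⊕ Fin 2 → F, inferInstance, inferInstance, inferInstance,
      minusQFab k a b,
      minusQFab_nondegenerate k a b (Cfsg.Agent.Lib.Helper14.OrthMinus.disc_ne_zero hab), ?_, ?_⟩
    · rw [Module.finrank_fintype_fun_eq_card]
      simp
      ring
    · exact (hasType_minus hab k).congr (Equiv.refl _) (fun v => minusQFab_eq k a b v)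

variable {p : ℕ} [Fact p.Prime] [CharP F p]

/-- the model element in even dimension -/
theorem exists_model_even {ι : Type} [Fintype ι] [DecidableEq ι]
    (Qf : (ι → F) → F) (ε : ℤ) (hε : ε = 1 ∨ ε = -1) (n : ℕ)
    (huniv : ∀ (W : Type u) [AddCommGroup W] [Module F W] [FiniteDimensional F W]
      (Q : QuadraticForm F W), (polarBilin Q).Nondegenerate → finrank F W = 2 * n →
      HasType ε n (fun v => Q v) → ∃ b : Basis ι F W, ∀ v, Qf (b.equivFun v) = Q v)
    (r : ℕ) [Fact r.Prime] (hr2 : r ≠ 2) (hrp : r ≠ p)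
    (hcond : 0 < (2 * n) % Sp.blockDim (Fintype.card F) r ∨
      ((Fintype.card F : ℕ) : ZMod r) ^ n = (ε : ZMod r)) :
    ∃ B : Matrix ι ι F, (∀ u, Qf (B *ᵥ u) = Qf u) ∧ B ^ r = 1 ∧
      finrank F (fixE (Matrix.toLin' B)) ≤ (2 * n) % Sp.blockDim (Fintype.card F) r := by
  classical
  have hr : r.Prime := Fact.out
  obtain ⟨c, hc⟩ : ∃ c, c = Sp.blockDim (Fintype.card F) r := ⟨_, rfl⟩
  rw [← hc] at hcond ⊢
  have hcev : Even c := by rw [hc]; exact blockDim_even r _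
  have hcpos : 0 < c := by rw [hc]; exact Sp.blockDim_pos (F := F) r hrp
  obtain ⟨c', hc'⟩ := hcev
  obtain ⟨k, hk⟩ : ∃ k, k = (2 * n) / c := ⟨_, rfl⟩
  obtain ⟨e, he⟩ : ∃ e, e = (2 * n) % c := ⟨_, rfl⟩
  rw [← he] at hcond ⊢
  have hdm : c * k + e = 2 * n := by rw [hk, he]; exact Nat.div_add_mod _ _
  have hn1 : 2 * (c' * k) = c * k := by rw [hc']; ring
  obtain ⟨e', he'⟩ : ∃ e', e = 2 * e' := ⟨n - c' * k, by omega⟩
  have hnn : c' * k + e' = n := by omega
  have hidvd : orderOf ((Fintype.card F : ℕ) : ZMod r) ∣ 2 * (c' * k) := by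
    rw [hn1]
    exact Dvd.dvd.mul_right (by rw [hc]; exact orderOf_dvd_blockDim _ _) k
  obtain ⟨f₀, hf₀, hdeg₀⟩ := NonsingPts.exists_qreal (F := F) rfl r _ hr hr2 hrp rfl (c' * k) hidvd
  have hev1 := (orthReal_of_qReal hf₀).2
  obtain ⟨W, _, _, _, T, Q, hnd, hinv, hTr, hcp, hfix⟩ := hf₀
  have : Finite W := Module.finite_of_finite F
  have hdim : finrank F W = 2 * (c' * k) := by
    rw [← LinearMap.charpoly_natDegree T, hcp, hdeg₀]
  obtain ⟨ε₁, hε₁, ht₁⟩ := hasType_of_nondeg Q hnd (c' * k) hdim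
  obtain ⟨j, -, hj⟩ := FiniteField.card F p
  have hqr : ¬ r ∣ Fintype.card F := by
    rw [hj]
    intro hd
    exact hrp ((Nat.prime_dvd_prime_iff_eq hr Fact.out).1 (hr.dvd_of_dvd_pow hd))
  have hlev := dvd_card_level Q T r hr hTr hinv hfix 1 one_ne_zero
  have hz := ht₁.zmod r hlev hqr
  have hε₀ : ε * ε₁ = 1 ∨ ε * ε₁ = -1 := by
    rcases hε with rfl | rfl <;> rcases hε₁ with rfl | rfl <;> simp
  have h0 : e' = 0 → ε * ε₁ = 1 := by
    intro h0
    have he0 : e = 0 := by omega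
    rcases hcond with h | h
    · omega
    · have hnk : c' * k = n := by omega
      rw [hnk, h] at hz
      have := eps_eq_of_zmod r hr hr2 hε hε₁ hz
      rw [this]
      rcases hε₁ with rfl | rfl <;> simp
  obtain ⟨V₁, _, _, _, Q₁, hnd₁, hdim₁, ht₀⟩ := exists_space (F := F) e' (ε * ε₁) hε₀ h0
  have hεε : ε₁ * (ε * ε₁) = ε := by
    rcases hε₁ with rfl | rfl <;> ring
  obtain ⟨B, hB1, hB2, hB3⟩ := exists_isometry_sum Qf ε n huniv Q Q₁ hnd hnd₁ T hinv r hTr
    ε₁ (ε * ε₁) (c' * k) e' ht₁ ht₀ hdim hdim₁ hεε hnn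
  refine ⟨B, hB1, hB3, ?_⟩
  have h3 := LinearMap.finrank_eigenspace_le (Matrix.toLin' B) 1
  have h4 : Module.End.eigenspace (Matrix.toLin' B) 1 = fixE (Matrix.toLin' B) := by
    rw [Module.End.eigenspace_def, one_smul]
    rfl
  have hf₀0 : f₀ ≠ 0 := by
    intro h
    rw [h, eval_zero] at hev1
    exact hev1 rfl
  have hX : (X - 1 : F[X]) = X - C 1 := by rw [map_one]
  have hXne : (X - 1 : F[X]) ^ (2 * e') ≠ 0 := by
    rw [hX]
    exact pow_ne_zero _ (X_sub_C_ne_zero 1)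
  rw [h4, Matrix.charpoly_toLin', hB2, hcp, rootMultiplicity_mul (mul_ne_zero hf₀0 hXne), hX,
    rootMultiplicity_X_sub_C_pow, rootMultiplicity_eq_zero (by exact hev1), zero_add] at h3
  omega

end model

end Cfsg.Agent.Lib.Helper12.OrP
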