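import Mathlib
import Cfsg.Agent.Lib.Helper12.OrPA
import Cfsg.Agent.Lib.Helper13.AltForm

set_option autoImplicit false
set_option linter.unusedSectionVars false

/-!
# Unipotent isometries with `(t - 1)^3 = 0`: the rank of `t - 1` is even
-/

namespace Cfsg.Agent.Lib.Helper12.OrP

open Module QuadraticMap Cfsg.Agent.Lib.Helper12.Elus Cfsg.Agent.Lib.Helper12.Un
  Cfsg.Agent.Lib.Helper12.OrN Cfsg.Agent.Lib.Helper15

section unip

variable {F V : Type*} [Field F] [AddCommGroup V] [Module F V] [FiniteDimensional F V]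
  (Q : QuadraticForm F V)

theorem iso_identity (t : V →ₗ[F] V) (ht : ∀ v, Q (t v) = Q v) (u v : V) :
    polar Q ((t - 1) u) v + polar Q u ((t - 1) v) + polar Q ((t - 1) u) ((t - 1) v) = 0 := by
  have h1 := OrthSemi.polar_iso Q t ht u v
  have hu : t u = u + (t - 1) u := by
    rw [LinearMap.sub_apply, Module.End.one_apply]; abel
  have hv : t v = v + (t - 1) v := by
    rw [LinearMap.sub_apply, Module.End.one_apply]; abel
  rw [hu, hv, polar_add_left, polar_add_right, polar_add_right] at h1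
  linear_combination h1

/-- the rank of `t - 1` is even for an isometry `t` with `(t - 1)^3 = 0` -/
theorem even_rank_of_cube_zero (h2 : (2 : F) ≠ 0) (hQ : (polarBilin Q).Nondegenerate)
    (t : V →ₗ[F] V) (ht : ∀ v, Q (t v) = Q v) (hN : ∀ v, (t - 1) ((t - 1) ((t - 1) v)) = 0) :
    Even (finrank F (LinearMap.range (t - 1))) := by
  obtain ⟨N, hNdef⟩ : ∃ N : V →ₗ[F] V, N = t - 1 := ⟨_, rfl⟩
  rw [← hNdef] at hN ⊢
  have I1 : ∀ u v, polar Q (N u) v + polar Q u (N v) + polar Q (N u) (N v) = 0 := by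
    intro u v
    rw [hNdef]
    exact iso_identity Q t ht u v
  have I3 : ∀ u v, polar Q (N u) (N (N v)) = 0 := by
    intro u v
    have := I1 u (N (N v))
    rw [hN, polar_zero_right, polar_zero_right] at this
    linear_combination this
  have I4 : ∀ u v, polar Q (N u) (N v) = - polar Q u (N (N v)) := by
    intro u v
    have := I1 u (N v)
    rw [I3] at this
    linear_combination this
  have I5 : ∀ u v, polar Q (N (N u)) v = polar Q u (N (N v)) := by
    intro u v
    have h1 := I4 v u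
    have h3 := I4 u v
    rw [polar_comm _ (N v) (N u)] at h1
    rw [polar_comm _ (N (N u)) v]
    linear_combination h1 - h3
  have hnd : Nd Q ⊤ := nd_top Q hQ
  -- the kernel of `N²`
  obtain ⟨K, hK⟩ : ∃ K : Submodule F V, K = LinearMap.ker (N ∘ₗ N) := ⟨_, rfl⟩
  have hKmem : ∀ u, u ∈ K ↔ N (N u) = 0 := by
    intro u
    rw [hK, LinearMap.mem_ker, LinearMap.comp_apply]
  have halt : ∀ u ∈ K, polar Q (N u) u = 0 := by
    intro u hu
    have h1 := I1 u u
    have h3 := I4 u u
    rw [(hKmem u).1 hu, polar_zero_right] at h3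
    rw [h3, polar_comm _ u (N u)] at h1
    have h4 : (2 : F) * polar Q (N u) u = 0 := by linear_combination h1
    exact (mul_eq_zero.1 h4).resolve_left h2
  have hskew : ∀ u ∈ K, ∀ v ∈ K, polar Q (N u) v = - polar Q (N v) u := by
    intro u hu v hv
    have h1 := halt (u + v) (K.add_mem hu hv)
    rw [map_add, polar_add_left, polar_add_right, polar_add_right, halt u hu, halt v hv] at h1
    linear_combination h1
  -- the radical
  obtain ⟨R₀, hR₀⟩ : ∃ R₀ : Submodule F V, R₀ = orth (pB Q) (K.map N) := ⟨_, rfl⟩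
  have hR₀mem : ∀ u, u ∈ R₀ ↔ ∀ v ∈ K, polar Q (N v) u = 0 := by
    intro u
    rw [hR₀, mem_orth]
    constructor
    · intro h v hv
      exact h (N v) ⟨v, hv, rfl⟩
    · rintro h _ ⟨v, hv, rfl⟩
      exact h v hv
  have hNK : ∀ w, N w ∈ K := by
    intro w
    rw [hKmem]
    exact hN w
  have hR₀K : R₀ ≤ K := by
    intro u hu
    rw [hKmem]
    by_contra hne
    obtain ⟨w, -, hw⟩ := hnd (N (N u)) Submodule.mem_top hne
    apply hw
    rw [pB_apply, I5, polar_comm]
    have := (hR₀mem u).1 hu (N w) (hNK w)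
    rw [polar_comm] at this
    rw [polar_comm]
    exact this
  -- dimensions
  have hdK : finrank F K + finrank F (LinearMap.range (N ∘ₗ N)) = finrank F V := by
    rw [hK, add_comm]
    exact LinearMap.finrank_range_add_finrank_ker (N ∘ₗ N)
  have hdN : finrank F (LinearMap.range N) + finrank F (LinearMap.ker N) = finrank F V :=
    LinearMap.finrank_range_add_finrank_ker N
  have hkerK : LinearMap.ker N ≤ K := by
    intro u hu
    rw [hKmem, LinearMap.mem_ker.1 hu, map_zero]
  have hdNK : finrank F ↥(K.map N) + finrank F (LinearMap.ker N) = finrank F K := by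
    have h1 := LinearMap.finrank_range_add_finrank_ker (N.domRestrict K)
    have h3 : LinearMap.range (N.domRestrict K) = K.map N := by
      ext x
      constructor
      · rintro ⟨y, rfl⟩
        exact ⟨y, y.2, rfl⟩
      · rintro ⟨y, hy, rfl⟩
        exact ⟨⟨y, hy⟩, rfl⟩
    have h4 : finrank F (LinearMap.ker (N.domRestrict K)) = finrank F (LinearMap.ker N) := by
      have e : LinearMap.ker (N.domRestrict K) = (LinearMap.ker N).comap K.subtype := by
        ext x
        rfl
      rw [e]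
      have h5 : ((LinearMap.ker N).comap K.subtype).map K.subtype = LinearMap.ker N := by
        rw [Submodule.map_comap_subtype]
        exact inf_eq_right.2 hkerK
      rw [← Submodule.finrank_map_subtype_eq, h5]
    rw [h3, h4] at h1
    exact h1
  have hdR₀ : finrank F R₀ + finrank F ↥(K.map N) = finrank F V := by
    have := finrank_inf_orth' (pB Q) pB_id (pB_sym Q) ⊤ (K.map N) hnd le_top
    rw [top_inf_eq, finrank_top, ← hR₀] at this
    exact this
  have hrange2 : finrank F (LinearMap.range (N ∘ₗ N)) ≤ finrank F (LinearMap.range N) := by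
    apply Submodule.finrank_mono
    rintro _ ⟨w, rfl⟩
    exact ⟨N w, rfl⟩
  -- a complement of the radical
  obtain ⟨D, hD⟩ := Submodule.exists_isCompl R₀
  obtain ⟨C', hC'⟩ : ∃ C' : Submodule F V, C' = D ⊓ K := ⟨_, rfl⟩
  have hC'K : C' ≤ K := by rw [hC']; exact inf_le_right
  have hC'disj : C' ⊓ R₀ = ⊥ := by
    rw [eq_bot_iff, ← hD.inf_eq_bot, hC']
    exact le_inf inf_le_right (inf_le_left.trans inf_le_left)
  have hC'sup : C' ⊔ R₀ = K := by
    rw [hC', sup_comm, ← sup_inf_assoc_of_le D hR₀K, hD.sup_eq_top, top_inf_eq]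
  have hdC' : finrank F C' + finrank F R₀ = finrank F K := by
    have := Submodule.finrank_sup_add_finrank_inf_eq C' R₀
    rw [hC'sup, hC'disj, finrank_bot, add_zero] at this
    exact this.symm
  let β : LinearMap.BilinForm F C' := (polarBilin Q).compl₁₂ (N ∘ₗ C'.subtype) C'.subtype
  have hβ : ∀ u v : C', β u v = polar Q (N (u : V)) (v : V) := fun u v => rfl
  have hβalt : β.IsAlt := fun u => by
    rw [hβ]
    exact halt _ (hC'K u.2)
  have hsep : ∀ u : C', (∀ v : C', polar Q (N (v : V)) (u : V) = 0) → u = 0 := by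
    intro u hu
    have h1 : (u : V) ∈ R₀ := by
      rw [hR₀mem]
      intro v hv
      have hv' : v ∈ C' ⊔ R₀ := by rw [hC'sup]; exact hv
      obtain ⟨c, hc, r, hr, rfl⟩ := Submodule.mem_sup.1 hv'
      rw [map_add, polar_add_left, hu ⟨c, hc⟩, zero_add,
        hskew r (hR₀K hr) u (hC'K u.2), (hR₀mem r).1 hr u (hC'K u.2), neg_zero]
    have h3 : (u : V) ∈ C' ⊓ R₀ := ⟨u.2, h1⟩
    rw [hC'disj, Submodule.mem_bot] at h3
    exact Subtype.ext h3
  have hβnd : β.Nondegenerate := by
    constructor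
    · intro u hu
      apply hsep u
      intro v
      have := hu v
      rw [hβ] at this
      rw [hskew _ (hC'K v.2) _ (hC'K u.2), this, neg_zero]
    · intro u hu
      apply hsep u
      intro v
      exact hu v
  have hev := Cfsg.Agent.Lib.Helper13.even_finrank_of_isAlt_nondegenerate (finrank F C') β hβalt
    hβnd rfl
  obtain ⟨a, ha⟩ := hev
  have hr1 : finrank F (LinearMap.range N) = 2 * a + 2 * finrank F (LinearMap.range (N ∘ₗ N)) := by
    omega
  exact ⟨a + finrank F (LinearMap.range (N ∘ₗ N)), by omega⟩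

/-- the rank of `t - 1` on an invariant nondegenerate subspace is even -/
theorem even_rank_on [Fintype F] (h2 : (2 : F) ≠ 0) (t : V →ₗ[F] V) (ht : ∀ v, Q (t v) = Q v)
    (hN : ∀ v, (t - 1) ((t - 1) ((t - 1) v)) = 0) (W : Submodule F V)
    (hWinv : ∀ u ∈ W, t u ∈ W) (hWnd : Nd Q W) : Even (finrank F ↥(W.map (t - 1))) := by
  have hQW := OrthSemi.nondegenerate_resQ Q W ((nd_iff Q W).1 hWnd)
  have h1 := even_rank_of_cube_zero (OrthSemi.resQ Q W) h2 hQW (t.restrict hWinv)
    (fun v => ht v) (fun v => by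
      apply Subtype.ext
      exact hN (v : V))
  have h3 : (LinearMap.range (t.restrict hWinv - 1)).map W.subtype = W.map (t - 1) := by
    ext x
    constructor
    · rintro ⟨_, ⟨y, rfl⟩, rfl⟩
      exact ⟨y, y.2, rfl⟩
    · rintro ⟨y, hy, rfl⟩
      exact ⟨(t.restrict hWinv - 1) ⟨y, hy⟩, ⟨⟨y, hy⟩, rfl⟩, rfl⟩
  rw [← h3, Submodule.finrank_map_subtype_eq]
  exact h1

/-- rank inequality on an invariant subspace -/
theorem rank_ineq (t : V →ₗ[F] V) (U : Submodule F V) (hU : ∀ u ∈ U, t u ∈ U) :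
    2 * finrank F ↥(U.map (t - 1)) ≤
      finrank F U + finrank F ↥((U.map (t - 1)).map (t - 1)) := by
  have h1 := finrank_eq_fix_add_map t U
  have h3 := finrank_eq_fix_add_map t (U.map (t - 1))
  have h4 : finrank F ↥(U.map (t - 1) ⊓ fixE t) ≤ finrank F ↥(U ⊓ fixE t) :=
    Submodule.finrank_mono (inf_le_inf_right _ (map_sub_one_le t U hU))
  omega

/-- the numerical invariants of an invariant nondegenerate subspace and of its orthogonal
complement, for an isometry `t` with `(t - 1)^3 = 0` -/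
theorem unip_counts [Fintype F] (h2 : (2 : F) ≠ 0) (hQ : (polarBilin Q).Nondegenerate)
    (t : V →ₗ[F] V) (ht : ∀ v, Q (t v) = Q v)
    (hN : ∀ v, (t - 1) ((t - 1) ((t - 1) v)) = 0) (r : ℕ) (hr : 0 < r) (htr : t ^ r = 1)
    (W : Submodule F V) (hWinv : ∀ u ∈ W, t u ∈ W) (hWnd : Nd Q W) :
    ∃ a₁ a₂ b₁ b₂ : ℕ, Even a₁ ∧ Even b₁ ∧
      a₁ + b₁ = finrank F (LinearMap.range (t - 1)) ∧
      a₂ + b₂ = finrank F ↥((LinearMap.range (t - 1)).map (t - 1)) ∧
      2 * a₁ ≤ finrank F W + a₂ ∧ 2 * b₁ + finrank F W ≤ finrank F V + b₂ := by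
  obtain ⟨W', hW'⟩ : ∃ W', W' = orth (pB Q) W := ⟨_, rfl⟩
  have hW'inv : ∀ u ∈ W', t u ∈ W' := by
    rw [hW']
    exact orth_invariant (pB Q) t (pB_iso Q t ht) r hr htr W hWinv
  have hW'nd : Nd Q W' := by
    have := ndOn_inf_orth (pB Q) pB_id (pB_sym Q) ⊤ W (nd_top Q hQ) le_top hWnd
    rw [top_inf_eq] at this
    rw [hW']
    exact this
  have hdim := finrank_inf_orth (pB Q) pB_id (pB_sym Q) ⊤ W le_top hWnd
  rw [top_inf_eq, finrank_top, ← hW'] at hdim
  obtain ⟨hsup, hdisj⟩ := sup_inf_orth (pB Q) pB_id (pB_sym Q) ⊤ W le_top hWnd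
  rw [top_inf_eq, ← hW'] at hsup hdisj
  have key : ∀ (f : V →ₗ[F] V) (A A' : Submodule F V), A ⊔ A' = ⊤ → Disjoint A A' →
      A.map f ≤ A → A'.map f ≤ A' →
      finrank F ↥(A.map f) + finrank F ↥(A'.map f) = finrank F (LinearMap.range f) := by
    intro f A A' hs hd hA hA'
    have h1 := Submodule.finrank_sup_add_finrank_inf_eq (A.map f) (A'.map f)
    have h3 : A.map f ⊓ A'.map f = ⊥ := by
      rw [eq_bot_iff, ← hd.eq_bot]
      exact inf_le_inf hA hA'
    rw [h3, finrank_bot, add_zero, ← Submodule.map_sup, hs, Submodule.map_top] at h1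
    exact h1.symm
  have hm1 := map_sub_one_le t W hWinv
  have hm1' := map_sub_one_le t W' hW'inv
  have hinv1 : ∀ u ∈ W.map (t - 1), t u ∈ W.map (t - 1) := by
    rintro _ ⟨w, hw, rfl⟩
    refine ⟨t w, hWinv w hw, ?_⟩
    simp only [LinearMap.sub_apply, Module.End.one_apply, map_sub]
  have hinv1' : ∀ u ∈ W'.map (t - 1), t u ∈ W'.map (t - 1) := by
    rintro _ ⟨w, hw, rfl⟩
    refine ⟨t w, hW'inv w hw, ?_⟩
    simp only [LinearMap.sub_apply, Module.End.one_apply, map_sub]
  have e1 := key (t - 1) W W' hsup hdisj hm1 hm1'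
  have e2 : finrank F ↥((W.map (t - 1)).map (t - 1)) + finrank F ↥((W'.map (t - 1)).map (t - 1)) =
      finrank F ↥((LinearMap.range (t - 1)).map (t - 1)) := by
    have h1 := Submodule.finrank_sup_add_finrank_inf_eq ((W.map (t - 1)).map (t - 1))
      ((W'.map (t - 1)).map (t - 1))
    have h3 : (W.map (t - 1)).map (t - 1) ⊓ (W'.map (t - 1)).map (t - 1) = ⊥ := by
      rw [eq_bot_iff, ← hdisj.eq_bot]
      exact inf_le_inf ((map_sub_one_le t _ hinv1).trans hm1)
        ((map_sub_one_le t _ hinv1').trans hm1')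
    rw [h3, finrank_bot, add_zero, ← Submodule.map_sup, ← Submodule.map_sup, hsup,
      Submodule.map_top] at h1
    exact h1.symm
  refine ⟨_, _, _, _, even_rank_on Q h2 t ht hN W hWinv hWnd,
    even_rank_on Q h2 t ht hN W' hW'inv hW'nd, e1, e2, rank_ineq t W hWinv, ?_⟩
  have := rank_ineq t W' hW'inv
  omega

end unip

end Cfsg.Agent.Lib.Helper12.OrP
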