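import Mathlib
import Cfsg.Agent.Lib.Helper12.OrPE
import Cfsg.Agent.Lib.Helper15.NilpotentConj
import Cfsg.Agent.Lib.Helper25.SpinGL

set_option autoImplicit false
set_option linter.unusedSectionVars false

/-!
# Kernel dimensions of the powers of `diag(A, A⁻ᵀ) - 1`
-/

namespace Cfsg.Agent.Lib.Helper12.OrP

open Module QuadraticMap Matrix Cfsg.Agent.Lib.Helper15.NilpotentConj
  Cfsg.Agent.Lib.Helper15.SemisimpleConj Cfsg.Agent.Lib.Helper25.Spin

section kap

variable {F : Type*} [Field F] {d : ℕ}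

theorem mkap_add_rank (M : Matrix (Fin d) (Fin d) F) (k : ℕ) : mkap M k + (M ^ k).rank = d := by
  unfold mkap kap
  rw [← Matrix.toLin'_pow, Matrix.rank, Matrix.toLin'_apply', add_comm]
  have := LinearMap.finrank_range_add_finrank_ker ((M ^ k).mulVecLin)
  rw [Module.finrank_fin_fun] at this
  exact this

theorem mkap_inv_transpose (A : GL (Fin d) F) (k : ℕ) :
    mkap (((A⁻¹ : GL (Fin d) F) : Matrix (Fin d) (Fin d) F)ᵀ - 1) k =
      mkap ((A : Matrix (Fin d) (Fin d) F) - 1) k := by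
  have h1 := mkap_add_rank (((A⁻¹ : GL (Fin d) F) : Matrix (Fin d) (Fin d) F)ᵀ - 1) k
  have h3 := mkap_add_rank ((A : Matrix (Fin d) (Fin d) F) - 1) k
  have e1 : ((A⁻¹ : GL (Fin d) F) : Matrix (Fin d) (Fin d) F)ᵀ - 1 =
      (((A⁻¹ : GL (Fin d) F) : Matrix (Fin d) (Fin d) F) - 1)ᵀ := by
    rw [Matrix.transpose_sub, Matrix.transpose_one]
  have e2 : ((A⁻¹ : GL (Fin d) F) : Matrix (Fin d) (Fin d) F) - 1 =
      (-((A⁻¹ : GL (Fin d) F) : Matrix (Fin d) (Fin d) F)) *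
        ((A : Matrix (Fin d) (Fin d) F) - 1) := by
    rw [Matrix.mul_sub, Matrix.neg_mul, ← Units.val_mul, inv_mul_cancel, Units.val_one,
      Matrix.mul_one]
    abel
  have hcomm : Commute (-((A⁻¹ : GL (Fin d) F) : Matrix (Fin d) (Fin d) F))
      ((A : Matrix (Fin d) (Fin d) F) - 1) := by
    show _ * _ = _ * _
    rw [Matrix.mul_sub, Matrix.sub_mul, Matrix.neg_mul, Matrix.mul_neg, ← Units.val_mul,
      ← Units.val_mul, inv_mul_cancel, mul_inv_cancel, Matrix.mul_one, Matrix.one_mul]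
  have hdet : IsUnit ((-((A⁻¹ : GL (Fin d) F) : Matrix (Fin d) (Fin d) F)) ^ k).det := by
    rw [Matrix.det_pow]
    apply IsUnit.pow
    rw [Matrix.det_neg]
    apply IsUnit.mul
    · exact (isUnit_neg_one (α := F)).pow _
    · exact (Matrix.isUnits_det_units (A⁻¹))
  have e3 : ((((A⁻¹ : GL (Fin d) F) : Matrix (Fin d) (Fin d) F)ᵀ - 1) ^ k).rank =
      (((A : Matrix (Fin d) (Fin d) F) - 1) ^ k).rank := by
    rw [e1, ← Matrix.transpose_pow, Matrix.rank_transpose, e2, hcomm.mul_pow,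
      Matrix.rank_mul_eq_right_of_isUnit_det _ _ hdet]
  omega

theorem kap_blocks (X Y : Matrix (Fin d) (Fin d) F) (k : ℕ) :
    kap (Matrix.toLin' (Matrix.fromBlocks X 0 0 Y)) k = mkap X k + mkap Y k := by
  have hconj : Conj (Matrix.toLin' (Matrix.fromBlocks X 0 0 Y))
      ((Matrix.toLin' X).prodMap (Matrix.toLin' Y)) := by
    refine ⟨LinearEquiv.sumArrowLequivProdArrow (Fin d) (Fin d) F F, fun v => ?_⟩
    rw [Matrix.toLin'_apply, Matrix.fromBlocks_mulVec]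
    apply Prod.ext
    · funext a
      simp [Matrix.toLin'_apply]
      rfl
    · funext a
      simp [Matrix.toLin'_apply]
      rfl
  rw [kap_conj hconj k, kap_prodMap]
  rfl

theorem kap_phiGL (A : GL (Fin d) F) (k : ℕ) :
    kap (Matrix.toLin' ((phiGL A : GL (Fin d ⊕ Fin d) F) :
      Matrix (Fin d ⊕ Fin d) (Fin d ⊕ Fin d) F) - 1) k =
      2 * mkap ((A : Matrix (Fin d) (Fin d) F) - 1) k := by
  have e : Matrix.toLin' ((phiGL A : GL (Fin d ⊕ Fin d) F) :
      Matrix (Fin d ⊕ Fin d) (Fin d ⊕ Fin d) F) - 1 =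
      Matrix.toLin' (Matrix.fromBlocks ((A : Matrix (Fin d) (Fin d) F) - 1) 0 0
        (((A⁻¹ : GL (Fin d) F) : Matrix (Fin d) (Fin d) F)ᵀ - 1)) := by
    rw [phiGL_coe]
    have h1 : (1 : (Fin d ⊕ Fin d → F) →ₗ[F] (Fin d ⊕ Fin d → F)) =
        Matrix.toLin' (1 : Matrix (Fin d ⊕ Fin d) (Fin d ⊕ Fin d) F) := by
      rw [Matrix.toLin'_one]
      rfl
    rw [h1, ← map_sub]
    congr 1
    rw [← Matrix.fromBlocks_one, sub_eq_add_neg, Matrix.fromBlocks_neg, Matrix.fromBlocks_add]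
    simp [sub_eq_add_neg]
  rw [e, kap_blocks, mkap_inv_transpose]
  ring

end kap

end Cfsg.Agent.Lib.Helper12.OrP
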