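import Mathlib
import Cfsg.Agent.Lib.Helper12.OrPF
import Cfsg.Agent.Lib.Helper15.UniOmega2

set_option autoImplicit false
set_option linter.unusedSectionVars false

/-!
# Unipotent elements of `Ω⁺_{2d}(q)`, `q` odd, fixing no nondegenerate subspace of a given odd
dimension
-/

namespace Cfsg.Agent.Lib.Helper12.OrP

open Module QuadraticMap Matrix Cfsg.Agent.Lib.Helper15.NilpotentConj
  Cfsg.Agent.Lib.Helper15.SemisimpleConj Cfsg.Agent.Lib.Helper25.Spin
  Cfsg.Agent.Lib.Helper12.Elus Cfsg.Agent.Lib.Helper12.Un Cfsg.Agent.Lib.Helper12.OrN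

section unip

variable {F : Type*} [Field F] [Fintype F] {p : ℕ} [Fact p.Prime] [CharP F p]

theorem finrank_Vplus (d : ℕ) : finrank F (Fin d ⊕ Fin d → F) = 2 * d := by
  rw [Module.finrank_fintype_fun_eq_card]
  simp
  ring

/-- a unipotent element of `Ω⁺` of the shape `diag(A, A⁻ᵀ)` and the numerical invariants of its
invariant nondegenerate subspaces -/
theorem unip_aux (h2 : (2 : F) ≠ 0) (d : ℕ) (hd : 4 ≤ d) (μ : Multiset ℕ) (hsum : μ.sum = d)
    (k1 k2 : ℕ) (hk1 : kapm μ 1 = k1) (hk2 : kapm μ 2 = k2) (hk3 : kapm μ 3 = d)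
    (hk1d : k1 < d) :
    ∃ x : GL (Fin d ⊕ Fin d) F, x ∈ Cfsg.Geo.omegaGL (Cfsg.quadFormPlus d F) ∧ orderOf x = p ∧
      ∀ W : Submodule F (Fin d ⊕ Fin d → F),
        W.map (Matrix.toLin' (x : Matrix (Fin d ⊕ Fin d) (Fin d ⊕ Fin d) F)) ≤ W →
        Nd (Qp d F) W →
        ∃ a₁ a₂ b₁ b₂ : ℕ, Even a₁ ∧ Even b₁ ∧ a₁ + b₁ + 2 * k1 = 2 * d ∧
          a₂ + b₂ + 2 * k2 = 2 * d ∧ 2 * a₁ ≤ finrank F W + a₂ ∧
          2 * b₁ + finrank F W ≤ 2 * d + b₂ := by
  classical
  have hp := (Fact.out : p.Prime)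
  have hp2 : p ≠ 2 := by
    rintro rfl
    exact h2 (CharTwo.two_eq_zero)
  have hp3 : 3 ≤ p := by
    have := hp.two_le
    omega
  obtain ⟨A, -, hA⟩ := exists_gl_of_type (F := F) μ hsum
  have hA3 : ((A : Matrix (Fin d) (Fin d) F) - 1) ^ 3 = 0 := by
    rw [pow_eq_zero_iff_mkap, hA, hk3]
  have hAne : (A : Matrix (Fin d) (Fin d) F) - 1 ≠ 0 := by
    intro h0
    have h1 := hA 1
    rw [h0, hk1] at h1
    have h3 : mkap (0 : Matrix (Fin d) (Fin d) F) 1 = d := by
      rw [← pow_eq_zero_iff_mkap, pow_one]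
    omega
  have hAord : orderOf A = p :=
    (order_p_iff p A).2 ⟨hAne, pow_eq_zero_of_le hp3 hA3⟩
  obtain ⟨g, hg⟩ : ∃ g : ↥(Cfsg.isometryGroup F (Cfsg.quadFormPlus d F)), g = phiGL A := ⟨_, rfl⟩
  have hgp : g ^ p = 1 := by
    have h1 : g = phiHom A := by rw [hg]; rfl
    rw [h1, ← map_pow, ← hAord, pow_orderOf_eq_one, map_one]
  have hg1 : g ≠ 1 := by
    intro h1
    rw [hg] at h1
    have h3 : ((phiGL A : GL (Fin d ⊕ Fin d) F) : Matrix (Fin d ⊕ Fin d) (Fin d ⊕ Fin d) F) = 1 := by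
      rw [h1]
      rfl
    rw [phiGL_coe, ← Matrix.fromBlocks_one, Matrix.fromBlocks_inj] at h3
    apply hAne
    rw [h3.1, sub_self]
  have hgord : orderOf g = p := orderOf_eq_prime hgp hg1
  have hnd : (polarBilin (Qp d F)).Nondegenerate := qfOf_nondeg _
  have hgΩ : g ∈ Cfsg.Omega F ⇑(Qp d F) :=
    Cfsg.Agent.Lib.Helper15.UniOmega2.mem_omega_of_odd_order (Qp d F) hnd
      (Or.inl (card_ne_two h2)) g p (hp.odd_of_ne_two hp2) hgp
  have hxmem : (g : GL (Fin d ⊕ Fin d) F) ∈ Cfsg.Geo.omegaGL (Cfsg.quadFormPlus d F) := by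
    have : (g : GL (Fin d ⊕ Fin d) F) ∈ Cfsg.Geo.omegaGL ⇑(Qp d F) :=
      Subgroup.mem_map.2 ⟨g, hgΩ, rfl⟩
    exact this
  have hxord : orderOf (g : GL (Fin d ⊕ Fin d) F) = p := by
    rw [Subgroup.orderOf_coe]
    exact hgord
  refine ⟨g, hxmem, hxord, ?_⟩
  obtain ⟨t, ht⟩ : ∃ t, t = Matrix.toLin' ((g : GL (Fin d ⊕ Fin d) F) :
    Matrix (Fin d ⊕ Fin d) (Fin d ⊕ Fin d) F) := ⟨_, rfl⟩
  rw [← ht]
  have hiso : ∀ v, Qp d F (t v) = Qp d F v := by
    intro v
    rw [ht]
    exact g.2 v v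
  have hkap : ∀ k, kap (t - 1) k = 2 * kapm μ k := by
    intro k
    rw [ht, hg, kap_phiGL, hA]
  have hfr := finrank_Vplus (F := F) d
  have hN3 : ∀ v, (t - 1) ((t - 1) ((t - 1) v)) = 0 := by
    have h1 : (t - 1) ^ 3 = 0 := by
      rw [pow_eq_zero_iff_kap, hkap, hk3, hfr]
    intro v
    have := congrArg (fun X : Module.End F (Fin d ⊕ Fin d → F) => X v) h1
    exact this
  have htp : t ^ p = 1 := by
    rw [ht]
    apply toLin'_pow_eq_one
    rw [← hxord, pow_orderOf_eq_one]
  have hr1 : finrank F (LinearMap.range (t - 1)) + 2 * k1 = 2 * d := by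
    have h1 := LinearMap.finrank_range_add_finrank_ker (t - 1)
    have h3 := hkap 1
    unfold kap at h3
    rw [pow_one, hk1] at h3
    omega
  have hr2 : finrank F ↥((LinearMap.range (t - 1)).map (t - 1)) + 2 * k2 = 2 * d := by
    have h1 := LinearMap.finrank_range_add_finrank_ker ((t - 1) ^ 2)
    have h3 := hkap 2
    unfold kap at h3
    rw [hk2] at h3
    have h4 : LinearMap.range ((t - 1) ^ 2) = (LinearMap.range (t - 1)).map (t - 1) := by
      rw [pow_two, Module.End.mul_eq_comp, LinearMap.range_comp]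
    rw [h4] at h1
    omega
  intro W hWinv hWnd
  have hWinv' : ∀ u ∈ W, t u ∈ W := fun u hu => hWinv ⟨u, hu, rfl⟩
  obtain ⟨a₁, a₂, b₁, b₂, h1, h3, h4, h5, h6, h7⟩ := unip_counts (Qp d F) h2 hnd t hiso hN3 p
    hp.pos htp W hWinv' hWnd
  refine ⟨a₁, a₂, b₁, b₂, h1, h3, by omega, by omega, h6, by omega⟩

/-- an element of order `p` of `Ω⁺_{2d}(q)` fixing no nondegenerate subspace of odd dimension
`m` -/
theorem exists_unip_plus (h2 : (2 : F) ≠ 0) (d m : ℕ) (hd : 4 ≤ d) (hm : Odd m) :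
    ∃ x : GL (Fin d ⊕ Fin d) F, x ∈ Cfsg.Geo.omegaGL (Cfsg.quadFormPlus d F) ∧ orderOf x = p ∧
      ∀ W : Submodule F (Fin d ⊕ Fin d → F),
        W.map (Matrix.toLin' (x : Matrix (Fin d ⊕ Fin d) (Fin d ⊕ Fin d) F)) ≤ W →
        Nd (Qp d F) W → finrank F W ≠ m := by
  obtain ⟨m', hm'⟩ := hm
  by_cases hde : Even d
  · obtain ⟨d', hd'⟩ := hde
    obtain ⟨x, hx1, hx2, hx3⟩ := unip_aux (F := F) (p := p) h2 d hd (Multiset.replicate d' 2)
      (by rw [Multiset.sum_replicate, smul_eq_mul]; omega) d' d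
      (by rw [kapm_one _ (fun a ha => by rw [Multiset.eq_of_mem_replicate ha]; norm_num),
        Multiset.card_replicate])
      (by
        unfold kapm
        rw [Multiset.map_replicate, Multiset.sum_replicate, smul_eq_mul]
        norm_num
        omega)
      (by
        unfold kapm
        rw [Multiset.map_replicate, Multiset.sum_replicate, smul_eq_mul]
        norm_num
        omega) (by omega)
    refine ⟨x, hx1, hx2, fun W hW hWnd => ?_⟩
    obtain ⟨a₁, a₂, b₁, b₂, ⟨a', ha'⟩, ⟨b', hb'⟩, h4, h5, h6, h7⟩ := hx3 W hW hWnd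
    omega
  · obtain ⟨d', hd'⟩ := Nat.not_even_iff_odd.1 hde
    by_cases hm4 : m % 4 = 3
    · obtain ⟨x, hx1, hx2, hx3⟩ := unip_aux (F := F) (p := p) h2 d hd
        (Multiset.replicate d' 2 + {1})
        (by rw [Multiset.sum_add, Multiset.sum_replicate, Multiset.sum_singleton, smul_eq_mul]
            omega) (d' + 1) d
        (by
          rw [kapm_one _ (fun a ha => by
            rw [Multiset.mem_add, Multiset.mem_replicate, Multiset.mem_singleton] at ha
            rcases ha with ⟨_, rfl⟩ | rfl <;> norm_num),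
            Multiset.card_add, Multiset.card_replicate, Multiset.card_singleton])
        (by
          unfold kapm
          rw [Multiset.map_add, Multiset.sum_add, Multiset.map_replicate, Multiset.sum_replicate,
            Multiset.map_singleton, Multiset.sum_singleton, smul_eq_mul]
          norm_num
          omega)
        (by
          unfold kapm
          rw [Multiset.map_add, Multiset.sum_add, Multiset.map_replicate, Multiset.sum_replicate,
            Multiset.map_singleton, Multiset.sum_singleton, smul_eq_mul]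
          norm_num
          omega) (by omega)
      refine ⟨x, hx1, hx2, fun W hW hWnd => ?_⟩
      obtain ⟨a₁, a₂, b₁, b₂, ⟨a', ha'⟩, ⟨b', hb'⟩, h4, h5, h6, h7⟩ := hx3 W hW hWnd
      omega
    · obtain ⟨d'', hd''⟩ : ∃ d'', d' = d'' + 1 := ⟨d' - 1, by omega⟩
      obtain ⟨x, hx1, hx2, hx3⟩ := unip_aux (F := F) (p := p) h2 d hd
        (Multiset.replicate d'' 2 + {3})
        (by rw [Multiset.sum_add, Multiset.sum_replicate, Multiset.sum_singleton, smul_eq_mul]
            omega) (d'' + 1) (2 * d'' + 2)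
        (by
          rw [kapm_one _ (fun a ha => by
            rw [Multiset.mem_add, Multiset.mem_replicate, Multiset.mem_singleton] at ha
            rcases ha with ⟨_, rfl⟩ | rfl <;> norm_num),
            Multiset.card_add, Multiset.card_replicate, Multiset.card_singleton])
        (by
          unfold kapm
          rw [Multiset.map_add, Multiset.sum_add, Multiset.map_replicate, Multiset.sum_replicate,
            Multiset.map_singleton, Multiset.sum_singleton, smul_eq_mul]
          norm_num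
          omega)
        (by
          unfold kapm
          rw [Multiset.map_add, Multiset.sum_add, Multiset.map_replicate, Multiset.sum_replicate,
            Multiset.map_singleton, Multiset.sum_singleton, smul_eq_mul]
          norm_num
          omega) (by omega)
      refine ⟨x, hx1, hx2, fun W hW hWnd => ?_⟩
      obtain ⟨a₁, a₂, b₁, b₂, ⟨a', ha'⟩, ⟨b', hb'⟩, h4, h5, h6, h7⟩ := hx3 W hW hWnd
      omega

end unip

end Cfsg.Agent.Lib.Helper12.OrP
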