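import Mathlib
import Cfsg.Agent.Lib.Helper12.OrPG
import Cfsg.Agent.Lib.Helper12.OrPE
import Cfsg.Agent.Lib.Helper12.OrPD
import Cfsg.Agent.Lib.Helper12.OrNH
import Cfsg.Agent.Lib.Helper24.Or87

set_option autoImplicit false
set_option linter.unusedSectionVars false

/-!
# The prime two for the action of an orthogonal group on nondegenerate subspaces of odd dimension

The first two results are versions, without the hypothesis that `-1` is a nonsquare, of
`exists_herm_basis` and `sqneg_mem_omega_iff` of `Cfsg.Agent.Lib.Helper24.Or` (proofs adapted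
from there).
-/

namespace Cfsg.Agent.Lib.Helper12.OrP

open Module QuadraticMap Polynomial Cfsg.Agent.Lib.Helper12.Elus Cfsg.Agent.Lib.Helper12
  Cfsg.Agent.Lib.Helper15 Cfsg.Agent.Lib.Helper15.QuadType Cfsg.Agent.Lib.Helper15.OrthSemi
  Cfsg.Agent.Lib.Helper24.Or
open scoped MatrixGroups Matrix

section herm

variable {F V : Type*} [Field F] [Fintype F] [AddCommGroup V] [Module F V]
  [FiniteDimensional F V] (Q : QuadraticForm F V) (y : V →ₗ[F] V)

/-- a "Hermitian orthogonal basis": the space is the orthogonal sum of the planes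
`⟨v i, y (v i)⟩` -/
theorem herm_basis_gen (h2 : (2 : F) ≠ 0)
    (hiso : ∀ v, Q (y v) = Q v) (hy : ∀ v, y (y v) = -v) :
    ∀ (k : ℕ) (C : Submodule F V), Un.NdOn (pB Q) C → (∀ u ∈ C, y u ∈ C) →
      finrank F C = 2 * k →
      ∃ v : Fin k → V, (∀ i, v i ∈ C) ∧ (∀ i, Q (v i) ≠ 0) ∧
        (∀ i j, i ≠ j → polar Q (v i) (v j) = 0) ∧ (∀ i j, polar Q (v i) (y (v j)) = 0) := by
  intro k
  induction k with
  | zero =>
    intro C _ _ _
    exact ⟨fun i => i.elim0, fun i => i.elim0, fun i => i.elim0, fun i => i.elim0,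
      fun i => i.elim0⟩
  | succ k ih =>
    intro C hC hCinv hdim
    have hy4 : y ^ 4 = 1 := by
      apply LinearMap.ext
      intro v
      have : y ^ 4 = y * y * (y * y) := by
        rw [← pow_two, ← pow_two, ← pow_mul]
      rw [this]
      simp [hy]
    -- a nonsingular vector
    obtain ⟨v₀, hv₀C, hQv₀⟩ : ∃ v₀ ∈ C, Q v₀ ≠ 0 := by
      by_contra hcon
      push Not at hcon
      have hts : TS Q C := hcon
      have hbot : C = ⊥ := by
        rw [eq_bot_iff]
        intro c hc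
        by_contra hc0
        obtain ⟨c', hc', hne⟩ := hC c hc (by simpa using hc0)
        exact hne (hts.polar_zero Q c c' hc hc')
      rw [hbot, finrank_bot] at hdim
      omega
    have hskew := polar_self_map Q y h2 hiso hy
    obtain ⟨P, hP⟩ : ∃ P : Submodule F V, P = Submodule.span F {v₀} ⊔ Submodule.span F {y v₀} :=
      ⟨_, rfl⟩
    have hPC : P ≤ C := by
      rw [hP]
      apply sup_le
      · rw [Submodule.span_le]
        intro x hx
        rw [Set.mem_singleton_iff.1 hx]; exact hv₀C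
      · rw [Submodule.span_le]
        intro x hx
        rw [Set.mem_singleton_iff.1 hx]; exact hCinv _ hv₀C
    have hPinv : ∀ u ∈ P, y u ∈ P := by
      rw [hP]
      intro u hu
      obtain ⟨a, ha, b, hb, rfl⟩ := Submodule.mem_sup.1 hu
      obtain ⟨s, rfl⟩ := Submodule.mem_span_singleton.1 ha
      obtain ⟨t, rfl⟩ := Submodule.mem_span_singleton.1 hb
      rw [map_add, map_smul, map_smul, hy, add_comm]
      exact Submodule.add_mem _
        ((le_sup_left : Submodule.span F {v₀} ≤ _)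
          (Submodule.smul_mem _ _ (Submodule.neg_mem _ (Submodule.mem_span_singleton_self _))))
        ((le_sup_right : Submodule.span F {y v₀} ≤ _)
          (Submodule.smul_mem _ _ (Submodule.mem_span_singleton_self _)))
    have hpp : ∀ u : V, Q u ≠ 0 → pB Q u u ≠ 0 := by
      intro u hu
      rw [pB_apply, polar_self]
      simpa using mul_ne_zero h2 hu
    have hPnd : Un.NdOn (pB Q) P := by
      rw [hP]
      apply Un.ndOn_sup (pB Q) (pB_sym Q) _ _ (Un.ndOn_span_singleton (pB Q) v₀ (hpp v₀ hQv₀))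
        (Un.ndOn_span_singleton (pB Q) (y v₀) (hpp _ (by rw [hiso]; exact hQv₀)))
      intro a ha c hc
      obtain ⟨s, rfl⟩ := Submodule.mem_span_singleton.1 ha
      obtain ⟨t, rfl⟩ := Submodule.mem_span_singleton.1 hc
      rw [pB_apply, polar_smul_left, polar_smul_right, hskew]
      simp
    have hv₀P : v₀ ∈ P := by
      rw [hP]
      exact (le_sup_left : Submodule.span F {v₀} ≤ _) (Submodule.mem_span_singleton_self _)
    have hyv₀P : y v₀ ∈ P := hPinv _ hv₀P
    have hPdim : finrank F P = 2 := by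
      rw [hP]
      exact (Cfsg.Agent.Lib.Helper12.OrN.plane_facts Q h2 v₀ (y v₀) hQv₀
        (by rw [hiso]; exact hQv₀) (hskew v₀)).2.1
    have hC'nd := Un.ndOn_inf_orth (pB Q) id_invol (pB_sym Q) C P hC hPC hPnd
    have hC'dim := Un.finrank_inf_orth (pB Q) id_invol (pB_sym Q) C P hPC hPnd
    have hC'inv : ∀ u ∈ C ⊓ Un.orth (pB Q) P, y u ∈ C ⊓ Un.orth (pB Q) P := by
      intro u hu
      exact ⟨hCinv u hu.1, Un.orth_invariant (pB Q) y (Cfsg.Agent.Lib.Helper24.Or.polar_iso Q y hiso) 4 (by norm_num) hy4 P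
        hPinv u hu.2⟩
    obtain ⟨v', hv'C, hv'Q, hv'orth, hv'y⟩ := ih (C ⊓ Un.orth (pB Q) P) hC'nd hC'inv (by omega)
    have h0j : ∀ j, polar Q v₀ (v' j) = 0 := fun j => (hv'C j).2 v₀ hv₀P
    have hy0j : ∀ j, polar Q (y v₀) (v' j) = 0 := fun j => (hv'C j).2 (y v₀) hyv₀P
    refine ⟨Fin.cons v₀ v', ?_, ?_, ?_, ?_⟩
    · intro i
      refine Fin.cases ?_ (fun j => ?_) i
      · exact hv₀C
      · exact (hv'C j).1
    · intro i
      refine Fin.cases ?_ (fun j => ?_) i
      · exact hQv₀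
      · exact hv'Q j
    · intro i j
      refine Fin.cases ?_ (fun i' => ?_) i <;> refine Fin.cases ?_ (fun j' => ?_) j
      · intro hij; exact absurd rfl hij
      · intro _
        rw [Fin.cons_zero, Fin.cons_succ]
        exact h0j j'
      · intro _
        rw [Fin.cons_zero, Fin.cons_succ, polar_comm]
        exact h0j i'
      · intro hij
        rw [Fin.cons_succ, Fin.cons_succ]
        exact hv'orth i' j' (fun h => hij (by rw [h]))
    · intro i j
      refine Fin.cases ?_ (fun i' => ?_) i <;> refine Fin.cases ?_ (fun j' => ?_) j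
      · rw [Fin.cons_zero]
        exact hskew v₀
      · rw [Fin.cons_zero, Fin.cons_succ]
        have h1 := pB_iso Q y hiso (y v₀) (v' j')
        rw [hy, polar_neg_left, hy0j] at h1
        exact neg_eq_zero.1 h1
      · rw [Fin.cons_zero, Fin.cons_succ, polar_comm]
        exact hy0j i'
      · rw [Fin.cons_succ, Fin.cons_succ]
        exact hv'y i' j'


end herm

section kl4

open Cfsg.Agent.Lib.Helper25.Spin Cfsg.Agent.Lib.Helper25.CD

variable {F : Type*} [Field F] [Fintype F] {ι : Type} [Fintype ι] [DecidableEq ι]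
  (Qs : QuadraticForm F (ι → F))

/-- the spinor norm of an isometry with square `-1` is `2 ^ d` -/
theorem sqneg_mem_omega_gen (h2 : (2 : F) ≠ 0)
    (hQ : (polarBilin Qs).Nondegenerate) (y : (ι → F) →ₗ[F] (ι → F))
    (hiso : ∀ v, Qs (y v) = Qs v) (hy : ∀ v, y (y v) = -v) (d : ℕ)
    (hcard : Fintype.card ι = 2 * d) :
    (∃ g : ↥(Cfsg.isometryGroup F ⇑Qs), g ∈ Cfsg.Omega F ⇑Qs ∧
      ((g : GL ι F) : Matrix ι ι F) = LinearMap.toMatrix' y) ↔ IsSquare ((2 : F) ^ d) := by
  classical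
  have hnd : ∀ u, (∀ z, polar Qs u z = 0) → u = 0 :=
    fun u hu => hQ.1 u (fun z => by rw [polarBilin_apply_apply]; exact hu z)
  have hdim : finrank F (ι → F) = 2 * d := by
    rw [Module.finrank_fintype_fun_eq_card, hcard]
  obtain ⟨v, -, hvQ, hvorth, hvy⟩ := herm_basis_gen Qs y h2 hiso hy d ⊤
    (ndOn_top_of_nondeg Qs hnd) (fun _ _ => Submodule.mem_top) (by rw [finrank_top, hdim])
  have hyv : ∀ i j, polar Qs (y (v i)) (v j) = 0 := by
    intro i j
    rw [polar_comm]; exact hvy j i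
  have hyy : ∀ i j, polar Qs (y (v i)) (y (v j)) = polar Qs (v i) (v j) :=
    fun i j => pB_iso Qs y hiso _ _
  obtain ⟨wA, hwA⟩ : ∃ wA : Fin d → (ι → F), wA = fun j => v j + y (v j) := ⟨_, rfl⟩
  have hQA : ∀ j, Qs (wA j) = 2 * Qs (v j) := by
    intro j
    have : Qs (v j + y (v j)) = Qs (v j) + Qs (y (v j)) + polar Qs (v j) (y (v j)) := by
      rw [QuadraticMap.polar]; ring
    rw [hwA]
    simp only
    rw [this, hiso, hvy]
    ring
  have hAne : ∀ j, Qs (wA j) ≠ 0 := fun j => by rw [hQA]; exact mul_ne_zero h2 (hvQ j)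
  have hAorth : ∀ i j, i ≠ j → polar Qs (wA i) (wA j) = 0 := by
    intro i j hij
    rw [hwA]
    simp only
    rw [polar_add_left, polar_add_right, polar_add_right, hvorth i j hij, hvy, hyv, hyy,
      hvorth i j hij]
    simp
  obtain ⟨vsA, hA1, hA2, hA3, hA4⟩ := exists_orth_word Qs wA Finset.univ (fun j _ => hAne j)
    (fun i _ j _ hij => hAorth i j hij)
  obtain ⟨vsB, hB1, hB2, hB3, hB4⟩ := exists_orth_word Qs v Finset.univ (fun j _ => hvQ j)
    (fun i _ j _ hij => hvorth i j hij)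
  -- the basis
  have horth' : ∀ a b : Fin d ⊕ Fin d, a ≠ b →
      polar Qs (Sum.elim v (fun j => y (v j)) a) (Sum.elim v (fun j => y (v j)) b) = 0 := by
    rintro (i | i) (j | j) hab
    · exact hvorth i j (fun h => hab (by rw [h]))
    · exact hvy i j
    · exact hyv i j
    · simp only [Sum.elim_inr]
      rw [hyy]
      exact hvorth i j (fun h => hab (by rw [h]))
  have hne' : ∀ a : Fin d ⊕ Fin d, Qs (Sum.elim v (fun j => y (v j)) a) ≠ 0 := by
    rintro (i | i)
    · exact hvQ i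
    · simp only [Sum.elim_inr]
      rw [hiso]; exact hvQ i
  have hli := orth_linearIndependent h2 Qs _ horth' hne'
  have hcard' : Fintype.card (Fin d ⊕ Fin d) = finrank F (ι → F) := by
    rw [hdim]; simp; ring
  obtain ⟨b, hb⟩ : ∃ b : Basis (Fin d ⊕ Fin d) F (ι → F), ⇑b = Sum.elim v (fun j => y (v j)) :=
    ⟨basisOfLinearIndependentOfCardEqFinrank' _ hli hcard',
      coe_basisOfLinearIndependentOfCardEqFinrank' _ hli hcard'⟩
  have hperp : ∀ j k, polar Qs (wA j) (v k - y (v k)) = 0 := by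
    intro j k
    rw [hwA]
    simp only
    rw [polar_add_left, polar_sub_right, polar_sub_right, hvy, hyv, hyy]
    ring
  have hEAw : ∀ k, wordProd Qs vsA (wA k) = -wA k :=
    fun k => orthE_self Qs wA _ hA4 hAorth hAne k
  have hEAp : ∀ k, wordProd Qs vsA (v k - y (v k)) = v k - y (v k) :=
    fun k => orthE_perp Qs wA _ hA4 _ (fun j => hperp j k)
  have hdecomp1 : ∀ k, v k = (2 : F)⁻¹ • wA k + (2 : F)⁻¹ • (v k - y (v k)) := by
    intro k
    rw [hwA, ← smul_add]
    have : v k + y (v k) + (v k - y (v k)) = (2 : F) • v k := by rw [two_smul]; abel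
    rw [this, smul_smul, inv_mul_cancel₀ h2, one_smul]
  have hdecomp2 : ∀ k, y (v k) = (2 : F)⁻¹ • wA k - (2 : F)⁻¹ • (v k - y (v k)) := by
    intro k
    rw [hwA, ← smul_sub]
    have : v k + y (v k) - (v k - y (v k)) = (2 : F) • y (v k) := by rw [two_smul]; abel
    rw [this, smul_smul, inv_mul_cancel₀ h2, one_smul]
  have hEAv : ∀ k, wordProd Qs vsA (v k) = -y (v k) := by
    intro k
    conv_lhs => rw [hdecomp1 k]
    rw [map_add, map_smul, map_smul, hEAw, hEAp]
    conv_rhs => rw [hdecomp2 k]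
    rw [smul_neg]
    abel
  have hEAyv : ∀ k, wordProd Qs vsA (y (v k)) = -v k := by
    intro k
    conv_lhs => rw [hdecomp2 k]
    rw [map_sub, map_smul, map_smul, hEAw, hEAp]
    conv_rhs => rw [hdecomp1 k]
    rw [smul_neg]
    abel
  have hEBv : ∀ k, wordProd Qs vsB (v k) = -v k :=
    fun k => orthE_self Qs v _ hB4 hvorth hvQ k
  have hEByv : ∀ k, wordProd Qs vsB (y (v k)) = y (v k) :=
    fun k => orthE_perp Qs v _ hB4 _ (fun j => hvy j k)
  have hkey : y = ((wordProd Qs (vsA ++ vsB) : (ι → F) ≃ₗ[F] (ι → F)) :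
      (ι → F) →ₗ[F] (ι → F)) := by
    apply b.ext
    intro a
    rw [hb, LinearEquiv.coe_coe, wordProd_append, LinearEquiv.mul_apply]
    rcases a with k | k
    · simp only [Sum.elim_inl]
      rw [hEBv, map_neg, hEAv, neg_neg]
    · simp only [Sum.elim_inr]
      rw [hEByv, hEAyv, hy]
  have hvs : ∀ u ∈ vsA ++ vsB, Qs u ≠ 0 := by
    intro u hu
    rcases List.mem_append.1 hu with h | h
    · exact hA1 u h
    · exact hB1 u h
  rw [word_mem_omega_iff Qs h2 hQ hvs (fun x => by
    rw [← Matrix.toLin'_apply, Matrix.toLin'_toMatrix']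
    conv_lhs => rw [hkey]
    rfl), List.length_append, hA2, hB2, Finset.card_univ, Fintype.card_fin, normProd_append, hA3,
    hB3]
  have hprod : (∏ j, Qs (wA j)) * ∏ j, Qs (v j) = (∏ j, Qs (v j)) ^ 2 * (2 : F) ^ d := by
    have : ∏ j, Qs (wA j) = (2 : F) ^ d * ∏ j, Qs (v j) := by
      rw [Finset.prod_congr rfl (fun j _ => hQA j), Finset.prod_mul_distrib, Finset.prod_const,
        Finset.card_univ, Fintype.card_fin]
    rw [this]
    ring
  rw [hprod, isSquare_sq_mul_iff (Finset.prod_ne_zero_iff.2 (fun j _ => hvQ j))]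
  exact ⟨fun h => h.2, fun h => ⟨⟨d, rfl⟩, h⟩⟩


end kl4

section parity

open Cfsg.Agent.Lib.Helper12.OrN Cfsg.Agent.Lib.Helper12.Un

variable {F V : Type*} [Field F] [AddCommGroup V] [Module F V]
  [FiniteDimensional F V] (Q : QuadraticForm F V) (y : V →ₗ[F] V)

/-- a nondegenerate subspace invariant under an isometry with square `-1` has even dimension -/
theorem even_of_sqneg_nd (h2 : (2 : F) ≠ 0) (hiso : ∀ v, Q (y v) = Q v)
    (hy : ∀ v, y (y v) = -v) (W : Submodule F V) (hW : ∀ u ∈ W, y u ∈ W) (hWnd : Nd Q W) :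
    Even (finrank F W) := by
  let β : LinearMap.BilinForm F W := (polarBilin Q).compl₁₂ W.subtype (y ∘ₗ W.subtype)
  have hβ : ∀ u v : W, β u v = polar Q (u : V) (y (v : V)) := fun u v => rfl
  have hβalt : β.IsAlt := fun u => by
    rw [hβ]
    exact polar_self_map Q y h2 hiso hy _
  have hβnd : β.Nondegenerate := by
    constructor
    · intro u hu
      by_contra hu0
      have hu0' : (u : V) ≠ 0 := fun h => hu0 (Subtype.ext h)
      obtain ⟨w, hw, hne⟩ := hWnd (u : V) u.2 hu0'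
      apply hne
      have h1 := hu ⟨-(y w), W.neg_mem (hW w hw)⟩
      rw [hβ] at h1
      simp only [map_neg, hy, neg_neg] at h1
      exact h1
    · intro v hv
      have hyv : y (v : V) = 0 := by
        by_contra h0
        obtain ⟨w, hw, hne⟩ := hWnd (y (v : V)) (hW _ v.2) h0
        apply hne
        have h1 := hv ⟨w, hw⟩
        rw [hβ] at h1
        rw [OrN.pB_apply, polar_comm]
        exact h1
      apply Subtype.ext
      have := hy (v : V)
      rw [hyv, map_zero] at this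
      simpa using this.symm
  exact Cfsg.Agent.Lib.Helper13.even_finrank_of_isAlt_nondegenerate (finrank F W) β hβalt hβnd rfl

end parity

section invol

open Cfsg.Agent.Lib.Helper12.OrN Cfsg.Agent.Lib.Helper12.Un

variable {F V : Type*} [Field F] [Fintype F] [AddCommGroup V] [Module F V]
  [FiniteDimensional F V] (Q : QuadraticForm F V)

/-- an isometric involution fixes a subspace isometric to any given nondegenerate subspace of
less than half the dimension -/
theorem invol_fix_iso (h2 : (2 : F) ≠ 0) (hQ : (polarBilin Q).Nondegenerate) (t : V →ₗ[F] V)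
    (ht : ∀ v, Q (t v) = Q v) (htt : ∀ v, t (t v) = v) (W₀ : Submodule F V) (hW₀ : Nd Q W₀)
    (hdim : 2 * finrank F W₀ < finrank F V) :
    ∃ W : Submodule F V, Iso Q W W₀ ∧ ∀ u ∈ W, t u ∈ W := by
  have hQ' : Cfsg.Agent.Lib.Helper15.NdOn Q ⊤ := ndOn_top Q hQ
  obtain ⟨P, hP⟩ : ∃ P, P = LinearMap.ker (t - LinearMap.id) := ⟨_, rfl⟩
  obtain ⟨N, hN⟩ : ∃ N, N = LinearMap.ker (t + LinearMap.id) := ⟨_, rfl⟩
  have hPfix : ∀ a ∈ P, t a = a := fun a ha => (OrthSemi.mem_ker_sub_id t a).1 (hP ▸ ha)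
  have hNneg : ∀ b ∈ N, t b = -b := fun b hb => (OrthSemi.mem_ker_add_id t b).1 (hN ▸ hb)
  have hPN : ∀ a ∈ P, ∀ b ∈ N, polar Q a b = 0 := fun a ha b hb =>
    OrthSemi.invol_orth Q h2 t ht a b (hPfix a ha) (hNneg b hb)
  have hsplit : P ⊔ N = ⊤ := by
    have := OrthSemi.invol_split h2 t htt ⊤ (fun _ _ => Submodule.mem_top)
    rwa [top_inf_eq, top_inf_eq, ← hP, ← hN] at this
  have hdims : finrank F P + finrank F N = finrank F V := by
    have := OrthSemi.invol_finrank h2 t htt ⊤ (fun _ _ => Submodule.mem_top)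
    rwa [top_inf_eq, top_inf_eq, ← hP, ← hN, finrank_top] at this
  have hPnd : Nd Q P := (nd_iff Q P).2 (OrthSemi.ndOn_left_of_orth Q P N ⊤ hsplit hPN hQ')
  have hNnd : Nd Q N := (nd_iff Q N).2 (OrthSemi.ndOn_right_of_orth Q P N ⊤ hsplit hPN hQ')
  rcases Nat.lt_or_ge (finrank F W₀) (finrank F P) with h | h
  · obtain ⟨W, hWP, hWiso⟩ := exists_embed Q h2 _ W₀ P rfl hW₀ hPnd h
    refine ⟨W, iso_symm Q hWiso, fun u hu => ?_⟩
    rw [hPfix u (hWP hu)]
    exact hu
  · obtain ⟨W, hWN, hWiso⟩ := exists_embed Q h2 _ W₀ N rfl hW₀ hNnd (by omega)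
    refine ⟨W, iso_symm Q hWiso, fun u hu => ?_⟩
    rw [hNneg u (hWN hu)]
    exact W.neg_mem hu

end invol

section plus2

open Cfsg.Agent.Lib.Helper25.Spin

universe u

variable {F : Type u} [Field F] [Fintype F]

/-- the diagonal isometry with square `-1` of the hyperbolic form -/
theorem exists_sqneg_diag (ι0 : F) (hι : ι0 * ι0 = -1) (d : ℕ) :
    ∃ y : (Fin d ⊕ Fin d → F) →ₗ[F] (Fin d ⊕ Fin d → F),
      (∀ v, Qp d F (y v) = Qp d F v) ∧ ∀ v, y (y v) = -v := by
  refine ⟨Matrix.toLin' (Matrix.diagonal (Sum.elim (fun _ => ι0) (fun _ => -ι0))), ?_, ?_⟩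
  · intro v
    rw [Qp_apply, Qp_apply]
    unfold Cfsg.quadFormPlus
    apply Finset.sum_congr rfl
    intro i _
    rw [Matrix.toLin'_apply, Matrix.mulVec_diagonal, Matrix.mulVec_diagonal]
    simp only [Sum.elim_inl, Sum.elim_inr]
    linear_combination (-(v (Sum.inl i) * v (Sum.inr i))) * hι
  · intro v
    funext k
    rw [Matrix.toLin'_apply, Matrix.mulVec_diagonal, Matrix.toLin'_apply, Matrix.mulVec_diagonal]
    rcases k with i | i
    · simp only [Sum.elim_inl, Pi.neg_apply]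
      linear_combination (v (Sum.inl i)) * hι
    · simp only [Sum.elim_inr, Pi.neg_apply]
      linear_combination (v (Sum.inr i)) * hι

theorem card_idx_pl (d : ℕ) : Fintype.card (Fin d ⊕ Fin d) = 2 * d := by
  simp
  ring

/-- elements of `Ω⁺` with square `-1` -/
theorem exists_sqneg_plus (hodd : Odd (Fintype.card F)) (d : ℕ) (hd : 1 ≤ d)
    (h : Even d ∨ Fintype.card F % 8 = 1) :
    ∃ x : GL (Fin d ⊕ Fin d) F, x ∈ Cfsg.Geo.omegaGL (Cfsg.quadFormPlus d F) ∧
      ∀ v, Matrix.toLin' (x : Matrix (Fin d ⊕ Fin d) (Fin d ⊕ Fin d) F)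
        (Matrix.toLin' (x : Matrix (Fin d ⊕ Fin d) (Fin d ⊕ Fin d) F) v) = -v := by
  have h2 : (2 : F) ≠ 0 := two_ne_zero_odd hodd
  have hnd : (polarBilin (Qp d F)).Nondegenerate := qfOf_nondeg _
  have hsq : IsSquare ((2 : F) ^ d) := by
    rcases h with hev | h8
    · exact hev.isSquare_pow _
    · have : IsSquare (2 : F) := FiniteField.isSquare_two_iff.2 ⟨by omega, by omega⟩
      exact this.pow d
  by_cases hq : Fintype.card F % 4 = 3
  · have hev : Even d := by
      rcases h with hev | h8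
      · exact hev
      · omega
    have := exists_sqneg_omega (Qp d F) hq hnd d (card_idx_pl d) 1
      ⟨fun _ => rfl, fun ho => absurd hev (Nat.not_even_iff_odd.2 ho)⟩
      (fun V' _ _ _ Q' hnd' hdim' ht' => by
        obtain ⟨b, hb⟩ := univ_plus Q' hnd' d hd hdim' ht'
        exact ⟨b.equivFun, fun v => hb v⟩) hsq
    exact this
  · have hsq1 : IsSquare (-1 : F) := by
      rw [FiniteField.isSquare_neg_one_iff]
      exact hq
    obtain ⟨ι0, hι0⟩ := hsq1
    obtain ⟨y, hiso, hy⟩ := exists_sqneg_diag ι0 hι0.symm d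
    obtain ⟨g, hg, hgy⟩ := (sqneg_mem_omega_gen (Qp d F) h2 hnd y hiso hy d (card_idx_pl d)).2 hsq
    refine ⟨(g : GL (Fin d ⊕ Fin d) F), Subgroup.mem_map.2 ⟨g, hg, rfl⟩, ?_⟩
    intro v
    rw [hgy, Matrix.toLin'_toMatrix', hy]

/-- no element of `Ω⁺_{2d}(q)` has square `-1` when `d` is odd and `q ≢ 1 (mod 8)` -/
theorem no_sqneg_plus (hodd : Odd (Fintype.card F)) (d : ℕ) (hdodd : Odd d)
    (hq8 : Fintype.card F % 8 ≠ 1) (x : GL (Fin d ⊕ Fin d) F)
    (hx : x ∈ Cfsg.Geo.omegaGL (Cfsg.quadFormPlus d F))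
    (hneg : ∀ v, Matrix.toLin' (x : Matrix (Fin d ⊕ Fin d) (Fin d ⊕ Fin d) F)
        (Matrix.toLin' (x : Matrix (Fin d ⊕ Fin d) (Fin d ⊕ Fin d) F) v) = -v) : False := by
  have h2 : (2 : F) ≠ 0 := two_ne_zero_odd hodd
  have hnd : (polarBilin (Qp d F)).Nondegenerate := qfOf_nondeg _
  have hx' : x ∈ Cfsg.Geo.omegaGL ⇑(Qp d F) := hx
  obtain ⟨g, hg, rfl⟩ := Subgroup.mem_map.1 hx'
  have hiso : ∀ v, Qp d F (Matrix.toLin'
      ((g : GL (Fin d ⊕ Fin d) F) : Matrix (Fin d ⊕ Fin d) (Fin d ⊕ Fin d) F) v) = Qp d F v := by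
    intro v
    have := g.2 v v
    exact this
  by_cases hq : Fintype.card F % 4 = 3
  · have := (type_of_sqneg (Qp d F) _ hq hiso hneg d 1 (Or.inl rfl) (hasType_plus d)).2 hdodd
    norm_num at this
  · have hsq := (sqneg_mem_omega_gen (Qp d F) h2 hnd _ hiso hneg d (card_idx_pl d)).1
      ⟨g, hg, by rw [LinearMap.toMatrix'_toLin']⟩
    have h3 := FiniteField.isSquare_two_iff.1 (isSquare_two_of_pow h2 d hdodd hsq)
    obtain ⟨k, hk⟩ := hodd
    omega

end plus2

end Cfsg.Agent.Lib.Helper12.OrP
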