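import Mathlib
import Cfsg.Agent.Lib.Helper12.OrPH
import Cfsg.Agent.Lib.Helper12.OrNJ

set_option autoImplicit false
set_option linter.unusedSectionVars false

/-!
# Even-dimensional orthogonal groups acting on the nondegenerate subspaces isometric to a given
one of odd dimension: primes `r ≠ 2, p`
-/

namespace Cfsg.Agent.Lib.Helper12.OrP

open Module QuadraticMap Cfsg.Agent.Lib.Helper12.Elus Cfsg.Agent.Lib.Helper12.Un
  Cfsg.Agent.Lib.Helper12.OrN Cfsg.Agent.Lib.Helper15 Cfsg.Agent.Lib.Helper15.QuadType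
open scoped Matrix

universe u

section glue

variable {F : Type*} [Field F] {V : Type*} [AddCommGroup V] [Module F V] [FiniteDimensional F V]

theorem typeOn_top [Fintype F] (Q : QuadraticForm F V) (ε : ℤ) (n : ℕ)
    (hdim : finrank F V = 2 * n) (ht : HasType ε n (fun v => Q v)) : TypeOn Q ⊤ ε := by
  unfold TypeOn
  rw [finrank_top, hdim, Nat.mul_div_cancel_left _ two_pos]
  exact ht.congr (Submodule.topEquiv (R := F) (M := V)).symm.toEquiv (fun v => rfl)

end glue

section geo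

variable {F : Type*} [Field F] {ι : Type} [Fintype ι] [DecidableEq ι]
  (Qs : QuadraticForm F (ι → F))

theorem geo_nd_gen (W : Submodule F (ι → F)) :
    Cfsg.Geo.IsNondegenerateOn (QuadraticMap.polar ⇑Qs) W ↔ Nd Qs W := by
  constructor
  · intro h u hu hu0
    obtain ⟨v, hv, hne⟩ := (h u hu hu0).2
    exact ⟨v, hv, hne⟩
  · intro h w hw hw0
    obtain ⟨v, hv, hne⟩ := h w hw hw0
    have hne' : QuadraticMap.polar ⇑Qs w v ≠ 0 := hne
    refine ⟨⟨v, hv, ?_⟩, ⟨v, hv, hne'⟩⟩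
    rw [QuadraticMap.polar_comm]
    exact hne'

theorem mem_geo_set [Fintype F] (W₀ : Submodule F (ι → F)) (hW₀ : Nd Qs W₀) (m : ℕ)
    (hm : finrank F W₀ = m) (W : Submodule F (ι → F)) :
    (finrank F W = m ∧ Cfsg.Geo.IsNondegenerateOn (QuadraticMap.polar ⇑Qs) W ∧
      Cfsg.Geo.AreIsometricFor ⇑Qs W W₀) ↔ W ∈ isoSet Qs W₀ := by
  constructor
  · rintro ⟨-, -, h⟩
    exact h
  · intro h
    have h' : Iso Qs W W₀ := h
    exact ⟨by rw [iso_finrank Qs h', hm], (geo_nd_gen Qs W).2 (iso_nd Qs (iso_symm Qs h') hW₀), h⟩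

end geo

section red

variable {F : Type*} [Field F] {ι : Type} [Fintype ι] [DecidableEq ι]
  (Qs : QuadraticForm F (ι → F))

theorem iso_pow (y : (ι → F) →ₗ[F] (ι → F)) (hy : ∀ v, Qs (y v) = Qs v) (k : ℕ) (v : ι → F) :
    Qs ((y ^ k) v) = Qs v := by
  induction k with
  | zero => rfl
  | succ k ih =>
    rw [pow_succ', Module.End.mul_apply, hy, ih]

theorem toLin_pow_scalar (x : GL ι F) (r : ℕ) (z : F)
    (hz : ((x ^ r : GL ι F) : Matrix ι ι F) = z • (1 : Matrix ι ι F)) :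
    (Matrix.toLin' (x : Matrix ι ι F)) ^ r = z • (1 : End F (ι → F)) := by
  rw [← Matrix.toLin'_pow, ← Units.val_pow_eq_pow_val, hz, map_smul, Matrix.toLin'_one]
  rfl

/-- an isometry whose `r`-th power is scalar, `r` odd: up to sign it has order dividing `r` -/
theorem scalar_reduce (v₀ : ι → F) (hv₀ : Qs v₀ ≠ 0) (r : ℕ) (hr : Odd r) (x : GL ι F)
    (hx : ∀ v, Qs (Matrix.toLin' (x : Matrix ι ι F) v) = Qs v) (z : F)
    (hz : ((x ^ r : GL ι F) : Matrix ι ι F) = z • (1 : Matrix ι ι F)) :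
    ∃ y : (ι → F) →ₗ[F] (ι → F), (∀ v, Qs (y v) = Qs v) ∧ y ^ r = 1 ∧
      (∀ W : Submodule F (ι → F), (∀ u ∈ W, y u ∈ W) →
        W.map (Matrix.toLin' (x : Matrix ι ι F)) ≤ W) := by
  have hpow := toLin_pow_scalar x r z hz
  have hz2 : z * z = 1 := by
    have h1 := iso_pow Qs _ hx r v₀
    rw [hpow, LinearMap.smul_apply, Module.End.one_apply, QuadraticMap.map_smul, smul_eq_mul] at h1
    exact mul_right_cancel₀ hv₀ (by rw [h1, one_mul])
  rcases mul_self_eq_one_iff.1 hz2 with rfl | rfl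
  · refine ⟨Matrix.toLin' (x : Matrix ι ι F), hx, by rw [hpow, one_smul], ?_⟩
    rintro W hW _ ⟨u, hu, rfl⟩
    exact hW u hu
  · refine ⟨(-1 : F) • (Matrix.toLin' (x : Matrix ι ι F) : End F (ι → F)), ?_, ?_, ?_⟩
    · intro v
      rw [LinearMap.smul_apply, QuadraticMap.map_smul, hx]
      norm_num
    · rw [smul_pow, hpow, smul_smul, hr.neg_one_pow]
      norm_num
    · rintro W hW _ ⟨u, hu, rfl⟩
      have := hW u hu
      rw [LinearMap.smul_apply, neg_smul, one_smul] at this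
      exact (Submodule.neg_mem_iff W).1 this

/-- an isometry of odd order dividing `r` with a small fixed space is not scalar -/
theorem nonscalar_of_fix (v₀ : ι → F) (hv₀ : Qs v₀ ≠ 0) (r : ℕ) (hr : Odd r) (x : GL ι F)
    (hx : ∀ v, Qs (Matrix.toLin' (x : Matrix ι ι F) v) = Qs v) (hxr : x ^ r = 1)
    (hfix : finrank F (fixE (Matrix.toLin' (x : Matrix ι ι F))) < Fintype.card ι) (z : F) :
    (x : Matrix ι ι F) ≠ z • (1 : Matrix ι ι F) := by
  intro hxz
  have hlin : Matrix.toLin' (x : Matrix ι ι F) = z • (1 : End F (ι → F)) := by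
    rw [hxz, map_smul, Matrix.toLin'_one]
    rfl
  have hz2 : z * z = 1 := by
    have h1 := hx v₀
    rw [hlin, LinearMap.smul_apply, Module.End.one_apply, QuadraticMap.map_smul, smul_eq_mul] at h1
    exact mul_right_cancel₀ hv₀ (by rw [h1, one_mul])
  have hv₀0 : v₀ ≠ 0 := by
    rintro rfl
    rw [QuadraticMap.map_zero] at hv₀
    exact hv₀ rfl
  have hzr : z ^ r = 1 := by
    have h1 : (Matrix.toLin' (x : Matrix ι ι F)) ^ r = 1 := by
      rw [← Matrix.toLin'_pow, ← Units.val_pow_eq_pow_val, hxr, Units.val_one, Matrix.toLin'_one]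
      rfl
    rw [hlin, smul_pow, one_pow] at h1
    have h3 := congrArg (fun f : End F (ι → F) => f v₀) h1
    simp only [LinearMap.smul_apply, Module.End.one_apply] at h3
    have h4 : (z ^ r - 1) • v₀ = 0 := by rw [sub_smul, h3, one_smul, sub_self]
    rcases smul_eq_zero.1 h4 with h | h
    · exact sub_eq_zero.1 h
    · exact absurd h hv₀0
  have hz1 : z = 1 := by
    obtain ⟨k, rfl⟩ := hr
    rw [pow_succ, pow_mul, pow_two, hz2, one_pow, one_mul] at hzr
    exact hzr
  rw [hz1, one_smul] at hlin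
  have h3 : fixE (Matrix.toLin' (x : Matrix ι ι F)) = ⊤ := by
    rw [eq_top_iff]
    intro v _
    rw [mem_fixE, hlin]
    rfl
  rw [h3, finrank_top, Module.finrank_fintype_fun_eq_card] at hfix
  exact lt_irrefl _ hfix

end red

section model

variable {F : Type u} [Field F] [Fintype F] {p : ℕ} [Fact p.Prime] [CharP F p]
  {ι : Type} [Fintype ι] [DecidableEq ι] (Qs : QuadraticForm F (ι → F))

/-- the model element inside `Ω` -/
theorem exists_model_omega_even (hnd : (polarBilin Qs).Nondegenerate)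
    (hodd : Odd (Fintype.card F)) (ε : ℤ) (hε : ε = 1 ∨ ε = -1) (n : ℕ)
    (huniv : ∀ (W : Type u) [AddCommGroup W] [Module F W] [FiniteDimensional F W]
      (Q : QuadraticForm F W), (polarBilin Q).Nondegenerate → finrank F W = 2 * n →
      HasType ε n (fun v => Q v) → ∃ b : Basis ι F W, ∀ v, Qs (b.equivFun v) = Q v)
    (r : ℕ) [Fact r.Prime] (hr2 : r ≠ 2) (hrp : r ≠ p)
    (hcond : 0 < (2 * n) % Sp.blockDim (Fintype.card F) r ∨
      ((Fintype.card F : ℕ) : ZMod r) ^ n = (ε : ZMod r)) :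
    ∃ x : GL ι F, x ∈ Cfsg.Geo.omegaGL ⇑Qs ∧ x ^ r = 1 ∧
      finrank F (fixE (Matrix.toLin' (x : Matrix ι ι F))) ≤
        (2 * n) % Sp.blockDim (Fintype.card F) r := by
  have hr : r.Prime := Fact.out
  obtain ⟨B, hB1, hB3, hBfix⟩ := exists_model_even (p := p) ⇑Qs ε hε n huniv r hr2 hrp hcond
  have hBB : B * B ^ (r - 1) = 1 := by
    rw [← pow_succ', Nat.sub_add_cancel hr.pos, hB3]
  have hBB' : B ^ (r - 1) * B = 1 := by
    rw [← pow_succ, Nat.sub_add_cancel hr.pos, hB3]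
  let x : GL ι F := ⟨B, B ^ (r - 1), hBB, hBB'⟩
  have hxr : x ^ r = 1 := by
    apply Units.ext
    rw [Units.val_pow_eq_pow_val]
    exact hB3
  have hxmem : x ∈ Cfsg.isometryGroup F ⇑Qs := by
    intro u v
    exact hB1 u
  have hg : (⟨x, hxmem⟩ : ↥(Cfsg.isometryGroup F ⇑Qs)) ∈ Cfsg.Omega F ⇑Qs := by
    apply Cfsg.Agent.Lib.Helper15.UniOmega2.mem_omega_of_odd_order Qs hnd
      _ _ r (hr.odd_of_ne_two hr2)
    · apply Subtype.ext
      exact hxr
    · left
      intro h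
      rw [h] at hodd
      exact absurd hodd (by decide)
  exact ⟨x, Subgroup.mem_map.2 ⟨⟨x, hxmem⟩, hg, rfl⟩, hxr, hBfix⟩

end model

section main

variable {F : Type u} [Field F] [Fintype F] {p : ℕ} [Fact p.Prime] [CharP F p]
  {ι : Type} [Fintype ι] [DecidableEq ι] (Qs : QuadraticForm F (ι → F))

theorem mod_parity (c m n : ℕ) (hc : Even c) (hm : Odd m) (hn : Even n) : m % c ≠ n % c := by
  obtain ⟨c', hc'⟩ := hc
  obtain ⟨m', hm'⟩ := hm
  obtain ⟨n', hn'⟩ := hn
  have h2 := Nat.div_add_mod m c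
  have h3 := Nat.div_add_mod n c
  have h4 : c * (m / c) = 2 * (c' * (m / c)) := by rw [hc']; ring
  have h5 : c * (n / c) = 2 * (c' * (n / c)) := by rw [hc']; ring
  omega

/-- primes `r ≠ 2, p`: the criterion for all elements of `Ω` with scalar `r`-th power to fix a
subspace isometric to the odd-dimensional nondegenerate `W₀` -/
theorem odd_prime_iff (hnd : (polarBilin Qs).Nondegenerate) (hodd : Odd (Fintype.card F))
    (ε : ℤ) (hε : ε = 1 ∨ ε = -1) (d : ℕ) (hd : 1 ≤ d) (hcard : Fintype.card ι = 2 * d)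
    (ht : HasType ε d (fun v => Qs v))
    (huniv : ∀ (W : Type u) [AddCommGroup W] [Module F W] [FiniteDimensional F W]
      (Q : QuadraticForm F W), (polarBilin Q).Nondegenerate → finrank F W = 2 * d →
      HasType ε d (fun v => Q v) → ∃ b : Basis ι F W, ∀ v, Qs (b.equivFun v) = Q v)
    (r : ℕ) [Fact r.Prime] (hr2 : r ≠ 2) (hrp : r ≠ p)
    (W₀ : Submodule F (ι → F)) (hW₀ : Nd Qs W₀) (hmodd : Odd (finrank F W₀))
    (hmd : finrank F W₀ < d) (hrΩ : r ∣ Nat.card (isoSet Qs W₀)) :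
    (∀ x : GL ι F, x ∈ Cfsg.Geo.omegaGL ⇑Qs →
      (∃ z : F, ((x ^ r : GL ι F) : Matrix ι ι F) = z • (1 : Matrix ι ι F)) →
      (∀ z : F, (x : Matrix ι ι F) ≠ z • (1 : Matrix ι ι F)) →
      ∃ W ∈ isoSet Qs W₀, W.map (Matrix.toLin' (x : Matrix ι ι F)) ≤ W) ↔
    ((finrank F W₀ % Sp.blockDim (Fintype.card F) r < (2 * d) % Sp.blockDim (Fintype.card F) r ∧
        Sp.blockDim (Fintype.card F) r ≤ finrank F W₀) ∨
      ((2 * d) % Sp.blockDim (Fintype.card F) r = 0 ∧
        ((Fintype.card F : ℕ) : ZMod r) ^ d ≠ (ε : ZMod r))) := by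
  classical
  have hr : r.Prime := Fact.out
  have hrodd : Odd r := hr.odd_of_ne_two hr2
  have h2 : (2 : F) ≠ 0 := Cfsg.Agent.Lib.Helper24.Or.two_ne_zero_odd hodd
  have hdimV : finrank F (ι → F) = 2 * d := by
    rw [Module.finrank_fintype_fun_eq_card, hcard]
  have hVne : (⊤ : Submodule F (ι → F)) ≠ ⊥ := by
    intro h
    have := finrank_top F (ι → F)
    rw [h, finrank_bot, hdimV] at this
    omega
  obtain ⟨v₀, -, hv₀⟩ := exists_nonsing Qs ⊤ (nd_top Qs hnd) hVne
  obtain ⟨m, hm⟩ : ∃ m, m = finrank F W₀ := ⟨_, rfl⟩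
  obtain ⟨c, hc⟩ : ∃ c, c = Sp.blockDim (Fintype.card F) r := ⟨_, rfl⟩
  rw [← hm] at hmodd hmd
  rw [← hc, ← hm]
  have hcev : Even c := by rw [hc]; exact blockDim_even r _
  have hcpos : 0 < c := by rw [hc]; exact Sp.blockDim_pos (F := F) r hrp
  have hmc : 0 < m % c := pos_mod_of_odd c m hcev hmodd
  have hpar : m % c ≠ (2 * d) % c := mod_parity c m (2 * d) hcev hmodd ⟨d, by ring⟩
  have hisoΩ : ∀ x : GL ι F, x ∈ Cfsg.Geo.omegaGL ⇑Qs →
      ∀ v, Qs (Matrix.toLin' (x : Matrix ι ι F) v) = Qs v := fun x hx =>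
    Cfsg.Agent.Lib.Helper24.Or.toLin_iso _ x (Cfsg.Agent.Lib.Helper24.Or.iso_of_mem_omega _ x hx)
  constructor
  · intro H
    by_cases he : (2 * d) % c = 0
    · right
      refine ⟨he, ?_⟩
      intro hqd
      obtain ⟨x, hxΩ, hxr, hxfix⟩ := exists_model_omega_even (p := p) Qs hnd hodd ε hε d huniv r
        hr2 hrp (Or.inr hqd)
      rw [← hc, he] at hxfix
      have hxiso := hisoΩ x hxΩ
      have hns := nonscalar_of_fix Qs v₀ hv₀ r hrodd x hxiso hxr (by rw [hcard]; omega)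
      obtain ⟨W, hWiso, hWinv⟩ := H x hxΩ ⟨1, by rw [hxr, one_smul]; rfl⟩ hns
      have hWiso' : Iso Qs W W₀ := hWiso
      have h3 := fwd_dim Qs (Matrix.toLin' (x : Matrix ι ι F)) r h2 hxiso hrp hr2
        (toLin'_pow_eq_one x r hxr) W (fun u hu => hWinv ⟨u, hu, rfl⟩)
        (iso_nd Qs (iso_symm Qs hWiso') hW₀)
      rw [iso_finrank Qs hWiso', ← hm, ← hc] at h3
      omega
    · have hepos : 0 < (2 * d) % c := Nat.pos_of_ne_zero he
      by_cases hc2d : 2 * d < c
      · exfalso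
        exact not_dvd_card_isoSet_small (p := p) Qs r h2 hnd hrp hr2
          (by rw [hdimV, ← hc]; exact hc2d) W₀ ⟨W₀, iso_refl Qs W₀⟩ hrΩ
      · obtain ⟨x, hxΩ, hxr, hxfix⟩ := exists_model_omega_even (p := p) Qs hnd hodd ε hε d huniv r
          hr2 hrp (Or.inl (by rw [← hc]; exact hepos))
        rw [← hc] at hxfix
        have hxiso := hisoΩ x hxΩ
        have helt : (2 * d) % c < c := Nat.mod_lt _ hcpos
        have hns := nonscalar_of_fix Qs v₀ hv₀ r hrodd x hxiso hxr (by rw [hcard]; omega)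
        obtain ⟨W, hWiso, hWinv⟩ := H x hxΩ ⟨1, by rw [hxr, one_smul]; rfl⟩ hns
        have hWiso' : Iso Qs W W₀ := hWiso
        have hxpow := toLin'_pow_eq_one x r hxr
        have h3 := fwd_dim Qs (Matrix.toLin' (x : Matrix ι ι F)) r h2 hxiso hrp hr2
          hxpow W (fun u hu => hWinv ⟨u, hu, rfl⟩)
          (iso_nd Qs (iso_symm Qs hWiso') hW₀)
        rw [iso_finrank Qs hWiso', ← hm, ← hc] at h3
        left
        refine ⟨by omega, ?_⟩
        by_contra hlt
        push Not at hlt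
        have hmm : m % c = m := Nat.mod_eq_of_lt hlt
        obtain ⟨t, ht'⟩ := fix_mod Qs (Matrix.toLin' (x : Matrix ι ι F)) r h2 hnd hxiso hrp hr2
          hxpow
        rw [hdimV, ← hc] at ht'
        have hfe : finrank F (fixE (Matrix.toLin' (x : Matrix ι ι F))) % c = (2 * d) % c := by
          rw [ht', Nat.add_mul_mod_self_left]
        have hfle := Nat.mod_le (finrank F (fixE (Matrix.toLin' (x : Matrix ι ι F)))) c
        exact not_dvd_card_isoSet (p := p) Qs r h2 hnd hrp hr2 _ hxiso hxpow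
          (by rw [← hc]; omega) W₀ hW₀ (by rw [← hc, ← hm]; exact hlt) (by rw [← hm]; omega) hrΩ
  · intro hR x hx hxr _
    obtain ⟨z, hz⟩ := hxr
    have hxiso := hisoΩ x hx
    obtain ⟨y, hyiso, hyr, hyW⟩ := scalar_reduce Qs v₀ hv₀ r hrodd x hxiso z hz
    obtain ⟨t, ht'⟩ := fix_mod Qs y r h2 hnd hyiso hrp hr2 hyr
    rw [hdimV, ← hc] at ht'
    have hfe : finrank F (fixE y) % c = (2 * d) % c := by
      rw [ht', Nat.add_mul_mod_self_left]
    have hfle := Nat.mod_le (finrank F (fixE y)) c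
    have hcond : m % c < finrank F (fixE y) := by
      rcases hR with ⟨h1, -⟩ | ⟨he, hne⟩
      · omega
      · have hf0 : finrank F (fixE y) ≠ 0 := by
          intro hf0
          apply hne
          have hmov : movR y = ⊤ := by
            apply Submodule.eq_top_of_finrank_eq
            have := finrank_fix_add_mov y
            omega
          have h3 := type_of_fpf Qs y r hyiso hrp hyr ⊤ (fun _ _ => Submodule.mem_top)
            (by rw [hmov]) ε (typeOn_top Qs ε d hdimV ht)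
          rw [finrank_top, hdimV, Nat.mul_div_cancel_left _ two_pos] at h3
          exact h3
        have hdvd : c ∣ finrank F (fixE y) := Nat.dvd_of_mod_eq_zero (by rw [hfe, he])
        have hcle := Nat.le_of_dvd (Nat.pos_of_ne_zero hf0) hdvd
        have := Nat.mod_lt m hcpos
        omega
    obtain ⟨W, hWiso, hWinv⟩ := bwd_par (p := p) Qs y r h2 hnd hyiso hrp hr2 hyr W₀ hW₀
      (by rw [← hm]; exact hmodd) (by rw [← hm, hdimV]; omega) (by rw [← hc, ← hm]; exact hcond)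
    exact ⟨W, hWiso, hyW W hWinv⟩

end main

end Cfsg.Agent.Lib.Helper12.OrP
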