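import Mathlib
import Cfsg.Agent.Lib.Helper12.OrPI

set_option autoImplicit false
set_option linter.unusedSectionVars false

/-!
# Arithmetic of the criteria for even-dimensional orthogonal groups acting on nondegenerate
subspaces of odd dimension
-/

namespace Cfsg.Agent.Lib.Helper12.OrP

open Cfsg.Agent.Lib.Helper12.OrN

variable {r : ℕ} [Fact r.Prime]

theorem rhs_plus_par (hr2 : r ≠ 2) (q i c m d : ℕ) (hi : i = orderOf (q : ZMod r))
    (hipos : 0 < i) (hc : c = if Even i then i else 2 * i) (hm : Odd m) :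
    ((m % c < (2 * d) % c ∧ c ≤ m) ∨
      ((2 * d) % c = 0 ∧ (q : ZMod r) ^ d ≠ ((1 : ℤ) : ZMod r))) ↔
    ((Odd i ∧ c ≤ m ∧ 0 < m % c ∧ m % c < (2 * d) % c) ∨
     (Even i ∧ (((2 * d) % c = 0 ∧ Odd ((2 * d) / i)) ∨
        (i ≤ m ∧ 0 < m % c ∧ m % c < (2 * d) % c)))) := by
  rw [Int.cast_one]
  have hdd : 2 * d / 2 = d := Nat.mul_div_cancel_left d two_pos
  rcases Nat.even_or_odd i with hev | hodd
  · rw [if_pos hev] at hc
    subst hc
    have hmc := pos_mod_of_odd c m hev hm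
    constructor
    · rintro (⟨h1, h3⟩ | ⟨h0, hne⟩)
      · right
        exact ⟨hev, Or.inr ⟨h3, hmc, h1⟩⟩
      · right
        refine ⟨hev, Or.inl ⟨h0, ?_⟩⟩
        by_contra hno
        rw [Nat.not_odd_iff_even] at hno
        have := (pow_half_even hr2 q c (2 * d) hi hipos hev ⟨d, by ring⟩ h0).1.2 hno
        rw [hdd] at this
        exact hne this
    · rintro (⟨hodd, -⟩ | ⟨-, ⟨h0, hodd'⟩ | ⟨h1, -, h3⟩⟩)
      · exact absurd hev (Nat.not_even_iff_odd.2 hodd)
      · right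
        refine ⟨h0, fun hq => ?_⟩
        have := (pow_half_even hr2 q c (2 * d) hi hipos hev ⟨d, by ring⟩ h0).1.1
          (by rw [hdd]; exact hq)
        exact (Nat.not_even_iff_odd.2 hodd') this
      · left
        exact ⟨h3, h1⟩
  · rw [if_neg (Nat.not_even_iff_odd.2 hodd)] at hc
    have hcev : Even c := ⟨i, by rw [hc]; ring⟩
    have hmc := pos_mod_of_odd c m hcev hm
    constructor
    · rintro (⟨h1, h3⟩ | ⟨h0, hne⟩)
      · left
        exact ⟨hodd, h3, hmc, h1⟩
      · exfalso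
        apply hne
        rw [hc] at h0
        have := pow_half_odd (r := r) q i (2 * d) hi h0
        rw [hdd] at this
        exact this
    · rintro (⟨-, h1, -, h3⟩ | ⟨hev, -⟩)
      · left
        exact ⟨h3, h1⟩
      · exact absurd hev (Nat.not_even_iff_odd.2 hodd)

theorem rhs_minus_par (hr2 : r ≠ 2) (q i c m d : ℕ) (hi : i = orderOf (q : ZMod r))
    (hipos : 0 < i) (hc : c = if Even i then i else 2 * i) (hm : Odd m) :
    ((m % c < (2 * d) % c ∧ c ≤ m) ∨
      ((2 * d) % c = 0 ∧ (q : ZMod r) ^ d ≠ ((-1 : ℤ) : ZMod r))) ↔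
    ((Odd i ∧ ((2 * d) % c = 0 ∨ (c ≤ m ∧ 0 < m % c ∧ m % c < (2 * d) % c))) ∨
     (Even i ∧ (((2 * d) % c = 0 ∧ Even ((2 * d) / i)) ∨
        (0 < (2 * d) % c ∧ i ≤ m ∧ 0 < m % c ∧ m % c < (2 * d) % c)))) := by
  rw [Int.cast_neg, Int.cast_one]
  have hdd : 2 * d / 2 = d := Nat.mul_div_cancel_left d two_pos
  rcases Nat.even_or_odd i with hev | hodd
  · rw [if_pos hev] at hc
    subst hc
    have hmc := pos_mod_of_odd c m hev hm
    constructor
    · rintro (⟨h1, h3⟩ | ⟨h0, hne⟩)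
      · right
        exact ⟨hev, Or.inr ⟨by omega, h3, hmc, h1⟩⟩
      · right
        refine ⟨hev, Or.inl ⟨h0, ?_⟩⟩
        by_contra hno
        rw [Nat.not_even_iff_odd] at hno
        have := (pow_half_even hr2 q c (2 * d) hi hipos hev ⟨d, by ring⟩ h0).2.2 hno
        rw [hdd] at this
        exact hne this
    · rintro (⟨hodd, -⟩ | ⟨-, ⟨h0, hev'⟩ | ⟨-, h1, -, h3⟩⟩)
      · exact absurd hev (Nat.not_even_iff_odd.2 hodd)
      · right
        refine ⟨h0, fun hq => ?_⟩
        have := (pow_half_even hr2 q c (2 * d) hi hipos hev ⟨d, by ring⟩ h0).2.1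
          (by rw [hdd]; exact hq)
        exact (Nat.not_even_iff_odd.2 this) hev'
      · left
        exact ⟨h3, h1⟩
  · rw [if_neg (Nat.not_even_iff_odd.2 hodd)] at hc
    have hcev : Even c := ⟨i, by rw [hc]; ring⟩
    have hmc := pos_mod_of_odd c m hcev hm
    constructor
    · rintro (⟨h1, h3⟩ | ⟨h0, hne⟩)
      · left
        exact ⟨hodd, Or.inr ⟨h3, hmc, h1⟩⟩
      · left
        exact ⟨hodd, Or.inl h0⟩
    · rintro (⟨-, h0 | ⟨h1, -, h3⟩⟩ | ⟨hev, -⟩)
      · right
        refine ⟨h0, ?_⟩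
        rw [hc] at h0
        have := pow_half_odd (r := r) q i (2 * d) hi h0
        rw [hdd] at this
        rw [this]
        exact one_ne_neg_one_zmod hr2
      · left
        exact ⟨h3, h1⟩
      · exact absurd hev (Nat.not_even_iff_odd.2 hodd)

end Cfsg.Agent.Lib.Helper12.OrP
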