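import Mathlib
import Cfsg.Agent.Lib.Helper12.OrPI

set_option autoImplicit false
set_option linter.unusedSectionVars false

/-!
# Unipotent isometries `T` with `(T - 1)³ = 0`, `rank (T - 1)² ≤ 1` and a single Jordan block of
size one: the odd-dimensional invariant nondegenerate subspaces killed by `(T - 1)²` are
`hyperbolic ⊥ ⟨w⟩` with `Q w` in a fixed square class
-/

namespace Cfsg.Agent.Lib.Helper12.OrP

open Module QuadraticMap Cfsg.Agent.Lib.Helper12.Elus Cfsg.Agent.Lib.Helper12.Un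
  Cfsg.Agent.Lib.Helper12.OrN

section struct

variable {F V : Type*} [Field F] [Fintype F] [AddCommGroup V] [Module F V]
  (Q : QuadraticForm F V) (T : V →ₗ[F] V)

/-- `Q` vanishes on `(T - 1) x` when `(T - 1)² x = 0` -/
theorem sing_of_sq_zero (h2 : (2 : F) ≠ 0) (hiso : ∀ v, Q (T v) = Q v) (x : V)
    (hx : (T - 1) ((T - 1) x) = 0) : Q ((T - 1) x) = 0 := by
  have hTx : T x = x + (T - 1) x := by
    rw [LinearMap.sub_apply, Module.End.one_apply]
    abel
  have hTN : T ((T - 1) x) = (T - 1) x := by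
    have : T ((T - 1) x) = (T - 1) x + (T - 1) ((T - 1) x) := by
      rw [LinearMap.sub_apply (x := (T - 1) x), Module.End.one_apply]
      abel
    rw [this, hx, add_zero]
  have hpol : polar Q (T x) (T ((T - 1) x)) = polar Q x ((T - 1) x) := by
    unfold QuadraticMap.polar
    rw [← map_add, hiso, hiso, hiso]
  rw [hTN, hTx, polar_add_left, polar_self, two_nsmul] at hpol
  have h3 : (2 : F) * Q ((T - 1) x) = 0 := by linear_combination hpol
  exact (mul_eq_zero.1 h3).resolve_left h2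

/-- fixed vectors are orthogonal to the image of `T - 1` -/
theorem fixed_orth_range (hiso : ∀ v, Q (T v) = Q v) (k : V) (hk : T k = k) (x : V) :
    polar Q k ((T - 1) x) = 0 := by
  have h1 : polar Q (T k) (T x) = polar Q k x := by
    unfold QuadraticMap.polar
    rw [← map_add, hiso, hiso, hiso]
  rw [LinearMap.sub_apply, Module.End.one_apply, polar_sub_right, ← h1, hk, sub_self]

variable [FiniteDimensional F V]

/-- the fixed vectors outside the image of `T - 1` have their values of `Q` in one square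
class -/
theorem quot_line (h2 : (2 : F) ≠ 0) (hiso : ∀ v, Q (T v) = Q v)
    (hdim : finrank F (LinearMap.ker (T - 1)) ≤
      finrank F ↥(LinearMap.ker (T - 1) ⊓ LinearMap.range (T - 1)) + 1)
    (x x' : V) (hx : T x = x) (hx' : T x' = x') (hxn : x ∉ LinearMap.range (T - 1)) :
    ∃ lam : F, (x' ∉ LinearMap.range (T - 1) → lam ≠ 0) ∧ Q x' = lam * lam * Q x := by
  obtain ⟨K, hK⟩ : ∃ K, K = LinearMap.ker (T - 1) := ⟨_, rfl⟩
  obtain ⟨I, hI⟩ : ∃ I, I = K ⊓ LinearMap.range (T - 1) := ⟨_, rfl⟩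
  rw [← hK, ← hI] at hdim
  have hmemK : ∀ v, v ∈ K ↔ T v = v := by
    intro v
    rw [hK, LinearMap.mem_ker, LinearMap.sub_apply, Module.End.one_apply, sub_eq_zero]
  have hxK : x ∈ K := (hmemK x).2 hx
  have hxI : x ∉ I := by
    rw [hI]
    exact fun h => hxn h.2
  have hle : I ⊔ Submodule.span F {x} ≤ K := by
    apply sup_le
    · rw [hI]; exact inf_le_left
    · rw [Submodule.span_singleton_le_iff_mem]; exact hxK
  have hlt : I < I ⊔ Submodule.span F {x} := by
    apply lt_of_le_of_ne le_sup_left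
    intro h
    apply hxI
    rw [h]
    exact (le_sup_right : Submodule.span F {x} ≤ _) (Submodule.mem_span_singleton_self x)
  have h1 := Submodule.finrank_lt_finrank_of_lt hlt
  have h3 := Submodule.finrank_mono hle
  have heq : I ⊔ Submodule.span F {x} = K :=
    Submodule.eq_of_le_of_finrank_le hle (by omega)
  have hx'K : x' ∈ I ⊔ Submodule.span F {x} := by
    rw [heq]
    exact (hmemK x').2 hx'
  obtain ⟨y, hy, z, hz, rfl⟩ := Submodule.mem_sup.1 hx'K
  obtain ⟨lam, rfl⟩ := Submodule.mem_span_singleton.1 hz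
  rw [hI] at hy
  obtain ⟨u, hu⟩ := hy.2
  have hyK : T y = y := (hmemK y).1 hy.1
  have hQy : Q y = 0 := by
    rw [← hu]
    apply sing_of_sq_zero Q T h2 hiso
    rw [hu, LinearMap.sub_apply, Module.End.one_apply, hyK, sub_self]
  have hpol : polar Q y (lam • x) = 0 := by
    rw [polar_smul_right, polar_comm, ← hu, fixed_orth_range Q T hiso x hx, smul_zero]
  refine ⟨lam, ?_, ?_⟩
  · intro hn h0
    apply hn
    rw [h0, zero_smul, add_zero]
    exact hy.2
  · have : Q (y + lam • x) = Q y + Q (lam • x) + polar Q y (lam • x) := by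
      unfold QuadraticMap.polar
      ring
    rw [this, hQy, hpol, QuadraticMap.map_smul, smul_eq_mul]
    ring

/-- the structure of an odd-dimensional invariant nondegenerate subspace killed by `(T - 1)²` -/
theorem struct_sq_zero (h2 : (2 : F) ≠ 0) (hiso : ∀ v, Q (T v) = Q v)
    (hdim : finrank F (LinearMap.ker (T - 1)) ≤
      finrank F ↥(LinearMap.ker (T - 1) ⊓ LinearMap.range (T - 1)) + 1)
    (r : ℕ) (hr : 0 < r) (htr : T ^ r = 1)
    (W : Submodule F V) (hWinv : ∀ u ∈ W, T u ∈ W) (hWnd : Nd Q W) (hodd : Odd (finrank F W))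
    (hN2 : ∀ u ∈ W, (T - 1) ((T - 1) u) = 0) :
    finrank F W = 2 * finrank F ↥(W.map (T - 1)) + 1 ∧
    ∃ w ∈ W, T w = w ∧ w ∉ LinearMap.range (T - 1) ∧ Q w ≠ 0 ∧
      IsPlus Q (W ⊓ orth (pB Q) (Submodule.span F {w})) := by
  obtain ⟨N, hN⟩ : ∃ N : V →ₗ[F] V, N = T - 1 := ⟨_, rfl⟩
  rw [← hN] at hdim hN2 ⊢
  have hNW : ∀ u ∈ W, N u ∈ W := by
    intro u hu
    rw [hN, LinearMap.sub_apply, Module.End.one_apply]
    exact W.sub_mem (hWinv u hu) hu
  have hker : ∀ v, N v = 0 ↔ T v = v := by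
    intro v
    rw [hN, LinearMap.sub_apply, Module.End.one_apply, sub_eq_zero]
  obtain ⟨W', hW'⟩ : ∃ W', W' = orth (pB Q) W := ⟨_, rfl⟩
  have hW'inv : ∀ u ∈ W', T u ∈ W' := by
    rw [hW']
    exact orth_invariant (pB Q) T (pB_iso Q T hiso) r hr htr W hWinv
  have hNW' : ∀ u ∈ W', N u ∈ W' := by
    intro u hu
    rw [hN, LinearMap.sub_apply, Module.End.one_apply]
    exact W'.sub_mem (hW'inv u hu) hu
  obtain ⟨hsup, hdisj⟩ := sup_inf_orth (pB Q) pB_id (pB_sym Q) ⊤ W le_top hWnd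
  rw [top_inf_eq, ← hW'] at hsup hdisj
  obtain ⟨R, hR⟩ : ∃ R, R = W.map N := ⟨_, rfl⟩
  obtain ⟨K, hK⟩ : ∃ K, K = W ⊓ LinearMap.ker N := ⟨_, rfl⟩
  have hRW : R ≤ W := by
    rw [hR]
    rintro _ ⟨u, hu, rfl⟩
    exact hNW u hu
  have hRK : R ≤ K := by
    rw [hR, hK]
    rintro _ ⟨u, hu, rfl⟩
    exact ⟨hNW u hu, LinearMap.mem_ker.2 (hN2 u hu)⟩
  have hRts : ∀ z ∈ R, Q z = 0 := by
    rw [hR]
    rintro _ ⟨u, hu, rfl⟩
    rw [hN]
    exact sing_of_sq_zero Q T h2 hiso u (by rw [← hN]; exact hN2 u hu)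
  have hRpol : ∀ a ∈ R, ∀ b ∈ R, polar Q a b = 0 := by
    intro a ha b hb
    unfold QuadraticMap.polar
    rw [hRts _ (R.add_mem ha hb), hRts a ha, hRts b hb]
    ring
  have hdimKR : finrank F K + finrank F R = finrank F W := by
    have h1 := LinearMap.finrank_range_add_finrank_ker (N.domRestrict W)
    have h3 : finrank F (LinearMap.range (N.domRestrict W)) = finrank F R := by
      rw [LinearMap.range_domRestrict, hR]
    have h4 : finrank F (LinearMap.ker (N.domRestrict W)) = finrank F K := by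
      have e : LinearMap.ker (N.domRestrict W) = (LinearMap.ker N).comap W.subtype := by
        ext x
        rfl
      rw [e]
      have h5 : ((LinearMap.ker N).comap W.subtype).map W.subtype = K := by
        rw [Submodule.map_comap_subtype, hK]
      rw [← Submodule.finrank_map_subtype_eq, h5]
    omega
  have hKR : K ⊓ LinearMap.range N ≤ R := by
    rintro z ⟨hzK, ⟨v, rfl⟩⟩
    have hzW : N v ∈ W := by
      rw [hK] at hzK
      exact hzK.1
    have hv : v ∈ W ⊔ W' := by rw [hsup]; exact Submodule.mem_top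
    obtain ⟨v₁, hv₁, v₂, hv₂, rfl⟩ := Submodule.mem_sup.1 hv
    have h1 : N v₂ ∈ W ⊓ W' := by
      refine ⟨?_, hNW' v₂ hv₂⟩
      have : N v₂ = N (v₁ + v₂) - N v₁ := by rw [map_add]; abel
      rw [this]
      exact W.sub_mem hzW (hNW v₁ hv₁)
    rw [hdisj.eq_bot, Submodule.mem_bot] at h1
    rw [hR, map_add, h1, add_zero]
    exact ⟨v₁, hv₁, rfl⟩
  have hdimK : finrank F K ≤ finrank F R + 1 := by
    obtain ⟨I, hI⟩ : ∃ I, I = LinearMap.ker N ⊓ LinearMap.range N := ⟨_, rfl⟩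
    rw [← hI] at hdim
    have h1 := Submodule.finrank_sup_add_finrank_inf_eq K I
    have h3 : K ⊔ I ≤ LinearMap.ker N :=
      sup_le (by rw [hK]; exact inf_le_right) (by rw [hI]; exact inf_le_left)
    have h4 : K ⊓ I ≤ R :=
      le_trans (inf_le_inf le_rfl (by rw [hI]; exact inf_le_right)) hKR
    have h5 := Submodule.finrank_mono h3
    have h6 := Submodule.finrank_mono h4
    omega
  have hdimK' : finrank F K = finrank F R + 1 := by
    have h1 := Submodule.finrank_mono hRK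
    obtain ⟨j, hj⟩ := hodd
    omega
  obtain ⟨w, hwK, hwR⟩ : ∃ w ∈ K, w ∉ R := by
    by_contra hcon
    push Not at hcon
    have := Submodule.finrank_mono (show K ≤ R from hcon)
    omega
  have hwW : w ∈ W := by
    rw [hK] at hwK
    exact hwK.1
  have hTw : T w = w := by
    rw [hK] at hwK
    exact (hker w).1 (LinearMap.mem_ker.1 hwK.2)
  have hwn : w ∉ LinearMap.range N := fun h => hwR (hKR ⟨hwK, h⟩)
  have hRw : ∀ z ∈ R, polar Q z w = 0 := by
    rw [hR]
    rintro _ ⟨u, hu, rfl⟩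
    rw [polar_comm, hN]
    exact fixed_orth_range Q T hiso w hTw u
  have hQw : Q w ≠ 0 := by
    intro h0
    obtain ⟨U, hU⟩ : ∃ U, U = R ⊔ Submodule.span F {w} := ⟨_, rfl⟩
    have hUW : U ≤ W := by
      rw [hU]
      apply sup_le hRW
      rw [Submodule.span_singleton_le_iff_mem]
      exact hwW
    have hUU : U ≤ W ⊓ orth (pB Q) U := by
      intro a ha
      refine ⟨hUW ha, ?_⟩
      intro b hb
      rw [hU] at ha hb
      obtain ⟨a₁, ha₁, a₂, ha₂, rfl⟩ := Submodule.mem_sup.1 ha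
      obtain ⟨b₁, hb₁, b₂, hb₂, rfl⟩ := Submodule.mem_sup.1 hb
      obtain ⟨α, rfl⟩ := Submodule.mem_span_singleton.1 ha₂
      obtain ⟨β, rfl⟩ := Submodule.mem_span_singleton.1 hb₂
      have e1 : polar Q b₁ a₁ = 0 := hRpol b₁ hb₁ a₁ ha₁
      have e2 : polar Q b₁ w = 0 := hRw b₁ hb₁
      have e3 : polar Q w a₁ = 0 := by rw [polar_comm]; exact hRw a₁ ha₁
      have e4 : polar Q w w = 0 := by rw [polar_self, h0]; simp
      rw [pB_apply, polar_add_left, polar_add_right, polar_add_right, polar_smul_right,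
        polar_smul_left, polar_smul_left, polar_smul_right, e1, e2, e3, e4]
      simp
    have hlt : R < U := by
      rw [hU]
      apply lt_of_le_of_ne le_sup_left
      intro h
      apply hwR
      rw [h]
      exact (le_sup_right : Submodule.span F {w} ≤ _) (Submodule.mem_span_singleton_self w)
    have h0' := Submodule.finrank_lt_finrank_of_lt hlt
    have h1 := finrank_inf_orth' (pB Q) pB_id (pB_sym Q) W U hWnd hUW
    have h3 := Submodule.finrank_mono hUU
    omega
  have hw0 : w ≠ 0 := by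
    rintro rfl
    rw [QuadraticMap.map_zero] at hQw
    exact hQw rfl
  have hwnd : Nd Q (Submodule.span F {w}) := nd_span_singleton Q h2 w hQw
  have hwle : Submodule.span F {w} ≤ W := by
    rw [Submodule.span_singleton_le_iff_mem]
    exact hwW
  have hW₁dim := finrank_inf_orth (pB Q) pB_id (pB_sym Q) W _ hwle hwnd
  rw [finrank_span_singleton hw0] at hW₁dim
  refine ⟨by rw [← hR]; omega, w, hwW, hTw, hwn, hQw, R, ?_, hRts, by omega⟩
  intro z hz
  refine ⟨hRW hz, ?_⟩
  intro s hs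
  obtain ⟨α, rfl⟩ := Submodule.mem_span_singleton.1 hs
  rw [pB_apply, polar_smul_left, polar_comm, hRw z hz, smul_zero]

/-- if `(T - 1)²` has rank at most one, it kills an invariant nondegenerate subspace or its
orthogonal complement -/
theorem sq_dichotomy (hiso : ∀ v, Q (T v) = Q v)
    (hrank : finrank F (LinearMap.range ((T - 1) ∘ₗ (T - 1))) ≤ 1)
    (r : ℕ) (hr : 0 < r) (htr : T ^ r = 1)
    (W : Submodule F V) (hWinv : ∀ u ∈ W, T u ∈ W) (hWnd : Nd Q W) :
    (∀ u ∈ W, (T - 1) ((T - 1) u) = 0) ∨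
      (∀ u ∈ orth (pB Q) W, (T - 1) ((T - 1) u) = 0) := by
  obtain ⟨M, hM⟩ : ∃ M : V →ₗ[F] V, M = (T - 1) ∘ₗ (T - 1) := ⟨_, rfl⟩
  have hMapp : ∀ u, (T - 1) ((T - 1) u) = M u := fun u => by rw [hM]; rfl
  rw [← hM] at hrank
  obtain ⟨W', hW'⟩ : ∃ W', W' = orth (pB Q) W := ⟨_, rfl⟩
  have hW'inv : ∀ u ∈ W', T u ∈ W' := by
    rw [hW']
    exact orth_invariant (pB Q) T (pB_iso Q T hiso) r hr htr W hWinv
  have hinvM : ∀ (A : Submodule F V), (∀ u ∈ A, T u ∈ A) → ∀ u ∈ A, M u ∈ A := by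
    intro A hA u hu
    have h1 : ∀ v ∈ A, (T - 1) v ∈ A := by
      intro v hv
      rw [LinearMap.sub_apply, Module.End.one_apply]
      exact A.sub_mem (hA v hv) hv
    rw [← hMapp]
    exact h1 _ (h1 u hu)
  obtain ⟨-, hdisj⟩ := sup_inf_orth (pB Q) pB_id (pB_sym Q) ⊤ W le_top hWnd
  rw [top_inf_eq, ← hW'] at hdisj
  have hA : W.map M ≤ W := by
    rintro _ ⟨u, hu, rfl⟩
    exact hinvM W hWinv u hu
  have hA' : W'.map M ≤ W' := by
    rintro _ ⟨u, hu, rfl⟩
    exact hinvM W' hW'inv u hu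
  have hinf : W.map M ⊓ W'.map M = ⊥ := by
    rw [eq_bot_iff, ← hdisj.eq_bot]
    exact inf_le_inf hA hA'
  have hsup : W.map M ⊔ W'.map M ≤ LinearMap.range M := by
    apply sup_le
    · rintro _ ⟨u, -, rfl⟩
      exact ⟨u, rfl⟩
    · rintro _ ⟨u, -, rfl⟩
      exact ⟨u, rfl⟩
  have h1 := Submodule.finrank_sup_add_finrank_inf_eq (W.map M) (W'.map M)
  rw [hinf, finrank_bot, add_zero] at h1
  have h3 := Submodule.finrank_mono hsup
  rw [← hW']
  by_cases h0 : finrank F ↥(W.map M) = 0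
  · left
    intro u hu
    rw [hMapp]
    have : W.map M = ⊥ := Submodule.finrank_eq_zero.1 h0
    have h4 : M u ∈ W.map M := ⟨u, hu, rfl⟩
    rw [this, Submodule.mem_bot] at h4
    exact h4
  · right
    intro u hu
    rw [hMapp]
    have : W'.map M = ⊥ := Submodule.finrank_eq_zero.1 (by omega)
    have h4 : M u ∈ W'.map M := ⟨u, hu, rfl⟩
    rw [this, Submodule.mem_bot] at h4
    exact h4

end struct

section pp

variable {F V : Type*} [Field F] [Fintype F] [AddCommGroup V] [Module F V]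
  [FiniteDimensional F V] (Q : QuadraticForm F V)

/-- `W` is the orthogonal sum of a vector of norm `γ` and a space of plus type -/
def PP (W : Submodule F V) (γ : F) : Prop :=
  ∃ w ∈ W, Q w = γ ∧ IsPlus Q (W ⊓ orth (pB Q) (Submodule.span F {w}))

/-- transport of the property `PP` along an injective similitude defined on `W` -/
theorem pp_map (h2 : (2 : F) ≠ 0) (W : Submodule F V) (f : W →ₗ[F] V) (c : F)
    (hf : ∀ w : W, Q (f w) = c * Q (w : V)) (hinj : Function.Injective f) (γ : F)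
    (hγ : c * γ ≠ 0) (h : PP Q W γ) : PP Q (LinearMap.range f) (c * γ) := by
  obtain ⟨w, hwW, hQw, R, hRle, hRts, hRdim⟩ := h
  have hc0 : c ≠ 0 := left_ne_zero_of_mul hγ
  have hγ0 : γ ≠ 0 := right_ne_zero_of_mul hγ
  have hQw0 : Q w ≠ 0 := by rw [hQw]; exact hγ0
  have hw0 : w ≠ 0 := by
    rintro rfl
    rw [QuadraticMap.map_zero] at hQw0
    exact hQw0 rfl
  obtain ⟨w', hw'⟩ : ∃ w' : V, w' = f ⟨w, hwW⟩ := ⟨_, rfl⟩
  have hQw' : Q w' = c * γ := by rw [hw', hf, hQw]
  have hw'0 : w' ≠ 0 := by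
    rintro h0
    rw [h0, QuadraticMap.map_zero] at hQw'
    exact hγ hQw'.symm
  have hpol : ∀ a b : W, polar Q (f a) (f b) = c * polar Q (a : V) (b : V) := by
    intro a b
    unfold QuadraticMap.polar
    rw [← map_add, hf, hf, hf, Submodule.coe_add]
    ring
  have hwle : Submodule.span F {w} ≤ W := by
    rw [Submodule.span_singleton_le_iff_mem]
    exact hwW
  have hw'le : Submodule.span F {w'} ≤ LinearMap.range f := by
    rw [Submodule.span_singleton_le_iff_mem, hw']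
    exact ⟨_, rfl⟩
  have hd1 := finrank_inf_orth (pB Q) pB_id (pB_sym Q) W _ hwle (nd_span_singleton Q h2 w hQw0)
  have hd2 := finrank_inf_orth (pB Q) pB_id (pB_sym Q) (LinearMap.range f) _ hw'le
    (nd_span_singleton Q h2 w' (by rw [hQw']; exact hγ))
  rw [finrank_span_singleton hw0] at hd1
  rw [finrank_span_singleton hw'0, LinearMap.finrank_range_of_inj hinj] at hd2
  have hRW : R ≤ W := hRle.trans inf_le_left
  have hd3 : finrank F ↥((R.comap W.subtype).map f) = finrank F R := by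
    rw [← LinearEquiv.finrank_eq (Submodule.equivMapOfInjective f hinj _),
      ← Submodule.finrank_map_subtype_eq W (R.comap W.subtype), Submodule.map_comap_subtype,
      inf_eq_right.2 hRW]
  refine ⟨w', by rw [hw']; exact ⟨_, rfl⟩, hQw', (R.comap W.subtype).map f, ?_, ?_, by omega⟩
  · rintro _ ⟨a, ha, rfl⟩
    refine ⟨⟨a, rfl⟩, ?_⟩
    intro s hs
    obtain ⟨α, rfl⟩ := Submodule.mem_span_singleton.1 hs
    have ha' : (a : V) ∈ R := ha
    have h1 : pB Q w (a : V) = 0 := (hRle ha').2 w (Submodule.mem_span_singleton_self w)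
    rw [pB_apply] at h1
    rw [pB_apply, polar_smul_left, hw', hpol]
    simp only [h1, mul_zero, smul_zero]
  · rintro _ ⟨a, ha, rfl⟩
    have ha' : (a : V) ∈ R := ha
    rw [hf, hRts _ ha', mul_zero]

/-- the norm `γ` in `PP Q W₀ γ` is determined up to squares -/
theorem pp_square (h2 : (2 : F) ≠ 0) (hQ : (polarBilin Q).Nondegenerate) (W₀ : Submodule F V)
    (hW₀ : Nd Q W₀) (hodd : Odd (finrank F W₀)) (hco : finrank F W₀ + 2 ≤ finrank F V)
    (γ γ' : F) (hγ : γ ≠ 0) (hγ' : γ' ≠ 0) (h : PP Q W₀ γ) (h' : PP Q W₀ γ') :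
    IsSquare (γ * γ') := by
  obtain ⟨C, hC⟩ : ∃ C, C = orth (pB Q) W₀ := ⟨_, rfl⟩
  have hCnd : Nd Q C := by
    have := ndOn_inf_orth (pB Q) pB_id (pB_sym Q) ⊤ W₀ (nd_top Q hQ) le_top hW₀
    rw [top_inf_eq] at this
    rw [hC]
    exact this
  have hCdim := finrank_inf_orth (pB Q) pB_id (pB_sym Q) ⊤ W₀ le_top hW₀
  rw [top_inf_eq, finrank_top, ← hC] at hCdim
  obtain ⟨t, htC, hQt⟩ := exists_repr Q h2 C hCnd (by omega) (-γ)
  have hQt0 : Q t ≠ 0 := by rw [hQt]; exact neg_ne_zero.2 hγ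
  have hWt : ∀ a ∈ W₀, polar Q a t = 0 := by
    intro a ha
    rw [hC] at htC
    exact htC a ha
  -- the type of `W₀ ⊔ ⟨t⟩` computed from a decomposition
  have key : ∀ δ : F, δ ≠ 0 → PP Q W₀ δ →
      (IsSquare (-(δ * Q t)) → TypeOn Q (W₀ ⊔ Submodule.span F {t}) 1) ∧
      (¬ IsSquare (-(δ * Q t)) → TypeOn Q (W₀ ⊔ Submodule.span F {t}) (-1)) := by
    intro δ hδ hpp
    obtain ⟨w, hwW, hQw, hplus⟩ := hpp
    have hQw0 : Q w ≠ 0 := by rw [hQw]; exact hδ
    have hw0 : w ≠ 0 := by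
      rintro rfl
      rw [QuadraticMap.map_zero] at hQw0
      exact hQw0 rfl
    have hwle : Submodule.span F {w} ≤ W₀ := by
      rw [Submodule.span_singleton_le_iff_mem]
      exact hwW
    have hwnd := nd_span_singleton Q h2 w hQw0
    obtain ⟨W₁, hW₁⟩ : ∃ W₁, W₁ = W₀ ⊓ orth (pB Q) (Submodule.span F {w}) := ⟨_, rfl⟩
    rw [← hW₁] at hplus
    have hW₁nd : Nd Q W₁ := by
      rw [hW₁]
      exact ndOn_inf_orth (pB Q) pB_id (pB_sym Q) W₀ _ hW₀ hwle hwnd
    have hW₁dim := finrank_inf_orth (pB Q) pB_id (pB_sym Q) W₀ _ hwle hwnd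
    rw [finrank_span_singleton hw0, ← hW₁] at hW₁dim
    have hW₁ev : Even (finrank F W₁) := by
      obtain ⟨j, hj⟩ := hodd
      exact ⟨j, by omega⟩
    have hW₁t : TypeOn Q W₁ 1 := (typeOn_one_iff Q W₁ hW₁nd hW₁ev).2 hplus
    obtain ⟨hsup, -⟩ := sup_inf_orth (pB Q) pB_id (pB_sym Q) W₀ _ hwle hwnd
    rw [← hW₁] at hsup
    obtain ⟨hLnd, hLdim, hLplus, hLminus⟩ := plane_facts Q h2 w t hQw0 hQt0 (hWt w hwW)
    have horth : ∀ a ∈ W₁, ∀ b ∈ Submodule.span F {w} ⊔ Submodule.span F {t},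
        polar Q a b = 0 := by
      intro a ha b hb
      obtain ⟨b₁, hb₁, b₂, hb₂, rfl⟩ := Submodule.mem_sup.1 hb
      obtain ⟨α, rfl⟩ := Submodule.mem_span_singleton.1 hb₁
      obtain ⟨β, rfl⟩ := Submodule.mem_span_singleton.1 hb₂
      rw [hW₁] at ha
      have e1 : polar Q a w = 0 := by
        rw [polar_comm]
        exact ha.2 w (Submodule.mem_span_singleton_self w)
      have e2 : polar Q a t = 0 := hWt a ha.1
      rw [polar_add_right, polar_smul_right, polar_smul_right, e1, e2]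
      simp
    have heq : W₁ ⊔ (Submodule.span F {w} ⊔ Submodule.span F {t}) =
        W₀ ⊔ Submodule.span F {t} := by
      rw [← sup_assoc, sup_comm W₁, hsup]
    rw [← heq, ← hQw]
    constructor
    · intro hsq
      have := typeOn_sup Q W₁ _ hW₁nd horth hW₁ev ⟨1, by rw [hLdim]⟩ hW₁t (hLplus hsq)
      rwa [one_mul] at this
    · intro hsq
      have := typeOn_sup Q W₁ _ hW₁nd horth hW₁ev ⟨1, by rw [hLdim]⟩ hW₁t
        (hLminus hsq)
      rwa [one_mul] at this
  have k1 := (key γ hγ h).1 (by rw [hQt]; exact ⟨γ, by ring⟩)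
  by_contra hns
  have k2 := (key γ' hγ' h').2 (by
    rw [hQt]
    intro hsq
    apply hns
    have : -(γ' * -γ) = γ * γ' := by ring
    rwa [this] at hsq)
  have := typeOn_unique Q _ k1 k2
  omega

end pp

end Cfsg.Agent.Lib.Helper12.OrP
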