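import Mathlib
import Cfsg.Agent.Lib.Helper12.OrPK

set_option autoImplicit false
set_option linter.unusedSectionVars false

/-!
# Two unipotent isometries related by a similitude with nonsquare multiplier do not both fix a
subspace isometric to a given odd-dimensional nondegenerate subspace
-/

namespace Cfsg.Agent.Lib.Helper12.OrP

open Module QuadraticMap Cfsg.Agent.Lib.Helper12.Elus Cfsg.Agent.Lib.Helper12.Un
  Cfsg.Agent.Lib.Helper12.OrN

section both

variable {F V : Type*} [Field F] [Fintype F] [AddCommGroup V] [Module F V]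
  [FiniteDimensional F V] (Q : QuadraticForm F V)

/-- orthogonal complements of isometric subspaces are isometric -/
theorem iso_orth (hQ : (polarBilin Q).Nondegenerate) {A B : Submodule F V} (h : Iso Q A B) :
    Iso Q (orth (pB Q) A) (orth (pB Q) B) := by
  obtain ⟨g, hg, hgAB⟩ := iso_witt Q hQ h
  have hgQ : ∀ v, Q (g v) = Q v := hg
  have hpol : ∀ u v, polar Q (g u) (g v) = polar Q u v := by
    intro u v
    unfold QuadraticMap.polar
    rw [← map_add, hgQ, hgQ, hgQ]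
  have heq : (orth (pB Q) A).map ((g : V ≃ₗ[F] V) : V →ₗ[F] V) = orth (pB Q) B := by
    apply le_antisymm
    · rintro _ ⟨x, hx, rfl⟩
      intro n hn
      rw [← hgAB] at hn
      obtain ⟨a, ha, rfl⟩ := hn
      show polar Q (g a) (g x) = 0
      rw [hpol]
      exact hx a ha
    · intro y hy
      refine ⟨g.symm y, ?_, by simp⟩
      intro a ha
      show polar Q a (g.symm y) = 0
      rw [← hpol, LinearEquiv.apply_symm_apply]
      apply hy
      rw [← hgAB]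
      exact ⟨a, ha, rfl⟩
  exact iso_trans Q (iso_map Q (g : V →ₗ[F] V) g.injective hgQ _) (iso_of_eq Q heq)

/-- transport of `PP` along an isometry of subspaces -/
theorem pp_iso (h2 : (2 : F) ≠ 0) {A B : Submodule F V} (h : Iso Q A B) (γ : F) (hγ : γ ≠ 0)
    (hp : PP Q A γ) : PP Q B γ := by
  obtain ⟨e, he⟩ := h
  have h1 := pp_map Q h2 A (B.subtype ∘ₗ (e : A →ₗ[F] B)) 1
    (fun w => by rw [one_mul]; exact he w)
    (by
      intro a b hab
      apply e.injective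
      apply Subtype.ext
      exact hab) γ (by rw [one_mul]; exact hγ) hp
  have h3 : LinearMap.range (B.subtype ∘ₗ (e : A →ₗ[F] B)) = B := by
    rw [LinearMap.range_comp, LinearEquiv.range, Submodule.map_top, Submodule.range_subtype]
  rw [h3, one_mul] at h1
  exact h1

/-- the core: both subspaces killed by the squares -/
theorem core_fix (h2 : (2 : F) ≠ 0) (hQ : (polarBilin Q).Nondegenerate)
    (S S' : V →ₗ[F] V) (hiso : ∀ v, Q (S v) = Q v) (hiso' : ∀ v, Q (S' v) = Q v)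
    (hker : finrank F (LinearMap.ker (S - 1)) ≤
      finrank F ↥(LinearMap.ker (S - 1) ⊓ LinearMap.range (S - 1)) + 1)
    (hker' : finrank F (LinearMap.ker (S' - 1)) ≤
      finrank F ↥(LinearMap.ker (S' - 1) ⊓ LinearMap.range (S' - 1)) + 1)
    (r : ℕ) (hr : 0 < r) (hSr : S ^ r = 1) (hSr' : S' ^ r = 1)
    (h : V ≃ₗ[F] V) (c : F) (hc : ¬ IsSquare c) (hh : ∀ v, Q (h v) = c * Q v)
    (hS' : ∀ v, S' (h v) = h (S v))
    (W₀ : Submodule F V) (hW₀ : Nd Q W₀) (hodd : Odd (finrank F W₀))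
    (hco : finrank F W₀ + 2 ≤ finrank F V)
    (W : Submodule F V) (hWiso : Iso Q W W₀) (hWinv : ∀ u ∈ W, S u ∈ W)
    (hA : ∀ u ∈ W, (S - 1) ((S - 1) u) = 0)
    (W' : Submodule F V) (hW'iso : Iso Q W' W₀) (hW'inv : ∀ u ∈ W', S' u ∈ W')
    (hA' : ∀ u ∈ W', (S' - 1) ((S' - 1) u) = 0) : False := by
  have hWnd : Nd Q W := iso_nd Q (iso_symm Q hWiso) hW₀
  have hW'nd : Nd Q W' := iso_nd Q (iso_symm Q hW'iso) hW₀
  obtain ⟨-, w, hwW, hSw, hwn, hQw, hplus⟩ := struct_sq_zero Q S h2 hiso hker r hr hSr W hWinv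
    hWnd (by rw [iso_finrank Q hWiso]; exact hodd) hA
  obtain ⟨-, w', hw'W, hSw', hw'n, hQw', hplus'⟩ := struct_sq_zero Q S' h2 hiso' hker' r hr hSr'
    W' hW'inv hW'nd (by rw [iso_finrank Q hW'iso]; exact hodd) hA'
  have hp1 : PP Q W₀ (Q w) := pp_iso Q h2 hWiso _ hQw ⟨w, hwW, rfl, hplus⟩
  have hp2 : PP Q W₀ (Q w') := pp_iso Q h2 hW'iso _ hQw' ⟨w', hw'W, rfl, hplus'⟩
  -- the link
  have hfix : S' (h w) = h w := by rw [hS', hSw]
  have hnr : h w ∉ LinearMap.range (S' - 1) := by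
    rintro ⟨v, hv⟩
    apply hwn
    refine ⟨h.symm v, ?_⟩
    apply h.injective
    rw [← hv, LinearMap.sub_apply, LinearMap.sub_apply, Module.End.one_apply,
      Module.End.one_apply, map_sub, ← hS', LinearEquiv.apply_symm_apply]
  obtain ⟨lam, hlam, hQ'⟩ := quot_line Q S' h2 hiso' hker' (h w) w' hfix hSw' hnr
  have hlam0 := hlam hw'n
  have hsq := pp_square Q h2 hQ W₀ hW₀ hodd hco _ _ hQw hQw' hp1 hp2
  rw [hQ', hh] at hsq
  apply hc
  obtain ⟨s, hs⟩ := hsq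
  refine ⟨s / (lam * Q w), ?_⟩
  have hne : lam * Q w ≠ 0 := mul_ne_zero hlam0 hQw
  rw [div_mul_div_comm, eq_div_iff (mul_ne_zero hne hne)]
  linear_combination hs

/-- an odd-dimensional invariant nondegenerate subspace killed by `(S - 1)²` has dimension
`≡ 1 (mod 4)` -/
theorem mod_four_of_sq_zero (h2 : (2 : F) ≠ 0) (S : V →ₗ[F] V) (hiso : ∀ v, Q (S v) = Q v)
    (hN3 : ∀ v, (S - 1) ((S - 1) ((S - 1) v)) = 0)
    (hker : finrank F (LinearMap.ker (S - 1)) ≤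
      finrank F ↥(LinearMap.ker (S - 1) ⊓ LinearMap.range (S - 1)) + 1)
    (r : ℕ) (hr : 0 < r) (hSr : S ^ r = 1)
    (W : Submodule F V) (hWinv : ∀ u ∈ W, S u ∈ W) (hWnd : Nd Q W) (hodd : Odd (finrank F W))
    (hA : ∀ u ∈ W, (S - 1) ((S - 1) u) = 0) : finrank F W % 4 = 1 := by
  obtain ⟨h1, -⟩ := struct_sq_zero Q S h2 hiso hker r hr hSr W hWinv hWnd hodd hA
  obtain ⟨j, hj⟩ := even_rank_on Q h2 S hiso hN3 W hWinv hWnd
  omega

/-- the dichotomy with the dimensions modulo four -/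
theorem case_split (h2 : (2 : F) ≠ 0) (hQ : (polarBilin Q).Nondegenerate) (d : ℕ)
    (hdimV : finrank F V = 2 * d) (S : V →ₗ[F] V) (hiso : ∀ v, Q (S v) = Q v)
    (hN3 : ∀ v, (S - 1) ((S - 1) ((S - 1) v)) = 0)
    (hker : finrank F (LinearMap.ker (S - 1)) ≤
      finrank F ↥(LinearMap.ker (S - 1) ⊓ LinearMap.range (S - 1)) + 1)
    (hrank : finrank F (LinearMap.range ((S - 1) ∘ₗ (S - 1))) ≤ 1)
    (r : ℕ) (hr : 0 < r) (hSr : S ^ r = 1)
    (W : Submodule F V) (hWinv : ∀ u ∈ W, S u ∈ W) (hWnd : Nd Q W) (hodd : Odd (finrank F W)) :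
    ((∀ u ∈ W, (S - 1) ((S - 1) u) = 0) ∧ finrank F W % 4 = 1) ∨
    ((∀ u ∈ orth (pB Q) W, (S - 1) ((S - 1) u) = 0) ∧ (2 * d - finrank F W) % 4 = 1 ∧
      (∀ u ∈ orth (pB Q) W, S u ∈ orth (pB Q) W) ∧ Nd Q (orth (pB Q) W) ∧
      finrank F ↥(orth (pB Q) W) = 2 * d - finrank F W) := by
  rcases sq_dichotomy Q S hiso hrank r hr hSr W hWinv hWnd with hA | hB
  · left
    exact ⟨hA, mod_four_of_sq_zero Q h2 S hiso hN3 hker r hr hSr W hWinv hWnd hodd hA⟩
  · right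
    have hZinv : ∀ u ∈ orth (pB Q) W, S u ∈ orth (pB Q) W :=
      orth_invariant (pB Q) S (pB_iso Q S hiso) r hr hSr W hWinv
    have hZnd : Nd Q (orth (pB Q) W) := by
      have := ndOn_inf_orth (pB Q) pB_id (pB_sym Q) ⊤ W (nd_top Q hQ) le_top hWnd
      rw [top_inf_eq] at this
      exact this
    have hZdim := finrank_inf_orth (pB Q) pB_id (pB_sym Q) ⊤ W le_top hWnd
    rw [top_inf_eq, finrank_top, hdimV] at hZdim
    have hle : finrank F W ≤ 2 * d := by omega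
    have hZodd : Odd (finrank F ↥(orth (pB Q) W)) := by
      obtain ⟨j, hj⟩ := hodd
      exact ⟨d - j - 1, by omega⟩
    have := mod_four_of_sq_zero Q h2 S hiso hN3 hker r hr hSr _ hZinv hZnd hZodd hB
    refine ⟨hB, ?_, hZinv, hZnd, by omega⟩
    have e : 2 * d - finrank F W = finrank F ↥(orth (pB Q) W) := by omega
    rw [e]
    exact this

/-- two unipotent isometries related by a similitude with nonsquare multiplier do not both fix
a subspace isometric to `W₀` -/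
theorem not_both_fix (h2 : (2 : F) ≠ 0) (hQ : (polarBilin Q).Nondegenerate) (d : ℕ)
    (hdev : Even d) (hdimV : finrank F V = 2 * d)
    (S S' : V →ₗ[F] V) (hiso : ∀ v, Q (S v) = Q v) (hiso' : ∀ v, Q (S' v) = Q v)
    (hN3 : ∀ v, (S - 1) ((S - 1) ((S - 1) v)) = 0)
    (hN3' : ∀ v, (S' - 1) ((S' - 1) ((S' - 1) v)) = 0)
    (hker : finrank F (LinearMap.ker (S - 1)) ≤
      finrank F ↥(LinearMap.ker (S - 1) ⊓ LinearMap.range (S - 1)) + 1)
    (hker' : finrank F (LinearMap.ker (S' - 1)) ≤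
      finrank F ↥(LinearMap.ker (S' - 1) ⊓ LinearMap.range (S' - 1)) + 1)
    (hrank : finrank F (LinearMap.range ((S - 1) ∘ₗ (S - 1))) ≤ 1)
    (hrank' : finrank F (LinearMap.range ((S' - 1) ∘ₗ (S' - 1))) ≤ 1)
    (r : ℕ) (hr : 0 < r) (hSr : S ^ r = 1) (hSr' : S' ^ r = 1)
    (h : V ≃ₗ[F] V) (c : F) (hc : ¬ IsSquare c) (hh : ∀ v, Q (h v) = c * Q v)
    (hS' : ∀ v, S' (h v) = h (S v))
    (W₀ : Submodule F V) (hW₀ : Nd Q W₀) (hodd : Odd (finrank F W₀))
    (hmd : finrank F W₀ < d)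
    (W : Submodule F V) (hWiso : Iso Q W W₀) (hWinv : ∀ u ∈ W, S u ∈ W)
    (W' : Submodule F V) (hW'iso : Iso Q W' W₀) (hW'inv : ∀ u ∈ W', S' u ∈ W') : False := by
  have hWnd : Nd Q W := iso_nd Q (iso_symm Q hWiso) hW₀
  have hW'nd : Nd Q W' := iso_nd Q (iso_symm Q hW'iso) hW₀
  have hdW := iso_finrank Q hWiso
  have hdW' := iso_finrank Q hW'iso
  obtain ⟨d', hd'⟩ := hdev
  have hZ₀nd : Nd Q (orth (pB Q) W₀) := by
    have := ndOn_inf_orth (pB Q) pB_id (pB_sym Q) ⊤ W₀ (nd_top Q hQ) le_top hW₀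
    rw [top_inf_eq] at this
    exact this
  have hZ₀dim := finrank_inf_orth (pB Q) pB_id (pB_sym Q) ⊤ W₀ le_top hW₀
  rw [top_inf_eq, finrank_top, hdimV] at hZ₀dim
  rcases case_split Q h2 hQ d hdimV S hiso hN3 hker hrank r hr hSr W hWinv hWnd
      (by rw [hdW]; exact hodd) with ⟨hA, hm⟩ | ⟨hB, hm, hZinv, hZnd, hZdim⟩ <;>
    rcases case_split Q h2 hQ d hdimV S' hiso' hN3' hker' hrank' r hr hSr' W' hW'inv hW'nd
      (by rw [hdW']; exact hodd) with ⟨hA', hm'⟩ | ⟨hB', hm', hZ'inv, hZ'nd, hZ'dim⟩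
  · exact core_fix Q h2 hQ S S' hiso hiso' hker hker' r hr hSr hSr' h c hc hh hS' W₀ hW₀ hodd
      (by omega) W hWiso hWinv hA W' hW'iso hW'inv hA'
  · omega
  · omega
  · have hZ₀odd : Odd (finrank F ↥(orth (pB Q) W₀)) := by
      obtain ⟨j, hj⟩ := hodd
      exact ⟨d - j - 1, by omega⟩
    exact core_fix Q h2 hQ S S' hiso hiso' hker hker' r hr hSr hSr' h c hc hh hS'
      (orth (pB Q) W₀) hZ₀nd hZ₀odd (by omega) (orth (pB Q) W) (iso_orth Q hQ hWiso) hZinv hB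
      (orth (pB Q) W') (iso_orth Q hQ hW'iso) hZ'inv hB'

end both

end Cfsg.Agent.Lib.Helper12.OrP
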