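import Mathlib
import Cfsg.Agent.Lib.Helper12.OrPL
import Cfsg.Agent.Lib.Helper12.OrPJ
import Cfsg.Agent.Lib.Helper15.UniOmega4
import Cfsg.Agent.Lib.Helper25.SpinMinus

set_option autoImplicit false
set_option linter.unusedSectionVars false

/-!
# The minus-type orthogonal group `Ω⁻_{2(k+1)}(q)`, `q` odd: unipotent elements
-/

namespace Cfsg.Agent.Lib.Helper12.OrP

open Module QuadraticMap Cfsg.Agent.Lib.Helper12.Elus Cfsg.Agent.Lib.Helper12.Un
  Cfsg.Agent.Lib.Helper12.OrN Cfsg.Agent.Lib.Helper15 Cfsg.Agent.Lib.Helper15.QuadType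
  Cfsg.Agent.Lib.Helper15.SemisimpleConj Cfsg.Agent.Lib.Helper15.NilpotentConj
  Cfsg.Agent.Lib.Helper15.UniJordan Cfsg.Agent.Lib.Helper14 Cfsg.Agent.Lib.Helper14.OrthMinus
  Cfsg.Agent.Lib.Helper14.QuadExt
  Cfsg.Agent.Lib.Helper25.Spin
open scoped Matrix

universe u

section wrap

variable {F : Type u} [Field F] [Fintype F] (k : ℕ) (a b : F)

/-- the standard minus form as a bundled quadratic form -/
noncomputable abbrev Qm (hD : a ^ 2 - 4 * b ≠ 0) : QuadraticForm F (Idx k → F) :=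
  qfOf (isQF_minus (n := k) hD)

theorem Qm_apply (hD : a ^ 2 - 4 * b ≠ 0) (v : Idx k → F) :
    Qm k a b hD v = Cfsg.quadFormMinus k F a b v := rfl

theorem Qm_nondeg (hD : a ^ 2 - 4 * b ≠ 0) : (polarBilin (Qm k a b hD)).Nondegenerate :=
  qfOf_nondeg _

theorem card_Idx : Fintype.card (Idx k) = 2 * (k + 1) := by
  simp
  ring

theorem finrank_Idx : finrank F (Idx k → F) = 2 * (k + 1) := by
  rw [Module.finrank_fintype_fun_eq_card, card_Idx]

theorem hasType_Qm (hab : Aniso a b) (hD : a ^ 2 - 4 * b ≠ 0) :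
    HasType (-1) (k + 1) (fun v => Qm k a b hD v) :=
  hasType_minus hab k

theorem univ_Qm (hab : Aniso a b) (hD : a ^ 2 - 4 * b ≠ 0)
    (W : Type u) [AddCommGroup W] [Module F W] [FiniteDimensional F W]
    (Q : QuadraticForm F W) (hnd : (polarBilin Q).Nondegenerate)
    (hdim : finrank F W = 2 * (k + 1)) (ht : HasType (-1) (k + 1) (fun v => Q v)) :
    ∃ b' : Basis (Idx k) F W, ∀ v, Qm k a b hD (b'.equivFun v) = Q v :=
  univ_minus Q hnd k hdim ht hab

end wrap

section kapfacts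

variable {F V : Type*} [Field F] [AddCommGroup V] [Module F V] [FiniteDimensional F V]

/-- `dim (ker N ∩ im N) = dim ker N² - dim ker N` -/
theorem finrank_ker_inf_range (N : V →ₗ[F] V) :
    finrank F ↥(LinearMap.ker N ⊓ LinearMap.range N) + finrank F (LinearMap.ker N) =
      finrank F (LinearMap.ker (N ∘ₗ N)) := by
  obtain ⟨K2, hK2⟩ : ∃ K2, K2 = LinearMap.ker (N ∘ₗ N) := ⟨_, rfl⟩
  rw [← hK2]
  have h1 := LinearMap.finrank_range_add_finrank_ker (N.domRestrict K2)
  have h3 : LinearMap.range (N.domRestrict K2) = LinearMap.ker N ⊓ LinearMap.range N := by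
    rw [LinearMap.range_domRestrict]
    ext y
    constructor
    · rintro ⟨x, hx, rfl⟩
      rw [hK2] at hx
      exact ⟨LinearMap.mem_ker.2 (LinearMap.mem_ker.1 hx), ⟨x, rfl⟩⟩
    · rintro ⟨hy, ⟨x, rfl⟩⟩
      refine ⟨x, ?_, rfl⟩
      rw [hK2]
      exact LinearMap.mem_ker.2 (LinearMap.mem_ker.1 hy)
  have h4 : finrank F (LinearMap.ker (N.domRestrict K2)) = finrank F (LinearMap.ker N) := by
    have e : LinearMap.ker (N.domRestrict K2) = (LinearMap.ker N).comap K2.subtype := by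
      ext x
      rfl
    rw [e]
    have hle : LinearMap.ker N ≤ K2 := by
      intro x hx
      rw [hK2, LinearMap.mem_ker, LinearMap.comp_apply, LinearMap.mem_ker.1 hx, map_zero]
    have h5 : ((LinearMap.ker N).comap K2.subtype).map K2.subtype = LinearMap.ker N := by
      rw [Submodule.map_comap_subtype]
      exact inf_eq_right.2 hle
    rw [← Submodule.finrank_map_subtype_eq, h5]
  rw [h3, h4] at h1
  exact h1

/-- the structural hypotheses from the numerical invariants -/
theorem struct_of_kap (S : End F V) (d : ℕ) (hfr : finrank F V = 2 * d) (hd : 1 ≤ d)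
    (hk1 : kap (S - 1) 1 = d) (hk2 : kap (S - 1) 2 = 2 * d - 1) (hk3 : kap (S - 1) 3 = 2 * d) :
    (∀ v, (S - 1) ((S - 1) ((S - 1) v)) = 0) ∧
    finrank F (LinearMap.ker (S - 1)) ≤
      finrank F ↥(LinearMap.ker (S - 1) ⊓ LinearMap.range (S - 1)) + 1 ∧
    finrank F (LinearMap.range ((S - 1) ∘ₗ (S - 1))) ≤ 1 := by
  have hsq : (S - 1) ^ 2 = (S - 1) ∘ₗ (S - 1) := by
    rw [pow_two]
    rfl
  refine ⟨?_, ?_, ?_⟩
  · have h1 : (S - 1) ^ 3 = 0 := by
      rw [pow_eq_zero_iff_kap, hk3, hfr]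
    intro v
    have := congrArg (fun X : End F V => X v) h1
    exact this
  · have h1 := finrank_ker_inf_range (S - 1)
    unfold kap at hk1 hk2
    rw [pow_one] at hk1
    rw [hsq] at hk2
    omega
  · have h1 := LinearMap.finrank_range_add_finrank_ker ((S - 1) ∘ₗ (S - 1))
    unfold kap at hk2
    rw [hsq] at hk2
    omega

end kapfacts

section elem

open Cfsg.Agent.Lib.Helper15.UniOmega2

variable {F : Type u} [Field F] [Fintype F] {ι : Type} [Fintype ι] [DecidableEq ι]

/-- as `UniOmega3.exists_omega_element` (proof adapted from there), keeping the conjugating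
map -/
theorem exists_omega_element_conj (p : ℕ) [Fact p.Prime] [CharP F p] (hp2 : p ≠ 2)
    (Q₀ : QuadraticForm F (ι → F)) (hnd₀ : (polarBilin Q₀).Nondegenerate)
    (μ : Multiset ℕ) (hμ : ∀ e ∈ μ, 0 < e ∧ e ≤ p) (hcard : Multiset.card μ ≠ μ.sum)
    {W : Type u} [AddCommGroup W] [Module F W] [FiniteDimensional F W] (T : End F W)
    (hnil : IsNilpotent (T - 1)) (hk : ∀ s, kap (T - 1) s = kapm μ s)
    (Q : QuadraticForm F W) (hinv : ∀ x, Q (T x) = Q x) (c : F) (hc : c ≠ 0)
    (g : W ≃ₗ[F] (ι → F)) (hg : ∀ x, c * Q₀ (g x) = Q x) :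
    ∃ A : ↥(Cfsg.isometryGroup F ⇑Q₀), A ∈ Cfsg.Omega F ⇑Q₀ ∧ orderOf (A : GL ι F) = p ∧
      Matrix.toLin' ((A : GL ι F) : Matrix ι ι F) = g.conj T ∧
      IsNilpotent (Matrix.toLin' ((A : GL ι F) : Matrix ι ι F) - 1) ∧
      (Matrix.toLin' ((A : GL ι F) : Matrix ι ι F)) ^ p = 1 ∧
      ∀ s, kap (Matrix.toLin' ((A : GL ι F) : Matrix ι ι F) - 1) s = kapm μ s := by
  classical
  have hp := (Fact.out : p.Prime)
  have hμ1 : ∀ b ∈ μ, 1 ≤ b := fun b hb => (hμ b hb).1
  obtain ⟨A, hlin, hconj⟩ := UniOmega2.transport_isometry T hnil Q hinv (⇑Q₀) c hc g hg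
  obtain ⟨S, hS⟩ : ∃ S : End F (ι → F), S = Matrix.toLin' ((A : GL ι F) : Matrix ι ι F) :=
    ⟨_, rfl⟩
  rw [← hS] at hconj hlin
  have hkS : ∀ s, kap (S - 1) s = kapm μ s := fun s => by rw [← kap_conj hconj s, hk]
  have hfr : finrank F (ι → F) = μ.sum := by
    rw [← g.finrank_eq]
    exact finrank_of_kap (T - 1) μ hk hnil
  have hnilS : IsNilpotent (S - 1) := nilpotent_of_kap (S - 1) μ hkS hfr
  have hSp : S ^ p = 1 := by
    have h1 : (S - 1) ^ p = 0 := by
      rw [pow_eq_zero_iff_kap, hkS, hfr, kapm_eq_sum_iff]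
      intro b hb
      exact (hμ b hb).2
    rw [sub_one_pow_char] at h1
    exact sub_eq_zero.1 h1
  have hAp : A ^ p = 1 := by
    apply Subtype.ext
    apply Units.ext
    apply Matrix.toLin'.injective
    show Matrix.toLin' (((A ^ p : ↥(Cfsg.isometryGroup F ⇑Q₀)) : GL ι F) : Matrix ι ι F) =
      Matrix.toLin' (1 : Matrix ι ι F)
    rw [Subgroup.coe_pow, Units.val_pow_eq_pow_val, Matrix.toLin'_pow, ← hS, hSp,
      Matrix.toLin'_one]
    rfl
  have hA1 : (A : GL ι F) ≠ 1 := by
    intro h1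
    apply hcard
    have h2 : S = 1 := by
      rw [hS, h1, Units.val_one, Matrix.toLin'_one]
      rfl
    rw [← kapm_one μ hμ1, ← hkS, h2, sub_self, ← hfr]
    unfold kap
    rw [pow_one, LinearMap.ker_zero, finrank_top]
  have hApGL : (A : GL ι F) ^ p = 1 := by
    rw [← Subgroup.coe_pow, hAp]
    rfl
  have hcardF : Fintype.card F ≠ 2 := by
    intro h2
    obtain ⟨n, -, hn⟩ := FiniteField.card F p
    have h3 : p ∣ 2 := by
      rw [← h2, hn]
      exact dvd_pow_self p n.ne_zero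
    exact hp2 ((Nat.prime_dvd_prime_iff_eq hp Nat.prime_two).1 h3)
  refine ⟨A, ?_, orderOf_eq_prime hApGL hA1, ?_, ?_, ?_, ?_⟩
  · exact mem_omega_of_odd_order Q₀ hnd₀ (Or.inl hcardF) A p
      (hp.eq_two_or_odd'.resolve_left hp2) hAp
  · rw [← hS]; exact hlin
  · rw [← hS]; exact hnilS
  · rw [← hS]; exact hSp
  · rw [← hS]; exact hkS

end elem

section scaling

variable {F : Type u} [Field F] [Fintype F]

theorem hasType_smul {ε : ℤ} {n : ℕ} {W : Type*} {Q : W → F} (h : HasType ε n Q) (c : F)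
    (hc : c ≠ 0) : HasType ε n (fun v => c * Q v) := by
  constructor
  · have e : Nat.card {v : W // c * Q v = 0} = Nat.card {v : W // Q v = 0} := by
      apply Nat.card_congr
      apply Equiv.subtypeEquivRight
      intro v
      rw [mul_eq_zero]
      exact ⟨fun h' => h'.resolve_left hc, fun h' => Or.inr h'⟩
    rw [e]
    exact h.1
  · intro a ha
    have e : Nat.card {v : W // c * Q v = a} = Nat.card {v : W // Q v = a / c} := by
      apply Nat.card_congr
      apply Equiv.subtypeEquivRight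
      intro v
      rw [eq_div_iff hc, mul_comm]
    rw [e]
    exact h.2 (a / c) (div_ne_zero ha hc)

variable (k : ℕ) (a b : F)

/-- similitudes of the minus form with arbitrary multiplier -/
theorem exists_similitude (hab : Aniso a b) (hD : a ^ 2 - 4 * b ≠ 0) (ν : F) (hν : ν ≠ 0) :
    ∃ h : (Idx k → F) ≃ₗ[F] (Idx k → F), ∀ v, Qm k a b hD (h v) = ν * Qm k a b hD v := by
  obtain ⟨Q', hQ'⟩ : ∃ Q' : QuadraticForm F (Idx k → F), Q' = ν • Qm k a b hD := ⟨_, rfl⟩
  have happ : ∀ v, Q' v = ν * Qm k a b hD v := by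
    intro v
    rw [hQ']
    rfl
  have hpol : ∀ x y, polar Q' x y = ν * polar (Qm k a b hD) x y := by
    intro x y
    unfold QuadraticMap.polar
    rw [happ, happ, happ]
    ring
  have hnd := Qm_nondeg k a b hD
  have hnd' : (polarBilin Q').Nondegenerate := by
    constructor
    · intro x hx
      apply hnd.1 x
      intro y
      have := hx y
      rw [polarBilin_apply_apply, hpol] at this
      rw [polarBilin_apply_apply]
      exact (mul_eq_zero.1 this).resolve_left hν
    · intro y hy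
      apply hnd.2 y
      intro x
      have := hy x
      rw [polarBilin_apply_apply, hpol] at this
      rw [polarBilin_apply_apply]
      exact (mul_eq_zero.1 this).resolve_left hν
  have ht' : HasType (-1) (k + 1) (fun v => Q' v) := by
    have := hasType_smul (hasType_Qm k a b hab hD) ν hν
    have e : (fun v => Q' v) = fun v => ν * Qm k a b hD v := funext happ
    rw [e]
    exact this
  obtain ⟨b', hb'⟩ := univ_Qm k a b hab hD (Idx k → F) Q' hnd' (finrank_Idx k) ht'
  exact ⟨b'.equivFun, fun v => by rw [hb', happ]⟩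

end scaling

end Cfsg.Agent.Lib.Helper12.OrP
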