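import Mathlib
import Cfsg.Agent.Lib.Helper12.OrPM

set_option autoImplicit false
set_option linter.unusedSectionVars false

/-!
# Elements of order `p` of `Ω⁻_{2(k+1)}(q)`, `q` odd, fixing no subspace isometric to a given
nondegenerate subspace of odd dimension
-/

namespace Cfsg.Agent.Lib.Helper12.OrP

open Module QuadraticMap Cfsg.Agent.Lib.Helper12.Elus Cfsg.Agent.Lib.Helper12.Un
  Cfsg.Agent.Lib.Helper12.OrN Cfsg.Agent.Lib.Helper15 Cfsg.Agent.Lib.Helper15.QuadType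
  Cfsg.Agent.Lib.Helper15.SemisimpleConj Cfsg.Agent.Lib.Helper15.NilpotentConj
  Cfsg.Agent.Lib.Helper15.UniJordan Cfsg.Agent.Lib.Helper14 Cfsg.Agent.Lib.Helper14.OrthMinus
  Cfsg.Agent.Lib.Helper14.QuadExt Cfsg.Agent.Lib.Helper25.Spin
open scoped Matrix

universe u

section comb

theorem kapm_rep (n x y s : ℕ) :
    kapm (Multiset.replicate n 2 + {x, y}) s = n * min 2 s + min x s + min y s := by
  unfold kapm
  rw [Multiset.map_add, Multiset.sum_add, Multiset.map_replicate, Multiset.sum_replicate,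
    Multiset.insert_eq_cons, Multiset.map_cons, Multiset.sum_cons, Multiset.map_singleton,
    Multiset.sum_singleton, smul_eq_mul]
  ring

theorem rep_mem (n x y e : ℕ) (he : e ∈ Multiset.replicate n 2 + {x, y}) :
    e = 2 ∨ e = x ∨ e = y := by
  rw [Multiset.mem_add, Multiset.mem_replicate, Multiset.insert_eq_cons, Multiset.mem_cons,
    Multiset.mem_singleton] at he
  rcases he with ⟨_, h⟩ | h | h
  · exact Or.inl h
  · exact Or.inr (Or.inl h)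
  · exact Or.inr (Or.inr h)

theorem rep_bounds (p : ℕ) (hp3 : 3 ≤ p) (n x y : ℕ) (hx : x = 1 ∨ x = 3) (hy : y = 1 ∨ y = 3) :
    ∀ e ∈ Multiset.replicate n 2 + {x, y}, 0 < e ∧ e ≤ p := by
  intro e he
  rcases rep_mem n x y e he with rfl | rfl | rfl
  · omega
  · rcases hx with rfl | rfl <;> omega
  · rcases hy with rfl | rfl <;> omega

theorem rep_par (n x y : ℕ) (hn : Even n) (hx : Odd x) (hy : Odd y) (e : ℕ) (he : Even e) :
    Even ((Multiset.replicate n 2 + {x, y}).count e) := by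
  have hxe : x ≠ e := by
    rintro rfl
    exact (Nat.not_even_iff_odd.2 hx) he
  have hye : y ≠ e := by
    rintro rfl
    exact (Nat.not_even_iff_odd.2 hy) he
  rw [Multiset.count_add, Multiset.count_replicate, Multiset.insert_eq_cons,
    Multiset.count_cons_of_ne (Ne.symm hxe), Multiset.count_singleton, if_neg (Ne.symm hye),
    add_zero]
  split_ifs
  · exact hn
  · exact Even.zero

theorem rep_sum (n x y : ℕ) : (Multiset.replicate n 2 + {x, y}).sum = 2 * n + x + y := by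
  rw [Multiset.sum_add, Multiset.sum_replicate, Multiset.insert_eq_cons, Multiset.sum_cons,
    Multiset.sum_singleton, smul_eq_mul]
  ring

theorem rep_card (n x y : ℕ) : Multiset.card (Multiset.replicate n 2 + {x, y}) = n + 2 := by
  rw [Multiset.card_add, Multiset.card_replicate, Multiset.insert_eq_cons, Multiset.card_cons,
    Multiset.card_singleton]

end comb

section elems

variable {F : Type u} [Field F] [Fintype F] {p : ℕ} [Fact p.Prime] [CharP F p]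

/-- an element of order `p` of `Ω⁻` with Jordan type `2ⁿ x y`, `x, y ∈ {1, 3}` -/
theorem minus_elem (h2 : (2 : F) ≠ 0) (k : ℕ) (a b : F)
    (hD : a ^ 2 - 4 * b ≠ 0) (n x y : ℕ) (hn : Even n) (hn0 : 0 < n)
    (hx : x = 1 ∨ x = 3) (hy : y = 1 ∨ y = 3) (hsum : 2 * n + x + y = 2 * (k + 1)) :
    ∃ A : ↥(Cfsg.isometryGroup F ⇑(Qm k a b hD)), A ∈ Cfsg.Omega F ⇑(Qm k a b hD) ∧
      orderOf (A : GL (Idx k) F) = p ∧
      IsNilpotent (Matrix.toLin' ((A : GL (Idx k) F) : Matrix (Idx k) (Idx k) F) - 1) ∧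
      (Matrix.toLin' ((A : GL (Idx k) F) : Matrix (Idx k) (Idx k) F)) ^ p = 1 ∧
      ∀ s, kap (Matrix.toLin' ((A : GL (Idx k) F) : Matrix (Idx k) (Idx k) F) - 1) s =
        n * min 2 s + min x s + min y s := by
  have hp := (Fact.out : p.Prime)
  have hp2 : p ≠ 2 := by
    rintro rfl
    exact h2 (CharTwo.two_eq_zero)
  have hp3 : 3 ≤ p := by
    have := hp.two_le
    omega
  have hxodd : Odd x := by rcases hx with rfl | rfl <;> decide
  have hyodd : Odd y := by rcases hy with rfl | rfl <;> decide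
  obtain ⟨μ, hμdef⟩ : ∃ μ, μ = Multiset.replicate n 2 + {x, y} := ⟨_, rfl⟩
  have hμ : ∀ e ∈ μ, 0 < e ∧ e ≤ p := by
    intro e he
    rw [hμdef] at he
    rcases rep_mem n x y e he with rfl | rfl | rfl
    · omega
    · rcases hx with rfl | rfl <;> omega
    · rcases hy with rfl | rfl <;> omega
  have hμ1 : ∀ e ∈ μ, 1 ≤ e := fun e he => (hμ e he).1
  have hpar : ∀ e, Even e → Even (μ.count e) := by
    intro e he
    rw [hμdef]
    exact rep_par n x y hn hxodd hyodd e he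
  have hsum' : μ.sum = 2 * (k + 1) := by rw [hμdef, rep_sum, hsum]
  have hoddμ : ∃ j ∈ μ, Odd j := by
    refine ⟨x, ?_, hxodd⟩
    rw [hμdef, Multiset.mem_add, Multiset.insert_eq_cons, Multiset.mem_cons]
    exact Or.inr (Or.inl rfl)
  have hcard : Multiset.card μ ≠ μ.sum := by
    rw [hsum', hμdef, rep_card]
    omega
  obtain ⟨W, _, _, _, T, Q, hinv, hnil, hk, g, hg⟩ :=
    Cfsg.Agent.Lib.Helper15.UniOmega4.exists_minus_model h2 k a b hD μ hμ1 hpar hsum' hoddμ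
  obtain ⟨A, hAΩ, hAord, -, hAnil, hAp, hAk⟩ := exists_omega_element_conj p hp2 (Qm k a b hD)
    (Qm_nondeg k a b hD) μ hμ hcard T hnil hk Q hinv 1 one_ne_zero g
    (fun v => by
      rw [one_mul, Qm_apply, ← Cfsg.Agent.Lib.Helper15.minusQFab_eq]
      exact hg v)
  refine ⟨A, hAΩ, hAord, hAnil, hAp, fun s => ?_⟩
  rw [hAk, hμdef, kapm_rep]

end elems

section counts

variable {F V : Type*} [Field F] [Fintype F] [AddCommGroup V] [Module F V]
  [FiniteDimensional F V] (Q : QuadraticForm F V)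

/-- `unip_counts` in terms of the kernel dimensions -/
theorem unip_counts_kap (h2 : (2 : F) ≠ 0) (hQ : (polarBilin Q).Nondegenerate)
    (t : End F V) (ht : ∀ v, Q (t v) = Q v) (d : ℕ) (hfr : finrank F V = 2 * d)
    (k1 k2 : ℕ) (hk1 : kap (t - 1) 1 = k1) (hk2 : kap (t - 1) 2 = k2)
    (hk3 : kap (t - 1) 3 = 2 * d) (r : ℕ) (hr : 0 < r) (htr : t ^ r = 1)
    (W : Submodule F V) (hWinv : ∀ u ∈ W, t u ∈ W) (hWnd : Nd Q W) :
    ∃ a₁ a₂ b₁ b₂ : ℕ, Even a₁ ∧ Even b₁ ∧ a₁ + b₁ + k1 = 2 * d ∧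
      a₂ + b₂ + k2 = 2 * d ∧ 2 * a₁ ≤ finrank F W + a₂ ∧
      2 * b₁ + finrank F W ≤ 2 * d + b₂ := by
  have hN3 : ∀ v, (t - 1) ((t - 1) ((t - 1) v)) = 0 := by
    have h1 : (t - 1) ^ 3 = 0 := by
      rw [pow_eq_zero_iff_kap, hk3, hfr]
    intro v
    have := congrArg (fun X : Module.End F V => X v) h1
    exact this
  have hr1 : finrank F (LinearMap.range (t - 1)) + k1 = 2 * d := by
    have h1 := LinearMap.finrank_range_add_finrank_ker (t - 1)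
    unfold kap at hk1
    rw [pow_one] at hk1
    omega
  have hr2 : finrank F ↥((LinearMap.range (t - 1)).map (t - 1)) + k2 = 2 * d := by
    have h1 := LinearMap.finrank_range_add_finrank_ker ((t - 1) ^ 2)
    unfold kap at hk2
    have h4 : LinearMap.range ((t - 1) ^ 2) = (LinearMap.range (t - 1)).map (t - 1) := by
      rw [pow_two, Module.End.mul_eq_comp, LinearMap.range_comp]
    rw [h4] at h1
    omega
  obtain ⟨a₁, a₂, b₁, b₂, h1, h3, h4, h5, h6, h7⟩ := unip_counts Q h2 hQ t ht hN3 r hr htr W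
    hWinv hWnd
  exact ⟨a₁, a₂, b₁, b₂, h1, h3, by omega, by omega, h6, by omega⟩

end counts

section derange

variable {F : Type u} [Field F] [Fintype F] {p : ℕ} [Fact p.Prime] [CharP F p]

theorem mem_omegaGL_Qm (k : ℕ) (a b : F) (hD : a ^ 2 - 4 * b ≠ 0)
    (A : ↥(Cfsg.isometryGroup F ⇑(Qm k a b hD))) (hA : A ∈ Cfsg.Omega F ⇑(Qm k a b hD)) :
    (A : GL (Idx k) F) ∈ Cfsg.Geo.omegaGL (Cfsg.quadFormMinus k F a b) := by
  have : (A : GL (Idx k) F) ∈ Cfsg.Geo.omegaGL ⇑(Qm k a b hD) :=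
    Subgroup.mem_map.2 ⟨A, hA, rfl⟩
  exact this

/-- `d = k + 1` odd: an element of order `p` fixing no nondegenerate subspace of odd dimension
`m` -/
theorem exists_unip_minus_odd (h2 : (2 : F) ≠ 0) (k m : ℕ) (hk : 3 ≤ k) (hdodd : Odd (k + 1))
    (hm : Odd m) (a b : F) (hD : a ^ 2 - 4 * b ≠ 0) :
    ∃ x : GL (Idx k) F, x ∈ Cfsg.Geo.omegaGL (Cfsg.quadFormMinus k F a b) ∧ orderOf x = p ∧
      ∀ W : Submodule F (Idx k → F),
        W.map (Matrix.toLin' (x : Matrix (Idx k) (Idx k) F)) ≤ W →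
        Nd (Qm k a b hD) W → finrank F W ≠ m := by
  have hp := (Fact.out : p.Prime)
  obtain ⟨e, he⟩ := hdodd
  obtain ⟨m', hm'⟩ := hm
  have hnd := Qm_nondeg k a b hD
  by_cases hm4 : m % 4 = 3
  · obtain ⟨A, hAΩ, hAord, -, hAp, hAk⟩ := minus_elem (p := p) h2 k a b hD k 1 1 ⟨e, by omega⟩
      (by omega) (Or.inl rfl) (Or.inl rfl) (by omega)
    have hiso := (Cfsg.Agent.Lib.Helper15.UniOmega3.isometry_facts' (Qm k a b hD) A).1
    refine ⟨A, mem_omegaGL_Qm k a b hD A hAΩ, hAord, fun W hW hWnd => ?_⟩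
    obtain ⟨a₁, a₂, b₁, b₂, ⟨a', ha'⟩, ⟨b', hb'⟩, h4, h5, h6, h7⟩ :=
      unip_counts_kap (Qm k a b hD) h2 hnd
        (Matrix.toLin' ((A : GL (Idx k) F) : Matrix (Idx k) (Idx k) F)) hiso (k + 1)
        (finrank_Idx k) (k + 2) (2 * (k + 1)) (by rw [hAk]; norm_num) (by rw [hAk]; norm_num; omega)
        (by rw [hAk]; norm_num; omega) p hp.pos hAp W (fun u hu => hW ⟨u, hu, rfl⟩) hWnd
    omega
  · obtain ⟨A, hAΩ, hAord, -, hAp, hAk⟩ := minus_elem (p := p) h2 k a b hD (k - 2) 3 3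
      ⟨e - 1, by omega⟩ (by omega) (Or.inr rfl) (Or.inr rfl) (by omega)
    have hiso := (Cfsg.Agent.Lib.Helper15.UniOmega3.isometry_facts' (Qm k a b hD) A).1
    refine ⟨A, mem_omegaGL_Qm k a b hD A hAΩ, hAord, fun W hW hWnd => ?_⟩
    obtain ⟨a₁, a₂, b₁, b₂, ⟨a', ha'⟩, ⟨b', hb'⟩, h4, h5, h6, h7⟩ :=
      unip_counts_kap (Qm k a b hD) h2 hnd
        (Matrix.toLin' ((A : GL (Idx k) F) : Matrix (Idx k) (Idx k) F)) hiso (k + 1)
        (finrank_Idx k) k (2 * k) (by rw [hAk]; norm_num; omega) (by rw [hAk]; norm_num; omega)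
        (by rw [hAk]; norm_num; omega) p hp.pos hAp W (fun u hu => hW ⟨u, hu, rfl⟩) hWnd
    omega

/-- `d = k + 1` even: an element of order `p` fixing no subspace isometric to the
odd-dimensional nondegenerate `W₀` -/
theorem exists_unip_minus_even (h2 : (2 : F) ≠ 0) (k : ℕ) (hk : 3 ≤ k) (hdev : Even (k + 1))
    (a b : F) (hab : Aniso a b) (hD : a ^ 2 - 4 * b ≠ 0)
    (W₀ : Submodule F (Idx k → F)) (hW₀ : Nd (Qm k a b hD) W₀) (hodd : Odd (finrank F W₀))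
    (hmd : finrank F W₀ < k + 1) :
    ∃ x : GL (Idx k) F, x ∈ Cfsg.Geo.omegaGL (Cfsg.quadFormMinus k F a b) ∧ orderOf x = p ∧
      ∀ W : Submodule F (Idx k → F),
        W.map (Matrix.toLin' (x : Matrix (Idx k) (Idx k) F)) ≤ W →
        ¬ Iso (Qm k a b hD) W W₀ := by
  classical
  have hp := (Fact.out : p.Prime)
  have hp2 : p ≠ 2 := by
    rintro rfl
    exact h2 (CharTwo.two_eq_zero)
  have hp3 : 3 ≤ p := by
    have := hp.two_le
    omega
  obtain ⟨e, he⟩ := hdev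
  have hnd := Qm_nondeg k a b hD
  obtain ⟨A₁, hA₁Ω, hA₁ord, hA₁nil, hA₁p, hA₁k⟩ := minus_elem (p := p) h2 k a b hD (k - 1) 3 1
    ⟨e - 1, by omega⟩ (by omega) (Or.inr rfl) (Or.inl rfl) (by omega)
  obtain ⟨S₁, hS₁⟩ : ∃ S₁ : End F (Idx k → F),
      S₁ = Matrix.toLin' ((A₁ : GL (Idx k) F) : Matrix (Idx k) (Idx k) F) := ⟨_, rfl⟩
  rw [← hS₁] at hA₁nil hA₁p hA₁k
  have hiso₁ : ∀ v, Qm k a b hD (S₁ v) = Qm k a b hD v := by
    rw [hS₁]
    exact (Cfsg.Agent.Lib.Helper15.UniOmega3.isometry_facts' (Qm k a b hD) A₁).1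
  -- the similitude and the second element
  obtain ⟨ν, hν⟩ := FiniteField.exists_nonsquare (F := F) (by
    intro h
    have : CharP F 2 := by rw [← h]; exact ringChar.charP F
    exact h2 (CharTwo.two_eq_zero))
  have hν0 : ν ≠ 0 := by
    rintro rfl
    exact hν ⟨0, by ring⟩
  obtain ⟨h, hh⟩ := exists_similitude k a b hab hD ν hν0
  obtain ⟨μ, hμdef⟩ : ∃ μ, μ = Multiset.replicate (k - 1) 2 + {3, 1} := ⟨_, rfl⟩
  have hμ : ∀ e ∈ μ, 0 < e ∧ e ≤ p := by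
    rw [hμdef]
    exact rep_bounds p hp3 (k - 1) 3 1 (Or.inr rfl) (Or.inl rfl)
  have hcard : Multiset.card μ ≠ μ.sum := by
    rw [hμdef, rep_card, rep_sum]
    omega
  have hk₁ : ∀ s, kap (S₁ - 1) s = kapm μ s := by
    intro s
    rw [hA₁k, hμdef, kapm_rep]
  obtain ⟨A₂, hA₂Ω, hA₂ord, hA₂lin, -, hA₂p, hA₂k⟩ := exists_omega_element_conj p hp2
    (Qm k a b hD) hnd μ hμ hcard S₁ hA₁nil hk₁ (Qm k a b hD) hiso₁ ν⁻¹ (inv_ne_zero hν0) h
    (fun v => by rw [hh, ← mul_assoc, inv_mul_cancel₀ hν0, one_mul])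
  obtain ⟨S₂, hS₂⟩ : ∃ S₂ : End F (Idx k → F),
      S₂ = Matrix.toLin' ((A₂ : GL (Idx k) F) : Matrix (Idx k) (Idx k) F) := ⟨_, rfl⟩
  rw [← hS₂] at hA₂lin hA₂p hA₂k
  have hiso₂ : ∀ v, Qm k a b hD (S₂ v) = Qm k a b hD v := by
    rw [hS₂]
    exact (Cfsg.Agent.Lib.Helper15.UniOmega3.isometry_facts' (Qm k a b hD) A₂).1
  have hlink : ∀ v, S₂ (h v) = h (S₁ v) := by
    intro v
    rw [hA₂lin, LinearEquiv.conj_apply]
    simp
  have hkap₁ : kap (S₁ - 1) 1 = k + 1 ∧ kap (S₁ - 1) 2 = 2 * (k + 1) - 1 ∧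
      kap (S₁ - 1) 3 = 2 * (k + 1) := by
    refine ⟨?_, ?_, ?_⟩ <;> rw [hA₁k] <;> norm_num <;> omega
  have hkap₂ : kap (S₂ - 1) 1 = k + 1 ∧ kap (S₂ - 1) 2 = 2 * (k + 1) - 1 ∧
      kap (S₂ - 1) 3 = 2 * (k + 1) := by
    refine ⟨?_, ?_, ?_⟩ <;> rw [hA₂k, ← hk₁, hA₁k] <;> norm_num <;> omega
  obtain ⟨hN3₁, hker₁, hrank₁⟩ := struct_of_kap S₁ (k + 1) (finrank_Idx k) (by omega) hkap₁.1
    hkap₁.2.1 hkap₁.2.2
  obtain ⟨hN3₂, hker₂, hrank₂⟩ := struct_of_kap S₂ (k + 1) (finrank_Idx k) (by omega) hkap₂.1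
    hkap₂.2.1 hkap₂.2.2
  by_cases hfix : ∃ W₁ : Submodule F (Idx k → F), W₁.map S₁ ≤ W₁ ∧ Iso (Qm k a b hD) W₁ W₀
  · obtain ⟨W₁, hW₁inv, hW₁iso⟩ := hfix
    refine ⟨A₂, mem_omegaGL_Qm k a b hD A₂ hA₂Ω, hA₂ord, ?_⟩
    rw [← hS₂]
    intro W₂ hW₂inv hW₂iso
    exact not_both_fix (Qm k a b hD) h2 hnd (k + 1) ⟨e, he⟩ (finrank_Idx k) S₁ S₂ hiso₁ hiso₂
      hN3₁ hN3₂ hker₁ hker₂ hrank₁ hrank₂ p hp.pos hA₁p hA₂p h ν hν hh hlink W₀ hW₀ hodd hmd
      W₁ hW₁iso (fun u hu => hW₁inv ⟨u, hu, rfl⟩) W₂ hW₂iso (fun u hu => hW₂inv ⟨u, hu, rfl⟩)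
  · refine ⟨A₁, mem_omegaGL_Qm k a b hD A₁ hA₁Ω, hA₁ord, ?_⟩
    rw [← hS₁]
    intro W hWinv hWiso
    exact hfix ⟨W, hWinv, hWiso⟩

/-- an element of order `p` of `Ω⁻_{2(k+1)}(q)` fixing no subspace isometric to the
odd-dimensional nondegenerate `W₀` -/
theorem exists_unip_minus (h2 : (2 : F) ≠ 0) (k : ℕ) (hk : 3 ≤ k)
    (a b : F) (hab : Aniso a b) (hD : a ^ 2 - 4 * b ≠ 0)
    (W₀ : Submodule F (Idx k → F)) (hW₀ : Nd (Qm k a b hD) W₀) (hodd : Odd (finrank F W₀))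
    (hmd : finrank F W₀ < k + 1) :
    ∃ x : GL (Idx k) F, x ∈ Cfsg.Geo.omegaGL (Cfsg.quadFormMinus k F a b) ∧ orderOf x = p ∧
      ∀ W : Submodule F (Idx k → F),
        W.map (Matrix.toLin' (x : Matrix (Idx k) (Idx k) F)) ≤ W →
        ¬ Iso (Qm k a b hD) W W₀ := by
  rcases Nat.even_or_odd (k + 1) with hev | hod
  · exact exists_unip_minus_even h2 k hk hev a b hab hD W₀ hW₀ hodd hmd
  · obtain ⟨x, hx1, hx2, hx3⟩ := exists_unip_minus_odd (p := p) h2 k (finrank F W₀) hk hod hodd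
      a b hD
    refine ⟨x, hx1, hx2, fun W hW hWiso => ?_⟩
    exact hx3 W hW (iso_nd (Qm k a b hD) (iso_symm (Qm k a b hD) hWiso) hW₀)
      (iso_finrank (Qm k a b hD) hWiso)

end derange

end Cfsg.Agent.Lib.Helper12.OrP
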