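import Mathlib
import Cfsg.Agent.Lib.Helper12.OrPN

set_option autoImplicit false
set_option linter.unusedSectionVars false

/-!
# `Ω⁻_{2(k+1)}(q)`, `q` odd: elements with square `-1`
-/

namespace Cfsg.Agent.Lib.Helper12.OrP

open Module QuadraticMap Cfsg.Agent.Lib.Helper12.Elus Cfsg.Agent.Lib.Helper12.Un
  Cfsg.Agent.Lib.Helper12.OrN Cfsg.Agent.Lib.Helper15 Cfsg.Agent.Lib.Helper15.QuadType
  Cfsg.Agent.Lib.Helper14 Cfsg.Agent.Lib.Helper14.OrthMinus
  Cfsg.Agent.Lib.Helper14.QuadExt Cfsg.Agent.Lib.Helper25.Spin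
open scoped Matrix

universe u

section minus2

variable {F : Type u} [Field F] [Fintype F]

/-- elements of `Ω⁻` with square `-1` -/
theorem exists_sqneg_minus (k : ℕ) (a b : F) (hab : Aniso a b)
    (hdodd : Odd (k + 1)) (hq8 : Fintype.card F % 8 = 7) :
    ∃ x : GL (Idx k) F, x ∈ Cfsg.Geo.omegaGL (Cfsg.quadFormMinus k F a b) ∧
      ∀ v, Matrix.toLin' (x : Matrix (Idx k) (Idx k) F)
        (Matrix.toLin' (x : Matrix (Idx k) (Idx k) F) v) = -v := by
  have hD : a ^ 2 - 4 * b ≠ 0 := disc_ne_zero hab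
  have hq : Fintype.card F % 4 = 3 := by omega
  have hsq : IsSquare ((2 : F) ^ (k + 1)) := by
    have : IsSquare (2 : F) := FiniteField.isSquare_two_iff.2 ⟨by omega, by omega⟩
    exact this.pow (k + 1)
  have := Cfsg.Agent.Lib.Helper24.Or.exists_sqneg_omega (Qm k a b hD) hq (Qm_nondeg k a b hD)
    (k + 1) (card_Idx k) (-1)
    ⟨fun hev => absurd hev (Nat.not_even_iff_odd.2 hdodd), fun _ => rfl⟩
    (fun V' _ _ _ Q' hnd' hdim' ht' => by
      obtain ⟨b', hb'⟩ := univ_Qm k a b hab hD V' Q' hnd' hdim' ht'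
      exact ⟨b'.equivFun, fun v => hb' v⟩) hsq
  exact this

/-- no element of `Ω⁻_{2d}(q)` has square `-1` when `d` is even or `q ≢ 7 (mod 8)` -/
theorem no_sqneg_minus (hodd : Odd (Fintype.card F)) (k : ℕ) (a b : F) (hab : Aniso a b)
    (hcond : Even (k + 1) ∨ Fintype.card F % 8 ≠ 7) (x : GL (Idx k) F)
    (hx : x ∈ Cfsg.Geo.omegaGL (Cfsg.quadFormMinus k F a b))
    (hneg : ∀ v, Matrix.toLin' (x : Matrix (Idx k) (Idx k) F)
        (Matrix.toLin' (x : Matrix (Idx k) (Idx k) F) v) = -v) : False := by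
  have hD : a ^ 2 - 4 * b ≠ 0 := disc_ne_zero hab
  have h2 : (2 : F) ≠ 0 := Cfsg.Agent.Lib.Helper24.Or.two_ne_zero_odd hodd
  have hnd := Qm_nondeg k a b hD
  have hx' : x ∈ Cfsg.Geo.omegaGL ⇑(Qm k a b hD) := hx
  obtain ⟨g, hg, rfl⟩ := Subgroup.mem_map.1 hx'
  have hiso := (Cfsg.Agent.Lib.Helper15.UniOmega3.isometry_facts' (Qm k a b hD) g).1
  have hiso' : ∀ v, Qm k a b hD (Matrix.toLin'
      (((Cfsg.isometryGroup F ⇑(Qm k a b hD)).subtype g : GL (Idx k) F) :
        Matrix (Idx k) (Idx k) F) v) = Qm k a b hD v := hiso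
  by_cases hq : Fintype.card F % 4 = 3
  · have t := Cfsg.Agent.Lib.Helper24.Or.type_of_sqneg (Qm k a b hD) _ hq hiso' hneg (k + 1) (-1)
      (Or.inr rfl) (hasType_Qm k a b hab hD)
    rcases Nat.even_or_odd (k + 1) with hev | hod
    · have := t.1 hev
      norm_num at this
    · have h8 : Fintype.card F % 8 ≠ 7 := by
        rcases hcond with hev | h8
        · exact absurd hev (Nat.not_even_iff_odd.2 hod)
        · exact h8
      have hsq := (sqneg_mem_omega_gen (Qm k a b hD) h2 hnd _ hiso' hneg (k + 1)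
        (card_Idx k)).1 ⟨g, hg, by rw [LinearMap.toMatrix'_toLin']; rfl⟩
      have h3 := FiniteField.isSquare_two_iff.1
        (Cfsg.Agent.Lib.Helper24.Or.isSquare_two_of_pow h2 (k + 1) hod hsq)
      omega
  · have hsq1 : IsSquare (-1 : F) := by
      rw [FiniteField.isSquare_neg_one_iff]
      exact hq
    obtain ⟨ι0, hι0⟩ := hsq1
    obtain ⟨E, E', hE, hE', -, hdim⟩ := Cfsg.Agent.Lib.Helper24.Or.sqneg_eig (Qm k a b hD) _ h2 ι0
      hι0.symm hiso' hneg
    rw [finrank_Idx] at hdim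
    have key : ∀ E₀ : Submodule F (Idx k → F), Cfsg.Agent.Lib.Helper24.Or.TS (Qm k a b hD) E₀ →
        k + 1 ≤ finrank F E₀ → False := by
      intro E₀ hE₀ hle
      obtain ⟨U, hUE, hUdim⟩ := Sp.exists_sub_finrank E₀ (k + 1) hle
      have hplus : IsPlus (Qm k a b hD) ⊤ :=
        ⟨U, le_top, fun u hu => hE₀ u (hUE hu), by rw [finrank_top, finrank_Idx, hUdim]⟩
      have ht1 := (typeOn_one_iff (Qm k a b hD) ⊤ (nd_top _ hnd)
        (by rw [finrank_top, finrank_Idx]; exact ⟨k + 1, by ring⟩)).2 hplus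
      have ht2 := typeOn_top (Qm k a b hD) (-1) (k + 1) (finrank_Idx k) (hasType_Qm k a b hab hD)
      have := typeOn_unique _ _ ht1 ht2
      omega
    by_cases hc : k + 1 ≤ finrank F E
    · exact key E hE hc
    · exact key E' hE' (by omega)

end minus2

end Cfsg.Agent.Lib.Helper12.OrP
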