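import Cfsg.Agent.Lib.Helper6.Orb.Basic

/-!
# S4125 orbit lemma, leaf OrbC1 (step 5a of `notes/S4125_orbit_lemma_proof.md`)

A cyclic Sylow `p`-subgroup (`p` odd) in a `Setup` cannot coexist with `H` being 2-transitive on
an orbit: the ring computation `ζ + 1 ∈ P`, hence `-1 ∈ P`, hence `2 = 0` on `V`.
-/

set_option autoImplicit false

namespace Cfsg.Agent.Lib.Helper12.OrbLeaf
open Cfsg.Agent.Lib.Helper6.Orb

universe u v

variable {p q : ℕ} [hp : Fact p.Prime] [hq : Fact q.Prime]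
  {H : Type u} {V : Type v} [Group H] [Finite H] [AddCommGroup V] [Finite V] [DistribMulAction H V]
  [FaithfulSMul H V]

/-- OrbC1 -/
theorem not_twoTrans (S : Setup p q H V) (hpq : p ≠ q) (P : Sylow p H) (hp2 : p ≠ 2) (g : H)
    (hg : (P : Subgroup H) = Subgroup.zpowers g) (hg1 : g ≠ 1) (v0 : V) (hv0 : v0 ≠ 0) :
    ¬ TwoTrans H v0 := by
  intro h2
  -- commutativity in P
  have hcomm : ∀ x ∈ (P : Subgroup H), ∀ y ∈ (P : Subgroup H), x * y = y * x := by
    intro x hx y hy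
    rw [hg] at hx hy
    obtain ⟨i, rfl⟩ := Subgroup.mem_zpowers_iff.mp hx
    obtain ⟨j, rfl⟩ := Subgroup.mem_zpowers_iff.mp hy
    exact ((Commute.refl g).zpow_zpow i j).eq
  have hgP : g ∈ (P : Subgroup H) := by rw [hg]; exact Subgroup.mem_zpowers g
  have hfpf : ∀ u ∈ (P : Subgroup H), u ≠ 1 → ∀ v : V, u • v = v → v = 0 := by
    intro u hu hu1 v hv
    exact S.fixed_eq_zero P (fun x hx => hcomm x hx u hu) hu1 hv
  have hpodd : Odd p := hp.out.eq_two_or_odd'.resolve_left hp2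
  -- elements of P with square 1 are trivial
  have hodd : ∀ c ∈ (P : Subgroup H), c * c = 1 → c = 1 := by
    intro c hc hcc
    obtain ⟨k, hk⟩ := P.2 ⟨c, hc⟩
    have hk' : c ^ (p ^ k) = 1 := by
      have := congrArg (fun x : (P : Subgroup H) => (x : H)) hk
      simpa using this
    obtain ⟨m, hm⟩ := hpodd.pow (n := k)
    rw [hm, pow_succ, pow_mul, pow_two, hcc, one_pow, one_mul] at hk'
    exact hk'
  have hgv : g • v0 ≠ v0 := fun h => hv0 (hfpf g hgP hg1 v0 h)
  -- `|H|` is even, so `q ≠ 2`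
  have hq2 : q ≠ 2 := by
    intro hq2
    have hy : v0 ∈ MulAction.orbit H v0 := MulAction.mem_orbit_self v0
    have hx : g • v0 ∈ MulAction.orbit H v0 := ⟨g, rfl⟩
    obtain ⟨h, hh1, hh2⟩ := h2 v0 (g • v0) (g • v0) v0 hy hx hx hy (Ne.symm hgv) hgv
    have hsq1 : (h ^ 2) • v0 = v0 := by rw [pow_two, mul_smul, hh1, hh2]
    have hsq2 : (h ^ 2) • (g • v0) = g • v0 := by rw [pow_two, mul_smul, hh2, hh1]
    have hpow : ∀ k : ℕ, ((h ^ 2) ^ k) • (g • v0) = g • v0 := by
      intro k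
      induction k with
      | zero => simp
      | succ k ih => rw [pow_succ, mul_smul, hsq2, ih]
    have hcop := S.coprime
    rw [hq2] at hcop
    have hoddH : Odd (Nat.card H) := Nat.Coprime.odd_of_right hcop
    obtain ⟨m, hm⟩ := hoddH
    have h1 : h ^ (Nat.card H) = 1 := pow_card_eq_one'
    rw [hm, pow_succ, pow_mul] at h1
    have h3 : ((h ^ 2) ^ m * h) • v0 = g • v0 := by rw [mul_smul, hh1, hpow]
    rw [h1, one_smul] at h3
    exact hgv h3.symm
  -- `2 • v = 0 → v = 0`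
  have hqodd : Odd q := hq.out.eq_two_or_odd'.resolve_left hq2
  have htwo : ∀ v : V, v + v = 0 → v = 0 := by
    intro v hv
    obtain ⟨m, hm⟩ := hqodd
    have h1 := S.nsmul_eq_zero v
    rw [hm, add_nsmul, one_nsmul, mul_nsmul, two_nsmul, hv, smul_zero, zero_add] at h1
    exact h1
  -- (i) `u - u' = w (g - 1)` on `V`
  have key1 : ∀ u ∈ (P : Subgroup H), ∀ u' ∈ (P : Subgroup H), u ≠ u' →
      ∃ w ∈ (P : Subgroup H), ∀ v : V, u • v - u' • v = w • (g • v - v) := by
    intro u hu u' hu' hne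
    have hx : g • v0 ∈ MulAction.orbit H v0 := ⟨g, rfl⟩
    have hy : v0 ∈ MulAction.orbit H v0 := MulAction.mem_orbit_self v0
    have hx' : u • v0 ∈ MulAction.orbit H v0 := ⟨u, rfl⟩
    have hy' : u' • v0 ∈ MulAction.orbit H v0 := ⟨u', rfl⟩
    have huv : u • v0 ≠ u' • v0 := by
      intro h
      apply hne
      have h0 : (u'⁻¹ * u) • v0 = v0 := by rw [mul_smul, h, inv_smul_smul]
      have h1 : u'⁻¹ * u = 1 := by
        by_contra h1
        exact hv0 (hfpf _ (mul_mem (inv_mem hu') hu) h1 v0 h0)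
      calc u = u' * (u'⁻¹ * u) := by group
        _ = u' := by rw [h1, mul_one]
    obtain ⟨h, hh1, hh2⟩ := h2 (g • v0) v0 (u • v0) (u' • v0) hx hy hx' hy' hgv huv
    have hd : h • (g • v0 - v0) ∈ MulAction.orbit H (g • v0 - v0) := ⟨h, rfl⟩
    rw [← orbit_eq_of_pp S.pp P] at hd
    obtain ⟨w, hw⟩ := hd
    refine ⟨(w : H), w.2, ?_⟩
    have hw' : (w : H) • (g • v0 - v0) = h • (g • v0 - v0) := hw
    let K : AddSubgroup V :=
      { carrier := {v | u • v - u' • v = (w : H) • (g • v - v)}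
        zero_mem' := by simp
        add_mem' := fun {a b} ha hb => by
          change u • (a + b) - u' • (a + b) = (w : H) • (g • (a + b) - (a + b))
          have ha' : u • a - u' • a = (w : H) • (g • a - a) := ha
          have hb' : u • b - u' • b = (w : H) • (g • b - b) := hb
          have e : g • (a + b) - (a + b) = (g • a - a) + (g • b - b) := by
            rw [smul_add]; abel
          rw [e, smul_add (w : H), ← ha', ← hb', smul_add, smul_add]; abel
        neg_mem' := fun {a} ha => by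
          change u • (-a) - u' • (-a) = (w : H) • (g • (-a) - (-a))
          have ha' : u • a - u' • a = (w : H) • (g • a - a) := ha
          have e : g • (-a) - (-a) = -(g • a - a) := by
            rw [smul_neg]; abel
          rw [e, smul_neg (w : H), ← ha', smul_neg, smul_neg]; abel }
    have hK : ∀ x ∈ (P : Subgroup H), ∀ a ∈ K, x • a ∈ K := by
      intro x hx a ha
      change u • (x • a) - u' • (x • a) = (w : H) • (g • (x • a) - x • a)
      have ha' : u • a - u' • a = (w : H) • (g • a - a) := ha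
      have e1 : u • (x • a) = x • (u • a) := by
        rw [← mul_smul, ← mul_smul, hcomm u hu x hx]
      have e2 : u' • (x • a) = x • (u' • a) := by
        rw [← mul_smul, ← mul_smul, hcomm u' hu' x hx]
      have e3 : g • (x • a) = x • (g • a) := by
        rw [← mul_smul, ← mul_smul, hcomm g hgP x hx]
      rw [e1, e2, e3, ← smul_sub, ← smul_sub, ha', ← mul_smul, ← mul_smul, hcomm x hx w w.2]
    have hv0K : v0 ∈ K := by
      change u • v0 - u' • v0 = (w : H) • (g • v0 - v0)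
      rw [hw', smul_sub, hh1, hh2]
    rcases S.sylow_irr P K hK with h0 | h1
    · exfalso
      rw [h0, AddSubgroup.mem_bot] at hv0K
      exact hv0 hv0K
    · intro v
      have : v ∈ K := h1 ▸ AddSubgroup.mem_top v
      exact this
  -- (ii) `ζ + 1 ∈ P`
  have key2 : ∀ ζ ∈ (P : Subgroup H), ζ ≠ 1 →
      ∃ c ∈ (P : Subgroup H), ∀ v : V, ζ • v + v = c • v := by
    intro ζ hζ hζ1
    have hζ2 : ζ * ζ ≠ 1 := fun h => hζ1 (hodd ζ hζ h)
    obtain ⟨w1, hw1, e1⟩ := key1 ζ hζ 1 (one_mem _) hζ1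
    obtain ⟨w2, hw2, e2⟩ := key1 (ζ * ζ) (mul_mem hζ hζ) 1 (one_mem _) hζ2
    have hcP : w1⁻¹ * w2 ∈ (P : Subgroup H) := mul_mem (inv_mem hw1) hw2
    refine ⟨w1⁻¹ * w2, hcP, fun v => ?_⟩
    have hx := e1 (ζ • v + v)
    have hv := e2 v
    simp only [one_smul] at hx hv
    have h3 : w1 • (g • (ζ • v + v) - (ζ • v + v)) = w2 • (g • v - v) := by
      rw [← hx, ← hv, smul_add, mul_smul]; abel
    have h4 : g • (ζ • v + v) - (ζ • v + v) = (w1⁻¹ * w2) • (g • v - v) := by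
      rw [mul_smul, ← h3, inv_smul_smul]
    have h5 : (w1⁻¹ * w2) • (g • v - v) = g • ((w1⁻¹ * w2) • v) - (w1⁻¹ * w2) • v := by
      rw [smul_sub, ← mul_smul, ← mul_smul, hcomm _ hcP g hgP]
    have h6 : g • ((ζ • v + v) - (w1⁻¹ * w2) • v) = (ζ • v + v) - (w1⁻¹ * w2) • v := by
      have h7 := h4.trans h5
      rw [smul_sub]
      have h8 : g • (ζ • v + v) = (ζ • v + v) + (g • ((w1⁻¹ * w2) • v) - (w1⁻¹ * w2) • v) := by
        rw [← h7]; abel
      rw [h8]; abel
    have h7 := hfpf g hgP hg1 _ h6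
    exact sub_eq_zero.mp h7
  -- (iii) the map `ζ ↦ ζ + 1` permutes `P \ {1}`
  let T := {ζ : H // ζ ∈ (P : Subgroup H) ∧ ζ ≠ 1}
  have hex : ∀ ζ : T, ∃ c : T, ∀ v : V, (ζ : H) • v + v = (c : H) • v := by
    intro ζ
    obtain ⟨c, hcP, hc⟩ := key2 ζ.1 ζ.2.1 ζ.2.2
    refine ⟨⟨c, hcP, ?_⟩, hc⟩
    intro hc1
    have := hc v0
    rw [hc1, one_smul, add_eq_right] at this
    have h0 : v0 = (ζ : H)⁻¹ • (0 : V) := by rw [← this, inv_smul_smul]
    rw [smul_zero] at h0
    exact hv0 h0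
  choose φ hφ using hex
  have hinj : Function.Injective φ := by
    intro ζ ζ' h
    apply Subtype.ext
    apply eq_of_smul_eq_smul (α := V)
    intro v
    have h1 := hφ ζ v
    have h2 := hφ ζ' v
    rw [h] at h1
    exact add_right_cancel (h1.trans h2.symm)
  have hsurj : Function.Surjective φ := Finite.surjective_of_injective hinj
  have hgi1 : g⁻¹ ≠ 1 := fun h => hg1 (inv_eq_one.mp h)
  obtain ⟨ζ1, hζ1⟩ := hsurj ⟨g, hgP, hg1⟩
  obtain ⟨ζ2, hζ2⟩ := hsurj ⟨g⁻¹, inv_mem hgP, hgi1⟩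
  have e1 : ∀ v : V, (ζ1 : H) • v + v = g • v := by
    intro v; have := hφ ζ1 v; rw [hζ1] at this; exact this
  have e2 : ∀ v : V, (ζ2 : H) • v + v = g⁻¹ • v := by
    intro v; have := hφ ζ2 v; rw [hζ2] at this; exact this
  -- `c = ζ1⁻¹ g ζ2` acts as `-1`
  have hc : ∀ v : V, ((ζ1 : H)⁻¹ * g * (ζ2 : H)) • v = -v := by
    intro v
    have h1 : (ζ2 : H) • v = g⁻¹ • v - v := eq_sub_of_add_eq (e2 v)
    have h2 : (ζ1 : H) • v = g • v - v := eq_sub_of_add_eq (e1 v)
    rw [mul_smul, mul_smul, h1, smul_sub, smul_inv_smul]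
    have h3 : v - g • v = -((ζ1 : H) • v) := by rw [h2]; abel
    rw [h3, smul_neg, inv_smul_smul]
  have hcP : (ζ1 : H)⁻¹ * g * (ζ2 : H) ∈ (P : Subgroup H) :=
    mul_mem (mul_mem (inv_mem ζ1.2.1) hgP) ζ2.2.1
  have hcc : ((ζ1 : H)⁻¹ * g * (ζ2 : H)) * ((ζ1 : H)⁻¹ * g * (ζ2 : H)) = 1 := by
    apply eq_of_smul_eq_smul (α := V)
    intro v
    rw [mul_smul, hc, hc, neg_neg, one_smul]
  have hc1 := hodd _ hcP hcc
  have := hc v0
  rw [hc1, one_smul] at this
  exact hv0 (htwo v0 (by nth_rewrite 1 [this]; exact neg_add_cancel v0))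

end Cfsg.Agent.Lib.Helper12.OrbLeaf
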