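import Mathlib
import Cfsg.Prelude.Def_LocalEven
import Cfsg.Prelude.Def_PLocal
import Cfsg.Prelude.Def_FusionSystem
import Cfsg.Agent.Lib.Helper2.PCDefs
import Cfsg.Agent.Lib.Helper23.PC3
import Cfsg.Agent.Lib.Helper26.FSNormal
import Cfsg.Agent.Lib.Helper27.FSWeaklyNormal
import Cfsg.Agent.S5118

/-!
# S5280 leaf PC4 (helper12, for helper2)

`O_p` of the normal subsystem `F_{P ∩ K}(K)` is normal in `F_P(G)`; group-level form.
-/

set_option autoImplicit false
open scoped commutatorElement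
open Cfsg.Agent.Lib.Helper2.PC
universe u
variable {p : ℕ} [Fact p.Prime]

namespace Cfsg.Agent.Lib.Helper12.PCLeaf

theorem exists_normal_of_goodIn_normal {G : Type*} [Group G] [Finite G] (P : Sylow p G)
    (K : Subgroup G) [K.Normal] (h : GoodIn K ((P : Subgroup G) ⊓ K)) :
    ∃ T : Subgroup G, T ≤ (P : Subgroup G) ⊓ K ∧
      (P : Subgroup G) ≤ Subgroup.normalizer (T : Set G) ∧
      CtlIn ⊤ (Subgroup.normalizer (T : Set G)) (P : Subgroup G) ∧
      ((P : Subgroup G) ⊓ K) ⊓ Subgroup.centralizer (T : Set G) ≤ T := by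
  obtain ⟨R, hR, hn, hcent, hctl⟩ := h
  set E := Cfsg.fusionSystemOfSubgroup K ((P : Subgroup G) ⊓ K) inf_le_right with hE
  have hfin : Finite ↥((P : Subgroup G) ⊓ K) := inferInstance
  have hRn : E.IsNormal R :=
    Cfsg.Agent.Lib.Helper23.PCLeaf.isNormal_subFS_of_ctlIn K ((P : Subgroup G) ⊓ K) R inf_le_right hR hn hctl
  have hRT : R ≤ E.core := le_sSup hRn
  have hTle : E.core ≤ (P : Subgroup G) ⊓ K := (Cfsg.Agent.Lib.Helper26.core_isNormal E).1
  have hNI := Cfsg.Agent.S5118.result p P K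
  have hcore : (Cfsg.groupFusionSystem (P : Subgroup G)).IsNormal E.core :=
    Cfsg.Agent.Lib.Helper27.core_isNormal_of_isWeaklyNormalIn P.isPGroup'
      (Cfsg.groupFusionSystem (P : Subgroup G)) E hNI.1
  obtain ⟨-, hPn, hctl'⟩ :=
    Cfsg.Agent.Lib.Helper23.PCLeaf.ctlIn_of_isNormal_groupFS (P : Subgroup G) E.core hcore
  refine ⟨E.core, hTle, hPn, hctl', ?_⟩
  intro x hx
  apply hRT
  apply hcent
  refine ⟨hx.1, ?_⟩
  have hx2 : x ∈ Subgroup.centralizer ((E.core : Subgroup G) : Set G) := hx.2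
  show x ∈ Subgroup.centralizer ((R : Subgroup G) : Set G)
  rw [Subgroup.mem_centralizer_iff] at hx2 ⊢
  intro r hr
  exact hx2 r (hRT hr)

end Cfsg.Agent.Lib.Helper12.PCLeaf
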