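import Mathlib
import Cfsg.Prelude.Def_ConjugacyFunctors
import Cfsg.Agent.Lib.Helper12.PairFusion

/-!
Helper lemmas (helper12): local-to-global control of transfer for a pair of conjugacy functors `(W, V)` with
`Z(H) ≤ W H` and `V` monotone with respect to centres, the local subgroups being `N_G(W Q)` and `C_G(V Q)`; the
local hypothesis is only required in the normalizers `N_G(H)` with `Z(P) ≤ H ≤ P`.
-/

set_option autoImplicit false
set_option linter.unusedSectionVars false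
set_option linter.style.haveILetI false
open Subgroup
open scoped commutatorElement
namespace Cfsg.Agent.Lib.Helper12

section lfoc
variable {G : Type*} [Group G]

/-- the subgroup of `T` generated by the `T ∩ (H ∩ L T)'`, `L ∈ 𝓛` -/
def LFoc (𝓛 : Set (Subgroup G → Subgroup G)) (H T : Subgroup G) : Subgroup G :=
  ⨆ L ∈ 𝓛, T ⊓ ⁅H ⊓ L T, H ⊓ L T⁆

theorem le_lfoc_of_mem {𝓛 : Set (Subgroup G → Subgroup G)} {L : Subgroup G → Subgroup G}
    (hL : L ∈ 𝓛) (H T : Subgroup G) : T ⊓ ⁅H ⊓ L T, H ⊓ L T⁆ ≤ LFoc 𝓛 H T := by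
  unfold LFoc
  exact le_biSup (fun L : Subgroup G → Subgroup G => T ⊓ ⁅H ⊓ L T, H ⊓ L T⁆) hL

/-- along a chain, elements move within a coset of `F`, provided each member satisfies the local claim -/
theorem transfer_of_chain_elt (F : Subgroup G) (𝓕 : Set (Subgroup G)) (l : List (Subgroup G × G))
    (hmem : ∀ q ∈ l, ∀ t ∈ q.1, ∀ x ∈ Subgroup.normalizer ((q.1 : Subgroup G) : Set G),
      t * (x⁻¹ * t * x)⁻¹ ∈ F) :
    ∀ A : Set G, Chain 𝓕 A l → ∀ a ∈ A, a * ((prodOf l)⁻¹ * a * prodOf l)⁻¹ ∈ F := by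
  induction l with
  | nil =>
    intro A _ a _
    simp [prodOf_nil]
  | cons q l ih =>
    obtain ⟨T, x⟩ := q
    rintro A ⟨hT, hx, hA, hl⟩ a ha
    have h2 := ih (fun q hq => hmem q (List.mem_cons_of_mem _ hq)) _ hl (x⁻¹ * a * x) ⟨a, ha, rfl⟩
    have h1 : a * (x⁻¹ * a * x)⁻¹ ∈ F := hmem (T, x) List.mem_cons_self a (hA ha) x hx
    rw [prodOf_cons]
    have e : a * ((x * prodOf l)⁻¹ * a * (x * prodOf l))⁻¹ =
        (a * (x⁻¹ * a * x)⁻¹) * ((x⁻¹ * a * x) * ((prodOf l)⁻¹ * (x⁻¹ * a * x) * prodOf l)⁻¹) := by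
      group
    rw [e]
    exact mul_mem h1 h2

end lfoc

section ltransport
variable {G : Type*} [Group G] [Finite G] {p : ℕ} [Fact p.Prime]

/-- an element carrying a Sylow subgroup `S₁` of `N_G(g U g⁻¹)` to a given Sylow subgroup `Q` of `N_G(U)` -/
theorem exists_conj_sylow_normalizer {U Q : Subgroup G}
    (hQN : Q ≤ Subgroup.normalizer (U : Set G)) (hQp : IsPGroup p Q)
    (hQidx : ¬ p ∣ Q.relIndex (Subgroup.normalizer (U : Set G)))
    (g : G) {S₁ : Subgroup G} (hS₁N : S₁ ≤ Subgroup.normalizer ((cj g U : Subgroup G) : Set G))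
    (hS₁p : IsPGroup p S₁)
    (hS₁idx : ¬ p ∣ S₁.relIndex (Subgroup.normalizer ((cj g U : Subgroup G) : Set G))) :
    ∃ m : G, cj m S₁ = Q ∧
      cj m (Subgroup.normalizer ((cj g U : Subgroup G) : Set G)) = Subgroup.normalizer (U : Set G) := by
  set N := Subgroup.normalizer (U : Set G) with hN
  set N' := Subgroup.normalizer ((cj g U : Subgroup G) : Set G) with hN'
  have hNN' : cj g N = N' := cj_normalizer g U
  have hQ'N' : cj g Q ≤ N' := hNN' ▸ cj_mono g hQN
  have hQ'p : IsPGroup p ↥(cj g Q) := hQp.map _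
  have hQ'idx : ¬ p ∣ (cj g Q).relIndex N' := by
    rw [← hNN', cj_relIndex]; exact hQidx
  obtain ⟨k, hkN', hk⟩ := exists_conj_mem_of_relIndex (cj g Q) N' S₁ hQ'p hQ'idx hS₁N hS₁p
  have hkS₁ : cj k S₁ ≤ cj g Q := by
    rintro _ ⟨s, hs, rfl⟩
    simpa [MulAut.conj_apply] using hk s hs
  have hcjN' : cj k N' = N' := cj_self_of_mem hkN'
  have hQ'eq : cj g Q = cj k S₁ := by
    apply le_antisymm _ hkS₁
    apply le_of_isPGroup_of_relIndex (p := p) hkS₁ hQ'N' hQ'p
    rw [← hcjN', cj_relIndex]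
    exact hS₁idx
  refine ⟨g⁻¹ * k, ?_, ?_⟩
  · rw [← cj_mul, ← hQ'eq, cj_inv_cj]
  · rw [← cj_mul, hcjN', ← hNN', cj_inv_cj]

/-- transport of the local transfer hypothesis along conjugation and change of the Sylow subgroup -/
theorem lfoc_sylow_transport {𝓛 : Set (Subgroup G → Subgroup G)} (h𝓛 : LEquivariant p 𝓛)
    {U Q : Subgroup G} (hQN : Q ≤ Subgroup.normalizer (U : Set G)) (hQp : IsPGroup p Q)
    (hQidx : ¬ p ∣ Q.relIndex (Subgroup.normalizer (U : Set G)))
    (hfoc : Q ⊓ ⁅Subgroup.normalizer (U : Set G), Subgroup.normalizer (U : Set G)⁆ ≤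
      LFoc 𝓛 (Subgroup.normalizer (U : Set G)) Q)
    (g : G) {S₁ : Subgroup G} (hS₁N : S₁ ≤ Subgroup.normalizer ((cj g U : Subgroup G) : Set G))
    (hS₁p : IsPGroup p S₁)
    (hS₁idx : ¬ p ∣ S₁.relIndex (Subgroup.normalizer ((cj g U : Subgroup G) : Set G))) :
    S₁ ⊓ ⁅Subgroup.normalizer ((cj g U : Subgroup G) : Set G),
        Subgroup.normalizer ((cj g U : Subgroup G) : Set G)⁆ ≤
      LFoc 𝓛 (Subgroup.normalizer ((cj g U : Subgroup G) : Set G)) S₁ := by
  obtain ⟨m, hmS₁, hmN'⟩ := exists_conj_sylow_normalizer hQN hQp hQidx g hS₁N hS₁p hS₁idx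
  set N := Subgroup.normalizer (U : Set G) with hN
  set N' := Subgroup.normalizer ((cj g U : Subgroup G) : Set G) with hN'
  have e1 : cj m⁻¹ N = N' := by rw [← hmN', cj_inv_cj]
  have e2 : cj m⁻¹ Q = S₁ := by rw [← hmS₁, cj_inv_cj]
  have h1 := cj_mono m⁻¹ hfoc
  rw [cj_inf, cj_commutator, e1, e2] at h1
  refine h1.trans (le_of_eq ?_)
  unfold LFoc
  rw [cj_def, Subgroup.map_iSup]
  refine iSup_congr fun L => ?_
  rw [Subgroup.map_iSup]
  refine iSup_congr fun hL => ?_
  rw [← cj_def, cj_inf, cj_commutator, cj_inf, e1, e2, ← h𝓛 L hL Q hQp m⁻¹, e2]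

end ltransport

section pairtransfer
variable {G : Type*} [Group G] [Finite G] {p : ℕ} [Fact p.Prime]
  (W V : Subgroup G → Subgroup G) (hW : Cfsg.IsConjugacyFunctor p W)
  (hV : Cfsg.IsConjugacyFunctor p V)
  (hWZ : ∀ H : Subgroup G, IsPGroup p ↥H → H ⊓ Subgroup.centralizer ((H : Subgroup G) : Set G) ≤ W H)
  (hVmono : ∀ H K : Subgroup G, IsPGroup p ↥H → IsPGroup p ↥K → H ≠ ⊥ → K ≠ ⊥ →
    H ⊓ Subgroup.centralizer ((H : Subgroup G) : Set G) ≤
      K ⊓ Subgroup.centralizer ((K : Subgroup G) : Set G) → V H ≤ V K)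
  (S : Sylow p G) (hSne : (S : Subgroup G) ≠ ⊥)
  (hloc : ∀ H : Subgroup G,
    (S : Subgroup G) ⊓ Subgroup.centralizer (((S : Subgroup G) : Subgroup G) : Set G) ≤ H →
    H ≤ (S : Subgroup G) → ∃ Q : Subgroup G, Q ≤ Subgroup.normalizer ((H : Subgroup G) : Set G) ∧
      IsPGroup p ↥Q ∧ ¬ p ∣ Q.relIndex (Subgroup.normalizer ((H : Subgroup G) : Set G)) ∧
      Q ⊓ ⁅Subgroup.normalizer ((H : Subgroup G) : Set G),
        Subgroup.normalizer ((H : Subgroup G) : Set G)⁆ ≤
      LFoc (pairLocal W V) (Subgroup.normalizer ((H : Subgroup G) : Set G)) Q)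

include hW hV hWZ hVmono hSne hloc in
/-- the inductive claim: subgroups `U` containing `Z(S)` -/
theorem ltransfer_of_center_le :
    ∀ (d : ℕ) (U : Subgroup G),
      (S : Subgroup G) ⊓ Subgroup.centralizer (((S : Subgroup G) : Subgroup G) : Set G) ≤ U →
      U ≤ (S : Subgroup G) →
      Nat.card (S : Subgroup G) -
        Nat.card ↥((S : Subgroup G) ⊓ Subgroup.normalizer ((U : Subgroup G) : Set G)) = d →
      ((S : Subgroup G) ⊓ Subgroup.normalizer ((U : Subgroup G) : Set G)) ⊓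
        ⁅Subgroup.normalizer ((U : Subgroup G) : Set G),
          Subgroup.normalizer ((U : Subgroup G) : Set G)⁆ ≤
        LFoc (pairLocal W V) ⊤ (S : Subgroup G) := by
  have h𝓛 := lEquivariant_pairLocal hW hV
  set Z := (S : Subgroup G) ⊓ Subgroup.centralizer (((S : Subgroup G) : Subgroup G) : Set G) with hZ
  have hZne : Z ≠ ⊥ := sylow_center_ne_bot S hSne
  set F := LFoc (pairLocal W V) ⊤ (S : Subgroup G) with hF
  have hcardS : ∀ K : Subgroup G, K ≤ (S : Subgroup G) → Nat.card K ≤ Nat.card (S : Subgroup G) :=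
    fun K hK => Subgroup.card_le_of_le hK
  -- the two kinds of generators of `F`
  have hF₁ : (S : Subgroup G) ⊓ ⁅Subgroup.normalizer ((W (S : Subgroup G) : Subgroup G) : Set G),
      Subgroup.normalizer ((W (S : Subgroup G) : Subgroup G) : Set G)⁆ ≤ F := by
    have h1 := le_lfoc_of_mem (𝓛 := pairLocal W V)
      (L := fun T => Subgroup.normalizer ((W T : Subgroup G) : Set G)) (Or.inl rfl) ⊤ (S : Subgroup G)
    simp only [top_inf_eq] at h1
    exact h1
  have hF₂ : (S : Subgroup G) ⊓ ⁅Subgroup.centralizer ((V (S : Subgroup G) : Subgroup G) : Set G),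
      Subgroup.centralizer ((V (S : Subgroup G) : Subgroup G) : Set G)⁆ ≤ F := by
    have h1 := le_lfoc_of_mem (𝓛 := pairLocal W V)
      (L := fun T => Subgroup.centralizer ((V T : Subgroup G) : Set G)) (Or.inr rfl) ⊤ (S : Subgroup G)
    simp only [top_inf_eq] at h1
    exact h1
  -- elements of `N_G(S)`
  have hNS : ∀ t ∈ (S : Subgroup G), ∀ x ∈ Subgroup.normalizer (((S : Subgroup G) : Subgroup G) : Set G),
      t * (x⁻¹ * t * x)⁻¹ ∈ F := by
    intro t ht x hx
    apply hF₁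
    have hxt : x⁻¹ * t * x ∈ (S : Subgroup G) := by
      have := (Subgroup.mem_normalizer_iff.mp (inv_mem hx) t).mp ht
      simpa using this
    refine Subgroup.mem_inf.mpr ⟨mul_mem ht (inv_mem hxt), ?_⟩
    have e : t * (x⁻¹ * t * x)⁻¹ = ⁅t, x⁻¹⁆ := by
      rw [commutatorElement_def]; group
    rw [e]
    have hNW := normalizer_le_normalizer_functor hW S.2
    exact Subgroup.commutator_mem_commutator (hNW (Subgroup.le_normalizer ht)) (hNW (inv_mem hx))
  intro d
  induction d using Nat.strong_induction_on with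
  | _ d IH =>
  -- the claim for tame subgroups
  have claimT : ∀ T ∈ tameFamily S,
      Nat.card (S : Subgroup G) -
        Nat.card ↥((S : Subgroup G) ⊓ Subgroup.normalizer ((T : Subgroup G) : Set G)) < d →
      ∀ t ∈ T, ∀ x ∈ Subgroup.normalizer ((T : Subgroup G) : Set G), t * (x⁻¹ * t * x)⁻¹ ∈ F := by
    intro T hT hdT t ht x hx
    obtain ⟨c, hc, y, hy, rfl⟩ := exists_mul_of_tame S hT hx
    set T₁ := T ⊔ ((S : Subgroup G) ⊓ Subgroup.centralizer (T : Set G)) with hT₁
    have hT₁S : T₁ ≤ (S : Subgroup G) := sup_le hT.1 inf_le_left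
    have hZT₁ : Z ≤ T₁ :=
      le_trans (inf_le_inf_left _ (Subgroup.centralizer_le hT.1)) le_sup_right
    have hNN : (S : Subgroup G) ⊓ Subgroup.normalizer ((T : Subgroup G) : Set G) ≤
        (S : Subgroup G) ⊓ Subgroup.normalizer ((T₁ : Subgroup G) : Set G) := by
      apply le_inf inf_le_left
      intro s hs
      apply mem_normalizer_of_cj_eq
      rw [hT₁, cj_def, Subgroup.map_sup, ← cj_def, ← cj_def, cj_inf, cj_centralizer,
        cj_eq_of_mem_normalizer hs.2, cj_self_of_mem hs.1]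
    have hcard := Subgroup.card_le_of_le hNN
    have h3 := hcardS _ (inf_le_left : (S : Subgroup G) ⊓
      Subgroup.normalizer ((T₁ : Subgroup G) : Set G) ≤ (S : Subgroup G))
    have h1 := IH _ (by omega) T₁ hZT₁ hT₁S rfl
    have hct : c⁻¹ * t * c = t := by
      have := (Subgroup.mem_centralizer_iff.mp hc) t ht
      rw [mul_assoc, this]; group
    have e : t * ((c * y)⁻¹ * t * (c * y))⁻¹ = t * (y⁻¹ * t * y)⁻¹ := by
      have : (c * y)⁻¹ * t * (c * y) = y⁻¹ * (c⁻¹ * t * c) * y := by group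
      rw [this, hct]
    rw [e]
    apply h1
    have hyt : y⁻¹ * t * y ∈ T := by
      have := (Subgroup.mem_normalizer_iff.mp (inv_mem hy.1) t).mp ht
      simpa using this
    have hTT₁ : T ≤ (S : Subgroup G) ⊓ Subgroup.normalizer ((T₁ : Subgroup G) : Set G) :=
      (le_sup_left : T ≤ T₁).trans (le_inf hT₁S Subgroup.le_normalizer)
    refine Subgroup.mem_inf.mpr ⟨hTT₁ (mul_mem ht (inv_mem hyt)), ?_⟩
    have e2 : t * (y⁻¹ * t * y)⁻¹ = ⁅t, y⁻¹⁆ := by
      rw [commutatorElement_def]; group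
    rw [e2]
    exact Subgroup.commutator_mem_commutator (hTT₁ ht).2 (inv_mem hy.2)
  intro U hZU hUS hd
  obtain ⟨g, U', hU', hgU, hgN⟩ := exists_tame_conj S hUS
  set NU := (S : Subgroup G) ⊓ Subgroup.normalizer ((U : Subgroup G) : Set G) with hNU
  set S₁ := (S : Subgroup G) ⊓ Subgroup.normalizer ((U' : Subgroup G) : Set G) with hS₁
  have hS₁p : IsPGroup p S₁ := S.2.to_le inf_le_left
  have hNUS₁ : Nat.card NU ≤ Nat.card S₁ := by
    rw [← card_cj g NU]
    exact Subgroup.card_le_of_le hgN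
  have hS₁S := hcardS S₁ inf_le_left
  -- the local hypothesis at `U'` with respect to `S₁`
  obtain ⟨Q, hQN, hQp, hQidx, hfoc⟩ := hloc U hZU hUS
  have hlocU' := lfoc_sylow_transport h𝓛 hQN hQp hQidx hfoc g (S₁ := S₁)
    (by rw [hgU]; exact inf_le_right) hS₁p (by rw [hgU]; exact hU'.2)
  rw [hgU] at hlocU'
  have hZS₁ : Z ≤ S₁ := center_le_normalizer_of_le hU'.1
  have hZZS₁ : Z ≤ S₁ ⊓ Subgroup.centralizer (S₁ : Set G) :=
    center_le_center_of_le inf_le_left hZS₁
  have hS₁ne : S₁ ≠ ⊥ := fun h => hZne (le_bot_iff.mp (h ▸ hZS₁))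
  -- the local terms lie in `F`
  have key : LFoc (pairLocal W V) (Subgroup.normalizer ((U' : Subgroup G) : Set G)) S₁ ≤ F := by
    unfold LFoc
    apply iSup₂_le
    intro L hL
    rcases hL with rfl | hL
    · -- normalizer term
      show S₁ ⊓ ⁅Subgroup.normalizer ((U' : Subgroup G) : Set G) ⊓
          Subgroup.normalizer ((W S₁ : Subgroup G) : Set G),
        Subgroup.normalizer ((U' : Subgroup G) : Set G) ⊓
          Subgroup.normalizer ((W S₁ : Subgroup G) : Set G)⁆ ≤ F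
      by_cases hS₁eq : S₁ = (S : Subgroup G)
      · rw [hS₁eq]
        exact le_trans (inf_le_inf_left _ (Subgroup.commutator_mono inf_le_right inf_le_right)) hF₁
      · have hWfun := hW S₁ hS₁p
        have hU₂S₁ : W S₁ ≤ S₁ := hWfun.1
        have hZU₂ : Z ≤ W S₁ := hZZS₁.trans (hWZ S₁ hS₁p)
        have hS₁NU₂ : S₁ ≤ (S : Subgroup G) ⊓ Subgroup.normalizer ((W S₁ : Subgroup G) : Set G) :=
          le_inf inf_le_left (Subgroup.le_normalizer.trans (normalizer_le_normalizer_functor hW hS₁p))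
        have hlt : Nat.card S₁ <
            Nat.card ↥((S : Subgroup G) ⊓ Subgroup.normalizer ((W S₁ : Subgroup G) : Set G)) := by
          have h1 := card_lt_card_inf_normalizer S.2 (inf_le_left : S₁ ≤ (S : Subgroup G)) hS₁eq
          refine lt_of_lt_of_le h1 (Subgroup.card_le_of_le ?_)
          exact inf_le_inf_left _ (normalizer_le_normalizer_functor hW hS₁p)
        have h3 := hcardS _ (inf_le_left : (S : Subgroup G) ⊓
          Subgroup.normalizer ((W S₁ : Subgroup G) : Set G) ≤ (S : Subgroup G))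
        have h4 := IH _ (by omega) (W S₁) hZU₂ (hU₂S₁.trans inf_le_left) rfl
        exact le_trans (inf_le_inf hS₁NU₂ (Subgroup.commutator_mono inf_le_right inf_le_right)) h4
    · -- centralizer term
      have hL' : L = fun T => Subgroup.centralizer ((V T : Subgroup G) : Set G) := hL
      subst hL'
      show S₁ ⊓ ⁅Subgroup.normalizer ((U' : Subgroup G) : Set G) ⊓
          Subgroup.centralizer ((V S₁ : Subgroup G) : Set G),
        Subgroup.normalizer ((U' : Subgroup G) : Set G) ⊓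
          Subgroup.centralizer ((V S₁ : Subgroup G) : Set G)⁆ ≤ F
      have hVV : V (S : Subgroup G) ≤ V S₁ := hVmono (S : Subgroup G) S₁ S.2 hS₁p hSne hS₁ne hZZS₁
      have hCC : Subgroup.centralizer ((V S₁ : Subgroup G) : Set G) ≤
          Subgroup.centralizer ((V (S : Subgroup G) : Subgroup G) : Set G) := Subgroup.centralizer_le hVV
      exact le_trans (inf_le_inf inf_le_left
        (Subgroup.commutator_mono (inf_le_right.trans hCC) (inf_le_right.trans hCC))) hF₂
  -- the chain part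
  obtain ⟨l, hl, hprod⟩ := reach_tame S NU inf_le_left g⁻¹ (by rw [inv_inv]; exact hgN.trans inf_le_left)
  intro z hz
  obtain ⟨hzNU, hzc⟩ := Subgroup.mem_inf.mp hz
  have hstep := transfer_of_chain_elt F (tameFamily S) l
    (fun q hq t ht x hx => by
      have hq𝓕 : q.1 ∈ tameFamily S := (hl.mem _ q hq).1
      by_cases hqS : q.1 = (S : Subgroup G)
      · rw [hqS] at hx ht
        exact hNS t ht x hx
      · have h1 : Nat.card NU ≤ Nat.card q.1 := hl.card_le _ q hq
        have h2 := card_lt_card_inf_normalizer S.2 hq𝓕.1 hqS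
        have h3 := hcardS _ (inf_le_left : (S : Subgroup G) ⊓
          Subgroup.normalizer ((q.1 : Subgroup G) : Set G) ≤ (S : Subgroup G))
        exact claimT q.1 hq𝓕 (by omega) t ht x hx) _ hl z hzNU
  rw [hprod, inv_inv] at hstep
  -- the tame part
  have hbz : g * z * g⁻¹ ∈ S₁ ⊓ ⁅Subgroup.normalizer ((U' : Subgroup G) : Set G),
      Subgroup.normalizer ((U' : Subgroup G) : Set G)⁆ := by
    refine Subgroup.mem_inf.mpr ⟨hgN ⟨z, hzNU, by simp [MulAut.conj_apply]⟩, ?_⟩
    have h1 : g * z * g⁻¹ ∈ cj g ⁅Subgroup.normalizer ((U : Subgroup G) : Set G),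
        Subgroup.normalizer ((U : Subgroup G) : Set G)⁆ := ⟨z, hzc, by simp [MulAut.conj_apply]⟩
    rw [cj_commutator, cj_normalizer, hgU] at h1
    exact h1
  have htameV : g * z * g⁻¹ ∈ F := key (hlocU' hbz)
  have e : z = (z * (g * z * g⁻¹)⁻¹) * (g * z * g⁻¹) := by group
  rw [e]
  exact mul_mem hstep htameV

include hW hV hWZ hVmono hSne hloc in
/-- local-to-global control of transfer for the pair `(W, V)` -/
theorem ltransfer_top_of_pair :
    (S : Subgroup G) ⊓ commutator G ≤ LFoc (pairLocal W V) ⊤ (S : Subgroup G) := by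
  have hclaim := ltransfer_of_center_le W V hW hV hWZ hVmono S hSne hloc
  set Z := (S : Subgroup G) ⊓ Subgroup.centralizer (((S : Subgroup G) : Subgroup G) : Set G) with hZ
  set F := LFoc (pairLocal W V) ⊤ (S : Subgroup G) with hF
  have claimT : ∀ T ∈ tameFamily S, ∀ t ∈ T, ∀ x ∈ Subgroup.normalizer ((T : Subgroup G) : Set G),
      t * (x⁻¹ * t * x)⁻¹ ∈ F := by
    intro T hT t ht x hx
    obtain ⟨c, hc, y, hy, rfl⟩ := exists_mul_of_tame S hT hx
    set T₁ := T ⊔ ((S : Subgroup G) ⊓ Subgroup.centralizer (T : Set G)) with hT₁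
    have hT₁S : T₁ ≤ (S : Subgroup G) := sup_le hT.1 inf_le_left
    have hZT₁ : Z ≤ T₁ :=
      le_trans (inf_le_inf_left _ (Subgroup.centralizer_le hT.1)) le_sup_right
    have h1 := hclaim _ T₁ hZT₁ hT₁S rfl
    have hct : c⁻¹ * t * c = t := by
      have := (Subgroup.mem_centralizer_iff.mp hc) t ht
      rw [mul_assoc, this]; group
    have e : t * ((c * y)⁻¹ * t * (c * y))⁻¹ = t * (y⁻¹ * t * y)⁻¹ := by
      have : (c * y)⁻¹ * t * (c * y) = y⁻¹ * (c⁻¹ * t * c) * y := by group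
      rw [this, hct]
    rw [e]
    apply h1
    have hyt : y⁻¹ * t * y ∈ T := by
      have := (Subgroup.mem_normalizer_iff.mp (inv_mem hy.1) t).mp ht
      simpa using this
    have hTT₁ : T ≤ (S : Subgroup G) ⊓ Subgroup.normalizer ((T₁ : Subgroup G) : Set G) :=
      (le_sup_left : T ≤ T₁).trans (le_inf hT₁S Subgroup.le_normalizer)
    refine Subgroup.mem_inf.mpr ⟨hTT₁ (mul_mem ht (inv_mem hyt)), ?_⟩
    have e2 : t * (y⁻¹ * t * y)⁻¹ = ⁅t, y⁻¹⁆ := by
      rw [commutatorElement_def]; group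
    rw [e2]
    exact Subgroup.commutator_mem_commutator (hTT₁ ht).2 (inv_mem hy.2)
  have hfocal := Subgroup.commutator_inf_eq_focalSubgroup S
  rw [inf_comm] at hfocal
  rw [hfocal, Subgroup.focalSubgroup_def, Subgroup.closure_le]
  rintro g ⟨hgS, x, hxS, u, rfl⟩
  have huxu : u * x * u⁻¹ ∈ (S : Subgroup G) := by
    have h1 : x⁻¹ * ⁅x, u⁆ ∈ (S : Subgroup G) := mul_mem (inv_mem hxS) hgS
    have e : u * x * u⁻¹ = (x⁻¹ * ⁅x, u⁆)⁻¹ := by rw [commutatorElement_def]; group
    rw [e]; exact inv_mem h1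
  have h1 : Subgroup.zpowers x ≤ (S : Subgroup G) := (Subgroup.zpowers_le).mpr hxS
  have h2 : cj u⁻¹⁻¹ (Subgroup.zpowers x) ≤ (S : Subgroup G) := by
    rw [inv_inv, cj_def, MonoidHom.map_zpowers, Subgroup.zpowers_le]
    simpa [MulAut.conj_apply] using huxu
  obtain ⟨l, hl, hprod⟩ := reach_tame S _ h1 u⁻¹ h2
  have := transfer_of_chain_elt F (tameFamily S) l
    (fun q hq t ht y hy => claimT q.1 (hl.mem _ q hq).1 t ht y hy) _ hl x (Subgroup.mem_zpowers x)
  rw [hprod, inv_inv] at this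
  have e : ⁅x, u⁆ = x * (u * x * u⁻¹)⁻¹ := by rw [commutatorElement_def]; group
  rw [SetLike.mem_coe, e]
  exact this

end pairtransfer

end Cfsg.Agent.Lib.Helper12
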