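import Mathlib
import Cfsg.Agent.Lib.Helper1.FR6

/-!
Helper12: Fischer's rank three theorem for a class of `3`-transpositions on which the group acts
primitively (no assumption on the centre).  The statements and proofs are helper1's
(`Cfsg.Agent.Lib.Helper1.FR3`, files FR3 to FR7), re-instantiated for the context `PCtx`, in which
primitivity, non-centrality and the absence of twins are fields instead of being derived from
the simplicity of the commutator subgroup.
-/

set_option autoImplicit false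
set_option linter.unusedSectionVars false
set_option linter.unusedVariables false
set_option linter.style.haveILetI false

open Subgroup
open scoped commutatorElement
open Cfsg.Agent.Lib.Helper1.FR3

namespace Cfsg.Agent.Lib.Helper12.PR3

universe u

variable {G : Type u} [Group G] {D M M' : Set G}

/-- the context: a generating class of `3`-transpositions, primitive under conjugation, with
no central member and no twins -/
structure PCtx (D : Set G) : Prop where
  tt : T3 D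
  trans : ∀ x ∈ D, ∀ y ∈ D, ∃ g : G, g * x * g⁻¹ = y
  gen : closure D = ⊤
  blk_trivial : ∀ {B : Set G}, B ⊆ D → IsBlk B → ∀ {a a' : G}, a ∈ B → a' ∈ B → a ≠ a' → D ⊆ B
  exists_nc : ∀ {a : G}, a ∈ D → ∃ x ∈ D, ¬ Commute x a
  noW : ∀ a ∈ D, ∀ b ∈ D, Dp D a = Dp D b → a = b

/-- a `C(a)`-invariant set of members other than `a` is not invariant under a member not
commuting with `a` -/
theorem PCtx.no_invariant (h : PCtx D) {a : G} (ha : a ∈ D) {S : Set G} (hS : S ⊆ D)
    (haS : a ∉ S) (hne : S.Nonempty)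
    (hC : ∀ g : G, Commute g a → ∀ y ∈ S, g * y * g⁻¹ ∈ S) {b : G} (hb : b ∈ D)
    (hba : ¬ Commute b a) (hbS : ∀ y ∈ S, b * y * b⁻¹ ∈ S) : False := by
  have hT := h.tt
  have hCs : ∀ g : G, Commute g a → g ∈ stabS S := by
    intro g hg y
    constructor
    · exact hC g hg y
    · intro hy
      have := hC g⁻¹ hg.inv_left _ hy
      have e : g⁻¹ * (g * y * g⁻¹) * g⁻¹⁻¹ = y := by group
      rwa [e] at this
  have hbs : b ∈ stabS S := by
    intro y
    constructor
    · exact hbS y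
    · intro hy
      have := hbS _ hy
      have e : b * (b * y * b⁻¹) * b⁻¹ = y := by
        rw [hT.inv hb]
        calc b * (b * y * b) * b = (b * b) * y * (b * b) := by group
          _ = y := by rw [hT.sq hb, one_mul, mul_one]
      rwa [e] at this
  set B : Set G := {z | ∃ k ∈ stabS S, z = k * a * k⁻¹} with hBdef
  have hBD : B ⊆ D := by
    rintro z ⟨k, -, rfl⟩
    exact hT.conj k a ha
  have hB : IsBlk B := by
    rintro g x ⟨k, hk, rfl⟩ ⟨k', hk', hkk'⟩ y ⟨k₂, hk₂, rfl⟩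
    have hc : Commute (k'⁻¹ * g * k) a := by
      show k'⁻¹ * g * k * a = a * (k'⁻¹ * g * k)
      calc k'⁻¹ * g * k * a = k'⁻¹ * (g * (k * a * k⁻¹) * g⁻¹) * g * k := by group
        _ = k'⁻¹ * (k' * a * k'⁻¹) * g * k := by rw [hkk']
        _ = a * (k'⁻¹ * g * k) := by group
    have hg : g ∈ stabS S := by
      have h1 := mul_mem (mul_mem hk' (hCs _ hc)) (inv_mem hk)
      have e : k' * (k'⁻¹ * g * k) * k⁻¹ = g := by group
      rwa [e] at h1
    exact ⟨g * k₂, mul_mem hg hk₂, by group⟩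
  have haB : a ∈ B := ⟨1, one_mem _, by simp⟩
  have hbaB : b * a * b⁻¹ ∈ B := ⟨b, hbs, rfl⟩
  have hne' : a ≠ b * a * b⁻¹ := by
    intro he
    apply hba
    show b * a = a * b
    calc b * a = (b * a * b⁻¹) * b := by group
      _ = a * b := by rw [← he]
  have hDB := h.blk_trivial hBD hB haB hbaB hne'
  obtain ⟨c, hc⟩ := hne
  obtain ⟨k, hk, hck⟩ := hDB (hS hc)
  apply haS
  rw [hk a, ← hck]
  exact hc

/-- **No commuting twins**. -/
theorem PCtx.twin_comm (h : PCtx D) {a b : G} (ha : a ∈ D) (hb : b ∈ D)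
    (hab : ∀ e ∈ D, Commute e a ↔ Commute e b) : a = b := by
  by_contra hne
  have hT := h.tt
  set B : Set G := {y | y ∈ D ∧ ∀ e ∈ D, Commute e y ↔ Commute e a} with hBdef
  have hBD : B ⊆ D := fun y hy => hy.1
  have hB : IsBlk B := by
    rintro g x ⟨hx, hxa⟩ ⟨-, hgx⟩ y ⟨hy, hya⟩
    refine ⟨hT.conj g y hy, ?_⟩
    intro e he
    have he' : g⁻¹ * e * g ∈ D := by
      have := hT.conj g⁻¹ e he
      rwa [inv_inv] at this
    have c1 : ∀ z : G, Commute e (g * z * g⁻¹) ↔ Commute (g⁻¹ * e * g) z := by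
      intro z
      have := Commute.conj_iff g (a := g⁻¹ * e * g) (b := z)
      have e1 : g * (g⁻¹ * e * g) * g⁻¹ = e := by group
      rw [e1] at this
      exact this
    rw [c1 y, hya _ he', ← hxa _ he', ← c1 x, hgx e he]
  have haB : a ∈ B := ⟨ha, fun e _ => Iff.rfl⟩
  have hbB : b ∈ B := ⟨hb, fun e he => (hab e he).symm⟩
  have hDB := h.blk_trivial hBD hB haB hbB hne
  obtain ⟨x, hx, hxa⟩ := h.exists_nc ha
  apply hxa
  exact ((hDB hx).2 x hx).mp (Commute.refl x)

variable [Finite G]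

theorem PCtx.perp_ncard (h : PCtx D) {a b : G} (ha : a ∈ D) (hb : b ∈ D) :
    (perp D a).ncard = (perp D b).ncard := by
  obtain ⟨g, rfl⟩ := h.trans a ha b hb
  rw [h.tt.perp_conj, Set.ncard_image_of_injective _ (conj_injective g)]

theorem PCtx.Dp_ncard (h : PCtx D) {a b : G} (ha : a ∈ D) (hb : b ∈ D) :
    (Dp D a).ncard = (Dp D b).ncard := by
  obtain ⟨g, rfl⟩ := h.trans a ha b hb
  rw [h.tt.Dp_conj, Set.ncard_image_of_injective _ (conj_injective g)]

theorem PCtx.perp_eq_of_subset (h : PCtx D) {a b : G} (ha : a ∈ D) (hb : b ∈ D)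
    (hsub : perp D a ⊆ perp D b) : perp D a = perp D b :=
  Set.eq_of_subset_of_ncard_le hsub (le_of_eq (h.perp_ncard hb ha)) (Set.toFinite _)

theorem PCtx.Dp_eq_of_subset (h : PCtx D) {a b : G} (ha : a ∈ D) (hb : b ∈ D)
    (hsub : Dp D a ⊆ Dp D b) : Dp D a = Dp D b :=
  Set.eq_of_subset_of_ncard_le hsub (le_of_eq (h.Dp_ncard hb ha)) (Set.toFinite _)

/-- **No commuting twins**, subset form. -/
theorem PCtx.perp_subset (h : PCtx D) {a b : G} (ha : a ∈ D) (hb : b ∈ D)
    (hsub : perp D a ⊆ perp D b) : a = b := by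
  have heq := h.perp_eq_of_subset ha hb hsub
  apply h.twin_comm ha hb
  intro e he
  constructor
  · intro hc
    have : e ∈ perp D a := ⟨he, hc.symm⟩
    rw [heq] at this
    exact this.2.symm
  · intro hc
    have : e ∈ perp D b := ⟨he, hc.symm⟩
    rw [← heq] at this
    exact this.2.symm

/-- **Module lemma**: a module with two distinct members is the whole class. -/
theorem PCtx.mod_trivial (h : PCtx D) (hNT : NoTwin D) (hM : IsMod D M) {u v : G} (hu : u ∈ M)
    (hv : v ∈ M) (huv : u ≠ v) : D ⊆ M := by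
  classical
  by_contra hcon
  rw [Set.not_subset] at hcon
  obtain ⟨e, heD, heM⟩ := hcon
  let P : ℕ → Prop := fun n => ∃ M : Set G, IsMod D M ∧ (∃ u ∈ M, ∃ v ∈ M, u ≠ v) ∧
    (∃ e ∈ D, e ∉ M) ∧ M.ncard = n
  have hP : ∃ n, P n := ⟨M.ncard, M, hM, ⟨u, hu, v, hv, huv⟩, ⟨e, heD, heM⟩, rfl⟩
  obtain ⟨M₀, hM₀, ⟨u₀, hu₀, v₀, hv₀, huv₀⟩, ⟨e₀, he₀D, he₀M⟩, hn₀⟩ := Nat.find_spec hP
  have hmin : ∀ M₁ : Set G, IsMod D M₁ → (∃ u ∈ M₁, ∃ v ∈ M₁, u ≠ v) → M₁ ⊆ M₀ → M₁ ≠ M₀ → False := by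
    intro M₁ hM₁ h2 hsub hne
    have hlt : M₁.ncard < M₀.ncard :=
      Set.ncard_lt_ncard (lt_of_le_of_ne hsub hne) (Set.toFinite _)
    rw [hn₀] at hlt
    exact Nat.find_min hP hlt ⟨M₁, hM₁, h2, ⟨e₀, he₀D, fun hh => he₀M (hsub hh)⟩, rfl⟩
  -- a third member
  have hthird : ∃ t ∈ M₀, t ≠ u₀ ∧ t ≠ v₀ := by
    by_contra hno
    push Not at hno
    obtain ⟨y, hy, hyu, hyv, hiff⟩ := hNT u₀ (hM₀.1 hu₀) v₀ (hM₀.1 hv₀) huv₀
    have hyM : y ∉ M₀ := by
      intro hh
      by_cases h1 : y = u₀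
      · exact hyu h1
      · exact hyv (hno y hh h1)
    exact hiff (hM₀.2 y hy hyM u₀ hu₀ v₀ hv₀)
  obtain ⟨t, ht, htu, htv⟩ := hthird
  -- `M₀` is a block
  have hblk : IsBlk M₀ := by
    intro g x hx hgx y hy
    by_contra hgy
    have hMg : IsMod D (cjB g M₀) := isMod_cjB h.tt hM₀ g
    have hx' : g * x * g⁻¹ ∈ cjB g M₀ := conj_mem_cjB hx
    have hy' : g * y * g⁻¹ ∈ cjB g M₀ := conj_mem_cjB hy
    have hw : ∃ w ∈ M₀, w ∉ cjB g M₀ := by
      by_contra hno
      push Not at hno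
      have hsub : M₀ ⊆ cjB g M₀ := hno
      have heq : M₀ = cjB g M₀ :=
        Set.eq_of_subset_of_ncard_le hsub (le_of_eq (ncard_cjB g M₀)) (Set.toFinite _)
      rw [← heq] at hy'
      exact hgy hy'
    obtain ⟨w, hwM, hwg⟩ := hw
    have hI : IsMod D (M₀ ∩ cjB g M₀) := isMod_inter hM₀ hMg
    have hDf : IsMod D (M₀ \ cjB g M₀) := isMod_diff hM₀ hMg hy' hgy
    have hIne : M₀ ∩ cjB g M₀ ≠ M₀ := by
      intro he
      have : w ∈ M₀ ∩ cjB g M₀ := by rw [he]; exact hwM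
      exact hwg this.2
    have hDne : M₀ \ cjB g M₀ ≠ M₀ := by
      intro he
      have : g * x * g⁻¹ ∈ M₀ \ cjB g M₀ := by rw [he]; exact hgx
      exact this.2 hx'
    -- pigeonhole on `u₀, v₀, t`
    by_cases h1 : u₀ ∈ cjB g M₀
    · by_cases h2 : v₀ ∈ cjB g M₀
      · exact hmin _ hI ⟨u₀, ⟨hu₀, h1⟩, v₀, ⟨hv₀, h2⟩, huv₀⟩ Set.inter_subset_left hIne
      · by_cases h3 : t ∈ cjB g M₀
        · exact hmin _ hI ⟨t, ⟨ht, h3⟩, u₀, ⟨hu₀, h1⟩, htu⟩ Set.inter_subset_left hIne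
        · exact hmin _ hDf ⟨t, ⟨ht, h3⟩, v₀, ⟨hv₀, h2⟩, htv⟩ Set.sdiff_subset hDne
    · by_cases h2 : v₀ ∈ cjB g M₀
      · by_cases h3 : t ∈ cjB g M₀
        · exact hmin _ hI ⟨t, ⟨ht, h3⟩, v₀, ⟨hv₀, h2⟩, htv⟩ Set.inter_subset_left hIne
        · exact hmin _ hDf ⟨t, ⟨ht, h3⟩, u₀, ⟨hu₀, h1⟩, htu⟩ Set.sdiff_subset hDne
      · exact hmin _ hDf ⟨u₀, ⟨hu₀, h1⟩, v₀, ⟨hv₀, h2⟩, huv₀⟩ Set.sdiff_subset hDne
  exact he₀M (h.blk_trivial hM₀.1 hblk hu₀ hv₀ huv₀ he₀D)

/-- the number of common commuting partners is the same for all members not commuting with `a` -/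
theorem PCtx.mu_const (h : PCtx D) {a b c : G} (ha : a ∈ D) (hb : b ∈ Ap D a) (hc : c ∈ Ap D a) :
    (EE D a b).ncard = (EE D a c).ncard := by
  have hT := h.tt
  obtain ⟨b₀, hb₀A, hmax⟩ := Set.exists_max_image (Ap D a) (fun y => (EE D a y).ncard)
    (Set.toFinite _) ⟨b, hb⟩
  have key : ∀ y ∈ Ap D a, (EE D a y).ncard = (EE D a b₀).ncard := by
    by_contra hcon
    push Not at hcon
    obtain ⟨c₀, hc₀A, hc₀⟩ := hcon
    have hc₀lt : (EE D a c₀).ncard < (EE D a b₀).ncard := lt_of_le_of_ne (hmax c₀ hc₀A) hc₀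
    set S : Set G := {y | y ∈ Ap D a ∧ (EE D a y).ncard < (EE D a b₀).ncard} with hS
    have hSD : S ⊆ D := fun y hy => hy.1.1
    have haS : a ∉ S := fun hh => hh.1.2 (Commute.refl a)
    have hSne : S.Nonempty := ⟨c₀, hc₀A, hc₀lt⟩
    have hC : ∀ g : G, Commute g a → ∀ y ∈ S, g * y * g⁻¹ ∈ S := by
      rintro g hg y ⟨⟨hyD, hya⟩, hylt⟩
      have hga : g * a * g⁻¹ = a := by rw [hg.eq, mul_inv_cancel_right]
      refine ⟨⟨hT.conj g y hyD, ?_⟩, ?_⟩
      · intro hh
        apply hya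
        have := (Commute.conj_iff g (a := a) (b := y))
        rw [hga] at this
        exact this.mp hh
      · have : (EE D a (g * y * g⁻¹)).ncard = (EE D a y).ncard :=
          (hT.EE_ncard_of_OP ⟨g, hga, rfl⟩).symm
        rw [this]; exact hylt
    have hb₀D := hb₀A.1
    have hb₀a : ¬ Commute b₀ a := fun hh => hb₀A.2 hh.symm
    apply h.no_invariant ha hSD haS hSne hC hb₀D hb₀a
    rintro y ⟨⟨hyD, hya⟩, hylt⟩
    by_contra hnot
    rw [hT.inv hb₀D] at hnot
    have hno : ¬ OP a b₀ a y := by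
      intro hop
      have := hT.EE_ncard_of_OP hop
      omega
    obtain ⟨hby, hau⟩ := hT.fact2 ha hb₀D hyD hb₀A.2 hya hno
    have huA : b₀ * y * b₀ ∈ Ap D a := ⟨hT.cj hb₀D hyD, hau⟩
    have hueq : (EE D a (b₀ * y * b₀)).ncard = (EE D a b₀).ncard := by
      have h1 := hmax _ huA
      have h2 : ¬ (EE D a (b₀ * y * b₀)).ncard < (EE D a b₀).ncard := fun hh => hnot ⟨huA, hh⟩
      have h1' : (EE D a (b₀ * y * b₀)).ncard ≤ (EE D a b₀).ncard := h1
      omega
    have hsub : EE D a b₀ ⊆ EE D a y := by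
      by_contra hns
      rw [Set.not_subset] at hns
      obtain ⟨e, ⟨heD, hea, heb⟩, hey⟩ := hns
      have hey' : ¬ Commute e y := fun hh => hey ⟨heD, hea, hh⟩
      have hop := hT.alpha ha hb₀D hyD heD hb₀A.2 hya hno hea heb hey'
      have := hT.EE_ncard_of_OP hop
      omega
    have := Set.ncard_le_ncard hsub (Set.toFinite _)
    omega
  rw [key b hb, key c hc]

/-- **(Q)**: members not commuting with `a` in different `C(a)`-orbits have the same common
commuting partners with `a`. -/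
theorem PCtx.Q (h : PCtx D) {a b c : G} (ha : a ∈ D) (hb : b ∈ D) (hc : c ∈ D)
    (hab : ¬ Commute a b) (hac : ¬ Commute a c) (hno : ¬ OP a b a c) :
    EE D a b = EE D a c := by
  have hcard := h.mu_const ha (b := b) (c := c) ⟨hb, hab⟩ ⟨hc, hac⟩
  rcases h.tt.comp ha hb hc hab hac hno with hs | hs
  · exact Set.eq_of_subset_of_ncard_le hs (le_of_eq hcard.symm) (Set.toFinite _)
  · exact (Set.eq_of_subset_of_ncard_le hs (le_of_eq hcard) (Set.toFinite _)).symm

/-- **Transitivity on the non-commuting members.** -/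
theorem PCtx.A_trans (h : PCtx D)
    (hW : ∀ a ∈ D, ∀ b ∈ D, Dp D a = Dp D b → a = b) {a b c : G} (ha : a ∈ D) (hb : b ∈ D)
    (hc : c ∈ D) (hab : ¬ Commute a b) (hac : ¬ Commute a c) : OP a b a c := by
  by_contra hno
  have hT := h.tt
  have hQ := h.Q ha hb hc hab hac hno
  obtain ⟨hbc, -⟩ := hT.fact2 ha hb hc hab hac hno
  -- step (i)
  have hF : ∃ y ∈ D, y ≠ a ∧ Commute a y ∧ ¬ Commute y b := by
    by_contra hcon
    push Not at hcon
    have hsub : Dp D a ⊆ Dp D b := by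
      rintro y ⟨hy, hya, hay⟩
      refine ⟨hy, ?_, (hcon y hy hya hay).symm⟩
      intro he
      rw [he] at hay
      exact hab hay
    have := hW a ha b hb (h.Dp_eq_of_subset ha hb hsub)
    rw [this] at hab
    exact hab (Commute.refl b)
  -- properties of members of `F`
  have hFc : ∀ y ∈ D, Commute a y → ¬ Commute y b → ¬ Commute y c := by
    intro y hy hay hyb hyc
    have : y ∈ EE D a c := ⟨hy, hay.symm, hyc⟩
    rw [← hQ] at this
    exact hyb this.2.2
  have hFno : ∀ y ∈ D, Commute a y → ¬ Commute y b → ¬ OP y b y c := by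
    intro y hy hay hyb hop
    have hyc := hFc y hy hay hyb
    have k1 : OP b a b y := hT.OP_fact1 hb ha hy (fun hh => hab hh.symm) (fun hh => hyb hh.symm) hay
    have k2 : OP c a c y := hT.OP_fact1 hc ha hy (fun hh => hac hh.symm) (fun hh => hyc hh.symm) hay
    exact hno ((k1.swap.trans hop).trans k2.swap.symm)
  -- step (ii)
  have hii : ∀ z ∈ D, Commute z a → Commute z b → ∀ y ∈ D, Commute a y → ¬ Commute y b →
      Commute z y := by
    intro z hz hza hzb y hy hay hyb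
    have hyc := hFc y hy hay hyb
    have hzc : Commute z c := by
      have : z ∈ EE D a b := ⟨hz, hza, hzb⟩
      rw [hQ] at this
      exact this.2.2
    have hby : ¬ Commute b y := fun hh => hyb hh.symm
    have hcy : ¬ Commute c y := fun hh => hyc hh.symm
    by_cases hop1 : OP b c b y
    · have hop2 : ¬ OP c b c y := by
        intro hop2
        have f1 : OP b a b y := hT.OP_fact1 hb ha hy (fun hh => hab hh.symm) hby hay
        have f2 : OP c a c y := hT.OP_fact1 hc ha hy (fun hh => hac hh.symm) hcy hay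
        have A : OP c b a b := (hop1.trans f1.symm).swap
        have B : OP b c a c := (hop2.trans f2.symm).swap
        have fl : OP c b b c := hT.OP_flip hc hb (fun hh => hbc hh.symm)
        exact hno ((A.symm.trans fl).trans B)
      have hq := h.Q hc hb hy (fun hh => hbc hh.symm) hcy hop2
      have : z ∈ EE D c b := ⟨hz, hzc, hzb⟩
      rw [hq] at this
      exact this.2.2
    · have hq := h.Q hb hc hy hbc hby hop1
      have : z ∈ EE D b c := ⟨hz, hzb, hzc⟩
      rw [hq] at this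
      exact this.2.2
  -- step (iii)
  have hiii : ∀ y ∈ D, Commute a y → ¬ Commute y b → ∀ z ∈ D, Commute a z → ¬ Commute z b →
      Commute y z := by
    intro y hy hay hyb z hz haz hzb
    by_contra hyz
    have hyc := hFc y hy hay hyb
    have k1 : OP y z y b := by
      by_contra hk
      have hq := h.Q hy hz hb hyz hyb hk
      have : a ∈ EE D y z := ⟨ha, hay, haz⟩
      rw [hq] at this
      exact hab this.2.2
    have k2 : OP y z y c := by
      by_contra hk
      have hq := h.Q hy hz hc hyz hyc hk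
      have : a ∈ EE D y z := ⟨ha, hay, haz⟩
      rw [hq] at this
      exact hac this.2.2
    exact hFno y hy hay hyb (k1.symm.trans k2)
  -- step (iv)
  obtain ⟨y, hy, hya, hay, hyb⟩ := hF
  apply hya
  symm
  apply h.perp_subset ha hy
  rintro w ⟨hw, haw⟩
  refine ⟨hw, ?_⟩
  by_cases hwb : Commute w b
  · exact (hii w hw haw.symm hwb y hy hay hyb).symm
  · exact hiii y hy hay hyb w hw haw hwb

theorem PCtx.noTwin (h : PCtx D) (hW : ∀ a ∈ D, ∀ b ∈ D, Dp D a = Dp D b → a = b) : NoTwin D := by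
  intro u hu v hv huv
  by_contra hcon
  push Not at hcon
  apply huv
  by_cases hc : Commute u v
  · apply h.perp_subset hu hv
    rintro w ⟨hw, huw⟩
    refine ⟨hw, ?_⟩
    by_cases h1 : w = u
    · rw [h1]; exact hc.symm
    · by_cases h2 : w = v
      · rw [h2]
      · exact ((hcon w hw h1 h2).mp huw.symm).symm
  · apply hW u hu v hv
    apply h.Dp_eq_of_subset hu hv
    rintro w ⟨hw, hwu, huw⟩
    have hwv : w ≠ v := by
      intro he
      rw [he] at huw
      exact hc huw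
    exact ⟨hw, hwv, ((hcon w hw hwu hwv).mp huw.symm).symm⟩

/-- for every orbit on the commuting members there is a configuration `(x, b₁, d)` -/
theorem PCtx.exists_triple (h : PCtx D) (hW : ∀ a ∈ D, ∀ b ∈ D, Dp D a = Dp D b → a = b)
    {a β : G} (ha : a ∈ D) (hβ : β ∈ D) (hβa : β ≠ a) (haβ : Commute a β) :
    ∃ x ∈ D, ¬ Commute a x ∧ ∃ b₁ ∈ D, OP a β a b₁ ∧ ¬ Commute b₁ x ∧
      ∃ d ∈ D, Commute d a ∧ Commute d x ∧ ¬ Commute d b₁ := by
  by_contra hcon
  push Not at hcon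
  have hT := h.tt
  have hH : ∀ x ∈ D, ¬ Commute a x → ∀ b₁ ∈ D, OP a β a b₁ → ¬ Commute b₁ x →
      ∀ d ∈ D, Commute d a → Commute d x → Commute d b₁ := hcon
  set Λ : Set G := {y | y ∈ D ∧ OP a β a y ∧ ∀ x ∈ D, ¬ Commute a x → (Commute x y ↔ Commute x β)}
    with hΛ
  -- two members of the orbit which do not commute see the same non-commuting members
  have hsame : ∀ y ∈ D, OP a β a y → ∀ w ∈ D, OP a β a w → ¬ Commute w y →
      ∀ x ∈ D, ¬ Commute a x → (Commute x w ↔ Commute x y) := by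
    intro y hy hyo w hw hwo hwy x hx hax
    have hay := hyo.commute_right haβ
    have haw := hwo.commute_right haβ
    constructor
    · intro hxw
      by_contra hxy
      exact hwy (hH x hx hax y hy hyo (fun hh => hxy hh.symm) w hw haw.symm hxw.symm)
    · intro hxy
      by_contra hxw
      exact hwy (hH x hx hax w hw hwo (fun hh => hxw hh.symm) y hy hay.symm hxy.symm).symm
  have hMod : IsMod D Λ := by
    refine ⟨fun y hy => hy.1, ?_⟩
    rintro w hw hwΛ y₁ ⟨hy₁, hy₁o, hy₁x⟩ y₂ ⟨hy₂, hy₂o, hy₂x⟩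
    by_cases hwa : Commute a w
    · have hall : ∀ y ∈ D, OP a β a y → (∀ x ∈ D, ¬ Commute a x → (Commute x y ↔ Commute x β)) →
          Commute w y := by
        intro y hy hyo hyx
        by_contra hwy
        have hay := hyo.commute_right haβ
        have hwo : OP a β a w := hyo.trans (hT.orbcomm hw hy hwa hay hwy).symm
        apply hwΛ
        refine ⟨hw, hwo, ?_⟩
        intro x hx hax
        rw [hsame y hy hyo w hw hwo hwy x hx hax, hyx x hx hax]
      exact ⟨fun _ => hall y₂ hy₂ hy₂o hy₂x, fun _ => hall y₁ hy₁ hy₁o hy₁x⟩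
    · rw [hy₁x w hw hwa, hy₂x w hw hwa]
  have hβΛ : β ∈ Λ := ⟨hβ, OP.refl a β, fun x _ _ => Iff.rfl⟩
  -- a second member
  have hd₀ : ∃ d₀ ∈ D, Commute a d₀ ∧ ¬ Commute β d₀ := by
    by_contra hno
    push Not at hno
    apply hβa
    symm
    apply h.perp_subset ha hβ
    rintro w ⟨hw, haw⟩
    exact ⟨hw, hno w hw haw⟩
  obtain ⟨d₀, hd₀, had₀, hβd₀⟩ := hd₀
  have hd₀o : OP a β a d₀ := hT.orbcomm hβ hd₀ haβ had₀ hβd₀
  have hd₀Λ : d₀ ∈ Λ := by
    refine ⟨hd₀, hd₀o, ?_⟩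
    intro x hx hax
    exact hsame β hβ (OP.refl a β) d₀ hd₀ hd₀o (fun hh => hβd₀ hh.symm) x hx hax
  have hne : β ≠ d₀ := by
    intro he
    rw [← he] at hβd₀
    exact hβd₀ (Commute.refl β)
  have hall := h.mod_trivial (h.noTwin hW) hMod hβΛ hd₀Λ hne
  have haΛ := hall ha
  exact haΛ.2.1.ne_right hβa rfl

/-- **Transitivity on the commuting members.** -/
theorem PCtx.D_trans (h : PCtx D) (hW : ∀ a ∈ D, ∀ b ∈ D, Dp D a = Dp D b → a = b)
    {a b b' : G} (ha : a ∈ D) (hb : b ∈ D) (hb' : b' ∈ D) (hba : b ≠ a) (hb'a : b' ≠ a)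
    (hab : Commute a b) (hab' : Commute a b') : OP a b a b' := by
  by_contra hno
  have hT := h.tt
  obtain ⟨x, hx, hax, b₁, hb₁, hb₁o, hb₁x, d, hd, hda, hdx, hdb₁⟩ :=
    h.exists_triple hW ha hb hba hab
  obtain ⟨x', hx', hax', c₁', hc₁', hc₁'o, hc₁'x, d', hd', hd'a, hd'x, hd'c₁⟩ :=
    h.exists_triple hW ha hb' hb'a hab'
  obtain ⟨g, hga, hgx⟩ := h.A_trans hW ha hx' hx hax' hax
  -- transport the second configuration
  set c₁ : G := g * c₁' * g⁻¹ with hc₁def
  set d'' : G := g * d' * g⁻¹ with hd''def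
  have hc₁ : c₁ ∈ D := hT.conj g _ hc₁'
  have hd'' : d'' ∈ D := hT.conj g _ hd'
  have hc₁o : OP a b' a c₁ := hc₁'o.trans ⟨g, hga, rfl⟩
  have hc₁x : ¬ Commute c₁ x := by
    intro hh
    rw [← hgx] at hh
    exact hc₁'x ((Commute.conj_iff g).mp hh)
  have hd''a : Commute d'' a := by
    have := (Commute.conj_iff g).mpr hd'a
    rwa [hga] at this
  have hd''x : Commute d'' x := by
    have := (Commute.conj_iff g).mpr hd'x
    rwa [hgx] at this
  have hd''c₁ : ¬ Commute d'' c₁ := fun hh => hd'c₁ ((Commute.conj_iff g).mp hh)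
  have hab₁ : Commute a b₁ := hb₁o.commute_right hab
  have hac₁ : Commute a c₁ := hc₁o.commute_right hab'
  have hno₁ : ¬ OP a b₁ a c₁ := fun hh => hno ((hb₁o.trans hh).trans hc₁o.symm)
  have hbc : Commute b₁ c₁ := by
    by_contra hh
    exact hno₁ (hT.orbcomm hb₁ hc₁ hab₁ hac₁ hh)
  have hdo : OP a d a b₁ := hT.orbcomm hd hb₁ hda.symm hab₁ hdb₁
  have hd''o : OP a d'' a c₁ := hT.orbcomm hd'' hc₁ hd''a.symm hac₁ hd''c₁
  have hdc₁ : Commute d c₁ := by
    by_contra hh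
    exact hno₁ (hdo.symm.trans (hT.orbcomm hd hc₁ hda.symm hac₁ hh))
  have hd''b₁ : Commute d'' b₁ := by
    by_contra hh
    exact hno₁ ((hT.orbcomm hd'' hb₁ hd''a.symm hab₁ hh).symm.trans hd''o)
  -- the fourth member of the frame
  set g₀ : G := x * (b₁ * c₁) * x with hg₀
  set a' : G := g₀ * a * g₀ with ha'
  have hxx := hT.sq hx
  have heps : (b₁ * c₁) * (b₁ * c₁) = 1 := by
    calc (b₁ * c₁) * (b₁ * c₁) = b₁ * (c₁ * b₁) * c₁ := by group
      _ = b₁ * (b₁ * c₁) * c₁ := by rw [hbc.eq]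
      _ = (b₁ * b₁) * (c₁ * c₁) := by group
      _ = 1 := by rw [hT.sq hb₁, hT.sq hc₁, one_mul]
  have hg₀g₀ : g₀ * g₀ = 1 := by
    rw [hg₀]
    calc x * (b₁ * c₁) * x * (x * (b₁ * c₁) * x) = x * (b₁ * c₁) * (x * x) * (b₁ * c₁) * x := by group
      _ = x * ((b₁ * c₁) * (b₁ * c₁)) * x := by rw [hxx]; group
      _ = 1 := by rw [heps, mul_one, hxx]
  have hg₀i : g₀⁻¹ = g₀ := inv_eq_of_mul_eq_one_left hg₀g₀
  have ha'D : a' ∈ D := by
    have := hT.conj g₀ a ha
    rwa [hg₀i] at this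
  have ha'a : Commute a' a :=
    hT.d4_comm ha hx hb₁ hc₁ hab₁ hac₁ hbc hax hb₁x hc₁x
  have hrec1 : (x * (a * c₁) * x) * a' * (x * (a * c₁) * x) = b₁ :=
    hT.d4_recover ha hx hb₁ hc₁ hab₁ hac₁ hbc hax hb₁x
  have hrec2 : (x * (a * b₁) * x) * a' * (x * (a * b₁) * x) = c₁ := by
    have := hT.d4_recover ha hx hc₁ hb₁ hac₁ hab₁ hbc.symm hax hc₁x
    rw [← hbc.eq] at this
    exact this
  have hda' : ¬ Commute d a' := by
    intro hh
    apply hdb₁
    rw [← hrec1]
    have hη : Commute d (x * (a * c₁) * x) :=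
      (hdx.mul_right (hda.mul_right hdc₁)).mul_right hdx
    exact (hη.mul_right hh).mul_right hη
  have hd''a' : ¬ Commute d'' a' := by
    intro hh
    apply hd''c₁
    rw [← hrec2]
    have hη : Commute d'' (x * (a * b₁) * x) :=
      (hd''x.mul_right (hd''a.mul_right hd''b₁)).mul_right hd''x
    exact (hη.mul_right hh).mul_right hη
  have k1 : OP a d a a' := hT.orbcomm hd ha'D hda.symm ha'a.symm hda'
  have k2 : OP a d'' a a' := hT.orbcomm hd'' ha'D hd''a.symm ha'a.symm hd''a'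
  exact hno₁ ((hdo.symm.trans k1).trans (hd''o.symm.trans k2).symm)

/-- **Fischer's rank three theorem.** -/
theorem PCtx.rank_three (h : PCtx D) {a : G} (ha : a ∈ D) :
    (∃ b ∈ D, b ≠ a ∧ Commute a b) ∧ (∃ c ∈ D, ¬ Commute a c) ∧
    (∀ b ∈ D, ∀ b' ∈ D, b ≠ a → b' ≠ a → Commute a b → Commute a b' →
      ∃ g : G, Commute g a ∧ g * b * g⁻¹ = b') ∧
    (∀ c ∈ D, ∀ c' ∈ D, ¬ Commute a c → ¬ Commute a c' →
      ∃ g : G, Commute g a ∧ g * c * g⁻¹ = c') := by
  have hW := h.noW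
  have hconv : ∀ y y' : G, OP a y a y' → ∃ g : G, Commute g a ∧ g * y * g⁻¹ = y' := by
    rintro y y' ⟨g, hga, hgy⟩
    refine ⟨g, ?_, hgy⟩
    show g * a = a * g
    calc g * a = (g * a * g⁻¹) * g := by group
      _ = a * g := by rw [hga]
  obtain ⟨c, hc, hca⟩ := h.exists_nc ha
  refine ⟨?_, ⟨c, hc, fun hh => hca hh.symm⟩, ?_, ?_⟩
  · by_contra hcon
    push Not at hcon
    have h1 : Dp D a = ∅ := by
      ext y
      simp only [Set.mem_empty_iff_false, iff_false]
      rintro ⟨hy, hya, hay⟩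
      exact hcon y hy hya hay
    have h2 : (Dp D c).ncard = 0 := by
      rw [h.Dp_ncard hc ha, h1, Set.ncard_empty]
    have h3 : Dp D c = ∅ := (Set.ncard_eq_zero (Set.toFinite _)).mp h2
    have := hW a ha c hc (by rw [h1, h3])
    rw [this] at hca
    exact hca (Commute.refl c)
  · intro b hb b' hb' hba hb'a hab hab'
    exact hconv b b' (h.D_trans hW ha hb hb' hba hb'a hab hab')
  · intro c₁ hc₁ c₂ hc₂ hac₁ hac₂
    exact hconv c₁ c₂ (h.A_trans hW ha hc₁ hc₂ hac₁ hac₂)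

end Cfsg.Agent.Lib.Helper12.PR3
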