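import Mathlib
import Cfsg.Agent.Lib.Helper12.PrimRank3

/-!
Helper12: in a primitive class `D` of `3`-transpositions, the subgroup generated by the members
commuting with `a` is transitive on the members not commuting with `a`; consequently it is a
maximal `D`-subgroup.
-/

set_option autoImplicit false
set_option linter.unusedSectionVars false
set_option linter.unusedVariables false

open Subgroup
open scoped commutatorElement
open Cfsg.Agent.Lib.Helper1.FR3

namespace Cfsg.Agent.Lib.Helper12.PR3

universe u

variable {G : Type u} [Group G] {D : Set G}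

/-- conjugacy under the subgroup generated by the members commuting with `a` -/
def OM (D : Set G) (a y y' : G) : Prop := ∃ g ∈ closure (perp D a), g * y * g⁻¹ = y'

theorem OM.refl (a y : G) : OM D a y y := ⟨1, one_mem _, by simp⟩

theorem OM.symm {a y y' : G} (h : OM D a y y') : OM D a y' y := by
  obtain ⟨g, hg, rfl⟩ := h
  exact ⟨g⁻¹, inv_mem hg, by group⟩

theorem OM.trans {a y y' y'' : G} (h1 : OM D a y y') (h2 : OM D a y' y'') : OM D a y y'' := by
  obtain ⟨g, hg, rfl⟩ := h1
  obtain ⟨k, hk, rfl⟩ := h2
  exact ⟨k * g, mul_mem hk hg, by group⟩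

theorem closure_perp_le_centralizer (a : G) : closure (perp D a) ≤ centralizer {a} := by
  rw [closure_le]
  intro x hx
  rw [SetLike.mem_coe, mem_centralizer_iff]
  intro y hy
  rw [Set.mem_singleton_iff] at hy
  rw [hy]
  exact hx.2.eq

theorem OM.toOP {a y y' : G} (h : OM D a y y') : OP a y a y' := by
  obtain ⟨g, hg, rfl⟩ := h
  refine ⟨g, ?_, rfl⟩
  have := closure_perp_le_centralizer a hg
  rw [mem_centralizer_iff] at this
  have h1 : a * g = g * a := this a rfl
  rw [← h1, mul_inv_cancel_right]

theorem OM_of_mem {a e y : G} (he : e ∈ D) (hea : Commute a e) (hee : e * e = 1) :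
    OM D a y (e * y * e) := by
  refine ⟨e, subset_closure ⟨he, hea⟩, ?_⟩
  rw [inv_eq_of_mul_eq_one_left hee]

/-- **Fact 1**, generated form: two commuting members not commuting with `a` are conjugate under
the subgroup generated by the members commuting with `a`. -/
theorem OM_fact1 (h : T3 D) {a u v : G} (ha : a ∈ D) (hu : u ∈ D) (hv : v ∈ D)
    (hau : ¬ Commute a u) (hav : ¬ Commute a v) (huv : Commute u v) : OM D a u v := by
  have huu := h.sq hu
  have haa := h.sq ha
  have hvv := h.sq hv
  set w : G := v * a * v with hw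
  have hwD : w ∈ D := h.cj hv ha
  have hww := h.sq hwD
  have hvuv : v * u * v = u := by
    calc v * u * v = (u * v) * v := by rw [huv.eq]
      _ = u := by rw [mul_assoc, hvv, mul_one]
  have hwu : ¬ Commute w u := by
    rw [hw, commute_cj_iff hvv, hvuv]
    exact hau
  have hb : w * u * w = u * w * u := h.braid hwD hu hwu
  have hbva : v * a * v = a * v * a := h.braid hv ha (fun hh => hav hh.symm)
  have hwaw : w * a * w = v := by
    rw [hw]
    calc (v * a * v) * a * (v * a * v) = v * a * (v * a * v) * a * v := by group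
      _ = v * a * (a * v * a) * a * v := by rw [hbva]
      _ = v * (a * a) * v * (a * a) * v := by group
      _ = v := by rw [haa, mul_one, mul_one, hvv, one_mul]
  have hwvw : w * v * w = a := by
    rw [← hwaw]
    calc w * (w * a * w) * w = (w * w) * a * (w * w) := by group
      _ = a := by rw [hww, one_mul, mul_one]
  have heps : (u * v) * (u * v) = 1 := by
    calc (u * v) * (u * v) = u * (v * u * v) := by group
      _ = 1 := by rw [hvuv, huu]
  set g : G := w * (u * v) * w with hg
  have hgg : g * g = 1 := by
    rw [hg]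
    calc (w * (u * v) * w) * (w * (u * v) * w) = w * (u * v) * (w * w) * (u * v) * w := by group
      _ = w * ((u * v) * (u * v)) * w := by rw [hww]; group
      _ = 1 := by rw [heps, mul_one, hww]
  have hgi : g⁻¹ = g := inv_eq_of_mul_eq_one_left hgg
  -- membership
  have hwuwD : w * u * w ∈ D := h.cj hwD hu
  have hwuw_a : Commute a (w * u * w) := by
    have h1 : Commute (w * u * w) (w * v * w) := by
      rw [commute_cj_iff hww]
      have e : w * (w * v * w) * w = v := by
        calc w * (w * v * w) * w = (w * w) * v * (w * w) := by group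
          _ = v := by rw [hww, one_mul, mul_one]
      rw [e]; exact huv
    rw [hwvw] at h1
    exact h1.symm
  have hgeq : g = (w * u * w) * a := by
    rw [hg, ← hwvw]
    calc w * (u * v) * w = w * u * (1 : G) * v * w := by group
      _ = w * u * (w * w) * v * w := by rw [hww]
      _ = w * u * w * (w * v * w) := by group
  have hgM : g ∈ closure (perp D a) := by
    rw [hgeq]
    exact mul_mem (subset_closure ⟨hwuwD, hwuw_a⟩) (subset_closure ⟨ha, Commute.refl a⟩)
  refine ⟨g, hgM, ?_⟩
  rw [hgi, hg]
  have e1 : (u * v) * (u * w * u) * (u * v) = a := by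
    calc (u * v) * (u * w * u) * (u * v) = (v * u) * (u * w * u) * (u * v) := by rw [huv.eq]
      _ = v * (u * u) * w * (u * u) * v := by group
      _ = v * w * v := by rw [huu, mul_one, mul_one]
      _ = (v * v) * a * (v * v) := by rw [hw]; group
      _ = a := by rw [hvv, one_mul, mul_one]
  calc w * (u * v) * w * u * (w * (u * v) * w)
      = w * ((u * v) * (w * u * w) * (u * v)) * w := by group
    _ = w * ((u * v) * (u * w * u) * (u * v)) * w := by rw [hb]
    _ = v := by rw [e1, hwaw]

theorem OM_fact2 (h : T3 D) {a b c : G} (ha : a ∈ D) (hb : b ∈ D) (hc : c ∈ D)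
    (hab : ¬ Commute a b) (hac : ¬ Commute a c) (hno : ¬ OM D a b c) :
    ¬ Commute b c ∧ ¬ Commute a (b * c * b) := by
  have hbc : ¬ Commute b c := fun hh => hno (OM_fact1 h ha hb hc hab hac hh)
  refine ⟨hbc, ?_⟩
  intro hcomm
  apply hno
  have hi : (b * c * b)⁻¹ = b * c * b := h.inv (h.cj hb hc)
  refine ⟨b * c * b, subset_closure ⟨h.cj hb hc, hcomm⟩, ?_⟩
  rw [hi]; exact h.third_swap hb hc hbc

theorem OM_alpha (h : T3 D) {a b c e : G} (ha : a ∈ D) (hb : b ∈ D) (hc : c ∈ D) (he : e ∈ D)
    (hab : ¬ Commute a b) (hac : ¬ Commute a c) (hno : ¬ OM D a b c)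
    (hea : Commute e a) (heb : Commute e b) (hec : ¬ Commute e c) : OM D a (b * c * b) c := by
  obtain ⟨hbc, hau⟩ := OM_fact2 h ha hb hc hab hac hno
  have hee := h.sq he
  have hei := h.inv he
  have hbr : b * c * b = c * b * c := h.braid hb hc hbc
  have hvD : e * c * e ∈ D := h.cj he hc
  have hav : ¬ Commute a (e * c * e) := by
    intro hh
    have h1 := hh.symm
    rw [commute_cj_iff hee] at h1
    have e1 : e * a * e = a := by
      calc e * a * e = a * e * e := by rw [hea.eq]
        _ = a := by rw [mul_assoc, hee, mul_one]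
    rw [e1] at h1
    exact hac h1.symm
  have huv : Commute (b * c * b) (e * c * e) := by
    rw [hbr]
    exact h.string_cross hb hc he heb.symm (fun hh => hec hh.symm)
  have h1 : OM D a (b * c * b) (e * c * e) := OM_fact1 h ha (h.cj hb hc) hvD hau hav huv
  have h2 : OM D a (e * c * e) c := by
    refine ⟨e, subset_closure ⟨he, hea.symm⟩, ?_⟩
    rw [hei]
    calc e * (e * c * e) * e = (e * e) * c * (e * e) := by group
      _ = c := by rw [hee, one_mul, mul_one]
  exact h1.trans h2

theorem OM_comp (h : T3 D) {a b c : G} (ha : a ∈ D) (hb : b ∈ D) (hc : c ∈ D)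
    (hab : ¬ Commute a b) (hac : ¬ Commute a c) (hno : ¬ OM D a b c) :
    EE D a b ⊆ EE D a c ∨ EE D a c ⊆ EE D a b := by
  by_contra hcon
  push Not at hcon
  obtain ⟨h1, h2⟩ := hcon
  rw [Set.not_subset] at h1 h2
  obtain ⟨e, ⟨heD, hea, heb⟩, hec⟩ := h1
  obtain ⟨e', ⟨he'D, he'a, he'c⟩, he'b⟩ := h2
  have hec' : ¬ Commute e c := fun hh => hec ⟨heD, hea, hh⟩
  have he'b' : ¬ Commute e' b := fun hh => he'b ⟨he'D, he'a, hh⟩
  have hno' : ¬ OM D a c b := fun hh => hno hh.symm
  obtain ⟨hbc, -⟩ := OM_fact2 h ha hb hc hab hac hno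
  have k1 := OM_alpha h ha hb hc heD hab hac hno hea heb hec'
  have k2 := OM_alpha h ha hc hb he'D hac hab hno' he'a he'c he'b'
  rw [← h.braid hb hc hbc] at k2
  exact hno (k2.symm.trans k1)

variable [Finite G]

/-- **Transitivity of the generated subgroup on the non-commuting members.** -/
theorem PCtx.M_trans (h : PCtx D) {a b c : G} (ha : a ∈ D) (hb : b ∈ D) (hc : c ∈ D)
    (hab : ¬ Commute a b) (hac : ¬ Commute a c) : OM D a b c := by
  by_contra hno
  have hT := h.tt
  have hW := h.noW
  have hQ : ∀ y ∈ D, ∀ z ∈ D, ¬ Commute a y → ¬ Commute a z → ¬ OM D a y z →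
      EE D a y = EE D a z := by
    intro y hy z hz hay haz hyz
    have hcard : (EE D a y).ncard = (EE D a z).ncard :=
      hT.EE_ncard_of_OP (h.A_trans hW ha hy hz hay haz)
    rcases OM_comp hT ha hy hz hay haz hyz with hs | hs
    · exact Set.eq_of_subset_of_ncard_le hs (le_of_eq hcard.symm) (Set.toFinite _)
    · exact (Set.eq_of_subset_of_ncard_le hs (le_of_eq hcard) (Set.toFinite _)).symm
  have hbc := hQ b hb c hc hab hac hno
  have hall : ∀ y ∈ D, ¬ Commute a y → EE D a y = EE D a b := by
    intro y hy hay
    by_cases hby : OM D a b y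
    · have hcy : ¬ OM D a c y := fun hh => hno (hby.trans hh.symm)
      rw [hbc]
      exact (hQ c hc y hy hac hay hcy).symm
    · exact (hQ b hb y hy hab hay hby).symm
  by_cases hE : (EE D a b).Nonempty
  · obtain ⟨e, heD, hea, heb⟩ := hE
    have hea' : e ≠ a := by
      intro hh
      rw [hh] at heb
      exact hab heb
    apply h.no_invariant ha (S := Dp D a) (fun y hy => hy.1) (fun hh => hh.2.1 rfl)
      ⟨e, heD, hea', hea.symm⟩ ?_ hb (fun hh => hab hh.symm) ?_
    · rintro g hg y ⟨hyD, hya, hay⟩
      have hga : g * a * g⁻¹ = a := by rw [hg.eq, mul_inv_cancel_right]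
      refine ⟨hT.conj g y hyD, ?_, ?_⟩
      · intro hh
        apply hya
        calc y = g⁻¹ * (g * y * g⁻¹) * g := by group
          _ = g⁻¹ * (g * a * g⁻¹) * g := by rw [hh, hga]
          _ = a := by group
      · have := (Commute.conj_iff g).mpr hay
        rwa [hga] at this
    · rintro y ⟨hyD, hya, hay⟩
      have hby : Commute b y := by
        obtain ⟨g, hga, hge⟩ := h.D_trans hW ha heD hyD hea' hya hea.symm hay
        -- pull `b` back
        have hga' : g⁻¹ * a * g = a := by
          calc g⁻¹ * a * g = g⁻¹ * (g * a * g⁻¹) * g := by rw [hga]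
            _ = a := by group
        set b' : G := g⁻¹ * b * g with hb'
        have hb'D : b' ∈ D := by
          have := hT.conj g⁻¹ b hb
          rwa [inv_inv] at this
        have hab' : ¬ Commute a b' := by
          intro hh
          apply hab
          have := (Commute.conj_iff g).mpr hh
          rw [hga] at this
          have e1 : g * b' * g⁻¹ = b := by rw [hb']; group
          rwa [e1] at this
        have he' : e ∈ EE D a b' := by
          rw [hall b' hb'D hab']
          exact ⟨heD, hea, heb⟩
        have := (Commute.conj_iff g).mpr he'.2.2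
        rw [hge] at this
        have e1 : g * b' * g⁻¹ = b := by rw [hb']; group
        rw [e1] at this
        exact this.symm
      have e1 : b * y * b⁻¹ = y := by rw [hby.eq, mul_inv_cancel_right]
      rw [e1]
      exact ⟨hyD, hya, hay⟩
  · rw [Set.not_nonempty_iff_eq_empty] at hE
    have hempty : ∀ u ∈ D, ∀ x ∈ D, ¬ Commute u x → ∀ z ∈ D, Commute z u → Commute z x →
        False := by
      intro u hu x hx hux z hz hzu hzx
      obtain ⟨g, rfl⟩ := h.trans a ha u hu
      set x' : G := g⁻¹ * x * g with hx'
      set z' : G := g⁻¹ * z * g with hz'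
      have hx'D : x' ∈ D := by
        have := hT.conj g⁻¹ x hx
        rwa [inv_inv] at this
      have hz'D : z' ∈ D := by
        have := hT.conj g⁻¹ z hz
        rwa [inv_inv] at this
      have ex : g * x' * g⁻¹ = x := by rw [hx']; group
      have ez : g * z' * g⁻¹ = z := by rw [hz']; group
      have hax' : ¬ Commute a x' := by
        intro hh
        apply hux
        have := (Commute.conj_iff g).mpr hh
        rwa [ex] at this
      have hz'a : Commute z' a := by
        rw [← ez] at hzu
        exact (Commute.conj_iff g).mp hzu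
      have hz'x' : Commute z' x' := by
        rw [← ez, ← ex] at hzx
        exact (Commute.conj_iff g).mp hzx
      have : z' ∈ EE D a x' := ⟨hz'D, hz'a, hz'x'⟩
      rw [hall x' hx'D hax', hE] at this
      exact this
    obtain ⟨⟨e, heD, hea, hae⟩, -⟩ := h.rank_three ha
    apply hea
    symm
    apply h.twin_comm ha heD
    intro x hx
    constructor
    · intro hxa
      by_contra hxe
      exact hempty e heD x hx (fun hh => hxe hh.symm) a ha hae hxa.symm
    · intro hxe
      by_contra hxa
      exact hempty a ha x hx (fun hh => hxa hh.symm) e heD hae.symm hxe.symm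

/-- the subgroup generated by the members commuting with `d` is proper -/
theorem PCtx.closure_perp_ne_top (h : PCtx D) {d : G} (hd : d ∈ D) :
    closure (perp D d) ≠ ⊤ := by
  intro htop
  obtain ⟨x, hx, hxd⟩ := h.exists_nc hd
  apply hxd
  have : x ∈ centralizer ({d} : Set G) := by
    apply closure_perp_le_centralizer (D := D) d
    rw [htop]; exact mem_top x
  rw [mem_centralizer_iff] at this
  exact (this d rfl).symm

/-- **Maximality**: the subgroup generated by the members commuting with `d` is a maximal
`D`-subgroup. -/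
theorem PCtx.closure_perp_maximal (h : PCtx D) {d : G} (hd : d ∈ D) (H : Subgroup G)
    (hH : closure {x : G | x ∈ D ∧ x ∈ H} = H) (hle : closure (perp D d) ≤ H) :
    H = closure (perp D d) ∨ H = ⊤ := by
  by_cases hcase : ∀ x ∈ D, x ∈ H → Commute d x
  · left
    apply le_antisymm _ hle
    rw [← hH]
    apply Subgroup.closure_mono
    rintro x ⟨hxD, hxH⟩
    exact ⟨hxD, hcase x hxD hxH⟩
  · right
    push Not at hcase
    obtain ⟨b, hbD, hbH, hdb⟩ := hcase
    rw [eq_top_iff, ← h.gen, closure_le]
    intro c hc
    by_cases hdc : Commute d c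
    · exact hle (subset_closure ⟨hc, hdc⟩)
    · obtain ⟨g, hg, rfl⟩ := h.M_trans hd hbD hc hdb hdc
      have hgH := hle hg
      exact mul_mem (mul_mem hgH hbH) (inv_mem hgH)

end Cfsg.Agent.Lib.Helper12.PR3
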