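import Mathlib
import Cfsg.Prelude.Def_Solvable

/-!
# S4125 (q-Baer groups), leaf QBA3: the norm trick
-/

set_option autoImplicit false

namespace Cfsg.Agent.Lib.Helper12.QBLeaf

variable {G : Type*} [Group G] [Finite G]

local notation "C(" x ")" => Subgroup.centralizer ({x} : Set G)

/-- QBA3 (norm trick). -/
theorem eq_one_of_mul_mem_conj (Y R : Subgroup G) [Y.Normal]
    (hYab : ∀ u ∈ Y, ∀ v ∈ Y, u * v = v * u) (x : G) (hxY : ∀ u ∈ Y, x * u = u * x)
    (hRx : ∀ ρ ∈ R, ρ * x = x * ρ) (hfix : ∀ u ∈ Y, (∀ ρ ∈ R, ρ * u = u * ρ) → u = 1)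
    (hcop : (C(x)).index.Coprime (orderOf x)) (u : G) (hu : u ∈ Y) (t : G)
    (ht : t * x * t⁻¹ = x * u) : u = 1 := by
  classical
  -- the cocycle
  let c : G → G := fun g => x⁻¹ * (g * x * g⁻¹)
  have hc_mul : ∀ g h : G, c (g * h) = c g * (g * c h * g⁻¹) := by
    intro g h; simp only [c]; group
  have hc_inv : ∀ g : G, c g⁻¹ = g⁻¹ * (c g)⁻¹ * g⁻¹⁻¹ := by
    intro g; simp only [c]; group
  have hc_cent : ∀ k : G, k * x = x * k → c k = 1 := by
    intro k hk
    simp only [c]
    rw [hk, mul_assoc, mul_inv_cancel, mul_one, inv_mul_cancel]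
  -- G1
  let G1 : Subgroup G :=
    { carrier := {g | c g ∈ Y}
      one_mem' := by
        change c 1 ∈ Y
        rw [hc_cent 1 (by simp)]; exact Y.one_mem
      mul_mem' := fun {g h} hg hh => by
        change c (g * h) ∈ Y
        rw [hc_mul]
        exact Y.mul_mem hg (Subgroup.Normal.conj_mem inferInstance _ hh g)
      inv_mem' := fun {g} hg => by
        change c g⁻¹ ∈ Y
        rw [hc_inv]
        exact Subgroup.Normal.conj_mem inferInstance _ (Y.inv_mem hg) g⁻¹ }
  have hCG1 : C(x) ≤ G1 := by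
    intro k hk
    change c k ∈ Y
    rw [hc_cent k (Subgroup.mem_centralizer_singleton_iff.mp hk)]
    exact Y.one_mem
  -- commutative group structure on Y
  let _ : CommGroup Y :=
    { (inferInstance : Group Y) with
      mul_comm := fun a b => Subtype.ext (hYab a a.2 b b.2) }
  let K : Subgroup G1 := (C(x)).subgroupOf G1
  let T := G1 ⧸ K
  let _ : Fintype T := Fintype.ofFinite T
  -- the cocycle on cosets
  let cb : T → Y := Quotient.lift (fun g : G1 => (⟨c g, g.2⟩ : Y)) (by
    intro a b hab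
    have hab' : a⁻¹ * b ∈ K := QuotientGroup.leftRel_apply.mp hab
    have hk : ((a⁻¹ * b : G1) : G) ∈ C(x) := hab'
    have hk' : ((a⁻¹ * b : G1) : G) * x = x * ((a⁻¹ * b : G1) : G) :=
      Subgroup.mem_centralizer_singleton_iff.mp hk
    apply Subtype.ext
    change c (a : G) = c (b : G)
    have e : (b : G) = (a : G) * ((a⁻¹ * b : G1) : G) := by
      simp
    rw [e, hc_mul, hc_cent _ hk']
    group)
  have hcb : ∀ (g : G1) (τ : T),
      cb (g • τ) = (⟨c g, g.2⟩ : Y) * (MulAut.conjNormal (g : G) : MulAut Y) (cb τ) := by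
    intro g τ
    induction τ using Quotient.inductionOn with
    | h h =>
      apply Subtype.ext
      change c ((g * h : G1) : G) = c (g : G) * ((MulAut.conjNormal (g : G) : MulAut Y) ⟨c h, h.2⟩ : Y)
      rw [MulAut.conjNormal_apply]
      exact hc_mul g h
  let π : Y := ∏ τ : T, cb τ
  let n := Fintype.card T
  have hπ : ∀ g : G1, π = (⟨c g, g.2⟩ : Y) ^ n * (MulAut.conjNormal (g : G) : MulAut Y) π := by
    intro g
    have h1 : ∏ τ : T, cb (g • τ) = π := Equiv.prod_comp (MulAction.toPerm g) cb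
    have h2 : ∏ τ : T, cb (g • τ) =
        (⟨c g, g.2⟩ : Y) ^ n * (MulAut.conjNormal (g : G) : MulAut Y) π := by
      simp only [hcb, Finset.prod_mul_distrib, Finset.prod_const, Finset.card_univ]
      congr 1
      exact (map_prod (MulAut.conjNormal (g : G) : MulAut Y) cb Finset.univ).symm
    exact h1.symm.trans h2
  -- π is fixed by R, hence trivial
  have hπ1 : π = 1 := by
    apply Subtype.ext
    apply hfix _ π.2
    intro ρ hρ
    have hρC : ρ ∈ C(x) := Subgroup.mem_centralizer_singleton_iff.mpr (hRx ρ hρ)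
    have h1 := hπ ⟨ρ, hCG1 hρC⟩
    have h2 : (⟨c ρ, hCG1 hρC⟩ : Y) = 1 := Subtype.ext (hc_cent ρ (hRx ρ hρ))
    rw [h2, one_pow, one_mul] at h1
    have h3 := congrArg (fun y : Y => (y : G)) h1
    simp only [MulAut.conjNormal_apply] at h3
    -- h3 : π = ρ π ρ⁻¹
    calc ρ * (π : G) = ρ * (π : G) * ρ⁻¹ * ρ := by group
      _ = (π : G) * ρ := by rw [← h3]
  -- so `c g ^ n = 1` on G1
  have hcn : ∀ g : G1, c (g : G) ^ n = 1 := by
    intro g
    have h1 := hπ g
    rw [hπ1, map_one, mul_one] at h1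
    have h3 := congrArg (fun y : Y => (y : G)) h1
    simpa using h3.symm
  -- n is coprime to the order of x
  have hn : n.Coprime (orderOf x) := by
    have h1 : n = (C(x)).relIndex G1 := by
      change Fintype.card T = K.index
      rw [Subgroup.index, Nat.card_eq_fintype_card]
    have h2 : (C(x)).relIndex G1 ∣ (C(x)).index := Subgroup.relIndex_dvd_index_of_le hCG1
    exact Nat.Coprime.coprime_dvd_left (h1 ▸ h2) hcop
  obtain ⟨m, hm⟩ := exists_pow_eq_self_of_coprime hn
  -- t ∈ G1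
  have hct : c t = u := by
    simp only [c]; rw [ht, inv_mul_cancel_left]
  have htG1 : t ∈ G1 := by
    change c t ∈ Y
    rw [hct]; exact hu
  have h1 := hcn ⟨t, htG1⟩
  change c t ^ n = 1 at h1
  rw [hct] at h1
  -- t x^n t⁻¹ = x^n
  have hxu : Commute x u := hxY u hu
  have h2 : t * x ^ n * t⁻¹ = x ^ n := by
    have : t * x ^ n * t⁻¹ = (t * x * t⁻¹) ^ n := by
      rw [conj_pow]
    rw [this, ht, hxu.mul_pow, h1, mul_one]
  have h3 : t * x * t⁻¹ = x := by
    have : t * (x ^ n) ^ m * t⁻¹ = (t * x ^ n * t⁻¹) ^ m := by rw [conj_pow]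
    rw [h2, hm] at this
    exact this
  rw [ht] at h3
  exact mul_eq_left.mp h3

end Cfsg.Agent.Lib.Helper12.QBLeaf
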