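import Mathlib
import Cfsg.Prelude.Def_Solvable

/-!
# S4125 (q-Baer groups), leaf QBA5: the norm map on the abelian normal closure
-/

set_option autoImplicit false

namespace Cfsg.Agent.Lib.Helper12.QBLeaf

variable {G : Type*} [Group G] [Finite G]

/-- QBA5. -/
theorem eq_one_of_fixed_of_mem_closure (q r : ℕ) [Fact q.Prime] [Fact r.Prime] (hqr : q ≠ r)
    (y : G) (hy : ∃ k : ℕ, orderOf y = q ^ k)
    (hcomm : ∀ g : G, Commute y (g * y * g⁻¹))
    (R : Subgroup G) (hR : IsPGroup r R) (htr : ∀ g : G, ∃ ρ ∈ R, ρ * y * ρ⁻¹ = g * y * g⁻¹)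
    (u : G) (hu : u ∈ Subgroup.closure {w : G | ∃ g : G, w = y * (g * y * g⁻¹)⁻¹})
    (hfix : ∀ ρ ∈ R, ρ * u = u * ρ) : u = 1 := by
  classical
  obtain ⟨k, hk⟩ := hy
  -- conjugates of y commute pairwise
  have hcc : ∀ g h : G, (g * y * g⁻¹) * (h * y * h⁻¹) = (h * y * h⁻¹) * (g * y * g⁻¹) := by
    intro g h
    have h0 := (hcomm (g⁻¹ * h)).eq
    have e1 : g * y * g⁻¹ * (h * y * h⁻¹) =
        g * (y * (g⁻¹ * h * y * (g⁻¹ * h)⁻¹)) * g⁻¹ := by group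
    have e2 : h * y * h⁻¹ * (g * y * g⁻¹) =
        g * ((g⁻¹ * h * y * (g⁻¹ * h)⁻¹) * y) * g⁻¹ := by group
    rw [e1, e2, h0]
  let Yt : Subgroup G := Subgroup.normalClosure {y}
  have hconj : ∀ w ∈ Group.conjugatesOfSet ({y} : Set G), ∃ g : G, w = g * y * g⁻¹ := by
    intro w hw
    rw [Group.mem_conjugatesOfSet_iff] at hw
    obtain ⟨a, ha, hw⟩ := hw
    rw [Set.mem_singleton_iff] at ha; subst ha
    rw [isConj_iff] at hw
    obtain ⟨c, hc⟩ := hw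
    exact ⟨c, hc.symm⟩
  have hgen : ∀ a ∈ Group.conjugatesOfSet ({y} : Set G),
      ∀ b ∈ Group.conjugatesOfSet ({y} : Set G), a * b = b * a := by
    intro a ha b hb
    obtain ⟨g, rfl⟩ := hconj a ha
    obtain ⟨h, rfl⟩ := hconj b hb
    exact hcc g h
  have hYab : ∀ a ∈ Yt, ∀ b ∈ Yt, a * b = b * a := by
    intro a ha b hb
    have := (Subgroup.closureCommGroupOfComm hgen).mul_comm ⟨a, ha⟩ ⟨b, hb⟩
    exact congrArg Subtype.val this
  have hyYt : ∀ g : G, g * y * g⁻¹ ∈ Yt := by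
    intro g
    exact Subgroup.Normal.conj_mem inferInstance y
      (Subgroup.subset_normalClosure (Set.mem_singleton y)) g
  have hyY : y ∈ Yt := Subgroup.subset_normalClosure (Set.mem_singleton y)
  -- exponent of Yt
  have hexp : ∀ w ∈ Yt, w ^ (q ^ k) = 1 := by
    intro w hw
    induction hw using Subgroup.closure_induction with
    | mem a ha =>
      obtain ⟨g, rfl⟩ := hconj a ha
      rw [conj_pow, ← hk, pow_orderOf_eq_one, mul_one, mul_inv_cancel]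
    | one => exact one_pow _
    | mul a b ha hb iha ihb =>
      have hab : Commute a b := hYab a ha b hb
      rw [hab.mul_pow, iha, ihb, one_mul]
    | inv a ha iha => rw [inv_pow, iha, inv_one]
  -- commutative structure
  let _ : CommGroup Yt :=
    { (inferInstance : Group Yt) with
      mul_comm := fun a b => Subtype.ext (hYab a a.2 b b.2) }
  let _ : Fintype R := Fintype.ofFinite R
  let ν : Yt →* Yt := ∏ ρ : R, ((MulAut.conjNormal ((ρ : R) : G) : MulAut Yt).toMonoidHom)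
  have hν : ∀ w : Yt, ν w = ∏ ρ : R, (MulAut.conjNormal ((ρ : R) : G) : MulAut Yt) w := by
    intro w
    simp only [ν, MonoidHom.finset_prod_apply]
    rfl
  -- ν is constant on conjugates of y
  have hνy : ∀ g : G, ν ⟨g * y * g⁻¹, hyYt g⟩ = ν ⟨y, hyY⟩ := by
    intro g
    obtain ⟨ρ0, hρ0, hρ0y⟩ := htr g
    rw [hν, hν]
    have e : ∀ ρ : R, (MulAut.conjNormal ((ρ : R) : G) : MulAut Yt) ⟨g * y * g⁻¹, hyYt g⟩ =
        (MulAut.conjNormal (((ρ * ⟨ρ0, hρ0⟩ : R) : R) : G) : MulAut Yt) ⟨y, hyY⟩ := by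
      intro ρ
      apply Subtype.ext
      rw [MulAut.conjNormal_apply, MulAut.conjNormal_apply]
      change (ρ : G) * (g * y * g⁻¹) * (ρ : G)⁻¹ = ((ρ : G) * ρ0) * y * ((ρ : G) * ρ0)⁻¹
      rw [← hρ0y]; group
    simp only [e]
    exact Equiv.prod_comp (Equiv.mulRight (⟨ρ0, hρ0⟩ : R))
      (fun σ : R => (MulAut.conjNormal ((σ : R) : G) : MulAut Yt) ⟨y, hyY⟩)
  -- ν kills the closure
  have hkill : ∀ w ∈ Subgroup.closure {w : G | ∃ g : G, w = y * (g * y * g⁻¹)⁻¹},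
      ∃ hw : w ∈ Yt, ν ⟨w, hw⟩ = 1 := by
    intro w hw
    induction hw using Subgroup.closure_induction with
    | mem a ha =>
      obtain ⟨g, rfl⟩ := ha
      refine ⟨Yt.mul_mem hyY (Yt.inv_mem (hyYt g)), ?_⟩
      have e : (⟨y * (g * y * g⁻¹)⁻¹, Yt.mul_mem hyY (Yt.inv_mem (hyYt g))⟩ : Yt) =
          ⟨y, hyY⟩ * (⟨g * y * g⁻¹, hyYt g⟩ : Yt)⁻¹ := rfl
      rw [e, map_mul, map_inv, hνy, mul_inv_cancel]
    | one => exact ⟨Yt.one_mem, map_one ν⟩
    | mul a b ha hb iha ihb =>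
      obtain ⟨ha', ea⟩ := iha
      obtain ⟨hb', eb⟩ := ihb
      refine ⟨Yt.mul_mem ha' hb', ?_⟩
      have e : (⟨a * b, Yt.mul_mem ha' hb'⟩ : Yt) = ⟨a, ha'⟩ * ⟨b, hb'⟩ := rfl
      rw [e, map_mul, ea, eb, one_mul]
    | inv a ha iha =>
      obtain ⟨ha', ea⟩ := iha
      refine ⟨Yt.inv_mem ha', ?_⟩
      have e : (⟨a⁻¹, Yt.inv_mem ha'⟩ : Yt) = (⟨a, ha'⟩ : Yt)⁻¹ := rfl
      rw [e, map_inv, ea, inv_one]
  obtain ⟨huY, hνu⟩ := hkill u hu
  -- ν u = u ^ |R|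
  have hνu' : ν ⟨u, huY⟩ = (⟨u, huY⟩ : Yt) ^ Fintype.card R := by
    rw [hν]
    have e : ∀ ρ : R, (MulAut.conjNormal ((ρ : R) : G) : MulAut Yt) ⟨u, huY⟩ = ⟨u, huY⟩ := by
      intro ρ
      apply Subtype.ext
      rw [MulAut.conjNormal_apply]
      change (ρ : G) * u * (ρ : G)⁻¹ = u
      rw [hfix ρ ρ.2, mul_inv_cancel_right]
    simp only [e, Finset.prod_const, Finset.card_univ]
  have h1 : u ^ Fintype.card R = 1 := by
    have := hνu'.symm.trans hνu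
    exact congrArg Subtype.val this
  have h2 : u ^ (q ^ k) = 1 := hexp u huY
  obtain ⟨j, hj⟩ := IsPGroup.iff_card.mp hR
  rw [← Nat.card_eq_fintype_card, hj] at h1
  have hcop : (r ^ j).Coprime (q ^ k) :=
    Nat.Coprime.pow j k ((Nat.coprime_primes (Fact.out) (Fact.out)).mpr (Ne.symm hqr))
  have h3 : orderOf u ∣ Nat.gcd (r ^ j) (q ^ k) :=
    Nat.dvd_gcd (orderOf_dvd_of_pow_eq_one h1) (orderOf_dvd_of_pow_eq_one h2)
  rw [hcop.gcd_eq_one, Nat.dvd_one] at h3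
  exact orderOf_eq_one_iff.mp h3

end Cfsg.Agent.Lib.Helper12.QBLeaf
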