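import Mathlib

/-!
# S4404 TYPE2, half (b) (helper12): the `φ`-part of `type_two_fixed`, over three structure facts
-/

set_option autoImplicit false

namespace Cfsg.Agent.Lib.Helper12.R3TYPE2B

open scoped commutatorElement

/-- in a commutative group of exponent 3, an automorphism `ψ` with `ψ³ = 1` has a nontrivial fixed point in
the `ψ`-span of any `X ≠ 1` -/
theorem exists_fixed_of_cube {Q : Type*} [Group Q] (hcomm : ∀ p q : Q, p * q = q * p)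
    (hexp : ∀ q : Q, q ^ 3 = 1) (ψ : Q ≃* Q) (hψ3 : ∀ q : Q, ψ (ψ (ψ q)) = q) (X : Q) (hX : X ≠ 1) :
    ∃ q : Q, q ≠ 1 ∧ ψ q = q ∧ (q = X * ψ X * ψ (ψ X) ∨ q = ψ X * X⁻¹ ∨ q = X) := by
  by_cases ht : X * ψ X * ψ (ψ X) = 1
  · by_cases hc : ψ X * X⁻¹ = 1
    · refine ⟨X, hX, ?_, Or.inr (Or.inr rfl)⟩
      exact mul_inv_eq_one.mp hc
    · refine ⟨ψ X * X⁻¹, hc, ?_, Or.inr (Or.inl rfl)⟩
      have h1 : ψ (ψ X) = (X * ψ X)⁻¹ := eq_inv_of_mul_eq_one_right ht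
      have h2 : (ψ X)⁻¹ * (ψ X)⁻¹ = ψ X := by
        have := hexp (ψ X)
        rw [pow_succ, pow_two] at this
        calc (ψ X)⁻¹ * (ψ X)⁻¹ = (ψ X)⁻¹ * (ψ X)⁻¹ * (ψ X * ψ X * ψ X) := by rw [this, mul_one]
          _ = ψ X := by group
      rw [map_mul, map_inv, h1, mul_inv_rev, hcomm (ψ X)⁻¹ X⁻¹, mul_assoc, h2]
      exact hcomm _ _
  · refine ⟨X * ψ X * ψ (ψ X), ht, ?_, Or.inl rfl⟩
    rw [map_mul, map_mul, hψ3]
    rw [hcomm (ψ X * ψ (ψ X)) X, mul_assoc]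

variable {G : Type*} [Group G]

/-- TYPE2, the `φ`-part. -/
theorem type_two_fixed_of (x y z : G) (N : Subgroup G) [N.Normal]
    (hS1 : ∀ g ∈ Subgroup.center G, ∃ k : ℕ, g = z ^ k)
    (hS2 : ∀ a b c : ℕ, x ^ a * y ^ b * z ^ c ∈ N → 3 ∣ a ∧ 3 ∣ b ∧ 3 ∣ c)
    (hS3 : ∀ g : G, g ^ 3 = 1 → ∃ a b : ℕ, g * (x ^ a * y ^ b)⁻¹ ∈ N)
    (hx : x ^ 3 = 1) (hzc : z ∈ Subgroup.center G) (hzo : ∃ m : ℕ, z ^ 3 ^ m = 1)
    (h3 : ∀ g : G, g ^ 3 ∈ N) (hc : ∀ g h : G, ⁅g, h⁆ ∈ N)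
    (φ : G ≃* G) (hφ3 : ∀ g : G, φ (φ (φ g)) = g) (hφN : ∀ g : G, g ∈ N ↔ φ g ∈ N) :
    ∃ g₁ g₂ : G, g₁⁻¹ * φ g₁ ∈ N ∧ g₂⁻¹ * φ g₂ ∈ N ∧ g₁ ∉ N ∧ ∀ k : ℕ, g₂ * g₁ ^ k ∉ N := by
  classical
  -- Part 1: `g₁ = z`
  have hzN : z ∉ N := by
    intro h
    have := (hS2 0 0 1 (by simpa using h)).2.2
    omega
  have hφzc : φ z ∈ Subgroup.center G := by
    rw [Subgroup.mem_center_iff]
    intro g
    have h1 := (Subgroup.mem_center_iff.mp hzc) (φ.symm g)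
    have := congrArg φ h1
    simpa using this
  obtain ⟨k, hk⟩ := hS1 _ hφzc
  have hk3 : z ^ (k * k * k) = z ^ 1 := by
    have h1 : φ (φ z) = z ^ (k * k) := by rw [hk, map_pow, hk, ← pow_mul]
    have h2 : φ (φ (φ z)) = z ^ (k * k * k) := by rw [h1, map_pow, hk, ← pow_mul, mul_comm k (k * k)]
    rw [hφ3] at h2
    rw [pow_one]
    exact h2.symm
  obtain ⟨m, hm⟩ := hzo
  have hz1 : z ≠ 1 := fun h => hzN (h ▸ N.one_mem)
  have h3o : 3 ∣ orderOf z := by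
    have hdvd : orderOf z ∣ 3 ^ m := orderOf_dvd_of_pow_eq_one hm
    obtain ⟨j, -, hj⟩ := (Nat.dvd_prime_pow Nat.prime_three).mp hdvd
    have hj0 : j ≠ 0 := by
      rintro rfl
      rw [pow_zero, orderOf_eq_one_iff] at hj
      exact hz1 hj
    rw [hj]
    exact dvd_pow_self 3 hj0
  have hmod : k * k * k ≡ 1 [MOD orderOf z] := pow_eq_pow_iff_modEq.mp hk3
  have hmod3 : k * k * k ≡ 1 [MOD 3] := hmod.of_dvd h3o
  have hk1 : k % 3 = 1 := by
    have h4 : ((k * k * k : ℕ) : ZMod 3) = ((1 : ℕ) : ZMod 3) :=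
      (ZMod.natCast_eq_natCast_iff _ _ _).mpr hmod3
    have h5 : ∀ a : ZMod 3, a * a * a = a := by decide
    rw [Nat.cast_mul, Nat.cast_mul, h5] at h4
    have h6 := (ZMod.natCast_eq_natCast_iff' _ _ _).mp h4
    rw [h6]
  have hg1 : z⁻¹ * φ z ∈ N := by
    have hk' : k = 3 * (k / 3) + 1 := by omega
    rw [hk, hk', pow_succ, pow_mul]
    have : z⁻¹ * ((z ^ 3) ^ (k / 3) * z) = (z ^ (k / 3)) ^ 3 := by
      have hcm : Commute z ((z ^ 3) ^ (k / 3)) := (Commute.refl z).pow_right _ |>.pow_right _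
      rw [← hcm.eq, inv_mul_cancel_left, ← pow_mul, ← pow_mul, mul_comm]
    rw [this]
    exact h3 _
  -- Part 2: the quotient
  set π := QuotientGroup.mk' N with hπ
  have hmapN : N.map (φ : G →* G) = N := by
    ext g
    constructor
    · rintro ⟨n, hn, rfl⟩
      exact (hφN n).mp hn
    · intro hg
      refine ⟨φ.symm g, (hφN _).mpr ?_, ?_⟩
      · simpa using hg
      · simp
  set φb := QuotientGroup.congr N N φ hmapN with hφb
  have hφbπ : ∀ g : G, φb (π g) = π (φ g) := fun g => rfl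
  have hcomm : ∀ p q : G ⧸ N, p * q = q * p := by
    intro p q
    obtain ⟨g, rfl⟩ := QuotientGroup.mk'_surjective N p
    obtain ⟨h, rfl⟩ := QuotientGroup.mk'_surjective N q
    have : ⁅π g, π h⁆ = 1 := by
      rw [← map_commutatorElement]
      exact (QuotientGroup.eq_one_iff _).mpr (hc g h)
    exact commutatorElement_eq_one_iff_mul_comm.mp this
  have hexp : ∀ q : G ⧸ N, q ^ 3 = 1 := by
    intro q
    obtain ⟨g, rfl⟩ := QuotientGroup.mk'_surjective N q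
    rw [← map_pow]
    exact (QuotientGroup.eq_one_iff _).mpr (h3 g)
  have hφb3 : ∀ q : G ⧸ N, φb (φb (φb q)) = q := by
    intro q
    obtain ⟨g, rfl⟩ := QuotientGroup.mk'_surjective N q
    rw [hφbπ, hφbπ, hφbπ, hφ3]
  set X := π x with hX
  set Y := π y with hY
  -- the span of `X, Y`
  let InB : G ⧸ N → Prop := fun q => ∃ a c : ℕ, q = X ^ a * Y ^ c
  have hBmul : ∀ p q, InB p → InB q → InB (p * q) := by
    rintro _ _ ⟨a, c, rfl⟩ ⟨a', c', rfl⟩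
    refine ⟨a + a', c + c', ?_⟩
    have hYX : Commute (Y ^ c) (X ^ a') := hcomm _ _
    rw [hYX.mul_mul_mul_comm, ← pow_add, ← pow_add]
  have hBinv : ∀ p, InB p → InB p⁻¹ := by
    intro p hp
    have : p⁻¹ = p * p := by
      have := hexp p
      rw [pow_succ, pow_two] at this
      exact inv_eq_of_mul_eq_one_right (by rw [← mul_assoc]; exact this) |>.trans (by rfl)
    rw [this]
    exact hBmul p p hp hp
  have hBX : InB X := ⟨1, 0, by simp⟩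
  have hBφ : ∀ g : G, g ^ 3 = 1 → InB (π g) := by
    intro g hg
    obtain ⟨a, c, hac⟩ := hS3 g hg
    refine ⟨a, c, ?_⟩
    have h0 : π (g * (x ^ a * y ^ c)⁻¹) = 1 := (QuotientGroup.eq_one_iff _).mpr hac
    rw [map_mul, map_inv, mul_inv_eq_one] at h0
    rw [h0, map_mul, map_pow, map_pow]
  have hBφX : InB (φb X) := by
    rw [hX, hφbπ]
    apply hBφ
    rw [← map_pow, hx, map_one]
  have hBφφX : InB (φb (φb X)) := by
    rw [hX, hφbπ, hφbπ]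
    apply hBφ
    rw [← map_pow, ← map_pow, hx, map_one, map_one]
  have hX1 : X ≠ 1 := by
    intro h
    have hxN : x ∈ N := (QuotientGroup.eq_one_iff x).mp h
    have := (hS2 1 0 0 (by simpa using hxN)).1
    omega
  obtain ⟨q, hq1, hqfix, hqform⟩ := exists_fixed_of_cube hcomm hexp φb hφb3 X hX1
  have hqB : InB q := by
    rcases hqform with rfl | rfl | rfl
    · exact hBmul _ _ (hBmul _ _ hBX hBφX) hBφφX
    · exact hBmul _ _ hBφX (hBinv _ hBX)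
    · exact hBX
  obtain ⟨a, c, hac⟩ := hqB
  refine ⟨z, x ^ a * y ^ c, hg1, ?_, hzN, ?_⟩
  · apply (QuotientGroup.eq_one_iff _).mp
    have hπg : π (x ^ a * y ^ c) = q := by rw [hac, map_mul, map_pow, map_pow]
    have : π ((x ^ a * y ^ c)⁻¹ * φ (x ^ a * y ^ c)) = q⁻¹ * φb q := by
      rw [map_mul, map_inv, hπg, ← hφbπ, hπg]
    show π ((x ^ a * y ^ c)⁻¹ * φ (x ^ a * y ^ c)) = 1
    rw [this, hqfix, inv_mul_cancel]
  · intro k hk
    obtain ⟨h1, h2, -⟩ := hS2 a c k hk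
    apply hq1
    obtain ⟨a', rfl⟩ := h1
    obtain ⟨c', rfl⟩ := h2
    rw [hac, pow_mul, pow_mul, hexp, hexp, one_pow, one_pow, one_mul]

/-- `z` is central when it commutes with the other two generators -/
theorem z_mem_center (x y z : G) (hgen : Subgroup.closure ({x, y, z} : Set G) = ⊤)
    (hxz : x * z = z * x) (hyz : y * z = z * y) : z ∈ Subgroup.center G := by
  have h1 : Subgroup.closure ({x, y, z} : Set G) ≤ Subgroup.centralizer ({z} : Set G) := by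
    rw [Subgroup.closure_le]
    intro g hg
    rw [SetLike.mem_coe, Subgroup.mem_centralizer_iff]
    intro w hw
    rw [Set.mem_singleton_iff] at hw
    subst hw
    rcases hg with rfl | rfl | rfl
    · exact hxz.symm
    · exact hyz.symm
    · rfl
  rw [hgen] at h1
  rw [Subgroup.mem_center_iff]
  intro g
  have := h1 (Subgroup.mem_top g)
  rw [Subgroup.mem_centralizer_iff] at this
  exact (this z rfl).symm

/-- TYPE2 with the frozen hypotheses of `notes/S4404_leaves2.lean`, over the three structure facts. -/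
theorem type_two_fixed_of' (n : ℕ) (x y z : G)
    (hgen : Subgroup.closure ({x, y, z} : Set G) = ⊤)
    (hx : x ^ 3 = 1) (hz : z ^ 3 ^ (n - 2) = 1) (hxz : x * z = z * x)
    (hyz : y * z = z * y)
    (N : Subgroup G) [N.Normal] (h3 : ∀ g : G, g ^ 3 ∈ N) (hc : ∀ g h : G, ⁅g, h⁆ ∈ N)
    (φ : G ≃* G) (hφ3 : ∀ g : G, φ (φ (φ g)) = g)
    (hφN : ∀ g : G, g ∈ N ↔ φ g ∈ N)
    (hS1 : ∀ g ∈ Subgroup.center G, ∃ k : ℕ, g = z ^ k)
    (hS2 : ∀ a b c : ℕ, x ^ a * y ^ b * z ^ c ∈ N → 3 ∣ a ∧ 3 ∣ b ∧ 3 ∣ c)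
    (hS3 : ∀ g : G, g ^ 3 = 1 → ∃ a b : ℕ, g * (x ^ a * y ^ b)⁻¹ ∈ N) :
    ∃ g₁ g₂ : G, g₁⁻¹ * φ g₁ ∈ N ∧ g₂⁻¹ * φ g₂ ∈ N ∧ g₁ ∉ N ∧ ∀ k : ℕ, g₂ * g₁ ^ k ∉ N :=
  type_two_fixed_of x y z N hS1 hS2 hS3 hx (z_mem_center x y z hgen hxz hyz) ⟨n - 2, hz⟩ h3 hc φ hφ3 hφN

end Cfsg.Agent.Lib.Helper12.R3TYPE2B
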