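import Mathlib
import Cfsg.Prelude.Def_CaseTheorems
import Cfsg.Prelude.Def_OddOrderLocal
import Cfsg.Agent.S3888

/-!
# S5289 leaf R5D: rank ≤ 2, `p ≥ 5`, not metacyclic ⟹ class ≤ 3 and commutators of order ≤ p
(read off the landed Blackburn classification `Cfsg.Agent.S3888.result`)
-/

set_option autoImplicit false
open scoped commutatorElement

namespace Cfsg.Agent.Lib.Helper12.R5Leaf

section aux
variable {R : Type*} [Group R]

/-- bilinearity of commutators modulo a normal subgroup -/
theorem commutator_mem_of_gens (N : Subgroup R) (hN : ∀ n ∈ N, ∀ g : R, g * n * g⁻¹ ∈ N)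
    (S₁ S₂ : Set R) (h : ∀ a ∈ S₁, ∀ b ∈ S₂, ⁅a, b⁆ ∈ N) :
    ∀ a ∈ Subgroup.closure S₁, ∀ b ∈ Subgroup.closure S₂, ⁅a, b⁆ ∈ N := by
  have step1 : ∀ b ∈ S₂, ∀ a ∈ Subgroup.closure S₁, ⁅a, b⁆ ∈ N := by
    intro b hb a ha
    induction ha using Subgroup.closure_induction with
    | mem a ha => exact h a ha b hb
    | one => rw [commutatorElement_one_left]; exact N.one_mem
    | mul a1 a2 _ _ ih1 ih2 =>
      have e : ⁅a1 * a2, b⁆ = a1 * ⁅a2, b⁆ * a1⁻¹ * ⁅a1, b⁆ := by
        simp only [commutatorElement_def]; group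
      rw [e]; exact N.mul_mem (hN _ ih2 a1) ih1
    | inv a _ ih =>
      have e : ⁅a⁻¹, b⁆ = a⁻¹ * ⁅a, b⁆⁻¹ * a⁻¹⁻¹ := by
        simp only [commutatorElement_def]; group
      rw [e]; exact hN _ (N.inv_mem ih) a⁻¹
  intro a ha b hb
  induction hb using Subgroup.closure_induction with
  | mem b hb => exact step1 b hb a ha
  | one => rw [commutatorElement_one_right]; exact N.one_mem
  | mul b1 b2 _ _ ih1 ih2 =>
    have e : ⁅a, b1 * b2⁆ = ⁅a, b1⁆ * (b1 * ⁅a, b2⁆ * b1⁻¹) := by
      simp only [commutatorElement_def]; group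
    rw [e]; exact N.mul_mem ih1 (hN _ ih2 b1)
  | inv b _ ih =>
    have e : ⁅a, b⁻¹⁆ = b⁻¹ * ⁅a, b⁆⁻¹ * b⁻¹⁻¹ := by
      simp only [commutatorElement_def]; group
    rw [e]; exact hN _ (N.inv_mem ih) b⁻¹

/-- an element commuting with a generating set is central -/
theorem central_of_gens {S : Set R} (hS : Subgroup.closure S = ⊤) {c : R}
    (h : ∀ s ∈ S, s * c = c * s) : ∀ g : R, g * c = c * g := by
  intro g
  have hg : g ∈ Subgroup.closure S := hS ▸ Subgroup.mem_top g
  induction hg using Subgroup.closure_induction with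
  | mem a ha => exact h a ha
  | one => simp
  | mul a b _ _ iha ihb => rw [mul_assoc, ihb, ← mul_assoc, iha, mul_assoc]
  | inv a _ iha =>
    calc a⁻¹ * c = a⁻¹ * (c * a) * a⁻¹ := by group
      _ = a⁻¹ * (a * c) * a⁻¹ := by rw [iha]
      _ = c * a⁻¹ := by group

/-- the generating set with `x` replaced by its inverse -/
theorem closure_inv_gen {x y z : R} (h : Subgroup.closure ({x, y, z} : Set R) = ⊤) :
    Subgroup.closure ({x⁻¹, y, z} : Set R) = ⊤ := by
  rw [eq_top_iff, ← h, Subgroup.closure_le]
  intro a ha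
  simp only [Set.mem_insert_iff, Set.mem_singleton_iff] at ha
  rcases ha with rfl | rfl | rfl
  · have : a⁻¹ ∈ Subgroup.closure ({a⁻¹, y, z} : Set R) := Subgroup.subset_closure (by simp)
    simpa using Subgroup.inv_mem _ this
  · exact Subgroup.subset_closure (by simp)
  · exact Subgroup.subset_closure (by simp)

/-- the final step: a central series `1 ≤ C₁ ≤ B` with `R' ≤ B`, `[B, R] ≤ C₁` and `B` of
exponent `p`. -/
theorem final {p : ℕ} (C₁ B : Subgroup R) (hC₁ : ∀ c ∈ C₁, ∀ g : R, g * c = c * g)
    (hRB : ∀ a b : R, ⁅a, b⁆ ∈ B) (hBC : ∀ b ∈ B, ∀ g : R, ⁅b, g⁆ ∈ C₁)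
    (hexp : ∀ b ∈ B, b ^ p = 1) :
    ⁅⁅commutator R, (⊤ : Subgroup R)⁆, (⊤ : Subgroup R)⁆ = ⊥ ∧ ∀ x y : R, ⁅x, y⁆ ^ p = 1 := by
  refine ⟨?_, fun x y => hexp _ (hRB x y)⟩
  have h1 : commutator R ≤ B := by
    rw [commutator_def, Subgroup.commutator_le]
    intro a _ b _; exact hRB a b
  have h2 : ⁅commutator R, (⊤ : Subgroup R)⁆ ≤ C₁ := by
    rw [Subgroup.commutator_le]
    intro a ha b _; exact hBC a (h1 ha) b
  rw [eq_bot_iff, Subgroup.commutator_le]
  intro a ha b _
  rw [Subgroup.mem_bot, commutatorElement_eq_one_iff_commute]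
  exact (hC₁ a (h2 ha) b).symm

end aux

/-- R5D -/
theorem class_three_of_rank_two {R : Type*} [Group R] [Finite R] {p : ℕ} [Fact p.Prime] (hp : 3 < p)
    (hR : IsPGroup p R) (hrk : Cfsg.PRankLE p 2 R) (hnm : ¬ Cfsg.IsMetacyclic R) :
    ⁅⁅commutator R, (⊤ : Subgroup R)⁆, (⊤ : Subgroup R)⁆ = ⊥ ∧ ∀ x y : R, ⁅x, y⁆ ^ p = 1 := by
  obtain ⟨n, hn⟩ := IsPGroup.iff_card.mp hR
  have hp2 : p ≠ 2 := by omega
  rcases Cfsg.Agent.S3888.result hp2 n hn hrk with h1 | h2 | h3 | h4
  · exact absurd h1 hnm
  · -- case 2: class ≤ 2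
    obtain ⟨hn3, x, y, z, hgen, hx, hy, hz, hxz, hyz, hxy⟩ := h2
    have hzc : ∀ g : R, g * z = z * g := by
      apply central_of_gens hgen
      intro s hs
      simp only [Set.mem_insert_iff, Set.mem_singleton_iff] at hs
      rcases hs with rfl | rfl | rfl
      · exact hxz
      · exact hyz
      · rfl
    set c := z ^ p ^ (n - 3) with hc
    have hcc : ∀ g : R, g * c = c * g := fun g => ((Commute.pow_right (hzc g) _ : Commute g c)).eq
    have hcp : c ^ p = 1 := by
      rw [hc, ← pow_mul, ← pow_succ]
      have : n - 3 + 1 = n - 2 := by omega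
      rw [this, hz]
    have hC₁ : ∀ d ∈ Subgroup.zpowers c, ∀ g : R, g * d = d * g := by
      intro d hd g
      obtain ⟨i, rfl⟩ := Subgroup.mem_zpowers_iff.mp hd
      exact ((Commute.zpow_right (hcc g) i : Commute g (c ^ i))).eq
    have hN : ∀ d ∈ Subgroup.zpowers c, ∀ g : R, g * d * g⁻¹ ∈ Subgroup.zpowers c := by
      intro d hd g
      rw [hC₁ d hd g, mul_inv_cancel_right]; exact hd
    have hgen' := closure_inv_gen hgen
    have hcz : c ∈ Subgroup.zpowers c := Subgroup.mem_zpowers c
    have hxy' : ⁅x⁻¹, y⁆ = c := by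
      rw [commutatorElement_def, inv_inv, hxy, hcc y, mul_inv_cancel_right]
    have hpairs : ∀ a ∈ ({x⁻¹, y, z} : Set R), ∀ b ∈ ({x⁻¹, y, z} : Set R),
        ⁅a, b⁆ ∈ Subgroup.zpowers c := by
      intro a ha b hb
      simp only [Set.mem_insert_iff, Set.mem_singleton_iff] at ha hb
      rcases ha with rfl | rfl | rfl <;> rcases hb with rfl | rfl | rfl
      · rw [commutatorElement_self]; exact Subgroup.one_mem _
      · rw [hxy']; exact hcz
      · rw [commutatorElement_eq_one_iff_commute.mpr (hzc _)]; exact Subgroup.one_mem _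
      · rw [← commutatorElement_inv, hxy']; exact Subgroup.inv_mem _ hcz
      · rw [commutatorElement_self]; exact Subgroup.one_mem _
      · rw [commutatorElement_eq_one_iff_commute.mpr (hzc _)]; exact Subgroup.one_mem _
      · rw [commutatorElement_eq_one_iff_commute.mpr (hzc _).symm]; exact Subgroup.one_mem _
      · rw [commutatorElement_eq_one_iff_commute.mpr (hzc _).symm]; exact Subgroup.one_mem _
      · rw [commutatorElement_self]; exact Subgroup.one_mem _
    have hall : ∀ a b : R, ⁅a, b⁆ ∈ Subgroup.zpowers c := by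
      intro a b
      exact commutator_mem_of_gens _ hN _ _ hpairs a (hgen' ▸ Subgroup.mem_top a) b
        (hgen' ▸ Subgroup.mem_top b)
    refine final (Subgroup.zpowers c) (Subgroup.zpowers c) hC₁ hall ?_ ?_
    · intro b hb g
      rw [commutatorElement_eq_one_iff_commute.mpr (hC₁ b hb g).symm]
      exact Subgroup.one_mem _
    · intro b hb
      obtain ⟨i, rfl⟩ := Subgroup.mem_zpowers_iff.mp hb
      rw [← zpow_natCast, ← zpow_mul, mul_comm, zpow_mul, zpow_natCast, hcp, one_zpow]
  · -- case 3: class ≤ 3
    obtain ⟨hn4, s, x, y, z, _, hgen, hx, hy, hz, hyz, hxy, hxz⟩ := h3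
    set c := z ^ (s * p ^ (n - 3)) with hc
    have hcp : c ^ p = 1 := by
      rw [hc, ← pow_mul, mul_assoc, ← pow_succ]
      have : n - 3 + 1 = n - 2 := by omega
      rw [this, mul_comm, pow_mul, hz, one_pow]
    have hyzc : Commute y z := hyz
    have hcy : Commute y c := hyzc.pow_right _
    have hcz : Commute z c := (Commute.refl z).pow_right _
    -- x⁻¹ c x = c
    have hcx : x⁻¹ * c * x = c := by
      have e1 : x⁻¹ * c * x = (x⁻¹ * z * x) ^ (s * p ^ (n - 3)) := by
        rw [hc]
        have := conj_pow (a := x⁻¹) (b := z) (i := s * p ^ (n - 3))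
        rw [inv_inv] at this
        exact this.symm
      rw [e1, hxz, hyzc.mul_pow]
      have e2 : y ^ (s * p ^ (n - 3)) = 1 := by
        have : n - 3 = (n - 4) + 1 := by omega
        rw [this, pow_succ, ← mul_assoc, mul_comm, pow_mul, hy, one_pow]
      rw [e2, one_mul]
    have hcc : ∀ g : R, g * c = c * g := by
      apply central_of_gens hgen
      intro t ht
      simp only [Set.mem_insert_iff, Set.mem_singleton_iff] at ht
      rcases ht with rfl | rfl | rfl
      · calc t * c = t * (t⁻¹ * c * t) := by rw [hcx]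
          _ = c * t := by group
      · exact hcy.eq
      · exact hcz.eq
    have hC₁ : ∀ d ∈ Subgroup.zpowers c, ∀ g : R, g * d = d * g := by
      intro d hd g
      obtain ⟨i, rfl⟩ := Subgroup.mem_zpowers_iff.mp hd
      exact ((Commute.zpow_right (hcc g) i : Commute g (c ^ i))).eq
    have hN₁ : ∀ d ∈ Subgroup.zpowers c, ∀ g : R, g * d * g⁻¹ ∈ Subgroup.zpowers c := by
      intro d hd g
      rw [hC₁ d hd g, mul_inv_cancel_right]; exact hd
    have hgen' := closure_inv_gen hgen
    -- B
    set B : Subgroup R := Subgroup.closure ({y, c} : Set R) with hB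
    have hyB : y ∈ B := Subgroup.subset_closure (by simp)
    have hcB : c ∈ B := Subgroup.subset_closure (by simp)
    have hC₁B : Subgroup.zpowers c ≤ B := by
      rw [Subgroup.zpowers_le]; exact hcB
    have hBcomm : ∀ a ∈ B, ∀ b ∈ B, a * b = b * a := by
      have hk : ∀ a ∈ ({y, c} : Set R), ∀ b ∈ ({y, c} : Set R), a * b = b * a := by
        intro a ha b hb
        simp only [Set.mem_insert_iff, Set.mem_singleton_iff] at ha hb
        rcases ha with rfl | rfl <;> rcases hb with rfl | rfl
        · rfl
        · exact hcy.eq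
        · exact hcy.eq.symm
        · rfl
      intro a ha b hb
      have := (Subgroup.isMulCommutative_closure hk).is_comm.comm ⟨a, ha⟩ ⟨b, hb⟩
      exact congrArg Subtype.val this
    have hBexp : ∀ b ∈ B, b ^ p = 1 := by
      intro b hb
      induction hb using Subgroup.closure_induction with
      | mem a ha =>
        simp only [Set.mem_insert_iff, Set.mem_singleton_iff] at ha
        rcases ha with rfl | rfl
        · exact hy
        · exact hcp
      | one => exact one_pow _
      | mul a b ha hb iha ihb =>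
        have hab : Commute a b := hBcomm a ha b hb
        rw [hab.mul_pow, iha, ihb, one_mul]
      | inv a _ iha => rw [inv_pow, iha, inv_one]
    -- conjugation by x⁻¹ and x on y
    have hy1 : x⁻¹ * y * x⁻¹⁻¹ = y * c := by rw [inv_inv]; exact hxy
    have hy2 : x * y * x⁻¹ = y * c⁻¹ := by
      have : y = x * (y * c) * x⁻¹ := by rw [← hxy]; group
      calc x * y * x⁻¹ = x * (y * c) * x⁻¹ * c⁻¹ := by
            rw [← mul_assoc x y c, mul_assoc (x * y) c x⁻¹, ← hcc x⁻¹]; group
        _ = y * c⁻¹ := by rw [← this]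
    -- B is normal
    have hconjB : ∀ g : R, (∀ t ∈ ({y, c} : Set R), g * t * g⁻¹ ∈ B) → ∀ b ∈ B, g * b * g⁻¹ ∈ B := by
      intro g hg b hb
      induction hb using Subgroup.closure_induction with
      | mem a ha => exact hg a ha
      | one => simp [B.one_mem]
      | mul a b _ _ iha ihb =>
        have e : g * (a * b) * g⁻¹ = (g * a * g⁻¹) * (g * b * g⁻¹) := by group
        rw [e]; exact B.mul_mem iha ihb
      | inv a _ iha =>
        have e : g * a⁻¹ * g⁻¹ = (g * a * g⁻¹)⁻¹ := by group
        rw [e]; exact B.inv_mem iha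
    have hcconj : ∀ g : R, g * c * g⁻¹ = c := fun g => by rw [hcc g, mul_inv_cancel_right]
    have hNB : ∀ b ∈ B, ∀ g : R, g * b * g⁻¹ ∈ B := by
      -- the set of g normalising B in both directions is everything
      have key : ∀ g : R, (∀ b ∈ B, g * b * g⁻¹ ∈ B) ∧ (∀ b ∈ B, g⁻¹ * b * g⁻¹⁻¹ ∈ B) := by
        intro g
        have hg : g ∈ Subgroup.closure ({x, y, z} : Set R) := hgen ▸ Subgroup.mem_top g
        induction hg using Subgroup.closure_induction with
        | mem a ha =>
          simp only [Set.mem_insert_iff, Set.mem_singleton_iff] at ha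
          rcases ha with rfl | rfl | rfl
          · constructor
            · apply hconjB
              intro t ht
              simp only [Set.mem_insert_iff, Set.mem_singleton_iff] at ht
              rcases ht with rfl | rfl
              · rw [hy2]; exact B.mul_mem hyB (B.inv_mem hcB)
              · rw [hcconj]; exact hcB
            · apply hconjB
              intro t ht
              simp only [Set.mem_insert_iff, Set.mem_singleton_iff] at ht
              rcases ht with rfl | rfl
              · rw [hy1]; exact B.mul_mem hyB hcB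
              · rw [hcconj]; exact hcB
          · constructor
            · apply hconjB
              intro t ht
              simp only [Set.mem_insert_iff, Set.mem_singleton_iff] at ht
              rcases ht with rfl | rfl
              · simp [hyB]
              · rw [hcconj]; exact hcB
            · apply hconjB
              intro t ht
              simp only [Set.mem_insert_iff, Set.mem_singleton_iff] at ht
              rcases ht with rfl | rfl
              · simp [hyB]
              · rw [hcconj]; exact hcB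
          · constructor
            · apply hconjB
              intro t ht
              simp only [Set.mem_insert_iff, Set.mem_singleton_iff] at ht
              rcases ht with rfl | rfl
              · rw [← hyzc.eq, mul_inv_cancel_right]; exact hyB
              · rw [hcconj]; exact hcB
            · apply hconjB
              intro t ht
              simp only [Set.mem_insert_iff, Set.mem_singleton_iff] at ht
              rcases ht with rfl | rfl
              · rw [inv_inv, ← hyzc.inv_right.eq, inv_mul_cancel_right]; exact hyB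
              · rw [hcconj]; exact hcB
        | one =>
          constructor <;> intro b hb <;> simpa using hb
        | mul a b _ _ iha ihb =>
          constructor
          · intro t ht
            have e : a * b * t * (a * b)⁻¹ = a * (b * t * b⁻¹) * a⁻¹ := by group
            rw [e]; exact iha.1 _ (ihb.1 t ht)
          · intro t ht
            have e : (a * b)⁻¹ * t * (a * b)⁻¹⁻¹ = b⁻¹ * (a⁻¹ * t * a⁻¹⁻¹) * b⁻¹⁻¹ := by group
            rw [e]; exact ihb.2 _ (iha.2 t ht)
        | inv a _ iha => exact ⟨iha.2, by simpa using iha.1⟩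
      intro b hb g
      exact (key g).1 b hb
    -- R' ≤ B
    have hxy' : ⁅x⁻¹, y⁆ = c := by
      rw [commutatorElement_def, inv_inv, hxy, hcy.eq, mul_inv_cancel_right]
    have hxz' : ⁅x⁻¹, z⁆ = y := by
      rw [commutatorElement_def, inv_inv, hxz, mul_inv_cancel_right]
    have hpairs : ∀ a ∈ ({x⁻¹, y, z} : Set R), ∀ b ∈ ({x⁻¹, y, z} : Set R), ⁅a, b⁆ ∈ B := by
      intro a ha b hb
      simp only [Set.mem_insert_iff, Set.mem_singleton_iff] at ha hb
      rcases ha with rfl | rfl | rfl <;> rcases hb with rfl | rfl | rfl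
      · rw [commutatorElement_self]; exact Subgroup.one_mem _
      · rw [hxy']; exact hcB
      · rw [hxz']; exact hyB
      · rw [← commutatorElement_inv, hxy']; exact Subgroup.inv_mem _ hcB
      · rw [commutatorElement_self]; exact Subgroup.one_mem _
      · rw [commutatorElement_eq_one_iff_commute.mpr hyzc]; exact Subgroup.one_mem _
      · rw [← commutatorElement_inv, hxz']; exact Subgroup.inv_mem _ hyB
      · rw [commutatorElement_eq_one_iff_commute.mpr hyzc.symm]; exact Subgroup.one_mem _
      · rw [commutatorElement_self]; exact Subgroup.one_mem _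
    have hall : ∀ a b : R, ⁅a, b⁆ ∈ B := by
      intro a b
      exact commutator_mem_of_gens _ hNB _ _ hpairs a (hgen' ▸ Subgroup.mem_top a) b
        (hgen' ▸ Subgroup.mem_top b)
    -- [B, R] ≤ C₁
    have hpairs2 : ∀ a ∈ ({y, c} : Set R), ∀ b ∈ ({x⁻¹, y, z} : Set R),
        ⁅a, b⁆ ∈ Subgroup.zpowers c := by
      intro a ha b hb
      simp only [Set.mem_insert_iff, Set.mem_singleton_iff] at ha hb
      rcases ha with rfl | rfl
      · rcases hb with rfl | rfl | rfl
        · rw [← commutatorElement_inv, hxy']; exact Subgroup.inv_mem _ (Subgroup.mem_zpowers c)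
        · rw [commutatorElement_self]; exact Subgroup.one_mem _
        · rw [commutatorElement_eq_one_iff_commute.mpr hyzc]; exact Subgroup.one_mem _
      · rw [commutatorElement_eq_one_iff_commute.mpr (hcc b).symm]; exact Subgroup.one_mem _
    have hBC : ∀ b ∈ B, ∀ g : R, ⁅b, g⁆ ∈ Subgroup.zpowers c := by
      intro b hb g
      exact commutator_mem_of_gens _ hN₁ _ _ hpairs2 b hb g (hgen' ▸ Subgroup.mem_top g)
    exact final (Subgroup.zpowers c) B hC₁ hall hBC hBexp
  · omega

end Cfsg.Agent.Lib.Helper12.R5Leaf
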