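/-
helper12: shared vocabulary for S4865 (Isaacs–Navarro: McKay-type bijection between the real
irreducible characters of `G` and the real irreducible characters of `p'`-degree of `N_G(P)`).
-/
import Mathlib
import Cfsg.Prelude.Def_Blocks

set_option autoImplicit false

namespace Cfsg.Agent.Lib.Helper12.RealM

open Cfsg

universe u

/-- `η` is the `g`-conjugate of `θ` (functions on a subgroup `K` of `G`): `η (g k g⁻¹) = θ k`. -/
def CB {G : Type u} [Group G] (K : Subgroup G) (g : G) (θ η : ↥K → ℂ) : Prop :=
  ∀ k k' : ↥K, (k' : G) = g * (k : G) * g⁻¹ → η k' = θ k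

/-- real-valued -/
def IsRe {X : Type u} (f : X → ℂ) : Prop := ∀ x : X, (f x).im = 0

end Cfsg.Agent.Lib.Helper12.RealM
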