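/-
helper12: S4865 spine, part A: conversions between `CB` and `conjFun`, the stabilizer subgroups and the
two degree formulas in index form.
-/
import Mathlib
import Cfsg.Agent.Lib.Helper12.RealPDefs
import Cfsg.Agent.Lib.Helper12.RealNDefs
import Cfsg.Agent.Lib.Helper12.RealMDefs
import Cfsg.Agent.Lib.Helper6.Clifford
import Cfsg.Agent.Lib.Helper6.CliffordCorr
import Cfsg.Agent.Lib.Helper2.GlaubReal
import Cfsg.Agent.Lib.Helper6.RealMM3
import Cfsg.Agent.Lib.Helper6.RealMM9d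

set_option autoImplicit false

namespace Cfsg.Agent.Lib.Helper12.RealM

open Cfsg Cfsg.Agent.Lib.Helper6 Cfsg.Agent.Lib.Helper12.RealP Cfsg.Agent.Lib.Helper12.RealN
open Cfsg.Agent.Lib.Helper2.Glaub

universe u

variable {G : Type u} [Group G]

/-- `CB` versus helper6's `conjFun` on a normal subgroup. -/
theorem CB_iff_conjFun (K : Subgroup G) [hK : K.Normal] (g : G) (θ η : ↥K → ℂ) :
    CB K g θ η ↔ η = Helper6.conjFun K g⁻¹ θ := by
  constructor
  · intro h
    funext k'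
    rw [conjFun_apply]
    exact h ⟨g⁻¹ * (k' : G) * g⁻¹⁻¹, hK.conj_mem k' k'.2 g⁻¹⟩ k' (by simp only []; group)
  · rintro rfl k k' hk
    rw [conjFun_apply]
    congr 1
    apply Subtype.ext
    simp only [hk]
    group

theorem CB_of_conjFun_eq (K : Subgroup G) [hK : K.Normal] (g : G) (θ η : ↥K → ℂ)
    (h : Helper6.conjFun K g θ = η) : CB K g⁻¹ θ η := by
  rw [CB_iff_conjFun, inv_inv, h]

theorem CB_self_iff (K : Subgroup G) [hK : K.Normal] (g : G) (θ : ↥K → ℂ) :
    CB K g θ θ ↔ Helper6.conjFun K g θ = θ := by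
  rw [CB_iff_conjFun]
  constructor
  · intro h
    have := congrArg (Helper6.conjFun K g) h
    rw [conjFun_conjFun_inv] at this
    exact this
  · intro h
    have := congrArg (Helper6.conjFun K g⁻¹) h
    rw [conjFun_inv_conjFun] at this
    exact this

theorem isRe_of_CB (K : Subgroup G) [hK : K.Normal] (g : G) (θ η : ↥K → ℂ) (h : CB K g θ η)
    (hθ : IsRe θ) : IsRe η := by
  rw [CB_iff_conjFun] at h
  intro k
  rw [h, conjFun_apply]
  exact hθ _

/-- For a normal subgroup, `invSub` is the stabilizer. -/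
theorem mem_invSub_iff_conjFun (K : Subgroup G) [hK : K.Normal] (θ : ↥K → ℂ) (g : G) :
    g ∈ invSub K θ ↔ Helper6.conjFun K g θ = θ := by
  rw [← CB_self_iff]
  constructor
  · intro h; exact h.2
  · intro h
    refine ⟨?_, h⟩
    rw [Subgroup.normalizer_eq_top]
    exact Subgroup.mem_top g


variable [Finite G]

/-- The degree formula on the `G`-side, in index form. -/
theorem degree_eq_index_mul (K : Subgroup G) [hK : K.Normal] [Fintype ↥K] (hodd : Odd K.index)
    (χ : IrrCharacter G) (hχ : IsRe (χ : G → ℂ)) (θ : IrrCharacter ↥K)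
    (hθ : IsRe (θ : ↥K → ℂ))
    (hover : classInner (resFun K (χ : G → ℂ)) (θ : ↥K → ℂ) ≠ 0) :
    charDegree (χ : G → ℂ) = (invSub K (θ : ↥K → ℂ)).index * charDegree (θ : ↥K → ℂ) := by
  have h := Cfsg.Agent.Lib.Helper6.RealM.degree_of_real_over K hodd χ hχ θ hθ hover
  have hc : Nat.card {g : G // Helper6.conjFun K g (θ : ↥K → ℂ) = (θ : ↥K → ℂ)} =
      Nat.card ↥(invSub K (θ : ↥K → ℂ)) := by
    apply Nat.card_congr
    exact Equiv.subtypeEquivRight (fun g => (mem_invSub_iff_conjFun K (θ : ↥K → ℂ) g).symm)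
  rw [hc, ← Subgroup.card_mul_index (invSub K (θ : ↥K → ℂ))] at h
  have hpos : 0 < Nat.card ↥(invSub K (θ : ↥K → ℂ)) := Nat.card_pos
  have h2 : Nat.card ↥(invSub K (θ : ↥K → ℂ)) * charDegree (χ : G → ℂ) =
      Nat.card ↥(invSub K (θ : ↥K → ℂ)) *
        ((invSub K (θ : ↥K → ℂ)).index * charDegree (θ : ↥K → ℂ)) := by
    rw [mul_comm, h]; ring
  exact Nat.eq_of_mul_eq_mul_left hpos h2

/-- The degree formula on the relative side, in index form. -/
theorem rel_degree_eq_relIndex_mul (H L : Subgroup G) (hHL : H ≤ L)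
    (hn : L ≤ Subgroup.normalizer (H : Set G)) (hodd : Odd (H.relIndex L)) [Fintype ↥H]
    (ξ : IrrCharacter ↥L) (hξ : IsRe (ξ : ↥L → ℂ)) (η : IrrCharacter ↥H)
    (hη : IsRe (η : ↥H → ℂ))
    (ho : classInner (resLE hHL (ξ : ↥L → ℂ)) (η : ↥H → ℂ) ≠ 0) :
    charDegree (ξ : ↥L → ℂ) =
      (invSub H (η : ↥H → ℂ)).relIndex L * charDegree (η : ↥H → ℂ) := by
  have h := Cfsg.Agent.Lib.Helper6.RealM.rel_degree_of_real_over H L hHL hn hodd ξ hξ η hη ho
  set S : Subgroup G := invSub H (η : ↥H → ℂ) with hS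
  have hc : Nat.card {n : G // n ∈ L ∧ CB H n (η : ↥H → ℂ) (η : ↥H → ℂ)} =
      Nat.card ↥(S.subgroupOf L) := by
    apply Nat.card_congr
    refine ⟨fun n => ⟨⟨n.1, n.2.1⟩, ?_⟩, fun n => ⟨n.1.1, n.1.2, ?_⟩, ?_, ?_⟩
    · rw [Subgroup.mem_subgroupOf]
      exact ⟨hn n.2.1, n.2.2⟩
    · have := n.2
      rw [Subgroup.mem_subgroupOf] at this
      exact this.2
    · intro n; rfl
    · intro n; rfl
  rw [hc, ← Subgroup.card_mul_index (S.subgroupOf L)] at h
  have hpos : 0 < Nat.card ↥(S.subgroupOf L) := Nat.card_pos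
  have h2 : Nat.card ↥(S.subgroupOf L) * charDegree (ξ : ↥L → ℂ) =
      Nat.card ↥(S.subgroupOf L) * (S.relIndex L * charDegree (η : ↥H → ℂ)) := by
    rw [mul_comm, h, Subgroup.relIndex]; ring
  exact Nat.eq_of_mul_eq_mul_left hpos h2

end Cfsg.Agent.Lib.Helper12.RealM
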