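/-
helper12: S4861 / S4863 spine, part A: elementary group lemmas used by the induction.
-/
import Mathlib
import Cfsg.Agent.Lib.Helper12.RealPDefs

set_option autoImplicit false

namespace Cfsg.Agent.Lib.Helper12.RealP

open Cfsg

universe u

variable {G : Type u} [Group G]

/-- Elements of a `p`-subgroup lie in `Ogen p G`. -/
theorem le_Ogen_of_isPGroup (p : ℕ) [Fact p.Prime] {R : Subgroup G} (hR : IsPGroup p ↥R) :
    R ≤ Ogen p G := by
  intro x hx
  obtain ⟨k, hk⟩ := hR ⟨x, hx⟩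
  have hk' : x ^ p ^ k = 1 := by
    have := congrArg Subtype.val hk
    simpa using this
  obtain ⟨j, -, hj⟩ := (Nat.dvd_prime_pow (Fact.out : p.Prime)).mp (orderOf_dvd_of_pow_eq_one hk')
  exact mem_Ogen_of_orderOf p hj

/-- Two normal subgroups meeting trivially commute elementwise. -/
theorem commute_of_inf_eq_bot {E M : Subgroup G} [E.Normal] [M.Normal] (h : M ⊓ E = ⊥) {x m : G}
    (hx : x ∈ E) (hm : m ∈ M) : x * m = m * x := by
  have h1 : x * m * x⁻¹ * m⁻¹ ∈ M ⊓ E := by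
    refine ⟨?_, ?_⟩
    · exact M.mul_mem (‹M.Normal›.conj_mem m hm x) (M.inv_mem hm)
    · have : x * m * x⁻¹ * m⁻¹ = x * (m * x⁻¹ * m⁻¹) := by group
      rw [this]
      exact E.mul_mem hx (‹E.Normal›.conj_mem x⁻¹ (E.inv_mem hx) m)
  rw [h, Subgroup.mem_bot] at h1
  have : x * m = (x * m * x⁻¹ * m⁻¹) * (m * x) := by group
  rw [this, h1, one_mul]

/-- If the `p`-subgroup `R` centralizes the normal subgroup `M`, and `M` has no nontrivial
`p`-elements, the normalizer of `R ⊔ M` normalizes `R`. -/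
theorem normalizer_sup_le_normalizer (p : ℕ) [Fact p.Prime] (R M : Subgroup G) [hM : M.Normal]
    (hR : IsPGroup p ↥R) (hcomm : ∀ x ∈ R, ∀ m ∈ M, x * m = m * x)
    (hMp : ∀ m ∈ M, ∀ k : ℕ, m ^ p ^ k = 1 → m = 1) :
    Subgroup.normalizer ((R ⊔ M : Subgroup G) : Set G) ≤ Subgroup.normalizer (R : Set G) := by
  have key : ∀ u ∈ Subgroup.normalizer ((R ⊔ M : Subgroup G) : Set G), ∀ x ∈ R, u * x * u⁻¹ ∈ R := by
    intro u hu x hx
    have h1 : u * x * u⁻¹ ∈ R ⊔ M :=
      (Subgroup.mem_normalizer_iff.mp hu x).mp (Subgroup.mem_sup_left hx)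
    obtain ⟨r, hr, m, hm, hrm⟩ := Subgroup.mem_sup_of_normal_right.mp h1
    obtain ⟨k1, hk1⟩ := hR ⟨x, hx⟩
    obtain ⟨k2, hk2⟩ := hR ⟨r, hr⟩
    have hx1 : x ^ p ^ k1 = 1 := by simpa using congrArg Subtype.val hk1
    have hr1 : r ^ p ^ k2 = 1 := by simpa using congrArg Subtype.val hk2
    have hpow : (u * x * u⁻¹) ^ p ^ (k1 + k2) = 1 := by
      rw [conj_pow, pow_add, pow_mul, hx1, one_pow]
      group
    have hr2 : r ^ p ^ (k1 + k2) = 1 := by
      rw [add_comm, pow_add, pow_mul, hr1, one_pow]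
    have hm2 : m ^ p ^ (k1 + k2) = 1 := by
      have hc : Commute r m := hcomm r hr m hm
      rw [← hrm, hc.mul_pow, hr2, one_mul] at hpow
      exact hpow
    have hm1 : m = 1 := hMp m hm _ hm2
    rw [← hrm, hm1, mul_one]
    exact hr
  intro u hu
  rw [Subgroup.mem_normalizer_iff]
  intro h
  constructor
  · exact key u hu h
  · intro hh
    have := key u⁻¹ (Subgroup.inv_mem _ hu) _ hh
    have e : u⁻¹ * (u * h * u⁻¹) * u⁻¹⁻¹ = h := by group
    rwa [e] at this

/-- Every `p`-element of `U` lies in the normal (in `U`) subgroup `H` of `p'`-index in `U`. -/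
theorem mem_of_pElement_of_relIndex (p : ℕ) [Fact p.Prime] [Finite G] (H U : Subgroup G)
    (hnorm : U ≤ Subgroup.normalizer (H : Set G)) (hidx : ¬ p ∣ H.relIndex U)
    {y : G} (hyU : y ∈ U) {k : ℕ} (hy : y ^ p ^ k = 1) : y ∈ H := by
  have : (H.subgroupOf U).Normal := Subgroup.normal_subgroupOf_of_le_normalizer hnorm
  set q : ↥U ⧸ H.subgroupOf U := QuotientGroup.mk (⟨y, hyU⟩ : ↥U) with hq
  have h1 : q ^ p ^ k = 1 := by
    rw [hq, ← QuotientGroup.mk_pow]
    have : (⟨y, hyU⟩ : ↥U) ^ p ^ k = 1 := by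
      apply Subtype.ext
      simpa using hy
    rw [this, QuotientGroup.mk_one]
  have h2 : orderOf q ∣ p ^ k := orderOf_dvd_of_pow_eq_one h1
  have h3 : orderOf q ∣ Nat.card (↥U ⧸ H.subgroupOf U) := orderOf_dvd_natCard q
  have h4 : Nat.card (↥U ⧸ H.subgroupOf U) = H.relIndex U := rfl
  rw [h4] at h3
  have hcop : Nat.Coprime (p ^ k) (H.relIndex U) :=
    Nat.Coprime.pow_left k ((Nat.Prime.coprime_iff_not_dvd Fact.out).mpr hidx)
  have h5 : orderOf q = 1 := Nat.eq_one_of_dvd_coprimes hcop h2 h3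
  have h6 : q = 1 := orderOf_eq_one_iff.mp h5
  rw [hq, QuotientGroup.eq_one_iff] at h6
  exact h6

end Cfsg.Agent.Lib.Helper12.RealP
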