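/-
helper12: S4861 / S4863 spine, part B: the induction.
-/
import Mathlib
import Cfsg.Agent.Lib.Helper12.RealPDefs
import Cfsg.Agent.Lib.Helper12.RealPSpineA
import Cfsg.Agent.Lib.Helper8.RealPR4
import Cfsg.Agent.Lib.Helper11.RealPG45

set_option autoImplicit false

namespace Cfsg.Agent.Lib.Helper12.RealP

open Cfsg Cfsg.Agent.Lib.Helper6

universe u

/-- In the critical configuration (`M` abelian normal `p'`-subgroup with `C_M(R) = 1`), every
irreducible character over a nontrivial linear character of `M` has degree divisible by `p`. -/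
theorem dvd_of_over_critical {G : Type u} [Group G] [Finite G] (p : ℕ) [Fact p.Prime]
    (M : Subgroup G) [hM : M.Normal] [Fintype ↥M]
    (hab : ∀ a ∈ M, ∀ b ∈ M, a * b = b * a) (hMp : ¬ p ∣ Nat.card ↥M)
    (R : Subgroup G) (hR : IsPGroup p ↥R) (hC : M ⊓ Subgroup.centralizer (R : Set G) = ⊥)
    (lam : ↥M →* ℂˣ) (hlam : lam ≠ 1) (χ : IrrCharacter G)
    (hover : classInner (resFun M (χ : G → ℂ)) (fun m => ((lam m : ℂˣ) : ℂ)) ≠ 0) :
    p ∣ charDegree (χ : G → ℂ) := by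
  apply Cfsg.Agent.Lib.Helper8.RealP.dvd_charDegree_of_over p M lam _ χ hover
  intro P₁
  by_contra hcon
  push Not at hcon
  -- hcon : ∀ x ∈ P₁, ∀ m, lam (x m x⁻¹) = lam m
  obtain ⟨P₂, hRP₂⟩ := hR.exists_le_sylow
  obtain ⟨g, hg⟩ := MulAction.exists_smul_eq G P₁ P₂
  -- elements of R are g-conjugates of elements of P₁
  have hconj : ∀ x ∈ R, g⁻¹ * x * g ∈ (P₁ : Subgroup G) := by
    intro x hx
    have h1 : x ∈ (P₂ : Subgroup G) := hRP₂ hx
    rw [← hg, Sylow.smul_def, Sylow.pointwise_smul_def,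
      Subgroup.mem_smul_pointwise_iff_exists] at h1
    obtain ⟨s, hs, hsx⟩ := h1
    rw [MulAut.smul_def, MulAut.conj_apply] at hsx
    rw [← hsx]
    have : g⁻¹ * (g * s * g⁻¹) * g = s := by group
    rw [this]
    exact hs
  -- the conjugate character
  let e : ↥M ≃* ↥M := MulAut.conjNormal g⁻¹
  let lam' : ↥M →* ℂˣ := lam.comp e.toMonoidHom
  have he : ∀ m : ↥M, ((e m : ↥M) : G) = g⁻¹ * m * g := by
    intro m
    have := MulAut.conjNormal_apply (H := M) g⁻¹ m
    rw [inv_inv] at this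
    exact this
  have hfix' : ∀ x ∈ R, ∀ m : ↥M, lam' ⟨x * m * x⁻¹, hM.conj_mem m m.2 x⟩ = lam' m := by
    intro x hx m
    change lam (e ⟨x * m * x⁻¹, _⟩) = lam (e m)
    have h2 := hcon (g⁻¹ * x * g) (hconj x hx) (e m)
    rw [← h2]
    congr 1
    apply Subtype.ext
    rw [he]
    change g⁻¹ * (x * m * x⁻¹) * g = g⁻¹ * x * g * ((e m : ↥M) : G) * (g⁻¹ * x * g)⁻¹
    rw [he]
    group
  have h1 : lam' = 1 := Cfsg.Agent.Lib.Helper11.RealP.hom_eq_one_of_fixed p M hab hMp R hR hC lam' hfix'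
  apply hlam
  ext m
  have h3 : lam' (e.symm m) = 1 := by rw [h1]; rfl
  change lam (e (e.symm m)) = 1 at h3
  rw [MulEquiv.apply_symm_apply] at h3
  rw [h3]
  rfl

/-- In the critical configuration with `|M|` odd, some `2`-element acts nontrivially on `M`. -/
theorem exists_two_element_moving {G : Type u} [Group G] [Finite G]
    (M : Subgroup G) [hM : M.Normal] (hM1 : M ≠ ⊥) (hodd : Odd (Nat.card ↥M))
    (hMK : M ≤ Ogen 2 G) (N : Subgroup G) (hMN : M ⊓ N = ⊥) (hsup : M ⊔ N = ⊤) :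
    ∃ t₀ : G, (∃ k : ℕ, orderOf t₀ = 2 ^ k) ∧ ∃ m ∈ M, t₀ * m * t₀⁻¹ ≠ m := by
  by_contra hcon
  push Not at hcon
  -- every 2-element lies in N
  have h2N : ∀ y : G, (∃ k : ℕ, orderOf y = 2 ^ k) → y ∈ N := by
    intro y hy
    obtain ⟨k, hk⟩ := hy
    have hy1 : y ^ 2 ^ k = 1 := by rw [← hk]; exact pow_orderOf_eq_one y
    have hyM : ∀ m ∈ M, y * m = m * y := by
      intro m hm
      have := hcon y ⟨k, hk⟩ m hm
      calc y * m = (y * m * y⁻¹) * y := by group
        _ = m * y := by rw [this]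
    have hytop : y ∈ M ⊔ N := by rw [hsup]; exact Subgroup.mem_top y
    obtain ⟨m, hm, n, hn, hmn⟩ := Subgroup.mem_sup_of_normal_left.mp hytop
    have hcomm : Commute m n := by
      -- n = m⁻¹ y commutes with m
      have hn' : n = m⁻¹ * y := by rw [← hmn]; group
      change m * n = n * m
      rw [hn']
      have := hyM m hm
      calc m * (m⁻¹ * y) = y := by group
        _ = m⁻¹ * (m * y) := by group
        _ = m⁻¹ * (y * m) := by rw [this]
        _ = m⁻¹ * y * m := by group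
    have h3 : m ^ 2 ^ k * n ^ 2 ^ k = 1 := by
      rw [← hcomm.mul_pow, hmn, hy1]
    have h4 : m ^ 2 ^ k ∈ M ⊓ N := by
      refine ⟨M.pow_mem hm _, ?_⟩
      have : m ^ 2 ^ k = (n ^ 2 ^ k)⁻¹ := eq_inv_of_mul_eq_one_left h3
      rw [this]
      exact N.inv_mem (N.pow_mem hn _)
    rw [hMN, Subgroup.mem_bot] at h4
    have h5 : orderOf (⟨m, hm⟩ : ↥M) ∣ 2 ^ k := by
      apply orderOf_dvd_of_pow_eq_one
      apply Subtype.ext
      simpa using h4
    have h6 : orderOf (⟨m, hm⟩ : ↥M) ∣ Nat.card ↥M := orderOf_dvd_natCard _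
    have hcop : Nat.Coprime (2 ^ k) (Nat.card ↥M) :=
      Nat.Coprime.pow_left k (Nat.coprime_two_left.mpr hodd)
    have h7 : orderOf (⟨m, hm⟩ : ↥M) = 1 := Nat.eq_one_of_dvd_coprimes hcop h5 h6
    have h8 : (⟨m, hm⟩ : ↥M) = 1 := orderOf_eq_one_iff.mp h7
    have h9 : m = 1 := congrArg Subtype.val h8
    rw [← hmn, h9, one_mul]
    exact hn
  have hKN : Ogen 2 G ≤ N := by
    unfold Ogen
    rw [Subgroup.closure_le]
    intro y hy
    exact h2N y hy
  apply hM1
  rw [eq_bot_iff, ← hMN]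
  exact le_inf le_rfl (hMK.trans hKN)

end Cfsg.Agent.Lib.Helper12.RealP
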