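/-
helper12: S4861 / S4863 spine, part C: the main induction.
-/
import Mathlib
import Cfsg.Agent.Lib.Helper12.RealPDefs
import Cfsg.Agent.Lib.Helper12.RealPSpineA
import Cfsg.Agent.Lib.Helper12.RealPSpineB
import Cfsg.Agent.Lib.Helper9.RealPG1
import Cfsg.Agent.Lib.Helper11.RealPG2
import Cfsg.Agent.Lib.Helper11.RealPG5
import Cfsg.Agent.Lib.Helper13.RealPG3
import Cfsg.Agent.Lib.Helper7.RealPR2
import Cfsg.Agent.Lib.Helper22.RealPQ1
import Cfsg.Agent.Lib.Helper22.RealPQ2
import Cfsg.Agent.Lib.Helper25.RealPR1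

set_option autoImplicit false

namespace Cfsg.Agent.Lib.Helper12.RealP

open Cfsg Cfsg.Agent.Lib.Helper6

universe u

/-- The critical configuration is impossible under `Hyp`. -/
theorem critical_false {G : Type u} [Group G] [Finite G] (p : ℕ) [Fact p.Prime] (hyp : Hyp p G)
    (M : Subgroup G) [hM : M.Normal] (hM1 : M ≠ ⊥)
    (hmin : ∀ L : Subgroup G, L.Normal → L ≤ M → L = ⊥ ∨ L = M)
    (hab : ∀ a ∈ M, ∀ b ∈ M, a * b = b * a) (hMp : ¬ p ∣ Nat.card ↥M) (hMK : M ≤ Ogen 2 G)
    (R : Subgroup G) (hR : IsPGroup p ↥R) (hC : M ⊓ Subgroup.centralizer (R : Set G) = ⊥)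
    (hsup : M ⊔ Subgroup.normalizer (R : Set G) = ⊤)
    (hNC : M ⊓ Subgroup.normalizer (R : Set G) = M ⊓ Subgroup.centralizer (R : Set G)) : False := by
  classical
  let _ : Fintype ↥M := Fintype.ofFinite _
  have hMN : M ⊓ Subgroup.normalizer (R : Set G) = ⊥ := by rw [hNC, hC]
  -- a real character over a nontrivial lam
  have hB : ∃ (lam : ↥M →* ℂˣ) (χ : IrrCharacter G), lam ≠ 1 ∧
      (∀ g : G, ((χ : G → ℂ) g).im = 0) ∧
      classInner (resFun M (χ : G → ℂ)) (fun m => ((lam m : ℂˣ) : ℂ)) ≠ 0 := by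
    rcases Cfsg.Agent.Lib.Helper9.RealP.minimal_normal_abelian_prime M hmin hab 2 with h2 | h2
    · obtain ⟨lam, hlam, hreal⟩ := Cfsg.Agent.Lib.Helper11.RealP5.exists_real_hom_of_two_group M hab h2 hM1
      obtain ⟨χ, hχr, hχo⟩ :=
        Cfsg.Agent.Lib.Helper7.RealP.exists_real_over_of_split M (Subgroup.normalizer (R : Set G)) hMN hsup lam hreal
      exact ⟨lam, χ, hlam, hχr, hχo⟩
    · have hodd : Odd (Nat.card ↥M) := by
        rcases Nat.even_or_odd (Nat.card ↥M) with h | h
        · exact absurd (even_iff_two_dvd.mp h) h2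
        · exact h
      obtain ⟨t₀, ht₀, hnc⟩ := exists_two_element_moving M hM1 hodd hMK _ hMN hsup
      obtain ⟨t, lam, ht, hlam, hinv⟩ := Cfsg.Agent.Lib.Helper13.RealP.exists_inverted_hom M hab hodd t₀ ht₀ hnc
      obtain ⟨χ, hχr, hχo⟩ := Cfsg.Agent.Lib.Helper25.RealP.exists_real_over_of_inverted M hodd lam t ht hinv
      exact ⟨lam, χ, hlam, hχr, hχo⟩
  obtain ⟨lam, χ, hlam, hχr, hχo⟩ := hB
  exact hyp.2 χ hχr (dvd_of_over_critical p M hab hMp R hR hC lam hlam χ hχo)

/-- Main induction for S4861 / S4863. -/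
theorem mainB (p : ℕ) [Fact p.Prime] : ∀ (n : ℕ) (G : Type u) [Group G] [Finite G],
    Nat.card G = n → Hyp p G →
    ∀ (U R : Subgroup G), U.Normal → Ogen 2 G ≤ U → (∃ a : ℕ, (Ogen 2 G).relIndex U = p ^ a) →
      R ≤ U → IsPGroup p ↥R → ¬ p ∣ R.relIndex U → U ≤ Subgroup.normalizer (R : Set G) := by
  intro n
  induction n using Nat.strong_induction_on with
  | _ n ih =>
  intro G _ _ hcard hyp U R hU hKU hidxK hRU hR hidx
  obtain ⟨a, ha⟩ := hidxK
  by_cases hK : Ogen 2 G = ⊥
  · -- U is a p-group, so R = U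
    rw [hK, Subgroup.relIndex_bot_left] at ha
    have h1 : R.relIndex U ∣ p ^ a := by
      rw [← ha]
      exact Subgroup.relIndex_dvd_card R U
    have h2 : R.relIndex U = 1 := by
      obtain ⟨j, -, hj⟩ := (Nat.dvd_prime_pow (Fact.out : p.Prime)).mp h1
      rcases Nat.eq_zero_or_pos j with h0 | h0
      · rw [hj, h0, pow_zero]
      · exfalso
        apply hidx
        rw [hj]
        exact dvd_pow_self p h0.ne'
    have h3 : U ≤ R := Subgroup.relIndex_eq_one.mp h2
    exact h3.trans Subgroup.le_normalizer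
  -- a minimal normal subgroup inside K
  obtain ⟨M, hMn, hM1, hMK, hmin⟩ := Cfsg.Agent.Lib.Helper9.RealP.exists_minimal_normal_le (Ogen 2 G) hK
  have := hMn
  have := hU
  have hMU : M ≤ U := hMK.trans hKU
  -- the quotient
  let f : G →* G ⧸ M := QuotientGroup.mk' M
  have hf : Function.Surjective f := QuotientGroup.mk'_surjective M
  have hker : f.ker = M := QuotientGroup.ker_mk' M
  have hcardq : Nat.card (G ⧸ M) < n := by
    have h1 : Nat.card (G ⧸ M) * Nat.card ↥M = Nat.card G :=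
      (Subgroup.card_eq_card_quotient_mul_card_subgroup M).symm
    have h2 : 1 < Nat.card ↥M := by
      rw [Subgroup.one_lt_card_iff_ne_bot]
      exact hM1
    have h3 : 0 < Nat.card (G ⧸ M) := Nat.card_pos
    rw [← hcard, ← h1]
    nlinarith
  have hyq : Hyp p (G ⧸ M) := Cfsg.Agent.Lib.Helper22.RealP.hyp_quotient p M hyp
  have hcomap : ∀ H : Subgroup G, (H.map f).comap f = H ⊔ M := by
    intro H
    rw [Subgroup.comap_map_eq, hker]
  have hN : U ≤ Subgroup.normalizer ((R ⊔ M : Subgroup G) : Set G) := by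
    have h1 := ih (Nat.card (G ⧸ M)) hcardq (G ⧸ M) rfl hyq (U.map f) (R.map f)
      (Subgroup.Normal.map hU f hf) ?_ ?_ (Subgroup.map_mono hRU) (hR.map f) ?_
    · have h2 : (Subgroup.normalizer ((R.map f : Subgroup (G ⧸ M)) : Set (G ⧸ M))).comap f =
          Subgroup.normalizer (((R.map f).comap f : Subgroup G) : Set G) :=
        Subgroup.comap_normalizer_eq_of_surjective (R.map f) hf
      rw [hcomap] at h2
      rw [← h2]
      intro u hu
      exact h1 (Subgroup.mem_map_of_mem f hu)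
    · rw [← Cfsg.Agent.Lib.Helper22.RealP.ogen_map_mk 2 M]
      exact Subgroup.map_mono hKU
    · refine ⟨a, ?_⟩
      rw [← Cfsg.Agent.Lib.Helper22.RealP.ogen_map_mk 2 M, ← Subgroup.relIndex_comap, hcomap, sup_eq_left.mpr hMK]
      exact ha
    · rw [← Subgroup.relIndex_comap, hcomap]
      intro h
      exact hidx (dvd_trans h (Subgroup.relIndex_dvd_of_le_left U le_sup_left))
  have hidx' : ¬ p ∣ (R ⊔ M).relIndex U := fun h =>
    hidx (dvd_trans h (Subgroup.relIndex_dvd_of_le_left U le_sup_left))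
  -- dichotomy
  rcases Cfsg.Agent.Lib.Helper9.RealP.minimal_normal_dichotomy M hmin (Ogen p G) hyp.1 with hME | ⟨hME, hab⟩
  · -- M ∩ E = 1
    have hRE : R ≤ Ogen p G := le_Ogen_of_isPGroup p hR
    apply hN.trans
    apply normalizer_sup_le_normalizer p R M hR
    · intro x hx m hm
      exact commute_of_inf_eq_bot hME (hRE hx) hm
    · intro m hm k hk
      obtain ⟨j, -, hj⟩ := (Nat.dvd_prime_pow (Fact.out : p.Prime)).mp (orderOf_dvd_of_pow_eq_one hk)
      have : m ∈ M ⊓ Ogen p G := ⟨hm, mem_Ogen_of_orderOf p hj⟩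
      rw [hME, Subgroup.mem_bot] at this
      exact this
  · rcases Cfsg.Agent.Lib.Helper9.RealP.minimal_normal_abelian_prime M hmin hab p with hMp | hMp
    · -- M a p-group: M ≤ R
      have h1 : IsPGroup p ↥(R ⊔ M : Subgroup G) := IsPGroup.to_sup_of_normal_right hR hMp
      have h2 : R.relIndex (R ⊔ M) * (R ⊔ M).relIndex U = R.relIndex U :=
        Subgroup.relIndex_mul_relIndex R (R ⊔ M) U le_sup_left (sup_le hRU hMU)
      have h3 : ∃ j : ℕ, R.relIndex (R ⊔ M) = p ^ j := h1.index (R.subgroupOf (R ⊔ M))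
      obtain ⟨j, hj⟩ := h3
      have h4 : R.relIndex (R ⊔ M) = 1 := by
        rcases Nat.eq_zero_or_pos j with h0 | h0
        · rw [hj, h0, pow_zero]
        · exfalso
          apply hidx
          rw [← h2, hj]
          exact Dvd.dvd.mul_right (dvd_pow_self p h0.ne') _
      have h5 : R ⊔ M ≤ R := Subgroup.relIndex_eq_one.mp h4
      have h6 : R ⊔ M = R := le_antisymm h5 le_sup_left
      rw [h6] at hN
      exact hN
    · -- M an abelian p'-group
      have hMp' : ∀ m ∈ M, ∀ k : ℕ, m ^ p ^ k = 1 → m = 1 := by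
        intro m hm k hk
        have h5 : orderOf (⟨m, hm⟩ : ↥M) ∣ p ^ k := by
          apply orderOf_dvd_of_pow_eq_one
          apply Subtype.ext
          simpa using hk
        have h6 : orderOf (⟨m, hm⟩ : ↥M) ∣ Nat.card ↥M := orderOf_dvd_natCard _
        have hcop : Nat.Coprime (p ^ k) (Nat.card ↥M) :=
          Nat.Coprime.pow_left k ((Nat.Prime.coprime_iff_not_dvd Fact.out).mpr hMp)
        have h7 : orderOf (⟨m, hm⟩ : ↥M) = 1 := Nat.eq_one_of_dvd_coprimes hcop h5 h6
        exact congrArg Subtype.val (orderOf_eq_one_iff.mp h7)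
      have hRMn : (R ⊔ M : Subgroup G).Normal := by
        constructor
        intro h hh g
        obtain ⟨r, hr, m, hm, hrm⟩ := Subgroup.mem_sup_of_normal_right.mp hh
        have e : g * h * g⁻¹ = (g * r * g⁻¹) * (g * m * g⁻¹) := by rw [← hrm]; group
        rw [e]
        apply Subgroup.mul_mem
        · obtain ⟨k, hk⟩ := hR ⟨r, hr⟩
          have hr1 : r ^ p ^ k = 1 := by simpa using congrArg Subtype.val hk
          apply mem_of_pElement_of_relIndex p (R ⊔ M) U hN hidx'
            (hU.conj_mem r (hRU hr) g) (k := k)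
          rw [conj_pow, hr1]
          group
        · exact Subgroup.mem_sup_right (hMn.conj_mem m hm g)
      obtain ⟨hsup, hCn, hNC⟩ := Cfsg.Agent.Lib.Helper11.RealP.frattini_abelian p M hab hMp R hR hRMn
      rcases hmin _ hCn inf_le_left with hC | hC
      · exact (critical_false p hyp M hM1 hmin hab hMp hMK R hR hC hsup hNC).elim
      · apply hN.trans
        apply normalizer_sup_le_normalizer p R M hR _ hMp'
        intro x hx m hm
        have hm' : m ∈ M ⊓ Subgroup.centralizer (R : Set G) := by rw [hC]; exact hm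
        exact Subgroup.mem_centralizer_iff.mp hm'.2 x hx

end Cfsg.Agent.Lib.Helper12.RealP
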