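/-
helper12: S4861 / S4863 spine, part D: the statement for Sylow subgroups of `U`.
-/
import Mathlib
import Cfsg.Agent.Lib.Helper12.RealPSpineC

set_option autoImplicit false

namespace Cfsg.Agent.Lib.Helper12.RealP

open Cfsg

universe u

/-- S4861 / S4863: under `Hyp p G`, a normal subgroup `U ≥ O^{2'}(G)` with `|U : O^{2'}(G)|` a power
of `p` has a normal Sylow `p`-subgroup. -/
theorem sylow_normal_of_hyp {G : Type u} [Group G] [Finite G] (p : ℕ) [Fact p.Prime]
    (hyp : Hyp p G) (U : Subgroup G) (hU : U.Normal) (hKU : Ogen 2 G ≤ U)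
    (hUp : ∃ a : ℕ, (Ogen 2 G).relIndex U = p ^ a) (Q : Sylow p ↥U) :
    (Q : Subgroup ↥U).Normal := by
  set R : Subgroup G := (Q : Subgroup ↥U).map U.subtype with hRdef
  have hRU : R ≤ U := Subgroup.map_subtype_le _
  have hR : IsPGroup p ↥R := Q.2.map U.subtype
  have hsub : R.subgroupOf U = (Q : Subgroup ↥U) := by
    rw [hRdef, Subgroup.subgroupOf]
    exact Subgroup.comap_map_eq_self_of_injective U.subtype_injective _
  have hidx : ¬ p ∣ R.relIndex U := by
    rw [Subgroup.relIndex, hsub]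
    exact Q.not_dvd_index
  have h := mainB p (Nat.card G) G rfl hyp U R hU hKU hUp hRU hR hidx
  constructor
  intro q hq u
  have hu : (u : G) ∈ Subgroup.normalizer (R : Set G) := h u.2
  have hqR : (q : G) ∈ R := ⟨q, hq, rfl⟩
  have h1 : (u : G) * (q : G) * (u : G)⁻¹ ∈ R := (Subgroup.mem_normalizer_iff.mp hu _).mp hqR
  obtain ⟨q', hq', hqq⟩ := h1
  have : q' = u * q * u⁻¹ := by
    apply Subtype.ext
    rw [← Subgroup.subtype_apply, hqq]
    simp
  rw [← this]
  exact hq'

end Cfsg.Agent.Lib.Helper12.RealP
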