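/-
helper12: S4865 spine, part B: the bijection.
-/
import Mathlib
import Cfsg.Agent.Lib.Helper12.RealPDefs
import Cfsg.Agent.Lib.Helper12.RealNDefs
import Cfsg.Agent.Lib.Helper12.RealMDefs
import Cfsg.Agent.Lib.Helper12.RealMSpineA
import Cfsg.Agent.Lib.Helper12.RealPSpineD
import Cfsg.Agent.Lib.Helper22.RealNN12
import Cfsg.Agent.Lib.Helper25.RealNN3
import Cfsg.Agent.Lib.Lead.OddIndexReal
import Cfsg.Agent.Lib.Helper22.RealMM6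
import Cfsg.Agent.Lib.Helper22.RealMM7
import Cfsg.Agent.Lib.Helper22.RealMM10
import Cfsg.Agent.Lib.Helper4.RealMM8
import Cfsg.Agent.Lib.Helper16.RealMM1
import Cfsg.Agent.Lib.Helper16.RealMM9a

set_option autoImplicit false
set_option maxHeartbeats 1000000

namespace Cfsg.Agent.Lib.Helper12.RealM

open Cfsg Cfsg.Agent.Lib.Helper6 Cfsg.Agent.Lib.Helper12.RealP Cfsg.Agent.Lib.Helper12.RealN
open Cfsg.Agent.Lib.Helper2.Glaub Cfsg.Agent.CharLib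

universe u

variable {G : Type u} [Group G] [Finite G]

/-- `N_G(P)` normalizes `K ⊓ N_G(P)` for `K ⊴ G`. -/
theorem NP_le_normalizer_inf (K : Subgroup G) [hK : K.Normal] {p : ℕ} (P : Sylow p G) :
    NP P ≤ Subgroup.normalizer ((K ⊓ NP P : Subgroup G) : Set G) := by
  intro n hn
  rw [Subgroup.mem_normalizer_iff]
  intro x
  constructor
  · rintro ⟨hxK, hxN⟩
    exact ⟨hK.conj_mem x hxK n, Subgroup.mul_mem _ (Subgroup.mul_mem _ hn hxN) (Subgroup.inv_mem _ hn)⟩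
  · rintro ⟨hxK, hxN⟩
    refine ⟨?_, ?_⟩
    · have := hK.conj_mem _ hxK n⁻¹
      simpa [mul_assoc] using this
    · have := Subgroup.mul_mem _ (Subgroup.mul_mem _ (Subgroup.inv_mem _ hn) hxN) hn
      simpa [mul_assoc] using this

theorem odd_relIndex_inf (K : Subgroup G) [hK : K.Normal] (hodd : Odd K.index) {p : ℕ}
    (P : Sylow p G) : Odd ((K ⊓ NP P).relIndex (NP P)) := by
  rw [Subgroup.inf_relIndex_right]
  exact Odd.of_dvd_nat hodd (Subgroup.relIndex_dvd_index_of_normal K (NP P))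

/-- The bijection for a normal subgroup `K` of odd index with a normal Sylow `p`-subgroup. -/
theorem main_aux (p : ℕ) [Fact p.Prime] (K : Subgroup G) [hK : K.Normal] (hodd : Odd K.index)
    (hreal : ∀ χ : IrrCharacter G, (∀ g : G, ((χ : G → ℂ) g).im = 0) →
      ¬ p ∣ charDegree (χ : G → ℂ))
    (P : Sylow p G) (hsyl : ∀ Q₀ : Sylow p ↥K, (Q₀ : Subgroup ↥K).Normal) :
    ∃ f : {χ : IrrCharacter G // IsRe (χ : G → ℂ)} →
        {ξ : IrrCharacter ↥(NP P) // IsRe (ξ : ↥(NP P) → ℂ) ∧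
          ¬ p ∣ charDegree (ξ : ↥(NP P) → ℂ)},
      Function.Bijective f ∧
      ∀ χ, ((charDegree ((f χ).1 : ↥(NP P) → ℂ) : ZMod p) =
            (charDegree (χ.1 : G → ℂ) : ZMod p)) ∨
          ((charDegree ((f χ).1 : ↥(NP P) → ℂ) : ZMod p) =
            -(charDegree (χ.1 : G → ℂ) : ZMod p)) := by
  classical
  have hp : p.Prime := Fact.out
  letI : Fintype G := Fintype.ofFinite G
  letI : Fintype ↥K := Fintype.ofFinite _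
  letI : Fintype ↥(K ⊓ NP P) := Fintype.ofFinite _
  have hMN : K ⊓ NP P ≤ NP P := inf_le_right
  have hnM := NP_le_normalizer_inf K P
  have hoddM := odd_relIndex_inf K hodd P
  have hPN : (P : Subgroup G) ≤ NP P := Subgroup.le_normalizer
  have hPK : (P : Subgroup G) ≤ Subgroup.normalizer ((K : Subgroup G) : Set G) := by
    rw [Subgroup.normalizer_eq_top]; exact le_top
  have hPM : (P : Subgroup G) ≤ Subgroup.normalizer ((K ⊓ NP P : Subgroup G) : Set G) :=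
    hPN.trans hnM
  obtain ⟨f₀, hbij, hdeg, hequiv, hre⟩ :=
    Cfsg.Agent.Lib.Helper4.RealM.mckay_map p K P hsyl
  -- the two degree formulas for a related pair
  have hDEG : ∀ (χ : IrrCharacter G) (ξ : IrrCharacter ↥(NP P))
      (θ : {θ : IrrCharacter ↥K // InvUnder K (P : Subgroup G) (θ : ↥K → ℂ)}),
      IsRe (χ : G → ℂ) → IsRe (ξ : ↥(NP P) → ℂ) → IsRe (θ.1 : ↥K → ℂ) →
      classInner (resFun K (χ : G → ℂ)) (θ.1 : ↥K → ℂ) ≠ 0 →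
      classInner (resLE hMN (ξ : ↥(NP P) → ℂ)) ((f₀ θ).1 : ↥(K ⊓ NP P) → ℂ) ≠ 0 →
      charDegree (χ : G → ℂ) =
          (invSub K (θ.1 : ↥K → ℂ)).index * charDegree (θ.1 : ↥K → ℂ) ∧
        charDegree (ξ : ↥(NP P) → ℂ) =
          (invSub K (θ.1 : ↥K → ℂ)).relIndex (NP P) *
            charDegree ((f₀ θ).1 : ↥(K ⊓ NP P) → ℂ) := by
    intro χ ξ θ hχ hξ hθ ho1 ho2
    refine ⟨degree_eq_index_mul K hodd χ hχ θ.1 hθ ho1, ?_⟩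
    have h1 := rel_degree_eq_relIndex_mul (K ⊓ NP P) (NP P) hMN hnM hoddM ξ hξ (f₀ θ).1
      ((hre θ).mp hθ) ho2
    rw [h1]
    congr 1
    -- the stabilizers agree inside `N_G(P)`
    rw [← Subgroup.inf_relIndex_right (invSub (K ⊓ NP P) _),
      ← Subgroup.inf_relIndex_right (invSub K _)]
    congr 1
    ext n
    simp only [Subgroup.mem_inf]
    constructor
    · rintro ⟨h1, h2⟩
      refine ⟨⟨?_, ?_⟩, h2⟩
      · rw [Subgroup.normalizer_eq_top]; exact Subgroup.mem_top n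
      · exact (hequiv n h2 θ θ).mpr h1.2
    · rintro ⟨h1, h2⟩
      exact ⟨⟨hnM h2, (hequiv n h2 θ θ).mp h1.2⟩, h2⟩
  -- `P` fixes `θ`
  have hPI : ∀ θ : {θ : IrrCharacter ↥K // InvUnder K (P : Subgroup G) (θ : ↥K → ℂ)},
      (P : Subgroup G) ≤ invSub K (θ.1 : ↥K → ℂ) := fun θ =>
    (invUnder_iff_le_invSub hPK (θ.1 : ↥K → ℂ)).mp θ.2
  -- the relation
  let REL : {χ : IrrCharacter G // IsRe (χ : G → ℂ)} →
      {ξ : IrrCharacter ↥(NP P) // IsRe (ξ : ↥(NP P) → ℂ) ∧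
        ¬ p ∣ charDegree (ξ : ↥(NP P) → ℂ)} → Prop := fun χ ξ =>
    ∃ θ : {θ : IrrCharacter ↥K // InvUnder K (P : Subgroup G) (θ : ↥K → ℂ)},
      IsRe (θ.1 : ↥K → ℂ) ∧
      classInner (resFun K (χ.1 : G → ℂ)) (θ.1 : ↥K → ℂ) ≠ 0 ∧
      classInner (resLE hMN (ξ.1 : ↥(NP P) → ℂ)) ((f₀ θ).1 : ↥(K ⊓ NP P) → ℂ) ≠ 0
  -- (v) degrees
  have hV : ∀ χ ξ, REL χ ξ →
      ((charDegree (ξ.1 : ↥(NP P) → ℂ) : ZMod p) = (charDegree (χ.1 : G → ℂ) : ZMod p)) ∨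
      ((charDegree (ξ.1 : ↥(NP P) → ℂ) : ZMod p) = -(charDegree (χ.1 : G → ℂ) : ZMod p)) := by
    rintro χ ξ ⟨θ, hθ, ho1, ho2⟩
    obtain ⟨h1, h2⟩ := hDEG χ.1 ξ.1 θ χ.2 ξ.2.1 hθ ho1 ho2
    have h3 := Cfsg.Agent.Lib.Helper22.RealM.index_modEq_relIndex p P
      (invSub K (θ.1 : ↥K → ℂ)) (hPI θ)
    have h3' : (((invSub K (θ.1 : ↥K → ℂ)).index : ℕ) : ZMod p) =
        (((invSub K (θ.1 : ↥K → ℂ)).relIndex (NP P) : ℕ) : ZMod p) :=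
      (ZMod.natCast_eq_natCast_iff _ _ _).mpr h3
    rw [h1, h2]
    push_cast
    rw [← h3']
    rcases hdeg θ with h | h
    · left; rw [h]
    · right; rw [h]; ring
  -- over is stable under conjugation (G-side)
  have hoverG : ∀ (χ : IrrCharacter G) (θ θ' : IrrCharacter ↥K) (g : G),
      CB K g (θ : ↥K → ℂ) (θ' : ↥K → ℂ) →
      classInner (resFun K (χ : G → ℂ)) (θ : ↥K → ℂ) ≠ 0 →
      classInner (resFun K (χ : G → ℂ)) (θ' : ↥K → ℂ) ≠ 0 := by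
    intro χ θ θ' g hc ho
    rw [CB_iff_conjFun] at hc
    rw [hc, classInner_resFun_conjFun K
      (IsCharacter.isClassFunction (IsIrrCharacter.isCharacter χ.2))]
    exact ho
  -- (ii)
  have hII : ∀ χ ξ ξ', REL χ ξ → REL χ ξ' → ξ = ξ' := by
    rintro χ ξ ξ' ⟨θ, hθ, ho1, ho2⟩ ⟨θ', hθ', ho1', ho2'⟩
    obtain ⟨g, hg⟩ := exists_conjFun_eq_of_constituent K χ.1.2 θ.1.2 θ'.1.2 ho1 ho1'
    have hcb : CB K g⁻¹ (θ.1 : ↥K → ℂ) (θ'.1 : ↥K → ℂ) := CB_of_conjFun_eq K g _ _ hg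
    obtain ⟨n, hnN, hn⟩ := Cfsg.Agent.Lib.Helper22.RealM.conj_normalizer_of_inv p K P
      (θ.1 : ↥K → ℂ) (θ'.1 : ↥K → ℂ) θ.2 θ'.2 g⁻¹ hcb
    have hcbM := (hequiv n hnN θ θ').mp hn
    have ho3 := Cfsg.Agent.Lib.Helper6.RealM.rel_over_of_conj (K ⊓ NP P) (NP P) hMN hnM ξ.1
      (f₀ θ).1 (f₀ θ').1 n hnN hcbM ho2
    apply Subtype.ext
    exact Cfsg.Agent.Lib.Helper16.RealM.rel_real_unique_over (K ⊓ NP P) (NP P) hMN hnM hoddM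
      (f₀ θ').1 ξ.1 ξ'.1 ξ.2.1 ξ'.2.1 ho3 ho2'
  -- (iv)
  have hIV : ∀ χ χ' ξ, REL χ ξ → REL χ' ξ → χ = χ' := by
    rintro χ χ' ξ ⟨θ, hθ, ho1, ho2⟩ ⟨θ', hθ', ho1', ho2'⟩
    obtain ⟨n, hnN, hn⟩ := Cfsg.Agent.Lib.Helper6.RealM.rel_conj_of_over (K ⊓ NP P) (NP P) hMN hnM
      ξ.1 (f₀ θ).1 (f₀ θ').1 ho2 ho2'
    have hcbK := (hequiv n hnN θ θ').mpr hn
    have ho3 := hoverG χ.1 θ.1 θ'.1 n hcbK ho1
    apply Subtype.ext
    exact Cfsg.Agent.CharLib.real_unique_over K hodd θ'.1 χ.1 χ'.1 χ.2 χ'.2 ho3 ho1'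
  -- (i)
  have hI : ∀ χ, ∃ ξ, REL χ ξ := by
    intro χ
    obtain ⟨θ₀, hθ₀, ho0⟩ := Cfsg.Agent.Lib.Helper16.RealM.exists_real_constituent K hodd χ.1 χ.2
    obtain ⟨θ₁, ⟨g, hg⟩, hinv⟩ :=
      Cfsg.Agent.Lib.Helper25.RealN.exists_inv_conj_of_real p K hodd hreal P θ₀ hθ₀
    have hcb : CB K g (θ₀ : ↥K → ℂ) (θ₁ : ↥K → ℂ) := hg
    have hθ₁ : IsRe (θ₁ : ↥K → ℂ) := isRe_of_CB K g _ _ hcb hθ₀
    have ho1 := hoverG χ.1 θ₀ θ₁ g hcb ho0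
    obtain ⟨θ, hθdef⟩ : ∃ θ : {θ : IrrCharacter ↥K // InvUnder K (P : Subgroup G) (θ : ↥K → ℂ)},
        θ.1 = θ₁ := ⟨⟨θ₁, hinv⟩, rfl⟩
    rw [← hθdef] at hθ₁ ho1
    have hη : IsRe ((f₀ θ).1 : ↥(K ⊓ NP P) → ℂ) := (hre θ).mp hθ₁
    obtain ⟨ξ, hξ, ho2⟩ := Cfsg.Agent.Lib.Helper16.RealM.rel_exists_real_over (K ⊓ NP P) (NP P)
      hMN hnM hoddM (f₀ θ).1 hη
    obtain ⟨h1, h2⟩ := hDEG χ.1 ξ θ χ.2 hξ hθ₁ ho1 ho2
    have hpχ : ¬ p ∣ charDegree (χ.1 : G → ℂ) := hreal χ.1 χ.2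
    have hpθ : ¬ p ∣ charDegree (θ.1 : ↥K → ℂ) := fun h => hpχ (h1 ▸ Dvd.dvd.mul_left h _)
    have hpη : ¬ p ∣ charDegree ((f₀ θ).1 : ↥(K ⊓ NP P) → ℂ) := by
      intro h
      have h0 : ((charDegree ((f₀ θ).1 : ↥(K ⊓ NP P) → ℂ) : ℕ) : ZMod p) = 0 :=
        (ZMod.natCast_eq_zero_iff _ _).mpr h
      have h00 : ((charDegree (θ.1 : ↥K → ℂ) : ℕ) : ZMod p) = 0 := by
        rcases hdeg θ with h' | h'
        · rw [← h', h0]
        · rw [h0] at h'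
          have := h'.symm
          rwa [neg_eq_zero] at this
      exact hpθ ((ZMod.natCast_eq_zero_iff _ _).mp h00)
    have hpidx : ¬ p ∣ (invSub K (θ.1 : ↥K → ℂ)).relIndex (NP P) := by
      rw [← Subgroup.inf_relIndex_right]
      exact (Cfsg.Agent.Lib.Helper22.RealM.le_iff_not_dvd_relIndex p P
        (invSub K (θ.1 : ↥K → ℂ) ⊓ NP P) inf_le_right).mp (le_inf (hPI θ) hPN)
    have hpξ : ¬ p ∣ charDegree (ξ : ↥(NP P) → ℂ) := by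
      rw [h2]
      exact Nat.Prime.not_dvd_mul hp hpidx hpη
    exact ⟨⟨ξ, hξ, hpξ⟩, θ, hθ₁, ho1, ho2⟩
  -- (iii)
  have hIII : ∀ ξ, ∃ χ, REL χ ξ := by
    intro ξ
    obtain ⟨η₀, hη₀, ho0⟩ := Cfsg.Agent.Lib.Helper16.RealM.rel_exists_real_constituent
      (K ⊓ NP P) (NP P) hMN hnM hoddM ξ.1 ξ.2.1
    have h1 := rel_degree_eq_relIndex_mul (K ⊓ NP P) (NP P) hMN hnM hoddM ξ.1 ξ.2.1 η₀ hη₀ ho0
    have hpidx : ¬ p ∣ (invSub (K ⊓ NP P) (η₀ : ↥(K ⊓ NP P) → ℂ)).relIndex (NP P) :=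
      fun h => ξ.2.2 (h1 ▸ Dvd.dvd.mul_right h _)
    have hPle : (P : Subgroup G) ≤ invSub (K ⊓ NP P) (η₀ : ↥(K ⊓ NP P) → ℂ) ⊓ NP P :=
      (Cfsg.Agent.Lib.Helper22.RealM.le_iff_not_dvd_relIndex p P _ inf_le_right).mpr
        (by rwa [Subgroup.inf_relIndex_right])
    have hinv : InvUnder (K ⊓ NP P) (P : Subgroup G) (η₀ : ↥(K ⊓ NP P) → ℂ) :=
      (invUnder_iff_le_invSub hPM _).mpr (hPle.trans inf_le_left)
    obtain ⟨θ, hθf⟩ := hbij.2 ⟨η₀, hinv⟩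
    have hθ : IsRe (θ.1 : ↥K → ℂ) := (hre θ).mpr (by rw [hθf]; exact hη₀)
    obtain ⟨χ, hχ, ho1⟩ :=
      Cfsg.Agent.Lib.Helper25.RealN.exists_real_over_of_real K hodd θ.1 hθ
    exact ⟨⟨χ, hχ⟩, θ, hθ, ho1, by rw [hθf]; exact ho0⟩
  choose f hf using hI
  refine ⟨f, ⟨?_, ?_⟩, fun χ => hV χ (f χ) (hf χ)⟩
  · intro χ χ' h
    exact hIV χ χ' (f χ) (hf χ) (h ▸ hf χ')
  · intro ξ
    obtain ⟨χ, hχ⟩ := hIII ξ
    exact ⟨χ, hII χ (f χ) ξ (hf χ) hχ⟩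

/-- **S4865**. -/
theorem main (p : ℕ) [Fact p.Prime] (hyp : Hyp p G) (P : Sylow p G) :
    ∃ f : {χ : IrrCharacter G // IsRe (χ : G → ℂ)} →
        {ξ : IrrCharacter ↥(NP P) // IsRe (ξ : ↥(NP P) → ℂ) ∧
          ¬ p ∣ charDegree (ξ : ↥(NP P) → ℂ)},
      Function.Bijective f ∧
      ∀ χ, ((charDegree ((f χ).1 : ↥(NP P) → ℂ) : ZMod p) =
            (charDegree (χ.1 : G → ℂ) : ZMod p)) ∨
          ((charDegree ((f χ).1 : ↥(NP P) → ℂ) : ZMod p) =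
            -(charDegree (χ.1 : G → ℂ) : ZMod p)) := by
  have hKn : (Ogen 2 G).Normal := Ogen_normal 2 G
  have hodd : Odd (Ogen 2 G).index := Cfsg.Agent.Lib.Helper22.RealN.odd_index_Ogen_two
  have hsyl : ∀ Q₀ : Sylow p ↥(Ogen 2 G), (Q₀ : Subgroup ↥(Ogen 2 G)).Normal := fun Q₀ =>
    sylow_normal_of_hyp p hyp (Ogen 2 G) hKn le_rfl
      ⟨0, by rw [pow_zero]; exact Subgroup.relIndex_self _⟩ Q₀
  exact main_aux p (Ogen 2 G) hodd hyp.2 P hsyl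

end Cfsg.Agent.Lib.Helper12.RealM
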