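/-
helper12: S4864 leaf (N6): the number of `G`-orbits of real irreducible characters of `K` is at most
the number of `N_G(P)`-orbits of real irreducible characters of `C_K(P)` (`p ∤ |K|`, every real
`θ ∈ Irr(K)` having a `P`-invariant conjugate), via the equivariant real Glauberman map (N5).
-/
import Mathlib
import Cfsg.Agent.Lib.Helper12.RealNDefs
import Cfsg.Agent.Lib.Helper2.GlaubReal
import Cfsg.Agent.Lib.Lead.CharOrtho
import Cfsg.Agent.Lib.Helper2.RealNN5

set_option autoImplicit false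

namespace Cfsg.Agent.Lib.Helper12.RealN

open Cfsg Cfsg.Agent.Lib.Helper6
open Cfsg.Agent.Lib.Helper2.Glaub
open Cfsg.Agent.CharLib

universe u

variable {G : Type u} [Group G] [Finite G]

/-- **(N6)** -/
theorem card_chQuot_le (p : ℕ) [Fact p.Prime] (K : Subgroup G) [hK : K.Normal]
    (P : Sylow p G) (hpK : ¬ p ∣ Nat.card ↥K)
    (hinv : ∀ θ : IrrCharacter ↥K, (∀ k : ↥K, ((θ : ↥K → ℂ) k).im = 0) →
      ∃ η : IrrCharacter ↥K,
        (∃ g : G, ∀ k k' : ↥K, (k' : G) = g * (k : G) * g⁻¹ →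
          (η : ↥K → ℂ) k' = (θ : ↥K → ℂ) k) ∧
        InvUnder K (P : Subgroup G) (η : ↥K → ℂ)) :
    Nat.card (Quot (chRel G K)) ≤
      Nat.card (Quot (chRel ↥(NP P) ((CP K P).subgroupOf (NP P)))) := by
  classical
  obtain ⟨F, hFinv, hFonto, hFreal, hFeq⟩ :=
    Cfsg.Agent.Lib.Helper2.RealN.exists_glauberman_map p K P hpK
  have hCN : CP K P ≤ NP P :=
    inf_le_right.trans (Subgroup.centralizer_le_normalizer _)
  let e : ↥((CP K P).subgroupOf (NP P)) ≃* ↥(CP K P) := Subgroup.subgroupOfEquivOfLe hCN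
  have he : ∀ c : ↥(CP K P), (((e.symm c : ↥((CP K P).subgroupOf (NP P))) : ↥(NP P)) : G) =
      (c : G) := fun c => rfl
  have he' : ∀ c : ↥((CP K P).subgroupOf (NP P)), ((e c : ↥(CP K P)) : G) =
      ((c : ↥(NP P)) : G) := fun c => rfl
  -- the map on representatives
  let f : {β₁ : IrrCharacter ↥((CP K P).subgroupOf (NP P)) //
        ∀ c, ((β₁ : ↥((CP K P).subgroupOf (NP P)) → ℂ) c).im = 0} →
      {θ : IrrCharacter ↥K // ∀ k : ↥K, ((θ : ↥K → ℂ) k).im = 0} :=
    fun β₁ => ⟨F (irrEquiv e.symm β₁.1), (hFreal _).mp (fun c => by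
      rw [irrEquiv_apply]; exact β₁.2 _)⟩
  have hcompat : ∀ a b, chRel ↥(NP P) ((CP K P).subgroupOf (NP P)) a b →
      chRel G K (f a) (f b) := by
    rintro ⟨β₁, hβ₁⟩ ⟨β₁', hβ₁'⟩ ⟨n, hn⟩
    refine ⟨(n : G), ?_⟩
    apply hFeq (n : G) n.2
    intro c c' hcc'
    rw [irrEquiv_apply, irrEquiv_apply]
    apply hn
    apply Subtype.ext
    rw [Subgroup.coe_mul, Subgroup.coe_mul, Subgroup.coe_inv, he, he, hcc']
  let Φ : Quot (chRel ↥(NP P) ((CP K P).subgroupOf (NP P))) → Quot (chRel G K) :=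
    Quot.map f hcompat
  have hsurj : Function.Surjective Φ := by
    intro q
    induction q using Quot.ind with
    | _ θ =>
      obtain ⟨θ, hθ⟩ := θ
      obtain ⟨η, ⟨g, hg⟩, hηinv⟩ := hinv θ hθ
      have hηreal : ∀ k : ↥K, ((η : ↥K → ℂ) k).im = 0 := by
        intro k'
        have hk : g⁻¹ * (k' : G) * g ∈ K := by
          have := hK.conj_mem (k' : G) k'.2 g⁻¹
          rwa [inv_inv] at this
        have := hg ⟨g⁻¹ * (k' : G) * g, hk⟩ k' (by simp only []; group)
        rw [this]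
        exact hθ _
      obtain ⟨β, hβ⟩ := hFonto η hηinv
      have hβreal : ∀ c, ((β : ↥(CP K P) → ℂ) c).im = 0 :=
        (hFreal β).mpr (by rw [hβ]; exact hηreal)
      have hback : irrEquiv e.symm (irrEquiv e β) = β := by
        apply Subtype.ext
        funext c
        rw [irrEquiv_apply, irrEquiv_apply, MulEquiv.apply_symm_apply]
      refine ⟨Quot.mk _ ⟨irrEquiv e β, fun c => by rw [irrEquiv_apply]; exact hβreal _⟩, ?_⟩
      show Quot.mk _ (f _) = Quot.mk _ _
      have h1 : f ⟨irrEquiv e β, fun c => by rw [irrEquiv_apply]; exact hβreal _⟩ =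
          ⟨η, hηreal⟩ := by
        apply Subtype.ext
        show F (irrEquiv e.symm (irrEquiv e β)) = η
        rw [hback, hβ]
      rw [h1]
      exact (Quot.sound (⟨g, hg⟩ : chRel G K ⟨θ, hθ⟩ ⟨η, hηreal⟩)).symm
  exact Nat.card_le_card_of_surjective Φ hsurj

end Cfsg.Agent.Lib.Helper12.RealN
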