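/-
helper12: S4864 leaf (N8): `C_K(P) = K ⊓ N_G(P)` is normal of odd index in `N_G(P)` when `p ∤ |K|`
and `K ⊴ G` has odd index.
-/
import Mathlib
import Cfsg.Agent.Lib.Helper12.RealNDefs

set_option autoImplicit false

namespace Cfsg.Agent.Lib.Helper12.RealN

open Cfsg

universe u

variable {G : Type u} [Group G] [Finite G]

/-- `C_K(P) = K ⊓ N_G(P)` when `p ∤ |K|`. -/
theorem CP_eq_inf_NP (p : ℕ) [Fact p.Prime] (K : Subgroup G) [hK : K.Normal]
    (P : Sylow p G) (hpK : ¬ p ∣ Nat.card ↥K) : CP K P = K ⊓ NP P := by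
  apply le_antisymm
  · exact inf_le_inf_left K (Subgroup.centralizer_le_normalizer _)
  · rintro n ⟨hnK', hnN'⟩
    have hnK : n ∈ K := hnK'
    have hnN : n ∈ NP P := hnN'
    refine ⟨hnK, ?_⟩
    show n ∈ Subgroup.centralizer ((P : Subgroup G) : Set G)
    have hbot : K ⊓ (P : Subgroup G) = ⊥ := by
      apply disjoint_iff.mp
      apply Subgroup.disjoint_of_coprime_natCard
      obtain ⟨k, hk⟩ := (IsPGroup.iff_card.mp P.isPGroup')
      rw [hk]
      exact Nat.Coprime.pow_right k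
        ((Nat.Prime.coprime_iff_not_dvd Fact.out).mpr hpK).symm
    rw [Subgroup.mem_centralizer_iff]
    intro u hu
    have hu' : u ∈ (P : Subgroup G) := hu
    have h1 : n * u * n⁻¹ ∈ (P : Subgroup G) :=
      (Subgroup.mem_normalizer_iff.mp hnN u).mp hu'
    have h2 : n * u * n⁻¹ * u⁻¹ ∈ K ⊓ (P : Subgroup G) := by
      refine ⟨?_, Subgroup.mul_mem _ h1 (Subgroup.inv_mem _ hu')⟩
      have : n * u * n⁻¹ * u⁻¹ = n * (u * n⁻¹ * u⁻¹) := by group
      rw [this]
      exact K.mul_mem hnK (hK.conj_mem _ (K.inv_mem hnK) u)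
    rw [hbot, Subgroup.mem_bot] at h2
    have h3 : n * u = u * n := by
      have : n * u = (n * u * n⁻¹ * u⁻¹) * (u * n) := by group
      rw [this, h2, one_mul]
    exact h3.symm

/-- **(N8)** -/
theorem normal_odd_index_CP (p : ℕ) [Fact p.Prime] (K : Subgroup G) [hK : K.Normal]
    (hodd : Odd K.index) (P : Sylow p G) (hpK : ¬ p ∣ Nat.card ↥K) :
    ((CP K P).subgroupOf (NP P)).Normal ∧ Odd ((CP K P).subgroupOf (NP P)).index := by
  have h1 : (CP K P).subgroupOf (NP P) = K.subgroupOf (NP P) := by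
    rw [CP_eq_inf_NP p K P hpK]
    exact Subgroup.inf_subgroupOf_right K (NP P)
  rw [h1]
  refine ⟨hK.subgroupOf (NP P), ?_⟩
  have h2 : K.relIndex (NP P) ∣ K.index := Subgroup.relIndex_dvd_index_of_normal K (NP P)
  exact Odd.of_dvd_nat hodd h2

end Cfsg.Agent.Lib.Helper12.RealN
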