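/-
helper12: S4864 spine: the core counting argument (`p ∤ |K|`) and the reduction to it.
-/
import Mathlib
import Cfsg.Agent.Lib.Helper12.RealPDefs
import Cfsg.Agent.Lib.Helper12.RealNDefs
import Cfsg.Agent.Lib.Helper12.RealPSpineD
import Cfsg.Agent.Lib.Helper22.RealPQ1
import Cfsg.Agent.Lib.Helper22.RealPQ2
import Cfsg.Agent.Lib.Helper24.PSolvable
import Cfsg.Agent.Lib.Helper1.Coprime
import Cfsg.Agent.S4866
import Cfsg.Agent.Lib.Helper12.RealNN6
import Cfsg.Agent.Lib.Helper12.RealNN8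
import Cfsg.Agent.Lib.Helper22.RealNN12
import Cfsg.Agent.Lib.Helper11.RealNN7
import Cfsg.Agent.Lib.Helper25.RealNN3

set_option autoImplicit false

namespace Cfsg.Agent.Lib.Helper12.RealN

open Cfsg Cfsg.Agent.Lib.Helper6 Cfsg.Agent.Lib.Helper12.RealP
open Cfsg.Agent.Lib.Helper2.Glaub

universe u

variable {G : Type u} [Group G] [Finite G]

/-- The core case: `K ⊴ G` of odd index and of order prime to `p`, every real irreducible
character of `K` having a `P`-invariant `G`-conjugate: every `K`-real element of `K` is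
`G`-conjugate into `C_K(P)`. -/
theorem core (p : ℕ) [Fact p.Prime] (K : Subgroup G) [hK : K.Normal] (hodd : Odd K.index)
    (P : Sylow p G) (hpK : ¬ p ∣ Nat.card ↥K)
    (hinv : ∀ θ : IrrCharacter ↥K, (∀ k : ↥K, ((θ : ↥K → ℂ) k).im = 0) →
      ∃ η : IrrCharacter ↥K,
        (∃ g : G, ∀ k k' : ↥K, (k' : G) = g * (k : G) * g⁻¹ →
          (η : ↥K → ℂ) k' = (θ : ↥K → ℂ) k) ∧
        InvUnder K (P : Subgroup G) (η : ↥K → ℂ))
    (x : ↥K) (hx : IsConj x x⁻¹) :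
    ∃ c ∈ CP K P, ∃ g : G, (x : G) = g * c * g⁻¹ := by
  obtain ⟨hn, hoddC⟩ := normal_odd_index_CP p K hodd P hpK
  have hA : Nat.card (Quot (chRel G K)) = Nat.card (Quot (elRel G K)) :=
    Cfsg.Agent.S4866.result K hodd
  have hA' : Nat.card (Quot (chRel ↥(NP P) ((CP K P).subgroupOf (NP P)))) =
      Nat.card (Quot (elRel ↥(NP P) ((CP K P).subgroupOf (NP P)))) :=
    @Cfsg.Agent.S4866.result ↥(NP P) _ _ ((CP K P).subgroupOf (NP P)) hn hoddC
  have h1 := card_chQuot_le p K P hpK hinv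
  exact Cfsg.Agent.Lib.Helper11.RealN.exists_conj_mem_of_card_le p K P (by rw [← hA, ← hA']; exact h1) x hx


/-- **S4864**: under `Hyp p G`, every real element of `G` is conjugate into `N_G(P)`. -/
theorem main (p : ℕ) [Fact p.Prime] (hyp : Hyp p G) (P : Sylow p G) (x : G)
    (hx : IsConj x x⁻¹) : ∃ y ∈ NP P, IsConj x y := by
  classical
  have hKn : (Ogen 2 G).Normal := Ogen_normal 2 G
  let Q₀ : Sylow p ↥(Ogen 2 G) := default
  have hQ₀n : (Q₀ : Subgroup ↥(Ogen 2 G)).Normal :=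
    sylow_normal_of_hyp p hyp (Ogen 2 G) hKn le_rfl
      ⟨0, by rw [pow_zero]; exact Subgroup.relIndex_self _⟩ Q₀
  have : (Q₀ : Subgroup ↥(Ogen 2 G)).Characteristic := Sylow.characteristic_of_normal Q₀ hQ₀n
  set Q : Subgroup G := (Q₀ : Subgroup ↥(Ogen 2 G)).map (Ogen 2 G).subtype with hQdef
  have hQn : Q.Normal := ConjAct.normal_of_characteristic_of_normal
  have hQp : IsPGroup p ↥Q := Q₀.2.map (Ogen 2 G).subtype
  have hQP : Q ≤ (P : Subgroup G) :=
    Cfsg.Agent.Lib.Helper24.normal_pgroup_le_sylow Q hQp P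
  have hπs : Function.Surjective (QuotientGroup.mk' Q) := QuotientGroup.mk'_surjective Q
  have hyp' : Hyp p (G ⧸ Q) := Cfsg.Agent.Lib.Helper22.RealP.hyp_quotient p Q hyp
  have : (Ogen 2 (G ⧸ Q)).Normal := Ogen_normal 2 _
  have hK'eq : (Ogen 2 G).map (QuotientGroup.mk' Q) = Ogen 2 (G ⧸ Q) :=
    Cfsg.Agent.Lib.Helper22.RealP.ogen_map_mk 2 Q
  have hodd' : Odd (Ogen 2 (G ⧸ Q)).index :=
    Cfsg.Agent.Lib.Helper22.RealN.odd_index_Ogen_two
  have hP'coe : ((P.mapSurjective hπs : Sylow p (G ⧸ Q)) : Subgroup (G ⧸ Q)) =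
      (P : Subgroup G).map (QuotientGroup.mk' Q) := Sylow.coe_mapSurjective hπs P
  -- `p ∤ |K'|`
  have hpK' : ¬ p ∣ Nat.card ↥(Ogen 2 (G ⧸ Q)) := by
    set f : ↥(Ogen 2 G) →* G ⧸ Q := (QuotientGroup.mk' Q).comp (Ogen 2 G).subtype with hf
    have hrange : f.range = Ogen 2 (G ⧸ Q) := by
      rw [hf, MonoidHom.range_comp, Subgroup.range_subtype, hK'eq]
    have hker : f.ker = (Q₀ : Subgroup ↥(Ogen 2 G)) := by
      rw [hf, ← MonoidHom.comap_ker, QuotientGroup.ker_mk', hQdef]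
      exact Subgroup.comap_map_eq_self_of_injective (Ogen 2 G).subtype_injective _
    have h1 : f.ker.index = Nat.card ↥f.range := Subgroup.index_ker f
    rw [← hrange, ← h1, hker]
    exact Q₀.not_dvd_index
  -- the image of `x` is real
  have hx' : IsConj (QuotientGroup.mk' Q x) (QuotientGroup.mk' Q x)⁻¹ := by
    rw [← map_inv]
    exact (QuotientGroup.mk' Q).map_isConj hx
  obtain ⟨hx'K, hx'r⟩ :=
    Cfsg.Agent.Lib.Helper22.RealN.real_mem_of_odd_index (Ogen 2 (G ⧸ Q)) hodd' hx'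
  obtain ⟨c', hc', g', hg'⟩ := core p (Ogen 2 (G ⧸ Q)) hodd' (P.mapSurjective hπs) hpK'
    (fun θ hθ => Cfsg.Agent.Lib.Helper25.RealN.exists_inv_conj_of_real p (Ogen 2 (G ⧸ Q)) hodd' hyp'.2 (P.mapSurjective hπs) θ hθ)
    ⟨QuotientGroup.mk' Q x, hx'K⟩ hx'r
  obtain ⟨c, rfl⟩ := hπs c'
  obtain ⟨g, rfl⟩ := hπs g'
  -- `c` normalizes `P`
  have hcent : QuotientGroup.mk' Q c ∈
      Subgroup.centralizer (((P.mapSurjective hπs : Sylow p (G ⧸ Q)) : Subgroup (G ⧸ Q)) :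
        Set (G ⧸ Q)) := hc'.2
  have hcN : c ∈ NP P := by
    apply Cfsg.Agent.Lib.Helper1.mem_normalizer_of_forall_conj_mem
    intro u hu
    have hu' : QuotientGroup.mk' Q u ∈
        ((P.mapSurjective hπs : Sylow p (G ⧸ Q)) : Subgroup (G ⧸ Q)) := by
      rw [hP'coe]
      exact Subgroup.mem_map_of_mem _ hu
    have h1 := Subgroup.mem_centralizer_iff.mp hcent _ hu'
    have h2 : QuotientGroup.mk' Q (u⁻¹ * (c * u * c⁻¹)) = 1 := by
      simp only [map_mul, map_inv]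
      rw [← h1]
      group
    have h3 : u⁻¹ * (c * u * c⁻¹) ∈ Q := by
      rw [← QuotientGroup.ker_mk' Q]
      exact h2
    have h4 : c * u * c⁻¹ = u * (u⁻¹ * (c * u * c⁻¹)) := by group
    rw [h4]
    exact Subgroup.mul_mem _ hu (hQP h3)
  -- `g⁻¹ x g ∈ c Q`
  have hg'' : QuotientGroup.mk' Q x =
      QuotientGroup.mk' Q g * QuotientGroup.mk' Q c * (QuotientGroup.mk' Q g)⁻¹ := hg'
  have h5 : QuotientGroup.mk' Q (c⁻¹ * (g⁻¹ * x * g)) = 1 := by
    simp only [map_mul, map_inv]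
    rw [hg'']
    group
  have h6 : c⁻¹ * (g⁻¹ * x * g) ∈ Q := by
    rw [← QuotientGroup.ker_mk' Q]
    exact h5
  refine ⟨g⁻¹ * x * g, ?_, ?_⟩
  · have h7 : g⁻¹ * x * g = c * (c⁻¹ * (g⁻¹ * x * g)) := by group
    rw [h7]
    exact Subgroup.mul_mem _ hcN (Subgroup.le_normalizer (hQP h6))
  · exact isConj_iff.mpr ⟨g⁻¹, by group⟩

end Cfsg.Agent.Lib.Helper12.RealN
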