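/-
helper12: S4862 spine: `M ⊴ G`, `M ≤ O^{2'}(G) ∩ P'` is centralized by `O^{2'}(G)` (`p` odd).
-/
import Mathlib
import Cfsg.Agent.Lib.Helper12.RealPDefs
import Cfsg.Agent.Lib.Helper12.RealPSpineA
import Cfsg.Agent.Lib.Helper9.RealPG1
import Cfsg.Agent.Lib.Helper13.RealPG3
import Cfsg.Agent.Lib.Helper22.RealPQ1
import Cfsg.Agent.Lib.Helper22.RealPQ2
import Cfsg.Agent.Lib.Helper8.RealPR5
import Cfsg.Agent.Lib.Helper25.RealPR1

set_option autoImplicit false

namespace Cfsg.Agent.Lib.Helper12.RealP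

open Cfsg Cfsg.Agent.Lib.Helper6

universe u

/-- A `2`-element acting trivially on `V` and on `M / V` (`M` a `p`-group, `p` odd) centralizes `M`. -/
theorem two_element_centralizes {G : Type u} [Group G] (p : ℕ) [Fact p.Prime] (hp2 : p ≠ 2)
    (M V : Subgroup G) (hM : IsPGroup p ↥M) (hVM : V ≤ M) (t : G) {k : ℕ} (ht : t ^ 2 ^ k = 1)
    (hV : ∀ v ∈ V, t * v * t⁻¹ = v) (hMV : ∀ m ∈ M, t * m * t⁻¹ * m⁻¹ ∈ V) :
    ∀ m ∈ M, t * m * t⁻¹ = m := by
  intro m hm
  obtain ⟨v, hv⟩ : ∃ v : G, v = t * m * t⁻¹ * m⁻¹ := ⟨_, rfl⟩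
  have hvV : v ∈ V := by rw [hv]; exact hMV m hm
  have htm : t * m * t⁻¹ = v * m := by rw [hv]; group
  have hcomm : ∀ j : ℕ, t * v ^ j * t⁻¹ = v ^ j := by
    intro j
    rw [← conj_pow, hV v hvV]
  have hpow : ∀ j : ℕ, t ^ j * m * (t ^ j)⁻¹ = v ^ j * m := by
    intro j
    induction j with
    | zero => simp
    | succ j ih =>
      have e : t ^ (j + 1) * m * (t ^ (j + 1))⁻¹ = t * (t ^ j * m * (t ^ j)⁻¹) * t⁻¹ := by
        rw [pow_succ']
        group
      rw [e, ih]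
      have e2 : t * (v ^ j * m) * t⁻¹ = (t * v ^ j * t⁻¹) * (t * m * t⁻¹) := by group
      rw [e2, hcomm, htm, pow_succ, mul_assoc]
  have h1 := hpow (2 ^ k)
  rw [ht] at h1
  have h2 : v ^ 2 ^ k = 1 := by
    have : m = v ^ 2 ^ k * m := by simpa using h1
    exact (mul_eq_right.mp this.symm)
  -- v is a p-element
  obtain ⟨i, hi⟩ := hM ⟨v, hVM hvV⟩
  have hi' : v ^ p ^ i = 1 := by simpa using congrArg Subtype.val hi
  have hcop : Nat.Coprime (2 ^ k) (p ^ i) := by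
    apply Nat.Coprime.pow
    exact (Nat.coprime_primes Nat.prime_two Fact.out).mpr (Ne.symm hp2)
  have h3 : orderOf v = 1 :=
    Nat.eq_one_of_dvd_coprimes hcop (orderOf_dvd_of_pow_eq_one h2) (orderOf_dvd_of_pow_eq_one hi')
  have h4 : v = 1 := orderOf_eq_one_iff.mp h3
  rw [htm, h4, one_mul]

/-- Main induction for S4862. -/
theorem mainC (p : ℕ) [Fact p.Prime] (hp2 : p ≠ 2) : ∀ (n : ℕ) (G : Type u) [Group G] [Finite G],
    Nat.card G = n → Hyp p G →
    ∀ (P : Sylow p G) (M : Subgroup G), M.Normal → M ≤ Ogen 2 G →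
      M ≤ ⁅(P : Subgroup G), (P : Subgroup G)⁆ →
      Ogen 2 G ≤ Subgroup.centralizer (M : Set G) := by
  intro n
  induction n using Nat.strong_induction_on with
  | _ n ih =>
  intro G _ _ hcard hyp P M hMn hMK hMP
  classical
  by_cases hM1 : M = ⊥
  · rw [hM1]
    intro x _
    rw [Subgroup.mem_centralizer_iff]
    intro h hh
    have : h = 1 := by simpa using hh
    rw [this, one_mul, mul_one]
  have := hMn
  obtain ⟨V, hVn, hV1, hVM, hmin⟩ := Cfsg.Agent.Lib.Helper9.RealP.exists_minimal_normal_le M hM1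
  have := hVn
  have hPP : ⁅(P : Subgroup G), (P : Subgroup G)⁆ ≤ (P : Subgroup G) :=
    Subgroup.commutator_le.mpr (fun a ha b hb =>
      (P : Subgroup G).mul_mem ((P : Subgroup G).mul_mem ((P : Subgroup G).mul_mem ha hb)
        ((P : Subgroup G).inv_mem ha)) ((P : Subgroup G).inv_mem hb))
  have hMpg : IsPGroup p ↥M := P.2.to_le (hMP.trans hPP)
  have hVpg : IsPGroup p ↥V := hMpg.to_le hVM
  -- V is abelian
  have hVab : ∀ a ∈ V, ∀ b ∈ V, a * b = b * a := by
    rcases Cfsg.Agent.Lib.Helper9.RealP.minimal_normal_dichotomy V hmin (Ogen p G) hyp.1 with h | ⟨-, h⟩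
    · exfalso
      apply hV1
      rw [eq_bot_iff, ← h]
      exact le_inf le_rfl (le_Ogen_of_isPGroup p hVpg)
    · exact h
  -- the quotient
  let f : G →* G ⧸ V := QuotientGroup.mk' V
  have hf : Function.Surjective f := QuotientGroup.mk'_surjective V
  have hcardq : Nat.card (G ⧸ V) < n := by
    have h1 : Nat.card (G ⧸ V) * Nat.card ↥V = Nat.card G :=
      (Subgroup.card_eq_card_quotient_mul_card_subgroup V).symm
    have h2 : 1 < Nat.card ↥V := by
      rw [Subgroup.one_lt_card_iff_ne_bot]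
      exact hV1
    have h3 : 0 < Nat.card (G ⧸ V) := Nat.card_pos
    rw [← hcard, ← h1]
    nlinarith
  have hyq : Hyp p (G ⧸ V) := Cfsg.Agent.Lib.Helper22.RealP.hyp_quotient p V hyp
  have hq := ih (Nat.card (G ⧸ V)) hcardq (G ⧸ V) rfl hyq (P.mapSurjective hf) (M.map f)
    (Subgroup.Normal.map hMn f hf) ?_ ?_
  rotate_left
  · rw [← Cfsg.Agent.Lib.Helper22.RealP.ogen_map_mk 2 V]
    exact Subgroup.map_mono hMK
  · rw [Sylow.coe_mapSurjective, ← Subgroup.map_commutator]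
    exact Subgroup.map_mono hMP
  -- consequence: 2-elements act trivially on M / V
  have hMV : ∀ t : G, (∃ k : ℕ, orderOf t = 2 ^ k) → ∀ m ∈ M, t * m * t⁻¹ * m⁻¹ ∈ V := by
    intro t ht m hm
    have h1 : f t ∈ Ogen 2 (G ⧸ V) := by
      rw [← Cfsg.Agent.Lib.Helper22.RealP.ogen_map_mk 2 V]
      obtain ⟨k, hk⟩ := ht
      exact Subgroup.mem_map_of_mem f (mem_Ogen_of_orderOf 2 hk)
    have h2 := Subgroup.mem_centralizer_iff.mp (hq h1) (f m) (Subgroup.mem_map_of_mem f hm)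
    have h3 : f (t * m * t⁻¹ * m⁻¹) = 1 := by
      rw [map_mul, map_mul, map_mul, map_inv, map_inv, ← h2]
      group
    have h4 : t * m * t⁻¹ * m⁻¹ ∈ f.ker := h3
    rwa [QuotientGroup.ker_mk'] at h4
  by_cases hcase : ∀ t : G, (∃ k : ℕ, orderOf t = 2 ^ k) → ∀ v ∈ V, t * v * t⁻¹ = v
  · -- every 2-element centralizes M
    unfold Ogen
    rw [Subgroup.closure_le]
    intro t ht
    obtain ⟨k, hk⟩ := ht
    have ht1 : t ^ 2 ^ k = 1 := by rw [← hk]; exact pow_orderOf_eq_one t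
    have h1 := two_element_centralizes p hp2 M V hMpg hVM t ht1 (hcase t ⟨k, hk⟩)
      (hMV t ⟨k, hk⟩)
    change t ∈ Subgroup.centralizer (M : Set G)
    rw [Subgroup.mem_centralizer_iff]
    intro m hm
    have := h1 m hm
    calc m * t = (t * m * t⁻¹) * t := by rw [this]
      _ = t * m := by group
  · exfalso
    push Not at hcase
    obtain ⟨t₀, ht₀, v, hv, hne⟩ := hcase
    let _ : Fintype ↥V := Fintype.ofFinite _
    have hodd : Odd (Nat.card ↥V) := by
      obtain ⟨i, hi⟩ := IsPGroup.iff_card.mp hVpg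
      rw [hi]
      exact Odd.pow ((Nat.Prime.eq_two_or_odd' Fact.out).resolve_left hp2)
    obtain ⟨t, lam, ht, hlam, hinv⟩ := Cfsg.Agent.Lib.Helper13.RealP.exists_inverted_hom V hVab hodd t₀ ht₀ ⟨v, hv, hne⟩
    obtain ⟨χ, hχr, hχo⟩ := Cfsg.Agent.Lib.Helper25.RealP.exists_real_over_of_inverted V hodd lam t ht hinv
    exact hyp.2 χ hχr
      (Cfsg.Agent.Lib.Helper8.RealP.dvd_charDegree_of_le_commutator p V P (hVM.trans hMP) lam hlam χ hχo)

end Cfsg.Agent.Lib.Helper12.RealP
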