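/-
helper12: leaf SIMS-T2B1 of helper18's S3385 market (`notes/S3385_leaves.lean`): `relIndex_Fc_succ_dvd`.
-/
import Mathlib
import Cfsg.Agent.Lib.Helper18.Sims3Defs

set_option autoImplicit false

namespace Cfsg.Agent.Lib.Helper12.SIMST2B1

open Cfsg Cfsg.Agent.Lib.Helper29.TWPair Cfsg.Agent.Lib.Helper18.Sims3 MulAction

variable {G : Type*} [Group G]

/-- `cj` is multiplicative. -/
theorem cj_mul (a b : G) (S : Subgroup G) : cj (a * b) S = cj a (cj b S) := by
  unfold cj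
  rw [Subgroup.map_map]
  congr 1
  ext x
  simp [MulAut.conj_apply, mul_assoc]

/-- `Dn` at a successor. -/
theorem Dn_add (g : G) (D : Subgroup G) (i j : ℕ) : Dn g D (i + j) = cj (g ^ i) (Dn g D j) := by
  unfold Dn
  rw [pow_add, cj_mul]

/-- `cj` preserves intersections. -/
theorem cj_inf (a : G) (S T : Subgroup G) : cj a (S ⊓ T) = cj a S ⊓ cj a T :=
  Subgroup.map_inf S T _ (MulAut.conj a).injective

/-- `cj` preserves relative indices. -/
theorem relIndex_cj (a : G) (S T : Subgroup G) : (cj a S).relIndex (cj a T) = S.relIndex T :=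
  Subgroup.relIndex_map_map_of_injective S T (MulAut.conj a).injective

/-- membership in `Fc`. -/
theorem mem_Fc {g : G} {D : Subgroup G} {i k : ℕ} {x : G} :
    x ∈ Fc g D i k ↔ ∀ l : Fin (k + 1), x ∈ Dn g D (i + (l : ℕ)) := by
  unfold Fc
  exact Subgroup.mem_iInf

/-- `Fc i (k+1) = Fc i k ⊓ D_(i+k+1)`. -/
theorem Fc_succ (g : G) (D : Subgroup G) (i k : ℕ) :
    Fc g D i (k + 1) = Fc g D i k ⊓ Dn g D (i + (k + 1)) := by
  ext x
  rw [Subgroup.mem_inf, mem_Fc, mem_Fc, Fin.forall_fin_succ']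
  simp

/-- `Fc i k ≤ D_(i+l)` for `l ≤ k`. -/
theorem Fc_le_Dn (g : G) (D : Subgroup G) (i k l : ℕ) (hl : l ≤ k) : Fc g D i k ≤ Dn g D (i + l) := by
  intro x hx
  exact mem_Fc.mp hx ⟨l, by omega⟩

/-- LEAF T2B1. -/
theorem relIndex_Fc_succ_dvd [Finite G] (g : G) (D : Subgroup G)
    (hQ : (D ⊓ cj g D).relIndex D = 2) (i k : ℕ) :
    (Fc g D i (k + 1)).relIndex (Fc g D i k) ∣ 2 := by
  set T := Fc g D i k with hT
  set K := Dn g D (i + k) with hK
  set D' := Dn g D (i + (k + 1)) with hD'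
  have hTK : T ≤ K := Fc_le_Dn g D i k k le_rfl
  -- `K ⊓ D'` is the conjugate of `D ⊓ cj g D`
  have hKc : K = cj (g ^ (i + k)) D := rfl
  have hD'c : D' = cj (g ^ (i + k)) (cj g D) := by
    rw [hD', ← add_assoc, Dn_add]
    congr 1
    unfold Dn
    rw [pow_one]
  have hidx : (K ⊓ D').relIndex K = 2 := by
    rw [hKc, hD'c, ← cj_inf, relIndex_cj]
    exact hQ
  have hnorm : K ≤ Subgroup.normalizer ((K ⊓ D' : Subgroup G) : Set G) := by
    apply (Subgroup.normal_subgroupOf_iff_le_normalizer inf_le_left).mp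
    exact Subgroup.normal_of_index_eq_two hidx
  have h1 := relIndex_dvd_relIndex_of_le hTK hnorm
  rw [hidx] at h1
  have h2 : (Fc g D i (k + 1)).relIndex T = (K ⊓ D').relIndex T := by
    rw [Fc_succ, ← hT, ← hD']
    have h3 : T ⊓ D' = T ⊓ (K ⊓ D') := by
      rw [← inf_assoc, inf_eq_left.mpr hTK]
    rw [h3, Subgroup.inf_relIndex_left]
  rw [h2]
  exact h1

end Cfsg.Agent.Lib.Helper12.SIMST2B1
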