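/-
helper12: leaf SIMS-T2B3 of helper18's S3385 market (`notes/S3385_leaves.lean`): `card_Fc_of`.
-/
import Mathlib
import Cfsg.Agent.Lib.Helper18.Sims3Defs
import Cfsg.Agent.Lib.Helper12.SIMST2B1

set_option autoImplicit false

namespace Cfsg.Agent.Lib.Helper12.SIMST2B3

open Cfsg Cfsg.Agent.Lib.Helper29.TWPair Cfsg.Agent.Lib.Helper18.Sims3 MulAction
open Cfsg.Agent.Lib.Helper12.SIMST2B1

variable {G : Type*} [Group G]

/-- `Fc i k` is the conjugate of `Fc 0 k` by `g ^ i`. -/
theorem Fc_eq_cj (g : G) (D : Subgroup G) (i k : ℕ) : Fc g D i k = cj (g ^ i) (Fc g D 0 k) := by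
  unfold Fc cj
  rw [Subgroup.map_iInf _ (MulAut.conj (g ^ i)).injective]
  congr 1
  funext l
  rw [zero_add]
  exact Dn_add g D i l

/-- `cj` preserves cardinalities. -/
theorem card_cj (a : G) (S : Subgroup G) : Nat.card ↥(cj a S) = Nat.card ↥S :=
  Subgroup.card_map_of_injective (MulAut.conj a).injective

/-- `Fc 0 0 = D`. -/
theorem Fc_zero_zero (g : G) (D : Subgroup G) : Fc g D 0 0 = D := by
  ext x
  rw [mem_Fc]
  constructor
  · intro h
    have := h 0
    unfold Dn cj at this
    simpa using this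
  · intro h l
    have hl : (l : ℕ) = 0 := by omega
    rw [hl]
    unfold Dn cj
    simpa using h

/-- `Fc i (k+1) ≤ Fc i k`. -/
theorem Fc_succ_le (g : G) (D : Subgroup G) (i k : ℕ) : Fc g D i (k + 1) ≤ Fc g D i k := by
  rw [Fc_succ]
  exact inf_le_left

/-- for `H ≤ K`: `|H| * |K : H| = |K|`. -/
theorem card_mul_relIndex {H K : Subgroup G} (h : H ≤ K) :
    Nat.card ↥H * H.relIndex K = Nat.card ↥K := by
  have := Subgroup.relIndex_mul_relIndex (⊥ : Subgroup G) H K bot_le h
  rwa [Subgroup.relIndex_bot_left, Subgroup.relIndex_bot_left] at this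

/-- LEAF T2B3. -/
theorem card_Fc_of [Finite G] (g : G) (D : Subgroup G) (n : ℕ) (hn : Nat.card ↥D = 2 ^ n)
    (hstep : ∀ i k, (Fc g D i (k + 1)).relIndex (Fc g D i k) ∣ 2)
    (hR : ∀ k, (∀ j, j < k → Fc g D 0 (j + 1) ≠ Fc g D 0 j) →
      Fc g D 0 (k + 1) = Fc g D 0 k → Fc g D 0 k = ⊥) :
    ∀ i k, k ≤ n → Nat.card ↥(Fc g D i k) = 2 ^ (n - k) := by
  have key : ∀ k, k ≤ n → Nat.card ↥(Fc g D 0 k) = 2 ^ (n - k) ∧
      ∀ j, j < k → Fc g D 0 (j + 1) ≠ Fc g D 0 j := by
    intro k
    induction k with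
    | zero =>
      intro _
      refine ⟨?_, fun j hj => absurd hj (Nat.not_lt_zero j)⟩
      rw [Fc_zero_zero, hn, Nat.sub_zero]
    | succ k ih =>
      intro hk
      obtain ⟨hcard, hstr⟩ := ih (by omega)
      have hne : Fc g D 0 (k + 1) ≠ Fc g D 0 k := by
        intro heq
        have hbot := hR k hstr heq
        rw [hbot, Subgroup.card_bot] at hcard
        have h2 : 2 ^ 1 ≤ 2 ^ (n - k) := Nat.pow_le_pow_right (by norm_num) (by omega)
        omega
      have hidx : (Fc g D 0 (k + 1)).relIndex (Fc g D 0 k) = 2 := by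
        have hd := hstep 0 k
        rcases (Nat.dvd_prime Nat.prime_two).mp hd with h1 | h2
        · exfalso
          apply hne
          exact le_antisymm (Fc_succ_le g D 0 k) (Subgroup.relIndex_eq_one.mp h1)
        · exact h2
      refine ⟨?_, ?_⟩
      · have hmul := card_mul_relIndex (Fc_succ_le g D 0 k)
        rw [hidx, hcard] at hmul
        have h3 : 2 ^ (n - k) = 2 ^ (n - (k + 1)) * 2 := by
          rw [← pow_succ]
          congr 1
          omega
        rw [h3] at hmul
        exact Nat.eq_of_mul_eq_mul_right (by norm_num) hmul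
      · intro j hj
        rcases Nat.lt_succ_iff_lt_or_eq.mp hj with h | h
        · exact hstr j h
        · rw [h]; exact hne
  intro i k hk
  rw [Fc_eq_cj, card_cj]
  exact (key k hk).1

end Cfsg.Agent.Lib.Helper12.SIMST2B3
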