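/-
helper12: leaf SIMS3-KT (`transport_centralizer`) of helper18's S2772 market (`notes/S2772_leaves.lean`).
-/
import Mathlib
import Cfsg.Agent.Lib.Helper18.SimsQ
import Cfsg.Agent.Lib.Helper10.SIMS2NK

set_option autoImplicit false

namespace Cfsg.Agent.Lib.Helper12.SIMS3KT

open Cfsg Cfsg.Agent.Lib.Helper29.TWPair Cfsg.Agent.Lib.Helper18.Sims3 Cfsg.Agent.Lib.Helper18.SimsQ
  MulAction

variable {G : Type*} [Group G]

/-- membership in a conjugate subgroup -/
theorem mem_cj_iff (w : G) (S : Subgroup G) (y : G) : y ∈ cj w S ↔ w⁻¹ * y * w ∈ S := by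
  unfold cj
  constructor
  · rintro ⟨s, hs, rfl⟩
    simpa [MulAut.conj_apply, mul_assoc] using hs
  · intro h
    refine ⟨w⁻¹ * y * w, h, ?_⟩
    simp [MulAut.conj_apply, mul_assoc]

/-- `cj` preserves cardinalities. -/
theorem card_cj' (a : G) (S : Subgroup G) : Nat.card ↥(cj a S) = Nat.card ↥S :=
  Subgroup.card_map_of_injective (MulAut.conj a).injective

/-- LEAF KT (transport of the centralizer condition to the generator data). -/
theorem transport_centralizer [Finite G] {g : G} {x : ℕ → G} {n : ℕ} (h : TSData g x n)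
    (h1 : 1 ≤ n) {A D : Subgroup G} (w : G) (hH0 : Hx x 0 n = cj w A) (hH1 : Hx x 1 n = cj w D)
    (hDA : D ≤ A) (hcore : (coreIn A D).relIndex D = 2) (hcardD : Nat.card ↥D = 2 ^ n)
    (hCA : ∀ y ∈ A, (∀ k ∈ coreIn A D, y * k = k * y) → y ∈ coreIn A D) :
    ∀ y ∈ Hx x 0 n, (∀ k ∈ Hx x 1 (n - 1), y * k = k * y) → y ∈ Hx x 1 (n - 1) := by
  -- `K ≤ cj w (core_A(D))`
  have hK1 : Hx x 1 (n - 1) ≤ Hx x 1 n :=
    Cfsg.Agent.Lib.Helper18.SIMSL1.Hx_mono x le_rfl (Nat.sub_le n 1)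
  have hK0 : Hx x 1 (n - 1) ≤ Hx x 0 n :=
    Cfsg.Agent.Lib.Helper18.SIMSL1.Hx_mono x (Nat.zero_le 1) (Nat.sub_le n 1)
  have hnorm : Hx x 0 n ≤ Subgroup.normalizer ((Hx x 1 (n - 1) : Subgroup G) : Set G) := by
    rcases Nat.lt_or_ge n 2 with hn | hn
    · have hn1 : n = 1 := by omega
      subst hn1
      rw [Cfsg.Agent.Lib.Helper18.SIMSL1.Hx_empty x (by norm_num : 1 - 1 < 1)]
      intro y _
      rw [Subgroup.mem_normalizer_iff]
      intro k
      simp only [Subgroup.mem_bot]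
      constructor
      · rintro rfl
        group
      · intro hk
        have : k = y⁻¹ * (y * k * y⁻¹) * y := by group
        rw [this, hk]
        group
    · exact Cfsg.Agent.Lib.Helper10.SIMS2NK.Hx_le_normalizer h hn
  have hle : Hx x 1 (n - 1) ≤ cj w (coreIn A D) := by
    have := coreIn_map_conj A D w
    show Hx x 1 (n - 1) ≤ (coreIn A D).map (MulAut.conj w).toMonoidHom
    rw [this]
    apply le_coreIn
    · have e : Subgroup.map (MulAut.conj w).toMonoidHom A = Hx x 0 n := hH0.symm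
      rw [e]
      exact hK0
    · have e : Subgroup.map (MulAut.conj w).toMonoidHom D = Hx x 1 n := hH1.symm
      rw [e]
      exact hK1
    · have : Subgroup.map (MulAut.conj w).toMonoidHom A = Hx x 0 n := hH0.symm
      rw [this]
      exact hnorm
  -- cardinalities
  have hcK : Nat.card ↥(Hx x 1 (n - 1)) = 2 ^ (n - 1) := by
    rw [Cfsg.Agent.Lib.Helper18.SIMSL1.card_Hx_gen h 1 (n - 1) (by omega) (by omega)]
    congr 1
  have hcC : Nat.card ↥(coreIn A D) = 2 ^ (n - 1) := by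
    have h2 := Cfsg.Agent.Lib.Helper4.card_mul_relIndex (coreIn_le_right A D)
    rw [hcore, hcardD] at h2
    obtain ⟨k, rfl⟩ : ∃ k, n = k + 1 := ⟨n - 1, by omega⟩
    rw [pow_succ] at h2
    rw [Nat.add_sub_cancel]
    exact Nat.eq_of_mul_eq_mul_right (by norm_num) h2
  have heq : Hx x 1 (n - 1) = cj w (coreIn A D) := by
    apply Subgroup.eq_of_le_of_card_ge hle
    rw [card_cj', hcC, hcK]
  -- transport
  intro y hy hcent
  rw [heq, mem_cj_iff]
  rw [hH0, mem_cj_iff] at hy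
  apply hCA _ hy
  intro k hk
  have hk' : w * k * w⁻¹ ∈ Hx x 1 (n - 1) := by
    rw [heq, mem_cj_iff]
    have : w⁻¹ * (w * k * w⁻¹) * w = k := by group
    rw [this]
    exact hk
  have h3 := hcent _ hk'
  have h4 : w⁻¹ * (y * (w * k * w⁻¹)) * w = w⁻¹ * (w * k * w⁻¹ * y) * w := by rw [h3]
  have e1 : w⁻¹ * (y * (w * k * w⁻¹)) * w = w⁻¹ * y * w * k := by group
  have e2 : w⁻¹ * (w * k * w⁻¹ * y) * w = k * (w⁻¹ * y * w) := by group
  rw [e1, e2] at h4
  exact h4

end Cfsg.Agent.Lib.Helper12.SIMS3KT
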