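/-
helper12: leaf SIMS-T2C2 of helper18's S3385 market (`notes/S3385_leaves.lean`): `Hx_xs_eq_cj`.
-/
import Mathlib
import Cfsg.Agent.Lib.Helper18.Sims3Defs
import Cfsg.Agent.Lib.Helper12.SIMST2B1
import Cfsg.Agent.Lib.Helper12.SIMST2B3

set_option autoImplicit false

namespace Cfsg.Agent.Lib.Helper12.SIMST2C2

open Cfsg Cfsg.Agent.Lib.Helper29.TWPair Cfsg.Agent.Lib.Helper18.Sims3 MulAction
open Cfsg.Agent.Lib.Helper12.SIMST2B1 Cfsg.Agent.Lib.Helper12.SIMST2B3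

variable {G : Type*} [Group G]

/-- a subgroup of prime relative index together with an outside element generates. -/
theorem sup_zpowers_eq_of_prime_relIndex {H K : Subgroup G} {p : ℕ} (hp : p.Prime) (hHK : H ≤ K)
    (hidx : H.relIndex K = p) {x : G} (hxK : x ∈ K) (hxH : x ∉ H) :
    H ⊔ Subgroup.zpowers x = K := by
  have hLK : H ⊔ Subgroup.zpowers x ≤ K :=
    sup_le hHK ((Subgroup.zpowers_le).mpr hxK)
  have hHL : H ≤ H ⊔ Subgroup.zpowers x := le_sup_left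
  have hmul := Subgroup.relIndex_mul_relIndex H (H ⊔ Subgroup.zpowers x) K hHL hLK
  rw [hidx] at hmul
  have hd : H.relIndex (H ⊔ Subgroup.zpowers x) ∣ p := Dvd.intro _ hmul
  rcases (Nat.dvd_prime hp).mp hd with h1 | h2
  · exfalso
    apply hxH
    have hle : H ⊔ Subgroup.zpowers x ≤ H := Subgroup.relIndex_eq_one.mp h1
    exact hle (Subgroup.mem_sup_right (Subgroup.mem_zpowers x))
  · rw [h2] at hmul
    have h3 : (H ⊔ Subgroup.zpowers x).relIndex K = 1 := by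
      have hp0 : 0 < p := hp.pos
      exact Nat.eq_of_mul_eq_mul_left hp0 (by rw [hmul, mul_one])
    exact le_antisymm hLK (Subgroup.relIndex_eq_one.mp h3)

/-- `cj` preserves joins. -/
theorem cj_sup (a : G) (S T : Subgroup G) : cj a (S ⊔ T) = cj a S ⊔ cj a T :=
  Subgroup.map_sup S T _

/-- `cj` of a cyclic subgroup. -/
theorem cj_zpowers (a x : G) : cj a (Subgroup.zpowers x) = Subgroup.zpowers (a * x * a⁻¹) := by
  unfold cj
  rw [MonoidHom.map_zpowers]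
  rfl

/-- `cj` by `1`. -/
theorem cj_one (S : Subgroup G) : cj (1 : G) S = S := by
  ext y
  unfold cj
  simp

/-- `Hx` grows by one generator on the right. -/
theorem Hx_succ_right (x : ℕ → G) {i m : ℕ} (h : i ≤ m + 1) :
    Hx x i (m + 1) = Hx x i m ⊔ Subgroup.zpowers (x (m + 1)) := by
  unfold Hx
  have hset : Set.Icc i (m + 1) = Set.Icc i m ∪ {m + 1} := by
    ext t
    simp only [Set.mem_Icc, Set.mem_union, Set.mem_singleton_iff]
    omega
  rw [hset, Set.image_union, Set.image_singleton, Subgroup.closure_union,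
    Subgroup.zpowers_eq_closure]

/-- `Fc m 0 = D_m`. -/
theorem Fc_zero (g : G) (D : Subgroup G) (m : ℕ) : Fc g D m 0 = Dn g D m := by
  rw [Fc_eq_cj, Fc_zero_zero]
  rfl

/-- the conjugated generation statement. -/
theorem Dn_sup_zpowers [Finite G] {A B : Subgroup G} (h : TS A B) (g : G) (hg : B = cj g A)
    (x0 : G) (hxB : x0 ∈ B) (hxD : x0 ∉ A ⊓ B) (m : ℕ) :
    Dn g (A ⊓ B) m ⊔ Subgroup.zpowers (xs g x0 m) = cj (g ^ (m + 1)) A := by
  have h0 : (A ⊓ B) ⊔ Subgroup.zpowers x0 = B :=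
    sup_zpowers_eq_of_prime_relIndex Nat.prime_three inf_le_right h.idxB hxB hxD
  have h1 : cj (g ^ m) ((A ⊓ B) ⊔ Subgroup.zpowers x0) = cj (g ^ m) B := by rw [h0]
  rw [cj_sup, cj_zpowers] at h1
  have h2 : cj (g ^ m) B = cj (g ^ (m + 1)) A := by
    rw [hg, ← cj_mul, ← pow_succ]
  rw [h2] at h1
  exact h1

/-- LEAF T2C2. -/
theorem Hx_xs_eq_cj [Finite G] {A B : Subgroup G} (h : TS A B) (g : G) (hg : B = cj g A)
    (n : ℕ) (h1 : 1 ≤ n)
    (hF : ∀ i k, k ≤ n → Nat.card ↥(Fc g (A ⊓ B) i k) = 2 ^ (n - k))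
    (x0 : G) (hx0 : x0 ∈ Fc g (A ⊓ B) 1 (n - 1)) (hx01 : x0 ≠ 1)
    (hH : ∀ i j, i ≤ j → j < i + n →
      Hx (xs g x0) i j = Fc g (A ⊓ B) (j + 1) (n - 1 - (j - i))) :
    Hx (xs g x0) 0 n = cj (g ^ (n + 1)) A ∧ Hx (xs g x0) 1 (n + 1) = cj (g ^ (n + 2)) A := by
  -- `x0 ∈ D_1 ≤ cj g A = B`
  have hx0D1 : x0 ∈ Dn g (A ⊓ B) (1 + 0) := Fc_le_Dn g (A ⊓ B) 1 (n - 1) 0 (Nat.zero_le _) hx0
  have hxB : x0 ∈ B := by
    have hD1 : Dn g (A ⊓ B) (1 + 0) = cj g (A ⊓ B) := by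
      unfold Dn
      rw [add_zero, pow_one]
    rw [hD1, cj_inf] at hx0D1
    rw [hg]
    exact hx0D1.1
  -- `x0 ∉ D` since `Fc 0 n` is trivial
  have hxD : x0 ∉ A ⊓ B := by
    intro hmem
    have hmemF : x0 ∈ Fc g (A ⊓ B) 0 n := by
      rw [mem_Fc]
      intro l
      rcases Nat.eq_zero_or_pos (l : ℕ) with hl | hl
      · rw [hl, add_zero]
        unfold Dn
        rw [pow_zero, cj_one]
        exact hmem
      · have hl2 : (l : ℕ) - 1 < (n - 1) + 1 := by have := l.2; omega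
        have := mem_Fc.mp hx0 ⟨(l : ℕ) - 1, hl2⟩
        have heq : 1 + ((⟨(l : ℕ) - 1, hl2⟩ : Fin (n - 1 + 1)) : ℕ) = 0 + (l : ℕ) := by
          show 1 + ((l : ℕ) - 1) = 0 + (l : ℕ)
          omega
        rw [heq] at this
        exact this
    have hcard := hF 0 n le_rfl
    rw [Nat.sub_self, pow_zero] at hcard
    have hbot : Fc g (A ⊓ B) 0 n = ⊥ := Subgroup.card_eq_one.mp hcard
    rw [hbot, Subgroup.mem_bot] at hmemF
    exact hx01 hmemF
  constructor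
  · -- `Hx 0 n = Hx 0 (n-1) ⊔ ⟨x_n⟩`
    obtain ⟨m, rfl⟩ : ∃ m, n = m + 1 := ⟨n - 1, by omega⟩
    rw [Hx_succ_right _ (by omega), hH 0 m (Nat.zero_le _) (by omega)]
    have he : m + 1 - 1 - (m - 0) = 0 := by omega
    rw [he, Fc_zero]
    exact Dn_sup_zpowers h g hg x0 hxB hxD (m + 1)
  · rw [Hx_succ_right _ (by omega), hH 1 n h1 (by omega)]
    have he : n - 1 - (n - 1) = 0 := by omega
    rw [he, Fc_zero]
    exact Dn_sup_zpowers h g hg x0 hxB hxD (n + 1)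

end Cfsg.Agent.Lib.Helper12.SIMST2C2
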