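import Mathlib
import Cfsg.Agent.Lib.Helper1.LowDimO

/-!
# S5798 block (O), leaf O-1c `exists_good` (helper12)

Exact statement of `notes/S5798_O_leaves.lean` (sub-planner helper22, paper proof helper24): for `g` outside the
similarity group of `Qf` there is a common singular point `x` of `Qf` and `Qg Qf g` and `v, v'` in
`ker B(x,·) ∩ ker B'(x,·)` with `B'(v,v') B(x,·) - B(v,v') B'(x,·) ≠ 0`.
-/

set_option autoImplicit false
set_option linter.unusedSectionVars false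
set_option linter.unusedVariables false
set_option linter.unusedSimpArgs false

noncomputable section

namespace Cfsg.Agent.Lib.Helper12.SL6OLeaf
open Cfsg Matrix QuadraticMap Module Cfsg.Agent.Lib.Helper5 Cfsg.Agent.Lib.Helper5.SpMax
  Cfsg.Agent.Lib.Helper5.TMCalc Cfsg.Agent.Lib.Helper5.OSL Cfsg.Agent.S5644.S5644aux

variable {F : Type*} [Field F] {n : ℕ}
variable (Qf : QuadraticForm F (Fin n → F))

/-- case (A): `B'(x,·)` is not a multiple of `B(x,·)` -/
theorem good_A (hnd : (polarBilin Qf).Nondegenerate) (h2 : (2 : F) ≠ 0) (hn : 5 ≤ n)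
    (g : GL (Fin n) F) (x : Fin n → F) (hx0 : x ≠ 0) (hx : Qf x = 0) (hx' : Qg Qf g x = 0)
    (hA : ¬ ∃ lam : F, bL (Qg Qf g) x = lam • bL Qf x) :
    ∃ x v v' : Fin n → F, x ≠ 0 ∧ Qf x = 0 ∧ Qg Qf g x = 0 ∧
      polar Qf v x = 0 ∧ polar (Qg Qf g) v x = 0 ∧ polar Qf v' x = 0 ∧ polar (Qg Qf g) v' x = 0 ∧
      polar (Qg Qf g) v v' • bL Qf x - polar Qf v v' • bL (Qg Qf g) x ≠ 0 := by
  obtain ⟨v, hv, hl⟩ := exists_ns Qf hnd ![bL Qf x, bL (Qg Qf g) x] (by omega)
  have k1 : polar Qf x v = 0 := by simpa using hl 0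
  have k2 : polar (Qg Qf g) x v = 0 := by simpa using hl 1
  have k1' : polar Qf v x = 0 := by rw [polar_comm]; exact k1
  have k2' : polar (Qg Qf g) v x = 0 := by rw [polar_comm]; exact k2
  refine ⟨x, v, v, hx0, hx, hx', k1', k2', k1', k2', fun h0 => hA ?_⟩
  have hvv : polar Qf v v ≠ 0 := by
    rw [pself]; exact mul_ne_zero h2 hv
  refine ⟨polar (Qg Qf g) v v / polar Qf v v, ?_⟩
  apply LinearMap.ext
  intro z
  have h1 := LinearMap.congr_fun h0 z
  simp only [LinearMap.sub_apply, LinearMap.smul_apply, bL_apply, smul_eq_mul,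
    LinearMap.zero_apply] at h1
  simp only [LinearMap.smul_apply, bL_apply, smul_eq_mul]
  field_simp
  linear_combination -h1

/-- case (B): `B'(x,·) = lam B(x,·)` but `B' ≠ lam B` somewhere on `ker B(x,·)` -/
theorem good_B (hnd : (polarBilin Qf).Nondegenerate)
    (g : GL (Fin n) F) (x : Fin n → F) (hx0 : x ≠ 0) (hx : Qf x = 0) (hx' : Qg Qf g x = 0)
    (lam : F) (hlam : bL (Qg Qf g) x = lam • bL Qf x) (v v' : Fin n → F)
    (hv : polar Qf x v = 0) (hv' : polar Qf x v' = 0)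
    (hne : polar (Qg Qf g) v v' ≠ lam * polar Qf v v') :
    ∃ x v v' : Fin n → F, x ≠ 0 ∧ Qf x = 0 ∧ Qg Qf g x = 0 ∧
      polar Qf v x = 0 ∧ polar (Qg Qf g) v x = 0 ∧ polar Qf v' x = 0 ∧ polar (Qg Qf g) v' x = 0 ∧
      polar (Qg Qf g) v v' • bL Qf x - polar Qf v v' • bL (Qg Qf g) x ≠ 0 := by
  have hl : ∀ z, polar (Qg Qf g) x z = lam * polar Qf x z := fun z => by
    have := LinearMap.congr_fun hlam z
    simpa using this
  have k1 : polar Qf v x = 0 := by rw [polar_comm]; exact hv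
  have k2 : polar (Qg Qf g) v x = 0 := by rw [polar_comm, hl, hv, mul_zero]
  have k3 : polar Qf v' x = 0 := by rw [polar_comm]; exact hv'
  have k4 : polar (Qg Qf g) v' x = 0 := by rw [polar_comm, hl, hv', mul_zero]
  refine ⟨x, v, v', hx0, hx, hx', k1, k2, k3, k4, fun h0 => hne ?_⟩
  obtain ⟨y, hy⟩ := exists_polar_ne Qf hnd x hx0
  have h1 := LinearMap.congr_fun h0 y
  simp only [LinearMap.sub_apply, LinearMap.smul_apply, bL_apply, smul_eq_mul,
    LinearMap.zero_apply] at h1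
  rw [hl] at h1
  have h3 : (polar (Qg Qf g) v v' - lam * polar Qf v v') * polar Qf x y = 0 := by
    linear_combination h1
  have h4 := (mul_eq_zero.mp h3).resolve_right hy
  linear_combination h4

theorem exists_good (hnd : (polarBilin Qf).Nondegenerate) (h2 : (2 : F) ≠ 0) (hn : 5 ≤ n)
    (g : GL (Fin n) F) (hg : g ∉ Cfsg.Geo.quadSimilarityGroup (⇑Qf))
    (hCW2 : ∃ x : Fin n → F, x ≠ 0 ∧ Qf x = 0 ∧ Qg Qf g x = 0)
    (hCW3 : ∀ ℓ₁ ℓ₂ : (Fin n → F) →ₗ[F] F, ∃ z : Fin n → F, z ≠ 0 ∧ Qf z = 0 ∧ ℓ₁ z = 0 ∧ ℓ₂ z = 0) :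
    ∃ x v v' : Fin n → F, x ≠ 0 ∧ Qf x = 0 ∧ Qg Qf g x = 0 ∧
      polar Qf v x = 0 ∧ polar (Qg Qf g) v x = 0 ∧ polar Qf v' x = 0 ∧ polar (Qg Qf g) v' x = 0 ∧
      polar (Qg Qf g) v v' • bL Qf x - polar Qf v v' • bL (Qg Qf g) x ≠ 0 := by
  obtain ⟨x, hx0, hx, hx'⟩ := hCW2
  by_cases hA : ∃ lam : F, bL (Qg Qf g) x = lam • bL Qf x
  swap
  · exact good_A Qf hnd h2 hn g x hx0 hx hx' hA
  obtain ⟨lam, hlam⟩ := hA
  by_cases hB : ∃ v v' : Fin n → F, polar Qf x v = 0 ∧ polar Qf x v' = 0 ∧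
      polar (Qg Qf g) v v' ≠ lam * polar Qf v v'
  · obtain ⟨v, v', hv, hv', hne⟩ := hB
    exact good_B Qf hnd g x hx0 hx hx' lam hlam v v' hv hv' hne
  push Not at hB
  -- case (C)
  have hl : ∀ z, polar (Qg Qf g) x z = lam * polar Qf x z := fun z => by
    have := LinearMap.congr_fun hlam z
    simpa using this
  obtain ⟨y₀, hy₀⟩ := exists_polar_ne Qf hnd x hx0
  obtain ⟨y, hy⟩ : ∃ y, polar Qf x y = 1 := by
    refine ⟨(polar Qf x y₀)⁻¹ • y₀, ?_⟩
    rw [polar_smul_right, smul_eq_mul, inv_mul_cancel₀ hy₀]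
  -- the constant and the functional
  obtain ⟨c, hc⟩ : ∃ c : F, 2 * c = polar (Qg Qf g) y y - lam * polar Qf y y :=
    ⟨(polar (Qg Qf g) y y - lam * polar Qf y y) / 2, by field_simp⟩
  obtain ⟨η, hη⟩ : ∃ η : (Fin n → F) →ₗ[F] F, ∀ z, η z =
      polar (Qg Qf g) y z - lam * polar Qf y z - c * polar Qf x z :=
    ⟨bL (Qg Qf g) y - lam • bL Qf y - c • bL Qf x, fun z => by
      simp only [LinearMap.sub_apply, LinearMap.smul_apply, bL_apply, smul_eq_mul]⟩
  have hDform : ∀ z z', polar (Qg Qf g) z z' - lam * polar Qf z z' =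
      polar Qf x z * η z' + η z * polar Qf x z' := by
    intro z z'
    have hk : polar Qf x (z - polar Qf x z • y) = 0 := by
      rw [polar_sub_right, polar_smul_right, hy, smul_eq_mul, mul_one, sub_self]
    have hk' : polar Qf x (z' - polar Qf x z' • y) = 0 := by
      rw [polar_sub_right, polar_smul_right, hy, smul_eq_mul, mul_one, sub_self]
    have h1 := hB _ _ hk hk'
    simp only [polar_sub_left, polar_sub_right, polar_smul_left, polar_smul_right,
      smul_eq_mul] at h1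
    rw [hη, hη, polar_comm (Qg Qf g) y z, polar_comm Qf y z]
    linear_combination h1 + polar Qf x z * polar Qf x z' * hc
  have hQ' : ∀ z, Qg Qf g z = lam * Qf z + polar Qf x z * η z := by
    intro z
    have h1 := hDform z z
    rw [pself, pself] at h1
    have h3 : 2 * (Qg Qf g z - (lam * Qf z + polar Qf x z * η z)) = 0 := by
      linear_combination h1
    have h4 := (mul_eq_zero.mp h3).resolve_left h2
    linear_combination h4
  have hη0 : η ≠ 0 := by
    intro h0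
    obtain ⟨a, b, hab, hab'⟩ := exists_perp_ne Qf g hnd h2 (by omega) hg
    have h1 := hDform a b
    rw [h0, LinearMap.zero_apply, LinearMap.zero_apply, hab] at h1
    apply hab'
    linear_combination h1
  obtain ⟨e, he⟩ := exists_repr Qf hnd η
  have he0 : e ≠ 0 := by
    rintro rfl
    apply hη0
    apply LinearMap.ext
    intro z
    rw [he, polar_zero_left, LinearMap.zero_apply]
  obtain ⟨y₂, hy₂x, hy₂e⟩ := exists_both_ne Qf hnd x e hx0 he0
  obtain ⟨x₂, hx₂0, hx₂, hx₂x, hx₂y⟩ := hCW3 (bL Qf x) (bL Qf y₂)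
  rw [bL_apply] at hx₂x hx₂y
  have hx₂' : Qg Qf g x₂ = 0 := by
    rw [hQ', hx₂, hx₂x]; ring
  have hB'x₂ : ∀ z, polar (Qg Qf g) x₂ z = lam * polar Qf x₂ z + η x₂ * polar Qf x z := by
    intro z
    have h1 := hDform x₂ z
    rw [hx₂x] at h1
    linear_combination h1
  have hx₂y' : polar Qf x₂ y₂ = 0 := by rw [polar_comm]; exact hx₂y
  by_cases hηx₂ : η x₂ = 0
  · -- (B) at x₂ with v = v' = y₂
    have hlam₂ : bL (Qg Qf g) x₂ = lam • bL Qf x₂ := by
      apply LinearMap.ext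
      intro z
      simp only [LinearMap.smul_apply, bL_apply, smul_eq_mul]
      rw [hB'x₂, hηx₂]; ring
    refine good_B Qf hnd g x₂ hx₂0 hx₂ hx₂' lam hlam₂ y₂ y₂ hx₂y' hx₂y' ?_
    intro h0
    have h1 := hDform y₂ y₂
    rw [h0, he] at h1
    have h3 : 2 * (polar Qf x y₂ * polar Qf e y₂) = 0 := by linear_combination -h1
    rcases mul_eq_zero.mp h3 with h4 | h4
    · exact h2 h4
    · rcases mul_eq_zero.mp h4 with h5 | h5
      · exact hy₂x h5
      · exact hy₂e h5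
  · -- (A) at x₂
    refine good_A Qf hnd h2 hn g x₂ hx₂0 hx₂ hx₂' ?_
    rintro ⟨μ, hμ⟩
    have h1 := LinearMap.congr_fun hμ y₂
    simp only [LinearMap.smul_apply, bL_apply, smul_eq_mul] at h1
    rw [hB'x₂, hx₂y'] at h1
    have h3 : η x₂ * polar Qf x y₂ = 0 := by linear_combination h1
    rcases mul_eq_zero.mp h3 with h4 | h4
    · exact hηx₂ h4
    · exact hy₂x h4

end Cfsg.Agent.Lib.Helper12.SL6OLeaf
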