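import Mathlib
import Cfsg.Agent.Lib.Helper17.SLMDefs
import Cfsg.Agent.Lib.Helper14.SLMQ4
import Cfsg.Agent.Lib.Helper27.SLMN1

/-!
SLnMax market (helper17; rows S5775 ... S5862), STAGE 2: leaf Q7 `planes4_three` (exact signature of
notes/SLnMax_stage2_leaves.lean).  Taker: helper12.  On helper14's Q4 toolkit (`omB`, `symB`, `detB`, `omB_map`).
By-products: `symB_symplectic` (the orthogonal sum of the plane forms is symplectic, any field, any `t`),
`det_eq_prod_detB` (the determinant of a matrix permuting the planes is the product of its block determinants: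
the block permutation is even because the blocks have size `2`).
-/

set_option autoImplicit false
set_option linter.unusedSectionVars false
set_option linter.unusedVariables false

namespace Cfsg.Agent.Lib.Helper12.SLMLeaf

open Cfsg.Geo Matrix Module Cfsg.Agent.Lib.Helper17.SLM
open Cfsg.Agent.Lib.Helper14.SLMLeaf (omB symB repr_self_apply repr_block detB omB_map omB_basis)

variable {n : ℕ} {F : Type*} [Field F]

section
variable {t : ℕ} (B : Basis (Σ _ : Fin t, Fin 2) F (Fin n → F))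

/-- the determinant of a matrix permuting the planes = the product of the block determinants -/
theorem det_eq_prod_detB (D : Fin t → Submodule F (Fin n → F)) (hB : ∀ a, B a ∈ D a.1)
    (hne : ∀ (x : Fin n → F) (i j : Fin t), i ≠ j → x ∈ D i → ∀ k, B.repr x ⟨j, k⟩ = 0)
    (M : Matrix (Fin n) (Fin n) F) (τ : Equiv.Perm (Fin t)) (hM : ∀ i, ∀ x ∈ D i, M *ᵥ x ∈ D (τ i)) :
    M.det = ∏ i, detB B M τ i := by
  classical
  let e : (Σ _ : Fin t, Fin 2) ≃ Fin 2 × Fin t :=
    (Equiv.sigmaEquivProd (Fin t) (Fin 2)).trans (Equiv.prodComm _ _)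
  let B' : Basis (Fin 2 × Fin t) F (Fin n → F) := B.reindex e
  have hB' : ∀ (k : Fin 2) (i : Fin t), B' (k, i) = B ⟨i, k⟩ := by
    intro k i
    rw [Basis.reindex_apply]
    rfl
  have hr' : ∀ (x : Fin n → F) (l : Fin 2) (j : Fin t), B'.repr x (l, j) = B.repr x ⟨j, l⟩ := by
    intro x l j
    rw [Basis.repr_reindex_apply]
    rfl
  let N : Matrix (Fin 2 × Fin t) (Fin 2 × Fin t) F := LinearMap.toMatrix B' B' (Matrix.toLin' M)
  have hNdet : N.det = M.det := by
    rw [LinearMap.det_toMatrix, LinearMap.det_toLin']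
  let ρ : Equiv.Perm (Fin 2 × Fin t) := Equiv.prodCongrRight (fun _ : Fin 2 => τ)
  have hρ : Equiv.Perm.sign ρ = 1 := by
    rw [Equiv.Perm.sign_prodCongrRight, Finset.prod_const, Finset.card_univ, Fintype.card_fin]
    exact Int.units_sq _
  have hN' : N.submatrix ρ id = Matrix.blockDiagonal
      (fun i : Fin t => (Matrix.of fun l k : Fin 2 => B.repr (M *ᵥ B ⟨i, k⟩) ⟨τ i, l⟩)) := by
    ext ⟨l, j⟩ ⟨k, i⟩
    rw [Matrix.submatrix_apply, Matrix.blockDiagonal_apply]
    have e1 : N (ρ (l, j)) (id (k, i)) = B'.repr (Matrix.toLin' M (B' (k, i))) (l, τ j) :=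
      LinearMap.toMatrix_apply B' B' (Matrix.toLin' M) (l, τ j) (k, i)
    rw [e1, hr', hB', Matrix.toLin'_apply]
    change _ = if j = i then _ else _
    by_cases hji : j = i
    · subst hji
      rw [if_pos rfl]
      rfl
    · rw [if_neg hji]
      have hmem : M *ᵥ B ⟨i, k⟩ ∈ D (τ i) := hM i _ (hB ⟨i, k⟩)
      have hτ : τ i ≠ τ j := fun h => hji (τ.injective h).symm
      exact hne _ (τ i) (τ j) hτ hmem l
  have h1 : (N.submatrix ρ id).det = M.det := by
    rw [Matrix.det_permute, hρ, hNdet]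
    simp
  rw [← h1, hN', Matrix.det_blockDiagonal]
  apply Finset.prod_congr rfl
  intro i _
  rw [Matrix.det_fin_two]
  unfold detB
  simp only [Matrix.of_apply]

/-- the orthogonal sum of the plane forms is a symplectic form (copied from helper14's proof of Q4) -/
theorem symB_symplectic (D : Fin t → Submodule F (Fin n → F)) (hB : ∀ a, B a ∈ D a.1)
    (hne : ∀ (x : Fin n → F) (i j : Fin t), i ≠ j → x ∈ D i → ∀ k, B.repr x ⟨j, k⟩ = 0) :
    IsSymplecticForm (symB B) := by
  classical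
  refine ⟨⟨?_, ?_, ?_, ?_⟩, ?_, ?_, ?_⟩
  · intro x y w
    unfold symB omB
    rw [← Finset.sum_add_distrib]
    apply Finset.sum_congr rfl
    intro i _
    simp only [map_add, Finsupp.add_apply]
    ring
  · intro c x w
    unfold symB omB
    rw [Finset.mul_sum]
    apply Finset.sum_congr rfl
    intro i _
    simp only [map_smul, Finsupp.smul_apply, smul_eq_mul]
    ring
  · intro w x y
    unfold symB omB
    rw [← Finset.sum_add_distrib]
    apply Finset.sum_congr rfl
    intro i _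
    simp only [map_add, Finsupp.add_apply]
    ring
  · intro c w x
    unfold symB omB
    rw [Finset.mul_sum]
    apply Finset.sum_congr rfl
    intro i _
    simp only [map_smul, Finsupp.smul_apply, smul_eq_mul]
    ring
  · intro u w
    unfold symB omB
    rw [← Finset.sum_neg_distrib]
    apply Finset.sum_congr rfl
    intro i _
    ring
  · intro u
    unfold symB omB
    apply Finset.sum_eq_zero
    intro i _
    ring
  · intro u hu
    obtain ⟨a, ha⟩ : ∃ a, B.repr u a ≠ 0 := by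
      by_contra hcon
      push Not at hcon
      apply hu
      have : B.repr u = 0 := Finsupp.ext hcon
      exact (LinearEquiv.map_eq_zero_iff B.repr).1 this
    obtain ⟨i, k⟩ := a
    have hsum1 : ∀ (a' : Σ _ : Fin t, Fin 2) (w : Fin n → F),
        symB B (B a') w = B.repr (B a') ⟨a'.1, 0⟩ * B.repr w ⟨a'.1, 1⟩ -
          B.repr (B a') ⟨a'.1, 1⟩ * B.repr w ⟨a'.1, 0⟩ := by
      intro a' w
      unfold symB
      rw [Finset.sum_eq_single a'.1]
      · rfl
      · intro j _ hj
        unfold omB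
        rw [hne (B a') a'.1 j (fun h => hj h.symm) (hB a') 0, hne (B a') a'.1 j (fun h => hj h.symm) (hB a') 1]
        ring
      · intro h; exact absurd (Finset.mem_univ _) h
    have hsum2 : ∀ (a' : Σ _ : Fin t, Fin 2) (w : Fin n → F),
        symB B w (B a') = B.repr w ⟨a'.1, 0⟩ * B.repr (B a') ⟨a'.1, 1⟩ -
          B.repr w ⟨a'.1, 1⟩ * B.repr (B a') ⟨a'.1, 0⟩ := by
      intro a' w
      unfold symB
      rw [Finset.sum_eq_single a'.1]
      · rfl
      · intro j _ hj
        unfold omB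
        rw [hne (B a') a'.1 j (fun h => hj h.symm) (hB a') 0, hne (B a') a'.1 j (fun h => hj h.symm) (hB a') 1]
        ring
      · intro h; exact absurd (Finset.mem_univ _) h
    have h01 : (⟨i, (0 : Fin 2)⟩ : Σ _ : Fin t, Fin 2) ≠ ⟨i, 1⟩ := by
      intro h
      have := (Sigma.mk.inj_iff.1 h).2
      simp at this
    have r00 : B.repr (B ⟨i, 0⟩) ⟨i, 0⟩ = 1 := by rw [repr_self_apply, if_pos rfl]
    have r01 : B.repr (B ⟨i, 0⟩) ⟨i, 1⟩ = 0 := by rw [repr_self_apply, if_neg h01.symm]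
    have r10 : B.repr (B ⟨i, 1⟩) ⟨i, 0⟩ = 0 := by rw [repr_self_apply, if_neg h01]
    have r11 : B.repr (B ⟨i, 1⟩) ⟨i, 1⟩ = 1 := by rw [repr_self_apply, if_pos rfl]
    have hk : k = 0 ∨ k = 1 := by
      rcases k with ⟨k, hk⟩
      interval_cases k
      · left; rfl
      · right; rfl
    rcases hk with rfl | rfl
    · refine ⟨⟨B ⟨i, 1⟩, ?_⟩, ⟨B ⟨i, 1⟩, ?_⟩⟩
      · rw [hsum1 ⟨i, 1⟩ u, r10, r11, zero_mul, zero_sub, one_mul]
        exact neg_ne_zero.2 ha
      · rw [hsum2 ⟨i, 1⟩ u, r10, r11, mul_zero, sub_zero, mul_one]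
        exact ha
    · refine ⟨⟨B ⟨i, 0⟩, ?_⟩, ⟨B ⟨i, 0⟩, ?_⟩⟩
      · rw [hsum1 ⟨i, 0⟩ u, r00, r01, zero_mul, sub_zero, one_mul]
        exact ha
      · rw [hsum2 ⟨i, 0⟩ u, r00, r01, mul_zero, zero_sub, mul_one]
        exact neg_ne_zero.2 ha

end

variable [Fintype F]

/-- Q7 (S5781).  `q = 3`, two planes in `F^4`: `g` in the stabiliser with `det g = 1` has block determinants `d₀ d₁ = 1`,
`d_i = ± 1`, so `d₀ = d₁ =: c` and `f (g u) (g v) = c f u v`. -/
theorem planes4_three (hq : Fintype.card F = 3) {t : ℕ} {D : Fin t → Submodule F (Fin 4 → F)}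
    (hD : IsMDecomposition 2 D) :
    ∃ f : (Fin 4 → F) → (Fin 4 → F) → F, IsSymplecticForm f ∧
      decompositionStabilizer D ⊓ specialLinear (Fin 4) F ≤ similarityGroup f := by
  classical
  have ht : t = 2 := by
    have := Cfsg.Agent.Lib.Helper27.SLMLeaf.mdec_card hD
    omega
  subst ht
  have hint : DirectSum.IsInternal D :=
    DirectSum.isInternal_submodule_of_iSupIndep_of_iSup_eq_top hD.indep hD.iSup_eq_top
  let v : ∀ i, Basis (Fin 2) F (D i) := fun i => Module.finBasisOfFinrankEq F (D i) (hD.finrank_eq i)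
  let B : Basis (Σ _ : Fin 2, Fin 2) F (Fin 4 → F) := hint.collectedBasis v
  have hB : ∀ a, B a ∈ D a.1 := fun a => hint.collectedBasis_mem v a
  have hne : ∀ (x : Fin 4 → F) (i j : Fin 2), i ≠ j → x ∈ D i → ∀ k, B.repr x ⟨j, k⟩ = 0 :=
    fun x i j hij hx k => hint.collectedBasis_repr_of_mem_ne v hij hx
  refine ⟨symB B, symB_symplectic B D hB hne, ?_⟩
  rintro g ⟨hg, hsl⟩
  obtain ⟨σ, hσ⟩ := hg
  have hdet1 : (g : Matrix (Fin 4) (Fin 4) F).det = 1 := by
    have h1 : Matrix.GeneralLinearGroup.det g = 1 := MonoidHom.mem_ker.1 hsl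
    have h2 := congrArg Units.val h1
    rwa [Matrix.GeneralLinearGroup.val_det_apply, Units.val_one] at h2
  have hM : ∀ i, ∀ x ∈ D i, (g : Matrix (Fin 4) (Fin 4) F) *ᵥ x ∈ D (σ i) := by
    intro i x hx
    rw [← hσ i]
    exact ⟨x, hx, by rw [Matrix.toLin'_apply]⟩
  have hprod := det_eq_prod_detB B D hB hne (g : Matrix (Fin 4) (Fin 4) F) σ hM
  rw [hdet1, Fin.prod_univ_two] at hprod
  have hd1 : detB B (g : Matrix (Fin 4) (Fin 4) F) σ 1 ≠ 0 := by
    intro h0
    rw [h0, mul_zero] at hprod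
    exact one_ne_zero hprod
  have hsq : detB B (g : Matrix (Fin 4) (Fin 4) F) σ 1 * detB B (g : Matrix (Fin 4) (Fin 4) F) σ 1 = 1 := by
    have := FiniteField.pow_card_sub_one_eq_one _ hd1
    rw [hq] at this
    rw [← this]
    ring
  have heq : detB B (g : Matrix (Fin 4) (Fin 4) F) σ 0 = detB B (g : Matrix (Fin 4) (Fin 4) F) σ 1 := by
    have e : detB B (g : Matrix (Fin 4) (Fin 4) F) σ 0 =
        (detB B (g : Matrix (Fin 4) (Fin 4) F) σ 0 * detB B (g : Matrix (Fin 4) (Fin 4) F) σ 1) *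
          detB B (g : Matrix (Fin 4) (Fin 4) F) σ 1 := by
      rw [mul_assoc, hsq, mul_one]
    rw [e, ← hprod, one_mul]
  refine ⟨Units.mk0 _ hd1, fun u w => ?_⟩
  rw [Units.val_mk0]
  unfold symB
  rw [← Equiv.sum_comp σ (fun j => omB B j ((g : Matrix (Fin 4) (Fin 4) F) *ᵥ u)
    ((g : Matrix (Fin 4) (Fin 4) F) *ᵥ w)), Finset.mul_sum]
  apply Finset.sum_congr rfl
  intro i _
  rw [omB_map B D hB hne (g : Matrix (Fin 4) (Fin 4) F) σ hM u w i]
  have hi : i = 0 ∨ i = 1 := by
    rcases i with ⟨i, hi⟩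
    interval_cases i
    · left; rfl
    · right; rfl
  rcases hi with rfl | rfl
  · rw [heq]
  · rfl

end Cfsg.Agent.Lib.Helper12.SLMLeaf
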