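import Cfsg.Agent.Lib.Helper24.SLMQ8Defs
import Cfsg.Agent.Lib.Helper14.SLMLines

/-!
SLnMax stage 2, Q8 `lines4_five` (S5781), helper24's sub-market: BLOCK N = N1 `Wc_props`, N2 `exists_Wc_eq`, N3 `klein_normal`,
N4 `det_mono_sq`, N5 `coset_prod` (exact signatures of `notes/SLnMax_Q8_leaves.lean`).  Taker: helper12.
-/

set_option autoImplicit false
set_option linter.unusedSectionVars false
set_option linter.unusedVariables false

namespace Cfsg.Agent.Lib.Helper12.SLMQ8Leaf

open Cfsg.Geo Matrix Module Cfsg.Agent.Lib.Helper17.SLM Cfsg.Agent.Lib.Helper24.SLMQ8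

variable {F : Type*} [Field F]

theorem dt_sum_even : ∀ b : Fin 4, Even (dt b 0 + dt b 1 + dt b 2 + dt b 3) := by decide

theorem neg_one_pow_mul_self (n : ℕ) : ((-1 : F) ^ n) * ((-1) ^ n) = 1 := by
  rw [← mul_pow]
  simp

/-- N1 (S-M).  The coefficient functions of the elements of `R0`. -/
theorem Wc_props (i : F) (hi : i * i = -1) (p : G64) :
    (∀ y, Wc i p y * Wc i p y = Wc i p 0 * Wc i p 0) ∧ ∏ y, Wc i p y = 1 ∧ Wc i p 0 ^ 4 = 1 := by
  have hi4 : i ^ 4 = 1 := by
    have : i ^ 4 = (i * i) * (i * i) := by ring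
    rw [this, hi]; ring
  refine ⟨?_, ?_, ?_⟩
  · intro y
    unfold Wc
    have h1 := neg_one_pow_mul_self (F := F) (dt p.b y)
    have h2 := neg_one_pow_mul_self (F := F) (dt p.b 0)
    linear_combination (i ^ p.k.val * i ^ p.k.val) * h1 - (i ^ p.k.val * i ^ p.k.val) * h2
  · rw [Fin.prod_univ_four]
    unfold Wc
    have e : i ^ p.k.val * (-1) ^ dt p.b 0 * (i ^ p.k.val * (-1) ^ dt p.b 1) *
        (i ^ p.k.val * (-1) ^ dt p.b 2) * (i ^ p.k.val * (-1) ^ dt p.b 3) =
        (i ^ 4) ^ p.k.val * (-1) ^ (dt p.b 0 + dt p.b 1 + dt p.b 2 + dt p.b 3) := by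
      rw [pow_add, pow_add, pow_add, ← pow_mul]
      ring
    rw [e, hi4, one_pow, one_mul, (dt_sum_even p.b).neg_one_pow]
  · unfold Wc
    rw [dt_zero_right, pow_zero, mul_one, ← pow_mul, mul_comm, pow_mul, hi4, one_pow]

theorem dt_table : dt 1 1 = 1 ∧ dt 1 2 = 0 ∧ dt 1 3 = 1 ∧ dt 2 1 = 0 ∧ dt 2 2 = 1 ∧ dt 2 3 = 1 ∧
    dt 3 1 = 1 ∧ dt 3 2 = 1 ∧ dt 3 3 = 0 := by decide

/-- the four sign patterns with an even number of minus signs -/
theorem Wc_eq_of_signs (i : F) (k b : Fin 4) (a : Fin 4) (d : Fin 4 → F) (h0 : d 0 = i ^ k.val)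
    (h1 : d 1 = (-1) ^ dt b 1 * d 0) (h2 : d 2 = (-1) ^ dt b 2 * d 0) (h3 : d 3 = (-1) ^ dt b 3 * d 0) :
    d = Wc i ⟨k, a, b⟩ := by
  funext y
  unfold Wc
  have hy : y = 0 ∨ y = 1 ∨ y = 2 ∨ y = 3 := by
    revert y; decide
  rcases hy with rfl | rfl | rfl | rfl
  · show d 0 = i ^ k.val * (-1) ^ dt b 0
    rw [dt_zero_right, pow_zero, mul_one, h0]
  · show d 1 = i ^ k.val * (-1) ^ dt b 1
    rw [h1, h0, mul_comm]
  · show d 2 = i ^ k.val * (-1) ^ dt b 2
    rw [h2, h0, mul_comm]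
  · show d 3 = i ^ k.val * (-1) ^ dt b 3
    rw [h3, h0, mul_comm]

/-- N2 (M). -/
theorem exists_Wc_eq (i : F) (hi : i * i = -1) (d : Fin 4 → F) (h1 : ∀ y, d y * d y = d 0 * d 0)
    (h2 : ∏ y, d y = 1) (h3 : d 0 ^ 4 = 1) : ∃ k b : Fin 4, ∀ a : Fin 4, d = Wc i ⟨k, a, b⟩ := by
  obtain ⟨ht11, ht12, ht13, ht21, ht22, ht23, ht31, ht32, ht33⟩ := dt_table
  -- `d 0 = i ^ k`
  obtain ⟨k, hk⟩ : ∃ k : Fin 4, d 0 = i ^ k.val := by
    have hf : (d 0 - 1) * ((d 0 + 1) * ((d 0 - i) * (d 0 + i))) = 0 := by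
      linear_combination h3 - (d 0 * d 0 - 1) * hi
    rcases mul_eq_zero.1 hf with h | h
    · exact ⟨0, by rw [sub_eq_zero.1 h]; simp⟩
    rcases mul_eq_zero.1 h with h | h
    · refine ⟨2, ?_⟩
      show d 0 = i ^ 2
      rw [pow_two, hi]
      linear_combination h
    rcases mul_eq_zero.1 h with h | h
    · refine ⟨1, ?_⟩
      show d 0 = i ^ 1
      rw [pow_one]
      exact sub_eq_zero.1 h
    · refine ⟨3, ?_⟩
      show d 0 = i ^ 3
      have : i ^ 3 = (i * i) * i := by ring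
      rw [this, hi]
      linear_combination h
  have hsgn : ∀ y, d y = d 0 ∨ d y = -d 0 := by
    intro y
    have hf : (d y - d 0) * (d y + d 0) = 0 := by linear_combination h1 y
    rcases mul_eq_zero.1 hf with h | h
    · left; exact sub_eq_zero.1 h
    · right; linear_combination h
  rw [Fin.prod_univ_four] at h2
  have h04 : d 0 * d 0 * (d 0 * d 0) = 1 := by rw [← h3]; ring
  by_cases hchar : (-1 : F) = 1
  · -- characteristic two: all `d y = d 0`
    have hall : ∀ y, d y = d 0 := by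
      intro y
      rcases hsgn y with h | h
      · exact h
      · rw [h, neg_eq_neg_one_mul, hchar, one_mul]
    refine ⟨k, 0, fun a => Wc_eq_of_signs i k 0 a d hk ?_ ?_ ?_⟩
    · rw [dt_zero_left, pow_zero, one_mul]; exact hall 1
    · rw [dt_zero_left, pow_zero, one_mul]; exact hall 2
    · rw [dt_zero_left, pow_zero, one_mul]; exact hall 3
  · have hodd : ∀ x : F, x = 1 → -x = 1 → False := by
      intro x hx hnx
      apply hchar
      rw [hx] at hnx
      exact hnx
    rcases hsgn 1 with e1 | e1 <;> rcases hsgn 2 with e2 | e2 <;> rcases hsgn 3 with e3 | e3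
    · refine ⟨k, 0, fun a => Wc_eq_of_signs i k 0 a d hk ?_ ?_ ?_⟩
      · rw [dt_zero_left, pow_zero, one_mul]; exact e1
      · rw [dt_zero_left, pow_zero, one_mul]; exact e2
      · rw [dt_zero_left, pow_zero, one_mul]; exact e3
    · exfalso
      rw [e1, e2, e3] at h2
      exact hodd _ h04 (by linear_combination h2)
    · exfalso
      rw [e1, e2, e3] at h2
      exact hodd _ h04 (by linear_combination h2)
    · refine ⟨k, 2, fun a => Wc_eq_of_signs i k 2 a d hk ?_ ?_ ?_⟩
      · rw [ht21, pow_zero, one_mul]; exact e1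
      · rw [ht22, pow_one, neg_one_mul]; exact e2
      · rw [ht23, pow_one, neg_one_mul]; exact e3
    · exfalso
      rw [e1, e2, e3] at h2
      exact hodd _ h04 (by linear_combination h2)
    · refine ⟨k, 1, fun a => Wc_eq_of_signs i k 1 a d hk ?_ ?_ ?_⟩
      · rw [ht11, pow_one, neg_one_mul]; exact e1
      · rw [ht12, pow_zero, one_mul]; exact e2
      · rw [ht13, pow_one, neg_one_mul]; exact e3
    · refine ⟨k, 3, fun a => Wc_eq_of_signs i k 3 a d hk ?_ ?_ ?_⟩
      · rw [ht31, pow_one, neg_one_mul]; exact e1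
      · rw [ht32, pow_one, neg_one_mul]; exact e2
      · rw [ht33, pow_zero, one_mul]; exact e3
    · exfalso
      rw [e1, e2, e3] at h2
      exact hodd _ h04 (by linear_combination h2)

/-- N3 (S-M).  The translations form a normal subgroup of `S_4`. -/
theorem klein_normal (σ : Equiv.Perm (Fin 4)) (a : Fin 4) : ∃ a' : Fin 4, ∀ z, σ (vx (σ.symm z) a) = vx z a' := by
  revert σ a
  decide +kernel

/-- N4 (S-M).  `mono σ c = (permutation matrix) * diagonal c`, `det = sign σ * Π c`. -/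
theorem det_mono_sq (σ : Equiv.Perm (Fin 4)) (c : Fin 4 → F) :
    (mono σ c).det * (mono σ c).det = (∏ y, c y) * (∏ y, c y) := by
  have hfac : mono (⇑σ) c = mono (⇑σ) (fun _ => (1 : F)) * mono id c := by
    rw [mono_mul]
    congr 1
    funext y
    simp
  have hdiag : mono (id : Fin 4 → Fin 4) c = Matrix.diagonal c := by
    ext x y
    rw [mono_apply, Matrix.diagonal_apply]
    by_cases h : x = y
    · subst h; simp
    · rw [if_neg h, if_neg (by simpa using h)]
  have htr : (mono (⇑σ) (fun _ => (1 : F)))ᵀ = mono (⇑σ.symm) (fun _ => (1 : F)) := by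
    ext x y
    rw [Matrix.transpose_apply, mono_apply, mono_apply]
    by_cases h : y = σ x
    · rw [if_pos h, if_pos (by rw [h, Equiv.symm_apply_apply])]
    · rw [if_neg h, if_neg]
      intro h'
      apply h
      rw [h', Equiv.apply_symm_apply]
  have hP : (mono (⇑σ) (fun _ => (1 : F))).det * (mono (⇑σ) (fun _ => (1 : F))).det = 1 := by
    have h1 : mono (⇑σ) (fun _ => (1 : F)) * mono (⇑σ.symm) (fun _ => (1 : F)) = 1 := by
      rw [mono_mul, ← mono_id_one]
      congr 1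
      · funext y; simp
      · funext y; simp
    have h2 := congrArg Matrix.det h1
    rw [Matrix.det_mul, Matrix.det_one, ← htr, Matrix.det_transpose] at h2
    exact h2
  rw [hfac, Matrix.det_mul, hdiag, Matrix.det_diagonal]
  linear_combination ((∏ y, c y) * (∏ y, c y)) * hP

/-- the key identity for N5 -/
theorem coset_prod_aux (s : Fin 4 → F) (hs : ∀ y, s y * s y = 1) (hp : s 0 * s 1 * s 2 * s 3 = 1) :
    ∀ a y : Fin 4, s (vx y a) * s y * (s a * s 0) = 1
  | 0, 0 => by
    show s 0 * s 0 * (s 0 * s 0) = 1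
    linear_combination (s 0 * s 0) * hs 0 + hs 0
  | 0, 1 => by
    show s 1 * s 1 * (s 0 * s 0) = 1
    linear_combination (s 0 * s 0) * hs 1 + hs 0
  | 0, 2 => by
    show s 2 * s 2 * (s 0 * s 0) = 1
    linear_combination (s 0 * s 0) * hs 2 + hs 0
  | 0, 3 => by
    show s 3 * s 3 * (s 0 * s 0) = 1
    linear_combination (s 0 * s 0) * hs 3 + hs 0
  | 1, 0 => by
    show s 1 * s 0 * (s 1 * s 0) = 1
    linear_combination (s 0 * s 0) * hs 1 + hs 0
  | 1, 1 => by
    show s 0 * s 1 * (s 1 * s 0) = 1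
    linear_combination (s 0 * s 0) * hs 1 + hs 0
  | 1, 2 => by
    show s 3 * s 2 * (s 1 * s 0) = 1
    linear_combination hp
  | 1, 3 => by
    show s 2 * s 3 * (s 1 * s 0) = 1
    linear_combination hp
  | 2, 0 => by
    show s 2 * s 0 * (s 2 * s 0) = 1
    linear_combination (s 0 * s 0) * hs 2 + hs 0
  | 2, 1 => by
    show s 3 * s 1 * (s 2 * s 0) = 1
    linear_combination hp
  | 2, 2 => by
    show s 0 * s 2 * (s 2 * s 0) = 1
    linear_combination (s 0 * s 0) * hs 2 + hs 0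
  | 2, 3 => by
    show s 1 * s 3 * (s 2 * s 0) = 1
    linear_combination hp
  | 3, 0 => by
    show s 3 * s 0 * (s 3 * s 0) = 1
    linear_combination (s 0 * s 0) * hs 3 + hs 0
  | 3, 1 => by
    show s 2 * s 1 * (s 3 * s 0) = 1
    linear_combination hp
  | 3, 2 => by
    show s 1 * s 2 * (s 3 * s 0) = 1
    linear_combination hp
  | 3, 3 => by
    show s 0 * s 3 * (s 3 * s 0) = 1
    linear_combination (s 0 * s 0) * hs 3 + hs 0

/-- N5 (S-M).  Signs with product one on `F_2²`: the products over the two cosets of `{0, a}` agree. -/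
theorem coset_prod (s : Fin 4 → F) (hs : ∀ y, s y * s y = 1) (hp : ∏ y, s y = 1) (a y : Fin 4) :
    s (vx y a) * s y = s a * s 0 := by
  rw [Fin.prod_univ_four] at hp
  have key := coset_prod_aux s hs hp a y
  have hQ : (s a * s 0) * (s a * s 0) = 1 := by
    linear_combination (s 0 * s 0) * hs a + hs 0
  linear_combination (s a * s 0) * key - (s (vx y a) * s y) * hQ

end Cfsg.Agent.Lib.Helper12.SLMQ8Leaf
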