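/-
helper12: the "Weil criterion" for `SL_n(F)`, `n ≥ 3` (leaf (K) of S2332).  An irreducible complex representation
of `SL_n(F)` in which the stabiliser of the first basis vector fixes a non-zero vector is a constituent of the
permutation representation on the non-zero vectors, hence (S2336) has degree `1`, `(q^n - q)/(q - 1)` or
`(q^n - 1)/(q - 1)`.
-/
import Cfsg.Agent.S2336

set_option autoImplicit false
set_option linter.unusedSectionVars false

namespace Cfsg.Agent.Lib.Helper12.SLMinWeil

open Matrix Cfsg Cfsg.Agent.CharLib Cfsg.Agent.Lib.Helper15.SLTrans Cfsg.Agent.Lib.Helper15.SLPerm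
  Cfsg.Agent.Lib.Helper15.MultFree Cfsg.Agent.S2336
open scoped ComplexConjugate

section main
variable {F : Type*} [Field F] [Fintype F] [DecidableEq F] {k : ℕ}

local notation "𝔾" => Matrix.SpecialLinearGroup (Fin (k + 3)) F
local notation "𝕏" => NZ F (k + 3)

/-! ### the constituents of the permutation character -/

theorem isCharacter_Theta (j : Option (MulChar F ℂ)) : IsCharacter 𝔾 (Theta (F := F) (k := k) j) := by
  classical
  rcases j with _ | α
  · exact isCharacter_one
  · show IsCharacter 𝔾 (if α = 1 then theta α - 1 else theta α)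
    split_ifs with h
    · subst h
      apply Cfsg.Agent.Lib.Helper10.char_sub_irr_isCharacter (isCharacter_theta 1)
        isIrrCharacter_one
      rw [classInner_theta_one]
      exact one_ne_zero
    · exact isCharacter_theta α

theorem Theta_ne_zero (j : Option (MulChar F ℂ)) : Theta (F := F) (k := k) j ≠ 0 := by
  classical
  rcases j with _ | α
  · intro h
    have := congrFun h 1
    simp [Theta] at this
  · show (if α = 1 then theta α - 1 else theta α) ≠ 0
    split_ifs with h
    · subst h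
      exact theta_one_sub_ne
    · exact theta_ne_zero α

theorem sum_Theta_some : ∑ α : MulChar F ℂ, Theta (F := F) (k := k) (some α) = pi0 - 1 := by
  classical
  have h1 : ∀ α : MulChar F ℂ, Theta (F := F) (k := k) (some α) =
      theta α - (if α = 1 then (1 : 𝔾 → ℂ) else 0) := by
    intro α
    show (if α = 1 then theta α - 1 else theta α) = _
    split_ifs with h
    · rfl
    · rw [sub_zero]
  rw [Finset.sum_congr rfl (fun α _ => h1 α), Finset.sum_sub_distrib,
    Finset.sum_ite_eq' Finset.univ (1 : MulChar F ℂ), if_pos (Finset.mem_univ _)]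
  congr 1
  funext g
  rw [Finset.sum_apply, sum_theta]

theorem sum_Theta : ∑ j, Theta (F := F) (k := k) j = pi0 := by
  rw [Fintype.sum_option, sum_Theta_some]
  show (1 : 𝔾 → ℂ) + (pi0 - 1) = pi0
  abel

theorem isIrrCharacter_Theta (j : Option (MulChar F ℂ)) :
    IsIrrCharacter 𝔾 (Theta (F := F) (k := k) j) := by
  have hnorm : classInner (∑ j, Theta (F := F) (k := k) j) (∑ j, Theta (F := F) (k := k) j) =
      (Fintype.card (Option (MulChar F ℂ)) : ℂ) := by
    rw [sum_Theta, classInner_pi0, Fintype.card_option, card_mulChar]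
    have : 1 ≤ Fintype.card F := Fintype.card_pos
    rw [Nat.sub_add_cancel this]
  exact (multfree (Theta (F := F) (k := k)) isCharacter_Theta Theta_ne_zero hnorm).1 j

/-! ### degrees -/

theorem card_NZ (n : ℕ) : Nat.card (NZ F n) = Fintype.card F ^ n - 1 := by
  classical
  unfold NZ
  rw [Nat.card_eq_fintype_card, Fintype.card_subtype_compl, Fintype.card_subtype_eq, Fintype.card_fun,
    Fintype.card_fin]

theorem card_G : Nat.card 𝔾 = (Fintype.card F ^ (k + 3) - 1) * NN F k := by
  have h := card_preimage (F := F) (k := k) (fun _ => True)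
  rw [← card_NZ]
  have h1 : Nat.card {x : 𝔾 // (fun _ : 𝕏 => True) (x • (e0X : 𝕏))} = Nat.card 𝔾 :=
    Nat.card_congr (Equiv.subtypeUnivEquiv (fun _ => trivial))
  have h2 : Nat.card {v : 𝕏 // (fun _ : 𝕏 => True) v} = Nat.card 𝕏 :=
    Nat.card_congr (Equiv.subtypeUnivEquiv (fun _ => trivial))
  rw [h1, h2] at h
  exact h

/-- the number of points of the projective space -/
def Npt (q n : ℕ) : ℕ := (q ^ n - 1) / (q - 1)

theorem pred_mul_Npt {q : ℕ} (n : ℕ) : (q - 1) * Npt q n = q ^ n - 1 := by
  unfold Npt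
  exact Nat.mul_div_cancel' (Nat.sub_one_dvd_pow_sub_one q n)

theorem theta_one_eq (α : MulChar F ℂ) :
    theta (k := k) α 1 = (Npt (Fintype.card F) (k + 3) : ℂ) := by
  rw [theta_one, card_P1, card_G, ← pred_mul_Npt]
  have hN : (NN F k : ℂ) ≠ 0 := by
    have := NN_pos (F := F) (k := k)
    exact_mod_cast this.ne'
  have hq := card_F_sub_one_ne_zero (F := F)
  push_cast at hq ⊢
  field_simp

theorem Theta_one (j : Option (MulChar F ℂ)) :
    Theta (F := F) (k := k) j 1 = 1 ∨
      Theta (F := F) (k := k) j 1 = (Npt (Fintype.card F) (k + 3) : ℂ) - 1 ∨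
      Theta (F := F) (k := k) j 1 = (Npt (Fintype.card F) (k + 3) : ℂ) := by
  classical
  rcases j with _ | α
  · left; rfl
  · by_cases h : α = 1
    · right; left
      show (if α = 1 then theta α - 1 else theta α) 1 = _
      rw [if_pos h, Pi.sub_apply, theta_one_eq, Pi.one_apply]
    · right; right
      show (if α = 1 then theta α - 1 else theta α) 1 = _
      rw [if_neg h, theta_one_eq]

/-! ### the permutation character is induced from the vector stabiliser -/

/-- the stabiliser of the first basis vector -/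
def A0 : Subgroup 𝔾 := MulAction.stabilizer 𝔾 (e0X : 𝕏)

theorem mem_A0 {g : 𝔾} : g ∈ A0 (F := F) (k := k) ↔ g • (e0X : 𝕏) = e0X := MulAction.mem_stabilizer_iff

theorem card_A0 : Nat.card (A0 (F := F) (k := k)) = NN F k := by
  unfold NN
  exact Nat.card_congr (Equiv.subtypeEquivRight (fun _ => mem_A0))

open Classical in
theorem pi0_eq_indFun : pi0 (F := F) (k := k) = indFun A0 (1 : A0 (F := F) (k := k) → ℂ) := by
  funext g
  unfold indFun
  have h0 : ∀ y : 𝔾, extendByZero A0 (1 : A0 (F := F) (k := k) → ℂ) y =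
      if y • (e0X : 𝕏) = e0X then 1 else 0 := by
    intro y
    split_ifs with hy
    · have hy' : y ∈ A0 (F := F) (k := k) := mem_A0.mpr hy
      have : y = ((⟨y, hy'⟩ : A0 (F := F) (k := k)) : 𝔾) := rfl
      rw [this, extendByZero_apply_coe]
      rfl
    · exact extendByZero_apply_of_not_mem _ _ (fun h => hy (mem_A0.mp h))
  rw [Finset.sum_congr rfl (fun x _ => h0 (x⁻¹ * g * x)), ← Finset.sum_filter, Finset.sum_const,
    nsmul_eq_mul, mul_one]
  have h1 : (Finset.univ.filter (fun x : 𝔾 => (x⁻¹ * g * x) • (e0X : 𝕏) = e0X)).card =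
      Nat.card (MulAction.fixedBy 𝕏 g) * NN F k := by
    have h2 := card_preimage (F := F) (k := k) (fun v => v ∈ MulAction.fixedBy 𝕏 g)
    rw [← h2, Nat.card_eq_fintype_card, Fintype.card_subtype]
    congr 1
    apply Finset.filter_congr
    intro x _
    rw [mul_smul, mul_smul, inv_smul_eq_iff]
    rfl
  rw [h1, card_A0]
  unfold pi0
  have hN : (NN F k : ℂ) ≠ 0 := by
    have := NN_pos (F := F) (k := k)
    exact_mod_cast this.ne'
  push_cast
  field_simp

/-! ### the criterion -/

open Module in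
theorem weil_aux {V : Type*} [AddCommGroup V] [Module ℂ V] [FiniteDimensional ℂ V]
    (ρ : Representation ℂ 𝔾 V) (hirr : ρ.IsIrreducible) (v : V) (hv : v ≠ 0)
    (hfix : ∀ g : 𝔾, g • (e0X : 𝕏) = e0X → ρ g v = v) :
    (finrank ℂ V : ℂ) = 1 ∨ (finrank ℂ V : ℂ) = (Npt (Fintype.card F) (k + 3) : ℂ) - 1 ∨
      (finrank ℂ V : ℂ) = (Npt (Fintype.card F) (k + 3) : ℂ) := by
  classical
  have hχ : IsIrrCharacter 𝔾 ρ.character := isIrrCharacter_of_rep ρ hirr
  have : Fintype (A0 (F := F) (k := k)) := Fintype.ofFinite _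
  -- Frobenius reciprocity
  have h1 : classInner (pi0 (F := F) (k := k)) ρ.character =
      classInner (1 : A0 (F := F) (k := k) → ℂ) (fun h : A0 (F := F) (k := k) => ρ.character h) := by
    rw [pi0_eq_indFun]
    exact frobenius_reciprocity A0 1 (IsCharacter.isClassFunction (IsIrrCharacter.isCharacter hχ))
  -- the restricted representation and its invariants
  let ρ' : Representation ℂ (A0 (F := F) (k := k)) V := MonoidHom.comp ρ (A0 (F := F) (k := k)).subtype
  have hinv : Invertible (Nat.card (A0 (F := F) (k := k)) : ℂ) := invertibleOfNonzero card_ne_zero'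
  have h2 : (Nat.card (A0 (F := F) (k := k)) : ℂ)⁻¹ * ∑ h : A0 (F := F) (k := k), ρ.character h =
      (finrank ℂ (Representation.invariants ρ') : ℂ) :=
    Representation.card_inv_mul_sum_char_eq_finrank ρ'
  have h3 : classInner (1 : A0 (F := F) (k := k) → ℂ) (fun h : A0 (F := F) (k := k) => ρ.character h) =
      (finrank ℂ (Representation.invariants ρ') : ℂ) := by
    have h4 : classInner (1 : A0 (F := F) (k := k) → ℂ)
        (fun h : A0 (F := F) (k := k) => ρ.character h) =
        conj ((Nat.card (A0 (F := F) (k := k)) : ℂ)⁻¹ * ∑ h : A0 (F := F) (k := k), ρ.character h) := by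
      unfold classInner
      rw [map_mul, map_inv₀, Complex.conj_natCast, map_sum]
      congr 1
      apply Finset.sum_congr rfl
      intro h _
      rw [Pi.one_apply, one_mul]
    rw [h4, h2, Complex.conj_natCast]
  have h5 : finrank ℂ (Representation.invariants ρ') ≠ 0 := by
    have hpos : 0 < finrank ℂ (Representation.invariants ρ') := by
      rw [Module.finrank_pos_iff_exists_ne_zero]
      refine ⟨⟨v, ?_⟩, ?_⟩
      · intro h
        exact hfix h.1 (mem_A0.mp h.2)
      · intro h
        exact hv (congrArg Subtype.val h)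
    exact hpos.ne'
  have h6 : classInner (pi0 (F := F) (k := k)) ρ.character ≠ 0 := by
    rw [h1, h3]
    exact_mod_cast h5
  rw [← sum_Theta, classInner_sum_left] at h6
  obtain ⟨j, -, hj⟩ := Finset.exists_ne_zero_of_sum_ne_zero h6
  rw [classInner_irr (isIrrCharacter_Theta j) hχ] at hj
  have hj' : Theta (F := F) (k := k) j = ρ.character := by
    by_contra hne
    rw [if_neg hne] at hj
    exact hj rfl
  have hdeg : (finrank ℂ V : ℂ) = Theta (F := F) (k := k) j 1 := by
    rw [hj', Representation.char_one]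
  rw [hdeg]
  exact Theta_one j

theorem Npt_sub_one {q : ℕ} (hq : 2 ≤ q) (n : ℕ) (hn : 1 ≤ n) :
    (q ^ n - q) / (q - 1) = Npt q n - 1 := by
  have h1 := pred_mul_Npt (q := q) n
  have hq1 : 0 < q - 1 := by omega
  have hpow : q ≤ q ^ n := by
    calc q = q ^ 1 := (pow_one q).symm
      _ ≤ q ^ n := Nat.pow_le_pow_right (by omega) hn
  have hNpos : 1 ≤ Npt q n := by
    by_contra h
    have h0 : Npt q n = 0 := by omega
    rw [h0, mul_zero] at h1
    omega
  apply Nat.div_eq_of_eq_mul_right hq1
  rw [Nat.mul_sub, h1, mul_one]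
  omega

open Module in
/-- **Weil criterion**, `Fin (k + 3)` form, stabiliser of an arbitrary non-zero vector. -/
theorem weil_of_fixed_add {V : Type*} [AddCommGroup V] [Module ℂ V] [FiniteDimensional ℂ V]
    (ρ : Representation ℂ 𝔾 V) (hirr : ρ.IsIrreducible) (w : Fin (k + 3) → F) (hw : w ≠ 0)
    (v : V) (hv : v ≠ 0)
    (hfix : ∀ g : 𝔾, (g : Matrix (Fin (k + 3)) (Fin (k + 3)) F) *ᵥ w = w → ρ g v = v) :
    finrank ℂ V = 1 ∨
      finrank ℂ V = (Fintype.card F ^ (k + 3) - Fintype.card F) / (Fintype.card F - 1) ∨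
      finrank ℂ V = (Fintype.card F ^ (k + 3) - 1) / (Fintype.card F - 1) := by
  obtain ⟨x, hx⟩ := exists_smul_e0X (k := k + 1) (⟨w, hw⟩ : 𝕏)
  have hx' : (x : Matrix (Fin (k + 3)) (Fin (k + 3)) F) *ᵥ (Pi.single 0 1) = w :=
    congrArg Subtype.val hx
  have hxinv : ρ x (ρ x⁻¹ v) = v := by
    rw [← Module.End.mul_apply, ← map_mul, mul_inv_cancel, map_one, Module.End.one_apply]
  have hv' : ρ x⁻¹ v ≠ 0 := by
    intro h
    rw [h, map_zero] at hxinv
    exact hv hxinv.symm
  have hfix' : ∀ g : 𝔾, g • (e0X : 𝕏) = e0X → ρ g (ρ x⁻¹ v) = ρ x⁻¹ v := by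
    intro g hg
    have hg' : (g : Matrix (Fin (k + 3)) (Fin (k + 3)) F) *ᵥ (Pi.single 0 1) = Pi.single 0 1 :=
      congrArg Subtype.val hg
    have h1 : ((x * g * x⁻¹ : 𝔾) : Matrix (Fin (k + 3)) (Fin (k + 3)) F) *ᵥ w = w := by
      rw [mulVec_mul, mulVec_mul]
      have h2 : (x⁻¹ : 𝔾).1 *ᵥ w = Pi.single 0 1 := by
        rw [← hx', inv_mulVec]
      rw [h2, hg', hx']
    have h3 := hfix _ h1
    rw [map_mul, map_mul, Module.End.mul_apply, Module.End.mul_apply] at h3
    have h4 := congrArg (ρ x⁻¹) h3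
    rw [← Module.End.mul_apply, ← map_mul, inv_mul_cancel, map_one, Module.End.one_apply] at h4
    exact h4
  have hq : 2 ≤ Fintype.card F := Fintype.one_lt_card
  rcases weil_aux ρ hirr (ρ x⁻¹ v) hv' hfix' with h | h | h
  · left
    exact_mod_cast h
  · right; left
    rw [Npt_sub_one hq _ (by omega)]
    have h1 : (finrank ℂ V : ℂ) + 1 = (Npt (Fintype.card F) (k + 3) : ℂ) := by rw [h]; ring
    have h2 : finrank ℂ V + 1 = Npt (Fintype.card F) (k + 3) := by exact_mod_cast h1
    omega
  · right; right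
    have h2 : finrank ℂ V = Npt (Fintype.card F) (k + 3) := by exact_mod_cast h
    exact h2

end main

open Module in
/-- **Weil criterion** (leaf (K) of S2332): an irreducible complex representation of `SL_n(F)`, `n ≥ 3`, in which
the stabiliser of a non-zero vector `w` fixes a non-zero vector has degree `1`, `(q^n - q)/(q - 1)` or
`(q^n - 1)/(q - 1)`. -/
theorem weil_of_fixed {F : Type*} [Field F] [Fintype F] [DecidableEq F] (n : ℕ) (hn : 3 ≤ n)
    {V : Type*} [AddCommGroup V] [Module ℂ V] [FiniteDimensional ℂ V]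
    (ρ : Representation ℂ (Matrix.SpecialLinearGroup (Fin n) F) V) (hirr : ρ.IsIrreducible)
    (w : Fin n → F) (hw : w ≠ 0) (v : V) (hv : v ≠ 0)
    (hfix : ∀ g : Matrix.SpecialLinearGroup (Fin n) F,
      (g : Matrix (Fin n) (Fin n) F) *ᵥ w = w → ρ g v = v) :
    finrank ℂ V = 1 ∨
      finrank ℂ V = (Fintype.card F ^ n - Fintype.card F) / (Fintype.card F - 1) ∨
      finrank ℂ V = (Fintype.card F ^ n - 1) / (Fintype.card F - 1) := by
  obtain ⟨k, rfl⟩ : ∃ k, n = k + 3 := ⟨n - 3, by omega⟩
  exact weil_of_fixed_add ρ hirr w hw v hv hfix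

end Cfsg.Agent.Lib.Helper12.SLMinWeil
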