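/-
helper12: the "Weil criterion" (leaf (K) of S2332) in helper16's block setting `SL (Unit ⊕ ι') F`:
an irreducible representation in which some non-zero vector is fixed by the first-row radical `rad` and by the
block-embedded `emb (SL ι')` has degree `1`, `tgt q n` or `tgt q n + 1` (`n = |ι'| + 1 ≥ 3`).
-/
import Cfsg.Agent.Lib.Helper12.SLMinWeil
import Cfsg.Agent.Lib.Helper16.SLMinDefs
import Cfsg.Agent.Lib.Helper8.SLMinGen2

set_option autoImplicit false

namespace Cfsg.Agent.Lib.Helper12.SLMin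

open Matrix Module Cfsg.Agent.Lib.Helper16.SLMin Cfsg.Agent.Lib.Helper8.SLMinGen

variable {F : Type*} [Field F] {ι' : Type*} [Fintype ι'] [DecidableEq ι']

/-- an element of `SL (Unit ⊕ ι')` whose first column is the first basis vector is `emb h * rad r` -/
theorem exists_emb_mul_rad (g : SpecialLinearGroup (Unit ⊕ ι') F)
    (h11 : (g : Matrix (Unit ⊕ ι') (Unit ⊕ ι') F) (Sum.inl ()) (Sum.inl ()) = 1)
    (h21 : ∀ i : ι', (g : Matrix (Unit ⊕ ι') (Unit ⊕ ι') F) (Sum.inr i) (Sum.inl ()) = 0) :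
    ∃ (h : SpecialLinearGroup ι' F) (r : ι' → F), g = emb h * rad r := by
  have hA : (g : Matrix (Unit ⊕ ι') (Unit ⊕ ι') F).toBlocks₁₁ = 1 := by
    ext i j
    rw [toBlocks₁₁]
    simp only [of_apply, one_apply_eq]
    exact h11
  have hC : (g : Matrix (Unit ⊕ ι') (Unit ⊕ ι') F).toBlocks₂₁ = 0 := by
    ext i j
    rw [toBlocks₂₁]
    simp only [of_apply, Matrix.zero_apply]
    exact h21 i
  have hg : (g : Matrix (Unit ⊕ ι') (Unit ⊕ ι') F) =
      fromBlocks 1 (g : Matrix (Unit ⊕ ι') (Unit ⊕ ι') F).toBlocks₁₂ 0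
        (g : Matrix (Unit ⊕ ι') (Unit ⊕ ι') F).toBlocks₂₂ := by
    conv_lhs => rw [← fromBlocks_toBlocks (g : Matrix (Unit ⊕ ι') (Unit ⊕ ι') F), hA, hC]
  have hdet : ((g : Matrix (Unit ⊕ ι') (Unit ⊕ ι') F).toBlocks₂₂).det = 1 := by
    have h1 := g.2
    rw [hg, det_fromBlocks_zero₂₁, det_one, one_mul] at h1
    exact h1
  obtain ⟨h, hh⟩ : ∃ h : SpecialLinearGroup ι' F,
      (h : Matrix ι' ι' F) = (g : Matrix (Unit ⊕ ι') (Unit ⊕ ι') F).toBlocks₂₂ := ⟨⟨_, hdet⟩, rfl⟩
  refine ⟨h, fun j => (g : Matrix (Unit ⊕ ι') (Unit ⊕ ι') F) (Sum.inl ()) (Sum.inr j), ?_⟩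
  have key : (g : Matrix (Unit ⊕ ι') (Unit ⊕ ι') F) =
      ((emb h * rad (fun j => (g : Matrix (Unit ⊕ ι') (Unit ⊕ ι') F) (Sum.inl ()) (Sum.inr j)) :
          SpecialLinearGroup (Unit ⊕ ι') F) : Matrix (Unit ⊕ ι') (Unit ⊕ ι') F) := by
    rw [Matrix.SpecialLinearGroup.coe_mul, emb_coe, rad_coe, fromBlocks_multiply, hh]
    conv_lhs => rw [hg]
    congr 1
    · simp
    · ext i j
      simp [toBlocks₁₂, replicateRow_apply]
    · simp
    · simp
  exact Subtype.ext key

/-- **Weil criterion in block form** (leaf (K) of S2332): in an irreducible representation of `SL (Unit ⊕ ι') F`,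
`|ι'| ≥ 2`, a non-zero vector fixed by the first-row radical and by the block-embedded `SL ι'` forces the degree to be
`1`, `(q^n - q)/(q - 1)` or `(q^n - 1)/(q - 1)`, `n = |ι'| + 1`. -/
theorem weil_of_fixed_block [Fintype F] [DecidableEq F] (h2 : 2 ≤ Fintype.card ι')
    {M : Type*} [AddCommGroup M] [Module ℂ M] [FiniteDimensional ℂ M]
    (ρ : Representation ℂ (SpecialLinearGroup (Unit ⊕ ι') F) M) (hρ : ρ.IsIrreducible)
    (v : M) (hv : v ≠ 0) (hrad : ∀ r : ι' → F, ρ (rad r) v = v)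
    (hemb : ∀ h : SpecialLinearGroup ι' F, ρ (emb h) v = v) :
    finrank ℂ M = 1 ∨ finrank ℂ M = tgt (Fintype.card F) (Fintype.card ι' + 1) ∨
      finrank ℂ M = (Fintype.card F ^ (Fintype.card ι' + 1) - 1) / (Fintype.card F - 1) := by
  have hcard : Fintype.card (Unit ⊕ ι') = Fintype.card ι' + 1 := by
    rw [Fintype.card_sum, Fintype.card_unit, add_comm]
  let e : Unit ⊕ ι' ≃ Fin (Fintype.card (Unit ⊕ ι')) := Fintype.equivFin _
  let ρ' : Representation ℂ (SpecialLinearGroup (Fin (Fintype.card (Unit ⊕ ι'))) F) M :=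
    ρ.comp (slReindex (F := F) e.symm).toMonoidHom
  have hρ' : ρ'.IsIrreducible := (isIrreducible_comp_slReindex e.symm ρ).mpr hρ
  let w : Fin (Fintype.card (Unit ⊕ ι')) → F := Pi.single (e (Sum.inl ())) 1
  have hw : w ≠ 0 := by
    intro h
    have := congrFun h (e (Sum.inl ()))
    simp [w] at this
  have hfix : ∀ g : SpecialLinearGroup (Fin (Fintype.card (Unit ⊕ ι'))) F,
      (g : Matrix (Fin (Fintype.card (Unit ⊕ ι'))) (Fin (Fintype.card (Unit ⊕ ι'))) F) *ᵥ w = w →
      ρ' g v = v := by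
    intro g hg
    have hcol : ∀ i, (g : Matrix (Fin (Fintype.card (Unit ⊕ ι'))) (Fin (Fintype.card (Unit ⊕ ι'))) F) i
        (e (Sum.inl ())) = w i := by
      intro i
      have := congrFun hg i
      rw [Matrix.mulVec_single_one] at this
      exact this
    have h11 : ((slReindex (F := F) e.symm g : SpecialLinearGroup (Unit ⊕ ι') F) :
        Matrix (Unit ⊕ ι') (Unit ⊕ ι') F) (Sum.inl ()) (Sum.inl ()) = 1 := by
      rw [slReindex_apply, Equiv.symm_symm, hcol]
      simp [w]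
    have h21 : ∀ i : ι', ((slReindex (F := F) e.symm g : SpecialLinearGroup (Unit ⊕ ι') F) :
        Matrix (Unit ⊕ ι') (Unit ⊕ ι') F) (Sum.inr i) (Sum.inl ()) = 0 := by
      intro i
      rw [slReindex_apply, Equiv.symm_symm, hcol]
      have hne : e (Sum.inr i) ≠ e (Sum.inl ()) := by
        intro h
        have := e.injective h
        cases this
      simp [w, hne]
    obtain ⟨h, r, hgr⟩ := exists_emb_mul_rad _ h11 h21
    show ρ (slReindex (F := F) e.symm g) v = v
    rw [hgr, map_mul, Module.End.mul_apply, hrad, hemb]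
  have hn : 3 ≤ Fintype.card (Unit ⊕ ι') := by omega
  have key := Cfsg.Agent.Lib.Helper12.SLMinWeil.weil_of_fixed _ hn ρ' hρ' w hw v hv hfix
  rw [hcard] at key
  exact key

/-- consumer form: the degree is at least the target unless it is `1` -/
theorem tgt_le_of_fixed_block [Fintype F] [DecidableEq F] (h2 : 2 ≤ Fintype.card ι')
    {M : Type*} [AddCommGroup M] [Module ℂ M] [FiniteDimensional ℂ M]
    (ρ : Representation ℂ (SpecialLinearGroup (Unit ⊕ ι') F) M) (hρ : ρ.IsIrreducible)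
    (v : M) (hv : v ≠ 0) (hrad : ∀ r : ι' → F, ρ (rad r) v = v)
    (hemb : ∀ h : SpecialLinearGroup ι' F, ρ (emb h) v = v) (hd : 2 ≤ finrank ℂ M) :
    tgt (Fintype.card F) (Fintype.card ι' + 1) ≤ finrank ℂ M := by
  rcases weil_of_fixed_block h2 ρ hρ v hv hrad hemb with h | h | h
  · omega
  · exact h.ge
  · rw [h]
    unfold tgt
    apply Nat.div_le_div_right
    have : 1 ≤ Fintype.card F := Fintype.card_pos
    omega

end Cfsg.Agent.Lib.Helper12.SLMin
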