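/-
helper12: the root-subgroup / rank-one block of the split (B,N)-pair of `SL_n(F)` (S4538, part B2),
on helper28's `slBN hn` and helper18's `unitri n F`.

* `xSL k k' h t` : the transvection `1 + t E_{kk'}` in `SL_n(F)`; `hSL k k' h t ht` : the diagonal
  matrix with `t⁻¹` at `k`, `t` at `k'`;
* `rank_one` : `s x(t) s⁻¹ = x(-t⁻¹) h(t) s x(-t⁻¹)` for `s = sSL k k'`;
* `Xk i`, `Usk i` (`i : Fin (n-1)`) and the record fields `hX`, `hUs`, `hXU`, `hXUs`, `hcardX`,
  `hsUs`, `hrank1`, `hrank1_one` of helper27's `SplitBN (slBN hn) (unitri n F) (card F)`.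
-/
import Mathlib
import Cfsg.Agent.Lib.Helper28.SLBNU

set_option autoImplicit false

namespace Cfsg.Agent.Lib.Helper12.SLRoot

open Matrix Equiv Cfsg.Agent.Lib.Helper6.GLBN Cfsg.Agent.Lib.Helper28.SLBN
  Cfsg.Agent.Lib.Helper18.PSLnAut

variable {n : ℕ} {F : Type*} [Field F]

/-- the transvection `1 + t E_{kk'}` as an element of `SL_n(F)` -/
def xSL (k k' : Fin n) (h : k ≠ k') (t : F) : Matrix.SpecialLinearGroup (Fin n) F :=
  ⟨Matrix.transvection k k' t, Matrix.det_transvection_of_ne _ _ h t⟩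

theorem coe_xSL (k k' : Fin n) (h : k ≠ k') (t : F) :
    ((xSL k k' h t : Matrix.SpecialLinearGroup (Fin n) F) : Matrix (Fin n) (Fin n) F) =
      Matrix.transvection k k' t := rfl

theorem xSL_apply (k k' : Fin n) (h : k ≠ k') (t : F) (i j : Fin n) :
    (xSL k k' h t : Matrix (Fin n) (Fin n) F) i j =
      (if i = j then 1 else 0) + if i = k ∧ j = k' then t else 0 := by
  rw [coe_xSL, transvection_apply']

theorem xSL_zero (k k' : Fin n) (h : k ≠ k') : xSL k k' h (0 : F) = 1 := by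
  apply Subtype.ext
  rw [coe_xSL, Matrix.transvection_zero]
  rfl

theorem xSL_add (k k' : Fin n) (h : k ≠ k') (t u : F) :
    xSL k k' h (t + u) = xSL k k' h t * xSL k k' h u := by
  apply Subtype.ext
  rw [Matrix.SpecialLinearGroup.coe_mul, coe_xSL, coe_xSL, coe_xSL,
    Matrix.transvection_mul_transvection_same _ _ h]

theorem xSL_inv (k k' : Fin n) (h : k ≠ k') (t : F) :
    (xSL k k' h t)⁻¹ = xSL k k' h (-t) := by
  rw [inv_eq_iff_mul_eq_one, ← xSL_add, add_neg_cancel, xSL_zero]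

theorem xSL_injective (k k' : Fin n) (h : k ≠ k') :
    Function.Injective (xSL (F := F) k k' h) := by
  intro t u e
  have := congrArg (fun g : Matrix.SpecialLinearGroup (Fin n) F =>
    (g : Matrix (Fin n) (Fin n) F) k k') e
  simp only [xSL_apply, if_neg h, zero_add, and_self, if_true] at this
  exact this

theorem xSL_eq_one_iff (k k' : Fin n) (h : k ≠ k') (t : F) : xSL k k' h t = 1 ↔ t = 0 := by
  rw [← xSL_zero k k' h]
  exact (xSL_injective k k' h).eq_iff

/-- the root subgroup `{1 + t E_{kk'}}` -/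
def Xkk (k k' : Fin n) (h : k ≠ k') : Subgroup (Matrix.SpecialLinearGroup (Fin n) F) where
  carrier := Set.range (xSL k k' h)
  mul_mem' := by
    rintro _ _ ⟨t, rfl⟩ ⟨u, rfl⟩
    exact ⟨t + u, xSL_add k k' h t u⟩
  one_mem' := ⟨0, xSL_zero k k' h⟩
  inv_mem' := by
    rintro _ ⟨t, rfl⟩
    exact ⟨-t, (xSL_inv k k' h t).symm⟩

theorem mem_Xkk {k k' : Fin n} {h : k ≠ k'} {g : Matrix.SpecialLinearGroup (Fin n) F} :
    g ∈ Xkk k k' h ↔ ∃ t : F, g = xSL k k' h t := by
  constructor
  · rintro ⟨t, rfl⟩; exact ⟨t, rfl⟩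
  · rintro ⟨t, rfl⟩; exact ⟨t, rfl⟩

theorem xSL_mem_Xkk (k k' : Fin n) (h : k ≠ k') (t : F) : xSL k k' h t ∈ Xkk k k' h := ⟨t, rfl⟩

theorem card_Xkk [Fintype F] (k k' : Fin n) (h : k ≠ k') :
    Nat.card (Xkk (F := F) k k' h) = Fintype.card F := by
  rw [← Nat.card_eq_fintype_card]
  symm
  apply Nat.card_congr
  refine Equiv.ofBijective (fun t => ⟨xSL k k' h t, xSL_mem_Xkk k k' h t⟩) ⟨?_, ?_⟩
  · intro t u e
    exact xSL_injective k k' h (congrArg Subtype.val e)
  · rintro ⟨_, t, rfl⟩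
    exact ⟨t, rfl⟩

/-! ### the rank one relation -/

/-- the coefficients of `sSL k k'`: `-1` in column `k`, `1` elsewhere -/
def cS (k : Fin n) (j : Fin n) : F := if j = k then -1 else 1

theorem coe_sSL_cS {k k' : Fin n} (h : k ≠ k') :
    ((sSL (F := F) k k' : Matrix.SpecialLinearGroup (Fin n) F) : Matrix (Fin n) (Fin n) F) =
      mono (swap k k') (cS k) := by
  rw [coe_sSL h]
  congr 1
  funext j
  unfold cS
  by_cases hj : j = k
  · subst hj
    rw [oneAt_self, if_pos rfl]
    simp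
  · rw [oneAt_of_ne hj, if_neg hj]
    simp

/-- the diagonal coefficients of `h_{kk'}(t)`: `t⁻¹` at `k`, `t` at `k'`, `1` elsewhere -/
def dH (k k' : Fin n) (t : F) (j : Fin n) : F := if j = k then t⁻¹ else if j = k' then t else 1

theorem dH_ne_zero (k k' : Fin n) {t : F} (ht : t ≠ 0) (j : Fin n) : dH k k' t j ≠ 0 := by
  unfold dH
  split_ifs
  · exact inv_ne_zero ht
  · exact ht
  · exact one_ne_zero

theorem dH_eq_update (k k' : Fin n) (h : k ≠ k') (t : F) :
    dH k k' t = Function.update (Function.update (fun _ => (1 : F)) k t⁻¹) k' t := by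
  funext j
  unfold dH
  by_cases hj : j = k
  · subst hj
    rw [if_pos rfl, Function.update_of_ne h, Function.update_self]
  · rw [if_neg hj]
    by_cases hj' : j = k'
    · subst hj'
      rw [if_pos rfl, Function.update_self]
    · rw [if_neg hj', Function.update_of_ne hj', Function.update_of_ne hj]

theorem prod_dH (k k' : Fin n) (h : k ≠ k') {t : F} (ht : t ≠ 0) : ∏ j, dH k k' t j = 1 := by
  rw [Finset.prod_eq_mul k k' h]
  · unfold dH
    rw [if_pos rfl, if_neg h.symm, if_pos rfl, inv_mul_cancel₀ ht]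
  · intro c _ hc
    unfold dH
    rw [if_neg hc.1, if_neg hc.2]
  · intro hk; exact absurd (Finset.mem_univ _) hk
  · intro hk; exact absurd (Finset.mem_univ _) hk

set_option linter.unusedSimpArgs false in
theorem rank_one_matrix {k k' : Fin n} (h : k ≠ k') {t : F} (ht : t ≠ 0) :
    mono (swap k k') (cS (F := F) k) * Matrix.transvection k k' t =
      Matrix.transvection k k' (-t⁻¹) * (Matrix.diagonal (dH k k' t) *
        (mono (swap k k') (cS k) *
          (Matrix.transvection k k' (-t⁻¹) * mono (swap k k') (cS k)))) := by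
  ext i j
  rw [mul_transvection_apply', transvection_mul_apply', Matrix.diagonal_mul, Matrix.diagonal_mul,
    mono_mul_apply, mono_mul_apply, mul_mono_apply, mul_mono_apply, mono_apply, mono_apply,
    transvection_apply', transvection_apply']
  simp only [Equiv.symm_swap]
  by_cases hik : i = k
  · subst hik
    by_cases hjk : j = i
    · subst hjk
      simp [cS, dH, h, h.symm]
      field_simp
      ring
    · by_cases hjk' : j = k'
      · subst hjk'
        simp [cS, dH, h, h.symm]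
        field_simp
      · simp [cS, dH, h, h.symm, hjk, hjk', Ne.symm hjk, Ne.symm hjk',
          swap_apply_of_ne_of_ne hjk hjk']
  · by_cases hik' : i = k'
    · subst hik'
      by_cases hjk : j = k
      · subst hjk
        simp [cS, dH, h, h.symm]
        field_simp
      · by_cases hjk' : j = i
        · subst hjk'
          simp [cS, dH, h, h.symm]
        · simp [cS, dH, h, h.symm, hjk, hjk', Ne.symm hjk, Ne.symm hjk',
            swap_apply_of_ne_of_ne hjk hjk']
    · by_cases hjk : j = k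
      · subst hjk
        simp [cS, dH, h, h.symm, hik, hik', Ne.symm hik, Ne.symm hik',
          swap_apply_of_ne_of_ne hik hik']
      · by_cases hjk' : j = k'
        · subst hjk'
          simp [cS, dH, h, h.symm, hik, hik', Ne.symm hik, Ne.symm hik',
            swap_apply_of_ne_of_ne hik hik']
        · simp [cS, dH, h, h.symm, hik, hik', hjk, hjk', Ne.symm hik, Ne.symm hik', Ne.symm hjk,
            Ne.symm hjk', swap_apply_of_ne_of_ne hik hik', swap_apply_of_ne_of_ne hjk hjk']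

/-- the torus element `h_{kk'}(t)`: diagonal with `t⁻¹` at `k`, `t` at `k'`, `1` elsewhere -/
def hSL (k k' : Fin n) (h : k ≠ k') (t : F) (ht : t ≠ 0) : Matrix.SpecialLinearGroup (Fin n) F :=
  ⟨Matrix.diagonal (dH k k' t), by rw [Matrix.det_diagonal, prod_dH k k' h ht]⟩

theorem coe_hSL (k k' : Fin n) (h : k ≠ k') (t : F) (ht : t ≠ 0) :
    ((hSL k k' h t ht : Matrix.SpecialLinearGroup (Fin n) F) : Matrix (Fin n) (Fin n) F) =
      Matrix.diagonal (dH k k' t) := rfl

theorem hSL_one (k k' : Fin n) (h : k ≠ k') : hSL (F := F) k k' h 1 one_ne_zero = 1 := by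
  apply Subtype.ext
  rw [coe_hSL]
  have : dH (F := F) k k' 1 = fun _ => 1 := by
    funext j
    unfold dH
    split_ifs <;> simp
  rw [this, Matrix.diagonal_one]
  rfl

/-- **the rank one relation** `s x(t) s⁻¹ = x(-t⁻¹) h(t) s x(-t⁻¹)` -/
theorem rank_one {k k' : Fin n} (h : k ≠ k') {t : F} (ht : t ≠ 0) :
    sSL k k' * xSL k k' h t * (sSL (F := F) k k')⁻¹ =
      xSL k k' h (-t⁻¹) * hSL k k' h t ht * sSL k k' * xSL k k' h (-t⁻¹) := by
  rw [mul_inv_eq_iff_eq_mul]
  apply Subtype.ext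
  simp only [Matrix.SpecialLinearGroup.coe_mul, coe_xSL, coe_hSL, coe_sSL_cS h]
  rw [rank_one_matrix h ht]
  simp only [Matrix.mul_assoc]

/-! ### conjugation by `s` -/

theorem coe_sSL_inv {k k' : Fin n} (h : k ≠ k') :
    (((sSL (F := F) k k')⁻¹ : Matrix.SpecialLinearGroup (Fin n) F) :
      Matrix (Fin n) (Fin n) F) = mono (swap k k') (cS k') := by
  have hdet : (mono (swap k k') (cS (F := F) k')).det = 1 := by
    rw [det_mono, Perm.sign_swap h, Finset.prod_eq_single k']
    · unfold cS; rw [if_pos rfl]; simp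
    · intro j _ hj; unfold cS; rw [if_neg hj]
    · intro hk; exact absurd (Finset.mem_univ _) hk
  set g : Matrix.SpecialLinearGroup (Fin n) F := ⟨mono (swap k k') (cS k'), hdet⟩ with hg
  have key : sSL (F := F) k k' * g = 1 := by
    apply Subtype.ext
    rw [Matrix.SpecialLinearGroup.coe_mul, coe_sSL_cS h]
    show mono (swap k k') (cS k) * mono (swap k k') (cS k') = 1
    rw [mono_mul_mono, ← mono_one]
    congr 1
    · simp
    · funext j
      unfold cS
      by_cases hj : j = k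
      · subst hj
        rw [swap_apply_left, if_neg h.symm, if_neg h, one_mul]
      · by_cases hj' : j = k'
        · subst hj'
          rw [swap_apply_right, if_pos rfl, if_pos rfl]; simp
        · rw [swap_apply_of_ne_of_ne hj hj', if_neg hj, if_neg hj', one_mul]
  rw [inv_eq_of_mul_eq_one_right key]

theorem sSL_conj_apply {k k' : Fin n} (h : k ≠ k') (y : Matrix.SpecialLinearGroup (Fin n) F)
    (i j : Fin n) :
    ((sSL k k' * y * (sSL (F := F) k k')⁻¹ : Matrix.SpecialLinearGroup (Fin n) F) :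
      Matrix (Fin n) (Fin n) F) i j =
      cS k (swap k k' i) * (y : Matrix (Fin n) (Fin n) F) (swap k k' i) (swap k k' j) * cS k' j := by
  rw [Matrix.SpecialLinearGroup.coe_mul, Matrix.SpecialLinearGroup.coe_mul, coe_sSL_inv h,
    coe_sSL_cS h, mul_mono_apply, mono_mul_apply, Equiv.symm_swap]

theorem cS_swap_mul {k k' : Fin n} (h : k ≠ k') (i : Fin n) :
    cS (F := F) k (swap k k' i) * cS k' i = 1 := by
  unfold cS
  by_cases hi : i = k
  · subst hi
    rw [swap_apply_left, if_neg h.symm, if_neg h, one_mul]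
  · by_cases hi' : i = k'
    · subst hi'
      rw [swap_apply_right, if_pos rfl, if_pos rfl]; simp
    · rw [swap_apply_of_ne_of_ne hi hi', if_neg hi, if_neg hi', one_mul]

/-- conjugation by `s = sSL k k'` (`k' = k + 1`) maps the unitriangular matrices with vanishing
`(k,k')` entry into the unitriangular matrices -/
theorem sSL_conj_mem_unitri [Finite F] {k k' : Fin n} (hk : k'.val = k.val + 1)
    {y : Matrix.SpecialLinearGroup (Fin n) F} (hy : y ∈ unitri n F)
    (h0 : (y : Matrix (Fin n) (Fin n) F) k k' = 0) :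
    sSL k k' * y * (sSL (F := F) k k')⁻¹ ∈ unitri n F := by
  have h : k ≠ k' := adj_ne hk
  constructor
  · intro i j hji
    rw [sSL_conj_apply h]
    rcases swap_lt_or hk hji with h1 | ⟨rfl, rfl⟩
    · rw [hy.1 _ _ h1, mul_zero, zero_mul]
    · rw [swap_apply_left, swap_apply_right, h0, mul_zero, zero_mul]
  · intro i
    rw [sSL_conj_apply h, hy.2, mul_one, cS_swap_mul h]

/-! ### the subgroups `X_i` and `U_{s_i}` -/

theorem xSL_mem_unitri [Finite F] {k k' : Fin n} (hlt : k < k') (t : F) :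
    xSL k k' (ne_of_lt hlt) t ∈ unitri n F := by
  constructor
  · intro i j hji
    rw [xSL_apply, if_neg (ne_of_gt hji), if_neg, add_zero]
    rintro ⟨rfl, rfl⟩
    exact absurd hlt (not_lt.mpr hji.le)
  · intro i
    rw [xSL_apply, if_pos rfl, if_neg, add_zero]
    rintro ⟨rfl, h2⟩
    exact absurd h2 (ne_of_lt hlt)

/-- the lower index of the `i`-th simple root -/
def lo (i : Fin (n - 1)) : Fin n := ⟨i.val, by omega⟩

/-- the upper index of the `i`-th simple root -/
def hi (i : Fin (n - 1)) : Fin n := ⟨i.val + 1, by omega⟩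

theorem hi_val (i : Fin (n - 1)) : (hi i).val = (lo i).val + 1 := rfl

theorem lo_lt_hi (i : Fin (n - 1)) : lo i < hi i := by
  rw [Fin.lt_def]; exact Nat.lt_succ_self _

theorem lo_ne_hi (i : Fin (n - 1)) : lo i ≠ hi i := ne_of_lt (lo_lt_hi i)

theorem sOfSL_eq (i : Fin (n - 1)) : sOfSL n F i = sSL (lo i) (hi i) := rfl

/-- the `i`-th simple root element `x_i(t) = 1 + t E_{i,i+1}` -/
def xI (i : Fin (n - 1)) (t : F) : Matrix.SpecialLinearGroup (Fin n) F :=
  xSL (lo i) (hi i) (lo_ne_hi i) t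

/-- the `i`-th simple coroot element `h_i(t)` -/
def hI (i : Fin (n - 1)) (t : F) (ht : t ≠ 0) : Matrix.SpecialLinearGroup (Fin n) F :=
  hSL (lo i) (hi i) (lo_ne_hi i) t ht

/-- the simple root subgroup `X_i = {1 + t E_{i,i+1}}` -/
def Xk (i : Fin (n - 1)) : Subgroup (Matrix.SpecialLinearGroup (Fin n) F) :=
  Xkk (lo i) (hi i) (lo_ne_hi i)

theorem mem_Xk_iff {i : Fin (n - 1)} {g : Matrix.SpecialLinearGroup (Fin n) F} :
    g ∈ Xk i ↔ ∃ t : F, g = xI i t := mem_Xkk (h := lo_ne_hi i)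

theorem xI_mem_Xk (i : Fin (n - 1)) (t : F) : xI i t ∈ Xk i := xSL_mem_Xkk _ _ (lo_ne_hi i) t

theorem xI_injective (i : Fin (n - 1)) : Function.Injective (xI (F := F) i) :=
  xSL_injective _ _ (lo_ne_hi i)

theorem xI_eq_one_iff (i : Fin (n - 1)) (t : F) : xI i t = 1 ↔ t = 0 :=
  xSL_eq_one_iff _ _ (lo_ne_hi i) t

section fin

variable [Finite F]

/-- `U_{s_i}` = the unitriangular matrices with vanishing `(i,i+1)` entry -/
def Usk (i : Fin (n - 1)) : Subgroup (Matrix.SpecialLinearGroup (Fin n) F) where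
  carrier := {u | u ∈ unitri n F ∧ (u : Matrix (Fin n) (Fin n) F) (lo i) (hi i) = 0}
  mul_mem' := by
    rintro a b ⟨ha, ha0⟩ ⟨hb, hb0⟩
    refine ⟨Subgroup.mul_mem _ ha hb, ?_⟩
    rw [Matrix.SpecialLinearGroup.coe_mul, Matrix.mul_apply]
    apply Finset.sum_eq_zero
    intro l _
    by_cases h1 : l < lo i
    · rw [ha.1 _ _ h1, zero_mul]
    · by_cases h2 : hi i < l
      · rw [hb.1 _ _ h2, mul_zero]
      · have hl : l = lo i ∨ l = hi i := by
          rw [not_lt, Fin.le_def] at h1 h2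
          rw [hi_val] at h2
          rcases Nat.lt_or_ge (lo i).val l.val with h3 | h3
          · right; apply Fin.ext; rw [hi_val]; omega
          · left; apply Fin.ext; omega
        rcases hl with rfl | rfl
        · rw [hb0, mul_zero]
        · rw [ha0, zero_mul]
  one_mem' := by
    refine ⟨Subgroup.one_mem _, ?_⟩
    rw [Matrix.SpecialLinearGroup.coe_one, Matrix.one_apply_ne (lo_ne_hi i)]
  inv_mem' := by
    rintro a ⟨ha, ha0⟩
    have hai : a⁻¹ ∈ unitri n F := Subgroup.inv_mem _ ha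
    refine ⟨hai, ?_⟩
    have h1 : ((a * a⁻¹ : Matrix.SpecialLinearGroup (Fin n) F) : Matrix (Fin n) (Fin n) F)
        (lo i) (hi i) = 0 := by
      rw [mul_inv_cancel, Matrix.SpecialLinearGroup.coe_one, Matrix.one_apply_ne (lo_ne_hi i)]
    rw [Matrix.SpecialLinearGroup.coe_mul, Matrix.mul_apply, Finset.sum_eq_single (lo i)] at h1
    · rwa [ha.2, one_mul] at h1
    · intro l _ hl
      by_cases h2 : l < lo i
      · rw [ha.1 _ _ h2, zero_mul]
      · by_cases h3 : hi i < l
        · rw [hai.1 _ _ h3, mul_zero]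
        · have hl' : l = hi i := by
            rw [not_lt, Fin.le_def] at h2 h3
            rw [hi_val] at h3
            have : l.val ≠ (lo i).val := fun e => hl (Fin.ext e)
            apply Fin.ext; rw [hi_val]; omega
          rw [hl', ha0, zero_mul]
    · intro hk; exact absurd (Finset.mem_univ _) hk

theorem mem_Usk_iff {i : Fin (n - 1)} {u : Matrix.SpecialLinearGroup (Fin n) F} :
    u ∈ Usk i ↔ u ∈ unitri n F ∧ (u : Matrix (Fin n) (Fin n) F) (lo i) (hi i) = 0 := Iff.rfl

theorem xI_mem_unitri (i : Fin (n - 1)) (t : F) : xI i t ∈ unitri n F :=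
  xSL_mem_unitri (lo_lt_hi i) t

/-- **hX** -/
theorem Xk_le_unitri (i : Fin (n - 1)) : Xk (F := F) i ≤ unitri n F := by
  intro g hg
  obtain ⟨t, rfl⟩ := mem_Xk_iff.mp hg
  exact xI_mem_unitri i t

/-- **hUs** -/
theorem Usk_le_unitri (i : Fin (n - 1)) : Usk (F := F) i ≤ unitri n F := fun _ h => h.1

/-- **hXU** -/
theorem unitri_eq_Usk_mul_Xk (i : Fin (n - 1)) :
    ∀ u ∈ unitri n F, ∃ y ∈ Usk (F := F) i, ∃ x ∈ Xk i, u = y * x := by
  intro u hu
  refine ⟨u * xI i (-(u : Matrix (Fin n) (Fin n) F) (lo i) (hi i)), ⟨?_, ?_⟩,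
    xI i ((u : Matrix (Fin n) (Fin n) F) (lo i) (hi i)), xI_mem_Xk i _, ?_⟩
  · exact Subgroup.mul_mem _ hu (xI_mem_unitri i _)
  · show ((u * xSL (lo i) (hi i) (lo_ne_hi i) _ : Matrix.SpecialLinearGroup (Fin n) F) :
      Matrix (Fin n) (Fin n) F) (lo i) (hi i) = 0
    rw [Matrix.SpecialLinearGroup.coe_mul, coe_xSL, mul_transvection_apply', if_pos rfl, hu.2]
    ring
  · unfold xI
    rw [mul_assoc, ← xSL_add, neg_add_cancel, xSL_zero, mul_one]

/-- **hXUs** -/
theorem Xk_inf_Usk (i : Fin (n - 1)) : Xk (F := F) i ⊓ Usk i = ⊥ := by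
  rw [eq_bot_iff]
  rintro g ⟨hgX, hgU⟩
  obtain ⟨t, rfl⟩ := mem_Xk_iff.mp hgX
  have h0 := hgU.2
  unfold xI at h0
  rw [xSL_apply, if_neg (lo_ne_hi i), zero_add, if_pos ⟨rfl, rfl⟩] at h0
  rw [Subgroup.mem_bot, xI_eq_one_iff]
  exact h0

/-- **hsUs** -/
theorem sOfSL_conj_Usk (i : Fin (n - 1)) :
    ∀ y ∈ Usk (F := F) i, sOfSL n F i * y * (sOfSL n F i)⁻¹ ∈ unitri n F := by
  intro y hy
  rw [sOfSL_eq]
  exact sSL_conj_mem_unitri (hi_val i) hy.1 hy.2

end fin

/-- **hcardX** -/
theorem card_Xk [Fintype F] (i : Fin (n - 1)) : Nat.card (Xk (F := F) i) = Fintype.card F :=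
  card_Xkk _ _ (lo_ne_hi i)

/-! ### the rank one fields and the generation of the torus -/

section rk

variable [Finite F] (hn : 0 < n)

omit [Finite F] in
theorem hI_mem_T (i : Fin (n - 1)) (t : F) (ht : t ≠ 0) :
    hI i t ht ∈ (slBN (F := F) hn).B ⊓ (slBN (F := F) hn).N :=
  diag_mem_slT hn (dH_ne_zero _ _ ht) (coe_hSL _ _ (lo_ne_hi i) t ht)

omit [Finite F] in
theorem rank_one_I (i : Fin (n - 1)) {t : F} (ht : t ≠ 0) :
    sOfSL n F i * xI i t * (sOfSL n F i)⁻¹ =
      xI i (-t⁻¹) * hI i t ht * sOfSL n F i * xI i (-t⁻¹) :=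
  rank_one (lo_ne_hi i) ht

/-- **hrank1** -/
theorem sl_hrank1 (i : Fin (n - 1)) : ∀ x ∈ Xk (F := F) i, x ≠ 1 →
    ∃ u₁ ∈ unitri n F, ∃ h ∈ (slBN (F := F) hn).B ⊓ (slBN (F := F) hn).N, ∃ u₂ ∈ unitri n F,
      sOfSL n F i * x * (sOfSL n F i)⁻¹ = u₁ * h * sOfSL n F i * u₂ := by
  intro x hx hx1
  obtain ⟨t, rfl⟩ := mem_Xk_iff.mp hx
  have ht : t ≠ 0 := fun h0 => hx1 ((xI_eq_one_iff i t).mpr h0)
  exact ⟨xI i (-t⁻¹), xI_mem_unitri i _, hI i t ht, hI_mem_T hn i t ht, xI i (-t⁻¹),
    xI_mem_unitri i _, rank_one_I i ht⟩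

/-- **hrank1_one** -/
theorem sl_hrank1_one (i : Fin (n - 1)) : ∃ x ∈ Xk (F := F) i, x ≠ 1 ∧
    ∃ u₁ ∈ unitri n F, ∃ u₂ ∈ unitri n F,
      sOfSL n F i * x * (sOfSL n F i)⁻¹ = u₁ * sOfSL n F i * u₂ := by
  refine ⟨xI i 1, xI_mem_Xk i 1, ?_, xI i (-(1 : F)⁻¹), xI_mem_unitri i _, xI i (-(1 : F)⁻¹),
    xI_mem_unitri i _, ?_⟩
  · intro h1
    exact one_ne_zero ((xI_eq_one_iff i (1 : F)).mp h1)
  · rw [rank_one_I i (one_ne_zero (α := F))]
    unfold hI
    rw [hSL_one, mul_one]

/-- the set of torus elements occurring in the rank one relations (the generating set of `hHgen`) -/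
def Hset : Set (Matrix.SpecialLinearGroup (Fin n) F) :=
  {h | h ∈ (slBN (F := F) hn).B ⊓ (slBN (F := F) hn).N ∧ ∃ i : Fin (n - 1), ∃ x ∈ Xk (F := F) i,
    x ≠ 1 ∧ ∃ u₁ ∈ unitri n F, ∃ u₂ ∈ unitri n F,
      sOfSL n F i * x * (sOfSL n F i)⁻¹ = u₁ * h * sOfSL n F i * u₂}

theorem hI_mem_Hset (i : Fin (n - 1)) (t : F) (ht : t ≠ 0) : hI i t ht ∈ Hset (F := F) hn :=
  ⟨hI_mem_T hn i t ht, i, xI i t, xI_mem_Xk i t,
    fun h1 => ht ((xI_eq_one_iff i t).mp h1), xI i (-t⁻¹), xI_mem_unitri i _, xI i (-t⁻¹),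
    xI_mem_unitri i _, rank_one_I i ht⟩

/-- a diagonal matrix of determinant one whose entries beyond position `m` are `1` is a product
of the `h_i(t)` -/
theorem diag_mem_closure (m : ℕ) : ∀ (g : Matrix.SpecialLinearGroup (Fin n) F) (d : Fin n → F),
    (g : Matrix (Fin n) (Fin n) F) = Matrix.diagonal d → (∀ j : Fin n, m < j.val → d j = 1) →
    g ∈ Subgroup.closure (Hset (F := F) hn) := by
  induction m with
  | zero =>
    intro g d hg hd
    have hdet : ∏ j, d j = 1 := by
      rw [← Matrix.det_diagonal, ← hg]; exact g.2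
    have h0 : d ⟨0, hn⟩ = 1 := by
      rw [← hdet, Finset.prod_eq_single (⟨0, hn⟩ : Fin n)]
      · intro j _ hj
        apply hd
        rcases Nat.eq_zero_or_pos j.val with h | h
        · exact absurd (Fin.ext h) hj
        · exact h
      · intro hk; exact absurd (Finset.mem_univ _) hk
    have hd1 : d = fun _ => 1 := by
      funext j
      rcases Nat.eq_zero_or_pos j.val with h | h
      · have : j = ⟨0, hn⟩ := Fin.ext h
        rw [this, h0]
      · exact hd j h
    have : g = 1 := by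
      apply Subtype.ext
      rw [hg, hd1, Matrix.diagonal_one]
      rfl
    rw [this]
    exact Subgroup.one_mem _
  | succ m ih =>
    intro g d hg hd
    by_cases hm : m + 1 < n
    · -- peel off `h_m(d_{m+1})`
      set i : Fin (n - 1) := ⟨m, by omega⟩ with hi_def
      have hdet : ∏ j, d j = 1 := by
        rw [← Matrix.det_diagonal, ← hg]; exact g.2
      have hdne : ∀ j, d j ≠ 0 := by
        intro j h0
        have := Finset.prod_eq_zero (Finset.mem_univ j) h0
        rw [hdet] at this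
        exact one_ne_zero this
      set t : F := d (hi i) with ht_def
      have ht : t ≠ 0 := hdne _
      have ht' : t⁻¹ ≠ 0 := inv_ne_zero ht
      have hg' : g * hI i t⁻¹ ht' ∈ Subgroup.closure (Hset (F := F) hn) := by
        apply ih (g * hI i t⁻¹ ht') (fun j => d j * dH (lo i) (hi i) t⁻¹ j)
        · unfold hI
          rw [Matrix.SpecialLinearGroup.coe_mul, hg, coe_hSL, Matrix.diagonal_mul_diagonal]
        · intro j hj
          by_cases hj' : j = hi i
          · rw [hj']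
            unfold dH
            rw [if_neg (lo_ne_hi i).symm, if_pos rfl, ← ht_def, mul_inv_cancel₀ ht]
          · have h1 : j ≠ lo i := by
              intro e
              rw [e] at hj
              exact absurd hj (lt_irrefl _)
            have h2 : m + 1 < j.val := by
              have : j.val ≠ m + 1 := fun e => hj' (Fin.ext e)
              omega
            unfold dH
            rw [if_neg h1, if_neg hj', mul_one, hd j h2]
      have : g = g * hI i t⁻¹ ht' * (hI i t⁻¹ ht')⁻¹ := by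
        rw [mul_inv_cancel_right]
      rw [this]
      exact Subgroup.mul_mem _ hg'
        (Subgroup.inv_mem _ (Subgroup.subset_closure (hI_mem_Hset hn i t⁻¹ ht')))
    · apply ih g d hg
      intro j hj
      exact absurd j.isLt (by omega)

/-- **hHgen** -/
theorem sl_hHgen : (slBN (F := F) hn).B ⊓ (slBN (F := F) hn).N ≤
    Subgroup.closure {h | h ∈ (slBN (F := F) hn).B ⊓ (slBN (F := F) hn).N ∧
      ∃ i : Fin (n - 1), ∃ x ∈ Xk (F := F) i, x ≠ 1 ∧ ∃ u₁ ∈ unitri n F, ∃ u₂ ∈ unitri n F,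
        sOfSL n F i * x * (sOfSL n F i)⁻¹ = u₁ * h * sOfSL n F i * u₂} := by
  intro g hg
  rw [mem_slBN_T] at hg
  obtain ⟨c, hc⟩ := hg
  have hg' : (g : Matrix (Fin n) (Fin n) F) = Matrix.diagonal (fun j => ((c j : Fˣ) : F)) := by
    have := congrArg (fun x : GL (Fin n) F => (x : Matrix (Fin n) (Fin n) F)) hc
    simp only [Matrix.SpecialLinearGroup.coe_GL_coe_matrix, coe_monoGL] at this
    rw [this, diagonal_eq_mono]
  exact diag_mem_closure hn n g _ hg' (fun j hj => absurd j.isLt (by omega))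

end rk

end Cfsg.Agent.Lib.Helper12.SLRoot
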