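import Mathlib
import Cfsg.Agent.Lib.Helper12.NseA
import Cfsg.Agent.Lib.Helper12.SOTC2

/-!
# S4004 (helper18), leaf E0 `E0_ne` (helper12)

`N` odd with exactly two primes `p`, `q`, same-order counts with values in `{0, m, n}` for `d ≥ 3`: `s p ≠ s q`.
`E0aux.ppart_two12` is `SOT.C2_ppart` with the (unused) third prime deleted.
-/

set_option autoImplicit false

namespace Cfsg.Agent.Lib.Helper12.SOT4
open Cfsg.Agent.Lib.Helper12.Nse
open Cfsg.Agent.Lib.Helper12.SOT.C2aux

namespace E0aux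

/-- two distinct primes of an odd `N` with the same count `v`: the full `p`-part of `N` divides `1 + v` -/
theorem ppart_two12 {N : ℕ} {s : ℕ → ℕ} (h : NseSys N s) (hodd : Odd N) (m n : ℕ)
    (hV : ∀ d, 3 ≤ d → s d = 0 ∨ s d = m ∨ s d = n)
    (p q : ℕ) (hp : p.Prime) (hq : q.Prime) (hpq : p ≠ q)
    (hpN : p ∣ N) (hqN : q ∣ N) (v : ℕ) (hvp : s p = v) (hvq : s q = v) :
    p ^ N.factorization p ∣ 1 + v := by
  have hp2 : p ≠ 2 := by
    rintro rfl
    exact (Nat.not_even_iff_odd.mpr hodd) (even_iff_two_dvd.mpr hpN)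
  have hq2 : q ≠ 2 := by
    rintro rfl
    exact (Nat.not_even_iff_odd.mpr hodd) (even_iff_two_dvd.mpr hqN)
  have hp3 : 3 ≤ p := by
    have := hp.two_le
    omega
  have hq3 : 3 ≤ q := by
    have := hq.two_le
    omega
  -- `v ≡ -1 (p)`
  have h1 : p ∣ 1 + v := hvp ▸ frob_prime12 h hp hpN
  have hv0 : v ≠ 0 := hvp ▸ h.cauchy p hp hpN
  have hpv : ¬ p ∣ v := by
    intro hd
    have : p ∣ 1 := (Nat.dvd_add_left hd).mp h1
    exact hp.one_lt.ne' (Nat.dvd_one.mp this)
  -- `w := s (p q) ≡ 1 (p)`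
  have hpqN : p * q ∣ N := Nat.Coprime.mul_dvd_of_dvd_of_dvd ((Nat.coprime_primes hp hq).mpr hpq) hpN hqN
  have h2 : p ∣ 1 + s p + s q + s (p * q) := (Dvd.intro _ rfl : p ∣ p * q).trans (frob_pq12 h hp hq hpq hpqN)
  rw [hvp, hvq] at h2
  -- `p ∣ (1 + v) + (1 + v) + (s (p q) - 1)`, so `p ∣ s (p q) + ... `: work in `ZMod p`
  haveI : Fact p.Prime := ⟨hp⟩
  have c1 : ((1 : ℕ) + v : ℕ) = (0 : ZMod p) := by
    exact (ZMod.natCast_eq_zero_iff _ _).mpr h1
  have c2 : ((1 + v + v + s (p * q) : ℕ) : ZMod p) = 0 := (ZMod.natCast_eq_zero_iff _ _).mpr h2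
  push_cast at c1 c2
  have hvm : (v : ZMod p) = -1 := by linear_combination c1
  have hwm : (s (p * q) : ZMod p) = 1 := by linear_combination c2 - 2 * c1
  have two_ne : (2 : ZMod p) ≠ 0 := by
    intro h2'
    have : ((2 : ℕ) : ZMod p) = 0 := by exact_mod_cast h2'
    rw [ZMod.natCast_eq_zero_iff] at this
    have := Nat.le_of_dvd (by norm_num) this
    omega
  have one_ne : (1 : ZMod p) ≠ 0 := one_ne_zero
  have hw0 : s (p * q) ≠ 0 := by
    intro h0
    rw [h0] at hwm
    simp at hwm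
  have hwv : s (p * q) ≠ v := by
    intro h0
    rw [h0, hvm] at hwm
    apply two_ne
    linear_combination -hwm
  have hpq3 : 3 ≤ p * q := by nlinarith
  -- every nonzero value at `d ≥ 3` is `v` or `w`, hence a unit mod `p`
  have hval : ∀ d, 3 ≤ d → s d ≠ 0 → ¬ p ∣ s d := by
    intro d hd hd0 hdvd
    have hz : (s d : ZMod p) = 0 := (ZMod.natCast_eq_zero_iff _ _).mpr hdvd
    have hvmn : v = m ∨ v = n := by
      rcases hV p hp3 with h0 | h0 | h0
      · rw [hvp] at h0; exact absurd h0 hv0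
      · left; rw [← hvp, h0]
      · right; rw [← hvp, h0]
    have hwmn : s (p * q) = m ∨ s (p * q) = n := by
      rcases hV (p * q) hpq3 with h0 | h0 | h0
      · exact absurd h0 hw0
      · left; exact h0
      · right; exact h0
    have hd' : s d = v ∨ s d = s (p * q) := by
      rcases hV d hd with h0 | h0 | h0
      · exact absurd h0 hd0
      · rcases hvmn with e1 | e1
        · left; rw [h0, e1]
        · rcases hwmn with e2 | e2
          · right; rw [h0, e2]
          · exact absurd (e2.trans e1.symm) hwv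
      · rcases hvmn with e1 | e1
        · rcases hwmn with e2 | e2
          · exact absurd (e2.trans e1.symm) hwv
          · right; rw [h0, e2]
        · left; rw [h0, e1]
    rcases hd' with e | e
    · rw [e, hvm] at hz
      apply one_ne
      linear_combination -hz
    · rw [e, hwm] at hz
      exact one_ne hz
  -- `s (p²) = 0`
  have hsq : s (p ^ 2) = 0 := by
    by_contra hne
    have hN2 : p ^ 2 ∣ N := h.dvd _ hne
    have hf := frob_prime_pow12 h hp 2 hN2
    have hsum : ∑ i ∈ Finset.range (2 + 1), s (p ^ i) = 1 + v + s (p ^ 2) := by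
      rw [Finset.sum_range_succ, Finset.sum_range_succ, Finset.sum_range_one, pow_zero, pow_one, h.m_one, hvp]
    rw [hsum] at hf
    have hf' : p ∣ 1 + v + s (p ^ 2) := (Dvd.intro_left (p ^ 1) (by ring) : p ∣ p ^ 2).trans hf
    have hd : p ∣ s (p ^ 2) := (Nat.dvd_add_right h1).mp hf'
    have h9 : 3 ≤ p ^ 2 := by nlinarith
    exact hval _ h9 hne hd
  -- `s (p^i) = 0` for `i ≥ 2`
  have hpow : ∀ i, 2 ≤ i → s (p ^ i) = 0 := by
    intro i hi
    by_contra hne
    exact h.closed (p ^ i) (p ^ 2) hne (pow_dvd_pow p hi) hsq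
  -- Frobenius at `p^a`
  have ha1 : 1 ≤ N.factorization p := by
    have := (hp.factorization_pos_of_dvd h.Npos.ne' hpN)
    omega
  have hf := frob_prime_pow12 h hp (N.factorization p) (Nat.ordProj_dvd N p)
  have hsum : ∑ i ∈ Finset.range (N.factorization p + 1), s (p ^ i) = 1 + v := by
    obtain ⟨a', ha'⟩ : ∃ a', N.factorization p = a' + 1 := ⟨N.factorization p - 1, by omega⟩
    rw [ha', Finset.sum_range_succ', Finset.sum_range_succ', pow_zero, h.m_one]
    have : ∑ k ∈ Finset.range a', s (p ^ (k + 1 + 1)) = 0 := by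
      apply Finset.sum_eq_zero
      intro k _
      exact hpow _ (by omega)
    rw [this, zero_add, zero_add, pow_one, hvp, add_comm]
  rwa [hsum] at hf

end E0aux

open E0aux

/-- **E0** (pure arithmetic over `NseSys`) -/
theorem E0_ne {N : ℕ} {s : ℕ → ℕ} (h : NseSys N s) (hodd : Odd N) (m n : ℕ)
    (hV : ∀ d, 3 ≤ d → s d = 0 ∨ s d = m ∨ s d = n) (p q : ℕ) (hp : p.Prime) (hq : q.Prime) (hpq : p ≠ q)
    (hN : N.primeFactors = {p, q}) : s p ≠ s q := by
  intro heq
  have hN0 : N ≠ 0 := h.Npos.ne'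
  have hpN : p ∣ N := by
    have : p ∈ N.primeFactors := by rw [hN]; simp
    exact Nat.dvd_of_mem_primeFactors this
  have hqN : q ∣ N := by
    have : q ∈ N.primeFactors := by rw [hN]; simp
    exact Nat.dvd_of_mem_primeFactors this
  have h1 := ppart_two12 h hodd m n hV p q hp hq hpq hpN hqN (s p) rfl heq.symm
  have h2 := ppart_two12 h hodd m n hV q p hq hp hpq.symm hqN hpN (s p) heq.symm rfl
  have hcop : Nat.Coprime (p ^ N.factorization p) (q ^ N.factorization q) :=
    Nat.Coprime.pow _ _ ((Nat.coprime_primes hp hq).mpr hpq)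
  have hNeq : N = p ^ N.factorization p * q ^ N.factorization q := by
    conv_lhs => rw [← Nat.prod_factorization_pow_eq_self hN0]
    rw [Finsupp.prod, Nat.support_factorization, hN, Finset.prod_pair hpq]
  have hdvd : N ∣ 1 + s p := by
    rw [hNeq]
    exact Nat.Coprime.mul_dvd_of_dvd_of_dvd hcop h1 h2
  have hle : N ≤ 1 + s p := Nat.le_of_dvd (by omega) hdvd
  -- the sum over the divisors of `N`
  have hsum := h.sum N.divisors (fun k hk => Nat.mem_divisors.mpr ⟨h.dvd k hk, hN0⟩)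
  have hsub : ({1, p, q} : Finset ℕ) ⊆ N.divisors := by
    intro k hk
    simp only [Finset.mem_insert, Finset.mem_singleton] at hk
    rcases hk with rfl | rfl | rfl
    · exact Nat.mem_divisors.mpr ⟨one_dvd _, hN0⟩
    · exact Nat.mem_divisors.mpr ⟨hpN, hN0⟩
    · exact Nat.mem_divisors.mpr ⟨hqN, hN0⟩
  have hle2 : ∑ k ∈ ({1, p, q} : Finset ℕ), s k ≤ ∑ k ∈ N.divisors, s k :=
    Finset.sum_le_sum_of_subset hsub
  have h1p : (1 : ℕ) ≠ p := hp.one_lt.ne
  have h1q : (1 : ℕ) ≠ q := hq.one_lt.ne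
  rw [Finset.sum_insert (by simp [h1p, h1q]), Finset.sum_pair hpq, h.m_one, hsum, ← heq] at hle2
  have hv0 : s p ≠ 0 := h.cauchy p hp hpN
  omega

end Cfsg.Agent.Lib.Helper12.SOT4
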