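import Mathlib
import Cfsg.Agent.Lib.Helper12.NseA
import Cfsg.Agent.Lib.Helper12.SOTC2

/-!
# S3996 (helper22), leaf C1 `C1_uniform` (helper12; SPARE, helper24 is the main taker)

`N` odd, same-order counts with values in `{0, m, n}` for `d ≥ 3`: three distinct primes of `N` have the same count.
-/

set_option autoImplicit false

namespace Cfsg.Agent.Lib.Helper12.SOT
open Cfsg.Agent.Lib.Helper12.Nse

namespace C1aux
open C2aux

theorem frob_pqr12 {N : ℕ} {s : ℕ → ℕ} (h : NseSys N s) {p q r : ℕ} (hp : p.Prime) (hq : q.Prime) (hr : r.Prime)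
    (hpq : p ≠ q) (hpr : p ≠ r) (hqr : q ≠ r) (hN : p * q * r ∣ N) :
    p * q * r ∣ 1 + s p + s q + s r + s (p * q) + s (p * r) + s (q * r) + s (p * q * r) := by
  have := h.frob (p * q * r) hN
  have hcop : Nat.Coprime (p * q) r :=
    Nat.Coprime.mul_left ((Nat.coprime_primes hp hr).mpr hpr) ((Nat.coprime_primes hq hr).mpr hqr)
  rw [sum_divisors_mul_coprime12 hcop, sum_divisors_mul_coprime12 ((Nat.coprime_primes hp hq).mpr hpq),
    Nat.Prime.sum_divisors hp] at this
  simp only [Nat.Prime.sum_divisors hq, Nat.Prime.sum_divisors hr, one_mul, mul_one, h.m_one] at this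
  have e : s (p * q * r) + s (p * q) + (s (p * r) + s p) + (s (q * r) + s q + (s r + 1)) =
      1 + s p + s q + s r + s (p * q) + s (p * r) + s (q * r) + s (p * q * r) := by ring
  rwa [e] at this

theorem two_ne_zero12 {p : ℕ} (hp3 : 3 ≤ p) : (2 : ZMod p) ≠ 0 := by
  intro h2'
  have : ((2 : ℕ) : ZMod p) = 0 := by exact_mod_cast h2'
  rw [ZMod.natCast_eq_zero_iff] at this
  have := Nat.le_of_dvd (by norm_num) this
  omega

/-- core: `s p = s q = a ≠ b = s r` is impossible -/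
theorem core {N : ℕ} {s : ℕ → ℕ} (h : NseSys N s) (a b : ℕ) (hab : a ≠ b)
    (hV : ∀ d, 3 ≤ d → s d = 0 ∨ s d = a ∨ s d = b)
    (p q r : ℕ) (hp : p.Prime) (hq : q.Prime) (hr : r.Prime) (hp3 : 3 ≤ p) (hq3 : 3 ≤ q) (hr3 : 3 ≤ r)
    (hpq : p ≠ q) (hpr : p ≠ r) (hqr : q ≠ r)
    (hpN : p ∣ N) (hqN : q ∣ N) (hrN : r ∣ N) (hsp : s p = a) (hsq : s q = a) (hsr : s r = b) : False := by
  haveI : Fact p.Prime := ⟨hp⟩
  haveI : Fact q.Prime := ⟨hq⟩
  haveI : Fact r.Prime := ⟨hr⟩
  have cpq := (Nat.coprime_primes hp hq).mpr hpq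
  have cpr := (Nat.coprime_primes hp hr).mpr hpr
  have cqr := (Nat.coprime_primes hq hr).mpr hqr
  have hpqN : p * q ∣ N := Nat.Coprime.mul_dvd_of_dvd_of_dvd cpq hpN hqN
  have hprN : p * r ∣ N := Nat.Coprime.mul_dvd_of_dvd_of_dvd cpr hpN hrN
  have hpqrN : p * q * r ∣ N := Nat.Coprime.mul_dvd_of_dvd_of_dvd (Nat.Coprime.mul_left cpr cqr) hpqN hrN
  have hpq3 : 3 ≤ p * q := by nlinarith
  have hpr3 : 3 ≤ p * r := by nlinarith
  have hqr3 : 3 ≤ q * r := by nlinarith
  have hpqr3 : 3 ≤ p * q * r := by nlinarith [Nat.mul_le_mul hpq3 hr3]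
  -- Frobenius relations, cast
  have f_p : ((1 + s p : ℕ) : ZMod p) = 0 := (ZMod.natCast_eq_zero_iff _ _).mpr (frob_prime12 h hp hpN)
  have f_q : ((1 + s q : ℕ) : ZMod q) = 0 := (ZMod.natCast_eq_zero_iff _ _).mpr (frob_prime12 h hq hqN)
  have f_r : ((1 + s r : ℕ) : ZMod r) = 0 := (ZMod.natCast_eq_zero_iff _ _).mpr (frob_prime12 h hr hrN)
  have f_pq_p : ((1 + s p + s q + s (p * q) : ℕ) : ZMod p) = 0 :=
    (ZMod.natCast_eq_zero_iff _ _).mpr ((Dvd.intro _ rfl : p ∣ p * q).trans (frob_pq12 h hp hq hpq hpqN))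
  have f_pr_p : ((1 + s p + s r + s (p * r) : ℕ) : ZMod p) = 0 :=
    (ZMod.natCast_eq_zero_iff _ _).mpr ((Dvd.intro _ rfl : p ∣ p * r).trans (frob_pq12 h hp hr hpr hprN))
  have f_pr_r : ((1 + s p + s r + s (p * r) : ℕ) : ZMod r) = 0 :=
    (ZMod.natCast_eq_zero_iff _ _).mpr ((Dvd.intro_left _ rfl : r ∣ p * r).trans (frob_pq12 h hp hr hpr hprN))
  have hqrN : q * r ∣ N := Nat.Coprime.mul_dvd_of_dvd_of_dvd cqr hqN hrN
  have f_qr_q : ((1 + s q + s r + s (q * r) : ℕ) : ZMod q) = 0 :=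
    (ZMod.natCast_eq_zero_iff _ _).mpr ((Dvd.intro _ rfl : q ∣ q * r).trans (frob_pq12 h hq hr hqr hqrN))
  have f_pqr_r : ((1 + s p + s q + s r + s (p * q) + s (p * r) + s (q * r) + s (p * q * r) : ℕ) : ZMod r) = 0 :=
    (ZMod.natCast_eq_zero_iff _ _).mpr
      ((Dvd.intro_left _ rfl : r ∣ p * q * r).trans (frob_pqr12 h hp hq hr hpq hpr hqr hpqrN))
  rw [hsp] at f_p f_pq_p f_pr_p f_pr_r f_pqr_r
  rw [hsq] at f_q f_pq_p f_qr_q f_pqr_r
  rw [hsr] at f_r f_pr_p f_pr_r f_qr_q f_pqr_r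
  push_cast at f_p f_q f_r f_pq_p f_pr_p f_pr_r f_qr_q f_pqr_r
  have hap : (a : ZMod p) = -1 := by linear_combination f_p
  have haq : (a : ZMod q) = -1 := by linear_combination f_q
  have hbr : (b : ZMod r) = -1 := by linear_combination f_r
  have one_p : (1 : ZMod p) ≠ 0 := one_ne_zero
  have one_q : (1 : ZMod q) ≠ 0 := one_ne_zero
  have one_r : (1 : ZMod r) ≠ 0 := one_ne_zero
  have two_p := two_ne_zero12 hp3
  have two_q := two_ne_zero12 hq3
  have two_r := two_ne_zero12 hr3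
  -- `s (p q) = b`, `b ≡ 1 (p)`
  have hwp : (s (p * q) : ZMod p) = 1 := by linear_combination f_pq_p - 2 * f_p
  have hspq : s (p * q) = b := by
    rcases hV (p * q) hpq3 with h0 | h0 | h0
    · rw [h0] at hwp; simp at hwp
    · rw [h0, hap] at hwp
      exfalso; apply two_p; linear_combination -hwp
    · exact h0
  have hbp : (b : ZMod p) = 1 := by rw [← hspq]; exact hwp
  -- the same at `q` (Frobenius at `q p`)
  have f_pq_q : ((1 + s p + s q + s (p * q) : ℕ) : ZMod q) = 0 :=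
    (ZMod.natCast_eq_zero_iff _ _).mpr ((Dvd.intro_left _ rfl : q ∣ p * q).trans (frob_pq12 h hp hq hpq hpqN))
  rw [hsp, hsq, hspq] at f_pq_q
  push_cast at f_pq_q
  have hbq : (b : ZMod q) = 1 := by linear_combination f_pq_q - 2 * f_q
  -- `s (p r) = a`, `a ≡ 0 (r)`
  have hxp : (s (p * r) : ZMod p) = -1 := by linear_combination f_pr_p - hap - hbp
  have hspr : s (p * r) = a := by
    rcases hV (p * r) hpr3 with h0 | h0 | h0
    · rw [h0] at hxp; simp at hxp
    · exact h0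
    · rw [h0, hbp] at hxp
      exfalso; apply two_p; linear_combination hxp
  rw [hspr] at f_pr_r
  have har : (a : ZMod r) = 0 := by
    have : (2 : ZMod r) * a = 0 := by linear_combination f_pr_r - f_r
    rcases mul_eq_zero.mp this with h0 | h0
    · exact absurd h0 two_r
    · exact h0
  -- `s (q r) = a`
  have hxq : (s (q * r) : ZMod q) = -1 := by linear_combination f_qr_q - haq - hbq
  have hsqr : s (q * r) = a := by
    rcases hV (q * r) hqr3 with h0 | h0 | h0
    · rw [h0] at hxq; simp at hxq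
    · exact h0
    · rw [h0, hbq] at hxq
      exfalso; apply two_q; linear_combination hxq
  -- Frobenius at `p q r` mod `r`
  rw [hspq, hspr, hsqr] at f_pqr_r
  have hz : (s (p * q * r) : ZMod r) = 1 := by linear_combination f_pqr_r - 4 * har - 2 * hbr
  rcases hV (p * q * r) hpqr3 with h0 | h0 | h0
  · rw [h0] at hz; simp at hz
  · rw [h0, har] at hz; exact one_r hz.symm
  · rw [h0, hbr] at hz
    apply two_r; linear_combination -hz

end C1aux

open C1aux

/-- **C1** (M, arithmetic): `N` odd: three distinct primes have the same count -/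
theorem C1_uniform {N : ℕ} {s : ℕ → ℕ} (h : NseSys N s) (hodd : Odd N) (m n : ℕ)
    (hV : ∀ d, 3 ≤ d → s d = 0 ∨ s d = m ∨ s d = n)
    (p q r : ℕ) (hp : p.Prime) (hq : q.Prime) (hr : r.Prime) (hpq : p ≠ q) (hpr : p ≠ r) (hqr : q ≠ r)
    (hpN : p ∣ N) (hqN : q ∣ N) (hrN : r ∣ N) : s p = s q ∧ s q = s r := by
  have ge3 : ∀ x : ℕ, x.Prime → x ∣ N → 3 ≤ x := by
    intro x hx hxN
    have hx2 : x ≠ 2 := by
      rintro rfl
      exact (Nat.not_even_iff_odd.mpr hodd) (even_iff_two_dvd.mpr hxN)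
    have := hx.two_le
    omega
  have hp3 := ge3 p hp hpN
  have hq3 := ge3 q hq hqN
  have hr3 := ge3 r hr hrN
  have val : ∀ x : ℕ, x.Prime → x ∣ N → s x = m ∨ s x = n := by
    intro x hx hxN
    rcases hV x (ge3 x hx hxN) with h0 | h0 | h0
    · exact absurd h0 (h.cauchy x hx hxN)
    · exact Or.inl h0
    · exact Or.inr h0
  -- the values `{0, m, n}` as `{0, a, b}` for any `a ≠ b` among the values at primes
  have hV' : ∀ a b : ℕ, (a = m ∨ a = n) → (b = m ∨ b = n) → a ≠ b →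
      ∀ d, 3 ≤ d → s d = 0 ∨ s d = a ∨ s d = b := by
    intro a b ha hb hab d hd
    rcases hV d hd with h0 | h0 | h0
    · exact Or.inl h0
    · rcases ha with e | e
      · exact Or.inr (Or.inl (h0.trans e.symm))
      · rcases hb with e' | e'
        · exact Or.inr (Or.inr (h0.trans e'.symm))
        · exact absurd (e.trans e'.symm) hab
    · rcases ha with e | e
      · rcases hb with e' | e'
        · exact absurd (e.trans e'.symm) hab
        · exact Or.inr (Or.inr (h0.trans e'.symm))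
      · exact Or.inr (Or.inl (h0.trans e.symm))
  by_cases e1 : s p = s q
  · refine ⟨e1, ?_⟩
    by_contra e2
    exact core h (s q) (s r) e2 (hV' _ _ (val q hq hqN) (val r hr hrN) e2) p q r hp hq hr hp3 hq3 hr3
      hpq hpr hqr hpN hqN hrN e1 rfl rfl
  · exfalso
    by_cases e2 : s p = s r
    · -- `s p = s r ≠ s q`
      have e3 : s r ≠ s q := fun e => e1 (e2.trans e)
      exact core h (s r) (s q) e3 (hV' _ _ (val r hr hrN) (val q hq hqN) e3) p r q hp hr hq hp3 hr3 hq3
        hpr hpq (Ne.symm hqr) hpN hrN hqN e2 rfl rfl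
    · -- `s q = s r` (pigeonhole)
      have e3 : s q = s r := by
        rcases val p hp hpN with a1 | a1 <;> rcases val q hq hqN with a2 | a2 <;>
          rcases val r hr hrN with a3 | a3
        all_goals first
          | exact absurd (a1.trans a2.symm) e1
          | exact absurd (a1.trans a3.symm) e2
          | exact a2.trans a3.symm
      have e4 : s r ≠ s p := fun e => e2 e.symm
      exact core h (s r) (s p) e4 (hV' _ _ (val r hr hrN) (val p hp hpN) e4) q r p hq hr hp hq3 hr3 hp3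
        hqr (Ne.symm hpq) (Ne.symm hpr) hqN hrN hpN e3 rfl rfl

end Cfsg.Agent.Lib.Helper12.SOT
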