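import Cfsg.Agent.Lib.Helper18.SPStep
import Cfsg.Agent.Lib.Helper4.SPGDEC
import Cfsg.Agent.Lib.Helper25.SPPAIR
import Cfsg.Agent.Lib.Helper15.SPIDENT

/-!
# S3713 (helper18's market), leaves STEPN / STEPY (helper12): the common core

`StepHyp` bookkeeping, the decomposition of an element of the point stabiliser, and the wrapping lemma.
-/

set_option autoImplicit false

namespace Cfsg.Agent.Lib.Helper12.SPSTEPCore

open Matrix Cfsg.Agent.Lib.Helper5 Cfsg.Agent.Lib.Helper14.SpPerfect Cfsg.Agent.Lib.Helper18.SP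
open Cfsg.Agent.Lib.Helper4.SPGDEC Cfsg.Agent.Lib.Helper25.SPPAIR Cfsg.Agent.Lib.Helper15.SPIDENT

/-! ### pure group identities -/

section alg
variable {G : Type*} [Group G]

theorem algN (n t qw m l : G) (h1 : Commute n m) (h2 : Commute n l) :
    n * (t * (m⁻¹ * qw * m) * l) * n = (n * t * n⁻¹ * m⁻¹) * (n * qw * n) * (m * l) := by
  have e1 : l * n = n * l := h2.eq.symm
  have e2 : m * n = n * m := h1.eq.symm
  have e3 : n * m⁻¹ = m⁻¹ * n := (h1.inv_right).eq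
  calc n * (t * (m⁻¹ * qw * m) * l) * n
      = n * t * m⁻¹ * qw * m * (l * n) := by group
    _ = n * t * m⁻¹ * qw * m * (n * l) := by rw [e1]
    _ = n * t * m⁻¹ * qw * (m * n) * l := by group
    _ = n * t * m⁻¹ * qw * (n * m) * l := by rw [e2]
    _ = n * t * n⁻¹ * (n * m⁻¹) * qw * n * m * l := by group
    _ = n * t * n⁻¹ * (m⁻¹ * n) * qw * n * m * l := by rw [e3]
    _ = _ := by group

theorem algY (n t qw m l y : G) (h1 : Commute n m) (h2 : Commute y (m * l)) :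
    n * (t * (m⁻¹ * qw * m) * l) * y = (n * t * n⁻¹ * m⁻¹) * (n * qw * y) * (m * l) := by
  have e1 : m * l * y = y * (m * l) := h2.eq.symm
  have e3 : n * m⁻¹ = m⁻¹ * n := (h1.inv_right).eq
  calc n * (t * (m⁻¹ * qw * m) * l) * y
      = n * t * m⁻¹ * qw * (m * l * y) := by group
    _ = n * t * m⁻¹ * qw * (y * (m * l)) := by rw [e1]
    _ = n * t * n⁻¹ * (n * m⁻¹) * qw * y * (m * l) := by group
    _ = n * t * n⁻¹ * (m⁻¹ * n) * qw * y * (m * l) := by rw [e3]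
    _ = _ := by group

theorem algC (n t E₁ T E₂ m l y : G) (h1 : Commute n m) (h2 : Commute y (m * l)) (h3 : Commute E₁ T)
    (h4 : y⁻¹ * E₁ * y = E₁ * E₂) :
    n * (t * (m⁻¹ * (E₁ * T) * m) * l) * y = (n * t * n⁻¹ * m⁻¹) * (n * T * y) * (E₁ * E₂ * (m * l)) := by
  rw [algY n t (E₁ * T) m l y h1 h2]
  have e : E₁ * T * y = T * y * (E₁ * E₂) := by
    rw [← h4, h3.eq]
    group
  calc n * t * n⁻¹ * m⁻¹ * (n * (E₁ * T) * y) * (m * l)
      = n * t * n⁻¹ * m⁻¹ * n * (E₁ * T * y) * (m * l) := by group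
    _ = n * t * n⁻¹ * m⁻¹ * n * (T * y * (E₁ * E₂)) * (m * l) := by rw [e]
    _ = _ := by group

end alg

variable {F : Type*} [Field F] {n : ℕ} {H : Type*} [Group H]
variable {J' : Set (Fin n)} {o r p q : Fin n} {φA φL φPh : Sp n F → H}

/-! ### bookkeeping -/

theorem ho_JL (D : StepHyp J' o r p q φA φL φPh) : o ∉ insert r J' :=
  fun h => (Set.mem_insert_iff.mp h).elim D.hor D.ho

theorem hp_JL (D : StepHyp J' o r p q φA φL φPh) : p ∈ insert r J' := Set.mem_insert_of_mem r D.hp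

theorem hop (D : StepHyp J' o r p q φA φL φPh) : o ≠ p := fun h => D.ho (h ▸ D.hp)

theorem hoq (D : StepHyp J' o r p q φA φL φPh) : o ≠ q := fun h => ho_JL D (h ▸ D.hq)

theorem JA_sub_K : insert o J' ⊆ insert o (insert r J') :=
  Set.insert_subset_insert (Set.subset_insert r J')

theorem L_le_PJ (D : StepHyp J' o r p q φA φL φPh) :
    GJ n F (insert r J') ≤ PJ n F (insert o (insert r J')) o :=
  GJ_le_PJ (Set.subset_insert o (insert r J')) (ho_JL D)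

theorem L_le_Ph (D : StepHyp J' o r p q φA φL φPh) :
    GJ n F (insert r J') ≤ PhJ n F (insert o (insert r J')) o :=
  (L_le_PJ D).trans (PJ_le_PhJ _ _)

theorem PhA_le_Ph : PhJ n F (insert o J') o ≤ PhJ n F (insert o (insert r J')) o :=
  PhJ_mono JA_sub_K o

theorem PhA_le_A : PhJ n F (insert o J') o ≤ GJ n F (insert o J') := PhJ_le_GJ _ _

theorem SS_le_A : SS n F o ≤ GJ n F (insert o J') := SS_le_GJ (Set.mem_insert o J')

theorem TT_le_PhA : TT n F o ≤ PhJ n F (insert o J') o := TT_le_PhJ (Set.mem_insert o J')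

theorem nW_mem_A : nW n F o ∈ GJ n F (insert o J') := SS_le_A (nW_mem_SS o)

theorem yE_mem_A (D : StepHyp J' o r p q φA φL φPh) : yE n F o p ∈ GJ n F (insert o J') := by
  refine GJ_mono ?_ (yE_mem_GJ o p)
  intro k hk
  rcases hk with rfl | hk
  · exact Set.mem_insert _ _
  · rw [Set.mem_singleton_iff] at hk
    rw [hk]
    exact Set.mem_insert_of_mem o D.hp

theorem n_commute_L (D : StepHyp J' o r p q φA φL φPh) {l : Sp n F} (hl : l ∈ GJ n F (insert r J')) :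
    Commute (nW n F o) l :=
  GJ_commute (Set.disjoint_singleton_left.mpr (ho_JL D)) (nW_mem_SS o) hl

theorem nt_commute_L (D : StepHyp J' o r p q φA φL φPh) {l : Sp n F} (hl : l ∈ GJ n F (insert r J')) :
    Commute (φA (nW n F o)) (φL l) := D.comm _ (nW_mem_SS o) l hl

/-- `q(w, c) ∈ PJ (insert o J') o` for `w ∈ VJ J'` -/
theorem qH_mem_PhA (D : StepHyp J' o r p q φA φL φPh) {w : V n F} (hw : w ∈ VJ n F J') (c : F) :
    qH o w c ∈ PhJ n F (insert o J') o := PJ_le_PhJ _ _ (qH_mem_PJ D.ho hw c)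

/-- `q(u, c) ∈ PhJ K o` for `u ∈ VJ (insert r J')` -/
theorem qH_mem_Ph (D : StepHyp J' o r p q φA φL φPh) {u : V n F} (hu : u ∈ VJ n F (insert r J')) (c : F) :
    qH o u c ∈ PhJ n F (insert o (insert r J')) o := PJ_le_PhJ _ _ (qH_mem_PJ (ho_JL D) hu c)

/-! ### the decomposition in `A` -/

theorem core_A (D : StepHyp J' o r p q φA φL φPh) {a : Sp n F} (ha : a ∈ GJ n F (insert o J')) :
    ∃ p₁ ∈ PhJ n F (insert o J') o, ∃ p₂ ∈ PhJ n F (insert o J') o,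
      (a = p₁ * p₂ ∧ φA a = φA p₁ * φA p₂) ∨
      (a = p₁ * yE n F o p * p₂ ∧ φA a = φA p₁ * φA (yE n F o p) * φA p₂) ∨
      (a = p₁ * nW n F o * p₂ ∧ φA a = φA p₁ * φA (nW n F o) * φA p₂) := by
  obtain ⟨p₁, hp₁, p₂, hp₂, h⟩ := GJ_decomp D.ho D.hp ha
  have h1 := PhA_le_A hp₁
  have h2 := PhA_le_A hp₂
  refine ⟨p₁, hp₁, p₂, hp₂, ?_⟩
  rcases h with h | h | h
  · left
    refine ⟨h, ?_⟩
    rw [h, D.homA.map_mul h1 h2]
  · right; left
    refine ⟨h, ?_⟩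
    rw [h, D.homA.map_mul (mul_mem h1 (yE_mem_A D)) h2, D.homA.map_mul h1 (yE_mem_A D)]
  · right; right
    refine ⟨h, ?_⟩
    rw [h, D.homA.map_mul (mul_mem h1 nW_mem_A) h2, D.homA.map_mul h1 nW_mem_A]

/-- the wrapping lemma -/
theorem wrap (D : StepHyp J' o r p q φA φL φPh) {X : Sp n F} {Xt : H} {x₁ a e₂ : Sp n F}
    (hx₁ : x₁ ∈ PhJ n F (insert o (insert r J')) o) (ha : a ∈ GJ n F (insert o J'))
    (he₂ : e₂ ∈ PhJ n F (insert o (insert r J')) o)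
    (hX : X = x₁ * a * e₂) (hXt : Xt = φPh x₁ * φA a * φPh e₂) :
    ∃ p₁ ∈ PhJ n F (insert o (insert r J')) o, ∃ p₂ ∈ PhJ n F (insert o (insert r J')) o,
      (X = p₁ * p₂ ∧ Xt = φPh p₁ * φPh p₂) ∨
      (X = p₁ * yE n F o p * p₂ ∧ Xt = φPh p₁ * φA (yE n F o p) * φPh p₂) ∨
      (X = p₁ * nW n F o * p₂ ∧ Xt = φPh p₁ * φA (nW n F o) * φPh p₂) := by
  obtain ⟨p₁, hp₁, p₂, hp₂, h⟩ := core_A D ha
  have h1 : p₁ ∈ PhJ n F (insert o (insert r J')) o := PhA_le_Ph hp₁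
  have h2 : p₂ ∈ PhJ n F (insert o (insert r J')) o := PhA_le_Ph hp₂
  refine ⟨x₁ * p₁, mul_mem hx₁ h1, p₂ * e₂, mul_mem h2 he₂, ?_⟩
  rw [D.homPh.map_mul hx₁ h1, D.homPh.map_mul h2 he₂, D.PhA p₁ hp₁, D.PhA p₂ hp₂, hX, hXt]
  rcases h with ⟨h, h'⟩ | ⟨h, h'⟩ | ⟨h, h'⟩
  · left
    rw [h', h]
    exact ⟨by group, by group⟩
  · right; left
    rw [h', h]
    exact ⟨by group, by group⟩
  · right; right
    rw [h', h]
    exact ⟨by group, by group⟩

/-! ### the decomposition of an element of the point stabiliser -/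

theorem decomp_g (D : StepHyp J' o r p q φA φL φPh) {g : Sp n F}
    (hg : g ∈ PhJ n F (insert o (insert r J')) o) :
    ∃ t ∈ TT n F o, ∃ u ∈ VJ n F (insert r J'), ∃ c : F, ∃ l ∈ GJ n F (insert r J'),
      g = t * qH o u c * l ∧ φPh g = φA t * φPh (qH o u c) * φL l := by
  obtain ⟨t, ht, p', hp', rfl⟩ := PhJ_decomp (Set.mem_insert o (insert r J')) hg
  obtain ⟨u, hu, c, l, hl, rfl⟩ := PJ_decomp (ho_JL D) hp'
  refine ⟨t, ht, u, hu, c, l, hl, by group, ?_⟩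
  have htPh : t ∈ PhJ n F (insert o (insert r J')) o := PhA_le_Ph (TT_le_PhA ht)
  rw [D.homPh.map_mul htPh (PJ_le_PhJ _ _ hp'), D.homPh.map_mul (qH_mem_Ph D hu c) (L_le_Ph D hl),
    D.PhA t (TT_le_PhA ht), D.PhL l hl]
  group

/-- conjugating a Heisenberg element by an element of the Levi factor -/
theorem qH_conj (D : StepHyp J' o r p q φA φL φPh) {m : Sp n F} (hm : m ∈ GJ n F (insert r J'))
    {u : V n F} (hu : u ∈ VJ n F (insert r J')) (c : F) :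
    qH o u c = m⁻¹ * qH o (act m u) c * m ∧
      φPh (qH o u c) = (φL m)⁻¹ * φPh (qH o (act m u) c) * φL m := by
  have e : qH o u c = m⁻¹ * qH o (act m u) c * m := by
    rw [← conj_qH (ho_JL D) hm u c]
    group
  refine ⟨e, ?_⟩
  have hmu : act m u ∈ VJ n F (insert r J') := act_mem_VJ hm hu
  have hmPh := L_le_Ph D hm
  conv_lhs => rw [e]
  rw [D.homPh.map_mul (mul_mem (inv_mem hmPh) (qH_mem_Ph D hmu c)) hmPh,
    D.homPh.map_mul (inv_mem hmPh) (qH_mem_Ph D hmu c), D.homPh.map_inv hmPh, D.PhL m hm]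

/-- the images of `x₁ = (n t n⁻¹) m⁻¹` and `e₂ = m l` -/
theorem x1_facts (D : StepHyp J' o r p q φA φL φPh) {t m : Sp n F} (ht : t ∈ TT n F o)
    (hm : m ∈ GJ n F (insert r J')) :
    nW n F o * t * (nW n F o)⁻¹ * m⁻¹ ∈ PhJ n F (insert o (insert r J')) o ∧
      φPh (nW n F o * t * (nW n F o)⁻¹ * m⁻¹) = φA (nW n F o) * φA t * (φA (nW n F o))⁻¹ * (φL m)⁻¹ := by
  have h1 : nW n F o * t * (nW n F o)⁻¹ ∈ PhJ n F (insert o J') o := TT_le_PhA (nW_conj_TT ht)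
  have h1' := PhA_le_Ph (r := r) h1
  have hmPh := L_le_Ph D hm
  refine ⟨mul_mem h1' (inv_mem hmPh), ?_⟩
  rw [D.homPh.map_mul h1' (inv_mem hmPh), D.homPh.map_inv hmPh, D.PhL m hm, D.PhA _ h1,
    D.homA.map_conj nW_mem_A (PhA_le_A (TT_le_PhA ht))]

theorem e2_facts (D : StepHyp J' o r p q φA φL φPh) {m l : Sp n F} (hm : m ∈ GJ n F (insert r J'))
    (hl : l ∈ GJ n F (insert r J')) :
    m * l ∈ PhJ n F (insert o (insert r J')) o ∧ φPh (m * l) = φL m * φL l := by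
  refine ⟨L_le_Ph D (mul_mem hm hl), ?_⟩
  rw [D.PhL _ (mul_mem hm hl), D.homL.map_mul hm hl]

end Cfsg.Agent.Lib.Helper12.SPSTEPCore
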