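import Cfsg.Agent.Lib.Helper12.SPSTEPCore

/-!
# S3713 (helper18's market), leaf STEPN `step_n` (helper12)
-/

set_option autoImplicit false

namespace Cfsg.Agent.Lib.Helper12.SPSTEPN

open Matrix Cfsg.Agent.Lib.Helper5 Cfsg.Agent.Lib.Helper14.SpPerfect Cfsg.Agent.Lib.Helper18.SP
open Cfsg.Agent.Lib.Helper4.SPGDEC Cfsg.Agent.Lib.Helper25.SPPAIR Cfsg.Agent.Lib.Helper15.SPIDENT
open Cfsg.Agent.Lib.Helper12.SPSTEPCore

variable {F : Type*} [Field F] {n : ℕ} {H : Type*} [Group H]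

/-- **STEPN** -/
theorem step_n {J' : Set (Fin n)} {o r p q : Fin n} {φA φL φPh : Sp n F → H}
    (D : StepHyp J' o r p q φA φL φPh) :
    ∀ g ∈ PhJ n F (insert o (insert r J')) o,
      ∃ p₁ ∈ PhJ n F (insert o (insert r J')) o, ∃ p₂ ∈ PhJ n F (insert o (insert r J')) o,
      (nW n F o * g * nW n F o = p₁ * p₂ ∧ φA (nW n F o) * φPh g * φA (nW n F o) = φPh p₁ * φPh p₂) ∨
      (nW n F o * g * nW n F o = p₁ * yE n F o p * p₂ ∧
        φA (nW n F o) * φPh g * φA (nW n F o) = φPh p₁ * φA (yE n F o p) * φPh p₂) ∨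
      (nW n F o * g * nW n F o = p₁ * nW n F o * p₂ ∧
        φA (nW n F o) * φPh g * φA (nW n F o) = φPh p₁ * φA (nW n F o) * φPh p₂) := by
  intro g hg
  obtain ⟨t, ht, u, hu, c, l, hl, hgeq, hφg⟩ := decomp_g D hg
  obtain ⟨m, hm, hw⟩ : ∃ m ∈ GJ n F (insert r J'), act m u ∈ VJ n F J' := by
    by_cases hu0 : u = 0
    · exact ⟨1, one_mem _, by rw [hu0, act_one]; exact (VJ n F J').zero_mem⟩
    · obtain ⟨m, hm, hmu⟩ := GJ_trans (insert r J') hu (eV_mem_VJ (hp_JL D)) hu0 (eV_ne_zero p)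
      exact ⟨m, hm, by rw [hmu]; exact eV_mem_VJ D.hp⟩
  obtain ⟨hq1, hq2⟩ := qH_conj D hm hu c
  have hqw : qH o (act m u) c ∈ PhJ n F (insert o J') o := qH_mem_PhA D hw c
  obtain ⟨hx1, hx1φ⟩ := x1_facts D ht hm
  obtain ⟨he2, he2φ⟩ := e2_facts D hm hl
  have ha : nW n F o * qH o (act m u) c * nW n F o ∈ GJ n F (insert o J') :=
    mul_mem (mul_mem nW_mem_A (PhA_le_A hqw)) nW_mem_A
  refine wrap D hx1 ha he2 ?_ ?_
  · rw [hgeq, hq1]
    exact algN _ _ _ _ _ (n_commute_L D hm) (n_commute_L D hl)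
  · rw [hφg, hq2, D.PhA _ hqw, hx1φ, he2φ, D.homA.map_mul (mul_mem nW_mem_A (PhA_le_A hqw)) nW_mem_A,
      D.homA.map_mul nW_mem_A (PhA_le_A hqw)]
    exact algN _ _ _ _ _ (nt_commute_L D hm) (nt_commute_L D hl)

end Cfsg.Agent.Lib.Helper12.SPSTEPN
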