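import Cfsg.Agent.Lib.Helper12.SPSTEPCore

/-!
# S3713 (helper18's market), leaf STEPY `step_y` (helper12)
-/

set_option autoImplicit false

namespace Cfsg.Agent.Lib.Helper12.SPSTEPY

open Matrix Cfsg.Agent.Lib.Helper5 Cfsg.Agent.Lib.Helper14.SpPerfect Cfsg.Agent.Lib.Helper18.SP
open Cfsg.Agent.Lib.Helper4.SPGDEC Cfsg.Agent.Lib.Helper25.SPPAIR Cfsg.Agent.Lib.Helper15.SPIDENT
open Cfsg.Agent.Lib.Helper12.SPSTEPCore

variable {F : Type*} [Field F] {n : ℕ} {H : Type*} [Group H]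
variable {J' : Set (Fin n)} {o r p q : Fin n} {φA φL φPh : Sp n F → H}

/-- `y = E(f_o, e_p)` commutes with the stabiliser of `e_p` in the Levi factor -/
theorem y_commute (D : StepHyp J' o r p q φA φL φPh) {k : Sp n F} (hk : k ∈ PJ n F (insert r J') p) :
    Commute (yE n F o p) k := by
  have h : k * yE n F o p * k⁻¹ = yE n F o p := by
    unfold yE
    rw [conj_E, (hk.1 o (ho_JL D)).2, hk.2]
  have h' : k * yE n F o p = yE n F o p * k := by
    conv_rhs => rw [← h]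
    group
  exact h'.symm

theorem E_op_mem_A (D : StepHyp J' o r p q φA φL φPh) :
    E (eV n F o) (eV n F p) ∈ GJ n F (insert o J') :=
  E_mem_GJ (eV_mem_VJ (Set.mem_insert o J')) (eV_mem_VJ (Set.mem_insert_of_mem o D.hp))

/-- `ỹ` commutes with `φL` of the stabiliser of `e_p` in the Levi factor -/
theorem yt_commute (D : StepHyp J' o r p q φA φL φPh) {k : Sp n F} (hk : k ∈ PJ n F (insert r J') p) :
    Commute (φA (yE n F o p)) (φL k) := by
  have e : φA (yE n F o p) =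
      φA (nW n F o) * (φA (E (eV n F o) (eV n F p)))⁻¹ * (φA (nW n F o))⁻¹ := by
    conv_lhs => rw [yE_eq_conj (hop D)]
    rw [D.homA.map_conj nW_mem_A (inv_mem (E_op_mem_A D)), D.homA.map_inv (E_op_mem_A D)]
  rw [e]
  have h1 : Commute (φL k) (φA (nW n F o)) := (nt_commute_L D hk.1).symm
  have h2 : Commute (φL k) (φA (E (eV n F o) (eV n F p))) := D.hC k hk
  exact ((h1.mul_right h2.inv_right).mul_right h1.inv_right).symm

/-- the choice of `m` -/
theorem exists_m (D : StepHyp J' o r p q φA φL φPh) {u : V n F} (hu : u ∈ VJ n F (insert r J'))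
    {l : Sp n F} (hl : l ∈ GJ n F (insert r J')) :
    ∃ m ∈ GJ n F (insert r J'), act m (act l (eV n F p)) = eV n F p ∧
      (act m u ∈ VJ n F J' ∨ act m u = eV n F q) := by
  have hep : eV n F p ∈ VJ n F (insert r J') := eV_mem_VJ (hp_JL D)
  have hfp : fV n F p ∈ VJ n F (insert r J') := fV_mem_VJ (hp_JL D)
  have hu' : act l (eV n F p) ∈ VJ n F (insert r J') := act_mem_VJ hl hep
  have hu'0 : act l (eV n F p) ≠ 0 := fun h => eV_ne_zero p ((act_eq_zero_iff l _).mp h)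
  by_cases hβ : ω n F u (act l (eV n F p)) = 0
  · by_cases hdep : ∃ α : F, u = α • act l (eV n F p)
    · obtain ⟨α, hα⟩ := hdep
      obtain ⟨m, hm, hmu⟩ := GJ_trans (insert r J') hu' hep hu'0 (eV_ne_zero p)
      refine ⟨m, hm, hmu, Or.inl ?_⟩
      rw [hα, act_smul, hmu]
      exact (VJ n F J').smul_mem α (eV_mem_VJ D.hp)
    · push Not at hdep
      obtain ⟨m, hm, h1, h2⟩ := pair_orth (hp_JL D) D.hq D.hqp.symm hu hu' hβ hu'0 hdep
      exact ⟨m, hm, h1, Or.inr h2⟩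
  · have h1 : ω n F ((ω n F u (act l (eV n F p)))⁻¹ • u) (act l (eV n F p)) = 1 := by
      rw [ω_smul_left, inv_mul_cancel₀ hβ]
    have h2 : ω n F (fV n F p) (eV n F p) = 1 := by rw [ω_fV_eV, if_pos rfl]
    obtain ⟨m, hm, hm1, hm2⟩ := GJ_trans_pair (insert r J')
      ((VJ n F (insert r J')).smul_mem _ hu) hu' hfp hep h1 h2
    refine ⟨m, hm, hm2, Or.inl ?_⟩
    rw [act_smul] at hm1
    have : act m u = ω n F u (act l (eV n F p)) • fV n F p := by
      rw [← hm1, smul_smul, mul_inv_cancel₀ hβ, one_smul]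
    rw [this]
    exact (VJ n F J').smul_mem _ (fV_mem_VJ D.hp)

/-- **STEPY** -/
theorem step_y (D : StepHyp J' o r p q φA φL φPh) :
    ∀ g ∈ PhJ n F (insert o (insert r J')) o,
      ∃ p₁ ∈ PhJ n F (insert o (insert r J')) o, ∃ p₂ ∈ PhJ n F (insert o (insert r J')) o,
      (nW n F o * g * yE n F o p = p₁ * p₂ ∧ φA (nW n F o) * φPh g * φA (yE n F o p) = φPh p₁ * φPh p₂) ∨
      (nW n F o * g * yE n F o p = p₁ * yE n F o p * p₂ ∧
        φA (nW n F o) * φPh g * φA (yE n F o p) = φPh p₁ * φA (yE n F o p) * φPh p₂) ∨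
      (nW n F o * g * yE n F o p = p₁ * nW n F o * p₂ ∧
        φA (nW n F o) * φPh g * φA (yE n F o p) = φPh p₁ * φA (nW n F o) * φPh p₂) := by
  intro g hg
  obtain ⟨t, ht, u, hu, c, l, hl, hgeq, hφg⟩ := decomp_g D hg
  obtain ⟨m, hm, hmp, hcase⟩ := exists_m D hu hl
  obtain ⟨hq1, hq2⟩ := qH_conj D hm hu c
  obtain ⟨hx1, hx1φ⟩ := x1_facts D ht hm
  obtain ⟨he2, he2φ⟩ := e2_facts D hm hl
  have hk : m * l ∈ PJ n F (insert r J') p := ⟨mul_mem hm hl, by rw [act_mul, hmp]⟩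
  have hyk : Commute (yE n F o p) (m * l) := y_commute D hk
  have hytk : Commute (φA (yE n F o p)) (φL m * φL l) := by
    rw [← D.homL.map_mul hm hl]
    exact yt_commute D hk
  rcases hcase with hw | hw
  · -- `m u ∈ VJ J'`: everything happens in `A`
    have hqw : qH o (act m u) c ∈ PhJ n F (insert o J') o := qH_mem_PhA D hw c
    have ha : nW n F o * qH o (act m u) c * yE n F o p ∈ GJ n F (insert o J') :=
      mul_mem (mul_mem nW_mem_A (PhA_le_A hqw)) (yE_mem_A D)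
    refine wrap D hx1 ha he2 ?_ ?_
    · rw [hgeq, hq1]
      exact algY _ _ _ _ _ _ (n_commute_L D hm) hyk
    · rw [hφg, hq2, D.PhA _ hqw, hx1φ, he2φ,
        D.homA.map_mul (mul_mem nW_mem_A (PhA_le_A hqw)) (yE_mem_A D),
        D.homA.map_mul nW_mem_A (PhA_le_A hqw)]
      exact algY _ _ _ _ _ _ (nt_commute_L D hm) hytk
  · -- `m u = e_q`
    have hoq' : ω n F (eV n F o) (eV n F q) = 0 := ω_eV_eV o q
    have hE1 : E (eV n F o) (eV n F q) ∈ PhJ n F (insert o (insert r J')) o :=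
      PJ_le_PhJ _ _ (E_eV_mem_PJ (ho_JL D) (eV_mem_VJ D.hq))
    have hE2 : E (eV n F p) (eV n F q) ∈ GJ n F (insert r J') :=
      E_mem_GJ (eV_mem_VJ (hp_JL D)) (eV_mem_VJ D.hq)
    have hT : Tr (eV n F o) c ∈ PhJ n F (insert o J') o :=
      PJ_le_PhJ _ _ (Tr_eV_mem_PJ (Set.mem_insert o J') c)
    have hT' : Tr (eV n F o) c ∈ PhJ n F (insert o (insert r J')) o := PhA_le_Ph hT
    have ha : nW n F o * Tr (eV n F o) c * yE n F o p ∈ GJ n F (insert o J') :=
      mul_mem (mul_mem nW_mem_A (PhA_le_A hT)) (yE_mem_A D)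
    have he2' : E (eV n F o) (eV n F q) * E (eV n F p) (eV n F q) * (m * l) ∈
        PhJ n F (insert o (insert r J')) o := mul_mem (mul_mem hE1 (L_le_Ph D hE2)) he2
    have hcomm : Commute (E (eV n F o) (eV n F q)) (Tr (eV n F o) c) := E_commute_Tr _ _ c hoq'
    have hcommt : Commute (φPh (E (eV n F o) (eV n F q))) (φA (Tr (eV n F o) c)) := by
      rw [← D.PhA _ hT]
      show _ = _
      rw [← D.homPh.map_mul hE1 hT', ← D.homPh.map_mul hT' hE1, hcomm.eq]
    refine wrap D hx1 ha he2' ?_ ?_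
    · rw [hgeq, hq1, hw]
      unfold qH
      exact algC _ _ _ _ _ _ _ _ (n_commute_L D hm) hyk hcomm (yE_conj_E (hop D) (hoq D) D.hqp.symm)
    · rw [hφg, hq2, hw]
      unfold qH
      rw [D.homPh.map_mul hE1 hT', D.PhA _ hT, hx1φ, D.homPh.map_mul (mul_mem hE1 (L_le_Ph D hE2)) he2,
        D.homPh.map_mul hE1 (L_le_Ph D hE2), D.PhL _ hE2, he2φ,
        D.homA.map_mul (mul_mem nW_mem_A (PhA_le_A hT)) (yE_mem_A D),
        D.homA.map_mul nW_mem_A (PhA_le_A hT)]
      exact algC _ _ _ _ _ _ _ _ (nt_commute_L D hm) hytk hcommt D.hR3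

end Cfsg.Agent.Lib.Helper12.SPSTEPY
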