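import Cfsg.Agent.Lib.Helper12.SPT2Dec

/-!
# S3713, super-leaf T2: leaf B2DEC under the exact name + binders of `notes/S3713_T2_leaves.lean`
(proof: `Cfsg.Agent.Lib.Helper12.SPT2Dec.B2_decomp`)
-/

set_option autoImplicit false
set_option linter.unusedVariables false

namespace Cfsg.Agent.Lib.Helper12.SPT2B2DEC

open Matrix Cfsg.Agent.Lib.Helper5 Cfsg.Agent.Lib.Helper14.SpPerfect Cfsg.Agent.Lib.Helper18.SP
open Cfsg.Agent.Lib.Helper20.SPT2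

variable {F : Type*} [Field F] {n : ℕ} {o p : Fin n}

/-- **B2DEC**: `Ph1 ⊓ P2 = TT o · MM o p` -/
theorem B2_decomp (hop : o ≠ p) {g : Sp n F} (hg1 : g ∈ PhJ n F {o, p} o) (hg2 : g ∈ PJ n F {o, p} p) :
    ∃ t ∈ TT n F o, ∃ m ∈ MM n F o p, g = t * m :=
  Cfsg.Agent.Lib.Helper12.SPT2Dec.B2_decomp hg1 hg2

end Cfsg.Agent.Lib.Helper12.SPT2B2DEC
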