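import Cfsg.Agent.Lib.Helper18.SPDec
import Cfsg.Agent.Lib.Helper18.SPHom

/-!
# S3713, super-leaf T2 (rank two, `Sp₄` on `{o, p}`): the group-side calculus (helper12)

Definitions of helper18's `notes/S3713_T2_plan.md` §0 and their actions on the basis vectors:
`xR o p t = E e_o (t f_p)` (root `ε_o - ε_p`), `yR o p t = E f_o (t e_p)` (root `-ε_o + ε_p`),
`nR o p = xR 1 * yR (-1) * xR 1`, `hT k s` (the torus element `e_k ↦ s e_k`, `f_k ↦ s⁻¹ f_k`),
`hR o p s = hT o s * hT p s⁻¹`, `zR o p = E f_o (-f_p)` (root `-ε_o - ε_p`).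
-/

set_option autoImplicit false

namespace Cfsg.Agent.Lib.Helper12.SPT2

open Matrix Cfsg.Agent.Lib.Helper5 Cfsg.Agent.Lib.Helper14.SpPerfect Cfsg.Agent.Lib.Helper18.SP

variable {F : Type*} [Field F] {n : ℕ}

/-- `X t = E e_o (t f_p)` -/
def xR (o p : Fin n) (t : F) : Sp n F := E (eV n F o) (t • fV n F p)

/-- `Y t = E f_o (t e_p)` -/
def yR (o p : Fin n) (t : F) : Sp n F := E (fV n F o) (t • eV n F p)

/-- `N = X 1 * Y (-1) * X 1` -/
def nR (o p : Fin n) : Sp n F := xR o p (1 : F) * yR o p (-1) * xR o p 1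

/-- the torus element `e_k ↦ s e_k`, `f_k ↦ s⁻¹ f_k` -/
def hT (k : Fin n) (s : F) : Sp n F :=
  Tr (eV n F k) s * Tr (fV n F k) s⁻¹ * Tr (eV n F k) s * (nW n F k)⁻¹

/-- `h s = hT o s * hT p s⁻¹` -/
def hR (o p : Fin n) (s : F) : Sp n F := hT o s * hT p s⁻¹

/-- `Z = E f_o (-f_p)` -/
def zR (o p : Fin n) : Sp n F := E (fV n F o) (-fV n F p)

/-! ### orthogonality of the defining pairs -/

theorem ω_e_f_ne {o p : Fin n} (hop : o ≠ p) : ω n F (eV n F o) (fV n F p) = 0 := by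
  rw [ω_eV_fV, if_neg hop.symm]

theorem ω_f_e_ne {o p : Fin n} (hop : o ≠ p) : ω n F (fV n F o) (eV n F p) = 0 := by
  rw [ω_fV_eV, if_neg hop.symm]

theorem ω_f_e_self (o : Fin n) : ω n F (fV n F o) (eV n F o) = 1 := by
  rw [ω_fV_eV, if_pos rfl]

theorem ω_e_f_self (o : Fin n) : ω n F (eV n F o) (fV n F o) = -1 := by
  rw [ω_eV_fV, if_pos rfl]

theorem xR_orth {o p : Fin n} (hop : o ≠ p) (t : F) : ω n F (eV n F o) (t • fV n F p) = 0 := by
  rw [ω_smul_right, ω_e_f_ne hop, mul_zero]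

theorem yR_orth {o p : Fin n} (hop : o ≠ p) (t : F) : ω n F (fV n F o) (t • eV n F p) = 0 := by
  rw [ω_smul_right, ω_f_e_ne hop, mul_zero]

theorem zR_orth (o p : Fin n) : ω n F (fV n F o) (-fV n F p) = 0 := by
  rw [ω_neg_right, ω_fV_fV, neg_zero]

/-! ### the general action formulas -/

theorem act_xR {o p : Fin n} (hop : o ≠ p) (t : F) (x : V n F) :
    act (xR o p t) x = x + (t * ω n F x (eV n F o)) • fV n F p + (t * ω n F x (fV n F p)) • eV n F o := by
  unfold xR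
  rw [act_E _ _ _ (xR_orth hop t), ω_smul_right]
  module

theorem act_yR {o p : Fin n} (hop : o ≠ p) (t : F) (x : V n F) :
    act (yR o p t) x = x + (t * ω n F x (fV n F o)) • eV n F p + (t * ω n F x (eV n F p)) • fV n F o := by
  unfold yR
  rw [act_E _ _ _ (yR_orth hop t), ω_smul_right]
  module

theorem act_zR (o p : Fin n) (x : V n F) :
    act (zR o p : Sp n F) x = x - ω n F x (fV n F o) • fV n F p - ω n F x (fV n F p) • fV n F o := by
  unfold zR
  rw [act_E _ _ _ (zR_orth o p), ω_neg_right]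
  module

/-! ### actions on the basis -/

theorem xR_eV_o {o p : Fin n} (hop : o ≠ p) (t : F) : act (xR o p t) (eV n F o) = eV n F o := by
  rw [act_xR hop, ω_self, ω_e_f_ne hop]
  module

theorem xR_fV_p {o p : Fin n} (hop : o ≠ p) (t : F) : act (xR o p t) (fV n F p) = fV n F p := by
  rw [act_xR hop, ω_self, ω_f_e_ne hop.symm]
  module

theorem xR_eV_p {o p : Fin n} (hop : o ≠ p) (t : F) :
    act (xR o p t) (eV n F p) = eV n F p - t • eV n F o := by
  rw [act_xR hop, ω_eV_eV, ω_e_f_self]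
  module

theorem xR_fV_o {o p : Fin n} (hop : o ≠ p) (t : F) :
    act (xR o p t) (fV n F o) = fV n F o + t • fV n F p := by
  rw [act_xR hop, ω_f_e_self, ω_fV_fV]
  module

theorem xR_eV_of_ne {o p k : Fin n} (hop : o ≠ p) (hkp : k ≠ p) (t : F) :
    act (xR o p t) (eV n F k) = eV n F k := by
  rw [act_xR hop, ω_eV_eV, ω_e_f_ne hkp]
  module

theorem xR_fV_of_ne {o p k : Fin n} (hop : o ≠ p) (hko : k ≠ o) (t : F) :
    act (xR o p t) (fV n F k) = fV n F k := by
  rw [act_xR hop, ω_fV_fV, ω_f_e_ne hko]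
  module

theorem yR_eV_p {o p : Fin n} (hop : o ≠ p) (t : F) : act (yR o p t) (eV n F p) = eV n F p := by
  rw [act_yR hop, ω_self, ω_e_f_ne hop.symm]
  module

theorem yR_fV_o {o p : Fin n} (hop : o ≠ p) (t : F) : act (yR o p t) (fV n F o) = fV n F o := by
  rw [act_yR hop, ω_self, ω_f_e_ne hop]
  module

theorem yR_eV_o {o p : Fin n} (hop : o ≠ p) (t : F) :
    act (yR o p t) (eV n F o) = eV n F o - t • eV n F p := by
  rw [act_yR hop, ω_eV_eV, ω_e_f_self]
  module

theorem yR_fV_p {o p : Fin n} (hop : o ≠ p) (t : F) :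
    act (yR o p t) (fV n F p) = fV n F p + t • fV n F o := by
  rw [act_yR hop, ω_f_e_self, ω_fV_fV]
  module

theorem yR_eV_of_ne {o p k : Fin n} (hop : o ≠ p) (hko : k ≠ o) (t : F) :
    act (yR o p t) (eV n F k) = eV n F k := by
  rw [act_yR hop, ω_eV_eV, ω_e_f_ne hko]
  module

theorem yR_fV_of_ne {o p k : Fin n} (hop : o ≠ p) (hkp : k ≠ p) (t : F) :
    act (yR o p t) (fV n F k) = fV n F k := by
  rw [act_yR hop, ω_fV_fV, ω_f_e_ne hkp]
  module

theorem zR_fV (o p k : Fin n) : act (zR o p : Sp n F) (fV n F k) = fV n F k := by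
  rw [act_zR, ω_fV_fV, ω_fV_fV]
  module

theorem zR_eV_o {o p : Fin n} (hop : o ≠ p) : act (zR o p : Sp n F) (eV n F o) = eV n F o + fV n F p := by
  rw [act_zR, ω_e_f_self, ω_e_f_ne hop]
  module

theorem zR_eV_p {o p : Fin n} (hop : o ≠ p) : act (zR o p : Sp n F) (eV n F p) = eV n F p + fV n F o := by
  rw [act_zR, ω_e_f_self, ω_e_f_ne hop.symm]
  module

theorem zR_eV_of_ne {o p k : Fin n} (hko : k ≠ o) (hkp : k ≠ p) :
    act (zR o p : Sp n F) (eV n F k) = eV n F k := by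
  rw [act_zR, ω_e_f_ne hko, ω_e_f_ne hkp]
  module

/-! ### the torus elements `hT k s` -/

theorem nW_eV_of_ne {k j : Fin n} (hjk : j ≠ k) : act (nW n F k) (eV n F j) = eV n F j :=
  (nW_mem_SS k j hjk).1

theorem nW_fV_of_ne {k j : Fin n} (hjk : j ≠ k) : act (nW n F k) (fV n F j) = fV n F j :=
  (nW_mem_SS k j hjk).2

theorem hT_mem_SS (k : Fin n) (s : F) : hT k s ∈ SS n F k := by
  have he : eV n F k ∈ VJ n F {k} := eV_mem_VJ rfl
  have hf : fV n F k ∈ VJ n F {k} := fV_mem_VJ rfl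
  exact mul_mem (mul_mem (mul_mem (Tr_mem_GJ he s) (Tr_mem_GJ hf s⁻¹)) (Tr_mem_GJ he s))
    (inv_mem (nW_mem_SS k))

theorem hT_eV {k : Fin n} {s : F} (hs : s ≠ 0) : act (hT k s) (eV n F k) = s • eV n F k := by
  unfold hT
  simp only [act_mul, nW_inv_eV, act_Tr, ω_add_left, ω_smul_left, ω_self, ω_f_e_self, ω_e_f_self]
  match_scalars <;> field_simp <;> ring

theorem hT_fV {k : Fin n} {s : F} (hs : s ≠ 0) : act (hT k s) (fV n F k) = s⁻¹ • fV n F k := by
  unfold hT
  simp only [act_mul, nW_inv_fV, act_Tr, ω_add_left, ω_smul_left, ω_neg_left, ω_self, ω_f_e_self,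
    ω_e_f_self]
  match_scalars <;> field_simp <;> ring

theorem hT_eV_of_ne {k j : Fin n} (hjk : j ≠ k) (s : F) : act (hT k s) (eV n F j) = eV n F j :=
  (hT_mem_SS k s j hjk).1

theorem hT_fV_of_ne {k j : Fin n} (hjk : j ≠ k) (s : F) : act (hT k s) (fV n F j) = fV n F j :=
  (hT_mem_SS k s j hjk).2

/-! ### memberships in `GJ {o, p}` and extensionality there -/

theorem eV_o_mem (o p : Fin n) : eV n F o ∈ VJ n F {o, p} := eV_mem_VJ (Set.mem_insert o {p})
theorem fV_o_mem (o p : Fin n) : fV n F o ∈ VJ n F {o, p} := fV_mem_VJ (Set.mem_insert o {p})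
theorem eV_p_mem (o p : Fin n) : eV n F p ∈ VJ n F {o, p} :=
  eV_mem_VJ (Set.mem_insert_of_mem o (Set.mem_singleton p))
theorem fV_p_mem (o p : Fin n) : fV n F p ∈ VJ n F {o, p} :=
  fV_mem_VJ (Set.mem_insert_of_mem o (Set.mem_singleton p))

theorem xR_mem (o p : Fin n) (t : F) : xR o p t ∈ GJ n F {o, p} :=
  E_mem_GJ (eV_o_mem o p) ((VJ n F {o, p}).smul_mem t (fV_p_mem o p))

theorem yR_mem (o p : Fin n) (t : F) : yR o p t ∈ GJ n F {o, p} :=
  E_mem_GJ (fV_o_mem o p) ((VJ n F {o, p}).smul_mem t (eV_p_mem o p))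

theorem zR_mem (o p : Fin n) : (zR o p : Sp n F) ∈ GJ n F {o, p} :=
  E_mem_GJ (fV_o_mem o p) ((VJ n F {o, p}).neg_mem (fV_p_mem o p))

theorem nR_mem (o p : Fin n) : (nR o p : Sp n F) ∈ GJ n F {o, p} :=
  mul_mem (mul_mem (xR_mem o p 1) (yR_mem o p (-1))) (xR_mem o p 1)

theorem hT_o_mem (o p : Fin n) (s : F) : hT o s ∈ GJ n F {o, p} :=
  SS_le_GJ (Set.mem_insert o {p}) (hT_mem_SS o s)

theorem hT_p_mem (o p : Fin n) (s : F) : hT p s ∈ GJ n F {o, p} :=
  SS_le_GJ (Set.mem_insert_of_mem o (Set.mem_singleton p)) (hT_mem_SS p s)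

theorem hR_mem (o p : Fin n) (s : F) : hR o p s ∈ GJ n F {o, p} :=
  mul_mem (hT_o_mem o p s) (hT_p_mem o p s⁻¹)

/-- two elements of `GJ {o, p}` agreeing on `e_o, e_p, f_o, f_p` are equal -/
theorem ext_GJ2 {o p : Fin n} {g h : Sp n F} (hg : g ∈ GJ n F {o, p}) (hh : h ∈ GJ n F {o, p})
    (h1 : act g (eV n F o) = act h (eV n F o)) (h2 : act g (eV n F p) = act h (eV n F p))
    (h3 : act g (fV n F o) = act h (fV n F o)) (h4 : act g (fV n F p) = act h (fV n F p)) : g = h := by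
  apply sp_ext_basis
  · intro k
    by_cases hko : k = o
    · rw [hko]; exact h1
    · by_cases hkp : k = p
      · rw [hkp]; exact h2
      · have hk : k ∉ ({o, p} : Set (Fin n)) := by
          intro hk
          rcases hk with hk | hk
          · exact hko hk
          · exact hkp hk
        rw [(hg k hk).1, (hh k hk).1]
  · intro k
    by_cases hko : k = o
    · rw [hko]; exact h3
    · by_cases hkp : k = p
      · rw [hkp]; exact h4
      · have hk : k ∉ ({o, p} : Set (Fin n)) := by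
          intro hk
          rcases hk with hk | hk
          · exact hko hk
          · exact hkp hk
        rw [(hg k hk).2, (hh k hk).2]

/-! ### the Weyl element `N` -/

theorem nR_eV_o {o p : Fin n} (hop : o ≠ p) : act (nR o p : Sp n F) (eV n F o) = eV n F p := by
  unfold nR
  rw [act_mul, act_mul, xR_eV_o hop, yR_eV_o hop, act_sub, act_smul, xR_eV_o hop, xR_eV_p hop]
  module

theorem nR_eV_p {o p : Fin n} (hop : o ≠ p) : act (nR o p : Sp n F) (eV n F p) = -eV n F o := by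
  unfold nR
  rw [act_mul, act_mul, xR_eV_p hop, act_sub, act_smul, yR_eV_p hop, yR_eV_o hop, act_sub, act_smul,
    act_sub, act_smul, xR_eV_o hop, xR_eV_p hop]
  module

theorem nR_fV_o {o p : Fin n} (hop : o ≠ p) : act (nR o p : Sp n F) (fV n F o) = fV n F p := by
  unfold nR
  rw [act_mul, act_mul, xR_fV_o hop, act_add, act_smul, yR_fV_o hop, yR_fV_p hop, act_add, act_smul,
    act_add, act_smul, xR_fV_o hop, xR_fV_p hop]
  module

theorem nR_fV_p {o p : Fin n} (hop : o ≠ p) : act (nR o p : Sp n F) (fV n F p) = -fV n F o := by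
  unfold nR
  rw [act_mul, act_mul, xR_fV_p hop, yR_fV_p hop, act_add, act_smul, xR_fV_p hop, xR_fV_o hop]
  module

end Cfsg.Agent.Lib.Helper12.SPT2
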