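import Cfsg.Agent.Lib.Helper12.SPT2Dec

/-!
# S3713, super-leaf T2: leaf P2DEC under the exact name + binders of `notes/S3713_T2_leaves.lean`
(proof: `Cfsg.Agent.Lib.Helper12.SPT2Dec.P2_decomp`)
-/

set_option autoImplicit false

namespace Cfsg.Agent.Lib.Helper12.SPT2P2DEC

open Matrix Cfsg.Agent.Lib.Helper5 Cfsg.Agent.Lib.Helper14.SpPerfect Cfsg.Agent.Lib.Helper18.SP
open Cfsg.Agent.Lib.Helper20.SPT2

variable {F : Type*} [Field F] {n : ℕ} {o p : Fin n}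

/-- **P2DEC**: the three double cosets of `B2 = Ph1 ⊓ P2` in `P2` -/
theorem P2_decomp (hop : o ≠ p) {g : Sp n F} (hg : g ∈ PJ n F {o, p} p) :
    ∃ p₁ : Sp n F, p₁ ∈ PhJ n F {o, p} o ∧ p₁ ∈ PJ n F {o, p} p ∧
    ∃ p₂ : Sp n F, p₂ ∈ PhJ n F {o, p} o ∧ p₂ ∈ PJ n F {o, p} p ∧
      (g = p₁ * p₂ ∨ g = p₁ * yE n F o p * p₂ ∨ g = p₁ * nW n F o * p₂) := by
  obtain ⟨p₁, p₂, h1, h2, h⟩ := Cfsg.Agent.Lib.Helper12.SPT2Dec.P2_decomp hop hg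
  exact ⟨p₁, h1.1, h1.2, p₂, h2.1, h2.2, h⟩

end Cfsg.Agent.Lib.Helper12.SPT2P2DEC
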