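import Cfsg.Agent.Lib.Helper12.SPT2Dec

/-!
# S3713, super-leaf T2: leaf SL2GEN under the exact name + binders of `notes/S3713_T2_leaves.lean`
(proof: `Cfsg.Agent.Lib.Helper12.SPT2Dec.SS_le_closure_Tr`)
-/

set_option autoImplicit false

namespace Cfsg.Agent.Lib.Helper12.SPT2SL2GEN

open Matrix Cfsg.Agent.Lib.Helper5 Cfsg.Agent.Lib.Helper14.SpPerfect Cfsg.Agent.Lib.Helper18.SP

variable {F : Type*} [Field F] {n : ℕ} {o p : Fin n}

/-- **SL2GEN**: `S_k` is generated by its two root groups -/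
theorem SS_le_closure_Tr (k : Fin n) :
    SS n F k ≤ Subgroup.closure {g : Sp n F | ∃ t : F, g = Tr (eV n F k) t ∨ g = Tr (fV n F k) t} :=
  Cfsg.Agent.Lib.Helper12.SPT2Dec.SS_le_closure_Tr k

end Cfsg.Agent.Lib.Helper12.SPT2SL2GEN
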