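import Mathlib
import Cfsg.Prelude.Def_GeometricClasses
import Cfsg.Agent.Lib.Helper12.Ex32A

/-! Helper12 library (ST64, part A): finite matrix groups whose commutant consists of the scalars.
Central elements are scalar; a subgroup acting by signs whose centralizer is scalar again has
scalar commutant; the order of such a group is at least `n² ·` (order of a scalar subgroup). -/

set_option autoImplicit false
set_option linter.unusedSectionVars false
set_option linter.unusedVariables false
set_option linter.style.haveILetI false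

namespace Cfsg.Agent.Lib.Helper12.ST64

open Matrix Module Cfsg.Agent.Lib.Helper12.Ex32
open scoped MatrixGroups

section A

variable {ι : Type} [Fintype ι] [DecidableEq ι] {F : Type*} [Field F]

variable (R : Subgroup (GL ι F))

/-- the commutant of `R` consists of the scalar matrices -/
def Sc : Prop :=
  ∀ M : Matrix ι ι F, (∀ s ∈ Cfsg.Geo.matrixSet R, M * s = s * M) →
    ∃ c : F, M = c • (1 : Matrix ι ι F)

theorem scalar_of_central (hc : Sc R) (x : R) (hx : ∀ g : R, g * x = x * g) :
    ∃ c : F, mat R x = c • (1 : Matrix ι ι F) := by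
  apply hc
  rintro s ⟨h, hh, rfl⟩
  have h1 := congrArg (mat R) (hx ⟨h, hh⟩)
  rw [mat_mul, mat_mul] at h1
  exact h1.symm

theorem comm_inv_of_comm (u g : R) (h : mat R u * mat R g = mat R g * mat R u) :
    mat R u * mat R g⁻¹ = mat R g⁻¹ * mat R u := by
  calc mat R u * mat R g⁻¹ = (mat R g⁻¹ * mat R g) * mat R u * mat R g⁻¹ := by
        rw [mat_inv_mul, Matrix.one_mul]
    _ = mat R g⁻¹ * (mat R g * mat R u) * mat R g⁻¹ := by simp only [Matrix.mul_assoc]
    _ = mat R g⁻¹ * (mat R u * mat R g) * mat R g⁻¹ := by rw [h]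
    _ = mat R g⁻¹ * mat R u * (mat R g * mat R g⁻¹) := by simp only [Matrix.mul_assoc]
    _ = mat R g⁻¹ * mat R u := by rw [mat_mul_inv, Matrix.mul_one]

theorem trace_zero_of_anti (h2 : (2 : F) ≠ 0) (u : R) (G X : Matrix ι ι F)
    (hUG : mat R u * G = -(G * mat R u)) (hX : X * mat R u = mat R u * X) :
    (G * X).trace = 0 := by
  have h1 : (mat R u * (G * X) * mat R u⁻¹).trace = (G * X).trace := by
    rw [Matrix.trace_mul_cycle, mat_inv_mul, Matrix.one_mul]
  have h3 : mat R u * (G * X) * mat R u⁻¹ = -(G * X) := by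
    calc mat R u * (G * X) * mat R u⁻¹ = (mat R u * G) * X * mat R u⁻¹ := by
          simp only [Matrix.mul_assoc]
      _ = -(G * (mat R u * X) * mat R u⁻¹) := by
          rw [hUG]; simp only [Matrix.neg_mul, Matrix.mul_assoc]
      _ = -(G * (X * mat R u) * mat R u⁻¹) := by rw [hX]
      _ = -(G * X * (mat R u * mat R u⁻¹)) := by simp only [Matrix.mul_assoc]
      _ = -(G * X) := by rw [mat_mul_inv, Matrix.mul_one]
  rw [h3, Matrix.trace_neg] at h1
  have h4 : (2 : F) * (G * X).trace = 0 := by linear_combination -h1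
  rcases mul_eq_zero.1 h4 with h | h
  · exact absurd h h2
  · exact h

variable [Fintype R]

/-- a subgroup of `R` acting by signs on `R` with scalar centralizer has scalar commutant -/
theorem commutant_of_sub (hc : Sc R) (hn : (Fintype.card ι : F) ≠ 0)
    (hR : (Fintype.card R : F) ≠ 0) (h2 : (2 : F) ≠ 0) (S : Subgroup R)
    (hsign : ∀ u ∈ S, ∀ g : R, mat R u * mat R g = mat R g * mat R u ∨
      mat R u * mat R g = -(mat R g * mat R u))
    (hcen : ∀ g : R, (∀ u ∈ S, mat R u * mat R g = mat R g * mat R u) →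
      ∃ c : F, mat R g = c • (1 : Matrix ι ι F))
    (X : Matrix ι ι F) (hX : ∀ u ∈ S, X * mat R u = mat R u * X) :
    ∃ c : F, X = c • (1 : Matrix ι ι F) := by
  classical
  have h1 := fourier R hc hn X
  have hterm : ∀ g : R, ∃ c : F, (mat R g * X).trace • mat R g⁻¹ = c • (1 : Matrix ι ι F) := by
    intro g
    by_cases hg : ∀ u ∈ S, mat R u * mat R g = mat R g * mat R u
    · have hg' : ∀ u ∈ S, mat R u * mat R g⁻¹ = mat R g⁻¹ * mat R u :=
        fun u hu => comm_inv_of_comm R u g (hg u hu)
      obtain ⟨c, hc'⟩ := hcen g⁻¹ hg'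
      exact ⟨(mat R g * X).trace * c, by rw [hc', smul_smul]⟩
    · push Not at hg
      obtain ⟨u, hu, hne⟩ := hg
      have h3 : mat R u * mat R g = -(mat R g * mat R u) := by
        rcases hsign u hu g with h | h
        · exact absurd h hne
        · exact h
      have h4 := trace_zero_of_anti R h2 u (mat R g) X h3 (hX u hu)
      exact ⟨0, by rw [h4, zero_smul, zero_smul]⟩
  choose c hcg using hterm
  refine ⟨((Fintype.card ι : F) / (Fintype.card R : F)) * ∑ g : R, c g, ?_⟩
  have h5 : ∑ g : R, (mat R g * X).trace • mat R g⁻¹ = (∑ g : R, c g) • (1 : Matrix ι ι F) := by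
    rw [Finset.sum_smul]
    exact Finset.sum_congr rfl fun g _ => hcg g
  rw [h5] at h1
  have h6 : X = ((Fintype.card ι : F) / (Fintype.card R : F)) •
      (((Fintype.card R : F) / (Fintype.card ι : F)) • X) := by
    rw [smul_smul]
    have : (Fintype.card ι : F) / (Fintype.card R : F) *
        ((Fintype.card R : F) / (Fintype.card ι : F)) = 1 := by
      field_simp
    rw [this, one_smul]
  rw [h6, ← h1, smul_smul]

end A

section B

variable {ι : Type} [Fintype ι] [DecidableEq ι] {F : Type*} [Field F]

/-- Burnside counting: a finite matrix group with scalar commutant has order at least `n²` times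
the order of any of its subgroups of scalar matrices -/
theorem card_ge_of_sc (S : Subgroup (GL ι F)) [Fintype S] (hc : Sc S)
    (hn : (Fintype.card ι : F) ≠ 0) (hS : (Fintype.card S : F) ≠ 0) (Z : Subgroup S)
    (hZ : ∀ z ∈ Z, ∃ c : F, mat S z = c • (1 : Matrix ι ι F)) :
    Fintype.card ι ^ 2 * Nat.card Z ≤ Nat.card S := by
  classical
  have h1 := span_eq_top S hc hn hS
  letI : Fintype (S ⧸ Z) := Fintype.ofFinite _
  set f : S ⧸ Z → Matrix ι ι F := fun q => mat S q.out with hf
  have h2 : Submodule.span F (Set.range f) = ⊤ := by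
    rw [eq_top_iff, ← h1]
    apply Submodule.span_le.2
    rintro _ ⟨u, rfl⟩
    obtain ⟨h, hh⟩ := QuotientGroup.mk_out_eq_mul Z u
    have h3 : u = (QuotientGroup.mk u : S ⧸ Z).out * (h : S)⁻¹ := by
      rw [hh]; group
    obtain ⟨c, hc'⟩ := hZ (h : S)⁻¹ (Z.inv_mem h.2)
    have h4 : mat S u = c • f (QuotientGroup.mk u) := by
      conv_lhs => rw [h3]
      rw [mat_mul, hc', hf]
      simp
    rw [h4]
    exact Submodule.smul_mem _ _ (Submodule.subset_span ⟨_, rfl⟩)
  have h5 : finrank F (Submodule.span F (Set.range f)) ≤ Fintype.card (S ⧸ Z) :=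
    finrank_range_le_card f
  rw [h2, finrank_top, Module.finrank_matrix] at h5
  have h6 := Subgroup.card_eq_card_quotient_mul_card_subgroup Z
  rw [Nat.card_eq_fintype_card (α := S ⧸ Z)] at h6
  rw [h6, pow_two]
  have h7 : Fintype.card ι * Fintype.card ι ≤ Fintype.card (S ⧸ Z) := by
    simpa using h5
  exact Nat.mul_le_mul_right _ h7

end B

end Cfsg.Agent.Lib.Helper12.ST64
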