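import Mathlib
import Cfsg.Prelude.Def_GeometricClasses
import Cfsg.Agent.Lib.Helper12.ST64A

/-! Helper12 library (ST64, part B): an absolutely irreducible subgroup `R ≤ GL₄(F)` of order `64`
with centre of order `4` whose second centre acts by signs and has central centralizer: the second
centre is everything (Burnside counting), hence any two elements of `R` commute up to sign, every
square is `±1`, and the centre is generated by a scalar `i` with `i² = -1`. -/

set_option autoImplicit false
set_option linter.unusedSectionVars false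
set_option linter.unusedVariables false
set_option linter.style.haveILetI false

namespace Cfsg.Agent.Lib.Helper12.ST64

open Matrix Module Cfsg.Agent.Lib.Helper12.Ex32
open scoped MatrixGroups commutatorElement

section B

variable {ι : Type} [Fintype ι] [DecidableEq ι] {F : Type*} [Field F]

/-- variant of `card_ge_of_sc` for a scalar subgroup given inside `GL` -/
theorem card_ge_of_sc' (S : Subgroup (GL ι F)) [Fintype S] (hc : Sc S)
    (hn : (Fintype.card ι : F) ≠ 0) (hS : (Fintype.card S : F) ≠ 0) (Z : Subgroup (GL ι F))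
    (hZS : Z ≤ S)
    (hZ : ∀ z ∈ Z, ∃ c : F, ((z : GL ι F) : Matrix ι ι F) = c • (1 : Matrix ι ι F)) :
    Fintype.card ι ^ 2 * Nat.card Z ≤ Nat.card S := by
  have h1 := card_ge_of_sc S hc hn hS (Z.subgroupOf S) (by
    intro z hz
    exact hZ _ (Subgroup.mem_subgroupOf.1 hz))
  rwa [Nat.card_congr (Subgroup.subgroupOfEquivOfLe hZS).toEquiv] at h1

variable (R : Subgroup (GL ι F)) [Fintype R]

theorem sq_eq_one_field (c : F) (h : c * c = 1) : c = 1 ∨ c = -1 := by
  have h1 : (c - 1) * (c + 1) = 0 := by linear_combination h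
  rcases mul_eq_zero.1 h1 with h2 | h2
  · left; linear_combination h2
  · right; linear_combination h2

/-- a central element of order at most two is `±1` -/
theorem sign_of_central_sq (hc : Sc R) [Nonempty ι] (c : R) (hcen : c ∈ Subgroup.center R)
    (hsq : c ^ 2 = 1) : mat R c = 1 ∨ mat R c = -1 := by
  obtain ⟨γ, hγ⟩ := scalar_of_central R hc c (fun g => (Subgroup.mem_center_iff.1 hcen g))
  have h1 : mat R c * mat R c = 1 := by
    rw [← mat_mul, ← pow_two, hsq, mat_one]
  rw [hγ] at h1
  have h2 : γ * γ = 1 := by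
    obtain ⟨i⟩ := ‹Nonempty ι›
    have := congrFun (congrFun h1 i) i
    simpa using this
  rcases sq_eq_one_field γ h2 with h | h
  · left; rw [hγ, h, one_smul]
  · right; rw [hγ, h]; simp

/-- the second centre is everything -/
theorem z2_eq_top (hc : Sc R) (hn : (Fintype.card ι : F) ≠ 0)
    (hR : (Fintype.card R : F) ≠ 0) (h2 : (2 : F) ≠ 0)
    (hι : Fintype.card ι = 4) (hcard : Fintype.card R = 64)
    (hZ : Nat.card (Subgroup.center R) = 4)
    (h1 : ∀ u ∈ Subgroup.upperCentralSeries R 2, ∀ g : R, ⁅u, g⁆ ^ 2 = 1)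
    (hcz : Subgroup.centralizer (Subgroup.upperCentralSeries R 2 : Set R) = Subgroup.center R) :
    Subgroup.upperCentralSeries R 2 = ⊤ := by
  classical
  haveI : Nonempty ι := by
    rw [← Fintype.card_pos_iff, hι]; norm_num
  set Z2 := Subgroup.upperCentralSeries R 2 with hZ2
  have hcomm : ∀ u ∈ Z2, ∀ g : R, ⁅u, g⁆ ∈ Subgroup.center R := by
    intro u hu g
    have := (Subgroup.mem_upperCentralSeries_succ_iff (n := 1)).1 hu g
    rwa [Subgroup.upperCentralSeries_one] at this
  have hsign : ∀ u ∈ Z2, ∀ g : R, mat R u * mat R g = mat R g * mat R u ∨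
      mat R u * mat R g = -(mat R g * mat R u) := by
    intro u hu g
    have h3 : u * g = ⁅u, g⁆ * (g * u) := by
      rw [commutatorElement_def]; group
    have h4 : mat R u * mat R g = mat R ⁅u, g⁆ * (mat R g * mat R u) := by
      rw [← mat_mul, ← mat_mul, ← mat_mul, ← h3]
    rcases sign_of_central_sq R hc ⁅u, g⁆ (hcomm u hu g) (h1 u hu g) with h5 | h5
    · left; rw [h4, h5, Matrix.one_mul]
    · right; rw [h4, h5]; simp
  have hcen : ∀ g : R, (∀ u ∈ Z2, mat R u * mat R g = mat R g * mat R u) →
      ∃ c : F, mat R g = c • (1 : Matrix ι ι F) := by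
    intro g hg
    have h3 : g ∈ Subgroup.centralizer (Z2 : Set R) := by
      rw [Subgroup.mem_centralizer_iff]
      intro u hu
      apply mat_injective R
      rw [mat_mul, mat_mul]
      exact hg u hu
    rw [hcz] at h3
    exact scalar_of_central R hc g (fun x => (Subgroup.mem_center_iff.1 h3 x))
  -- the image of `Z2` in `GL`
  set S : Subgroup (GL ι F) := Z2.map R.subtype with hS
  haveI : Finite S :=
    Finite.of_equiv Z2 (Z2.equivMapOfInjective R.subtype R.subtype_injective).toEquiv
  letI : Fintype S := Fintype.ofFinite _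
  have hScard : Nat.card S = Nat.card Z2 := Subgroup.card_subtype R Z2
  have hSc : Sc S := by
    intro X hX
    apply commutant_of_sub R hc hn hR h2 Z2 hsign hcen X
    intro u hu
    exact hX _ ⟨(u : GL ι F), ⟨u, hu, rfl⟩, rfl⟩
  have hdvd : Nat.card S ∣ Fintype.card R := by
    rw [hScard, ← Nat.card_eq_fintype_card]
    exact Subgroup.card_subgroup_dvd_card Z2
  have hS0 : (Fintype.card S : F) ≠ 0 := by
    intro h0
    apply hR
    obtain ⟨k, hk⟩ := hdvd
    rw [hk, Nat.cast_mul, Nat.card_eq_fintype_card (α := S), h0, zero_mul]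
  set Z : Subgroup (GL ι F) := (Subgroup.center R).map R.subtype with hZdef
  have hZS : Z ≤ S := by
    apply Subgroup.map_mono
    rw [← Subgroup.upperCentralSeries_one]
    exact Subgroup.upperCentralSeries_mono R (by norm_num)
  have hZsc : ∀ z ∈ Z, ∃ c : F, ((z : GL ι F) : Matrix ι ι F) = c • (1 : Matrix ι ι F) := by
    rintro _ ⟨z, hz, rfl⟩
    exact scalar_of_central R hc z (fun x => (Subgroup.mem_center_iff.1 hz x))
  have h5 := card_ge_of_sc' S hSc hn hS0 Z hZS hZsc
  have hZcard : Nat.card Z = 4 := by
    rw [hZdef, Subgroup.card_subtype, hZ]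
  rw [hι, hZcard, hScard] at h5
  apply Subgroup.eq_top_of_card_eq
  have h6 : Nat.card Z2 ≤ Nat.card R := Subgroup.card_le_card_group Z2
  rw [Nat.card_eq_fintype_card (α := R), hcard] at h6 ⊢
  omega

end B

end Cfsg.Agent.Lib.Helper12.ST64
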