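import Mathlib
import Cfsg.Prelude.Def_GeometricClasses
import Cfsg.Agent.Lib.Helper12.ST64B

/-! Helper12 library (ST64, part C): the structure `H64` recording the basic facts about an
absolutely irreducible `R = 4 ∘ 2^{1+4} ≤ GL₄(F)`: elements commute up to sign, squares are `±1`,
central elements are the scalars `i^k`; nonscalar elements have an anticommuting partner and
trace zero. -/

set_option autoImplicit false
set_option linter.unusedSectionVars false
set_option linter.unusedVariables false
set_option linter.style.haveILetI false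

namespace Cfsg.Agent.Lib.Helper12.ST64

open Matrix Module Cfsg.Agent.Lib.Helper12.Ex32
open scoped MatrixGroups commutatorElement

section C

variable {ι : Type} [Fintype ι] [DecidableEq ι] {F : Type*} [Field F]

variable (R : Subgroup (GL ι F))

/-- the basic facts about `R = 4 ∘ 2^{1+4}` -/
structure H64 (i : F) (ζ : R) : Prop where
  sc : Sc R
  two : (2 : F) ≠ 0
  dim : Fintype.card ι = 4
  card : Nat.card R = 64
  i2 : i * i = -1
  zeta : mat R ζ = i • (1 : Matrix ι ι F)
  comm : ∀ x y : R, mat R y * mat R x = mat R x * mat R y ∨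
    mat R y * mat R x = -(mat R x * mat R y)
  sq : ∀ x : R, mat R x * mat R x = 1 ∨ mat R x * mat R x = -1
  cen : ∀ x : R, (∀ g : R, mat R g * mat R x = mat R x * mat R g) →
    ∃ c : F, c ^ 4 = 1 ∧ mat R x = c • (1 : Matrix ι ι F)

variable {R}

theorem smul_one_injective [Nonempty ι] (c d : F)
    (h : c • (1 : Matrix ι ι F) = d • (1 : Matrix ι ι F)) : c = d := by
  obtain ⟨j⟩ := ‹Nonempty ι›
  have := congrFun (congrFun h j) j
  simpa using this

theorem sq_comm_of_sign {A : Type*} [Ring A] (g x : A)
    (h : g * x = x * g ∨ g * x = -(x * g)) : g * (x * x) = x * x * g := by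
  rcases h with h | h
  · rw [← mul_assoc, h, mul_assoc, h, ← mul_assoc]
  · rw [← mul_assoc, h, neg_mul, mul_assoc, h, mul_neg, neg_neg, ← mul_assoc]

variable [Fintype R]

/-- existence of the structure -/
theorem exists_H64 (hc : Sc R) (h2 : (2 : F) ≠ 0) (hι : Fintype.card ι = 4)
    (hcard : Fintype.card R = 64) (hZ : Nat.card (Subgroup.center R) = 4)
    (hexp : ∀ x : R, x ^ 4 = 1)
    (hz2 : Subgroup.upperCentralSeries R 2 = ⊤)
    (h1 : ∀ u g : R, ⁅u, g⁆ ^ 2 = 1) : ∃ (i : F) (ζ : R), H64 R i ζ := by
  classical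
  haveI : Nonempty ι := by
    rw [← Fintype.card_pos_iff, hι]; norm_num
  have hcomm : ∀ u g : R, ⁅u, g⁆ ∈ Subgroup.center R := by
    intro u g
    have hu : u ∈ Subgroup.upperCentralSeries R (1 + 1) := by
      rw [show (1 + 1 : ℕ) = 2 from rfl, hz2]; exact Subgroup.mem_top _
    have := (Subgroup.mem_upperCentralSeries_succ_iff (n := 1)).1 hu g
    rwa [Subgroup.upperCentralSeries_one] at this
  have hsign : ∀ x y : R, mat R y * mat R x = mat R x * mat R y ∨
      mat R y * mat R x = -(mat R x * mat R y) := by
    intro x y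
    have h3 : y * x = ⁅y, x⁆ * (x * y) := by
      rw [commutatorElement_def]; group
    have h4 : mat R y * mat R x = mat R ⁅y, x⁆ * (mat R x * mat R y) := by
      rw [← mat_mul, ← mat_mul, ← mat_mul, ← h3]
    rcases sign_of_central_sq R hc ⁅y, x⁆ (hcomm y x) (h1 y x) with h5 | h5
    · left; rw [h4, h5, Matrix.one_mul]
    · right; rw [h4, h5]; simp
  have hsq : ∀ x : R, mat R x * mat R x = 1 ∨ mat R x * mat R x = -1 := by
    intro x
    have hcen : x * x ∈ Subgroup.center R := by
      rw [Subgroup.mem_center_iff]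
      intro g
      apply mat_injective R
      simp only [mat_mul]
      exact sq_comm_of_sign _ _ (hsign x g)
    have hsq2 : (x * x) ^ 2 = 1 := by
      rw [← pow_two, ← pow_mul]; exact hexp x
    have := sign_of_central_sq R hc (x * x) hcen hsq2
    rwa [mat_mul] at this
  have hcen : ∀ x : R, (∀ g : R, mat R g * mat R x = mat R x * mat R g) →
      ∃ c : F, c ^ 4 = 1 ∧ mat R x = c • (1 : Matrix ι ι F) := by
    intro x hx
    obtain ⟨c, hc'⟩ := scalar_of_central R hc x (fun g => by
      apply mat_injective R
      rw [mat_mul, mat_mul]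
      exact hx g)
    refine ⟨c, ?_, hc'⟩
    have h3 : mat R (x ^ 4) = (c ^ 4) • (1 : Matrix ι ι F) := by
      have : x ^ 4 = x * x * x * x := by
        rw [pow_succ, pow_succ, pow_two]
      rw [this, mat_mul, mat_mul, mat_mul, hc']
      simp only [Matrix.smul_mul, Matrix.mul_smul, Matrix.one_mul, smul_smul]
      congr 1
      ring
    rw [hexp x, mat_one] at h3
    have h4 : (1 : F) • (1 : Matrix ι ι F) = (c ^ 4) • (1 : Matrix ι ι F) := by
      rw [one_smul]; exact h3
    exact (smul_one_injective _ _ h4).symm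
  -- a central element whose scalar is not `±1`
  have hex : ∃ z ∈ Subgroup.center R, mat R z ≠ 1 ∧ mat R z ≠ -1 := by
    by_contra hcon
    push Not at hcon
    have hinj : Function.Injective (fun z : Subgroup.center R => decide (mat R (z : R) = 1)) := by
      intro z w hzw
      simp only [decide_eq_decide] at hzw
      apply Subtype.ext
      apply mat_injective R
      by_cases hz1 : mat R (z : R) = 1
      · rw [hz1, hzw.1 hz1]
      · have hw1 : mat R (w : R) ≠ 1 := fun h => hz1 (hzw.2 h)
        have hz' : mat R (z : R) = -1 := by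
          by_contra hne
          exact hne (hcon z z.2 hz1)
        have hw' : mat R (w : R) = -1 := by
          by_contra hne
          exact hne (hcon w w.2 hw1)
        rw [hz', hw']
    have := Nat.card_le_card_of_injective _ hinj
    rw [hZ] at this
    simp at this
  obtain ⟨ζ, hζc, hζ1, hζ2⟩ := hex
  obtain ⟨i, hi4, hi⟩ := hcen ζ (fun g => by
    rw [← mat_mul, ← mat_mul, Subgroup.mem_center_iff.1 hζc g])
  have hi2 : i * i = -1 := by
    have h3 : (i * i - 1) * (i * i + 1) = 0 := by linear_combination hi4
    rcases mul_eq_zero.1 h3 with h | h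
    · exfalso
      have h5 : i * i = 1 := by linear_combination h
      rcases sq_eq_one_field i h5 with h6 | h6
      · apply hζ1; rw [hi, h6, one_smul]
      · apply hζ2; rw [hi, h6]; simp
    · linear_combination h
  exact ⟨i, ζ, hc, h2, hι, by rw [Nat.card_eq_fintype_card]; exact hcard, hi2, hi, hsign, hsq,
    hcen⟩

omit [Fintype R] in
/-- nonscalar elements have an anticommuting partner -/
theorem H64.exists_anti {i : F} {ζ : R} (h : H64 R i ζ) (x : R)
    (hx : ∀ c : F, mat R x ≠ c • (1 : Matrix ι ι F)) :
    ∃ g : R, mat R g * mat R x = -(mat R x * mat R g) := by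
  by_contra hcon
  push Not at hcon
  have h1 : ∀ g : R, mat R g * mat R x = mat R x * mat R g := by
    intro g
    rcases h.comm x g with h2 | h2
    · exact h2
    · exact absurd h2 (hcon g)
  obtain ⟨c, -, hc⟩ := h.cen x h1
  exact hx c hc

omit [Fintype R] in
/-- nonscalar elements have trace zero -/
theorem H64.trace_zero {i : F} {ζ : R} (h : H64 R i ζ) (x : R)
    (hx : ∀ c : F, mat R x ≠ c • (1 : Matrix ι ι F)) : (mat R x).trace = 0 := by
  obtain ⟨g, hg⟩ := h.exists_anti x hx
  have := trace_zero_of_anti R h.two g (mat R x) 1 hg (by rw [Matrix.one_mul, Matrix.mul_one])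
  rwa [Matrix.mul_one] at this

omit [Fintype R] in
/-- an element anticommuting with something is nonscalar -/
theorem H64.ns_of_anti {i : F} {ζ : R} (h : H64 R i ζ) (x g : R)
    (hg : mat R g * mat R x = -(mat R x * mat R g)) (c : F) :
    mat R x ≠ c • (1 : Matrix ι ι F) := by
  intro hc
  rw [hc] at hg
  simp only [Matrix.mul_smul, Matrix.smul_mul, Matrix.mul_one, Matrix.one_mul] at hg
  -- `c • g = -(c • g)`
  have h1 : (2 * c) • mat R g = 0 := by
    rw [mul_smul, two_smul]
    nth_rewrite 1 [hg]
    rw [neg_add_cancel]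
  have h2 : (2 * c) • (mat R g * mat R g⁻¹) = 0 := by
    rw [← Matrix.smul_mul, h1, Matrix.zero_mul]
  rw [mat_mul_inv] at h2
  haveI : Nonempty ι := by
    rw [← Fintype.card_pos_iff, h.dim]; norm_num
  have h3 : (2 * c) • (1 : Matrix ι ι F) = (0 : F) • (1 : Matrix ι ι F) := by
    rw [h2, zero_smul]
  have h4 := smul_one_injective _ _ h3
  have hc0 : c = 0 := by
    rcases mul_eq_zero.1 h4 with h5 | h5
    · exact absurd h5 h.two
    · exact h5
  rw [hc0, zero_smul] at hc
  have h5 : mat R x * mat R x⁻¹ = 0 := by rw [hc, Matrix.zero_mul]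
  rw [mat_mul_inv] at h5
  have h6 : (1 : F) • (1 : Matrix ι ι F) = (0 : F) • (1 : Matrix ι ι F) := by
    rw [one_smul, zero_smul]; exact h5
  exact one_ne_zero (smul_one_injective _ _ h6)

end C

end Cfsg.Agent.Lib.Helper12.ST64
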