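import Mathlib
import Cfsg.Prelude.Def_GeometricClasses
import Cfsg.Agent.Lib.Helper12.ST64C

/-! Helper12 library (ST64, part D): a symplectic basis `a1, b1, a2, b2` of `R = 4 ∘ 2^{1+4}`:
four involutions with `b_k a_k = - a_k b_k` and all other pairs commuting.  The existence proof
uses Burnside's spanning theorem as a pigeonhole principle. -/

set_option autoImplicit false
set_option linter.unusedSectionVars false
set_option linter.unusedVariables false
set_option linter.style.haveILetI false
set_option linter.unusedSimpArgs false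

namespace Cfsg.Agent.Lib.Helper12.ST64

open Matrix Module Cfsg.Agent.Lib.Helper12.Ex32
open scoped MatrixGroups

section rules

variable {A : Type*} [Ring A]

theorem anti_rules {x y : A} (h : y * x = -(x * y)) :
    y * x = -(x * y) ∧ ∀ w, y * (x * w) = -(x * (y * w)) :=
  ⟨h, fun w => by rw [← mul_assoc, h, neg_mul, mul_assoc]⟩

theorem comm_rules {x y : A} (h : y * x = x * y) :
    y * x = x * y ∧ ∀ w, y * (x * w) = x * (y * w) :=
  ⟨h, fun w => by rw [← mul_assoc, h, mul_assoc]⟩

theorem one_rules {x : A} (h : x * x = 1) : x * x = 1 ∧ ∀ w, x * (x * w) = w :=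
  ⟨h, fun w => by rw [← mul_assoc, h, one_mul]⟩

theorem negone_rules {x : A} (h : x * x = -1) : x * x = -1 ∧ ∀ w, x * (x * w) = -w :=
  ⟨h, fun w => by rw [← mul_assoc, h, neg_mul, one_mul]⟩

end rules

section D

variable {ι : Type} [Fintype ι] [DecidableEq ι] {F : Type*} [Field F]

variable {R : Subgroup (GL ι F)} {i : F} {ζ : R}

theorem H64.hn (h : H64 R i ζ) : (Fintype.card ι : F) ≠ 0 := by
  rw [h.dim]
  have : ((4 : ℕ) : F) = 2 * 2 := by norm_num
  rw [this]
  exact mul_ne_zero h.two h.two

theorem H64.nonempty (h : H64 R i ζ) : Nonempty ι := by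
  rw [← Fintype.card_pos_iff, h.dim]; norm_num

theorem H64.hR [Fintype R] (h : H64 R i ζ) : (Fintype.card R : F) ≠ 0 := by
  rw [← Nat.card_eq_fintype_card, h.card]
  have : ((64 : ℕ) : F) = 2 ^ 6 := by norm_num
  rw [this]
  exact pow_ne_zero _ h.two

theorem H64.span_top [Fintype R] (h : H64 R i ζ) :
    Submodule.span F (Set.range (mat R)) = ⊤ :=
  span_eq_top R h.sc h.hn h.hR

/-- Burnside as a pigeonhole principle: the matrices of `R` do not lie in a subspace spanned by
fewer than 16 matrices -/
theorem H64.not_small [Fintype R] (h : H64 R i ζ) (k : ℕ) (v : Fin k → Matrix ι ι F)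
    (hv : ∀ g : R, mat R g ∈ Submodule.span F (Set.range v)) : 16 ≤ k := by
  have h1 : Submodule.span F (Set.range v) = ⊤ := by
    rw [eq_top_iff, ← h.span_top]
    apply Submodule.span_le.2
    rintro _ ⟨g, rfl⟩
    exact hv g
  have h2 := finrank_range_le_card (R := F) v
  rw [Set.finrank, h1, finrank_top, Module.finrank_matrix, h.dim] at h2
  simpa using h2

/-- there is a nonscalar element -/
theorem H64.exists_ns [Fintype R] (h : H64 R i ζ) :
    ∃ x : R, ∀ c : F, mat R x ≠ c • (1 : Matrix ι ι F) := by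
  by_contra hcon
  push Not at hcon
  have := h.not_small 1 ![1] (by
    intro g
    obtain ⟨c, hc⟩ := hcon g
    rw [hc]
    exact Submodule.smul_mem _ _ (Submodule.subset_span ⟨0, rfl⟩))
  omega

/-- every element can be normalised to an involution by a scalar of `R` -/
theorem H64.exists_invol (h : H64 R i ζ) (x : R) :
    ∃ y : R, mat R y * mat R y = 1 ∧ (mat R y = mat R x ∨ mat R y = i • mat R x) := by
  rcases h.sq x with h1 | h1
  · exact ⟨x, h1, Or.inl rfl⟩
  · have h2 : mat R (ζ * x) = i • mat R x := by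
      rw [mat_mul, h.zeta, Matrix.smul_mul, Matrix.one_mul]
    refine ⟨ζ * x, ?_, Or.inr h2⟩
    rw [h2, Matrix.smul_mul, Matrix.mul_smul, smul_smul, h1, h.i2]
    simp

theorem H64.i_ne_zero (h : H64 R i ζ) : i ≠ 0 := by
  intro h0
  have := h.i2
  rw [h0, mul_zero] at this
  have h1 : (1 : F) = 0 := by linear_combination this
  exact one_ne_zero h1

/-- adjusting an element so that it commutes with an anticommuting pair of involutions -/
theorem H64.adjust (h : H64 R i ζ) (a b g : R)
    (hba : mat R b * mat R a = -(mat R a * mat R b)) :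
    ∃ e : R, (e = 1 ∨ e = a ∨ e = b ∨ e = b * a) ∧
      mat R (g * e) * mat R a = mat R a * mat R (g * e) ∧
      mat R (g * e) * mat R b = mat R b * mat R (g * e) := by
  have hab : mat R a * mat R b = -(mat R b * mat R a) := by rw [hba, neg_neg]
  rcases h.comm a g with h1 | h1 <;> rcases h.comm b g with h2 | h2
  · refine ⟨1, Or.inl rfl, ?_, ?_⟩
    · rw [mul_one]; exact h1
    · rw [mul_one]; exact h2
  · refine ⟨a, Or.inr (Or.inl rfl), ?_, ?_⟩
    · rw [mat_mul, Matrix.mul_assoc, ← Matrix.mul_assoc (mat R a), ← h1, Matrix.mul_assoc]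
    · rw [mat_mul, Matrix.mul_assoc, hab, Matrix.mul_neg, ← Matrix.mul_assoc, h2,
        Matrix.neg_mul, neg_neg, Matrix.mul_assoc]
  · refine ⟨b, Or.inr (Or.inr (Or.inl rfl)), ?_, ?_⟩
    · rw [mat_mul, Matrix.mul_assoc, hba, Matrix.mul_neg, ← Matrix.mul_assoc, h1,
        Matrix.neg_mul, neg_neg, Matrix.mul_assoc]
    · rw [mat_mul, Matrix.mul_assoc, ← Matrix.mul_assoc (mat R b), ← h2, Matrix.mul_assoc]
  · refine ⟨b * a, Or.inr (Or.inr (Or.inr rfl)), ?_, ?_⟩
    · have r1 := anti_rules h1
      have r2 := anti_rules h2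
      have r3 := anti_rules hba
      simp only [mat_mul, Matrix.mul_assoc, r1.1, r1.2, r2.1, r2.2, r3.1, r3.2, Matrix.neg_mul,
        Matrix.mul_neg, neg_neg]
    · have r1 := anti_rules h1
      have r2 := anti_rules h2
      have r3 := anti_rules hba
      simp only [mat_mul, Matrix.mul_assoc, r1.1, r1.2, r2.1, r2.2, r3.1, r3.2, Matrix.neg_mul,
        Matrix.mul_neg, neg_neg]

end D

end Cfsg.Agent.Lib.Helper12.ST64
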