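import Mathlib
import Cfsg.Prelude.Def_GeometricClasses
import Cfsg.Agent.Lib.Helper12.ST64D

/-! Helper12 library (ST64, part E): existence of a symplectic basis `a1, b1, a2, b2` of
`R = 4 ∘ 2^{1+4}`. -/

set_option autoImplicit false
set_option linter.unusedSectionVars false
set_option linter.unusedVariables false
set_option linter.style.haveILetI false
set_option linter.unusedSimpArgs false

namespace Cfsg.Agent.Lib.Helper12.ST64

open Matrix Module Cfsg.Agent.Lib.Helper12.Ex32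
open scoped MatrixGroups

section E

variable {ι : Type} [Fintype ι] [DecidableEq ι] {F : Type*} [Field F]

/-- a symplectic basis of `R` -/
structure Sym4 (R : Subgroup (GL ι F)) (a1 b1 a2 b2 : R) : Prop where
  a1a1 : mat R a1 * mat R a1 = 1
  b1b1 : mat R b1 * mat R b1 = 1
  a2a2 : mat R a2 * mat R a2 = 1
  b2b2 : mat R b2 * mat R b2 = 1
  b1a1 : mat R b1 * mat R a1 = -(mat R a1 * mat R b1)
  b2a2 : mat R b2 * mat R a2 = -(mat R a2 * mat R b2)
  a2a1 : mat R a2 * mat R a1 = mat R a1 * mat R a2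
  b2a1 : mat R b2 * mat R a1 = mat R a1 * mat R b2
  a2b1 : mat R a2 * mat R b1 = mat R b1 * mat R a2
  b2b1 : mat R b2 * mat R b1 = mat R b1 * mat R b2

variable {R : Subgroup (GL ι F)} {i : F} {ζ : R}

theorem mat_inv_of_sq (x : R) (hx : mat R x * mat R x = 1) : mat R x⁻¹ = mat R x := by
  calc mat R x⁻¹ = mat R x⁻¹ * (mat R x * mat R x) := by rw [hx, Matrix.mul_one]
    _ = (mat R x⁻¹ * mat R x) * mat R x := by rw [Matrix.mul_assoc]
    _ = mat R x := by rw [mat_inv_mul, Matrix.one_mul]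

theorem comm_of_or {X Y G : Matrix ι ι F} (hY : Y = X ∨ Y = i • X) (hG : G * X = X * G) :
    G * Y = Y * G := by
  rcases hY with e | e
  · rw [e, hG]
  · rw [e, Matrix.mul_smul, Matrix.smul_mul, hG]

theorem comm_of_or' {X Y G : Matrix ι ι F} (hY : Y = X ∨ Y = i • X) (hG : X * G = G * X) :
    Y * G = G * Y := (comm_of_or hY hG.symm).symm

theorem anti_of_or {X Y G : Matrix ι ι F} (hY : Y = X ∨ Y = i • X) (hG : G * X = -(X * G)) :
    G * Y = -(Y * G) := by
  rcases hY with e | e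
  · rw [e, hG]
  · rw [e, Matrix.mul_smul, Matrix.smul_mul, hG, smul_neg]

theorem anti_of_or' {X Y G : Matrix ι ι F} (hY : Y = X ∨ Y = i • X) (hG : X * G = -(G * X)) :
    Y * G = -(G * Y) := by
  rcases hY with e | e
  · rw [e, hG]
  · rw [e, Matrix.mul_smul, Matrix.smul_mul, hG, smul_neg]

theorem H64.ns_of_or (h : H64 R i ζ) {X Y : Matrix ι ι F} (hY : Y = X ∨ Y = i • X)
    (hX : ∀ c : F, X ≠ c • (1 : Matrix ι ι F)) (c : F) : Y ≠ c • (1 : Matrix ι ι F) := by
  intro hc
  rcases hY with e | e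
  · exact hX c (e ▸ hc)
  · apply hX (i⁻¹ * c)
    rw [mul_smul, ← hc, e, smul_smul, inv_mul_cancel₀ h.i_ne_zero, one_smul]

variable [Fintype R]

/-- existence of a symplectic basis -/
theorem H64.exists_sym4 (h : H64 R i ζ) : ∃ a1 b1 a2 b2 : R, Sym4 R a1 b1 a2 b2 := by
  obtain ⟨x0, hx0⟩ := h.exists_ns
  obtain ⟨a1, ha1, ha1x⟩ := h.exists_invol x0
  have ha1ns := h.ns_of_or ha1x hx0
  obtain ⟨g1, hg1⟩ := h.exists_anti a1 ha1ns
  obtain ⟨b1, hb1, hb1g⟩ := h.exists_invol g1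
  have hb1a1 : mat R b1 * mat R a1 = -(mat R a1 * mat R b1) := anti_of_or' hb1g hg1
  -- a nonscalar element commuting with `a1` and `b1`
  have hC : ∃ y : R, (∀ c : F, mat R y ≠ c • (1 : Matrix ι ι F)) ∧
      mat R y * mat R a1 = mat R a1 * mat R y ∧ mat R y * mat R b1 = mat R b1 * mat R y := by
    by_contra hcon
    have hcon' : ∀ y : R, mat R y * mat R a1 = mat R a1 * mat R y →
        mat R y * mat R b1 = mat R b1 * mat R y → ∃ c : F, mat R y = c • (1 : Matrix ι ι F) := by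
      intro y h1 h2
      by_contra h3
      push Not at h3
      exact hcon ⟨y, h3, h1, h2⟩
    have := h.not_small 4 ![1, mat R a1, mat R b1, mat R a1 * mat R b1] (by
      intro g
      obtain ⟨e, he, hc1, hc2⟩ := h.adjust a1 b1 g hb1a1
      obtain ⟨c, hc⟩ := hcon' (g * e) hc1 hc2
      have hg : mat R g = c • mat R e⁻¹ := by
        have : g = (g * e) * e⁻¹ := by group
        conv_lhs => rw [this]
        rw [mat_mul, hc, Matrix.smul_mul, Matrix.one_mul]
      rw [hg]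
      apply Submodule.smul_mem
      rcases he with rfl | rfl | rfl | rfl
      · rw [inv_one, mat_one]
        exact Submodule.subset_span ⟨0, rfl⟩
      · rw [mat_inv_of_sq _ ha1]
        exact Submodule.subset_span ⟨1, rfl⟩
      · rw [mat_inv_of_sq _ hb1]
        exact Submodule.subset_span ⟨2, rfl⟩
      · rw [_root_.mul_inv_rev, mat_mul, mat_inv_of_sq _ ha1, mat_inv_of_sq _ hb1]
        exact Submodule.subset_span ⟨3, rfl⟩)
    omega
  obtain ⟨y, hyns, hya1, hyb1⟩ := hC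
  obtain ⟨a2, ha2, ha2y⟩ := h.exists_invol y
  have ha2ns := h.ns_of_or ha2y hyns
  have ha2a1 : mat R a2 * mat R a1 = mat R a1 * mat R a2 := comm_of_or' ha2y hya1
  have ha2b1 : mat R a2 * mat R b1 = mat R b1 * mat R a2 := comm_of_or' ha2y hyb1
  obtain ⟨g2, hg2⟩ := h.exists_anti a2 ha2ns
  obtain ⟨e, he, hc1, hc2⟩ := h.adjust a1 b1 g2 hb1a1
  have hea2 : mat R e * mat R a2 = mat R a2 * mat R e := by
    rcases he with rfl | rfl | rfl | rfl
    · rw [mat_one, Matrix.one_mul, Matrix.mul_one]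
    · exact ha2a1.symm
    · exact ha2b1.symm
    · rw [mat_mul, Matrix.mul_assoc, ← ha2a1, ← Matrix.mul_assoc, ← ha2b1, Matrix.mul_assoc]
  have hg2' : mat R (g2 * e) * mat R a2 = -(mat R a2 * mat R (g2 * e)) := by
    rw [mat_mul, Matrix.mul_assoc, hea2, ← Matrix.mul_assoc, hg2, Matrix.neg_mul, Matrix.mul_assoc]
  obtain ⟨b2, hb2, hb2g⟩ := h.exists_invol (g2 * e)
  refine ⟨a1, b1, a2, b2, ha1, hb1, ha2, hb2, hb1a1, anti_of_or' hb2g hg2', ha2a1,
    comm_of_or' hb2g hc1, ha2b1, comm_of_or' hb2g hc2⟩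

end E

end Cfsg.Agent.Lib.Helper12.ST64
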