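import Mathlib

/-! Helper12 library (ST64, part F): abstract group lemmas.  Conjugation by an element `m`
normalizing a finite subgroup `K` is a permutation of `K`; if conjugation by `m ^ r` is trivial
on `K` (`r` prime) then `|C_K(m)| ≡ |K|` modulo `r`.  A proper subgroup has at most half the
order. -/

set_option autoImplicit false
set_option linter.unusedSectionVars false
set_option linter.unusedVariables false
set_option linter.style.haveILetI false

namespace Cfsg.Agent.Lib.Helper12.ST64

section F

variable {G : Type*} [Group G]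

/-- conjugation by a normalizing element, as a permutation of the subgroup -/
def conjPerm (K : Subgroup G) (m : G) (hm : m ∈ Subgroup.normalizer (K : Set G)) :
    Equiv.Perm K where
  toFun x := ⟨m * x * m⁻¹, (Subgroup.mem_normalizer_iff.1 hm x).1 x.2⟩
  invFun x := ⟨m⁻¹ * x * m, by
    apply (Subgroup.mem_normalizer_iff.1 hm (m⁻¹ * x * m)).2
    have : m * (m⁻¹ * x * m) * m⁻¹ = x := by group
    rw [this]
    exact x.2⟩
  left_inv x := by
    apply Subtype.ext
    show m⁻¹ * (m * x * m⁻¹) * m = x
    group
  right_inv x := by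
    apply Subtype.ext
    show m * (m⁻¹ * x * m) * m⁻¹ = x
    group

theorem conjPerm_apply (K : Subgroup G) (m : G) (hm : m ∈ Subgroup.normalizer (K : Set G))
    (x : K) : ((conjPerm K m hm x : K) : G) = m * x * m⁻¹ := rfl

theorem conjPerm_pow (K : Subgroup G) (m : G) (hm : m ∈ Subgroup.normalizer (K : Set G))
    (n : ℕ) (x : K) : (((conjPerm K m hm) ^ n) x : G) = m ^ n * x * (m ^ n)⁻¹ := by
  induction n generalizing x with
  | zero => simp
  | succ n ih =>
    rw [pow_succ', Equiv.Perm.mul_apply, conjPerm_apply, ih, pow_succ']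
    group

/-- counting fixed points of a conjugation of prime order -/
theorem card_centralizer_modEq (K : Subgroup G) [Finite K] (m : G)
    (hm : m ∈ Subgroup.normalizer (K : Set G)) (r : ℕ) [Fact r.Prime]
    (hr : ∀ x ∈ K, m ^ r * x = x * m ^ r) :
    Nat.card ↥(K ⊓ Subgroup.centralizer ({m} : Set G)) ≡ Nat.card K [MOD r] := by
  classical
  letI : Fintype K := Fintype.ofFinite _
  set σ := conjPerm K m hm with hσdef
  have hσ : σ ^ r ^ 1 = 1 := by
    rw [pow_one]
    apply Equiv.ext
    intro x
    apply Subtype.ext
    rw [conjPerm_pow, hr x x.2, Equiv.Perm.one_apply]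
    group
  have h1 := Equiv.Perm.card_compl_support_modEq hσ
  rw [← Nat.card_eq_fintype_card] at h1
  have h2 : Nat.card ↥(K ⊓ Subgroup.centralizer ({m} : Set G)) = σ.supportᶜ.card := by
    rw [Nat.card_congr (Subgroup.subgroupOfEquivOfLe (inf_le_left :
      K ⊓ Subgroup.centralizer ({m} : Set G) ≤ K)).symm.toEquiv]
    rw [Nat.card_eq_fintype_card, Fintype.card_subtype]
    congr 1
    ext x
    simp only [Finset.mem_filter, Finset.mem_univ, true_and, Finset.mem_compl,
      Equiv.Perm.mem_support, not_not, Subgroup.mem_subgroupOf, Subgroup.mem_inf,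
      Subgroup.mem_centralizer_iff, Set.mem_singleton_iff, forall_eq]
    constructor
    · rintro ⟨-, h3⟩
      apply Subtype.ext
      rw [hσdef, conjPerm_apply, h3]
      group
    · intro h3
      refine ⟨x.2, ?_⟩
      have h4 := congrArg Subtype.val h3
      rw [hσdef, conjPerm_apply] at h4
      calc m * (x : G) = (m * x * m⁻¹) * m := by group
        _ = x * m := by rw [h4]
  rw [h2]
  exact h1

/-- a proper subgroup has at most half the order -/
theorem two_mul_card_le_of_lt (H K : Subgroup G) [Finite K] (h : H < K) :
    2 * Nat.card H ≤ Nat.card K := by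
  have h1 : Nat.card H ∣ Nat.card K := Subgroup.card_dvd_of_le h.le
  obtain ⟨k, hk⟩ := h1
  have hK : 0 < Nat.card K := Nat.card_pos
  haveI : Finite H := Finite.of_injective _ (Subgroup.inclusion_injective h.le)
  have hH : 0 < Nat.card H := Nat.card_pos
  rcases k with _ | _ | k
  · rw [mul_zero] at hk; omega
  · exfalso
    rw [zero_add, mul_one] at hk
    exact h.ne (Subgroup.eq_of_le_of_card_ge h.le (by omega))
  · rw [hk]
    nlinarith

end F

end Cfsg.Agent.Lib.Helper12.ST64
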