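import Mathlib
import Cfsg.Prelude.Def_GeometricClasses
import Cfsg.Agent.Lib.Helper12.ST64E
import Cfsg.Agent.Lib.Helper12.ST64F

/-! Helper12 library (ST64, part G): centralizers in `R = 4 ∘ 2^{1+4}` of elements of `GL₄(F)`;
the scalars of `R` form the cyclic group generated by `ζ`; the centralizer of a nonscalar
element of `R` has order 32. -/

set_option autoImplicit false
set_option linter.unusedSectionVars false
set_option linter.unusedVariables false
set_option linter.style.haveILetI false
set_option linter.unusedSimpArgs false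

namespace Cfsg.Agent.Lib.Helper12.ST64

open Matrix Module Cfsg.Agent.Lib.Helper12.Ex32
open scoped MatrixGroups

section G

variable {ι : Type} [Fintype ι] [DecidableEq ι] {F : Type*} [Field F]

/-- the centralizer in `R` of an element of `GL` -/
def Cent (R : Subgroup (GL ι F)) (m : GL ι F) : Subgroup (GL ι F) :=
  R ⊓ Subgroup.centralizer ({m} : Set (GL ι F))

theorem mem_Cent (R : Subgroup (GL ι F)) (m y : GL ι F) :
    y ∈ Cent R m ↔ y ∈ R ∧ m * y = y * m := by
  unfold Cent
  rw [Subgroup.mem_inf, Subgroup.mem_centralizer_iff]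
  simp

variable {R : Subgroup (GL ι F)} {i : F} {ζ : R}

theorem Cent_le (m : GL ι F) : Cent R m ≤ R := inf_le_left

theorem H64.zeta_pow_four (h : H64 R i ζ) : ζ ^ 4 = 1 := by
  apply mat_injective R
  have : ζ ^ 4 = ζ * ζ * ζ * ζ := by rw [pow_succ, pow_succ, pow_two]
  rw [this, mat_mul, mat_mul, mat_mul, h.zeta, mat_one]
  simp only [Matrix.smul_mul, Matrix.mul_smul, Matrix.one_mul, smul_smul]
  have : i * (i * (i * i)) = 1 := by
    linear_combination (i * i - 1) * h.i2
  rw [this, one_smul]

theorem H64.zeta_sq (h : H64 R i ζ) : mat R (ζ ^ 2) = -1 := by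
  rw [pow_two, mat_mul, h.zeta]
  simp only [Matrix.smul_mul, Matrix.mul_smul, Matrix.one_mul, smul_smul, h.i2]
  simp

theorem H64.orderOf_zeta (h : H64 R i ζ) : orderOf ζ = 4 := by
  have h1 : orderOf ζ = 2 ^ (1 + 1) := by
    apply orderOf_eq_prime_pow
    · intro h2
      rw [pow_one] at h2
      have h3 := h.zeta_sq
      rw [h2, mat_one] at h3
      haveI := h.nonempty
      have h4 : (1 : F) • (1 : Matrix ι ι F) = (-1 : F) • (1 : Matrix ι ι F) := by
        rw [one_smul, neg_smul, one_smul]; exact h3
      have h5 := smul_one_injective _ _ h4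
      apply h.two
      linear_combination h5
    · exact h.zeta_pow_four
  rw [h1]; norm_num

/-- scalar elements of `R` are powers of `ζ` -/
theorem H64.mem_zpowers_of_scalar (h : H64 R i ζ) (x : R) (c : F)
    (hx : mat R x = c • (1 : Matrix ι ι F)) : x ∈ Subgroup.zpowers ζ := by
  obtain ⟨d, hd4, hd⟩ := h.cen x (fun g => by
    rw [hx, Matrix.mul_smul, Matrix.smul_mul, Matrix.mul_one, Matrix.one_mul])
  have h1 : (d - 1) * (d + 1) * (d - i) * (d + i) = 0 := by
    linear_combination hd4 + (-(d * d) + 1) * h.i2
  have key : ∀ k : ℕ, mat R x = mat R (ζ ^ k) → x ∈ Subgroup.zpowers ζ := by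
    intro k hk
    rw [mat_injective R hk]
    exact Subgroup.npow_mem_zpowers ζ k
  have hz2 := h.zeta_sq
  rcases mul_eq_zero.1 h1 with h2 | h2
  · rcases mul_eq_zero.1 h2 with h3 | h3
    · rcases mul_eq_zero.1 h3 with h4 | h4
      · apply key 0
        rw [pow_zero, mat_one, hd]
        have : d = 1 := by linear_combination h4
        rw [this, one_smul]
      · apply key 2
        rw [hz2, hd]
        have : d = -1 := by linear_combination h4
        rw [this]; simp
    · apply key 1
      rw [pow_one, h.zeta, hd]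
      have : d = i := by linear_combination h3
      rw [this]
  · apply key 3
    have : ζ ^ 3 = ζ ^ 2 * ζ := by rw [pow_succ]
    rw [this, mat_mul, hz2, h.zeta, hd]
    have : d = -i := by linear_combination h2
    rw [this]; simp

theorem H64.zpowers_le_Cent (h : H64 R i ζ) (m : GL ι F) :
    Subgroup.zpowers (ζ : GL ι F) ≤ Cent R m := by
  rw [Subgroup.zpowers_le, mem_Cent]
  refine ⟨ζ.2, ?_⟩
  apply Units.ext
  rw [Units.val_mul, Units.val_mul]
  have : ((ζ : GL ι F) : Matrix ι ι F) = i • (1 : Matrix ι ι F) := h.zeta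
  rw [this, Matrix.mul_smul, Matrix.smul_mul, Matrix.mul_one, Matrix.one_mul]

theorem H64.card_zpowers (h : H64 R i ζ) : Nat.card (Subgroup.zpowers (ζ : GL ι F)) = 4 := by
  rw [Nat.card_zpowers, Subgroup.orderOf_coe, h.orderOf_zeta]

variable [Fintype R]

/-- the order of a centralizer is `2^k` with `2 ≤ k ≤ 6` -/
theorem H64.card_Cent (h : H64 R i ζ) (m : GL ι F) :
    ∃ k : ℕ, 2 ≤ k ∧ k ≤ 6 ∧ Nat.card (Cent R m) = 2 ^ k := by
  have h1 : Nat.card (Cent R m) ∣ Nat.card R := Subgroup.card_dvd_of_le (Cent_le m)
  rw [h.card, show (64 : ℕ) = 2 ^ 6 from rfl] at h1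
  obtain ⟨k, hk, hk'⟩ := (Nat.dvd_prime_pow Nat.prime_two).1 h1
  haveI : Finite (Cent R m) := Finite.of_injective _ (Subgroup.inclusion_injective (Cent_le m))
  have h2 : Nat.card (Subgroup.zpowers (ζ : GL ι F)) ∣ Nat.card (Cent R m) :=
    Subgroup.card_dvd_of_le (h.zpowers_le_Cent m)
  rw [h.card_zpowers, hk'] at h2
  refine ⟨k, ?_, hk, hk'⟩
  by_contra hlt
  have hk1 : k = 0 ∨ k = 1 := by omega
  rcases hk1 with rfl | rfl
  · norm_num at h2
  · norm_num at h2

/-- the centralizer in `R` of a nonscalar element of `R` has order 32 -/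
theorem H64.card_Cent_ns (h : H64 R i ζ) (x : R)
    (hx : ∀ c : F, mat R x ≠ c • (1 : Matrix ι ι F)) : Nat.card (Cent R (x : GL ι F)) = 32 := by
  obtain ⟨g, hg⟩ := h.exists_anti x hx
  set H : Subgroup R := (Subgroup.centralizer ({(x : GL ι F)} : Set (GL ι F))).subgroupOf R with hH
  have hmem : ∀ b : R, b ∈ H ↔ mat R x * mat R b = mat R b * mat R x := by
    intro b
    rw [hH, Subgroup.mem_subgroupOf, Subgroup.mem_centralizer_iff]
    simp only [Set.mem_singleton_iff, forall_eq]
    constructor
    · intro hb
      have := congrArg (fun y : GL ι F => (y : Matrix ι ι F)) hb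
      simpa [mat] using this
    · intro hb
      apply Units.ext
      rw [Units.val_mul, Units.val_mul]
      exact hb
  have hidx : H.index = 2 := by
    rw [Subgroup.index_eq_two_iff]
    refine ⟨g, fun b => ?_⟩
    rw [hmem, hmem, mat_mul]
    have hne : mat R x * mat R b * mat R g ≠ 0 := by
      intro h0
      have : mat R (x * b * g) = 0 := by rw [mat_mul, mat_mul]; exact h0
      have h1 : mat R (x * b * g) * mat R (x * b * g)⁻¹ = 0 := by rw [this, Matrix.zero_mul]
      rw [mat_mul_inv] at h1
      haveI := h.nonempty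
      have h4 : (1 : F) • (1 : Matrix ι ι F) = (0 : F) • (1 : Matrix ι ι F) := by
        rw [one_smul, zero_smul]; exact h1
      exact one_ne_zero (smul_one_injective _ _ h4)
    have hxg : mat R x * mat R g = -(mat R g * mat R x) := by rw [hg, neg_neg]
    rcases h.comm b x with h1 | h1
    · -- `b` commutes with `x`
      right
      refine ⟨h1, ?_⟩
      intro h2
      have h3 : mat R x * (mat R b * mat R g) = -(mat R b * mat R g * mat R x) := by
        rw [← Matrix.mul_assoc, h1, Matrix.mul_assoc, hxg, Matrix.mul_neg, Matrix.mul_assoc]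
      rw [h2] at h3
      have h5 : (2 : F) • (mat R b * mat R g * mat R x) = 0 := by
        rw [two_smul]
        nth_rewrite 1 [h3]
        rw [neg_add_cancel]
      have h6 : mat R b * mat R g * mat R x = 0 := by
        have := congrArg (fun M => (2 : F)⁻¹ • M) h5
        simpa [smul_smul, inv_mul_cancel₀ h.two] using this
      apply hne
      rw [Matrix.mul_assoc, h2, h6]
    · -- `b` anticommutes with `x`
      left
      refine ⟨?_, ?_⟩
      · rw [← Matrix.mul_assoc, h1, Matrix.neg_mul, Matrix.mul_assoc, hxg, Matrix.mul_neg,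
          neg_neg, Matrix.mul_assoc]
      · intro h2
        rw [h2] at h1
        have h5 : (2 : F) • (mat R b * mat R x) = 0 := by
          rw [two_smul]
          nth_rewrite 1 [h1]
          rw [neg_add_cancel]
        have h6 : mat R b * mat R x = 0 := by
          have := congrArg (fun M => (2 : F)⁻¹ • M) h5
          simpa [smul_smul, inv_mul_cancel₀ h.two] using this
        apply hne
        rw [h2, h6, Matrix.zero_mul]
  have h1 := Subgroup.card_mul_index H
  rw [hidx, h.card] at h1
  have h2 : Nat.card (Cent R (x : GL ι F)) = Nat.card H := by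
    have e1 : H = (Cent R (x : GL ι F)).subgroupOf R := by
      rw [hH]
      unfold Cent
      rw [inf_comm, Subgroup.inf_subgroupOf_right]
    rw [e1]
    exact (Nat.card_congr (Subgroup.subgroupOfEquivOfLe (Cent_le _)).toEquiv).symm
  rw [h2]
  omega

end G

end Cfsg.Agent.Lib.Helper12.ST64
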