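import Mathlib
import Cfsg.Prelude.Def_GeometricClasses
import Cfsg.Agent.Lib.Helper12.ST64G

/-! Helper12 library (ST64, part H): an element of `GL₄(F)` normalizing `R = 4 ∘ 2^{1+4}` whose
`r`-th power is scalar, `r ≥ 7` prime, is itself scalar (orbit counting on `R`). -/

set_option autoImplicit false
set_option linter.unusedSectionVars false
set_option linter.unusedVariables false
set_option linter.style.haveILetI false
set_option linter.unusedSimpArgs false

namespace Cfsg.Agent.Lib.Helper12.ST64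

open Matrix Module Cfsg.Agent.Lib.Helper12.Ex32
open scoped MatrixGroups

section H

variable {ι : Type} [Fintype ι] [DecidableEq ι] {F : Type*} [Field F]

variable {R : Subgroup (GL ι F)} {i : F} {ζ : R}

theorem scalar_comm (m y : GL ι F) (c : F)
    (hm : (m : Matrix ι ι F) = c • (1 : Matrix ι ι F)) : m * y = y * m := by
  apply Units.ext
  rw [Units.val_mul, Units.val_mul, hm, Matrix.mul_smul, Matrix.smul_mul, Matrix.mul_one,
    Matrix.one_mul]

theorem no_large_prime_dvd (r : ℕ) (hrp : r.Prime) (hr : 7 ≤ r) :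
    ¬ r ∣ 60 ∧ ¬ r ∣ 48 ∧ ¬ r ∣ 32 ∧ (r ∣ 56 → r = 7) := by
  have h2 : ¬ r ∣ 2 := fun h => by have := Nat.le_of_dvd (by norm_num) h; omega
  have h3 : ¬ r ∣ 3 := fun h => by have := Nat.le_of_dvd (by norm_num) h; omega
  have h5 : ¬ r ∣ 5 := fun h => by have := Nat.le_of_dvd (by norm_num) h; omega
  refine ⟨?_, ?_, ?_, ?_⟩
  · intro h
    rw [show (60 : ℕ) = 2 * (2 * (3 * 5)) from rfl] at h
    rcases (hrp.dvd_mul).1 h with h | h
    · exact h2 h
    rcases (hrp.dvd_mul).1 h with h | h
    · exact h2 h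
    rcases (hrp.dvd_mul).1 h with h | h
    · exact h3 h
    · exact h5 h
  · intro h
    rw [show (48 : ℕ) = 2 ^ 4 * 3 from rfl] at h
    rcases (hrp.dvd_mul).1 h with h | h
    · exact h2 (hrp.dvd_of_dvd_pow h)
    · exact h3 h
  · intro h
    rw [show (32 : ℕ) = 2 ^ 5 from rfl] at h
    exact h2 (hrp.dvd_of_dvd_pow h)
  · intro h
    rw [show (56 : ℕ) = 2 ^ 3 * 7 from rfl] at h
    rcases (hrp.dvd_mul).1 h with h | h
    · exact absurd (hrp.dvd_of_dvd_pow h) h2
    · exact (Nat.prime_dvd_prime_iff_eq hrp (by norm_num)).1 h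

variable [Fintype R]

/-- an element commuting with all of `R` is scalar -/
theorem H64.scalar_of_Cent_eq (h : H64 R i ζ) (m : GL ι F) (hC : Cent R m = R) :
    ∃ d : F, (m : Matrix ι ι F) = d • (1 : Matrix ι ι F) := by
  apply h.sc
  rintro s ⟨y, hy, rfl⟩
  have h1 : y ∈ Cent R m := by rw [hC]; exact hy
  have h2 := ((mem_Cent R m y).1 h1).2
  have := congrArg (fun z : GL ι F => (z : Matrix ι ι F)) h2
  simpa using this

/-- no element of prime order at least 7 modulo scalars normalizes `R` -/
theorem H64.scalar_of_large_prime (h : H64 R i ζ) (m : GL ι F)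
    (hm : m ∈ Subgroup.normalizer (R : Set (GL ι F))) (r : ℕ) [Fact r.Prime] (hr : 7 ≤ r) (c : F)
    (hmr : ((m ^ r : GL ι F) : Matrix ι ι F) = c • (1 : Matrix ι ι F)) :
    ∃ d : F, (m : Matrix ι ι F) = d • (1 : Matrix ι ι F) := by
  classical
  have hrp : r.Prime := Fact.out
  obtain ⟨hn60, hn48, hn32, h56⟩ := no_large_prime_dvd r hrp hr
  haveI : Finite R := Finite.of_fintype R
  have hr' : ∀ x ∈ R, m ^ r * x = x * m ^ r := fun x _ => scalar_comm _ _ c hmr
  have h1 : Nat.card (Cent R m) ≡ Nat.card R [MOD r] := card_centralizer_modEq R m hm r hr'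
  obtain ⟨k, hk2, hk6, hk⟩ := h.card_Cent m
  rw [hk, h.card] at h1
  have hk' : k = 2 ∨ k = 3 ∨ k = 4 ∨ k = 5 ∨ k = 6 := by omega
  rcases hk' with rfl | rfl | rfl | rfl | rfl
  · exact absurd ((Nat.modEq_iff_dvd' (by norm_num)).1 h1) (by norm_num; exact hn60)
  · -- `r = 7` and the centralizer has order 8
    have h7 : r = 7 := h56 (by
      have := (Nat.modEq_iff_dvd' (by norm_num)).1 h1
      norm_num at this
      exact this)
    subst h7
    exfalso
    set Zs : Subgroup (GL ι F) := Subgroup.zpowers (ζ : GL ι F) with hZs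
    have hZC : Zs ≤ Cent R m := h.zpowers_le_Cent m
    haveI : Finite (Cent R m) := Finite.of_injective _ (Subgroup.inclusion_injective (Cent_le m))
    have hlt : Zs < Cent R m := by
      apply lt_of_le_of_ne hZC
      intro he
      have := h.card_zpowers
      rw [← hZs, he, hk] at this
      norm_num at this
    obtain ⟨x, hxC, hxZ⟩ := SetLike.exists_of_lt hlt
    obtain ⟨hxR, hxm⟩ := (mem_Cent R m x).1 hxC
    have hxns : ∀ d : F, mat R ⟨x, hxR⟩ ≠ d • (1 : Matrix ι ι F) := by
      intro d hd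
      have h2 := h.mem_zpowers_of_scalar ⟨x, hxR⟩ d hd
      apply hxZ
      rw [hZs]
      obtain ⟨n, hn⟩ := Subgroup.mem_zpowers_iff.1 h2
      rw [Subgroup.mem_zpowers_iff]
      refine ⟨n, ?_⟩
      have := congrArg (fun y : R => (y : GL ι F)) hn
      simpa using this
    have hK32 : Nat.card (Cent R x) = 32 := h.card_Cent_ns ⟨x, hxR⟩ hxns
    have hmK : m ∈ Subgroup.normalizer ((Cent R x : Subgroup (GL ι F)) : Set (GL ι F)) := by
      rw [Subgroup.mem_normalizer_iff]
      intro y
      rw [mem_Cent, mem_Cent]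
      have hmx : m * x * m⁻¹ = x := by rw [hxm]; group
      constructor
      · rintro ⟨hy, hxy⟩
        refine ⟨(Subgroup.mem_normalizer_iff.1 hm y).1 hy, ?_⟩
        calc x * (m * y * m⁻¹) = (m * x * m⁻¹) * (m * y * m⁻¹) := by rw [hmx]
          _ = m * (x * y) * m⁻¹ := by group
          _ = m * (y * x) * m⁻¹ := by rw [hxy]
          _ = (m * y * m⁻¹) * (m * x * m⁻¹) := by group
          _ = (m * y * m⁻¹) * x := by rw [hmx]
      · rintro ⟨hy, hxy⟩
        refine ⟨(Subgroup.mem_normalizer_iff.1 hm y).2 hy, ?_⟩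
        have h3 : m * (x * y) * m⁻¹ = m * (y * x) * m⁻¹ := by
          calc m * (x * y) * m⁻¹ = (m * x * m⁻¹) * (m * y * m⁻¹) := by group
            _ = x * (m * y * m⁻¹) := by rw [hmx]
            _ = (m * y * m⁻¹) * x := hxy
            _ = (m * y * m⁻¹) * (m * x * m⁻¹) := by rw [hmx]
            _ = m * (y * x) * m⁻¹ := by group
        exact mul_left_cancel (mul_right_cancel h3)
    haveI : Finite (Cent R x) := Finite.of_injective _ (Subgroup.inclusion_injective (Cent_le x))
    have h2 := card_centralizer_modEq (Cent R x) m hmK 7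
      (fun y _ => scalar_comm _ _ c hmr)
    rw [hK32] at h2
    set D : Subgroup (GL ι F) := Cent R x ⊓ Subgroup.centralizer ({m} : Set (GL ι F)) with hD
    have hDC : D ≤ Cent R m := by
      intro y hy
      rw [hD, Subgroup.mem_inf, mem_Cent] at hy
      rw [mem_Cent]
      refine ⟨hy.1.1, ?_⟩
      have := Subgroup.mem_centralizer_iff.1 hy.2 m (Set.mem_singleton m)
      exact this
    haveI : Finite D := Finite.of_injective _ (Subgroup.inclusion_injective hDC)
    have hZD : Zs ≤ D := by
      rw [hD]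
      apply le_inf (h.zpowers_le_Cent x)
      exact le_trans hZC inf_le_right
    have hxD : x ∈ D := by
      rw [hD, Subgroup.mem_inf, mem_Cent, Subgroup.mem_centralizer_iff]
      refine ⟨⟨hxR, rfl⟩, ?_⟩
      intro y hy
      rw [Set.mem_singleton_iff] at hy
      rw [hy, hxm]
    have hlt' : Zs < D := by
      apply lt_of_le_of_ne hZD
      intro he
      apply hxZ
      rw [he]
      exact hxD
    have h3 := two_mul_card_le_of_lt Zs D hlt'
    rw [hZs, h.card_zpowers] at h3
    have h4 : Nat.card D ∣ Nat.card (Cent R m) := Subgroup.card_dvd_of_le hDC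
    rw [hk] at h4
    have h5 : Nat.card D ≤ 8 := Nat.le_of_dvd (by norm_num) h4
    have h6 : Nat.card D = 8 := by omega
    rw [h6] at h2
    exact absurd h2 (by decide)
  · exact absurd ((Nat.modEq_iff_dvd' (by norm_num)).1 h1) (by norm_num; exact hn48)
  · exact absurd ((Nat.modEq_iff_dvd' (by norm_num)).1 h1) (by norm_num; exact hn32)
  · apply h.scalar_of_Cent_eq m
    haveI : Finite R := Finite.of_fintype R
    apply Subgroup.eq_of_le_of_card_ge (Cent_le m)
    rw [hk, h.card]
    norm_num

end H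

end Cfsg.Agent.Lib.Helper12.ST64
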