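import Mathlib
import Cfsg.Prelude.Def_GeometricClasses
import Cfsg.Agent.Lib.Helper12.ST64H

/-! Helper12 library (ST64, part I): the trace formula.  If `m ∈ GL₄(F)` normalizes
`R = 4 ∘ 2^{1+4}` and `m ^ r` is scalar for an odd `r`, then
`|C_R(m)| = 4 · tr(m) · tr(m⁻¹)` in `F`. -/

set_option autoImplicit false
set_option linter.unusedSectionVars false
set_option linter.unusedVariables false
set_option linter.style.haveILetI false
set_option linter.unusedSimpArgs false

namespace Cfsg.Agent.Lib.Helper12.ST64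

open Matrix Module Cfsg.Agent.Lib.Helper12.Ex32
open scoped MatrixGroups

section I

variable {ι : Type} [Fintype ι] [DecidableEq ι] {F : Type*} [Field F]

variable {R : Subgroup (GL ι F)} {i : F} {ζ : R}

/-- iterating a conjugation that multiplies by a central element -/
theorem conj_pow_central {G : Type*} [Group G] (m y z : G) (hz : ∀ w : G, z * w = w * z)
    (h : m * y * m⁻¹ = y * z) (n : ℕ) : m ^ n * y * (m ^ n)⁻¹ = y * z ^ n := by
  induction n with
  | zero => simp
  | succ n ih =>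
    have hzn : ∀ w : G, z ^ n * w = w * z ^ n := by
      intro w
      exact ((Commute.pow_left (hz w) n)).eq
    calc m ^ (n + 1) * y * (m ^ (n + 1))⁻¹ = m * (m ^ n * y * (m ^ n)⁻¹) * m⁻¹ := by
          rw [pow_succ']; group
      _ = m * (y * z ^ n) * m⁻¹ := by rw [ih]
      _ = (m * y * m⁻¹) * (m * z ^ n * m⁻¹) := by group
      _ = (y * z) * (m * z ^ n * m⁻¹) := by rw [h]
      _ = (y * z) * (z ^ n) := by rw [← hzn m]; group
      _ = y * z ^ (n + 1) := by rw [pow_succ']; group

theorem H64.pow_four_of_scalar (h : H64 R i ζ) (x : R) (c : F)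
    (hx : mat R x = c • (1 : Matrix ι ι F)) : x ^ 4 = 1 := by
  obtain ⟨n, hn⟩ := Subgroup.mem_zpowers_iff.1 (h.mem_zpowers_of_scalar x c hx)
  rw [← hn, ← zpow_natCast, ← _root_.zpow_mul, mul_comm, _root_.zpow_mul, zpow_natCast,
    h.zeta_pow_four, _root_.one_zpow]

variable [Fintype R]

/-- the individual terms of the trace formula -/
theorem H64.trace_term (h : H64 R i ζ) (m : GL ι F)
    (hm : m ∈ Subgroup.normalizer (R : Set (GL ι F))) (r : ℕ) (hr : Odd r) (c : F)
    (hmr : ((m ^ r : GL ι F) : Matrix ι ι F) = c • (1 : Matrix ι ι F)) (g : R)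
    [Decidable ((g : GL ι F) ∈ Cent R m)] :
    (mat R g * (m : Matrix ι ι F) * mat R g⁻¹ * ((m⁻¹ : GL ι F) : Matrix ι ι F)).trace =
      if (g : GL ι F) ∈ Cent R m then (4 : F) else 0 := by
  have hMM' : (m : Matrix ι ι F) * ((m⁻¹ : GL ι F) : Matrix ι ι F) = 1 := by
    rw [← Units.val_mul, mul_inv_cancel, Units.val_one]
  by_cases hg : (g : GL ι F) ∈ Cent R m
  · rw [if_pos hg]
    have h1 := ((mem_Cent R m g).1 hg).2
    have h2 : (m : Matrix ι ι F) * mat R g⁻¹ = mat R g⁻¹ * (m : Matrix ι ι F) := by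
      have h3 : m * (g : GL ι F)⁻¹ = (g : GL ι F)⁻¹ * m := by
        calc m * (g : GL ι F)⁻¹ = (g : GL ι F)⁻¹ * ((g : GL ι F) * m) * (g : GL ι F)⁻¹ := by group
          _ = (g : GL ι F)⁻¹ * (m * (g : GL ι F)) * (g : GL ι F)⁻¹ := by rw [h1]
          _ = (g : GL ι F)⁻¹ * m := by group
      have := congrArg (fun z : GL ι F => (z : Matrix ι ι F)) h3
      simpa [mat] using this
    rw [Matrix.mul_assoc (mat R g), h2, ← Matrix.mul_assoc, mat_mul_inv, Matrix.one_mul, hMM',
      Matrix.trace_one, h.dim]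
    norm_num
  · rw [if_neg hg]
    have hgR : m * (g : GL ι F)⁻¹ * m⁻¹ ∈ R :=
      (Subgroup.mem_normalizer_iff.1 hm _).1 (R.inv_mem g.2)
    set y : R := g * ⟨m * (g : GL ι F)⁻¹ * m⁻¹, hgR⟩ with hy
    have hmat : mat R y =
        mat R g * (m : Matrix ι ι F) * mat R g⁻¹ * ((m⁻¹ : GL ι F) : Matrix ι ι F) := by
      rw [hy, mat_mul]
      simp only [mat, Units.val_mul, Subgroup.coe_inv, Matrix.mul_assoc]
    rw [← hmat]
    apply h.trace_zero
    intro d hd
    apply hg
    rw [mem_Cent]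
    refine ⟨g.2, ?_⟩
    -- `y` is scalar, so central
    have hyc : ∀ w : GL ι F, (y : GL ι F) * w = w * (y : GL ι F) :=
      fun w => scalar_comm _ _ d hd
    have hconj : m * (g : GL ι F)⁻¹ * m⁻¹ = (g : GL ι F)⁻¹ * (y : GL ι F) := by
      rw [hy]
      simp only [Subgroup.coe_mul]
      group
    have h1 := conj_pow_central m (g : GL ι F)⁻¹ (y : GL ι F) hyc hconj r
    have h2 : m ^ r * (g : GL ι F)⁻¹ * (m ^ r)⁻¹ = (g : GL ι F)⁻¹ := by
      rw [scalar_comm (m ^ r) (g : GL ι F)⁻¹ c hmr]; group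
    rw [h2] at h1
    have h3 : (y : GL ι F) ^ r = 1 := by
      have := mul_left_cancel (a := (g : GL ι F)⁻¹) (b := 1) (c := (y : GL ι F) ^ r)
        (by rw [mul_one]; exact h1)
      exact this.symm
    have h4 : (y : GL ι F) ^ 4 = 1 := by
      have := h.pow_four_of_scalar y d hd
      have := congrArg (fun z : R => (z : GL ι F)) this
      simpa using this
    have h5 : (y : GL ι F) = 1 := by
      have ho1 := orderOf_dvd_of_pow_eq_one h3
      have ho2 := orderOf_dvd_of_pow_eq_one h4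
      have ho3 : orderOf (y : GL ι F) ∣ Nat.gcd r 4 := Nat.dvd_gcd ho1 ho2
      have hgcd : Nat.gcd r 4 = 1 := by
        have : Nat.Coprime r (2 ^ 2) := Nat.Coprime.pow_right 2 hr.coprime_two_right
        exact this
      rw [hgcd, Nat.dvd_one, orderOf_eq_one_iff] at ho3
      exact ho3
    rw [h5, mul_one] at hconj
    calc m * (g : GL ι F) = (g : GL ι F) * ((g : GL ι F)⁻¹ * m) * (g : GL ι F) := by group
      _ = (g : GL ι F) * ((m * (g : GL ι F)⁻¹ * m⁻¹) * m) * (g : GL ι F) := by rw [hconj]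
      _ = (g : GL ι F) * m := by group

/-- the trace formula -/
theorem H64.trace_formula (h : H64 R i ζ) (m : GL ι F)
    (hm : m ∈ Subgroup.normalizer (R : Set (GL ι F))) (r : ℕ) (hr : Odd r) (c : F)
    (hmr : ((m ^ r : GL ι F) : Matrix ι ι F) = c • (1 : Matrix ι ι F)) :
    (Nat.card (Cent R m) : F) =
      4 * (m : Matrix ι ι F).trace * ((m⁻¹ : GL ι F) : Matrix ι ι F).trace := by
  classical
  have hS := schur_avg_const R h.sc h.hn (m : Matrix ι ι F)
  have h64 : (Fintype.card R : F) = 64 := by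
    rw [← Nat.card_eq_fintype_card, h.card]; norm_num
  have h4 : (Fintype.card ι : F) = 4 := by rw [h.dim]; norm_num
  have h40 : (4 : F) ≠ 0 := by rw [← h4]; exact h.hn
  rw [h64, h4] at hS
  have h1 : ∑ g : R, (mat R g * (m : Matrix ι ι F) * mat R g⁻¹ *
      ((m⁻¹ : GL ι F) : Matrix ι ι F)).trace =
      16 * (m : Matrix ι ι F).trace * ((m⁻¹ : GL ι F) : Matrix ι ι F).trace := by
    rw [← Matrix.trace_sum, ← Finset.sum_mul, hS, Matrix.smul_mul, Matrix.one_mul,
      Matrix.trace_smul, smul_eq_mul]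
    field_simp
    ring
  have h2 : ∑ g : R, (mat R g * (m : Matrix ι ι F) * mat R g⁻¹ *
      ((m⁻¹ : GL ι F) : Matrix ι ι F)).trace =
      ∑ g : R, if (g : GL ι F) ∈ Cent R m then (4 : F) else 0 :=
    Finset.sum_congr rfl fun g _ => h.trace_term m hm r hr c hmr g
  rw [h2, Finset.sum_ite, Finset.sum_const_zero, add_zero, Finset.sum_const, nsmul_eq_mul] at h1
  have h3 : (Finset.univ.filter fun g : R => (g : GL ι F) ∈ Cent R m).card =
      Nat.card (Cent R m) := by
    rw [Nat.card_congr (Subgroup.subgroupOfEquivOfLe (Cent_le m)).symm.toEquiv,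
      Nat.card_eq_fintype_card, Fintype.card_subtype]
    congr 1
  rw [h3] at h1
  have h5 : (4 : F) * (Nat.card (Cent R m) : F) =
      4 * (4 * (m : Matrix ι ι F).trace * ((m⁻¹ : GL ι F) : Matrix ι ι F).trace) := by
    linear_combination h1
  exact mul_left_cancel₀ h40 h5

end I

end Cfsg.Agent.Lib.Helper12.ST64
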