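import Mathlib
import Cfsg.Prelude.Def_GeometricClasses
import Cfsg.Agent.Lib.Helper12.ST64I

/-! Helper12 library (ST64, part J): in characteristic 5 no element `m ≠ 1` of `GL₄(F)` with
`(m - 1)² = 0` normalizes `R = 4 ∘ 2^{1+4}`. -/

set_option autoImplicit false
set_option linter.unusedSectionVars false
set_option linter.unusedVariables false
set_option linter.style.haveILetI false
set_option linter.unusedSimpArgs false

namespace Cfsg.Agent.Lib.Helper12.ST64

open Matrix Module Cfsg.Agent.Lib.Helper12.Ex32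
open scoped MatrixGroups

section J

variable {ι : Type} [Fintype ι] [DecidableEq ι] {F : Type*} [Field F]

variable {R : Subgroup (GL ι F)} {i : F} {ζ : R}

theorem quad_pow (n : Matrix ι ι F) (hn : n * n = 0) (k : ℕ) :
    (1 + n) ^ k = 1 + (k : F) • n := by
  induction k with
  | zero => simp
  | succ k ih =>
    simp only [pow_succ, ih, Matrix.add_mul, Matrix.mul_add, Matrix.one_mul, Matrix.mul_one,
      Matrix.smul_mul, hn, smul_zero, add_zero, Nat.cast_succ, add_smul, one_smul]
    abel

theorem trace_third_difference (B T3 T2 T1 A : Matrix ι ι F)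
    (h : T3 - (3 : F) • T2 + (3 : F) • T1 - A = 0) :
    (B * T3).trace - 3 * (B * T2).trace + 3 * (B * T1).trace - (B * A).trace = 0 := by
  have := congrArg (fun X => (B * X).trace) h
  simp only [Matrix.mul_sub, Matrix.mul_add, Matrix.mul_smul, Matrix.trace_sub,
    Matrix.trace_add, Matrix.trace_smul, Matrix.mul_zero, Matrix.trace_zero, smul_eq_mul] at this
  exact this

theorem third_difference (n a : Matrix ι ι F) :
    (1 + (3 : F) • n) * a * (1 - (3 : F) • n) - (3 : F) • ((1 + (2 : F) • n) * a * (1 - (2 : F) • n))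
      + (3 : F) • ((1 + n) * a * (1 - n)) - a = 0 := by
  simp only [Matrix.add_mul, Matrix.mul_add, Matrix.mul_sub, Matrix.sub_mul, Matrix.one_mul,
    Matrix.mul_one, Matrix.smul_mul, Matrix.mul_smul, smul_add, smul_sub, smul_smul]
  module

variable [Fintype R]

/-- in characteristic 5, a quadratic unipotent element normalizing `R` is trivial -/
theorem H64.no_quad_unipotent (h : H64 R i ζ) (h5 : (5 : F) = 0) (m : GL ι F)
    (hm : m ∈ Subgroup.normalizer (R : Set (GL ι F)))
    (hq : ((m : Matrix ι ι F) - 1) * ((m : Matrix ι ι F) - 1) = 0) : m = 1 := by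
  classical
  set n : Matrix ι ι F := (m : Matrix ι ι F) - 1 with hn
  have hM : (m : Matrix ι ι F) = 1 + n := by rw [hn]; abel
  have hpow : ∀ k : ℕ, ((m ^ k : GL ι F) : Matrix ι ι F) = 1 + (k : F) • n := by
    intro k
    rw [Units.val_pow_eq_pow_val, hM, quad_pow n hq]
  have hinv : ∀ k : ℕ, (((m ^ k)⁻¹ : GL ι F) : Matrix ι ι F) = 1 - (k : F) • n := by
    intro k
    have h1 : ((m ^ k : GL ι F) : Matrix ι ι F) * (1 - (k : F) • n) = 1 := by
      rw [hpow]
      simp only [Matrix.add_mul, Matrix.mul_sub, Matrix.one_mul, Matrix.mul_one, Matrix.smul_mul,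
        Matrix.mul_smul, hq, smul_zero, sub_zero]
      abel_nf
    calc (((m ^ k)⁻¹ : GL ι F) : Matrix ι ι F)
        = (((m ^ k)⁻¹ : GL ι F) : Matrix ι ι F) *
            (((m ^ k : GL ι F) : Matrix ι ι F) * (1 - (k : F) • n)) := by
          rw [h1, Matrix.mul_one]
      _ = 1 - (k : F) • n := by
          rw [← Matrix.mul_assoc, ← Units.val_mul, inv_mul_cancel, Units.val_one, Matrix.one_mul]
  have hm5 : m ^ 5 = 1 := by
    apply Units.ext
    rw [hpow 5, Units.val_one]
    have : ((5 : ℕ) : F) = 0 := by exact_mod_cast h5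
    rw [this, zero_smul, add_zero]
  -- `m` centralizes `R`
  have hcent : ∀ a : R, m * (a : GL ι F) = (a : GL ι F) * m := by
    intro a
    have hk : ∀ k : ℕ, m ^ k ∈ Subgroup.normalizer (R : Set (GL ι F)) :=
      fun k => Subgroup.pow_mem _ hm k
    have hmem : ∀ k : ℕ, m ^ k * (a : GL ι F) * (m ^ k)⁻¹ ∈ R :=
      fun k => (Subgroup.mem_normalizer_iff.1 (hk k) _).1 a.2
    -- the elements `a⁻¹ * (m^k a m^-k)` of `R`
    let y : ℕ → R := fun k => a⁻¹ * ⟨m ^ k * (a : GL ι F) * (m ^ k)⁻¹, hmem k⟩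
    have hy : ∀ k : ℕ, mat R (y k) =
        mat R a⁻¹ * ((1 + (k : F) • n) * mat R a * (1 - (k : F) • n)) := by
      intro k
      show mat R (a⁻¹ * ⟨m ^ k * (a : GL ι F) * (m ^ k)⁻¹, hmem k⟩) = _
      rw [mat_mul]
      congr 1
      show ((m ^ k * (a : GL ι F) * (m ^ k)⁻¹ : GL ι F) : Matrix ι ι F) = _
      rw [Units.val_mul, Units.val_mul, hpow, hinv]
      rfl
    have hsum : (mat R (y 3)).trace - 3 * (mat R (y 2)).trace + 3 * (mat R (y 1)).trace - 4 = 0 := by
      have h1 := third_difference n (mat R a)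
      have h2 := trace_third_difference (mat R a⁻¹) _ _ _ _ h1
      rw [mat_inv_mul, Matrix.trace_one, h.dim] at h2
      rw [hy 3, hy 2, hy 1]
      have e3 : ((3 : ℕ) : F) = 3 := by norm_num
      have e2 : ((2 : ℕ) : F) = 2 := by norm_num
      have e1 : ((1 : ℕ) : F) = 1 := by norm_num
      rw [e3, e2, e1, one_smul]
      have e4 : ((4 : ℕ) : F) = 4 := by norm_num
      rw [e4] at h2
      exact h2
    -- one of the three is scalar
    have hex : ∃ k : ℕ, (k = 1 ∨ k = 2 ∨ k = 3) ∧ ∃ d : F, mat R (y k) = d • (1 : Matrix ι ι F) := by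
      by_contra hcon
      push Not at hcon
      have t1 := h.trace_zero (y 1) (fun d => hcon 1 (Or.inl rfl) d)
      have t2 := h.trace_zero (y 2) (fun d => hcon 2 (Or.inr (Or.inl rfl)) d)
      have t3 := h.trace_zero (y 3) (fun d => hcon 3 (Or.inr (Or.inr rfl)) d)
      rw [t1, t2, t3] at hsum
      have h40 : (4 : F) = 0 := by linear_combination -hsum
      have : (4 : F) = 2 * 2 := by norm_num
      rw [this] at h40
      rcases mul_eq_zero.1 h40 with h0 | h0 <;> exact h.two h0
    obtain ⟨k, hk123, d, hd⟩ := hex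
    -- `m ^ k` commutes with `a`
    have hyc : ∀ w : GL ι F, ((y k : R) : GL ι F) * w = w * ((y k : R) : GL ι F) :=
      fun w => scalar_comm _ _ d hd
    have hconj : m ^ k * (a : GL ι F) * (m ^ k)⁻¹ = (a : GL ι F) * ((y k : R) : GL ι F) := by
      show _ = (a : GL ι F) * ((a⁻¹ * ⟨m ^ k * (a : GL ι F) * (m ^ k)⁻¹, hmem k⟩ : R) : GL ι F)
      simp only [Subgroup.coe_mul, Subgroup.coe_inv]
      group
    have h1 := conj_pow_central (m ^ k) (a : GL ι F) ((y k : R) : GL ι F) hyc hconj 5
    have hmk5 : (m ^ k) ^ 5 = 1 := by rw [← pow_mul, mul_comm, pow_mul, hm5, one_pow]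
    rw [hmk5, one_mul, inv_one, mul_one] at h1
    have h3 : ((y k : R) : GL ι F) ^ 5 = 1 := by
      have := mul_left_cancel (a := (a : GL ι F)) (b := 1) (c := ((y k : R) : GL ι F) ^ 5)
        (by rw [mul_one]; exact h1)
      exact this.symm
    have h4 : ((y k : R) : GL ι F) ^ 4 = 1 := by
      have := h.pow_four_of_scalar (y k) d hd
      have := congrArg (fun z : R => (z : GL ι F)) this
      simpa using this
    have h5' : ((y k : R) : GL ι F) = 1 := by
      have : ((y k : R) : GL ι F) ^ 5 = ((y k : R) : GL ι F) ^ 4 * ((y k : R) : GL ι F) := by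
        rw [pow_succ]
      rw [this, h4, one_mul] at h3
      exact h3
    rw [h5', mul_one] at hconj
    have hck : m ^ k * (a : GL ι F) = (a : GL ι F) * m ^ k := by
      calc m ^ k * (a : GL ι F) = (m ^ k * (a : GL ι F) * (m ^ k)⁻¹) * m ^ k := by group
        _ = (a : GL ι F) * m ^ k := by rw [hconj]
    -- hence so does `m`
    have hcomm : Commute (m ^ k) (a : GL ι F) := hck
    rcases hk123 with rfl | rfl | rfl
    · rw [pow_one] at hck; exact hck
    · have h6 : m = (m ^ 2) ^ 3 := by
        rw [← pow_mul]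
        calc m = m ^ 5 * m := by rw [hm5, one_mul]
          _ = m ^ (2 * 3) := by rw [← pow_succ]
      have := (hcomm.pow_left 3).eq
      rw [← h6] at this
      exact this
    · have h6 : m = (m ^ 3) ^ 2 := by
        rw [← pow_mul]
        calc m = m ^ 5 * m := by rw [hm5, one_mul]
          _ = m ^ (3 * 2) := by rw [← pow_succ]
      have := (hcomm.pow_left 2).eq
      rw [← h6] at this
      exact this
  -- so `m` is scalar
  obtain ⟨d, hd⟩ : ∃ d : F, (m : Matrix ι ι F) = d • (1 : Matrix ι ι F) := by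
    apply h.sc
    rintro s ⟨y, hy, rfl⟩
    have := congrArg (fun z : GL ι F => (z : Matrix ι ι F)) (hcent ⟨y, hy⟩)
    simpa using this
  haveI := h.nonempty
  have hn' : n = (d - 1) • (1 : Matrix ι ι F) := by
    rw [hn, hd, sub_smul, one_smul]
  rw [hn', Matrix.smul_mul, Matrix.mul_smul, Matrix.one_mul, smul_smul] at hq
  have h0 : ((d - 1) * (d - 1)) • (1 : Matrix ι ι F) = (0 : F) • (1 : Matrix ι ι F) := by
    rw [hq, zero_smul]
  have h1 := smul_one_injective _ _ h0
  have hd1 : d = 1 := by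
    rcases mul_eq_zero.1 h1 with h2 | h2 <;> linear_combination h2
  apply Units.ext
  rw [hd, hd1, one_smul, Units.val_one]

end J

end Cfsg.Agent.Lib.Helper12.ST64
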