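import Mathlib
import Cfsg.Prelude.Def_GeometricClasses
import Cfsg.Agent.Lib.Helper12.ST64C
import Cfsg.Agent.Lib.Helper13.Leaf6000

/-! Helper12 library (ST64, part K): the structure `H64` for a subgroup `R ≤ GL₄(F)` of order `2⁶`
satisfying `IsLinearSymplecticTypeData 2 R`. -/

set_option autoImplicit false
set_option linter.unusedSectionVars false
set_option linter.unusedVariables false
set_option linter.style.haveILetI false

namespace Cfsg.Agent.Lib.Helper12.ST64

open Matrix Module Cfsg.Agent.Lib.Helper12.Ex32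
open scoped MatrixGroups commutatorElement

section K

variable {F : Type*} [Field F] [Fintype F]

theorem exists_H64_of_data (h2 : (2 : F) ≠ 0) (R : Subgroup (GL (Fin 4) F))
    (hR : Cfsg.Geo.IsLinearSymplecticTypeData 2 R) (hR6 : Nat.card R = 2 ^ 6) :
    ∃ (i : F) (ζ : R), H64 R i ζ := by
  classical
  letI : Fintype R := Fintype.ofFinite R
  have hcard : Fintype.card R = 64 := by
    rw [← Nat.card_eq_fintype_card, hR6]; norm_num
  have hc : Sc R := hR.absIrred.2
  have hZ : Nat.card (Subgroup.center R) = 4 := by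
    obtain ⟨p', e, -, -, hcases⟩ := hR.field
    rcases hcases with ⟨hodd, -⟩ | ⟨-, -, hz, -⟩ | ⟨-, -, -, h8, -⟩
    · exact absurd hodd (by decide)
    · exact hz
    · rw [hR6] at h8; norm_num at h8
  have hexp : Monoid.exponent R = 4 := by
    rw [hR.symplecticType.exponent_eq]; rfl
  have hexp' : ∀ x : R, x ^ 4 = 1 := by
    intro x
    have := Monoid.pow_exponent_eq_one x
    rwa [hexp] at this
  obtain ⟨hL1, hL2⟩ := Cfsg.Agent.Lib.Helper13.Leaf6000.L1 hR.symplecticType.pGroup hZ hexp
    hR.symplecticType.cyclic_of_characteristic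
  have hcomm_sq : ∀ u ∈ Subgroup.upperCentralSeries R 2, ∀ g : R, ⁅u, g⁆ ^ 2 = 1 := by
    intro u hu g
    have h1 := hL1 u hu g
    have h3 : ⁅u, g⁆ = (g * u * g⁻¹ * u⁻¹)⁻¹ := by
      rw [commutatorElement_def]; group
    rw [h3, inv_pow, h1, inv_one]
  have hι : Fintype.card (Fin 4) = 4 := Fintype.card_fin 4
  have hn : (Fintype.card (Fin 4) : F) ≠ 0 := by
    rw [hι]
    have : ((4 : ℕ) : F) = 2 * 2 := by norm_num
    rw [this]
    exact mul_ne_zero h2 h2
  have hRF : (Fintype.card R : F) ≠ 0 := by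
    rw [hcard]
    have : ((64 : ℕ) : F) = 2 ^ 6 := by norm_num
    rw [this]
    exact pow_ne_zero _ h2
  have hz2 := z2_eq_top R hc hn hRF h2 hι hcard hZ hcomm_sq hL2
  have h1' : ∀ u g : R, ⁅u, g⁆ ^ 2 = 1 := by
    intro u g
    apply hcomm_sq u _ g
    rw [hz2]
    exact Subgroup.mem_top _
  exact exists_H64 hc h2 hι hcard hZ hexp' hz2 h1'

end K

end Cfsg.Agent.Lib.Helper12.ST64
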