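import Mathlib
import Cfsg.Agent.Lib.Helper12.ST64D

/-! Helper12 library (ST64, part L): ring identities for the explicit normalizing elements of
`R = 4 ∘ 2^{1+4}`: the reflection `1 + a + b - ab` (twice a reflection), the Hurwitz unit
`-1 + I + J + IJ` (twice an element of order 3) and the rotation `1 + u`. -/

set_option autoImplicit false
set_option linter.unusedSectionVars false
set_option linter.unusedVariables false
set_option linter.unusedSimpArgs false

namespace Cfsg.Agent.Lib.Helper12.ST64

section refl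

variable {A : Type*} [Ring A]

/-- twice the reflection -/
def S2 (a b : A) : A := 1 + a + b - a * b

theorem refl_sq (a b : A) (haa : a * a = 1) (hbb : b * b = 1) (hba : b * a = a * b) :
    S2 a b * S2 a b = 4 := by
  have r1 := one_rules haa
  have r2 := one_rules hbb
  have r3 := comm_rules hba
  unfold S2
  rw [show (4 : A) = 1 + 1 + 1 + 1 by norm_num]
  simp only [mul_add, add_mul, mul_sub, sub_mul, mul_one, one_mul, mul_assoc, r1.1, r1.2, r2.1,
    r2.2, r3.1, r3.2]
  abel

theorem refl_cc (a b x : A) (hxa : x * a = a * x) (hxb : x * b = b * x) :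
    S2 a b * x = x * S2 a b := by
  have r1 := comm_rules hxa
  have r2 := comm_rules hxb
  unfold S2
  simp only [mul_add, add_mul, mul_sub, sub_mul, mul_one, one_mul, mul_assoc, r1.1, r1.2, r2.1,
    r2.2]

theorem refl_ac (a b x : A) (haa : a * a = 1) (hbb : b * b = 1) (hba : b * a = a * b)
    (hxa : x * a = -(a * x)) (hxb : x * b = b * x) :
    S2 a b * x = (b * x) * S2 a b := by
  have r1 := one_rules haa
  have r2 := one_rules hbb
  have r3 := comm_rules hba
  have r4 := anti_rules hxa
  have r5 := comm_rules hxb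
  unfold S2
  simp only [mul_add, add_mul, mul_sub, sub_mul, mul_one, one_mul, mul_assoc, r1.1, r1.2, r2.1,
    r2.2, r3.1, r3.2, r4.1, r4.2, r5.1, r5.2, mul_neg, neg_mul, neg_neg]
  abel

theorem refl_ca (a b x : A) (haa : a * a = 1) (hbb : b * b = 1) (hba : b * a = a * b)
    (hxa : x * a = a * x) (hxb : x * b = -(b * x)) :
    S2 a b * x = (a * x) * S2 a b := by
  have r1 := one_rules haa
  have r2 := one_rules hbb
  have r3 := comm_rules hba
  have r4 := comm_rules hxa
  have r5 := anti_rules hxb
  unfold S2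
  simp only [mul_add, add_mul, mul_sub, sub_mul, mul_one, one_mul, mul_assoc, r1.1, r1.2, r2.1,
    r2.2, r3.1, r3.2, r4.1, r4.2, r5.1, r5.2, mul_neg, neg_mul, neg_neg]
  abel

theorem refl_aa (a b x : A) (haa : a * a = 1) (hbb : b * b = 1) (hba : b * a = a * b)
    (hxa : x * a = -(a * x)) (hxb : x * b = -(b * x)) :
    S2 a b * x = (-(a * (b * x))) * S2 a b := by
  have r1 := one_rules haa
  have r2 := one_rules hbb
  have r3 := comm_rules hba
  have r4 := anti_rules hxa
  have r5 := anti_rules hxb
  unfold S2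
  simp only [mul_add, add_mul, mul_sub, sub_mul, mul_one, one_mul, mul_assoc, r1.1, r1.2, r2.1,
    r2.2, r3.1, r3.2, r4.1, r4.2, r5.1, r5.2, mul_neg, neg_mul, neg_neg]
  abel

end refl

section hurwitz

variable {A : Type*} [Ring A]

/-- twice the Hurwitz unit -/
def W2 (I J : A) : A := -1 + I + J + I * J

theorem hurwitz_sq (I J : A) (hII : I * I = -1) (hJJ : J * J = -1) (hJI : J * I = -(I * J)) :
    W2 I J * W2 I J = -4 - 2 * W2 I J := by
  have r1 := negone_rules hII
  have r2 := negone_rules hJJ
  have r3 := anti_rules hJI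
  unfold W2
  rw [show (4 : A) = 1 + 1 + 1 + 1 by norm_num, show (2 : A) = 1 + 1 by norm_num]
  simp only [mul_add, add_mul, mul_sub, sub_mul, mul_one, one_mul, mul_assoc, r1.1, r1.2, r2.1,
    r2.2, r3.1, r3.2, mul_neg, neg_mul, neg_neg]
  abel

theorem hurwitz_cc (I J x : A) (hxI : x * I = I * x) (hxJ : x * J = J * x) :
    W2 I J * x = x * W2 I J := by
  have r1 := comm_rules hxI
  have r2 := comm_rules hxJ
  unfold W2
  simp only [mul_add, add_mul, mul_sub, sub_mul, mul_one, one_mul, mul_assoc, r1.1, r1.2, r2.1,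
    r2.2, mul_neg, neg_mul, neg_neg]

theorem hurwitz_ac (I J x : A) (hII : I * I = -1) (hJJ : J * J = -1) (hJI : J * I = -(I * J))
    (hxI : x * I = -(I * x)) (hxJ : x * J = J * x) :
    W2 I J * x = (-(I * (J * x))) * W2 I J := by
  have r1 := negone_rules hII
  have r2 := negone_rules hJJ
  have r3 := anti_rules hJI
  have r4 := anti_rules hxI
  have r5 := comm_rules hxJ
  unfold W2
  simp only [mul_add, add_mul, mul_sub, sub_mul, mul_one, one_mul, mul_assoc, r1.1, r1.2, r2.1,
    r2.2, r3.1, r3.2, r4.1, r4.2, r5.1, r5.2, mul_neg, neg_mul, neg_neg]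
  abel

theorem hurwitz_ca (I J x : A) (hII : I * I = -1) (hJJ : J * J = -1) (hJI : J * I = -(I * J))
    (hxI : x * I = I * x) (hxJ : x * J = -(J * x)) :
    W2 I J * x = (-(J * x)) * W2 I J := by
  have r1 := negone_rules hII
  have r2 := negone_rules hJJ
  have r3 := anti_rules hJI
  have r4 := comm_rules hxI
  have r5 := anti_rules hxJ
  unfold W2
  simp only [mul_add, add_mul, mul_sub, sub_mul, mul_one, one_mul, mul_assoc, r1.1, r1.2, r2.1,
    r2.2, r3.1, r3.2, r4.1, r4.2, r5.1, r5.2, mul_neg, neg_mul, neg_neg]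
  abel

theorem hurwitz_aa (I J x : A) (hII : I * I = -1) (hJJ : J * J = -1) (hJI : J * I = -(I * J))
    (hxI : x * I = -(I * x)) (hxJ : x * J = -(J * x)) :
    W2 I J * x = (-(I * x)) * W2 I J := by
  have r1 := negone_rules hII
  have r2 := negone_rules hJJ
  have r3 := anti_rules hJI
  have r4 := anti_rules hxI
  have r5 := anti_rules hxJ
  unfold W2
  simp only [mul_add, add_mul, mul_sub, sub_mul, mul_one, one_mul, mul_assoc, r1.1, r1.2, r2.1,
    r2.2, r3.1, r3.2, r4.1, r4.2, r5.1, r5.2, mul_neg, neg_mul, neg_neg]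
  abel

end hurwitz

section rot

variable {A : Type*} [Ring A]

theorem rot_comm (u x : A) (hxu : x * u = u * x) : (1 + u) * x = x * (1 + u) := by
  rw [add_mul, mul_add, one_mul, mul_one, hxu]

theorem rot_anti (u x : A) (huu : u * u = -1) (hxu : x * u = -(u * x)) :
    (1 + u) * x = (u * x) * (1 + u) := by
  have r1 := negone_rules huu
  have r2 := anti_rules hxu
  simp only [mul_add, add_mul, mul_one, one_mul, mul_assoc, r1.1, r1.2, r2.1, r2.2, mul_neg,
    neg_mul, neg_neg]
  abel

end rot

end Cfsg.Agent.Lib.Helper12.ST64
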