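import Mathlib
import Cfsg.Prelude.Def_GeometricClasses
import Cfsg.Agent.Lib.Helper12.ST64J
import Cfsg.Agent.Lib.Helper12.ST64L

/-! Helper12 library (ST64, part M): elements of `GL₄(F)` normalizing `R = 4 ∘ 2^{1+4}`, I:
the criterion for membership in the normalizer, scalars, and the reflection
`s = (1 + a1 + a2 - a1 a2)/2`. -/

set_option autoImplicit false
set_option linter.unusedSectionVars false
set_option linter.unusedVariables false
set_option linter.style.haveILetI false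
set_option linter.unusedSimpArgs false

namespace Cfsg.Agent.Lib.Helper12.ST64

open Matrix Module Cfsg.Agent.Lib.Helper12.Ex32
open scoped MatrixGroups

section M

variable {ι : Type} [Fintype ι] [DecidableEq ι] {F : Type*} [Field F]

variable {R : Subgroup (GL ι F)} {i : F} {ζ : R}

/-- a unit of the matrix ring from a one-sided inverse -/
def glOfMul (M M' : Matrix ι ι F) (h : M * M' = 1) : GL ι F :=
  ⟨M, M', h, mul_eq_one_comm.1 h⟩

@[simp] theorem glOfMul_val (M M' : Matrix ι ι F) (h : M * M' = 1) :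
    ((glOfMul M M' h : GL ι F) : Matrix ι ι F) = M := rfl

/-- membership in the normalizer, in matrix terms -/
theorem mem_normalizer_of_mat [Finite R] (m : GL ι F)
    (h : ∀ x : R, ∃ y : R, (m : Matrix ι ι F) * mat R x = mat R y * (m : Matrix ι ι F)) :
    m ∈ Subgroup.normalizer (R : Set (GL ι F)) := by
  haveI : Finite (R : Set (GL ι F)) := ‹Finite R›
  apply Subgroup.mem_normalizer_fintype
  intro x hx
  obtain ⟨y, hy⟩ := h ⟨x, hx⟩
  have h1 : m * x * m⁻¹ = (y : GL ι F) := by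
    apply Units.ext
    rw [Units.val_mul, Units.val_mul]
    have : (m : Matrix ι ι F) * (x : Matrix ι ι F) = mat R y * (m : Matrix ι ι F) := hy
    rw [this, Matrix.mul_assoc, ← Units.val_mul, mul_inv_cancel, Units.val_one, Matrix.mul_one]
    rfl
  rw [h1]
  exact y.2

theorem scalar_mem_normalizer (u : GL ι F) (c : F)
    (hu : (u : Matrix ι ι F) = c • (1 : Matrix ι ι F)) :
    u ∈ Subgroup.normalizer (R : Set (GL ι F)) := by
  rw [Subgroup.mem_normalizer_iff]
  intro x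
  have h1 : u * x * u⁻¹ = x := by
    rw [scalar_comm u x c hu]; group
  rw [h1]

theorem ofNat_eq_smul (n : ℕ) [n.AtLeastTwo] :
    (OfNat.ofNat n : Matrix ι ι F) = (OfNat.ofNat n : F) • (1 : Matrix ι ι F) := by
  rw [← Algebra.algebraMap_eq_smul_one, map_ofNat]

variable [Fintype R] {a1 b1 a2 b2 : R}

theorem Sym4.trace_a1 (h : H64 R i ζ) (hs : Sym4 R a1 b1 a2 b2) : (mat R a1).trace = 0 :=
  h.trace_zero a1 (h.ns_of_anti a1 b1 hs.b1a1)

theorem Sym4.trace_a2 (h : H64 R i ζ) (hs : Sym4 R a1 b1 a2 b2) : (mat R a2).trace = 0 :=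
  h.trace_zero a2 (h.ns_of_anti a2 b2 hs.b2a2)

theorem Sym4.trace_a1a2 (h : H64 R i ζ) (hs : Sym4 R a1 b1 a2 b2) :
    (mat R a1 * mat R a2).trace = 0 := by
  rw [← mat_mul]
  apply h.trace_zero
  apply h.ns_of_anti _ b1
  rw [mat_mul, ← Matrix.mul_assoc, hs.b1a1, Matrix.neg_mul, Matrix.mul_assoc, ← hs.a2b1,
    Matrix.mul_assoc]

/-- the reflection `s = (1 + a1 + a2 - a1 a2)/2` normalizes `R` -/
theorem Sym4.exists_refl (h : H64 R i ζ) (hs : Sym4 R a1 b1 a2 b2) :
    ∃ s : GL ι F, s ∈ Subgroup.normalizer (R : Set (GL ι F)) ∧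
      (s : Matrix ι ι F) * (s : Matrix ι ι F) = 1 ∧ (s : Matrix ι ι F).trace = 2 := by
  have h2 := h.two
  set S : Matrix ι ι F := (2⁻¹ : F) • S2 (mat R a1) (mat R a2) with hS
  have hSS : S * S = 1 := by
    rw [hS, Matrix.smul_mul, Matrix.mul_smul, smul_smul, refl_sq _ _ hs.a1a1 hs.a2a2 hs.a2a1,
      ofNat_eq_smul, smul_smul]
    have : (2⁻¹ : F) * 2⁻¹ * 4 = 1 := by field_simp; norm_num
    rw [this, one_smul]
  refine ⟨glOfMul S S hSS, ?_, hSS, ?_⟩
  · apply mem_normalizer_of_mat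
    intro x
    rw [glOfMul_val]
    rcases h.comm a1 x with h1 | h1 <;> rcases h.comm a2 x with h3 | h3
    · refine ⟨x, ?_⟩
      rw [hS, Matrix.smul_mul, Matrix.mul_smul, refl_cc _ _ _ h1 h3]
    · refine ⟨a1 * x, ?_⟩
      rw [hS, Matrix.smul_mul, Matrix.mul_smul, mat_mul,
        refl_ca _ _ _ hs.a1a1 hs.a2a2 hs.a2a1 h1 h3]
    · refine ⟨a2 * x, ?_⟩
      rw [hS, Matrix.smul_mul, Matrix.mul_smul, mat_mul,
        refl_ac _ _ _ hs.a1a1 hs.a2a2 hs.a2a1 h1 h3]
    · refine ⟨ζ ^ 2 * (a1 * (a2 * x)), ?_⟩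
      rw [hS, Matrix.smul_mul, Matrix.mul_smul, mat_mul, mat_mul, mat_mul, h.zeta_sq,
        refl_aa _ _ _ hs.a1a1 hs.a2a2 hs.a2a1 h1 h3]
      simp
  · rw [glOfMul_val, hS, Matrix.trace_smul]
    unfold S2
    rw [Matrix.trace_sub, Matrix.trace_add, Matrix.trace_add, Matrix.trace_one, h.dim,
      hs.trace_a1 h, hs.trace_a2 h, hs.trace_a1a2 h]
    have : ((4 : ℕ) : F) = 4 := by norm_num
    rw [this, smul_eq_mul]
    field_simp
    norm_num

end M

end Cfsg.Agent.Lib.Helper12.ST64
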