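import Mathlib
import Cfsg.Prelude.Def_GeometricClasses
import Cfsg.Agent.Lib.Helper12.ST64M

/-! Helper12 library (ST64, part N): elements of `GL₄(F)` normalizing `R = 4 ∘ 2^{1+4}`, II:
the Hurwitz units `w = (-1 + I + J + IJ)/2` of order 3 attached to a quaternion pair `I, J` of
`R`, and their traces. -/

set_option autoImplicit false
set_option linter.unusedSectionVars false
set_option linter.unusedVariables false
set_option linter.style.haveILetI false
set_option linter.unusedSimpArgs false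

namespace Cfsg.Agent.Lib.Helper12.ST64

open Matrix Module Cfsg.Agent.Lib.Helper12.Ex32
open scoped MatrixGroups

section N

variable {ι : Type} [Fintype ι] [DecidableEq ι] {F : Type*} [Field F]

variable {R : Subgroup (GL ι F)} {i : F} {ζ : R}

/-- the Hurwitz unit (as a matrix) -/
def Wm (I J : Matrix ι ι F) : Matrix ι ι F := (2⁻¹ : F) • W2 I J

theorem Wm_sq (h2 : (2 : F) ≠ 0) (I J : Matrix ι ι F) (hII : I * I = -1) (hJJ : J * J = -1)
    (hJI : J * I = -(I * J)) : Wm I J * Wm I J = -1 - Wm I J := by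
  unfold Wm
  rw [Matrix.smul_mul, Matrix.mul_smul, smul_smul, hurwitz_sq I J hII hJJ hJI, smul_sub,
    smul_neg, ofNat_eq_smul, ofNat_eq_smul, Matrix.smul_mul, Matrix.one_mul, smul_smul, smul_smul]
  have e1 : (2⁻¹ : F) * 2⁻¹ * 4 = 1 := by field_simp; norm_num
  have e2 : (2⁻¹ : F) * 2⁻¹ * 2 = 2⁻¹ := by field_simp
  rw [e1, e2, one_smul]

theorem Wm_inv (h2 : (2 : F) ≠ 0) (I J : Matrix ι ι F) (hII : I * I = -1) (hJJ : J * J = -1)
    (hJI : J * I = -(I * J)) : Wm I J * (-1 - Wm I J) = 1 := by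
  rw [Matrix.mul_sub, Matrix.mul_neg, Matrix.mul_one, Wm_sq h2 I J hII hJJ hJI]
  abel

theorem Wm_cube (h2 : (2 : F) ≠ 0) (I J : Matrix ι ι F) (hII : I * I = -1) (hJJ : J * J = -1)
    (hJI : J * I = -(I * J)) : Wm I J * Wm I J * Wm I J = 1 := by
  rw [Matrix.mul_assoc, Wm_sq h2 I J hII hJJ hJI, Wm_inv h2 I J hII hJJ hJI]

variable [Fintype R]

/-- the Hurwitz unit of a quaternion pair of `R` normalizes `R` -/
theorem H64.hurwitz_mem (h : H64 R i ζ) (u v : R) (hII : mat R u * mat R u = -1)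
    (hJJ : mat R v * mat R v = -1) (hJI : mat R v * mat R u = -(mat R u * mat R v))
    (w : GL ι F) (hw : (w : Matrix ι ι F) = Wm (mat R u) (mat R v)) :
    w ∈ Subgroup.normalizer (R : Set (GL ι F)) := by
  apply mem_normalizer_of_mat
  intro x
  rw [hw]
  unfold Wm
  rcases h.comm u x with h1 | h1 <;> rcases h.comm v x with h3 | h3
  · refine ⟨x, ?_⟩
    rw [Matrix.smul_mul, Matrix.mul_smul, hurwitz_cc _ _ _ h1 h3]
  · refine ⟨ζ ^ 2 * (v * x), ?_⟩
    rw [Matrix.smul_mul, Matrix.mul_smul, mat_mul, mat_mul, h.zeta_sq,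
      hurwitz_ca _ _ _ hII hJJ hJI h1 h3]
    simp
  · refine ⟨ζ ^ 2 * (u * (v * x)), ?_⟩
    rw [Matrix.smul_mul, Matrix.mul_smul, mat_mul, mat_mul, mat_mul, h.zeta_sq,
      hurwitz_ac _ _ _ hII hJJ hJI h1 h3]
    simp
  · refine ⟨ζ ^ 2 * (u * x), ?_⟩
    rw [Matrix.smul_mul, Matrix.mul_smul, mat_mul, mat_mul, h.zeta_sq,
      hurwitz_aa _ _ _ hII hJJ hJI h1 h3]
    simp

/-- the trace of `W2 I J * Y` when `Y` commutes with elements anticommuting with `I`, `J`, `IJ` -/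
theorem trace_W2_mul (h2 : (2 : F) ≠ 0) (I J Y : Matrix ι ι F) (g1 g2 : R)
    (hI : mat R g1 * I = -(I * mat R g1)) (hJ : mat R g2 * J = -(J * mat R g2))
    (hIJ : mat R g1 * (I * J) = -(I * J * mat R g1))
    (hY1 : Y * mat R g1 = mat R g1 * Y) (hY2 : Y * mat R g2 = mat R g2 * Y) :
    (W2 I J * Y).trace = -Y.trace := by
  unfold W2
  rw [Matrix.add_mul, Matrix.add_mul, Matrix.add_mul, Matrix.trace_add, Matrix.trace_add,
    Matrix.trace_add, trace_zero_of_anti R h2 g1 I Y hI hY1, trace_zero_of_anti R h2 g2 J Y hJ hY2,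
    trace_zero_of_anti R h2 g1 (I * J) Y hIJ hY1, Matrix.neg_mul, Matrix.one_mul,
    Matrix.trace_neg]
  ring

end N

end Cfsg.Agent.Lib.Helper12.ST64
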