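import Mathlib
import Cfsg.Prelude.Def_GeometricClasses
import Cfsg.Agent.Lib.Helper12.ST64N

/-! Helper12 library (ST64, part O): the two classes of elements of order 3 normalizing
`R = 4 ∘ 2^{1+4}`: `w` (traces `-2, -2`, no fixed vectors) and `w w'` (traces `1, 1`, fixed
space of dimension 2). -/

set_option autoImplicit false
set_option linter.unusedSectionVars false
set_option linter.unusedVariables false
set_option linter.style.haveILetI false
set_option linter.unusedSimpArgs false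

namespace Cfsg.Agent.Lib.Helper12.ST64

open Matrix Module Cfsg.Agent.Lib.Helper12.Ex32
open scoped MatrixGroups

section O

variable {ι : Type} [Fintype ι] [DecidableEq ι] {F : Type*} [Field F]

variable {R : Subgroup (GL ι F)} {i : F} {ζ : R} {a1 b1 a2 b2 : R}

/-- the relations of a quaternion pair built from an anticommuting pair of involutions -/
theorem quat_rel (i : F) (hi : i * i = -1) (A B : Matrix ι ι F) (hAA : A * A = 1)
    (hBB : B * B = 1) (hBA : B * A = -(A * B)) :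
    (A * B) * (A * B) = -1 ∧ (i • A) * (i • A) = -1 ∧ (i • A) * (A * B) = -((A * B) * (i • A)) ∧
      A * (A * B) = -((A * B) * A) ∧ B * (i • A) = -((i • A) * B) ∧
      A * ((A * B) * (i • A)) = -((A * B) * (i • A) * A) := by
  have r1 := one_rules hAA
  have r2 := one_rules hBB
  have r3 := anti_rules hBA
  refine ⟨?_, ?_, ?_, ?_, ?_, ?_⟩
  · simp only [Matrix.mul_assoc, r1.1, r1.2, r2.1, r2.2, r3.1, r3.2, Matrix.mul_neg,
      Matrix.neg_mul, neg_neg, Matrix.mul_one]
  · rw [Matrix.smul_mul, Matrix.mul_smul, smul_smul, hAA, hi]; simp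
  · simp only [Matrix.mul_assoc, Matrix.smul_mul, Matrix.mul_smul, r1.1, r1.2, r2.1, r2.2, r3.1,
      r3.2, Matrix.mul_neg, Matrix.neg_mul, neg_neg, Matrix.mul_one, smul_neg]
  · simp only [Matrix.mul_assoc, r1.1, r1.2, r2.1, r2.2, r3.1, r3.2, Matrix.mul_neg,
      Matrix.neg_mul, neg_neg, Matrix.mul_one]
  · simp only [Matrix.mul_assoc, Matrix.smul_mul, Matrix.mul_smul, r1.1, r1.2, r2.1, r2.2, r3.1,
      r3.2, Matrix.mul_neg, Matrix.neg_mul, neg_neg, Matrix.mul_one, smul_neg]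
  · simp only [Matrix.mul_assoc, Matrix.smul_mul, Matrix.mul_smul, r1.1, r1.2, r2.1, r2.2, r3.1,
      r3.2, Matrix.mul_neg, Matrix.neg_mul, neg_neg, Matrix.mul_one, smul_neg]

/-- a quaternion pair commutes with everything commuting with the underlying involutions -/
theorem W2_comm (i : F) (A B Y : Matrix ι ι F) (hA : Y * A = A * Y) (hB : Y * B = B * Y) :
    Y * W2 (A * B) (i • A) = W2 (A * B) (i • A) * Y := by
  have r1 := comm_rules hA
  have r2 := comm_rules hB
  unfold W2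
  simp only [Matrix.mul_add, Matrix.add_mul, Matrix.mul_neg, Matrix.neg_mul, Matrix.mul_one,
    Matrix.one_mul, Matrix.mul_assoc, Matrix.smul_mul, Matrix.mul_smul, r1.1, r1.2, r2.1, r2.2]

variable [Fintype R]

/-- the element `w` of order 3 -/
theorem Sym4.exists_w (h : H64 R i ζ) (hs : Sym4 R a1 b1 a2 b2) :
    ∃ w : GL ι F, w ∈ Subgroup.normalizer (R : Set (GL ι F)) ∧
      (w : Matrix ι ι F) * (w : Matrix ι ι F) * (w : Matrix ι ι F) = 1 ∧
      (w : Matrix ι ι F).trace = -2 ∧ ((w : Matrix ι ι F) * (w : Matrix ι ι F)).trace = -2 := by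
  have h2 := h.two
  obtain ⟨hII, hJJ, hJI, hgI, hgJ, hgIJ⟩ :=
    quat_rel i h.i2 (mat R a1) (mat R b1) hs.a1a1 hs.b1b1 hs.b1a1
  set I := mat R a1 * mat R b1 with hI
  set J := i • mat R a1 with hJ
  have hu : mat R (a1 * b1) = I := by rw [mat_mul]
  have hv : mat R (ζ * a1) = J := by rw [mat_mul, h.zeta, Matrix.smul_mul, Matrix.one_mul]
  set w : GL ι F := glOfMul (Wm I J) (-1 - Wm I J) (Wm_inv h2 I J hII hJJ hJI) with hw
  have htr : (Wm I J).trace = -2 := by
    unfold Wm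
    rw [Matrix.trace_smul, ← Matrix.mul_one (W2 I J),
      trace_W2_mul (R := R) h2 I J 1 a1 b1 hgI hgJ hgIJ (by simp) (by simp), Matrix.trace_one, h.dim]
    have : ((4 : ℕ) : F) = 4 := by norm_num
    rw [this, smul_eq_mul]
    field_simp
    norm_num
  refine ⟨w, ?_, ?_, ?_, ?_⟩
  · apply h.hurwitz_mem (a1 * b1) (ζ * a1) (by rw [hu]; exact hII) (by rw [hv]; exact hJJ)
      (by rw [hu, hv]; exact hJI) w
    rw [hu, hv]
    rfl
  · exact Wm_cube h2 I J hII hJJ hJI
  · exact htr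
  · show (Wm I J * Wm I J).trace = -2
    rw [Wm_sq h2 I J hII hJJ hJI, Matrix.trace_sub, Matrix.trace_neg, Matrix.trace_one, h.dim, htr]
    norm_num

/-- the element `w w'` of order 3 -/
theorem Sym4.exists_ww (h : H64 R i ζ) (hs : Sym4 R a1 b1 a2 b2) :
    ∃ y : GL ι F, y ∈ Subgroup.normalizer (R : Set (GL ι F)) ∧
      (y : Matrix ι ι F) * (y : Matrix ι ι F) * (y : Matrix ι ι F) = 1 ∧
      (y : Matrix ι ι F).trace = 1 ∧ ((y : Matrix ι ι F) * (y : Matrix ι ι F)).trace = 1 := by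
  have h2 := h.two
  obtain ⟨hII, hJJ, hJI, hgI, hgJ, hgIJ⟩ :=
    quat_rel i h.i2 (mat R a1) (mat R b1) hs.a1a1 hs.b1b1 hs.b1a1
  obtain ⟨hII', hJJ', hJI', hgI', hgJ', hgIJ'⟩ :=
    quat_rel i h.i2 (mat R a2) (mat R b2) hs.a2a2 hs.b2b2 hs.b2a2
  set I := mat R a1 * mat R b1 with hI
  set J := i • mat R a1 with hJ
  set I' := mat R a2 * mat R b2 with hI'
  set J' := i • mat R a2 with hJ'
  have hu : mat R (a1 * b1) = I := by rw [mat_mul]
  have hv : mat R (ζ * a1) = J := by rw [mat_mul, h.zeta, Matrix.smul_mul, Matrix.one_mul]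
  have hu' : mat R (a2 * b2) = I' := by rw [mat_mul]
  have hv' : mat R (ζ * a2) = J' := by rw [mat_mul, h.zeta, Matrix.smul_mul, Matrix.one_mul]
  set w : GL ι F := glOfMul (Wm I J) (-1 - Wm I J) (Wm_inv h2 I J hII hJJ hJI) with hw
  set w' : GL ι F := glOfMul (Wm I' J') (-1 - Wm I' J') (Wm_inv h2 I' J' hII' hJJ' hJI') with hw'
  have hwN : w ∈ Subgroup.normalizer (R : Set (GL ι F)) := by
    apply h.hurwitz_mem (a1 * b1) (ζ * a1) (by rw [hu]; exact hII) (by rw [hv]; exact hJJ)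
      (by rw [hu, hv]; exact hJI) w
    rw [hu, hv]
    rfl
  have hwN' : w' ∈ Subgroup.normalizer (R : Set (GL ι F)) := by
    apply h.hurwitz_mem (a2 * b2) (ζ * a2) (by rw [hu']; exact hII') (by rw [hv']; exact hJJ')
      (by rw [hu', hv']; exact hJI') w'
    rw [hu', hv']
    rfl
  -- `W2 I' J'` commutes with `a1`, `b1`
  have hc1 : W2 I' J' * mat R a1 = mat R a1 * W2 I' J' :=
    (W2_comm i (mat R a2) (mat R b2) (mat R a1) hs.a2a1.symm hs.b2a1.symm).symm
  have hc2 : W2 I' J' * mat R b1 = mat R b1 * W2 I' J' :=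
    (W2_comm i (mat R a2) (mat R b2) (mat R b1) hs.a2b1.symm hs.b2b1.symm).symm
  -- `W2 I J` commutes with `W2 I' J'`
  have hcomm : Wm I J * Wm I' J' = Wm I' J' * Wm I J := by
    unfold Wm
    rw [Matrix.smul_mul, Matrix.mul_smul, Matrix.smul_mul, Matrix.mul_smul]
    congr 2
    exact (W2_comm i (mat R a1) (mat R b1) (W2 I' J') hc1 hc2).symm
  have htr : (Wm I J).trace = -2 := by
    unfold Wm
    rw [Matrix.trace_smul, ← Matrix.mul_one (W2 I J),
      trace_W2_mul (R := R) h2 I J 1 a1 b1 hgI hgJ hgIJ (by simp) (by simp), Matrix.trace_one, h.dim]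
    have : ((4 : ℕ) : F) = 4 := by norm_num
    rw [this, smul_eq_mul]
    field_simp
    norm_num
  have htr' : (Wm I' J').trace = -2 := by
    unfold Wm
    rw [Matrix.trace_smul, ← Matrix.mul_one (W2 I' J'),
      trace_W2_mul (R := R) h2 I' J' 1 a2 b2 hgI' hgJ' hgIJ' (by simp) (by simp),
      Matrix.trace_one, h.dim]
    have : ((4 : ℕ) : F) = 4 := by norm_num
    rw [this, smul_eq_mul]
    field_simp
    norm_num
  have htrww : (Wm I J * Wm I' J').trace = 1 := by
    have e1 : Wm I J * Wm I' J' = (2⁻¹ : F) • (W2 I J * Wm I' J') := by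
      unfold Wm; rw [Matrix.smul_mul]
    rw [e1, Matrix.trace_smul,
      trace_W2_mul (R := R) h2 I J (Wm I' J') a1 b1 hgI hgJ hgIJ
        (by unfold Wm; rw [Matrix.smul_mul, Matrix.mul_smul, hc1])
        (by unfold Wm; rw [Matrix.smul_mul, Matrix.mul_smul, hc2]), htr', smul_eq_mul]
    field_simp
  refine ⟨w * w', Subgroup.mul_mem _ hwN hwN', ?_, ?_, ?_⟩
  · show (Wm I J * Wm I' J') * (Wm I J * Wm I' J') * (Wm I J * Wm I' J') = 1
    have e3 : (Wm I J * Wm I' J') * (Wm I J * Wm I' J') * (Wm I J * Wm I' J') =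
        (Wm I J * Wm I J * Wm I J) * (Wm I' J' * Wm I' J' * Wm I' J') := by
      have r := comm_rules hcomm.symm
      simp only [Matrix.mul_assoc, r.1, r.2]
    rw [e3, Wm_cube h2 I J hII hJJ hJI, Wm_cube h2 I' J' hII' hJJ' hJI', Matrix.one_mul]
  · exact htrww
  · show ((Wm I J * Wm I' J') * (Wm I J * Wm I' J')).trace = 1
    have e3 : (Wm I J * Wm I' J') * (Wm I J * Wm I' J') =
        (Wm I J * Wm I J) * (Wm I' J' * Wm I' J') := by
      have r := comm_rules hcomm.symm
      simp only [Matrix.mul_assoc, r.1, r.2]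
    rw [e3, Wm_sq h2 I J hII hJJ hJI, Wm_sq h2 I' J' hII' hJJ' hJI']
    have e4 : (-1 - Wm I J) * (-1 - Wm I' J') =
        1 + Wm I J + Wm I' J' + Wm I J * Wm I' J' := by noncomm_ring
    rw [e4, Matrix.trace_add, Matrix.trace_add, Matrix.trace_add, Matrix.trace_one, h.dim, htr,
      htr', htrww]
    norm_num

end O

end Cfsg.Agent.Lib.Helper12.ST64
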