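import Mathlib
import Cfsg.Agent.Lib.Helper12.Ex32O

/-! Helper12 library (ST64, part P): five pairwise anticommuting involutions `T 0, …, T 4` in a
matrix ring; the product `H0` of the four rotations `1 + T_j T_{j+1}` moves `T j` to `± T (j+1)`,
so `H0 ^ n = 1` forces `5 ∣ n`. -/

set_option autoImplicit false
set_option linter.unusedSectionVars false
set_option linter.unusedVariables false
set_option linter.unusedSimpArgs false

namespace Cfsg.Agent.Lib.Helper12.ST64

open Matrix Cfsg.Agent.Lib.Helper12.Ex32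
open Fin.NatCast

section P

variable {ι : Type} [Fintype ι] [DecidableEq ι] {F : Type*} [Field F]

variable (T : Fin 5 → Matrix ι ι F)

/-- `M` moves `T j` to `± T k` -/
def Mv (M : Matrix ι ι F) (j k : Fin 5) : Prop :=
  M * T j = T k * M ∨ M * T j = -(T k * M)

theorem Mv.mul {M M' : Matrix ι ι F} {j k l : Fin 5} (h' : Mv T M' j k) (h : Mv T M k l) :
    Mv T (M * M') j l := by
  unfold Mv at *
  rcases h' with h' | h' <;> rcases h with h | h
  · left; rw [Matrix.mul_assoc, h', ← Matrix.mul_assoc, h, Matrix.mul_assoc]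
  · right; rw [Matrix.mul_assoc, h', ← Matrix.mul_assoc, h, Matrix.neg_mul, Matrix.mul_assoc]
  · right
    rw [Matrix.mul_assoc, h', Matrix.mul_neg, ← Matrix.mul_assoc, h, Matrix.mul_assoc]
  · left
    rw [Matrix.mul_assoc, h', Matrix.mul_neg, ← Matrix.mul_assoc, h, Matrix.neg_mul, neg_neg,
      Matrix.mul_assoc]

theorem Mv_one (j : Fin 5) : Mv T 1 j j := by
  left; rw [Matrix.one_mul, Matrix.mul_one]

/-- the rotation -/
def Grot (j k : Fin 5) : Matrix ι ι F := 1 + T j * T k

variable {T}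

theorem Mv_rot_a (hsq : ∀ j, T j * T j = 1) (hanti : ∀ j k, j ≠ k → T k * T j = -(T j * T k))
    (j k : Fin 5) (hjk : j ≠ k) : Mv T (Grot T j k) j k := by
  right
  unfold Grot
  rw [rot_a (T j) (T k) (hsq j) (hsq k) (hanti j k hjk), Matrix.neg_mul]

theorem Mv_rot_b (hsq : ∀ j, T j * T j = 1) (hanti : ∀ j k, j ≠ k → T k * T j = -(T j * T k))
    (j k : Fin 5) (hjk : j ≠ k) : Mv T (Grot T j k) k j := by
  left
  unfold Grot
  exact rot_b (T j) (T k) (hsq j) (hsq k) (hanti j k hjk)

theorem Mv_rot_c (hanti : ∀ j k, j ≠ k → T k * T j = -(T j * T k))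
    (j k l : Fin 5) (hlj : l ≠ j) (hlk : l ≠ k) : Mv T (Grot T j k) l l := by
  left
  unfold Grot
  exact rot_c (T j) (T k) (T l) (hanti j l hlj.symm) (hanti k l hlk.symm)

variable (T) in
/-- the product of the four rotations -/
def H0 : Matrix ι ι F := Grot T 0 1 * Grot T 1 2 * Grot T 2 3 * Grot T 3 4

theorem Mv_H0 (hsq : ∀ j, T j * T j = 1) (hanti : ∀ j k, j ≠ k → T k * T j = -(T j * T k))
    (l : Fin 5) : Mv T (H0 T) l (l + 1) := by
  have a := Mv_rot_a hsq hanti
  have b := Mv_rot_b hsq hanti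
  have c := Mv_rot_c hanti
  unfold H0
  fin_cases l
  · -- `T 0 ↦ T 1`
    exact Mv.mul T (c 3 4 0 (by decide) (by decide))
      (Mv.mul T (c 2 3 0 (by decide) (by decide))
        (Mv.mul T (c 1 2 0 (by decide) (by decide)) (a 0 1 (by decide))))
  · exact Mv.mul T (c 3 4 1 (by decide) (by decide))
      (Mv.mul T (c 2 3 1 (by decide) (by decide))
        (Mv.mul T (a 1 2 (by decide)) (c 0 1 2 (by decide) (by decide))))
  · exact Mv.mul T (c 3 4 2 (by decide) (by decide))
      (Mv.mul T (a 2 3 (by decide))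
        (Mv.mul T (c 1 2 3 (by decide) (by decide)) (c 0 1 3 (by decide) (by decide))))
  · exact Mv.mul T (a 3 4 (by decide))
      (Mv.mul T (c 2 3 4 (by decide) (by decide))
        (Mv.mul T (c 1 2 4 (by decide) (by decide)) (c 0 1 4 (by decide) (by decide))))
  · exact Mv.mul T (b 3 4 (by decide))
      (Mv.mul T (b 2 3 (by decide))
        (Mv.mul T (b 1 2 (by decide)) (b 0 1 (by decide))))

theorem Mv_H0_pow (hsq : ∀ j, T j * T j = 1) (hanti : ∀ j k, j ≠ k → T k * T j = -(T j * T k))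
    (n : ℕ) (l : Fin 5) : Mv T (H0 T ^ n) l (l + (n : Fin 5)) := by
  induction n generalizing l with
  | zero => simpa using Mv_one T l
  | succ n ih =>
    rw [pow_succ]
    have h1 := Mv_H0 hsq hanti l
    have h2 := ih (l + 1)
    have : l + ((n + 1 : ℕ) : Fin 5) = l + 1 + (n : Fin 5) := by
      rw [Nat.cast_add, Nat.cast_one, add_comm (n : Fin 5) 1, add_assoc]
    rw [this]
    exact Mv.mul T h1 h2

/-- `H0 ^ n = 1` forces `5 ∣ n` -/
theorem five_dvd_of_H0_pow (h2 : (2 : F) ≠ 0) [Nonempty ι] (hsq : ∀ j, T j * T j = 1)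
    (hanti : ∀ j k, j ≠ k → T k * T j = -(T j * T k)) (n : ℕ) (hn : H0 T ^ n = 1) : 5 ∣ n := by
  have h1 := Mv_H0_pow hsq hanti n 0
  rw [hn, zero_add] at h1
  rw [← Fin.natCast_eq_zero (n := 5)]
  by_contra hne
  have hanti' := hanti 0 (n : Fin 5) (fun h => hne h.symm)
  have hsq0 := hsq (n : Fin 5)
  unfold Mv at h1
  simp only [Matrix.one_mul, Matrix.mul_one] at h1
  -- `T 0 = ± T n`
  have key : (2 : F) • (1 : Matrix ι ι F) = 0 := by
    rcases h1 with h1 | h1
    · rw [h1, hsq0] at hanti'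
      rw [two_smul]
      nth_rewrite 1 [hanti']
      rw [neg_add_cancel]
    · rw [h1, Matrix.mul_neg, Matrix.neg_mul, hsq0, neg_neg] at hanti'
      rw [two_smul]
      nth_rewrite 1 [← hanti']
      rw [neg_add_cancel]
  obtain ⟨j⟩ := ‹Nonempty ι›
  have := congrFun (congrFun key j) j
  simp at this
  exact h2 this

end P

end Cfsg.Agent.Lib.Helper12.ST64
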