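import Mathlib
import Cfsg.Prelude.Def_GeometricClasses
import Cfsg.Agent.Lib.Helper12.ST64O
import Cfsg.Agent.Lib.Helper12.ST64P

/-! Helper12 library (ST64, part Q): an element of order 5 normalizing `R = 4 ∘ 2^{1+4}`: a power
of the product of the four rotations attached to five pairwise anticommuting involutions. -/

set_option autoImplicit false
set_option linter.unusedSectionVars false
set_option linter.unusedVariables false
set_option linter.style.haveILetI false
set_option linter.unusedSimpArgs false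

namespace Cfsg.Agent.Lib.Helper12.ST64

open Matrix Module Cfsg.Agent.Lib.Helper12.Ex32
open scoped MatrixGroups

section Q

variable {ι : Type} [Fintype ι] [DecidableEq ι] {F : Type*} [Field F]

variable {R : Subgroup (GL ι F)} {i : F} {ζ : R} {a1 b1 a2 b2 : R}

/-- the five involutions (as elements of `R`) -/
def five (ζ a1 b1 a2 b2 : R) : Fin 5 → R :=
  ![a1, b1, ζ * (a1 * b1 * a2), ζ * (a1 * b1 * b2), a1 * b1 * a2 * b2]

/-- the five involutions (as matrices) -/
def fiveM (R : Subgroup (GL ι F)) (ζ a1 b1 a2 b2 : R) : Fin 5 → Matrix ι ι F :=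
  fun j => mat R (five ζ a1 b1 a2 b2 j)

theorem fiveM_rel (h : H64 R i ζ) (hs : Sym4 R a1 b1 a2 b2) :
    (∀ j, fiveM R ζ a1 b1 a2 b2 j * fiveM R ζ a1 b1 a2 b2 j = 1) ∧
      ∀ j k, j ≠ k → fiveM R ζ a1 b1 a2 b2 k * fiveM R ζ a1 b1 a2 b2 j =
        -(fiveM R ζ a1 b1 a2 b2 j * fiveM R ζ a1 b1 a2 b2 k) := by
  have q1 := one_rules hs.a1a1
  have q2 := one_rules hs.b1b1
  have q3 := one_rules hs.a2a2
  have q4 := one_rules hs.b2b2
  have r1 := anti_rules hs.b1a1
  have r2 := anti_rules hs.b2a2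
  have r3 := comm_rules hs.a2a1
  have r4 := comm_rules hs.b2a1
  have r5 := comm_rules hs.a2b1
  have r6 := comm_rules hs.b2b1
  have hz := h.zeta
  have hi2 := h.i2
  constructor
  · intro j
    fin_cases j <;>
      simp only [fiveM, five, Fin.zero_eta, Fin.mk_one, Fin.reduceFinMk, Matrix.cons_val_zero,
        Matrix.cons_val_one, Matrix.cons_val, Fin.isValue, mat_mul, hz, Matrix.mul_assoc,
        Matrix.smul_mul, Matrix.mul_smul, Matrix.one_mul, Matrix.mul_one, smul_smul, hi2,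
        q1.1, q1.2, q2.1, q2.2, q3.1, q3.2, q4.1, q4.2, r1.1, r1.2, r2.1, r2.2, r3.1, r3.2,
        r4.1, r4.2, r5.1, r5.2, r6.1, r6.2, Matrix.mul_neg, Matrix.neg_mul, neg_neg, smul_neg,
        neg_smul, one_smul]
  · intro j k hjk
    fin_cases j <;> fin_cases k <;>
      first
      | exact absurd rfl hjk
      | simp only [fiveM, five, Fin.zero_eta, Fin.mk_one, Fin.reduceFinMk, Matrix.cons_val_zero,
          Matrix.cons_val_one, Matrix.cons_val, Fin.isValue, mat_mul, hz, Matrix.mul_assoc,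
          Matrix.smul_mul, Matrix.mul_smul, Matrix.one_mul, Matrix.mul_one, smul_smul, hi2,
          q1.1, q1.2, q2.1, q2.2, q3.1, q3.2, q4.1, q4.2, r1.1, r1.2, r2.1, r2.2, r3.1, r3.2,
          r4.1, r4.2, r5.1, r5.2, r6.1, r6.2, Matrix.mul_neg, Matrix.neg_mul, neg_neg, smul_neg,
          neg_smul, one_smul]

variable [Fintype R]

/-- the rotation attached to two of the five involutions normalizes `R` -/
theorem H64.rot_mem (h : H64 R i ζ) (u : R) (huu : mat R u * mat R u = -1) (g : GL ι F)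
    (hg : (g : Matrix ι ι F) = 1 + mat R u) : g ∈ Subgroup.normalizer (R : Set (GL ι F)) := by
  apply mem_normalizer_of_mat
  intro x
  rw [hg]
  rcases h.comm u x with h1 | h1
  · exact ⟨x, rot_comm _ _ h1⟩
  · refine ⟨u * x, ?_⟩
    rw [mat_mul]
    exact rot_anti _ _ huu h1

theorem rot_inv' (h2 : (2 : F) ≠ 0) (a b : Matrix ι ι F) (haa : a * a = 1) (hbb : b * b = 1)
    (hba : b * a = -(a * b)) : (1 + a * b) * ((2⁻¹ : F) • (1 - a * b)) = 1 := by
  rw [Matrix.mul_smul, (rot_inv a b haa hbb hba).1, ofNat_eq_smul, smul_smul,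
    inv_mul_cancel₀ h2, one_smul]

/-- an element of order 5 normalizing `R` -/
theorem Sym4.exists_five (h : H64 R i ζ) (hs : Sym4 R a1 b1 a2 b2) [Finite (GL ι F)] :
    ∃ g : GL ι F, g ∈ Subgroup.normalizer (R : Set (GL ι F)) ∧ orderOf g = 5 := by
  have h2 := h.two
  haveI := h.nonempty
  obtain ⟨hsq, hanti⟩ := fiveM_rel h hs
  set T := fiveM R ζ a1 b1 a2 b2 with hT
  set t := five ζ a1 b1 a2 b2 with ht
  have hTt : ∀ j, T j = mat R (t j) := fun j => rfl
  -- the rotations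
  have hrot : ∀ j k : Fin 5, j ≠ k → ∃ g : GL ι F,
      g ∈ Subgroup.normalizer (R : Set (GL ι F)) ∧ (g : Matrix ι ι F) = Grot T j k := by
    intro j k hjk
    refine ⟨glOfMul (Grot T j k) ((2⁻¹ : F) • (1 - T j * T k))
      (rot_inv' h2 _ _ (hsq j) (hsq k) (hanti j k hjk)), ?_, rfl⟩
    apply h.rot_mem (t j * t k) _ _ (by rw [mat_mul]; rfl)
    rw [mat_mul, ← hTt, ← hTt]
    exact rot_sq _ _ (hsq j) (hsq k) (hanti j k hjk)
  obtain ⟨g01, hg01, e01⟩ := hrot 0 1 (by decide)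
  obtain ⟨g12, hg12, e12⟩ := hrot 1 2 (by decide)
  obtain ⟨g23, hg23, e23⟩ := hrot 2 3 (by decide)
  obtain ⟨g34, hg34, e34⟩ := hrot 3 4 (by decide)
  set h0 : GL ι F := g01 * g12 * g23 * g34 with hh0
  have hh0N : h0 ∈ Subgroup.normalizer (R : Set (GL ι F)) :=
    Subgroup.mul_mem _ (Subgroup.mul_mem _ (Subgroup.mul_mem _ hg01 hg12) hg23) hg34
  have hh0M : (h0 : Matrix ι ι F) = H0 T := by
    rw [hh0, Units.val_mul, Units.val_mul, Units.val_mul, e01, e12, e23, e34]
    rfl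
  have h5 : 5 ∣ orderOf h0 := by
    apply five_dvd_of_H0_pow h2 hsq hanti
    rw [← hh0M, ← Units.val_pow_eq_pow_val, pow_orderOf_eq_one, Units.val_one]
  have hpos : orderOf h0 ≠ 0 := (orderOf_pos h0).ne'
  exact ⟨h0 ^ (orderOf h0 / 5), Subgroup.pow_mem _ hh0N _, orderOf_pow_orderOf_div hpos h5⟩

end Q

end Cfsg.Agent.Lib.Helper12.ST64
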