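import Mathlib
import Cfsg.Prelude.Def_GeometricClasses
import Cfsg.Agent.Lib.Helper12.ST64J
import Cfsg.Agent.Lib.Helper13.Leaf6000
import Cfsg.Agent.Lib.Helper11.Leaf6000B

/-! Helper12 library (ST64, part R): the forward direction of S6000.  If every element of
`SL₄(p)` of order `r` modulo scalars is conjugate into the normalizer of `R = 4 ∘ 2^{1+4}` then
`r = 2`, or `r = 3` and `p ≡ 2 (mod 3)`, or `r = 5` and `p` has order 4 modulo 5. -/

set_option autoImplicit false
set_option linter.unusedSectionVars false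
set_option linter.unusedVariables false
set_option linter.style.haveILetI false
set_option linter.unusedSimpArgs false

namespace Cfsg.Agent.Lib.Helper12.ST64

open Matrix Module Cfsg.Agent.Lib.Helper12.Ex32
open scoped MatrixGroups

section conj

variable {ι : Type} [Fintype ι] [DecidableEq ι] {F : Type*} [Field F]

theorem mem_sl_iff (x : GL ι F) :
    x ∈ Cfsg.Geo.specialLinear ι F ↔ (x : Matrix ι ι F).det = 1 := by
  unfold Cfsg.Geo.specialLinear
  rw [MonoidHom.mem_ker]
  constructor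
  · intro h
    have := congrArg Units.val h
    simpa using this
  · intro h
    apply Units.ext
    simpa using h

theorem conj_pow' (g x : GL ι F) (n : ℕ) : (g⁻¹ * x * g) ^ n = g⁻¹ * x ^ n * g := by
  induction n with
  | zero => simp
  | succ n ih => rw [pow_succ, ih, pow_succ]; group

theorem conj_trace (g x : GL ι F) :
    ((g⁻¹ * x * g : GL ι F) : Matrix ι ι F).trace = (x : Matrix ι ι F).trace := by
  rw [Units.val_mul, Units.val_mul, Matrix.trace_mul_cycle, ← Units.val_mul, mul_inv_cancel,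
    Units.val_one, Matrix.one_mul]

theorem conj_inv_trace (g x : GL ι F) :
    (((g⁻¹ * x * g)⁻¹ : GL ι F) : Matrix ι ι F).trace =
      ((x⁻¹ : GL ι F) : Matrix ι ι F).trace := by
  have : (g⁻¹ * x * g)⁻¹ = g⁻¹ * x⁻¹ * g := by group
  rw [this, conj_trace]

theorem scalar_of_conj_scalar (g x : GL ι F) (d : F)
    (h : ((g⁻¹ * x * g : GL ι F) : Matrix ι ι F) = d • (1 : Matrix ι ι F)) :
    (x : Matrix ι ι F) = d • (1 : Matrix ι ι F) := by
  have h2 : (g⁻¹ * x * g) * g = g * (g⁻¹ * x * g) := scalar_comm _ g d h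
  have h1 : x = g⁻¹ * x * g := by
    calc x = g * (g⁻¹ * x * g) * g⁻¹ := by group
      _ = (g⁻¹ * x * g) * g * g⁻¹ := by rw [h2]
      _ = g⁻¹ * x * g := by group
  rw [h1]
  exact h

end conj

section arith

theorem not_dvd_three (p : ℕ) (hp : p.Prime) (h4 : p % 4 = 1) (h3 : p % 3 = 1) :
    ¬ p ∣ 24 ∧ ¬ p ∣ 20 ∧ ¬ p ∣ 12 ∧ ¬ p ∣ 4 ∧ ¬ p ∣ 36 := by
  have h13 : 13 ≤ p := by
    by_contra hlt
    have : p = 1 := by omega
    rw [this] at hp
    exact Nat.not_prime_one hp
  have key : ∀ N : ℕ, 0 < N → N ≤ 36 → ¬ 13 ∣ N → ¬ 25 ∣ N → ¬ p ∣ N := by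
    intro N hN0 hN h13' h25 hd
    have hle := Nat.le_of_dvd hN0 hd
    have hp' : p = 13 ∨ p = 25 := by omega
    rcases hp' with rfl | rfl
    · exact h13' hd
    · exact h25 hd
  refine ⟨key 24 (by norm_num) (by norm_num) (by norm_num) (by norm_num),
    key 20 (by norm_num) (by norm_num) (by norm_num) (by norm_num),
    key 12 (by norm_num) (by norm_num) (by norm_num) (by norm_num),
    key 4 (by norm_num) (by norm_num) (by norm_num) (by norm_num),
    key 36 (by norm_num) (by norm_num) (by norm_num) (by norm_num)⟩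

theorem not_dvd_five (p : ℕ) (hp : p.Prime) (h4 : p % 4 = 1) (h5 : p ≠ 5) :
    ¬ p ∣ 80 ∧ ¬ p ∣ 144 ∧ ¬ p ∣ 176 := by
  have h2 : ¬ p ∣ 2 := fun h => by
    have := (Nat.prime_dvd_prime_iff_eq hp Nat.prime_two).1 h
    omega
  have h16 : ¬ p ∣ 16 := fun h => h2 (hp.dvd_of_dvd_pow (show p ∣ 2 ^ 4 from h))
  refine ⟨?_, ?_, ?_⟩
  · intro h
    rw [show (80 : ℕ) = 16 * 5 from rfl] at h
    rcases (hp.dvd_mul).1 h with h | h
    · exact h16 h
    · exact h5 ((Nat.prime_dvd_prime_iff_eq hp (by norm_num)).1 h)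
  · intro h
    rw [show (144 : ℕ) = 16 * 3 ^ 2 from rfl] at h
    rcases (hp.dvd_mul).1 h with h | h
    · exact h16 h
    · have := (Nat.prime_dvd_prime_iff_eq hp Nat.prime_three).1 (hp.dvd_of_dvd_pow h)
      omega
  · intro h
    rw [show (176 : ℕ) = 16 * 11 from rfl] at h
    rcases (hp.dvd_mul).1 h with h | h
    · exact h16 h
    · have := (Nat.prime_dvd_prime_iff_eq hp (by norm_num)).1 h
      omega

theorem orderOf_two_zmod5 : orderOf (2 : ZMod 5) = 4 := by
  apply orderOf_eq_of_pow_and_pow_div_prime (by norm_num) (by decide)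
  intro q hq hq4
  have : q = 2 := by
    have h1 : q ∣ 2 ^ 2 := hq4
    exact (Nat.prime_dvd_prime_iff_eq hq Nat.prime_two).1 (hq.dvd_of_dvd_pow h1)
  subst this
  decide

theorem orderOf_three_zmod5 : orderOf (3 : ZMod 5) = 4 := by
  apply orderOf_eq_of_pow_and_pow_div_prime (by norm_num) (by decide)
  intro q hq hq4
  have : q = 2 := by
    have h1 : q ∣ 2 ^ 2 := hq4
    exact (Nat.prime_dvd_prime_iff_eq hq Nat.prime_two).1 (hq.dvd_of_dvd_pow h1)
  subst this
  decide

theorem mod_five_of_order (p : ℕ) (hp : p.Prime) (h5 : p ≠ 5)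
    (ho : orderOf (p : ZMod 5) ≠ 4) : p % 5 = 1 ∨ p % 5 = 4 := by
  have h0 : p % 5 ≠ 0 := by
    intro h
    have : 5 ∣ p := Nat.dvd_of_mod_eq_zero h
    exact h5 ((Nat.prime_dvd_prime_iff_eq (by norm_num) hp).1 this).symm
  have hlt : p % 5 < 5 := Nat.mod_lt _ (by norm_num)
  have hcast : ((p % 5 : ℕ) : ZMod 5) = (p : ZMod 5) := ZMod.natCast_mod p 5
  by_contra hcon
  have h23 : p % 5 = 2 ∨ p % 5 = 3 := by omega
  rcases h23 with h | h
  · rw [h] at hcast
    apply ho
    rw [← hcast]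
    exact orderOf_two_zmod5
  · rw [h] at hcast
    apply ho
    rw [← hcast]
    exact orderOf_three_zmod5

end arith

end Cfsg.Agent.Lib.Helper12.ST64
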