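import Mathlib
import Cfsg.Prelude.Def_GeometricClasses
import Cfsg.Agent.Lib.Helper12.ST64R

/-! Helper12 library (ST64, part S): the forward direction of S6000 (main theorem). -/

set_option autoImplicit false
set_option linter.unusedSectionVars false
set_option linter.unusedVariables false
set_option linter.style.haveILetI false
set_option linter.unusedSimpArgs false

namespace Cfsg.Agent.Lib.Helper12.ST64

open Matrix Module Cfsg.Agent.Lib.Helper12.Ex32
open scoped MatrixGroups

section S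

variable {F : Type*} [Field F] [Fintype F] {p : ℕ} [Fact p.Prime] [CharP F p]

variable {R : Subgroup (GL (Fin 4) F)} {i : F} {ζ : R}

/-- the hypothesis of the forward direction, applied to an element of order dividing `r` -/
theorem apply_H (r : ℕ)
    (H : ∀ x ∈ Cfsg.Geo.specialLinear (Fin 4) F,
      (∃ z : F, ((x ^ r : GL (Fin 4) F) : Matrix (Fin 4) (Fin 4) F) =
        z • (1 : Matrix (Fin 4) (Fin 4) F)) →
      (∀ z : F, (x : Matrix (Fin 4) (Fin 4) F) ≠ z • (1 : Matrix (Fin 4) (Fin 4) F)) →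
      ∃ g ∈ Cfsg.Geo.specialLinear (Fin 4) F, g⁻¹ * x * g ∈ Cfsg.Geo.subgroupNormalizer R)
    (x : GL (Fin 4) F) (hdet : (x : Matrix (Fin 4) (Fin 4) F).det = 1) (hxr : x ^ r = 1)
    (hns : ∀ z : F, (x : Matrix (Fin 4) (Fin 4) F) ≠ z • (1 : Matrix (Fin 4) (Fin 4) F)) :
    ∃ y : GL (Fin 4) F, y ∈ Subgroup.normalizer (R : Set (GL (Fin 4) F)) ∧
      ((y ^ r : GL (Fin 4) F) : Matrix (Fin 4) (Fin 4) F) =
        (1 : F) • (1 : Matrix (Fin 4) (Fin 4) F) ∧
      (y : Matrix (Fin 4) (Fin 4) F).trace = (x : Matrix (Fin 4) (Fin 4) F).trace ∧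
      ((y⁻¹ : GL (Fin 4) F) : Matrix (Fin 4) (Fin 4) F).trace =
        ((x⁻¹ : GL (Fin 4) F) : Matrix (Fin 4) (Fin 4) F).trace ∧
      (∀ d : F, (y : Matrix (Fin 4) (Fin 4) F) ≠ d • (1 : Matrix (Fin 4) (Fin 4) F)) ∧
      ∃ g : GL (Fin 4) F, y = g⁻¹ * x * g := by
  obtain ⟨g, -, hgN⟩ := H x ((mem_sl_iff x).2 hdet) ⟨1, by rw [hxr, Units.val_one, one_smul]⟩ hns
  refine ⟨g⁻¹ * x * g, hgN, ?_, conj_trace g x, conj_inv_trace g x, ?_, g, rfl⟩
  · rw [conj_pow', hxr, mul_one, inv_mul_cancel, Units.val_one, one_smul]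
  · intro d hd
    exact hns d (scalar_of_conj_scalar g x d hd)

variable [Fintype R]

/-- the forward direction -/
theorem fwd_main (h : H64 R i ζ) (hF : Fintype.card F = p) (hp4 : p % 4 = 1) (r : ℕ)
    [Fact r.Prime] (hΩ : r ∣ Nat.card ↥(Cfsg.Geo.specialLinear (Fin 4) F))
    (H : ∀ x ∈ Cfsg.Geo.specialLinear (Fin 4) F,
      (∃ z : F, ((x ^ r : GL (Fin 4) F) : Matrix (Fin 4) (Fin 4) F) =
        z • (1 : Matrix (Fin 4) (Fin 4) F)) →
      (∀ z : F, (x : Matrix (Fin 4) (Fin 4) F) ≠ z • (1 : Matrix (Fin 4) (Fin 4) F)) →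
      ∃ g ∈ Cfsg.Geo.specialLinear (Fin 4) F, g⁻¹ * x * g ∈ Cfsg.Geo.subgroupNormalizer R) :
    r = 2 ∨ (r = 3 ∧ p % 3 = 2) ∨ (r = 5 ∧ orderOf (p : ZMod 5) = 4) := by
  classical
  have hrp : r.Prime := Fact.out
  have hpp : p.Prime := Fact.out
  have hcast : ∀ N : ℕ, ((N : ℕ) : F) = 0 → p ∣ N := fun N hN => (CharP.cast_eq_zero_iff F p N).1 hN
  by_cases hr2 : r = 2
  · left; exact hr2
  right
  by_cases hr3 : r = 3
  · left
    subst hr3
    refine ⟨rfl, ?_⟩
    by_contra hp3
    have hp31 : p % 3 = 1 := by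
      have h0 : p % 3 ≠ 0 := by
        intro h0
        have : 3 ∣ p := Nat.dvd_of_mod_eq_zero h0
        have := (Nat.prime_dvd_prime_iff_eq Nat.prime_three hpp).1 this
        omega
      omega
    obtain ⟨hn24, hn20, hn12, hn4, hn36⟩ := not_dvd_three p hpp hp4 hp31
    have h3F : (3 : F) ≠ 0 := by
      intro h3
      have : ((3 : ℕ) : F) = 0 := by exact_mod_cast h3
      have := Nat.le_of_dvd (by norm_num) (hcast 3 this)
      have : p ∣ 12 := Dvd.dvd.trans (hcast 3 ‹_›) (by norm_num)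
      exact hn12 this
    obtain ⟨ω, hω⟩ := Cfsg.Agent.Lib.Helper11.Leaf.L6d (F := F) hF hp31
    obtain ⟨x, hdet, hx3, hns, htr⟩ := Cfsg.Agent.Lib.Helper11.Leaf.L6a h3F ω hω
    obtain ⟨y, hyN, hy3, hty, hty', hyns, -⟩ := apply_H 3 H x hdet hx3 hns
    have hform := h.trace_formula y hyN 3 (by decide) 1 hy3
    rw [hty, hty', mul_assoc, htr] at hform
    obtain ⟨k, hk2, hk6, hk⟩ := h.card_Cent y
    rw [hk] at hform
    have hk' : k = 2 ∨ k = 3 ∨ k = 4 ∨ k = 5 ∨ k = 6 := by omega
    rcases hk' with rfl | rfl | rfl | rfl | rfl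
    · apply hn24; apply hcast; push_cast at hform ⊢; linear_combination -hform
    · apply hn20; apply hcast; push_cast at hform ⊢; linear_combination -hform
    · apply hn12; apply hcast; push_cast at hform ⊢; linear_combination -hform
    · apply hn4; apply hcast; push_cast at hform ⊢; linear_combination hform
    · apply hn36; apply hcast; push_cast at hform ⊢; linear_combination hform
  by_cases hr5 : r = 5
  · right
    subst hr5
    refine ⟨rfl, ?_⟩
    by_contra hord
    by_cases hp5 : p = 5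
    · -- characteristic 5: a transvection
      have h5F : (5 : F) = 0 := by
        have : ((p : ℕ) : F) = 0 := CharP.cast_eq_zero F p
        rw [hp5] at this
        exact_mod_cast this
      obtain ⟨x, hdet, hq, hns⟩ := Cfsg.Agent.Lib.Helper11.Leaf.L6c (F := F)
      have hx5 : x ^ 5 = 1 := by
        apply Units.ext
        rw [Units.val_pow_eq_pow_val, Units.val_one]
        have hx : (x : Matrix (Fin 4) (Fin 4) F) = 1 + ((x : Matrix (Fin 4) (Fin 4) F) - 1) := by
          abel
        rw [hx, quad_pow _ hq]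
        have : ((5 : ℕ) : F) = 0 := by exact_mod_cast h5F
        rw [this, zero_smul, add_zero]
      obtain ⟨y, hyN, -, -, -, hyns, g, hyg⟩ := apply_H 5 H x hdet hx5 hns
      have hyq : ((y : Matrix (Fin 4) (Fin 4) F) - 1) * ((y : Matrix (Fin 4) (Fin 4) F) - 1) = 0 := by
        have e1 : (y : Matrix (Fin 4) (Fin 4) F) - 1 =
            ((g⁻¹ : GL (Fin 4) F) : Matrix (Fin 4) (Fin 4) F) *
              ((x : Matrix (Fin 4) (Fin 4) F) - 1) * (g : Matrix (Fin 4) (Fin 4) F) := by
          rw [hyg, Units.val_mul, Units.val_mul, Matrix.mul_sub, Matrix.sub_mul, Matrix.mul_one,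
            ← Units.val_mul g⁻¹ g, inv_mul_cancel, Units.val_one]
        rw [e1]
        calc ((g⁻¹ : GL (Fin 4) F) : Matrix (Fin 4) (Fin 4) F) *
              ((x : Matrix (Fin 4) (Fin 4) F) - 1) * (g : Matrix (Fin 4) (Fin 4) F) *
              (((g⁻¹ : GL (Fin 4) F) : Matrix (Fin 4) (Fin 4) F) *
              ((x : Matrix (Fin 4) (Fin 4) F) - 1) * (g : Matrix (Fin 4) (Fin 4) F))
            = ((g⁻¹ : GL (Fin 4) F) : Matrix (Fin 4) (Fin 4) F) *
              (((x : Matrix (Fin 4) (Fin 4) F) - 1) *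
                ((g : Matrix (Fin 4) (Fin 4) F) * ((g⁻¹ : GL (Fin 4) F) : Matrix (Fin 4) (Fin 4) F)) *
                ((x : Matrix (Fin 4) (Fin 4) F) - 1)) * (g : Matrix (Fin 4) (Fin 4) F) := by
              simp only [Matrix.mul_assoc]
          _ = 0 := by
              rw [← Units.val_mul, mul_inv_cancel, Units.val_one, Matrix.mul_one, hq,
                Matrix.mul_zero, Matrix.zero_mul]
      have hy1 := h.no_quad_unipotent h5F y hyN hyq
      apply hyns 1
      rw [hy1, Units.val_one, one_smul]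
    · -- `p ≡ ±1 (mod 5)`: the golden ratio
      have hq := mod_five_of_order p hpp hp5 hord
      obtain ⟨hn80, hn144, hn176⟩ := not_dvd_five p hpp hp4 hp5
      obtain ⟨τ, hτ⟩ := Cfsg.Agent.Lib.Helper13.Leaf6000.L5 (F := F) hF hp4 hq
      obtain ⟨x, hdet, hx5, hns, htr, htr'⟩ := Cfsg.Agent.Lib.Helper11.Leaf.L6b τ hτ
      obtain ⟨y, hyN, hy5, hty, hty', hyns, -⟩ := apply_H 5 H x hdet hx5 hns
      have hform := h.trace_formula y hyN 5 (by decide) 1 hy5
      rw [hty, hty', htr, htr'] at hform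
      obtain ⟨k, hk2, hk6, hk⟩ := h.card_Cent y
      have hk' : k = 2 ∨ k = 3 ∨ k = 4 ∨ k = 5 ∨ k = 6 := by omega
      rcases hk' with rfl | rfl | rfl | rfl | rfl
      · rw [hk] at hform
        apply hn80; apply hcast; push_cast at hform ⊢
        linear_combination ((4 : F) - 12 * τ) * hform + (-(128 : F) - 48 * τ) * hτ
      · rw [hk] at hform
        apply hn144; apply hcast; push_cast at hform ⊢
        linear_combination (-(12 : F) * τ) * hform + (-(144 : F) - 48 * τ) * hτ
      · rw [hk] at hform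
        apply hn176; apply hcast; push_cast at hform ⊢
        linear_combination (-(8 : F) - 12 * τ) * hform + (-(176 : F) - 48 * τ) * hτ
      · rw [hk] at hform
        apply hn144; apply hcast; push_cast at hform ⊢
        linear_combination ((24 : F) + 12 * τ) * hform + ((240 : F) + 48 * τ) * hτ
      · -- the centralizer is everything: `y` is scalar
        obtain ⟨d, hd⟩ := h.scalar_of_Cent_eq y (by
          haveI : Finite R := Finite.of_fintype R
          apply Subgroup.eq_of_le_of_card_ge (Cent_le y)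
          rw [hk, h.card]
          norm_num)
        exact hyns d hd
  · -- `r ≥ 7`
    exfalso
    have hr7 : 7 ≤ r := by
      have h2 := hrp.two_le
      by_contra hlt
      have : r = 4 ∨ r = 6 := by omega
      rcases this with rfl | rfl
      · exact absurd hrp (by norm_num)
      · exact absurd hrp (by norm_num)
    haveI : Finite ↥(Cfsg.Geo.specialLinear (Fin 4) F) := inferInstance
    obtain ⟨x, hx⟩ := exists_prime_orderOf_dvd_card' r hΩ
    have hxr : (x : GL (Fin 4) F) ^ r = 1 := by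
      have := pow_orderOf_eq_one x
      rw [hx] at this
      have h2 := congrArg (fun y : ↥(Cfsg.Geo.specialLinear (Fin 4) F) => (y : GL (Fin 4) F)) this
      simpa using h2
    have hdet : ((x : GL (Fin 4) F) : Matrix (Fin 4) (Fin 4) F).det = 1 := (mem_sl_iff _).1 x.2
    have hns : ∀ z : F, ((x : GL (Fin 4) F) : Matrix (Fin 4) (Fin 4) F) ≠
        z • (1 : Matrix (Fin 4) (Fin 4) F) := by
      intro z hz
      have hz4 : z ^ 4 = 1 := by
        rw [hz, Matrix.det_smul, Matrix.det_one, mul_one, Fintype.card_fin] at hdet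
        exact hdet
      have hx4 : x ^ 4 = 1 := by
        apply Subtype.ext
        apply Units.ext
        rw [Subgroup.coe_pow, Units.val_pow_eq_pow_val, hz, smul_pow, one_pow, hz4, one_smul]
        rfl
      have h1 := orderOf_dvd_of_pow_eq_one hx4
      rw [hx] at h1
      have : r ∣ 2 := hrp.dvd_of_dvd_pow (show r ∣ 2 ^ 2 from h1)
      exact hr2 ((Nat.prime_dvd_prime_iff_eq hrp Nat.prime_two).1 this)
    obtain ⟨y, hyN, hyr, -, -, hyns, -⟩ := apply_H r H (x : GL (Fin 4) F) hdet hxr hns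
    obtain ⟨d, hd⟩ := h.scalar_of_large_prime y hyN r hr7 1 hyr
    exact hyns d hd

end S

end Cfsg.Agent.Lib.Helper12.ST64
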