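import Mathlib
import Cfsg.Agent.Lib.Helper24.LeafL2
import Cfsg.Agent.Lib.Helper24.LeafL3
import Cfsg.Agent.Lib.Helper6.LeafL4

/-! Helper12 library (ST64, part T): two elements of `GL_n(F)` of order dividing `r` (with
`X^r - 1 = (X - 1) Q`, `Q` irreducible) with fixed spaces of the same dimension are conjugate
under an element of determinant one. -/

set_option autoImplicit false
set_option linter.unusedSectionVars false
set_option linter.unusedVariables false
set_option linter.style.haveILetI false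
set_option linter.unusedSimpArgs false

namespace Cfsg.Agent.Lib.Helper12.ST64

open Matrix Module Polynomial
open scoped MatrixGroups

section T

variable {F : Type*} [Field F] [Fintype F] {n : ℕ}

theorem toLin'_pow' (x : Matrix (Fin n) (Fin n) F) (k : ℕ) :
    Matrix.toLin' (x ^ k) = (Matrix.toLin' x) ^ k := by
  induction k with
  | zero => simp [Matrix.toLin'_one]; rfl
  | succ k ih => rw [pow_succ, pow_succ, Matrix.toLin'_mul, ih]; rfl

theorem aeval_toLin'_of_pow (x : GL (Fin n) F) (r : ℕ) (hx : x ^ r = 1) :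
    aeval (Matrix.toLin' (x : Matrix (Fin n) (Fin n) F)) ((X : F[X]) ^ r - 1) = 0 := by
  rw [map_sub, map_pow, aeval_X, map_one, ← toLin'_pow', ← Units.val_pow_eq_pow_val, hx,
    Units.val_one, Matrix.toLin'_one]
  exact sub_self _

theorem sl_conj_of_fix (Q : F[X]) (hQm : Q.Monic) (hQi : Irreducible Q) (hQ1 : Q.eval 1 ≠ 0)
    (r : ℕ) (hr : (r : F) ≠ 0) (hQr : (X - 1) * Q = X ^ r - 1)
    (x m : GL (Fin n) F) (hx : x ^ r = 1) (hm : m ^ r = 1)
    (hfix : finrank F (LinearMap.ker (Matrix.toLin' (x : Matrix (Fin n) (Fin n) F) - 1)) =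
      finrank F (LinearMap.ker (Matrix.toLin' (m : Matrix (Fin n) (Fin n) F) - 1))) :
    ∃ g : GL (Fin n) F, (g : Matrix (Fin n) (Fin n) F).det = 1 ∧ g⁻¹ * x * g = m := by
  have hT := aeval_toLin'_of_pow x r hx
  have hT' := aeval_toLin'_of_pow m r hm
  rw [← hQr] at hT hT'
  obtain ⟨he, -⟩ := Cfsg.Agent.Lib.Helper24.Leaf.L3 Q hQm hQi hQ1 _ _ hT hT' hfix
  refine Cfsg.Agent.Lib.Helper24.Leaf.L2 ((X : F[X]) ^ r - C 1)
    (separable_X_pow_sub_C 1 hr one_ne_zero).squarefree x m ?_ he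
  rw [map_sub, map_pow, aeval_X, aeval_C, map_one, ← Units.val_pow_eq_pow_val, hx,
    Units.val_one]
  exact sub_self _

theorem dvd_of_fix (Q : F[X]) (hQm : Q.Monic) (hQi : Irreducible Q) (hQ1 : Q.eval 1 ≠ 0)
    (r : ℕ) (hQr : (X - 1) * Q = X ^ r - 1)
    (x : GL (Fin n) F) (hx : x ^ r = 1) :
    Q.natDegree ∣ n -
      finrank F (LinearMap.ker (Matrix.toLin' (x : Matrix (Fin n) (Fin n) F) - 1)) := by
  have hT := aeval_toLin'_of_pow x r hx
  rw [← hQr] at hT
  obtain ⟨-, hd⟩ := Cfsg.Agent.Lib.Helper24.Leaf.L3 Q hQm hQi hQ1 _ _ hT hT rfl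
  simpa using hd

end T

end Cfsg.Agent.Lib.Helper12.ST64
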