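import Mathlib
import Cfsg.Prelude.Def_GeometricClasses
import Cfsg.Agent.Lib.Helper12.ST64O
import Cfsg.Agent.Lib.Helper12.ST64T

/-! Helper12 library (ST64, part U): the backward direction of S6000 for `r = 2` and `r = 3`:
elements of order `2` resp. `3` of `GL₄(p)` are conjugate, under `SL₄(p)`, into the normalizer
of `R = 4 ∘ 2^{1+4}`. -/

set_option autoImplicit false
set_option linter.unusedSectionVars false
set_option linter.unusedVariables false
set_option linter.style.haveILetI false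
set_option linter.unusedSimpArgs false

namespace Cfsg.Agent.Lib.Helper12.ST64

open Matrix Module Polynomial Cfsg.Agent.Lib.Helper12.Ex32
open scoped MatrixGroups

section U

variable {F : Type*} [Field F] {n : ℕ}

/-- the dimension of the fixed space -/
noncomputable def fixd (y : Matrix (Fin n) (Fin n) F) : ℕ :=
  finrank F (LinearMap.ker (Matrix.toLin' y - 1))

theorem fixd_le (y : Matrix (Fin n) (Fin n) F) : fixd y ≤ n := by
  unfold fixd
  calc finrank F (LinearMap.ker (Matrix.toLin' y - 1)) ≤ finrank F (Fin n → F) :=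
        Submodule.finrank_le _
    _ = n := by simp

theorem fixd_two (h2 : (2 : F) ≠ 0) (y : Matrix (Fin n) (Fin n) F) (hy : y * y = 1) :
    ((fixd y : ℕ) : F) = 2⁻¹ * ((n : F) + y.trace) := by
  unfold fixd
  rw [Cfsg.Agent.Lib.Helper6.Leaf.L4 y 2 (by exact_mod_cast h2) (by rw [pow_two, hy])]
  rw [Finset.sum_range_succ, Finset.sum_range_one, pow_zero, pow_one, Matrix.trace_one,
    Fintype.card_fin]
  norm_num

theorem fixd_three (h3 : (3 : F) ≠ 0) (y : Matrix (Fin n) (Fin n) F) (hy : y * y * y = 1) :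
    ((fixd y : ℕ) : F) = 3⁻¹ * ((n : F) + y.trace + (y * y).trace) := by
  unfold fixd
  rw [Cfsg.Agent.Lib.Helper6.Leaf.L4 y 3 (by exact_mod_cast h3)
    (by rw [pow_succ, pow_two, hy])]
  rw [Finset.sum_range_succ, Finset.sum_range_succ, Finset.sum_range_one, pow_zero, pow_one,
    pow_two, Matrix.trace_one, Fintype.card_fin]
  norm_num

theorem nat_eq_of_cast (p : ℕ) [CharP F p] (a b : ℕ) (ha : a < p) (hb : b < p)
    (h : (a : F) = (b : F)) : a = b :=
  CharP.natCast_injOn_Iio F p ha hb h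

end U

section V

variable {F : Type*} [Field F] [Fintype F] {p : ℕ} [Fact p.Prime] [CharP F p]

variable {R : Subgroup (GL (Fin 4) F)} {i : F} {ζ : R} {a1 b1 a2 b2 : R} [Fintype R]

theorem pow_two_of_mat (m : GL (Fin 4) F)
    (h : (m : Matrix (Fin 4) (Fin 4) F) * (m : Matrix (Fin 4) (Fin 4) F) = 1) : m ^ 2 = 1 := by
  apply Units.ext
  rw [Units.val_pow_eq_pow_val, pow_two, h, Units.val_one]

theorem pow_three_of_mat (m : GL (Fin 4) F)
    (h : (m : Matrix (Fin 4) (Fin 4) F) * (m : Matrix (Fin 4) (Fin 4) F) *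
      (m : Matrix (Fin 4) (Fin 4) F) = 1) : m ^ 3 = 1 := by
  apply Units.ext
  rw [Units.val_pow_eq_pow_val, pow_succ, pow_two, h, Units.val_one]

theorem mat_of_pow_two (m : GL (Fin 4) F) (h : m ^ 2 = 1) :
    (m : Matrix (Fin 4) (Fin 4) F) * (m : Matrix (Fin 4) (Fin 4) F) = 1 := by
  rw [← pow_two, ← Units.val_pow_eq_pow_val, h, Units.val_one]

theorem mat_of_pow_three (m : GL (Fin 4) F) (h : m ^ 3 = 1) :
    (m : Matrix (Fin 4) (Fin 4) F) * (m : Matrix (Fin 4) (Fin 4) F) *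
      (m : Matrix (Fin 4) (Fin 4) F) = 1 := by
  rw [← pow_two, ← pow_succ, ← Units.val_pow_eq_pow_val, h, Units.val_one]

theorem neg_one_mem_normalizer :
    (-1 : GL (Fin 4) F) ∈ Subgroup.normalizer (R : Set (GL (Fin 4) F)) := by
  apply scalar_mem_normalizer (-1 : GL (Fin 4) F) (-1 : F)
  rw [Units.val_neg, Units.val_one, neg_smul, one_smul]

/-- models of the involutions -/
theorem Sym4.models_two (h : H64 R i ζ) (hs : Sym4 R a1 b1 a2 b2) (f : ℕ) (hf : f ≤ 4) :
    ∃ m : GL (Fin 4) F, m ∈ Subgroup.normalizer (R : Set (GL (Fin 4) F)) ∧ m ^ 2 = 1 ∧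
      (m : Matrix (Fin 4) (Fin 4) F).trace = 2 * (f : F) - 4 := by
  obtain ⟨s, hsN, hss, hst⟩ := hs.exists_refl h
  have hf' : f = 0 ∨ f = 1 ∨ f = 2 ∨ f = 3 ∨ f = 4 := by omega
  rcases hf' with rfl | rfl | rfl | rfl | rfl
  · refine ⟨-1, neg_one_mem_normalizer, by rw [neg_one_sq], ?_⟩
    rw [Units.val_neg, Units.val_one, Matrix.trace_neg, Matrix.trace_one, Fintype.card_fin]
    push_cast; ring
  · refine ⟨-1 * s, Subgroup.mul_mem _ neg_one_mem_normalizer hsN, ?_, ?_⟩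
    · apply pow_two_of_mat
      rw [Units.val_mul, Units.val_neg, Units.val_one, neg_one_mul, neg_mul_neg, hss]
    · rw [Units.val_mul, Units.val_neg, Units.val_one, neg_one_mul, Matrix.trace_neg, hst]
      push_cast; ring
  · refine ⟨(a1 : GL (Fin 4) F), Subgroup.le_normalizer a1.2, pow_two_of_mat _ hs.a1a1, ?_⟩
    have := hs.trace_a1 h
    unfold mat at this
    rw [this]; push_cast; ring
  · refine ⟨s, hsN, pow_two_of_mat _ hss, ?_⟩
    rw [hst]; push_cast; ring
  · refine ⟨1, Subgroup.one_mem _, one_pow _, ?_⟩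
    rw [Units.val_one, Matrix.trace_one, Fintype.card_fin]
    push_cast; ring

/-- models of the elements of order three -/
theorem Sym4.models_three (h : H64 R i ζ) (hs : Sym4 R a1 b1 a2 b2) (f : ℕ)
    (hf : f = 0 ∨ f = 2 ∨ f = 4) :
    ∃ m : GL (Fin 4) F, m ∈ Subgroup.normalizer (R : Set (GL (Fin 4) F)) ∧ m ^ 3 = 1 ∧
      (m : Matrix (Fin 4) (Fin 4) F).trace +
        ((m : Matrix (Fin 4) (Fin 4) F) * (m : Matrix (Fin 4) (Fin 4) F)).trace
        = 3 * (f : F) - 4 := by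
  rcases hf with rfl | rfl | rfl
  · obtain ⟨w, hwN, hw3, hw1, hw2⟩ := hs.exists_w h
    refine ⟨w, hwN, pow_three_of_mat _ hw3, ?_⟩
    rw [hw1, hw2]; push_cast; ring
  · obtain ⟨w, hwN, hw3, hw1, hw2⟩ := hs.exists_ww h
    refine ⟨w, hwN, pow_three_of_mat _ hw3, ?_⟩
    rw [hw1, hw2]; push_cast; ring
  · refine ⟨1, Subgroup.one_mem _, one_pow _, ?_⟩
    rw [Units.val_one, Matrix.mul_one, Matrix.trace_one, Fintype.card_fin]
    push_cast; ring

theorem bwd_two (h : H64 R i ζ) (hs : Sym4 R a1 b1 a2 b2) (hp5 : 5 ≤ p) (x : GL (Fin 4) F)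
    (hx : x ^ 2 = 1) :
    ∃ g : GL (Fin 4) F, (g : Matrix (Fin 4) (Fin 4) F).det = 1 ∧
      g⁻¹ * x * g ∈ Subgroup.normalizer (R : Set (GL (Fin 4) F)) := by
  have h2 := h.two
  have hf : fixd (x : Matrix (Fin 4) (Fin 4) F) ≤ 4 := fixd_le _
  obtain ⟨m, hmN, hm2, hmt⟩ := hs.models_two h _ hf
  have hfx := fixd_two h2 _ (mat_of_pow_two x hx)
  have hfm := fixd_two h2 _ (mat_of_pow_two m hm2)
  have hfm' : fixd (m : Matrix (Fin 4) (Fin 4) F) ≤ 4 := fixd_le _
  have heq : fixd (x : Matrix (Fin 4) (Fin 4) F) = fixd (m : Matrix (Fin 4) (Fin 4) F) := by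
    apply nat_eq_of_cast (F := F) p _ _ (by omega) (by omega)
    rw [hfm, hmt]
    field_simp
    ring
  have h2' : ((2 : ℕ) : F) ≠ 0 := by exact_mod_cast h2
  obtain ⟨g, hg, hgx⟩ := sl_conj_of_fix (X + 1 : F[X]) (monic_X_add_C 1)
    (irreducible_of_degree_eq_one (degree_X_add_C 1)) (by rw [eval_add, eval_X, eval_one, one_add_one_eq_two]; exact h2) 2 h2'
    (by ring) x m hx hm2 heq
  exact ⟨g, hg, hgx ▸ hmN⟩

end V

end Cfsg.Agent.Lib.Helper12.ST64
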