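import Mathlib
import Cfsg.Prelude.Def_GeometricClasses
import Cfsg.Agent.Lib.Helper12.ST64U
import Cfsg.Agent.Lib.Helper12.ST64S
import Cfsg.Agent.Lib.Helper12.ST64Q
import Cfsg.Agent.Lib.Helper12.Ex32Q
import Cfsg.Agent.Lib.Helper4.Leaf6000L7

/-! Helper12 library (ST64, part V): the backward direction of S6000: `r = 3`, `r = 5`, the
reduction to elements of order `r`, and the main theorem. -/

set_option autoImplicit false
set_option linter.unusedSectionVars false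
set_option linter.unusedVariables false
set_option linter.style.haveILetI false
set_option linter.unusedSimpArgs false

namespace Cfsg.Agent.Lib.Helper12.ST64

open Matrix Module Polynomial Cfsg.Agent.Lib.Helper12.Ex32
open scoped MatrixGroups

section V

variable {F : Type*} [Field F] [Fintype F] {p : ℕ} [Fact p.Prime] [CharP F p]

variable {R : Subgroup (GL (Fin 4) F)} {i : F} {ζ : R} {a1 b1 a2 b2 : R} [Fintype R]

theorem bwd_three (h : H64 R i ζ) (hs : Sym4 R a1 b1 a2 b2) (hF : Fintype.card F = p)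
    (hp5 : 5 ≤ p) (hp3 : p % 3 = 2) (x : GL (Fin 4) F) (hx : x ^ 3 = 1) :
    ∃ g : GL (Fin 4) F, (g : Matrix (Fin 4) (Fin 4) F).det = 1 ∧
      g⁻¹ * x * g ∈ Subgroup.normalizer (R : Set (GL (Fin 4) F)) := by
  have hpp : p.Prime := Fact.out
  have h3' : ((3 : ℕ) : F) ≠ 0 := by
    intro h3
    have hd := (CharP.cast_eq_zero_iff F p 3).1 h3
    have := Nat.le_of_dvd (by norm_num) hd
    omega
  have h3 : (3 : F) ≠ 0 := by exact_mod_cast h3'
  have hQi := Cfsg.Agent.Lib.Helper11.Leaf.L11 (F := F) hF hp3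
  have hQm : (X ^ 2 + X + 1 : F[X]).Monic := by monicity!
  have hQd : (X ^ 2 + X + 1 : F[X]).natDegree = 2 := by compute_degree!
  have hQ1 : (X ^ 2 + X + 1 : F[X]).eval 1 ≠ 0 := by
    rw [eval_add, eval_add, eval_pow, eval_X, eval_one]
    norm_num
    exact h3
  have hQr : (X - 1) * (X ^ 2 + X + 1 : F[X]) = X ^ 3 - 1 := by ring
  have hd := dvd_of_fix _ hQm hQi hQ1 3 hQr x hx
  rw [hQd] at hd
  have hf : fixd (x : Matrix (Fin 4) (Fin 4) F) ≤ 4 := fixd_le _
  have hd' : 2 ∣ 4 - fixd (x : Matrix (Fin 4) (Fin 4) F) := hd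
  have hf' : fixd (x : Matrix (Fin 4) (Fin 4) F) = 0 ∨ fixd (x : Matrix (Fin 4) (Fin 4) F) = 2 ∨
      fixd (x : Matrix (Fin 4) (Fin 4) F) = 4 := by omega
  obtain ⟨m, hmN, hm3, hmt⟩ := hs.models_three h _ hf'
  have hfx := fixd_three h3 _ (mat_of_pow_three x hx)
  have hfm := fixd_three h3 _ (mat_of_pow_three m hm3)
  have hfm' : fixd (m : Matrix (Fin 4) (Fin 4) F) ≤ 4 := fixd_le _
  have heq : fixd (x : Matrix (Fin 4) (Fin 4) F) = fixd (m : Matrix (Fin 4) (Fin 4) F) := by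
    apply nat_eq_of_cast (F := F) p _ _ (by omega) (by omega)
    rw [hfm, add_assoc, hmt]
    field_simp
    ring
  obtain ⟨g, hg, hgx⟩ := sl_conj_of_fix _ hQm hQi hQ1 3 h3' hQr x m hx hm3 heq
  exact ⟨g, hg, hgx ▸ hmN⟩

theorem not_mod_five_of_order (hord : orderOf (p : ZMod 5) = 4) : p % 5 ≠ 1 := by
  intro h5
  have : (p : ZMod 5) = ((1 : ℕ) : ZMod 5) := by
    rw [ZMod.natCast_eq_natCast_iff']
    omega
  rw [this, Nat.cast_one, orderOf_one] at hord
  omega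

theorem det_one_of_pow_five (hF : Fintype.card F = p) (hord : orderOf (p : ZMod 5) = 4)
    (x : GL (Fin 4) F) (hx : x ^ 5 = 1) : (x : Matrix (Fin 4) (Fin 4) F).det = 1 := by
  classical
  have hp1 := not_mod_five_of_order hord
  have hpp : p.Prime := Fact.out
  set d : Fˣ := Matrix.GeneralLinearGroup.det x with hd
  have hd5 : d ^ 5 = 1 := by rw [hd, ← map_pow, hx, map_one]
  have hdp : d ^ (p - 1) = 1 := by
    have := pow_card_eq_one (x := d)
    rwa [Fintype.card_units, hF] at this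
  have h1 : orderOf d ∣ 5 := orderOf_dvd_of_pow_eq_one hd5
  have h2 : orderOf d ∣ p - 1 := orderOf_dvd_of_pow_eq_one hdp
  have h3 : orderOf d = 1 := by
    rcases (Nat.dvd_prime (by norm_num : Nat.Prime 5)).1 h1 with h | h
    · exact h
    · exfalso
      rw [h] at h2
      have := hpp.two_le
      omega
  have h4 : d = 1 := orderOf_eq_one_iff.1 h3
  have := congrArg Units.val h4
  simpa [hd] using this

theorem bwd_five (h : H64 R i ζ) (hs : Sym4 R a1 b1 a2 b2) (hF : Fintype.card F = p)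
    (hord : orderOf (p : ZMod 5) = 4) (x : GL (Fin 4) F) (hx : x ^ 5 = 1) :
    ∃ g : GL (Fin 4) F, (g : Matrix (Fin 4) (Fin 4) F).det = 1 ∧
      g⁻¹ * x * g ∈ Subgroup.normalizer (R : Set (GL (Fin 4) F)) := by
  classical
  haveI : Fact (Nat.Prime 5) := ⟨by norm_num⟩
  by_cases hx1 : x = 1
  · refine ⟨1, by simp, ?_⟩
    rw [hx1]
    simp
  have hox : orderOf x = 5 := orderOf_eq_prime hx hx1
  haveI : Finite (GL (Fin 4) F) := inferInstance
  obtain ⟨m, hmN, hom⟩ := hs.exists_five h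
  have hm5 : m ^ 5 = 1 := by rw [← hom]; exact pow_orderOf_eq_one m
  have hdx := det_one_of_pow_five hF hord x hx
  have hdm := det_one_of_pow_five hF hord m hm5
  have hq : orderOf ((Fintype.card F : ℕ) : ZMod 5) = 4 := by rw [hF]; exact hord
  obtain ⟨g, hgS, k, hk⟩ := conj_order_five (by simp) hq (Cfsg.Geo.specialLinear (Fin 4) F) x m
    ((mem_sl_iff x).2 hdx) ((mem_sl_iff m).2 hdm) hox hom
  refine ⟨g, (mem_sl_iff g).1 hgS, ?_⟩
  rw [hk]
  exact Subgroup.zpow_mem _ hmN k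

end V

section W

variable {F : Type*} [Field F]

/-- rescaling an element with scalar `r`-th power to an element of order dividing `r` -/
theorem bwd_reduce (x : GL (Fin 4) F) (r : ℕ) (hr : r ≠ 0) (lam μ : F) (hμ : μ ^ r = lam)
    (hxr : ((x ^ r : GL (Fin 4) F) : Matrix (Fin 4) (Fin 4) F) =
      lam • (1 : Matrix (Fin 4) (Fin 4) F)) :
    ∃ x' u : GL (Fin 4) F, (u : Matrix (Fin 4) (Fin 4) F) = μ • (1 : Matrix (Fin 4) (Fin 4) F) ∧
      x = u * x' ∧ x' ^ r = 1 := by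
  have hμ0 : μ ≠ 0 := by
    intro h0
    rw [h0, zero_pow hr] at hμ
    rw [← hμ, zero_smul] at hxr
    exact Units.ne_zero _ hxr
  set u : GL (Fin 4) F := glOfMul (μ • (1 : Matrix (Fin 4) (Fin 4) F))
    (μ⁻¹ • (1 : Matrix (Fin 4) (Fin 4) F)) (by
      rw [Matrix.smul_mul, Matrix.mul_smul, Matrix.one_mul, smul_smul, mul_inv_cancel₀ hμ0,
        one_smul]) with hu
  have huv : (u : Matrix (Fin 4) (Fin 4) F) = μ • (1 : Matrix (Fin 4) (Fin 4) F) := rfl
  refine ⟨u⁻¹ * x, u, huv, by group, ?_⟩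
  have hc : Commute u x := scalar_comm u x μ huv
  have hc' : Commute u⁻¹ x := hc.inv_left
  rw [hc'.mul_pow]
  have hxu : x ^ r = u ^ r := by
    apply Units.ext
    rw [hxr, Units.val_pow_eq_pow_val, huv, _root_.smul_pow, one_pow, hμ]
  rw [hxu, inv_pow, inv_mul_cancel]

theorem bwd_lift {R : Subgroup (GL (Fin 4) F)} (x x' u : GL (Fin 4) F) (c : F)
    (hu : (u : Matrix (Fin 4) (Fin 4) F) = c • (1 : Matrix (Fin 4) (Fin 4) F))
    (hx : x = u * x') (g : GL (Fin 4) F)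
    (hg : g⁻¹ * x' * g ∈ Subgroup.normalizer (R : Set (GL (Fin 4) F))) :
    g⁻¹ * x * g ∈ Subgroup.normalizer (R : Set (GL (Fin 4) F)) := by
  have hc : u * g⁻¹ = g⁻¹ * u := scalar_comm u g⁻¹ c hu
  have : g⁻¹ * x * g = u * (g⁻¹ * x' * g) := by
    rw [hx, ← mul_assoc, ← mul_assoc, ← mul_assoc, hc]
  rw [this]
  exact Subgroup.mul_mem _ (scalar_mem_normalizer u c hu) hg

end W

section X

variable {F : Type*} [Field F] [Fintype F] {p : ℕ} [Fact p.Prime] [CharP F p]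

variable {R : Subgroup (GL (Fin 4) F)} {i : F} {ζ : R} {a1 b1 a2 b2 : R} [Fintype R]

/-- the backward direction -/
theorem bwd_main (h : H64 R i ζ) (hs : Sym4 R a1 b1 a2 b2) (hF : Fintype.card F = p)
    (hp4 : p % 4 = 1) (r : ℕ)
    (hr : r = 2 ∨ (r = 3 ∧ p % 3 = 2) ∨ (r = 5 ∧ orderOf (p : ZMod 5) = 4))
    (x : GL (Fin 4) F) (hxS : x ∈ Cfsg.Geo.specialLinear (Fin 4) F)
    (hxr : ∃ z : F, ((x ^ r : GL (Fin 4) F) : Matrix (Fin 4) (Fin 4) F) =
      z • (1 : Matrix (Fin 4) (Fin 4) F)) :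
    ∃ g ∈ Cfsg.Geo.specialLinear (Fin 4) F, g⁻¹ * x * g ∈ Cfsg.Geo.subgroupNormalizer R := by
  classical
  have hpp : p.Prime := Fact.out
  have hp5 : 5 ≤ p := by
    by_contra hlt
    have : p = 1 := by omega
    rw [this] at hpp
    exact Nat.not_prime_one hpp
  obtain ⟨lam, hlam⟩ := hxr
  have hdet := (mem_sl_iff x).1 hxS
  unfold Cfsg.Geo.subgroupNormalizer
  -- it suffices to find a root of `lam` and treat elements of order `r`
  have key : ∀ μ : F, μ ^ r = lam → (∀ x' : GL (Fin 4) F, x' ^ r = 1 →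
      ∃ g : GL (Fin 4) F, (g : Matrix (Fin 4) (Fin 4) F).det = 1 ∧
        g⁻¹ * x' * g ∈ Subgroup.normalizer (R : Set (GL (Fin 4) F))) →
      ∃ g ∈ Cfsg.Geo.specialLinear (Fin 4) F,
        g⁻¹ * x * g ∈ Subgroup.normalizer (R : Set (GL (Fin 4) F)) := by
    intro μ hμ hall
    have hr0 : r ≠ 0 := by
      rcases hr with rfl | ⟨rfl, -⟩ | ⟨rfl, -⟩ <;> norm_num
    obtain ⟨x', u, hu, hxu, hx'⟩ := bwd_reduce x r hr0 lam μ hμ hlam
    obtain ⟨g, hg, hgN⟩ := hall x' hx'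
    exact ⟨g, (mem_sl_iff g).2 hg, bwd_lift x x' u μ hu hxu g hgN⟩
  rcases hr with rfl | ⟨rfl, hp3⟩ | ⟨rfl, hord⟩
  · -- `r = 2`
    have hxx : (x : Matrix (Fin 4) (Fin 4) F) * (x : Matrix (Fin 4) (Fin 4) F) =
        lam • (1 : Matrix (Fin 4) (Fin 4) F) := by
      rw [← pow_two, ← Units.val_pow_eq_pow_val, hlam]
    obtain ⟨μ, hμ⟩ := Cfsg.Agent.Lib.Helper4.Leaf.L7 hF hp4 _ lam hxx hdet
    exact key μ (by rw [pow_two, hμ]) (fun x' hx' => bwd_two h hs hp5 x' hx')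
  · -- `r = 3`
    have hcop : Nat.Coprime 3 (Fintype.card F - 1) := by
      rw [hF, Nat.Prime.coprime_iff_not_dvd Nat.prime_three]
      omega
    obtain ⟨μ, hμ⟩ := Cfsg.Agent.Lib.Helper11.Leaf.L8 (F := F) 3 (by norm_num) hcop lam
    exact key μ hμ (fun x' hx' => bwd_three h hs hF hp5 hp3 x' hx')
  · -- `r = 5`
    have hp1 := not_mod_five_of_order hord
    have hcop : Nat.Coprime 5 (Fintype.card F - 1) := by
      rw [hF, Nat.Prime.coprime_iff_not_dvd (by norm_num : Nat.Prime 5)]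
      omega
    obtain ⟨μ, hμ⟩ := Cfsg.Agent.Lib.Helper11.Leaf.L8 (F := F) 5 (by norm_num) hcop lam
    exact key μ hμ (fun x' hx' => bwd_five h hs hF hord x' hx')

end X

end Cfsg.Agent.Lib.Helper12.ST64
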