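import Mathlib

/-!
SUnMax stage 2, `n = 3`, `q = 5` (planner helper4, block helper8), leaf E1a `su3_five_frame_not_max`, part A:
the MODEL computation.  `PPc a b c` (nonisotropic, two equal coordinate norms, `(abc)^9 = abc`) describes the 105-orbit of
`3.A_7 < SU_3(5)` on nonisotropic points (in a basis where `3.A_7` contains the standard monomial group `6^2 : S_3`); the
`F_5`-rational orthogonal matrix `g0 = !![1,1,3; 4,3,1; 2,1,4]` preserves it.  Checked over `K25 = F_5[√2]` with Nat-coded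
arithmetic and one `decide +kernel` over the `15625` vectors.  Taker: helper12.
-/

set_option autoImplicit false
set_option linter.unusedSectionVars false
set_option linter.unusedVariables false

namespace Cfsg.Agent.Lib.Helper12.SU3Fr

/-- the norm `x * x^5` -/
def nrm {R : Type*} [CommRing R] (x : R) : R := x * x ^ 5

/-- the predicate describing the 105-orbit -/
def PPc {R : Type*} [CommRing R] (a b c : R) : Prop :=
  nrm a + nrm b + nrm c ≠ 0 ∧ (nrm a = nrm b ∨ nrm b = nrm c ∨ nrm a = nrm c) ∧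
    (a * b * c) ^ 9 = a * b * c

/-- the model of the field with 25 elements -/
abbrev K25 : Type := QuadraticAlgebra (ZMod 5) 2 0

instance factK25 : Fact (∀ r : ZMod 5, r ^ 2 ≠ (2 : ZMod 5) + 0 * r) := ⟨by decide⟩

/-! ### Nat-coded arithmetic -/

def toK (p : ℕ × ℕ) : K25 := ⟨(p.1 : ZMod 5), (p.2 : ZMod 5)⟩

def addN (p q : ℕ × ℕ) : ℕ × ℕ := ((p.1 + q.1) % 5, (p.2 + q.2) % 5)
def mulN (p q : ℕ × ℕ) : ℕ × ℕ := ((p.1 * q.1 + 2 * (p.2 * q.2)) % 5, (p.1 * q.2 + p.2 * q.1) % 5)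
def smulN (k : ℕ) (p : ℕ × ℕ) : ℕ × ℕ := ((k * p.1) % 5, (k * p.2) % 5)
def conjN (p : ℕ × ℕ) : ℕ × ℕ := (p.1 % 5, (4 * p.2) % 5)
def nrmN (p : ℕ × ℕ) : ℕ × ℕ := mulN p (conjN p)

/-- reduced codes -/
def IsRed (p : ℕ × ℕ) : Prop := p.1 < 5 ∧ p.2 < 5

theorem red_addN (p q : ℕ × ℕ) : IsRed (addN p q) := ⟨Nat.mod_lt _ (by norm_num), Nat.mod_lt _ (by norm_num)⟩
theorem red_mulN (p q : ℕ × ℕ) : IsRed (mulN p q) := ⟨Nat.mod_lt _ (by norm_num), Nat.mod_lt _ (by norm_num)⟩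
theorem red_smulN (k : ℕ) (p : ℕ × ℕ) : IsRed (smulN k p) := ⟨Nat.mod_lt _ (by norm_num), Nat.mod_lt _ (by norm_num)⟩
theorem red_nrmN (p : ℕ × ℕ) : IsRed (nrmN p) := red_mulN _ _

theorem toK_addN (p q : ℕ × ℕ) : toK (addN p q) = toK p + toK q := by
  apply QuadraticAlgebra.ext
  · simp [toK, addN, ZMod.natCast_mod]
  · simp [toK, addN, ZMod.natCast_mod]

theorem toK_mulN (p q : ℕ × ℕ) : toK (mulN p q) = toK p * toK q := by
  apply QuadraticAlgebra.ext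
  · simp [toK, mulN, ZMod.natCast_mod]
    ring
  · simp [toK, mulN, ZMod.natCast_mod]

theorem toK_smulN (k : ℕ) (p : ℕ × ℕ) : toK (smulN k p) = (k : K25) * toK p := by
  apply QuadraticAlgebra.ext
  · simp [toK, smulN, ZMod.natCast_mod]
  · simp [toK, smulN, ZMod.natCast_mod]

theorem pow5_aux : ∀ x y : ZMod 5, (⟨x, y⟩ : K25) ^ 5 = ⟨x, 4 * y⟩ := by decide

theorem toK_pow5 (p : ℕ × ℕ) : toK p ^ 5 = toK (conjN p) := by
  unfold toK conjN
  rw [pow5_aux]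
  apply QuadraticAlgebra.ext
  · simp [ZMod.natCast_mod]
  · simp [ZMod.natCast_mod]

theorem toK_nrmN (p : ℕ × ℕ) : toK (nrmN p) = nrm (toK p) := by
  unfold nrmN nrm
  rw [toK_mulN, toK_pow5]

theorem toK_inj {p q : ℕ × ℕ} (hp : IsRed p) (hq : IsRed q) : toK p = toK q ↔ p = q := by
  constructor
  · intro h
    have h1 := congrArg QuadraticAlgebra.re h
    have h2 := congrArg QuadraticAlgebra.im h
    simp only [toK] at h1 h2
    rw [ZMod.natCast_eq_natCast_iff'] at h1 h2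
    rw [Nat.mod_eq_of_lt hp.1, Nat.mod_eq_of_lt hq.1] at h1
    rw [Nat.mod_eq_of_lt hp.2, Nat.mod_eq_of_lt hq.2] at h2
    exact Prod.ext h1 h2
  · rintro rfl
    rfl

theorem toK_zero : toK (0, 0) = 0 := by
  apply QuadraticAlgebra.ext <;> simp [toK]

theorem exists_code (a : K25) : ∃ p : ℕ × ℕ, IsRed p ∧ toK p = a := by
  refine ⟨(a.re.val, a.im.val), show a.re.val < 5 ∧ a.im.val < 5 from ⟨ZMod.val_lt _, ZMod.val_lt _⟩, ?_⟩
  apply QuadraticAlgebra.ext <;> simp [toK]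

/-! ### the check -/

def ppN (a b c : ℕ × ℕ) : Bool :=
  let na := nrmN a
  let nb := nrmN b
  let nc := nrmN c
  let t := mulN (mulN a b) c
  let t2 := mulN t t
  let t4 := mulN t2 t2
  let t8 := mulN t4 t4
  let t9 := mulN t8 t
  (addN (addN na nb) nc != (0, 0)) && (na == nb || nb == nc || na == nc) && (t9 == t)

theorem ppN_iff (a b c : ℕ × ℕ) : ppN a b c = true ↔ PPc (toK a) (toK b) (toK c) := by
  unfold ppN PPc
  simp only [Bool.and_eq_true, Bool.or_eq_true, bne_iff_ne, beq_iff_eq, ne_eq]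
  rw [← toK_nrmN, ← toK_nrmN, ← toK_nrmN, ← toK_addN, ← toK_addN, ← toK_zero,
    toK_inj (red_addN _ _) ⟨by norm_num, by norm_num⟩,
    toK_inj (red_nrmN a) (red_nrmN b), toK_inj (red_nrmN b) (red_nrmN c), toK_inj (red_nrmN a) (red_nrmN c)]
  have h9 : (toK a * toK b * toK c) ^ 9 =
      toK (mulN (mulN (mulN (mulN (mulN (mulN a b) c) (mulN (mulN a b) c)) (mulN (mulN (mulN a b) c) (mulN (mulN a b) c)))
        (mulN (mulN (mulN (mulN a b) c) (mulN (mulN a b) c)) (mulN (mulN (mulN a b) c) (mulN (mulN a b) c))))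
        (mulN (mulN a b) c)) := by
    simp only [toK_mulN]
    ring
  rw [h9, ← toK_mulN, ← toK_mulN, toK_inj (red_mulN _ _) (red_mulN _ _)]
  tauto

def lin0 (a b c : ℕ × ℕ) : ℕ × ℕ := addN (addN a b) (smulN 3 c)
def lin1 (a b c : ℕ × ℕ) : ℕ × ℕ := addN (addN (smulN 4 a) (smulN 3 b)) c
def lin2 (a b c : ℕ × ℕ) : ℕ × ℕ := addN (addN (smulN 2 a) b) (smulN 4 c)

def chk (n : ℕ) : Bool :=
  let a := (n % 5, n / 5 % 5)
  let b := (n / 25 % 5, n / 125 % 5)
  let c := (n / 625 % 5, n / 3125 % 5)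
  ppN a b c == ppN (lin0 a b c) (lin1 a b c) (lin2 a b c)

set_option maxRecDepth 1000000 in
theorem chk_all : (List.range 15625).all chk = true := by decide +kernel

theorem toK_lin0 (a b c : ℕ × ℕ) : toK (lin0 a b c) = toK a + toK b + 3 * toK c := by
  unfold lin0
  rw [toK_addN, toK_addN, toK_smulN, Nat.cast_ofNat]

theorem toK_lin1 (a b c : ℕ × ℕ) : toK (lin1 a b c) = 4 * toK a + 3 * toK b + toK c := by
  unfold lin1
  rw [toK_addN, toK_addN, toK_smulN, toK_smulN, Nat.cast_ofNat, Nat.cast_ofNat]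

theorem toK_lin2 (a b c : ℕ × ℕ) : toK (lin2 a b c) = 2 * toK a + toK b + 4 * toK c := by
  unfold lin2
  rw [toK_addN, toK_addN, toK_smulN, toK_smulN, Nat.cast_ofNat, Nat.cast_ofNat]

/-- the model fact: `g0 = !![1,1,3; 4,3,1; 2,1,4]` preserves the predicate -/
theorem model_fact (a b c : K25) :
    PPc a b c ↔ PPc (a + b + 3 * c) (4 * a + 3 * b + c) (2 * a + b + 4 * c) := by
  obtain ⟨⟨a1, a2⟩, hpa, rfl⟩ := exists_code a
  obtain ⟨⟨b1, b2⟩, hpb, rfl⟩ := exists_code b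
  obtain ⟨⟨c1, c2⟩, hpc, rfl⟩ := exists_code c
  have hall := chk_all
  rw [List.all_eq_true] at hall
  obtain ⟨ha1, ha2⟩ := hpa
  obtain ⟨hb1, hb2⟩ := hpb
  obtain ⟨hc1, hc2⟩ := hpc
  simp only at ha1 ha2 hb1 hb2 hc1 hc2
  have hn : a1 + 5 * a2 + 25 * b1 + 125 * b2 + 625 * c1 + 3125 * c2 < 15625 := by omega
  have h := hall _ (List.mem_range.mpr hn)
  have ea : ((a1 + 5 * a2 + 25 * b1 + 125 * b2 + 625 * c1 + 3125 * c2) % 5,
      (a1 + 5 * a2 + 25 * b1 + 125 * b2 + 625 * c1 + 3125 * c2) / 5 % 5) = (a1, a2) :=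
    Prod.ext (by show _ % 5 = a1; omega) (by show _ / 5 % 5 = a2; omega)
  have eb : ((a1 + 5 * a2 + 25 * b1 + 125 * b2 + 625 * c1 + 3125 * c2) / 25 % 5,
      (a1 + 5 * a2 + 25 * b1 + 125 * b2 + 625 * c1 + 3125 * c2) / 125 % 5) = (b1, b2) :=
    Prod.ext (by show _ / 25 % 5 = b1; omega) (by show _ / 125 % 5 = b2; omega)
  have ec : ((a1 + 5 * a2 + 25 * b1 + 125 * b2 + 625 * c1 + 3125 * c2) / 625 % 5,
      (a1 + 5 * a2 + 25 * b1 + 125 * b2 + 625 * c1 + 3125 * c2) / 3125 % 5) = (c1, c2) :=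
    Prod.ext (by show _ / 625 % 5 = c1; omega) (by show _ / 3125 % 5 = c2; omega)
  simp only [chk, ea, eb, ec, beq_iff_eq] at h
  rw [← toK_lin0, ← toK_lin1, ← toK_lin2, ← ppN_iff, ← ppN_iff, h]

end Cfsg.Agent.Lib.Helper12.SU3Fr
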