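import Mathlib
import Cfsg.Agent.Lib.Helper4.SUMT
import Cfsg.Agent.Lib.Helper5.HermBridge
import Cfsg.Agent.Lib.Helper12.SU3FrA

/-!
SUnMax stage 2, `n = 3`, `q = 5`, leaf E1a `su3_five_frame_not_max`, part B: generic algebra.
The predicate `PPv` on vectors, its symmetric form `PPs`, invariance under monomial matrices with unit-norm entries and
`(∏ μ)^2 = 1`; facts on a field with 25 elements; transfer of the model fact (`PPc_g0`).  Taker: helper12.
-/

set_option autoImplicit false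
set_option linter.unusedSectionVars false
set_option linter.unusedVariables false

namespace Cfsg.Agent.Lib.Helper12.SU3Fr

open Matrix

section ring
variable {R : Type*} [CommRing R]

theorem nrm_mul (x y : R) : nrm (x * y) = nrm x * nrm y := by
  unfold nrm
  ring

theorem nrm_zero : nrm (0 : R) = 0 := by
  unfold nrm
  ring

theorem nrm_one : nrm (1 : R) = 1 := by
  unfold nrm
  ring

/-- the predicate on vectors -/
def PPv (v : Fin 3 → R) : Prop := PPc (v 0) (v 1) (v 2)

/-- the symmetric form of the predicate -/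
def PPs (v : Fin 3 → R) : Prop :=
  (∑ i, nrm (v i)) ≠ 0 ∧ (∃ i j, i ≠ j ∧ nrm (v i) = nrm (v j)) ∧ (∏ i, v i) ^ 9 = ∏ i, v i

theorem exists_ne_iff (p : Fin 3 → R) :
    (∃ i j, i ≠ j ∧ p i = p j) ↔ (p 0 = p 1 ∨ p 1 = p 2 ∨ p 0 = p 2) := by
  constructor
  · rintro ⟨i, j, hij, h⟩
    by_contra hcon
    push Not at hcon
    obtain ⟨h01, h12, h02⟩ := hcon
    fin_cases i <;> fin_cases j <;>
      first
      | exact hij rfl
      | exact h01 h
      | exact h12 h
      | exact h02 h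
      | exact h01 h.symm
      | exact h12 h.symm
      | exact h02 h.symm
  · rintro (h | h | h)
    · exact ⟨0, 1, by decide, h⟩
    · exact ⟨1, 2, by decide, h⟩
    · exact ⟨0, 2, by decide, h⟩

theorem PPv_iff_PPs (v : Fin 3 → R) : PPv v ↔ PPs v := by
  unfold PPv PPs PPc
  rw [Fin.sum_univ_three, Fin.prod_univ_three, exists_ne_iff (fun i => nrm (v i))]

/-- invariance under monomial transformations -/
theorem PPs_mono (τ : Equiv.Perm (Fin 3)) (μ : Fin 3 → R) (hμ : ∀ i, nrm (μ i) = 1)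
    (hm : (∏ i, μ i) ^ 2 = 1) (v : Fin 3 → R) :
    PPs (fun j => μ (τ j) * v (τ j)) ↔ PPs v := by
  unfold PPs
  have h1 : ∀ j, nrm (μ (τ j) * v (τ j)) = nrm (v (τ j)) := fun j => by rw [nrm_mul, hμ, one_mul]
  have hsum : ∑ j, nrm (μ (τ j) * v (τ j)) = ∑ i, nrm (v i) := by
    simp only [h1]
    exact Equiv.sum_comp τ (fun i => nrm (v i))
  have hprod : ∏ j, (μ (τ j) * v (τ j)) = (∏ i, μ i) * ∏ i, v i := by
    rw [Finset.prod_mul_distrib, Equiv.prod_comp τ μ, Equiv.prod_comp τ v]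
  have hex : (∃ i j, i ≠ j ∧ nrm (μ (τ i) * v (τ i)) = nrm (μ (τ j) * v (τ j))) ↔
      ∃ i j, i ≠ j ∧ nrm (v i) = nrm (v j) := by
    simp only [h1]
    constructor
    · rintro ⟨i, j, hij, h⟩
      exact ⟨τ i, τ j, fun e => hij (τ.injective e), h⟩
    · rintro ⟨i, j, hij, h⟩
      refine ⟨τ.symm i, τ.symm j, fun e => hij (τ.symm.injective e), ?_⟩
      rw [Equiv.apply_symm_apply, Equiv.apply_symm_apply]
      exact h
  have hm9 : (∏ i, μ i) ^ 9 = ∏ i, μ i := by
    calc (∏ i, μ i) ^ 9 = ((∏ i, μ i) ^ 2) ^ 4 * ∏ i, μ i := by ring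
      _ = ∏ i, μ i := by rw [hm]; ring
  have hthird : ((∏ i, μ i) * ∏ i, v i) ^ 9 = (∏ i, μ i) * ∏ i, v i ↔ (∏ i, v i) ^ 9 = ∏ i, v i := by
    rw [mul_pow, hm9]
    constructor
    · intro h
      have h2 : (∏ i, μ i) ^ 2 * (∏ i, v i) ^ 9 = (∏ i, μ i) ^ 2 * ∏ i, v i := by
        linear_combination (∏ i, μ i) * h
      rwa [hm, one_mul, one_mul] at h2
    · intro h
      rw [h]
  rw [hsum, hex, hprod, hthird]

theorem nrm_map {S : Type*} [CommRing S] (φ : R →+* S) (x : R) : nrm (φ x) = φ (nrm x) := by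
  unfold nrm
  rw [map_mul, map_pow]

theorem PPc_map {S : Type*} [CommRing S] (φ : R →+* S) (hφ : Function.Injective φ) (a b c : R) :
    PPc (φ a) (φ b) (φ c) ↔ PPc a b c := by
  unfold PPc
  rw [nrm_map, nrm_map, nrm_map, ← map_add, ← map_add, ← map_mul, ← map_mul, ← map_pow,
    hφ.eq_iff, hφ.eq_iff, hφ.eq_iff, hφ.eq_iff, map_ne_zero_iff φ hφ]

end ring

/-! ### the field with 25 elements -/

instance fact5p : Fact (Nat.Prime 5) := ⟨by norm_num⟩

noncomputable instance fintypeK25 : Fintype K25 :=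
  Fintype.ofEquiv _ (QuadraticAlgebra.equivProd (2 : ZMod 5) 0).symm

theorem card_K25 : Fintype.card K25 = 5 ^ 2 := by
  rw [Fintype.card_congr (QuadraticAlgebra.equivProd (2 : ZMod 5) 0)]
  simp [ZMod.card]

section field
variable {F : Type*} [Field F] [Fintype F]

theorem five_eq_zero (hF : Fintype.card F = 5 ^ 2) : (5 : F) = 0 := by
  have h := Nat.cast_card_eq_zero F
  rw [hF] at h
  have h2 : (5 : F) ^ 2 = 0 := by exact_mod_cast h
  exact (pow_eq_zero_iff (two_ne_zero)).mp h2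

theorem pow_25 (hF : Fintype.card F = 5 ^ 2) (a : F) : a ^ 25 = a := by
  have h := FiniteField.pow_card a
  rw [hF] at h
  norm_num at h
  exact h

theorem two_ne_zero25 (hF : Fintype.card F = 5 ^ 2) : (2 : F) ≠ 0 := by
  intro h
  have h5 := five_eq_zero hF
  have : (1 : F) = 0 := by linear_combination h5 - 2 * h
  exact one_ne_zero this

theorem four_ne_zero25 (hF : Fintype.card F = 5 ^ 2) : (4 : F) ≠ 0 := by
  intro h
  have h5 := five_eq_zero hF
  have : (1 : F) = 0 := by linear_combination h5 - h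
  exact one_ne_zero this

/-- an element of norm 2 -/
theorem exists_norm_two (hF : Fintype.card F = 5 ^ 2) : ∃ a : F, a * a ^ 5 = 2 := by
  have hu := Cfsg.Agent.Lib.Helper5.HermBridge.herm_unitary (n := 1) hF
  have h5 := five_eq_zero hF
  have hfix : Cfsg.Agent.Lib.Helper5.HermBridge.frobQ hF (2 : F) = 2 := by
    rw [Cfsg.Agent.Lib.Helper5.HermBridge.frobQ_apply]
    linear_combination (6 : F) * h5
  obtain ⟨z, hz⟩ := Cfsg.Agent.Lib.Helper5.UForm.norm_surj hu.involutive hu.ne_refl (2 : F) (two_ne_zero25 hF) hfix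
  exact ⟨z, hz⟩

/-- transfer of the model fact -/
theorem PPc_g0 (hF : Fintype.card F = 5 ^ 2) (a b c : F) :
    PPc a b c ↔ PPc (a + b + 3 * c) (4 * a + 3 * b + c) (2 * a + b + 4 * c) := by
  let φ : K25 ≃+* F := FiniteField.ringEquivOfCardEq (card_K25.trans hF.symm)
  obtain ⟨a', rfl⟩ := φ.surjective a
  obtain ⟨b', rfl⟩ := φ.surjective b
  obtain ⟨c', rfl⟩ := φ.surjective c
  have h := model_fact a' b' c'
  rw [← PPc_map (φ : K25 →+* F) φ.injective a' b' c',
    ← PPc_map (φ : K25 →+* F) φ.injective (a' + b' + 3 * c') (4 * a' + 3 * b' + c') (2 * a' + b' + 4 * c')] at h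
  simpa [map_add, map_mul, map_ofNat] using h

end field

/-! ### monomial matrices -/

section mono
variable {F : Type*} [Field F]

/-- the monomial matrix -/
def monoM (σ : Equiv.Perm (Fin 3)) (μ : Fin 3 → F) : Matrix (Fin 3) (Fin 3) F :=
  σ.toPEquiv.toMatrix * Matrix.diagonal μ

theorem monoM_mulVec (σ : Equiv.Perm (Fin 3)) (μ : Fin 3 → F) (w : Fin 3 → F) (i : Fin 3) :
    (monoM σ μ).mulVec w i = μ (σ i) * w (σ i) := by
  unfold monoM
  rw [← Matrix.mulVec_mulVec, PEquiv.toMatrix_toPEquiv_mulVec, Function.comp_apply,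
    Matrix.mulVec_diagonal]

theorem det_monoM_sq (σ : Equiv.Perm (Fin 3)) (μ : Fin 3 → F) :
    (monoM σ μ).det ^ 2 = (∏ i, μ i) ^ 2 := by
  unfold monoM
  rw [Matrix.det_mul, Matrix.det_permutation, Matrix.det_diagonal, mul_pow]
  rcases Int.units_eq_one_or (Equiv.Perm.sign σ) with h | h <;> simp [h]

end mono

end Cfsg.Agent.Lib.Helper12.SU3Fr
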