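import Mathlib
import Cfsg.Agent.Lib.Helper4.SUMDefs
import Cfsg.Agent.Lib.Helper4.SUMT
import Cfsg.Agent.Lib.Helper5.HermBridge
import Cfsg.Agent.Lib.Helper12.SU3FrB

/-!
SUnMax stage 2, `n = 3`, `q = 5`, leaf E1a `su3_five_frame_not_max`, part C: unitary matrices, the orthonormal frame,
the overgroup `Lsub P` and the two witnesses.  Taker: helper12.
-/

set_option autoImplicit false
set_option linter.unusedSectionVars false
set_option linter.unusedVariables false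

namespace Cfsg.Agent.Lib.Helper12.SU3Fr

open Cfsg.Geo Matrix Module Cfsg.Agent.Lib.Helper4.SUM Cfsg.Agent.Lib.Helper14

variable {F : Type*} [Field F] [Fintype F]

/-! ### unitary `3 × 3` matrices -/

/-- `Mᵀ * M^(5) = 1` -/
def IsU (M : Matrix (Fin 3) (Fin 3) F) : Prop := Mᵀ * M.map (fun x => x ^ 5) = 1

omit [Fintype F] in
theorem orthoN_of_IsU {M : Matrix (Fin 3) (Fin 3) F} (h : IsU M) : OrthoN F 5 3 3 (fun j i => M i j) := by
  intro j l
  have h1 := congrFun (congrFun h j) l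
  rw [Matrix.mul_apply, Matrix.one_apply] at h1
  unfold Cfsg.hermForm
  simpa using h1

omit [Fintype F] in
theorem IsU_of_orthoN {M : Matrix (Fin 3) (Fin 3) F} (h : OrthoN F 5 3 3 (fun j i => M i j)) : IsU M := by
  unfold IsU
  ext j l
  rw [Matrix.mul_apply, Matrix.one_apply]
  have := h j l
  unfold Cfsg.hermForm at this
  simpa using this

omit [Fintype F] in
theorem IsU_inv_left {M : Matrix (Fin 3) (Fin 3) F} (h : IsU M) : (M.map (fun x => x ^ 5))ᵀ * M = 1 := by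
  have := congrArg Matrix.transpose h
  rw [Matrix.transpose_mul, Matrix.transpose_transpose, Matrix.transpose_one] at this
  exact this

omit [Fintype F] in
theorem IsU_inv_right {M : Matrix (Fin 3) (Fin 3) F} (h : IsU M) : M * (M.map (fun x => x ^ 5))ᵀ = 1 :=
  mul_eq_one_comm.mp (IsU_inv_left h)

/-- the invertible matrix of a unitary matrix -/
def uGL (M : Matrix (Fin 3) (Fin 3) F) (h : IsU M) : GL (Fin 3) F :=
  ⟨M, (M.map (fun x => x ^ 5))ᵀ, IsU_inv_right h, IsU_inv_left h⟩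

omit [Fintype F] in
theorem uGL_val (M : Matrix (Fin 3) (Fin 3) F) (h : IsU M) :
    ((uGL M h : GL (Fin 3) F) : Matrix (Fin 3) (Fin 3) F) = M := rfl

theorem uGL_mem_GU (hF : Fintype.card F = 5 ^ 2) (M : Matrix (Fin 3) (Fin 3) F) (h : IsU M) :
    uGL M h ∈ Cfsg.GU 3 F 5 := by
  classical
  rw [Cfsg.Agent.Lib.Helper14.mem_GU_iff]
  intro u v
  exact hermForm_mulVec_of_orthoN hF M (orthoN_of_IsU h) u v

theorem uGL_mem_SUg (hF : Fintype.card F = 5 ^ 2) (M : Matrix (Fin 3) (Fin 3) F) (h : IsU M) (hdet : M.det = 1) :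
    uGL M h ∈ SUg 3 F 5 := by
  classical
  rw [Cfsg.Agent.Lib.Helper4.SUMLeaf.mem_SUg_iff]
  refine ⟨fun u v => ?_, hdet⟩
  exact hermForm_mulVec_of_orthoN hF M (orthoN_of_IsU h) u v

omit [Fintype F] in
/-- conjugating `SU` by an element of `GU` -/
theorem conj_mem_SUg {P A : GL (Fin 3) F} (hP : P ∈ Cfsg.GU 3 F 5) (hA : A ∈ SUg 3 F 5) :
    P * A * P⁻¹ ∈ SUg 3 F 5 := by
  have hA' := Subgroup.mem_inf.mp hA
  refine Subgroup.mem_inf.mpr ⟨(Cfsg.GU 3 F 5).mul_mem ((Cfsg.GU 3 F 5).mul_mem hP hA'.1)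
    ((Cfsg.GU 3 F 5).inv_mem hP), ?_⟩
  have hn : (Matrix.GeneralLinearGroup.det : GL (Fin 3) F →* Fˣ).ker.Normal := MonoidHom.normal_ker _
  exact hn.conj_mem A hA'.2 P

/-! ### the overgroup -/

/-- the stabiliser in `SU` of the set `{x | PPv (P⁻¹ x)}` -/
def Lsub (P : GL (Fin 3) F) : Subgroup (GL (Fin 3) F) where
  carrier := {g | g ∈ SUg 3 F 5 ∧ ∀ v : Fin 3 → F,
    PPv (((P⁻¹ * g * P : GL (Fin 3) F) : Matrix (Fin 3) (Fin 3) F) *ᵥ v) ↔ PPv v}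
  one_mem' := ⟨one_mem _, fun v => by rw [mul_one, inv_mul_cancel, Units.val_one, Matrix.one_mulVec]⟩
  mul_mem' := by
    rintro a b ⟨ha, ha'⟩ ⟨hb, hb'⟩
    refine ⟨mul_mem ha hb, fun v => ?_⟩
    have e : P⁻¹ * (a * b) * P = (P⁻¹ * a * P) * (P⁻¹ * b * P) := by group
    rw [e, Units.val_mul, ← Matrix.mulVec_mulVec, ha', hb']
  inv_mem' := by
    rintro a ⟨ha, ha'⟩
    refine ⟨inv_mem ha, fun v => ?_⟩
    have e : (P⁻¹ * a * P) * (P⁻¹ * a⁻¹ * P) = 1 := by group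
    have := ha' (((P⁻¹ * a⁻¹ * P : GL (Fin 3) F) : Matrix (Fin 3) (Fin 3) F) *ᵥ v)
    rw [Matrix.mulVec_mulVec, ← Units.val_mul, e, Units.val_one, Matrix.one_mulVec] at this
    exact this.symm

omit [Fintype F] in
theorem mem_Lsub {P g : GL (Fin 3) F} : g ∈ Lsub P ↔ g ∈ SUg 3 F 5 ∧ ∀ v : Fin 3 → F,
    PPv (((P⁻¹ * g * P : GL (Fin 3) F) : Matrix (Fin 3) (Fin 3) F) *ᵥ v) ↔ PPv v := Iff.rfl

omit [Fintype F] in
theorem Lsub_le (P : GL (Fin 3) F) : Lsub P ≤ SUg 3 F 5 := fun g hg => hg.1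

omit [Fintype F] in
/-- a conjugate `P A P⁻¹` lies in `Lsub P` iff `A` preserves `PPv` -/
theorem conj_mem_Lsub {P A : GL (Fin 3) F} (hPA : P * A * P⁻¹ ∈ SUg 3 F 5) :
    P * A * P⁻¹ ∈ Lsub P ↔ ∀ v : Fin 3 → F, PPv ((A : Matrix (Fin 3) (Fin 3) F) *ᵥ v) ↔ PPv v := by
  have e : P⁻¹ * (P * A * P⁻¹) * P = A := by group
  rw [mem_Lsub, e]
  exact ⟨fun h => h.2, fun h => ⟨hPA, h⟩⟩

end Cfsg.Agent.Lib.Helper12.SU3Fr
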