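import Mathlib
import Cfsg.Agent.Lib.Helper4.SUMDefs
import Cfsg.Agent.Lib.Helper4.SUMT
import Cfsg.Agent.Lib.Helper5.HermBridge
import Cfsg.Agent.Lib.Helper12.SU3FrC

/-!
SUnMax stage 2, `n = 3`, `q = 5`, leaf E1a `su3_five_frame_not_max`, part D: the orthonormal frame and
`Stab(D) ∩ SU ≤ Lsub`.  Taker: helper12.
-/

set_option autoImplicit false
set_option linter.unusedSectionVars false
set_option linter.unusedVariables false

namespace Cfsg.Agent.Lib.Helper12.SU3Fr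

open Cfsg.Geo Matrix Module Cfsg.Agent.Lib.Helper4.SUM Cfsg.Agent.Lib.Helper14

variable {F : Type*} [Field F] [Fintype F]

/-! ### an orthonormal frame -/

theorem exists_frame25 (hF : Fintype.card F = 5 ^ 2) (D : Fin 3 → Submodule F (Fin 3 → F))
    (hD : IsNondegenerateMDecomposition (Cfsg.hermForm 3 F 5) 1 D) :
    ∃ w : Fin 3 → Fin 3 → F, OrthoN F 5 3 3 w ∧ (∀ i, w i ∈ D i) ∧ ∀ i, ∀ x ∈ D i, ∃ a : F, x = a • w i := by
  classical
  have hu := Cfsg.Agent.Lib.Helper5.HermBridge.herm_unitary (n := 1) hF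
  have hex : ∀ i, ∃ v : Fin 3 → F, v ∈ D i ∧ Cfsg.hermForm 3 F 5 v v = 1 ∧ ∀ x ∈ D i, ∃ a : F, x = a • v := by
    intro i
    obtain ⟨v, hv0, hv⟩ := finrank_eq_one_iff'.mp (hD.decomp.finrank_eq i)
    have hv0' : v.1 ≠ 0 := fun h => hv0 (Subtype.ext h)
    have hspan : ∀ x ∈ D i, ∃ a : F, x = a • v.1 := by
      intro x hx
      obtain ⟨a, ha⟩ := hv ⟨x, hx⟩
      exact ⟨a, (congrArg Subtype.val ha).symm⟩
    obtain ⟨⟨x, hx, hxv⟩, -⟩ := hD.nondegenerate i v.1 v.2 hv0'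
    obtain ⟨a, rfl⟩ := hspan x hx
    have hn0 : Cfsg.hermForm 3 F 5 v.1 v.1 ≠ 0 := by
      intro h
      apply hxv
      rw [hermForm_smul_left, h, mul_zero]
    have hN := hermForm_self_pow hF v.1
    obtain ⟨N, hNdef⟩ : ∃ N, N = Cfsg.hermForm 3 F 5 v.1 v.1 := ⟨_, rfl⟩
    rw [← hNdef] at hN hn0
    have hfix : Cfsg.Agent.Lib.Helper5.HermBridge.frobQ hF N⁻¹ = N⁻¹ := by
      rw [Cfsg.Agent.Lib.Helper5.HermBridge.frobQ_apply, inv_pow, hN]
    obtain ⟨z, hz⟩ := Cfsg.Agent.Lib.Helper5.UForm.norm_surj hu.involutive hu.ne_refl N⁻¹ (inv_ne_zero hn0) hfix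
    have hz' : z * z ^ 5 = N⁻¹ := hz
    have hz0 : z ≠ 0 := by
      rintro rfl
      rw [zero_mul] at hz'
      exact (inv_ne_zero hn0) hz'.symm
    refine ⟨z • v.1, (D i).smul_mem _ v.2, ?_, ?_⟩
    · rw [hermForm_smul_left, hermForm_smul_right, ← hNdef]
      calc z * (z ^ 5 * N) = (z * z ^ 5) * N := by ring
        _ = 1 := by rw [hz', inv_mul_cancel₀ hn0]
    · intro x hx
      obtain ⟨a, ha⟩ := hspan x hx
      refine ⟨a * z⁻¹, ?_⟩
      rw [smul_smul, mul_assoc, inv_mul_cancel₀ hz0, mul_one, ha]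
  choose w hwD hw1 hspan using hex
  refine ⟨w, ?_, hwD, hspan⟩
  intro i j
  by_cases hij : i = j
  · subst hij
    rw [if_pos rfl]
    exact hw1 i
  · rw [if_neg hij]
    exact hD.orthogonal i j hij (w i) (hwD i) (w j) (hwD j)

/-- the matrix with columns `w j` -/
def Wm (w : Fin 3 → Fin 3 → F) : Matrix (Fin 3) (Fin 3) F := fun i j => w j i

omit [Fintype F] in
theorem IsU_Wm {w : Fin 3 → Fin 3 → F} (hw : OrthoN F 5 3 3 w) : IsU (Wm w) :=
  IsU_of_orthoN (M := Wm w) hw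

omit [Fintype F] in
theorem Wm_mulVec_single (w : Fin 3 → Fin 3 → F) (k : Fin 3) : Wm w *ᵥ Pi.single k 1 = w k := by
  classical
  funext i
  rw [Matrix.mulVec_single_one]
  rfl

omit [Fintype F] in
theorem Wm_mulVec (w : Fin 3 → Fin 3 → F) (c : Fin 3 → F) : Wm w *ᵥ c = comb w c := by
  classical
  exact mulVec_eq_comb (Wm w) c

/-- the frame as an element of `GL` -/
def Wg {w : Fin 3 → Fin 3 → F} (hw : OrthoN F 5 3 3 w) : GL (Fin 3) F := uGL (Wm w) (IsU_Wm hw)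

omit [Fintype F] in
theorem Wg_inv_mulVec {w : Fin 3 → Fin 3 → F} (hw : OrthoN F 5 3 3 w) (k : Fin 3) :
    (((Wg hw)⁻¹ : GL (Fin 3) F) : Matrix (Fin 3) (Fin 3) F) *ᵥ w k = Pi.single k 1 := by
  rw [← Wm_mulVec_single w k, Matrix.mulVec_mulVec]
  have : (((Wg hw)⁻¹ : GL (Fin 3) F) : Matrix (Fin 3) (Fin 3) F) * Wm w = 1 := by
    have h := Units.inv_mul (Wg hw)
    exact h
  rw [this, Matrix.one_mulVec]

omit [Fintype F] in
/-- two matrices agreeing on the standard basis are equal -/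
theorem mat_eq_of_single {A B : Matrix (Fin 3) (Fin 3) F}
    (h : ∀ k, A *ᵥ Pi.single k 1 = B *ᵥ Pi.single k 1) : A = B := by
  classical
  ext i k
  have := congrFun (h k) i
  rw [Matrix.mulVec_single_one, Matrix.mulVec_single_one] at this
  exact this

/-! ### the frame stabiliser lies in the overgroup -/

theorem stab_le_Lsub (hF : Fintype.card F = 5 ^ 2) {w : Fin 3 → Fin 3 → F} (hw : OrthoN F 5 3 3 w)
    (D : Fin 3 → Submodule F (Fin 3 → F)) (hwD : ∀ i, w i ∈ D i)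
    (hspan : ∀ i, ∀ x ∈ D i, ∃ a : F, x = a • w i) :
    decompositionStabilizer D ⊓ SUg 3 F 5 ≤ Lsub (Wg hw) := by
  classical
  rintro g ⟨⟨σ, hσ⟩, hg⟩
  refine ⟨hg, fun v => ?_⟩
  have hex : ∀ i, ∃ a : F, (g : Matrix (Fin 3) (Fin 3) F) *ᵥ w i = a • w (σ i) := fun i => by
    apply hspan (σ i)
    rw [← hσ i]
    exact Submodule.mem_map.mpr ⟨w i, hwD i, by rw [Matrix.toLin'_apply]⟩
  choose μ hμ using hex
  obtain ⟨hgU, hgdet⟩ := (Cfsg.Agent.Lib.Helper4.SUMLeaf.mem_SUg_iff g).mp hg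
  have hμ1 : ∀ i, nrm (μ i) = 1 := fun i => by
    have h1 := hgU (w i) (w i)
    rw [hμ i, hermForm_smul_left, hermForm_smul_right, hw, hw, if_pos rfl, if_pos rfl, mul_one] at h1
    exact h1
  -- the conjugate is monomial
  have hB : (((Wg hw)⁻¹ * g * Wg hw : GL (Fin 3) F) : Matrix (Fin 3) (Fin 3) F) = monoM σ.symm μ := by
    apply mat_eq_of_single
    intro k
    rw [Units.val_mul, Units.val_mul, ← Matrix.mulVec_mulVec, ← Matrix.mulVec_mulVec]
    have e1 : ((Wg hw : GL (Fin 3) F) : Matrix (Fin 3) (Fin 3) F) *ᵥ Pi.single k 1 = w k := Wm_mulVec_single w k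
    rw [e1, hμ k, Matrix.mulVec_smul, Wg_inv_mulVec hw]
    funext j
    rw [monoM_mulVec, Pi.smul_apply, smul_eq_mul]
    by_cases hj : j = σ k
    · subst hj
      rw [Equiv.symm_apply_apply, Pi.single_eq_same, Pi.single_eq_same]
    · have hj' : σ.symm j ≠ k := fun e => hj (by rw [← e, Equiv.apply_symm_apply])
      rw [Pi.single_eq_of_ne hj, Pi.single_eq_of_ne hj', mul_zero, mul_zero]
  have hdet : (monoM σ.symm μ).det = 1 := by
    rw [← hB, Units.val_mul, Units.val_mul, Matrix.det_mul, Matrix.det_mul, mul_right_comm, ← Matrix.det_mul,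
      ← Units.val_mul, inv_mul_cancel, Units.val_one, Matrix.det_one, one_mul]
    exact hgdet
  have hm : (∏ i, μ i) ^ 2 = 1 := by
    rw [← det_monoM_sq σ.symm μ, hdet, one_pow]
  rw [hB, PPv_iff_PPs, PPv_iff_PPs]
  have e2 : (monoM σ.symm μ) *ᵥ v = fun j => μ (σ.symm j) * v (σ.symm j) := by
    funext j
    exact monoM_mulVec σ.symm μ v j
  rw [e2]
  exact PPs_mono σ.symm μ hμ1 hm v

end Cfsg.Agent.Lib.Helper12.SU3Fr
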