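import Mathlib
import Cfsg.Agent.Lib.Helper4.SUMDefs
import Cfsg.Agent.Lib.Helper4.SUMT
import Cfsg.Agent.Lib.Helper5.HermBridge
import Cfsg.Agent.Lib.Helper12.SU3FrD

/-!
SUnMax stage 2 (planner helper4, `n = 3` block helper8), leaf E1a `su3_five_frame_not_max` (EXACT signature of
`notes/SUnMax_stage2_leaves.lean`): the frame group `6^2 : S_3` of `SU_3(5)` lies in `3.A_7`.  Taker: helper12.

Overgroup: `Lsub P` = the stabiliser in `SU_3(5)` of `{x | PPv (P⁻¹ x)}`, `P` an orthonormal basis of the frame, `PPv` the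
predicate "nonisotropic, two equal coordinate norms, `(abc)^9 = abc`" (105 points).  Witnesses: `g0 = !![1,1,3;4,3,1;2,1,4]`
(in `Lsub`, not monomial) and `g1 = !![a,-2,0;2,a^5,0;0,0,1]`, `N(a) = 2` (in `SU`, not in `Lsub`).
-/

set_option autoImplicit false
set_option linter.unusedSectionVars false
set_option linter.unusedVariables false

namespace Cfsg.Agent.Lib.Helper12.SU3Fr

open Cfsg.Geo Matrix Module Cfsg.Agent.Lib.Helper4.SUM Cfsg.Agent.Lib.Helper14

variable {F : Type*} [Field F] [Fintype F]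

/-! ### the witness `g0` -/

/-- `g0` over `ZMod 5` -/
def A0z : Matrix (Fin 3) (Fin 3) (ZMod 5) := !![1, 1, 3; 4, 3, 1; 2, 1, 4]

/-- `g0` -/
def A0 : Matrix (Fin 3) (Fin 3) F := !![1, 1, 3; 4, 3, 1; 2, 1, 4]

theorem A0z_unit : A0zᵀ * A0z.map (fun x => x ^ 5) = 1 := by decide

theorem A0z_det : A0z.det = 1 := by
  rw [Matrix.det_fin_three]
  decide

theorem charP25 (hF : Fintype.card F = 5 ^ 2) : CharP F 5 := by
  have h5 := five_eq_zero hF
  have : ringChar F = 5 := CharP.ringChar_of_prime_eq_zero (by norm_num) (by exact_mod_cast h5)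
  exact ringChar.of_eq this

theorem A0_eq_map (hF : Fintype.card F = 5 ^ 2) :
    haveI := charP25 hF
    (A0 : Matrix (Fin 3) (Fin 3) F) = A0z.map (ZMod.castHom (dvd_refl 5) F) := by
  haveI := charP25 hF
  ext i j
  fin_cases i <;> fin_cases j <;> simp [A0, A0z] <;>
    first
    | rfl
    | exact (map_ofNat (ZMod.castHom (dvd_refl 5) F) _).symm

theorem IsU_A0 (hF : Fintype.card F = 5 ^ 2) : IsU (A0 : Matrix (Fin 3) (Fin 3) F) := by
  haveI := charP25 hF
  unfold IsU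
  rw [A0_eq_map hF]
  have h1 : (A0z.map (ZMod.castHom (dvd_refl 5) F)).map (fun x => x ^ 5) =
      (A0z.map (fun x => x ^ 5)).map (ZMod.castHom (dvd_refl 5) F) := by
    ext i j
    simp only [Matrix.map_apply, map_pow]
  rw [h1, ← Matrix.transpose_map, ← Matrix.map_mul, A0z_unit]
  exact Matrix.map_one _ (map_zero _) (map_one _)

theorem det_A0 (hF : Fintype.card F = 5 ^ 2) : (A0 : Matrix (Fin 3) (Fin 3) F).det = 1 := by
  haveI := charP25 hF
  rw [A0_eq_map hF]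
  have := (RingHom.map_det (ZMod.castHom (dvd_refl 5) F) A0z).symm
  rw [RingHom.mapMatrix_apply] at this
  rw [this, A0z_det, map_one]

omit [Fintype F] in
theorem A0_mulVec (v : Fin 3 → F) :
    (A0 : Matrix (Fin 3) (Fin 3) F) *ᵥ v = ![v 0 + v 1 + 3 * v 2, 4 * v 0 + 3 * v 1 + v 2, 2 * v 0 + v 1 + 4 * v 2] := by
  funext i
  fin_cases i <;> simp [A0, Matrix.mulVec, dotProduct, Fin.sum_univ_three]

theorem A0_PPv (hF : Fintype.card F = 5 ^ 2) (v : Fin 3 → F) :
    PPv ((A0 : Matrix (Fin 3) (Fin 3) F) *ᵥ v) ↔ PPv v := by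
  rw [A0_mulVec]
  unfold PPv
  exact (PPc_g0 hF (v 0) (v 1) (v 2)).symm

/-! ### the witness `g1` -/

/-- `g1` -/
def A1 (a : F) : Matrix (Fin 3) (Fin 3) F := !![a, -2, 0; 2, a ^ 5, 0; 0, 0, 1]

theorem IsU_A1 (hF : Fintype.card F = 5 ^ 2) {a : F} (ha : a * a ^ 5 = 2) : IsU (A1 a) := by
  have h5 := five_eq_zero hF
  have h25 := pow_25 hF a
  unfold IsU
  ext i j
  fin_cases i <;> fin_cases j <;>
    simp [A1, Matrix.mul_apply, Fin.sum_univ_three] <;>
    first
    | linear_combination ha + 13 * h5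
    | linear_combination 2 * h25 - 6 * a * h5
    | linear_combination 6 * a ^ 5 * h5
    | linear_combination a ^ 5 * h25 + ha + 13 * h5

theorem det_A1 (hF : Fintype.card F = 5 ^ 2) {a : F} (ha : a * a ^ 5 = 2) : (A1 a).det = 1 := by
  have h5 := five_eq_zero hF
  rw [Matrix.det_fin_three]
  simp [A1]
  linear_combination ha + h5

omit [Fintype F] in
theorem A1_mulVec_single (a : F) : A1 a *ᵥ Pi.single 0 1 = ![a, 2, 0] := by
  funext i
  rw [Matrix.mulVec_single_one]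
  fin_cases i <;> simp [A1]

theorem PPv_single (hF : Fintype.card F = 5 ^ 2) : PPv (Pi.single 0 1 : Fin 3 → F) := by
  unfold PPv PPc
  simp [nrm_zero, nrm_one]

theorem not_PPv_A1 (hF : Fintype.card F = 5 ^ 2) {a : F} (ha : a * a ^ 5 = 2) : ¬ PPv (![a, 2, 0] : Fin 3 → F) := by
  have h5 := five_eq_zero hF
  have h2 := two_ne_zero25 hF
  unfold PPv PPc
  rintro ⟨-, h, -⟩
  have e1 : nrm a = 2 := ha
  have e2 : nrm (2 : F) = 4 := by
    unfold nrm
    linear_combination (12 : F) * h5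
  simp only [Matrix.cons_val_zero, Matrix.cons_val_one, Matrix.cons_val_two, Matrix.head_cons, Matrix.tail_cons] at h
  rcases h with h | h | h
  · rw [e1, e2] at h
    apply h2
    linear_combination (-1 : F) * h
  · rw [e2, nrm_zero] at h
    exact four_ne_zero25 hF h
  · rw [e1, nrm_zero] at h
    exact h2 h

end Cfsg.Agent.Lib.Helper12.SU3Fr

namespace Cfsg.Agent.Lib.Helper12.SUMLeaf

open Cfsg.Geo Matrix Module Cfsg.Agent.Lib.Helper4.SUM Cfsg.Agent.Lib.Helper14 Cfsg.Agent.Lib.Helper12.SU3Fr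

variable {F : Type*} [Field F] [Fintype F]

theorem fin3_succ_ne : ∀ s : Fin 3, s + 1 ≠ s := by decide

/-- E1a (NM).  `6^2 : S_3 < 3.A_7`. -/
theorem su3_five_frame_not_max (hF : Fintype.card F = 5 ^ 2) (D : Fin 3 → Submodule F (Fin 3 → F))
    (hD : IsNondegenerateMDecomposition (Cfsg.hermForm 3 F 5) 1 D) :
    ¬ IsMaximalIn (Cfsg.GU 3 F 5 ⊓ specialLinear (Fin 3) F)
      (decompositionStabilizer D ⊓ (Cfsg.GU 3 F 5 ⊓ specialLinear (Fin 3) F)) := by
  classical
  obtain ⟨w, hw, hwD, hspan⟩ := exists_frame25 hF D hD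
  have hP : Wg hw ∈ Cfsg.GU 3 F 5 := uGL_mem_GU hF _ _
  have hle : decompositionStabilizer D ⊓ SUg 3 F 5 ≤ Lsub (Wg hw) := stab_le_Lsub hF hw D hwD hspan
  rintro ⟨-, hmax⟩
  rcases hmax (Lsub (Wg hw)) hle (Lsub_le _) with h | h
  · -- `g0` is in `Lsub` but does not stabilise the frame
    have hA0 : uGL A0 (IsU_A0 hF) ∈ SUg 3 F 5 := uGL_mem_SUg hF _ _ (det_A0 hF)
    have hconj := conj_mem_SUg hP hA0
    have hmem : Wg hw * uGL A0 (IsU_A0 hF) * (Wg hw)⁻¹ ∈ Lsub (Wg hw) :=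
      (conj_mem_Lsub hconj).mpr (fun v => A0_PPv hF v)
    rw [h] at hmem
    obtain ⟨σ, hσ⟩ := hmem.1
    -- the image of `w 0`
    have himg : ((Wg hw * uGL A0 (IsU_A0 hF) * (Wg hw)⁻¹ : GL (Fin 3) F) : Matrix (Fin 3) (Fin 3) F) *ᵥ w 0 =
        comb w ![1, 4, 2] := by
      rw [Units.val_mul, Units.val_mul, ← Matrix.mulVec_mulVec, ← Matrix.mulVec_mulVec, Wg_inv_mulVec hw]
      have e1 : ((uGL A0 (IsU_A0 hF) : GL (Fin 3) F) : Matrix (Fin 3) (Fin 3) F) *ᵥ Pi.single 0 1 = ![1, 4, 2] := by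
        rw [uGL_val, Matrix.mulVec_single_one]
        funext i
        fin_cases i <;> simp [A0]
      rw [e1]
      exact Wm_mulVec w _
    have hin : comb w ![(1 : F), 4, 2] ∈ D (σ 0) := by
      rw [← himg, ← hσ 0]
      exact Submodule.mem_map.mpr ⟨w 0, hwD 0, by rw [Matrix.toLin'_apply]⟩
    obtain ⟨a, ha⟩ := hspan (σ 0) _ hin
    have hc := hermForm_comb_left hw ![(1 : F), 4, 2] (σ 0 + 1)
    rw [ha, hermForm_smul_left, hw, if_neg (fun e => fin3_succ_ne (σ 0) e.symm), mul_zero] at hc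
    have h5 := five_eq_zero hF
    have hne : ∀ j : Fin 3, (![(1 : F), 4, 2] : Fin 3 → F) j ≠ 0 := by
      intro j
      fin_cases j
      · exact one_ne_zero
      · exact four_ne_zero25 hF
      · exact two_ne_zero25 hF
    exact hne _ hc.symm
  · -- `g1` is in `SU` but not in `Lsub`
    obtain ⟨a, ha⟩ := exists_norm_two hF
    have hA1 : uGL (A1 a) (IsU_A1 hF ha) ∈ SUg 3 F 5 := uGL_mem_SUg hF _ _ (det_A1 hF ha)
    have hconj := conj_mem_SUg hP hA1
    have hmem : Wg hw * uGL (A1 a) (IsU_A1 hF ha) * (Wg hw)⁻¹ ∈ Lsub (Wg hw) := by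
      rw [h]
      exact hconj
    have := ((conj_mem_Lsub hconj).mp hmem (Pi.single 0 1)).mpr (PPv_single hF)
    rw [uGL_val, A1_mulVec_single] at this
    exact not_PPv_A1 hF ha this

end Cfsg.Agent.Lib.Helper12.SUMLeaf
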