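import Mathlib
import Cfsg.Prelude.Def_GeometricClasses
import Cfsg.Prelude.Def_LieClassical
import Cfsg.Agent.Lib.Helper12.ST64K
import Cfsg.Agent.Lib.Helper15.UnitaryCent

/-! Helper12 library (SU64, part A): set-up for S6001 (the unitary twin of S6000): the structure
`H64` from the separate hypotheses, and: an element of `GL₄(p²)` normalizing the unitary group
`R = 4 ∘ 2^{1+4}` is unitary up to a scalar of the prime field. -/

set_option autoImplicit false
set_option linter.unusedSectionVars false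
set_option linter.unusedVariables false
set_option linter.style.haveILetI false
set_option linter.unusedSimpArgs false

namespace Cfsg.Agent.Lib.Helper12.SU64

open Matrix Module Cfsg.Agent.Lib.Helper12.Ex32 Cfsg.Agent.Lib.Helper12.ST64
  Cfsg.Agent.Lib.Helper14
open scoped MatrixGroups commutatorElement

section A

variable {F : Type*} [Field F] [Fintype F]

theorem exists_H64_of_parts (h2 : (2 : F) ≠ 0) (R : Subgroup (GL (Fin 4) F))
    (hRs : Cfsg.Geo.IsSymplecticTypeGroup 2 R)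
    (hRi : Cfsg.Geo.ActsAbsolutelyIrreducibly (Cfsg.Geo.matrixSet R))
    (hR6 : Nat.card R = 2 ^ 6) (hZ : Nat.card (Subgroup.center R) = 4) :
    ∃ (i : F) (ζ : R), H64 R i ζ := by
  classical
  letI : Fintype R := Fintype.ofFinite R
  have hcard : Fintype.card R = 64 := by
    rw [← Nat.card_eq_fintype_card, hR6]; norm_num
  have hc : Sc R := hRi.2
  have hexp : Monoid.exponent R = 4 := by
    rw [hRs.exponent_eq]; rfl
  have hexp' : ∀ x : R, x ^ 4 = 1 := by
    intro x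
    have := Monoid.pow_exponent_eq_one x
    rwa [hexp] at this
  obtain ⟨hL1, hL2⟩ := Cfsg.Agent.Lib.Helper13.Leaf6000.L1 hRs.pGroup hZ hexp
    hRs.cyclic_of_characteristic
  have hcomm_sq : ∀ u ∈ Subgroup.upperCentralSeries R 2, ∀ g : R, ⁅u, g⁆ ^ 2 = 1 := by
    intro u hu g
    have h1 := hL1 u hu g
    have h3 : ⁅u, g⁆ = (g * u * g⁻¹ * u⁻¹)⁻¹ := by
      rw [commutatorElement_def]; group
    rw [h3, inv_pow, h1, inv_one]
  have hι : Fintype.card (Fin 4) = 4 := Fintype.card_fin 4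
  have hn : (Fintype.card (Fin 4) : F) ≠ 0 := by
    rw [hι]
    have : ((4 : ℕ) : F) = 2 * 2 := by norm_num
    rw [this]
    exact mul_ne_zero h2 h2
  have hRF : (Fintype.card R : F) ≠ 0 := by
    rw [hcard]
    have : ((64 : ℕ) : F) = 2 ^ 6 := by norm_num
    rw [this]
    exact pow_ne_zero _ h2
  have hz2 := z2_eq_top R hc hn hRF h2 hι hcard hZ hcomm_sq hL2
  have h1' : ∀ u g : R, ⁅u, g⁆ ^ 2 = 1 := by
    intro u g
    apply hcomm_sq u _ g
    rw [hz2]
    exact Subgroup.mem_top _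
  exact exists_H64 hc h2 hι hcard hZ hexp' hz2 h1'

variable {p : ℕ}

/-- unitarity in terms of the Frobenius star structure -/
theorem isUni_iff_star (hF : Fintype.card F = p ^ 2) (M : Matrix (Fin 4) (Fin 4) F) :
    IsUni F p 4 M ↔
      (letI : StarRing F := Cfsg.Agent.S2643.frobStar hF; Mᴴ * M = 1) :=
  Cfsg.Agent.S2643.isUni_iff hF M

theorem mem_GU_iff_isUni (g : GL (Fin 4) F) :
    g ∈ Cfsg.GU 4 F p ↔ IsUni F p 4 (g : Matrix (Fin 4) (Fin 4) F) := Iff.rfl

theorem isUni_mul {M N : Matrix (Fin 4) (Fin 4) F} (hM : IsUni F p 4 M) (hN : IsUni F p 4 N) :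
    IsUni F p 4 (M * N) := hM.mul hN

theorem isUni_one' : IsUni F p 4 (1 : Matrix (Fin 4) (Fin 4) F) := by
  intro u v
  rw [Matrix.one_mulVec, Matrix.one_mulVec]

theorem isUni_smul_one (hF : Fintype.card F = p ^ 2) (μ : F) (hμ : μ ^ (p + 1) = 1) :
    IsUni F p 4 (μ • (1 : Matrix (Fin 4) (Fin 4) F)) := by
  rw [isUni_iff_star hF]
  letI : StarRing F := Cfsg.Agent.S2643.frobStar hF
  show (μ • (1 : Matrix (Fin 4) (Fin 4) F))ᴴ * (μ • (1 : Matrix (Fin 4) (Fin 4) F)) = 1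
  rw [Matrix.conjTranspose_smul, Matrix.conjTranspose_one, Matrix.smul_mul, Matrix.mul_smul,
    Matrix.one_mul, smul_smul]
  have : star μ * μ = 1 := by
    show μ ^ p * μ = 1
    rw [← pow_succ, hμ]
  rw [this, one_smul]

end A

section B

variable {F : Type*} [Field F] [Fintype F] {p : ℕ}

variable {R : Subgroup (GL (Fin 4) F)} {i : F} {ζ : R} [Fintype R]

/-- an element normalizing the unitary group `R` is unitary up to a scalar of the prime field -/
theorem normalizer_star (hF : Fintype.card F = p ^ 2) (h : H64 R i ζ)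
    (hRU : R ≤ Cfsg.GU 4 F p) (n : GL (Fin 4) F)
    (hn : n ∈ Subgroup.normalizer (R : Set (GL (Fin 4) F))) :
    letI : StarRing F := Cfsg.Agent.S2643.frobStar hF
    ∃ c : F, c ≠ 0 ∧ c ^ p = c ∧
      (n : Matrix (Fin 4) (Fin 4) F)ᴴ * (n : Matrix (Fin 4) (Fin 4) F) =
        c • (1 : Matrix (Fin 4) (Fin 4) F) := by
  letI : StarRing F := Cfsg.Agent.S2643.frobStar hF
  set N : Matrix (Fin 4) (Fin 4) F := (n : Matrix (Fin 4) (Fin 4) F) with hN
  have hRstar : ∀ x : R, (mat R x)ᴴ = mat R x⁻¹ := by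
    intro x
    have h1 : IsUni F p 4 (mat R x) := hRU x.2
    have h2 : (mat R x)ᴴ * mat R x = 1 := (isUni_iff_star hF _).1 h1
    calc (mat R x)ᴴ = (mat R x)ᴴ * (mat R x * mat R x⁻¹) := by
          rw [mat_mul_inv, Matrix.mul_one]
      _ = mat R x⁻¹ := by rw [← Matrix.mul_assoc, h2, Matrix.one_mul]
  -- `Nᴴ N` commutes with `R`
  have hcomm : ∀ s ∈ Cfsg.Geo.matrixSet R, Nᴴ * N * s = s * (Nᴴ * N) := by
    rintro s ⟨x, hx, rfl⟩
    -- `n x n⁻¹ = y ∈ R`
    have hy : n * x * n⁻¹ ∈ R := (Subgroup.mem_normalizer_iff.1 hn x).1 hx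
    set X : Matrix (Fin 4) (Fin 4) F := mat R ⟨x, hx⟩ with hX
    set Y : Matrix (Fin 4) (Fin 4) F := mat R ⟨n * x * n⁻¹, hy⟩ with hY
    have hNX : N * X = Y * N := by
      show (n : Matrix (Fin 4) (Fin 4) F) * (x : Matrix (Fin 4) (Fin 4) F) =
        ((n * x * n⁻¹ : GL (Fin 4) F) : Matrix (Fin 4) (Fin 4) F) *
          (n : Matrix (Fin 4) (Fin 4) F)
      rw [← Units.val_mul, ← Units.val_mul]
      congr 1
      group
    -- star of this relation, for `x⁻¹`
    have hy' : n * x⁻¹ * n⁻¹ ∈ R := (Subgroup.mem_normalizer_iff.1 hn x⁻¹).1 (R.inv_mem hx)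
    have hNX' : N * mat R (⟨x, hx⟩ : R)⁻¹ = mat R (⟨n * x * n⁻¹, hy⟩ : R)⁻¹ * N := by
      show (n : Matrix (Fin 4) (Fin 4) F) * ((x⁻¹ : GL (Fin 4) F) : Matrix (Fin 4) (Fin 4) F) =
        (((n * x * n⁻¹)⁻¹ : GL (Fin 4) F) : Matrix (Fin 4) (Fin 4) F) *
          (n : Matrix (Fin 4) (Fin 4) F)
      rw [← Units.val_mul, ← Units.val_mul]
      congr 1
      group
    have h4 := congrArg Matrix.conjTranspose hNX'
    rw [Matrix.conjTranspose_mul, Matrix.conjTranspose_mul, hRstar, hRstar, inv_inv, inv_inv] at h4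
    -- `X Nᴴ = Nᴴ Y`
    show Nᴴ * N * X = X * (Nᴴ * N)
    rw [Matrix.mul_assoc, hNX, ← Matrix.mul_assoc, ← h4, Matrix.mul_assoc]
  obtain ⟨c, hc⟩ := h.sc _ hcomm
  have hNu : IsUnit (Nᴴ * N) := by
    have h1 : IsUnit N := ⟨n, rfl⟩
    have h2 : IsUnit Nᴴ := by
      rw [Matrix.isUnit_iff_isUnit_det, Matrix.det_conjTranspose]
      have := (Matrix.isUnit_iff_isUnit_det N).1 h1
      exact this.star
    exact h2.mul h1
  refine ⟨c, ?_, ?_, hc⟩
  · rintro rfl
    rw [hc, zero_smul] at hNu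
    exact not_isUnit_zero hNu
  · have h1 : (Nᴴ * N)ᴴ = Nᴴ * N := by
      rw [Matrix.conjTranspose_mul, Matrix.conjTranspose_conjTranspose]
    rw [hc, Matrix.conjTranspose_smul, Matrix.conjTranspose_one] at h1
    have h2 : star c = c := smul_one_injective (ι := Fin 4) _ _ h1
    exact h2

end B

end Cfsg.Agent.Lib.Helper12.SU64
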