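import Mathlib
import Cfsg.Agent.Lib.Helper12.SU64A
import Cfsg.Agent.Lib.Helper12.ST64M

/-! Helper12 library (SU64, part B): elements of finite order normalizing `R` are unitary (under
trace conditions), and: `GL`-conjugate unitary elements of order prime to `p` are conjugate under
a unitary matrix of determinant one. -/

set_option autoImplicit false
set_option linter.unusedSectionVars false
set_option linter.unusedVariables false
set_option linter.style.haveILetI false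
set_option linter.unusedSimpArgs false

namespace Cfsg.Agent.Lib.Helper12.SU64

open Matrix Module Cfsg.Agent.Lib.Helper12.Ex32 Cfsg.Agent.Lib.Helper12.ST64
  Cfsg.Agent.Lib.Helper14
open scoped MatrixGroups

section B

variable {F : Type*} [Field F] [Fintype F] {p : ℕ}

variable {R : Subgroup (GL (Fin 4) F)} {i : F} {ζ : R} [Fintype R]

/-- an involution with nonzero trace in the prime field, normalizing `R`, is unitary -/
theorem unitary_of_sq (hF : Fintype.card F = p ^ 2) (h : H64 R i ζ)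
    (hRU : R ≤ Cfsg.GU 4 F p) (n : GL (Fin 4) F)
    (hn : n ∈ Subgroup.normalizer (R : Set (GL (Fin 4) F)))
    (hsq : (n : Matrix (Fin 4) (Fin 4) F) * (n : Matrix (Fin 4) (Fin 4) F) = 1)
    (ht0 : (n : Matrix (Fin 4) (Fin 4) F).trace ≠ 0)
    (htp : (n : Matrix (Fin 4) (Fin 4) F).trace ^ p = (n : Matrix (Fin 4) (Fin 4) F).trace) :
    IsUni F p 4 (n : Matrix (Fin 4) (Fin 4) F) := by
  rw [isUni_iff_star hF]
  have key := normalizer_star hF h hRU n hn
  letI : StarRing F := Cfsg.Agent.S2643.frobStar hF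
  obtain ⟨c, hc0, hcp, hc⟩ := key
  set N : Matrix (Fin 4) (Fin 4) F := (n : Matrix (Fin 4) (Fin 4) F) with hN
  have h1 : Nᴴ = c • N := by
    calc Nᴴ = Nᴴ * (N * N) := by rw [hsq, Matrix.mul_one]
      _ = c • N := by rw [← Matrix.mul_assoc, hc, Matrix.smul_mul, Matrix.one_mul]
  have h2 : Nᴴ.trace = star N.trace := Matrix.trace_conjTranspose N
  have h3 : star N.trace = N.trace := htp
  rw [h1, Matrix.trace_smul, h3, smul_eq_mul] at h2
  have hc1 : c = 1 := by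
    have : (c - 1) * N.trace = 0 := by linear_combination h2
    rcases mul_eq_zero.1 this with h4 | h4
    · exact sub_eq_zero.1 h4
    · exact absurd h4 ht0
  show Nᴴ * N = 1
  rw [hc, hc1, one_smul]

/-- an element of order three with equal nonzero traces of `n` and `n²` in the prime field,
normalizing `R`, is unitary -/
theorem unitary_of_cube (hF : Fintype.card F = p ^ 2) (h : H64 R i ζ)
    (hRU : R ≤ Cfsg.GU 4 F p) (n : GL (Fin 4) F)
    (hn : n ∈ Subgroup.normalizer (R : Set (GL (Fin 4) F)))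
    (hcu : (n : Matrix (Fin 4) (Fin 4) F) * (n : Matrix (Fin 4) (Fin 4) F) *
      (n : Matrix (Fin 4) (Fin 4) F) = 1)
    (ht0 : (n : Matrix (Fin 4) (Fin 4) F).trace ≠ 0)
    (htp : (n : Matrix (Fin 4) (Fin 4) F).trace ^ p = (n : Matrix (Fin 4) (Fin 4) F).trace)
    (ht2 : ((n : Matrix (Fin 4) (Fin 4) F) * (n : Matrix (Fin 4) (Fin 4) F)).trace =
      (n : Matrix (Fin 4) (Fin 4) F).trace) :
    IsUni F p 4 (n : Matrix (Fin 4) (Fin 4) F) := by
  rw [isUni_iff_star hF]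
  have key := normalizer_star hF h hRU n hn
  letI : StarRing F := Cfsg.Agent.S2643.frobStar hF
  obtain ⟨c, hc0, hcp, hc⟩ := key
  set N : Matrix (Fin 4) (Fin 4) F := (n : Matrix (Fin 4) (Fin 4) F) with hN
  have h1 : Nᴴ = c • (N * N) := by
    calc Nᴴ = Nᴴ * (N * (N * N)) := by rw [← Matrix.mul_assoc N, hcu, Matrix.mul_one]
      _ = c • (N * N) := by rw [← Matrix.mul_assoc, hc, Matrix.smul_mul, Matrix.one_mul]
  have h2 : Nᴴ.trace = star N.trace := Matrix.trace_conjTranspose N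
  have h3 : star N.trace = N.trace := htp
  rw [h1, Matrix.trace_smul, h3, ht2, smul_eq_mul] at h2
  have hc1 : c = 1 := by
    have : (c - 1) * N.trace = 0 := by linear_combination h2
    rcases mul_eq_zero.1 this with h4 | h4
    · exact sub_eq_zero.1 h4
    · exact absurd h4 ht0
  show Nᴴ * N = 1
  rw [hc, hc1, one_smul]

/-- an element of order five normalizing `R` is unitary, if `5 ∤ p - 1` -/
theorem unitary_of_five (hF : Fintype.card F = p ^ 2) (h : H64 R i ζ)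
    (hRU : R ≤ Cfsg.GU 4 F p) (n : GL (Fin 4) F)
    (hn : n ∈ Subgroup.normalizer (R : Set (GL (Fin 4) F)))
    (h5 : n ^ 5 = 1) (hp1 : 1 ≤ p) (hp5 : Nat.Coprime 5 (p - 1)) :
    IsUni F p 4 (n : Matrix (Fin 4) (Fin 4) F) := by
  rw [isUni_iff_star hF]
  have key := normalizer_star hF h hRU n hn
  letI : StarRing F := Cfsg.Agent.S2643.frobStar hF
  obtain ⟨c, hc0, hcp, hc⟩ := key
  set N : Matrix (Fin 4) (Fin 4) F := (n : Matrix (Fin 4) (Fin 4) F) with hN
  have hN5 : N ^ 5 = 1 := by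
    rw [hN, ← Units.val_pow_eq_pow_val, h5, Units.val_one]
  -- `(Nᴴ N)^5 = 1` since `Nᴴ N` is central
  have hcomm : Commute Nᴴ N := by
    -- `N Nᴴ = c` as well
    have h1 : N * Nᴴ = c • 1 := by
      have hNu : IsUnit N := ⟨n, rfl⟩
      obtain ⟨u, hu⟩ := hNu
      have : Nᴴ = c • (↑u⁻¹ : Matrix (Fin 4) (Fin 4) F) := by
        calc Nᴴ = Nᴴ * (N * ↑u⁻¹) := by rw [← hu, Units.mul_inv, Matrix.mul_one]
          _ = c • ↑u⁻¹ := by rw [← Matrix.mul_assoc, hc, Matrix.smul_mul, Matrix.one_mul]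
      rw [this, Matrix.mul_smul, ← hu, Units.mul_inv]
    show Nᴴ * N = N * Nᴴ
    rw [hc, h1]
  have h1 : (Nᴴ * N) ^ 5 = 1 := by
    rw [hcomm.mul_pow, ← Matrix.conjTranspose_pow, hN5, Matrix.conjTranspose_one, Matrix.one_mul]
  rw [hc, smul_pow, one_pow] at h1
  have hc5 : c ^ 5 = 1 := smul_one_injective (ι := Fin 4) _ _ (by rw [h1, one_smul])
  have hcp1 : c ^ (p - 1) = 1 := by
    have h2 : c ^ (p - 1) * c = 1 * c := by
      rw [← pow_succ, Nat.sub_add_cancel hp1, hcp, one_mul]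
    exact mul_right_cancel₀ hc0 h2
  have hc1 : c = 1 := by
    have h3 : c ^ Nat.gcd 5 (p - 1) = 1 := pow_gcd_eq_one.2 ⟨hc5, hcp1⟩
    rwa [Nat.Coprime.gcd_eq_one hp5, pow_one] at h3
  show Nᴴ * N = 1
  rw [hc, hc1, one_smul]

end B

section C

variable {F : Type*} [Field F] [Fintype F] {p : ℕ} [Fact p.Prime] [CharP F p]

/-- `GL`-conjugate unitary matrices of order prime to `p` are conjugate under a unitary matrix of
determinant one -/
theorem su_conj (hF : Fintype.card F = p ^ 2) (x m g₀ : GL (Fin 4) F)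
    (hx : IsUni F p 4 (x : Matrix (Fin 4) (Fin 4) F))
    (hm : IsUni F p 4 (m : Matrix (Fin 4) (Fin 4) F)) (N : ℕ) (hN : (N : F) ≠ 0)
    (hxN : x ^ N = 1) (hg₀ : g₀⁻¹ * x * g₀ = m) :
    ∃ g : GL (Fin 4) F, IsUni F p 4 (g : Matrix (Fin 4) (Fin 4) F) ∧
      (g : Matrix (Fin 4) (Fin 4) F).det = 1 ∧ g⁻¹ * x * g = m := by
  classical
  have hx' := (isUni_iff_star hF _).1 hx
  have hm' := (isUni_iff_star hF _).1 hm
  have key : ∀ M : Matrix (Fin 4) (Fin 4) F, IsUni F p 4 M ↔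
      (letI : StarRing F := Cfsg.Agent.S2643.frobStar hF; Mᴴ * M = 1) :=
    fun M => isUni_iff_star hF M
  letI : StarRing F := Cfsg.Agent.S2643.frobStar hF
  obtain ⟨τ, hτ⟩ := Cfsg.Agent.S2643.exists_not_fixed hF
  have hτ' : τ - star τ ≠ 0 := by
    intro h0
    apply hτ
    have : star τ = τ := (sub_eq_zero.1 h0).symm
    exact this
  -- a unitary intertwiner
  have hAB : ((g₀⁻¹ : GL (Fin 4) F) : Matrix (Fin 4) (Fin 4) F) * (x : Matrix (Fin 4) (Fin 4) F) =
      (m : Matrix (Fin 4) (Fin 4) F) * ((g₀⁻¹ : GL (Fin 4) F) : Matrix (Fin 4) (Fin 4) F) := by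
    rw [← Units.val_mul, ← Units.val_mul, ← hg₀]
    congr 1
    group
  obtain ⟨g₁, hg₁u, hg₁⟩ := Cfsg.Agent.Lib.Helper15.UnitaryConj.unitary_conj_of_conj τ hτ'
    (x : Matrix (Fin 4) (Fin 4) F) (m : Matrix (Fin 4) (Fin 4) F)
    ((g₀⁻¹ : GL (Fin 4) F) : Matrix (Fin 4) (Fin 4) F) hx' hm' ⟨g₀⁻¹, rfl⟩ hAB
  -- determinant of `g₁` has norm one
  have hdet : g₁.det ^ p * g₁.det = 1 := by
    have := congrArg Matrix.det hg₁u
    rw [Matrix.det_mul, Matrix.det_conjTranspose, Matrix.det_one] at this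
    exact this
  have hxN' : (x : Matrix (Fin 4) (Fin 4) F) ^ N = 1 := by
    rw [← Units.val_pow_eq_pow_val, hxN, Units.val_one]
  obtain ⟨c, hcu, hcx, hcdet⟩ := Cfsg.Agent.Lib.Helper15.UnitaryCent.exists_cent_det hF
    (frobenius F p) (fun c => frobenius_def p c) 4 (by norm_num)
    (x : Matrix (Fin 4) (Fin 4) F) hx N hN hxN' g₁.det hdet
  have hcu' := (key c).1 hcu
  -- `g = c * g₁ᴴ`
  have hg₁u' : g₁ * g₁ᴴ = 1 := mul_eq_one_comm.1 hg₁u
  have hcc : c * cᴴ = 1 := mul_eq_one_comm.1 hcu'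
  set G : Matrix (Fin 4) (Fin 4) F := c * g₁ᴴ with hG
  have hGG : G * (g₁ * cᴴ) = 1 := by
    rw [hG, Matrix.mul_assoc, ← Matrix.mul_assoc g₁ᴴ, hg₁u, Matrix.one_mul, hcc]
  set g : GL (Fin 4) F := glOfMul G (g₁ * cᴴ) hGG with hg
  have hgv : (g : Matrix (Fin 4) (Fin 4) F) = G := rfl
  have hgi : ((g⁻¹ : GL (Fin 4) F) : Matrix (Fin 4) (Fin 4) F) = g₁ * cᴴ := rfl
  refine ⟨g, ?_, ?_, ?_⟩
  · rw [key, hgv]
    show Gᴴ * G = 1
    rw [hG, Matrix.conjTranspose_mul, Matrix.conjTranspose_conjTranspose, Matrix.mul_assoc,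
      ← Matrix.mul_assoc cᴴ, hcu', Matrix.one_mul, hg₁u']
  · rw [hgv, hG, Matrix.det_mul, hcdet, Matrix.det_conjTranspose]
    have : star g₁.det = g₁.det ^ p := rfl
    rw [this, mul_comm]
    exact hdet
  · apply Units.ext
    rw [Units.val_mul, Units.val_mul, hgi, hgv, hG]
    -- `g₁ cᴴ x c g₁ᴴ = g₁ x g₁ᴴ = m`
    have h1 : cᴴ * (x : Matrix (Fin 4) (Fin 4) F) * c = (x : Matrix (Fin 4) (Fin 4) F) := by
      rw [Matrix.mul_assoc, ← hcx, ← Matrix.mul_assoc, hcu', Matrix.one_mul]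
    calc g₁ * cᴴ * (x : Matrix (Fin 4) (Fin 4) F) * (c * g₁ᴴ)
        = g₁ * (cᴴ * (x : Matrix (Fin 4) (Fin 4) F) * c) * g₁ᴴ := by
          simp only [Matrix.mul_assoc]
      _ = g₁ * (x : Matrix (Fin 4) (Fin 4) F) * g₁ᴴ := by rw [h1]
      _ = (m : Matrix (Fin 4) (Fin 4) F) * (g₁ * g₁ᴴ) := by rw [hg₁, Matrix.mul_assoc]
      _ = (m : Matrix (Fin 4) (Fin 4) F) := by rw [hg₁u', Matrix.mul_one]

end C

end Cfsg.Agent.Lib.Helper12.SU64
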