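import Mathlib
import Cfsg.Agent.Lib.Helper12.SU64B
import Cfsg.Agent.Lib.Helper12.ST64V

/-! Helper12 library (SU64, part C): unitary models of the elements of order `2`, `3`, `5` in the
normalizer of `R`, with exact dimensions of the fixed spaces (valid also in characteristic 3). -/

set_option autoImplicit false
set_option linter.unusedSectionVars false
set_option linter.unusedVariables false
set_option linter.style.haveILetI false
set_option linter.unusedSimpArgs false

namespace Cfsg.Agent.Lib.Helper12.SU64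

open Matrix Module Cfsg.Agent.Lib.Helper12.Ex32 Cfsg.Agent.Lib.Helper12.ST64
  Cfsg.Agent.Lib.Helper14
open scoped MatrixGroups

section C

variable {F : Type*} [Field F] {n : ℕ}

theorem nat_eq_of_cast_lt (p : ℕ) [CharP F p] (a b : ℕ) (h1 : a < b + p) (h2 : b < a + p)
    (h : (a : F) = (b : F)) : a = b := by
  rcases le_total a b with hab | hab
  · have h3 : ((b - a : ℕ) : F) = 0 := by
      rw [Nat.cast_sub hab, h, sub_self]
    have h4 := (CharP.cast_eq_zero_iff F p (b - a)).1 h3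
    have h5 : b - a = 0 := Nat.eq_zero_of_dvd_of_lt h4 (by omega)
    omega
  · have h3 : ((a - b : ℕ) : F) = 0 := by
      rw [Nat.cast_sub hab, h, sub_self]
    have h4 := (CharP.cast_eq_zero_iff F p (a - b)).1 h3
    have h5 : a - b = 0 := Nat.eq_zero_of_dvd_of_lt h4 (by omega)
    omega

/-- an involution without nonzero fixed vectors is `-1` -/
theorem eq_neg_one_of_fixd_zero (y : Matrix (Fin n) (Fin n) F) (hy : y * y = 1)
    (hf : fixd y = 0) : y = -1 := by
  unfold fixd at hf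
  have hker : LinearMap.ker (Matrix.toLin' y - 1) = ⊥ := Submodule.finrank_eq_zero.1 hf
  have hinj : Function.Injective ⇑(Matrix.toLin' y - (1 : (Fin n → F) →ₗ[F] (Fin n → F))) :=
    LinearMap.ker_eq_bot.1 hker
  -- `(y - 1) (y + 1) = 0`
  have h1 : (y - 1) * (y + 1) = 0 := by
    rw [Matrix.sub_mul, Matrix.mul_add, Matrix.mul_add, hy, Matrix.mul_one, Matrix.one_mul,
      Matrix.one_mul]
    abel
  have h2 : y + 1 = 0 := by
    ext i j
    have h3 : (Matrix.toLin' y - 1) ((y + 1).mulVec (Pi.single j 1)) = 0 := by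
      have h4 : (Matrix.toLin' y - 1) ((y + 1).mulVec (Pi.single j 1)) =
          ((y - 1) * (y + 1)).mulVec (Pi.single j 1) := by
        rw [← Matrix.mulVec_mulVec, Matrix.sub_mulVec, Matrix.one_mulVec]
        rfl
      rw [h4, h1, Matrix.zero_mulVec]
    have h5 : (y + 1).mulVec (Pi.single j 1) = 0 := by
      apply hinj
      rw [h3, map_zero]
    have h6 := congrFun h5 i
    rw [Matrix.mulVec_single_one] at h6
    simpa using h6
  exact eq_neg_of_add_eq_zero_left h2

/-- a matrix fixing all vectors is `1` -/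
theorem eq_one_of_fixd_full (y : Matrix (Fin n) (Fin n) F) (hf : fixd y = n) : y = 1 := by
  unfold fixd at hf
  have hker : LinearMap.ker (Matrix.toLin' y - 1) = ⊤ := by
    apply Submodule.eq_top_of_finrank_eq
    rw [hf, Module.finrank_fin_fun]
  have h1 : Matrix.toLin' y - 1 = 0 := LinearMap.ker_eq_top.1 hker
  have h2 : Matrix.toLin' y = Matrix.toLin' (1 : Matrix (Fin n) (Fin n) F) := by
    rw [Matrix.toLin'_one]
    exact sub_eq_zero.1 h1
  exact Matrix.toLin'.injective h2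

end C

section D

variable {F : Type*} [Field F] [Fintype F] {p : ℕ} [Fact p.Prime] [CharP F p]

variable {R : Subgroup (GL (Fin 4) F)} {i : F} {ζ : R} {a1 b1 a2 b2 : R} [Fintype R]

theorem natCast_pow_char (k : ℕ) : ((k : ℕ) : F) ^ p = (k : F) := by
  have := map_natCast (frobenius F p) k
  rwa [frobenius_def] at this

theorem intCast_pow_char (k : ℤ) : ((k : ℤ) : F) ^ p = (k : F) := by
  have := map_intCast (frobenius F p) k
  rwa [frobenius_def] at this

/-- exact fixed-space dimension of a nonscalar involution from its trace -/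
theorem fixd_two_exact (h2 : (2 : F) ≠ 0) (hp3 : 3 ≤ p) (m : Matrix (Fin 4) (Fin 4) F)
    (hm : m * m = 1) (hns : ∀ c : F, m ≠ c • (1 : Matrix (Fin 4) (Fin 4) F)) (f : ℕ)
    (hf1 : 1 ≤ f) (hf3 : f ≤ 3) (ht : m.trace = 2 * (f : F) - 4) : fixd m = f := by
  have hle : fixd m ≤ 4 := fixd_le m
  have h0 : fixd m ≠ 0 := by
    intro h0
    have := eq_neg_one_of_fixd_zero m hm h0
    apply hns (-1)
    rw [this, neg_smul, one_smul]
  have h4 : fixd m ≠ 4 := by
    intro h4
    have := eq_one_of_fixd_full m h4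
    apply hns 1
    rw [this, one_smul]
  apply nat_eq_of_cast_lt (F := F) p _ _ (by omega) (by omega)
  rw [fixd_two h2 m hm, ht]
  field_simp
  ring

/-- the reflection, with its matrix -/
theorem exists_refl_mat (h : H64 R i ζ) (hs : Sym4 R a1 b1 a2 b2) :
    ∃ s : GL (Fin 4) F, s ∈ Subgroup.normalizer (R : Set (GL (Fin 4) F)) ∧
      (s : Matrix (Fin 4) (Fin 4) F) = (2⁻¹ : F) • S2 (mat R a1) (mat R a2) := by
  have h2 := h.two
  set S : Matrix (Fin 4) (Fin 4) F := (2⁻¹ : F) • S2 (mat R a1) (mat R a2) with hS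
  have hSS : S * S = 1 := by
    rw [hS, Matrix.smul_mul, Matrix.mul_smul, smul_smul, refl_sq _ _ hs.a1a1 hs.a2a2 hs.a2a1,
      ofNat_eq_smul, smul_smul]
    have : (2⁻¹ : F) * 2⁻¹ * 4 = 1 := by field_simp; norm_num
    rw [this, one_smul]
  refine ⟨glOfMul S S hSS, ?_, rfl⟩
  apply mem_normalizer_of_mat
  intro x
  rw [glOfMul_val]
  rcases h.comm a1 x with h1 | h1 <;> rcases h.comm a2 x with h3 | h3
  · refine ⟨x, ?_⟩
    rw [hS, Matrix.smul_mul, Matrix.mul_smul, refl_cc _ _ _ h1 h3]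
  · refine ⟨a1 * x, ?_⟩
    rw [hS, Matrix.smul_mul, Matrix.mul_smul, mat_mul,
      refl_ca _ _ _ hs.a1a1 hs.a2a2 hs.a2a1 h1 h3]
  · refine ⟨a2 * x, ?_⟩
    rw [hS, Matrix.smul_mul, Matrix.mul_smul, mat_mul,
      refl_ac _ _ _ hs.a1a1 hs.a2a2 hs.a2a1 h1 h3]
  · refine ⟨ζ ^ 2 * (a1 * (a2 * x)), ?_⟩
    rw [hS, Matrix.smul_mul, Matrix.mul_smul, mat_mul, mat_mul, mat_mul, h.zeta_sq,
      refl_aa _ _ _ hs.a1a1 hs.a2a2 hs.a2a1 h1 h3]
    simp

/-- the reflection: an involution of trace `2` that is not a scalar -/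
theorem exists_refl_ns (h : H64 R i ζ) (hs : Sym4 R a1 b1 a2 b2) :
    ∃ s : GL (Fin 4) F, s ∈ Subgroup.normalizer (R : Set (GL (Fin 4) F)) ∧
      (s : Matrix (Fin 4) (Fin 4) F) * (s : Matrix (Fin 4) (Fin 4) F) = 1 ∧
      (s : Matrix (Fin 4) (Fin 4) F).trace = 2 ∧
      ∀ c : F, (s : Matrix (Fin 4) (Fin 4) F) ≠ c • (1 : Matrix (Fin 4) (Fin 4) F) := by
  have h2 := h.two
  obtain ⟨s, hsN, hsv⟩ := exists_refl_mat h hs
  have hSS : (s : Matrix (Fin 4) (Fin 4) F) * (s : Matrix (Fin 4) (Fin 4) F) = 1 := by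
    rw [hsv, Matrix.smul_mul, Matrix.mul_smul, smul_smul, refl_sq _ _ hs.a1a1 hs.a2a2 hs.a2a1,
      ofNat_eq_smul, smul_smul]
    have : (2⁻¹ : F) * 2⁻¹ * 4 = 1 := by field_simp; norm_num
    rw [this, one_smul]
  have h4 : (4 : F) ≠ 0 := by
    have : (4 : F) = 2 * 2 := by norm_num
    rw [this]
    exact mul_ne_zero h2 h2
  refine ⟨s, hsN, hSS, ?_, ?_⟩
  · rw [hsv, Matrix.trace_smul]
    unfold S2
    rw [Matrix.trace_sub, Matrix.trace_add, Matrix.trace_add, Matrix.trace_one, h.dim,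
      hs.trace_a1 h, hs.trace_a2 h, hs.trace_a1a2 h]
    have : ((4 : ℕ) : F) = 4 := by norm_num
    rw [this, smul_eq_mul]
    field_simp
    norm_num
  · intro c hc
    -- `S b1 = a2 b1 S`
    have h5 := refl_ac (mat R a1) (mat R a2) (mat R b1) hs.a1a1 hs.a2a2 hs.a2a1 hs.b1a1
      (by rw [hs.a2b1])
    have h6 : (s : Matrix (Fin 4) (Fin 4) F) * mat R b1 =
        (mat R a2 * mat R b1) * (s : Matrix (Fin 4) (Fin 4) F) := by
      rw [hsv, Matrix.smul_mul, Matrix.mul_smul, h5]
    rw [hc, Matrix.smul_mul, Matrix.mul_smul, Matrix.one_mul, Matrix.mul_one] at h6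
    have hc0 : c ≠ 0 := by
      rintro rfl
      rw [hc, zero_smul, Matrix.zero_mul] at hSS
      exact zero_ne_one hSS
    have h7 : mat R b1 = mat R a2 * mat R b1 := by
      have := congrArg (fun M => c⁻¹ • M) h6
      simpa [smul_smul, inv_mul_cancel₀ hc0] using this
    have h8 : mat R a2 = 1 := by
      calc mat R a2 = mat R a2 * (mat R b1 * mat R b1) := by rw [hs.b1b1, Matrix.mul_one]
        _ = (mat R a2 * mat R b1) * mat R b1 := by rw [Matrix.mul_assoc]
        _ = 1 := by rw [← h7, hs.b1b1]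
    have h9 := hs.trace_a2 h
    rw [h8, Matrix.trace_one, h.dim] at h9
    apply h4
    exact_mod_cast h9

end D

end Cfsg.Agent.Lib.Helper12.SU64
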