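import Mathlib
import Cfsg.Agent.Lib.Helper12.SU64C
import Cfsg.Agent.Lib.Helper15.SemisimpleCount

/-! Helper12 library (SU64, part D): the backward direction of S6001 for elements of order two,
and the conjugation of an element into the normalizer of `R` through a unitary model. -/

set_option autoImplicit false
set_option linter.unusedSectionVars false
set_option linter.unusedVariables false
set_option linter.style.haveILetI false
set_option linter.unusedSimpArgs false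

namespace Cfsg.Agent.Lib.Helper12.SU64

open Matrix Module Polynomial Cfsg.Agent.Lib.Helper12.Ex32 Cfsg.Agent.Lib.Helper12.ST64
  Cfsg.Agent.Lib.Helper14
open scoped MatrixGroups

section D

variable {F : Type*} [Field F] [Fintype F] {p : ℕ} [Fact p.Prime] [CharP F p]

variable {R : Subgroup (GL (Fin 4) F)} {i : F} {ζ : R} {a1 b1 a2 b2 : R} [Fintype R]

/-- a unitary element that is `GL`-conjugate to a unitary element `m` of the normalizer of `R` is
conjugate into that normalizer under the special unitary group -/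
theorem su_conj_into (hF : Fintype.card F = p ^ 2) (x m g₀ : GL (Fin 4) F)
    (hx : IsUni F p 4 (x : Matrix (Fin 4) (Fin 4) F))
    (hm : IsUni F p 4 (m : Matrix (Fin 4) (Fin 4) F)) (N : ℕ) (hN : (N : F) ≠ 0)
    (hxN : x ^ N = 1) (hg₀ : g₀⁻¹ * x * g₀ = m)
    (hmN : m ∈ Subgroup.normalizer (R : Set (GL (Fin 4) F))) :
    ∃ g : GL (Fin 4) F, IsUni F p 4 (g : Matrix (Fin 4) (Fin 4) F) ∧
      (g : Matrix (Fin 4) (Fin 4) F).det = 1 ∧
      g⁻¹ * x * g ∈ Subgroup.normalizer (R : Set (GL (Fin 4) F)) := by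
  obtain ⟨g, hgu, hgd, hg⟩ := su_conj hF x m g₀ hx hm N hN hxN hg₀
  exact ⟨g, hgu, hgd, hg ▸ hmN⟩

/-- the same, from an equality of characteristic polynomials -/
theorem su_conj_of_charpoly (hF : Fintype.card F = p ^ 2) (x m : GL (Fin 4) F)
    (hx : IsUni F p 4 (x : Matrix (Fin 4) (Fin 4) F))
    (hm : IsUni F p 4 (m : Matrix (Fin 4) (Fin 4) F)) (N : ℕ) (hN : (N : F) ≠ 0)
    (hxN : x ^ N = 1) (hmN' : m ^ N = 1)
    (hc : (x : Matrix (Fin 4) (Fin 4) F).charpoly = (m : Matrix (Fin 4) (Fin 4) F).charpoly)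
    (hmN : m ∈ Subgroup.normalizer (R : Set (GL (Fin 4) F))) :
    ∃ g : GL (Fin 4) F, IsUni F p 4 (g : Matrix (Fin 4) (Fin 4) F) ∧
      (g : Matrix (Fin 4) (Fin 4) F).det = 1 ∧
      g⁻¹ * x * g ∈ Subgroup.normalizer (R : Set (GL (Fin 4) F)) := by
  have hx' : (x : Matrix (Fin 4) (Fin 4) F) ^ N = 1 := by
    rw [← Units.val_pow_eq_pow_val, hxN, Units.val_one]
  have hm' : (m : Matrix (Fin 4) (Fin 4) F) ^ N = 1 := by
    rw [← Units.val_pow_eq_pow_val, hmN', Units.val_one]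
  obtain ⟨M, hM⟩ := Cfsg.Agent.Lib.Helper15.SemisimpleCount.matrix_conj 4 _ _ N hN hx' hm' hc
  have hM' : M * x = m * M := by
    apply Units.ext
    rw [Units.val_mul, Units.val_mul]
    exact hM
  refine su_conj_into hF x m M⁻¹ hx hm N hN hxN ?_ hmN
  rw [inv_inv, hM']
  group

/-- unitary involutions: conjugation into the normalizer through a model -/
theorem conj_model_two (hF : Fintype.card F = p ^ 2) (h2 : (2 : F) ≠ 0) (hp3 : 3 ≤ p)
    (x m : GL (Fin 4) F) (hxu : IsUni F p 4 (x : Matrix (Fin 4) (Fin 4) F))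
    (hmu : IsUni F p 4 (m : Matrix (Fin 4) (Fin 4) F)) (hx : x ^ 2 = 1)
    (hm : (m : Matrix (Fin 4) (Fin 4) F) * (m : Matrix (Fin 4) (Fin 4) F) = 1)
    (hmns : ∀ c : F, (m : Matrix (Fin 4) (Fin 4) F) ≠ c • (1 : Matrix (Fin 4) (Fin 4) F))
    (f : ℕ) (hf1 : 1 ≤ f) (hf3 : f ≤ 3) (hfx : fixd (x : Matrix (Fin 4) (Fin 4) F) = f)
    (hmt : (m : Matrix (Fin 4) (Fin 4) F).trace = 2 * (f : F) - 4)
    (hmN : m ∈ Subgroup.normalizer (R : Set (GL (Fin 4) F))) :
    ∃ g : GL (Fin 4) F, IsUni F p 4 (g : Matrix (Fin 4) (Fin 4) F) ∧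
      (g : Matrix (Fin 4) (Fin 4) F).det = 1 ∧
      g⁻¹ * x * g ∈ Subgroup.normalizer (R : Set (GL (Fin 4) F)) := by
  have hfm : fixd (m : Matrix (Fin 4) (Fin 4) F) = f :=
    fixd_two_exact h2 hp3 _ hm hmns f hf1 hf3 hmt
  have heq : fixd (x : Matrix (Fin 4) (Fin 4) F) = fixd (m : Matrix (Fin 4) (Fin 4) F) := by
    rw [hfx, hfm]
  have h2' : ((2 : ℕ) : F) ≠ 0 := by exact_mod_cast h2
  obtain ⟨g₀, -, hg₀⟩ := sl_conj_of_fix (X + 1 : F[X]) (monic_X_add_C 1)
    (irreducible_of_degree_eq_one (degree_X_add_C 1))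
    (by rw [eval_add, eval_X, eval_one, one_add_one_eq_two]; exact h2) 2 h2'
    (by ring) x m hx (pow_two_of_mat m hm) heq
  exact su_conj_into hF x m g₀ hxu hmu 2 h2' hx hg₀ hmN

/-- the reflection is unitary -/
theorem exists_refl_uni (hF : Fintype.card F = p ^ 2) (h : H64 R i ζ)
    (hs : Sym4 R a1 b1 a2 b2) (hRU : R ≤ Cfsg.GU 4 F p) :
    ∃ s : GL (Fin 4) F, s ∈ Subgroup.normalizer (R : Set (GL (Fin 4) F)) ∧
      (s : Matrix (Fin 4) (Fin 4) F) * (s : Matrix (Fin 4) (Fin 4) F) = 1 ∧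
      (s : Matrix (Fin 4) (Fin 4) F).trace = 2 ∧
      (∀ c : F, (s : Matrix (Fin 4) (Fin 4) F) ≠ c • (1 : Matrix (Fin 4) (Fin 4) F)) ∧
      IsUni F p 4 (s : Matrix (Fin 4) (Fin 4) F) := by
  obtain ⟨s, hsN, hss, hst, hsns⟩ := exists_refl_ns h hs
  refine ⟨s, hsN, hss, hst, hsns, ?_⟩
  apply unitary_of_sq hF h hRU s hsN hss
  · rw [hst]; exact h.two
  · rw [hst]
    have := natCast_pow_char (F := F) (p := p) 2
    exact_mod_cast this

/-- the backward direction for unitary involutions -/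
theorem bwd_two_U (hF : Fintype.card F = p ^ 2) (h : H64 R i ζ) (hs : Sym4 R a1 b1 a2 b2)
    (hRU : R ≤ Cfsg.GU 4 F p) (hp3 : 3 ≤ p) (x : GL (Fin 4) F)
    (hxu : IsUni F p 4 (x : Matrix (Fin 4) (Fin 4) F)) (hx : x ^ 2 = 1) :
    ∃ g : GL (Fin 4) F, IsUni F p 4 (g : Matrix (Fin 4) (Fin 4) F) ∧
      (g : Matrix (Fin 4) (Fin 4) F).det = 1 ∧
      g⁻¹ * x * g ∈ Subgroup.normalizer (R : Set (GL (Fin 4) F)) := by
  have h2 := h.two
  have hxx := mat_of_pow_two x hx
  have hle : fixd (x : Matrix (Fin 4) (Fin 4) F) ≤ 4 := fixd_le _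
  have triv : x ∈ Subgroup.normalizer (R : Set (GL (Fin 4) F)) →
      ∃ g : GL (Fin 4) F, IsUni F p 4 (g : Matrix (Fin 4) (Fin 4) F) ∧
      (g : Matrix (Fin 4) (Fin 4) F).det = 1 ∧
      g⁻¹ * x * g ∈ Subgroup.normalizer (R : Set (GL (Fin 4) F)) := by
    intro hxN
    refine ⟨1, ?_, ?_, ?_⟩
    · rw [Units.val_one]; exact isUni_one'
    · rw [Units.val_one, Matrix.det_one]
    · rw [inv_one, one_mul, mul_one]; exact hxN
  obtain ⟨s, hsN, hss, hst, hsns, hsu⟩ := exists_refl_uni hF h hs hRU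
  have hcases : fixd (x : Matrix (Fin 4) (Fin 4) F) = 0 ∨ fixd (x : Matrix (Fin 4) (Fin 4) F) = 1 ∨
      fixd (x : Matrix (Fin 4) (Fin 4) F) = 2 ∨ fixd (x : Matrix (Fin 4) (Fin 4) F) = 3 ∨
      fixd (x : Matrix (Fin 4) (Fin 4) F) = 4 := by omega
  rcases hcases with hf | hf | hf | hf | hf
  · -- `x = -1`
    apply triv
    have h1 := eq_neg_one_of_fixd_zero _ hxx hf
    have : x = -1 := by
      apply Units.ext
      rw [h1, Units.val_neg, Units.val_one]
    rw [this]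
    exact neg_one_mem_normalizer
  · -- the model `-s`
    have hmm : ((-1 * s : GL (Fin 4) F) : Matrix (Fin 4) (Fin 4) F) = -(s : Matrix (Fin 4) (Fin 4) F) := by
      rw [Units.val_mul, Units.val_neg, Units.val_one, neg_one_mul]
    have hmN : (-1 * s : GL (Fin 4) F) ∈ Subgroup.normalizer (R : Set (GL (Fin 4) F)) :=
      Subgroup.mul_mem _ neg_one_mem_normalizer hsN
    have hm2 : ((-1 * s : GL (Fin 4) F) : Matrix (Fin 4) (Fin 4) F) *
        ((-1 * s : GL (Fin 4) F) : Matrix (Fin 4) (Fin 4) F) = 1 := by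
      rw [hmm, neg_mul_neg, hss]
    have hmt : ((-1 * s : GL (Fin 4) F) : Matrix (Fin 4) (Fin 4) F).trace = 2 * ((1 : ℕ) : F) - 4 := by
      rw [hmm, Matrix.trace_neg, hst]; push_cast; ring
    have hmns : ∀ c : F, ((-1 * s : GL (Fin 4) F) : Matrix (Fin 4) (Fin 4) F) ≠
        c • (1 : Matrix (Fin 4) (Fin 4) F) := by
      intro c hc
      apply hsns (-c)
      rw [hmm] at hc
      rw [neg_smul, ← hc, neg_neg]
    have hmu : IsUni F p 4 ((-1 * s : GL (Fin 4) F) : Matrix (Fin 4) (Fin 4) F) := by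
      apply unitary_of_sq hF h hRU _ hmN hm2
      · rw [hmt]
        intro h0
        apply h2
        push_cast at h0
        linear_combination -h0
      · rw [hmt]
        have := intCast_pow_char (F := F) (p := p) (-2)
        push_cast at this ⊢
        rw [show (2 : F) * 1 - 4 = -2 by ring]
        exact this
    exact conj_model_two hF h2 hp3 x _ hxu hmu hx hm2 hmns 1 le_rfl (by norm_num) hf hmt hmN
  · -- the model `a1`
    have hmN : (a1 : GL (Fin 4) F) ∈ Subgroup.normalizer (R : Set (GL (Fin 4) F)) :=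
      Subgroup.le_normalizer a1.2
    have hmt : ((a1 : GL (Fin 4) F) : Matrix (Fin 4) (Fin 4) F).trace = 2 * ((2 : ℕ) : F) - 4 := by
      have := hs.trace_a1 h
      rw [show ((a1 : GL (Fin 4) F) : Matrix (Fin 4) (Fin 4) F) = mat R a1 from rfl, this]
      push_cast; ring
    exact conj_model_two hF h2 hp3 x _ hxu (hRU a1.2) hx hs.a1a1
      (h.ns_of_anti a1 b1 hs.b1a1) 2 (by norm_num) (by norm_num) hf hmt hmN
  · -- the model `s`
    have hmt : (s : Matrix (Fin 4) (Fin 4) F).trace = 2 * ((3 : ℕ) : F) - 4 := by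
      rw [hst]; push_cast; ring
    exact conj_model_two hF h2 hp3 x _ hxu hsu hx hss hsns 3 (by norm_num) le_rfl hf hmt hsN
  · -- `x = 1`
    apply triv
    have h1 := eq_one_of_fixd_full _ hf
    have : x = 1 := by
      apply Units.ext
      rw [h1, Units.val_one]
    rw [this]
    exact Subgroup.one_mem _

end D

end Cfsg.Agent.Lib.Helper12.SU64
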