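import Mathlib
import Cfsg.Agent.Lib.Helper12.SU64D

/-! Helper12 library (SU64, part E): the backward direction of S6001 for elements of order three
and five (given the characteristic polynomials of such unitary elements), and the reduction of the
backward direction to elements of order `r`. -/

set_option autoImplicit false
set_option linter.unusedSectionVars false
set_option linter.unusedVariables false
set_option linter.style.haveILetI false
set_option linter.unusedSimpArgs false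

namespace Cfsg.Agent.Lib.Helper12.SU64

open Matrix Module Polynomial Cfsg.Agent.Lib.Helper12.Ex32 Cfsg.Agent.Lib.Helper12.ST64
  Cfsg.Agent.Lib.Helper14
open scoped MatrixGroups

section E0

variable {F : Type*} [Field F]

theorem trace_of_charpoly (M : Matrix (Fin 4) (Fin 4) F) (a : ℕ) (ha : a ≤ 2)
    (hc : M.charpoly = (X - 1) ^ (4 - 2 * a) * (X ^ 2 + X + 1) ^ a) :
    M.trace = 4 - 3 * (a : F) := by
  rw [Matrix.trace_eq_neg_charpoly_coeff, hc, Fintype.card_fin]
  interval_cases a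
  · have : ((X - 1 : F[X]) ^ (4 - 2 * 0) * (X ^ 2 + X + 1) ^ 0) =
        X ^ 4 - C 4 * X ^ 3 + C 6 * X ^ 2 - C 4 * X + C 1 := by
      simp only [map_ofNat, map_one]; ring
    rw [this]
    simp [coeff_X, coeff_one, coeff_C]
  · have : ((X - 1 : F[X]) ^ (4 - 2 * 1) * (X ^ 2 + X + 1) ^ 1) =
        X ^ 4 - C 1 * X ^ 3 + C 0 * X ^ 2 - C 1 * X + C 1 := by
      simp only [map_one, map_zero]; ring
    rw [this]
    simp [coeff_X, coeff_one, coeff_C]
    norm_num
  · have : ((X - 1 : F[X]) ^ (4 - 2 * 2) * (X ^ 2 + X + 1) ^ 2) =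
        X ^ 4 + C 2 * X ^ 3 + C 3 * X ^ 2 + C 2 * X + C 1 := by
      simp only [map_ofNat, map_one]; ring
    rw [this]
    simp [coeff_X, coeff_one, coeff_C]
    norm_num

end E0

section E

variable {F : Type*} [Field F] [Fintype F] {p : ℕ} [Fact p.Prime] [CharP F p]

variable {R : Subgroup (GL (Fin 4) F)} {i : F} {ζ : R} {a1 b1 a2 b2 : R} [Fintype R]

theorem triv_conj (x : GL (Fin 4) F)
    (hxN : x ∈ Subgroup.normalizer (R : Set (GL (Fin 4) F))) :
    ∃ g : GL (Fin 4) F, IsUni F p 4 (g : Matrix (Fin 4) (Fin 4) F) ∧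
      (g : Matrix (Fin 4) (Fin 4) F).det = 1 ∧
      g⁻¹ * x * g ∈ Subgroup.normalizer (R : Set (GL (Fin 4) F)) := by
  refine ⟨1, ?_, ?_, ?_⟩
  · rw [Units.val_one]; exact isUni_one'
  · rw [Units.val_one, Matrix.det_one]
  · rw [inv_one, one_mul, mul_one]; exact hxN

/-- the backward direction for unitary elements of order five -/
theorem bwd_five_U (hF : Fintype.card F = p ^ 2) (h : H64 R i ζ) (hs : Sym4 R a1 b1 a2 b2)
    (hRU : R ≤ Cfsg.GU 4 F p) (hord : orderOf (p : ZMod 5) = 4) (h5 : (5 : F) ≠ 0)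
    (U5 : ∀ y : Matrix (Fin 4) (Fin 4) F, IsUni F p 4 y → y ^ 5 = 1 → y ≠ 1 →
      y.charpoly = X ^ 4 + X ^ 3 + X ^ 2 + X + 1)
    (x : GL (Fin 4) F) (hxu : IsUni F p 4 (x : Matrix (Fin 4) (Fin 4) F)) (hx : x ^ 5 = 1) :
    ∃ g : GL (Fin 4) F, IsUni F p 4 (g : Matrix (Fin 4) (Fin 4) F) ∧
      (g : Matrix (Fin 4) (Fin 4) F).det = 1 ∧
      g⁻¹ * x * g ∈ Subgroup.normalizer (R : Set (GL (Fin 4) F)) := by
  classical
  have hpp : p.Prime := Fact.out
  by_cases hx1 : x = 1
  · apply triv_conj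
    rw [hx1]
    exact Subgroup.one_mem _
  haveI : Finite (GL (Fin 4) F) := inferInstance
  obtain ⟨m, hmN, hom⟩ := hs.exists_five h
  have hm5 : m ^ 5 = 1 := by rw [← hom]; exact pow_orderOf_eq_one m
  have hm1 : m ≠ 1 := by
    intro hm1
    rw [hm1, orderOf_one] at hom
    omega
  have hp1 := not_mod_five_of_order hord
  have hcop : Nat.Coprime 5 (p - 1) := by
    rw [Nat.Prime.coprime_iff_not_dvd (by norm_num : Nat.Prime 5)]
    have := hpp.one_lt
    omega
  have hmu : IsUni F p 4 (m : Matrix (Fin 4) (Fin 4) F) :=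
    unitary_of_five hF h hRU m hmN hm5 hpp.one_lt.le hcop
  have hval : ∀ y : GL (Fin 4) F, y ^ 5 = 1 → (y : Matrix (Fin 4) (Fin 4) F) ^ 5 = 1 := by
    intro y hy
    rw [← Units.val_pow_eq_pow_val, hy, Units.val_one]
  have hne : ∀ y : GL (Fin 4) F, y ≠ 1 → (y : Matrix (Fin 4) (Fin 4) F) ≠ 1 := by
    intro y hy hy1
    apply hy
    apply Units.ext
    rw [hy1, Units.val_one]
  have hc : (x : Matrix (Fin 4) (Fin 4) F).charpoly = (m : Matrix (Fin 4) (Fin 4) F).charpoly := by
    rw [U5 _ hxu (hval x hx) (hne x hx1), U5 _ hmu (hval m hm5) (hne m hm1)]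
  have h5' : ((5 : ℕ) : F) ≠ 0 := by exact_mod_cast h5
  exact su_conj_of_charpoly hF x m hxu hmu 5 h5' hx hm5 hc hmN

/-- the backward direction for unitary elements of order three -/
theorem bwd_three_U (hF : Fintype.card F = p ^ 2) (h : H64 R i ζ) (hs : Sym4 R a1 b1 a2 b2)
    (hRU : R ≤ Cfsg.GU 4 F p) (hp3 : p % 3 = 1)
    (U6 : ∀ y : Matrix (Fin 4) (Fin 4) F, IsUni F p 4 y → y ^ 3 = 1 →
      ∃ a : ℕ, a ≤ 2 ∧ y.charpoly = (X - 1) ^ (4 - 2 * a) * (X ^ 2 + X + 1) ^ a)
    (x : GL (Fin 4) F) (hxu : IsUni F p 4 (x : Matrix (Fin 4) (Fin 4) F)) (hx : x ^ 3 = 1) :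
    ∃ g : GL (Fin 4) F, IsUni F p 4 (g : Matrix (Fin 4) (Fin 4) F) ∧
      (g : Matrix (Fin 4) (Fin 4) F).det = 1 ∧
      g⁻¹ * x * g ∈ Subgroup.normalizer (R : Set (GL (Fin 4) F)) := by
  classical
  have hpp : p.Prime := Fact.out
  have hp7 : 7 ≤ p := by
    by_contra hlt
    have : p = 1 ∨ p = 4 := by omega
    rcases this with h1 | h1
    · rw [h1] at hpp; exact Nat.not_prime_one hpp
    · rw [h1] at hpp; exact absurd hpp (by norm_num)
  have hcast : ∀ N : ℕ, 0 < N → N < 7 → ((N : ℕ) : F) ≠ 0 := by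
    intro N h0 h7 hN
    have hd := (CharP.cast_eq_zero_iff F p N).1 hN
    have := Nat.le_of_dvd h0 hd
    omega
  have h3' : ((3 : ℕ) : F) ≠ 0 := hcast 3 (by norm_num) (by norm_num)
  have h3 : (3 : F) ≠ 0 := by exact_mod_cast h3'
  have h6 : (6 : F) ≠ 0 := by exact_mod_cast hcast 6 (by norm_num) (by norm_num)
  have hval : ∀ y : GL (Fin 4) F, y ^ 3 = 1 → (y : Matrix (Fin 4) (Fin 4) F) ^ 3 = 1 := by
    intro y hy
    rw [← Units.val_pow_eq_pow_val, hy, Units.val_one]
  -- an element of the normalizer with the same trace does it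
  have key : ∀ m : GL (Fin 4) F, m ∈ Subgroup.normalizer (R : Set (GL (Fin 4) F)) →
      IsUni F p 4 (m : Matrix (Fin 4) (Fin 4) F) → m ^ 3 = 1 →
      (m : Matrix (Fin 4) (Fin 4) F).trace = (x : Matrix (Fin 4) (Fin 4) F).trace →
      ∃ g : GL (Fin 4) F, IsUni F p 4 (g : Matrix (Fin 4) (Fin 4) F) ∧
        (g : Matrix (Fin 4) (Fin 4) F).det = 1 ∧
        g⁻¹ * x * g ∈ Subgroup.normalizer (R : Set (GL (Fin 4) F)) := by
    intro m hmN hmu hm3 hmt
    obtain ⟨a, ha, hca⟩ := U6 _ hxu (hval x hx)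
    obtain ⟨b, hb, hcb⟩ := U6 _ hmu (hval m hm3)
    have hta := trace_of_charpoly _ a ha hca
    have htb := trace_of_charpoly _ b hb hcb
    have hab : (a : F) = (b : F) := by
      have : (3 : F) * ((a : F) - (b : F)) = 0 := by
        rw [hta, htb] at hmt
        linear_combination hmt
      rcases mul_eq_zero.1 this with h0 | h0
      · exact absurd h0 h3
      · exact sub_eq_zero.1 h0
    have hab' : a = b := nat_eq_of_cast (F := F) p a b (by omega) (by omega) hab
    have hc : (x : Matrix (Fin 4) (Fin 4) F).charpoly = (m : Matrix (Fin 4) (Fin 4) F).charpoly := by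
      rw [hca, hcb, hab']
    exact su_conj_of_charpoly hF x m hxu hmu 3 h3' hx hm3 hc hmN
  obtain ⟨a, ha, hca⟩ := U6 _ hxu (hval x hx)
  have hta := trace_of_charpoly _ a ha hca
  interval_cases a
  · -- trace `4`: the identity
    apply key 1 (Subgroup.one_mem _) (by rw [Units.val_one]; exact isUni_one') (one_pow 3)
    rw [hta, Units.val_one, Matrix.trace_one, Fintype.card_fin]
    push_cast; ring
  · -- trace `1`
    obtain ⟨w, hwN, hw3, hw1, hw2⟩ := hs.exists_ww h
    have hwu : IsUni F p 4 (w : Matrix (Fin 4) (Fin 4) F) := by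
      apply unitary_of_cube hF h hRU w hwN hw3
      · rw [hw1]; exact one_ne_zero
      · rw [hw1, one_pow]
      · rw [hw1, hw2]
    apply key w hwN hwu (pow_three_of_mat w hw3)
    rw [hta, hw1]
    push_cast; ring
  · -- trace `-2`
    obtain ⟨w, hwN, hw3, hw1, hw2⟩ := hs.exists_w h
    have hwu : IsUni F p 4 (w : Matrix (Fin 4) (Fin 4) F) := by
      apply unitary_of_cube hF h hRU w hwN hw3
      · rw [hw1]
        intro h0
        apply h.two
        linear_combination -h0
      · rw [hw1]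
        have := intCast_pow_char (F := F) (p := p) (-2)
        push_cast at this
        exact this
      · rw [hw1, hw2]
    apply key w hwN hwu (pow_three_of_mat w hw3)
    rw [hta, hw1]
    push_cast; ring

end E

end Cfsg.Agent.Lib.Helper12.SU64
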