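import Mathlib
import Cfsg.Agent.Lib.Helper12.SU64E

/-! Helper12 library (SU64, part F): the backward direction of S6001 (modulo three leaf facts that
are passed as hypotheses). -/

set_option autoImplicit false
set_option linter.unusedSectionVars false
set_option linter.unusedVariables false
set_option linter.style.haveILetI false
set_option linter.unusedSimpArgs false

namespace Cfsg.Agent.Lib.Helper12.SU64

open Matrix Module Polynomial Cfsg.Agent.Lib.Helper12.Ex32 Cfsg.Agent.Lib.Helper12.ST64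
  Cfsg.Agent.Lib.Helper14
open scoped MatrixGroups

section F

variable {F : Type*} [Field F] [Fintype F] {p : ℕ} [Fact p.Prime] [CharP F p]

variable {R : Subgroup (GL (Fin 4) F)} {i : F} {ζ : R} {a1 b1 a2 b2 : R} [Fintype R]

/-- a unitary scalar has norm one -/
theorem norm_one_of_isUni_smul (hF : Fintype.card F = p ^ 2) (lam : F)
    (hu : IsUni F p 4 (lam • (1 : Matrix (Fin 4) (Fin 4) F))) : lam ^ (p + 1) = 1 := by
  rw [isUni_iff_star hF] at hu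
  letI : StarRing F := Cfsg.Agent.S2643.frobStar hF
  have h1 : (lam • (1 : Matrix (Fin 4) (Fin 4) F))ᴴ * (lam • (1 : Matrix (Fin 4) (Fin 4) F)) = 1 := hu
  rw [Matrix.conjTranspose_smul, Matrix.conjTranspose_one, Matrix.smul_mul, Matrix.mul_smul,
    Matrix.one_mul, smul_smul] at h1
  have h2 : star lam * lam = 1 := smul_one_injective (ι := Fin 4) _ _ (by rw [h1, one_smul])
  have h3 : lam ^ p * lam = 1 := h2
  rw [pow_succ, h3]

/-- the backward direction -/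
theorem bwd_main_U (hF : Fintype.card F = p ^ 2) (h : H64 R i ζ) (hs : Sym4 R a1 b1 a2 b2)
    (hRU : R ≤ Cfsg.GU 4 F p) (hp4 : p % 4 = 3) (r : ℕ)
    (hr : r = 2 ∨ (r = 3 ∧ p % 3 = 1) ∨ (r = 5 ∧ orderOf (p : ZMod 5) = 4))
    (U1 : ∀ (y : Matrix (Fin 4) (Fin 4) F) (lam : F), IsUni F p 4 y →
      y * y = lam • (1 : Matrix (Fin 4) (Fin 4) F) → y.det = 1 →
      ∃ μ : F, μ ^ (p + 1) = 1 ∧ μ * μ = lam)
    (U5 : orderOf (p : ZMod 5) = 4 → ∀ y : Matrix (Fin 4) (Fin 4) F, IsUni F p 4 y → y ^ 5 = 1 →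
      y ≠ 1 → y.charpoly = X ^ 4 + X ^ 3 + X ^ 2 + X + 1)
    (U6 : p % 3 = 1 → ∀ y : Matrix (Fin 4) (Fin 4) F, IsUni F p 4 y → y ^ 3 = 1 →
      ∃ a : ℕ, a ≤ 2 ∧ y.charpoly = (X - 1) ^ (4 - 2 * a) * (X ^ 2 + X + 1) ^ a)
    (x : GL (Fin 4) F) (hxS : x ∈ Cfsg.GU 4 F p ⊓ Cfsg.Geo.specialLinear (Fin 4) F)
    (hxr : ∃ z : F, ((x ^ r : GL (Fin 4) F) : Matrix (Fin 4) (Fin 4) F) =
      z • (1 : Matrix (Fin 4) (Fin 4) F)) :
    ∃ g ∈ Cfsg.GU 4 F p ⊓ Cfsg.Geo.specialLinear (Fin 4) F,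
      g⁻¹ * x * g ∈ Cfsg.Geo.subgroupNormalizer R := by
  classical
  have hpp : p.Prime := Fact.out
  have hp3 : 3 ≤ p := by omega
  obtain ⟨lam, hlam⟩ := hxr
  have hxG : x ∈ Cfsg.GU 4 F p := hxS.1
  have hxu : IsUni F p 4 (x : Matrix (Fin 4) (Fin 4) F) := hxG
  have hdet := (mem_sl_iff x).1 hxS.2
  unfold Cfsg.Geo.subgroupNormalizer
  -- `lam` has norm one and `lam ^ 4 = 1`
  have hlamU : lam ^ (p + 1) = 1 := by
    apply norm_one_of_isUni_smul hF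
    rw [← hlam]
    exact (Cfsg.GU 4 F p).pow_mem hxG r
  have hlam4 : lam ^ 4 = 1 := by
    have h1 := congrArg Matrix.det hlam
    rw [Units.val_pow_eq_pow_val, Matrix.det_pow, hdet, one_pow, Matrix.det_smul, Matrix.det_one,
      mul_one, Fintype.card_fin] at h1
    exact h1.symm
  have h5F : (5 : F) ≠ 0 := by
    intro h5
    have h5' : ((5 : ℕ) : F) = 0 := by exact_mod_cast h5
    have hd := (CharP.cast_eq_zero_iff F p 5).1 h5'
    have := (Nat.prime_dvd_prime_iff_eq hpp (by norm_num : Nat.Prime 5)).1 hd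
    omega
  -- it suffices to find a root of `lam` of norm one and treat unitary elements of order `r`
  have key : ∀ μ : F, μ ^ r = lam → μ ^ (p + 1) = 1 → (∀ x' : GL (Fin 4) F,
      IsUni F p 4 (x' : Matrix (Fin 4) (Fin 4) F) → x' ^ r = 1 →
      ∃ g : GL (Fin 4) F, IsUni F p 4 (g : Matrix (Fin 4) (Fin 4) F) ∧
        (g : Matrix (Fin 4) (Fin 4) F).det = 1 ∧
        g⁻¹ * x' * g ∈ Subgroup.normalizer (R : Set (GL (Fin 4) F))) →
      ∃ g ∈ Cfsg.GU 4 F p ⊓ Cfsg.Geo.specialLinear (Fin 4) F,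
        g⁻¹ * x * g ∈ Subgroup.normalizer (R : Set (GL (Fin 4) F)) := by
    intro μ hμ hμ1 hall
    have hr0 : r ≠ 0 := by
      rcases hr with rfl | ⟨rfl, -⟩ | ⟨rfl, -⟩ <;> norm_num
    obtain ⟨x', u, hu, hxu', hx'⟩ := bwd_reduce x r hr0 lam μ hμ hlam
    have huG : u ∈ Cfsg.GU 4 F p := by
      show IsUni F p 4 (u : Matrix (Fin 4) (Fin 4) F)
      rw [hu]
      exact isUni_smul_one hF μ hμ1
    have hx'G : x' ∈ Cfsg.GU 4 F p := by
      have : x' = u⁻¹ * x := by rw [hxu']; group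
      rw [this]
      exact (Cfsg.GU 4 F p).mul_mem ((Cfsg.GU 4 F p).inv_mem huG) hxG
    obtain ⟨g, hgu, hg, hgN⟩ := hall x' hx'G hx'
    exact ⟨g, ⟨hgu, (mem_sl_iff g).2 hg⟩, bwd_lift x x' u μ hu hxu' g hgN⟩
  rcases hr with rfl | ⟨rfl, hp31⟩ | ⟨rfl, hord⟩
  · -- `r = 2`
    have hxx : (x : Matrix (Fin 4) (Fin 4) F) * (x : Matrix (Fin 4) (Fin 4) F) =
        lam • (1 : Matrix (Fin 4) (Fin 4) F) := by
      rw [← pow_two, ← Units.val_pow_eq_pow_val, hlam]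
    obtain ⟨μ, hμ1, hμ⟩ := U1 _ lam hxu hxx hdet
    exact key μ (by rw [pow_two, hμ]) hμ1 (fun x' hx'u hx' => bwd_two_U hF h hs hRU hp3 x' hx'u hx')
  · -- `r = 3`
    refine key (lam ^ 3) ?_ ?_ (fun x' hx'u hx' => bwd_three_U hF h hs hRU hp31 (U6 hp31) x' hx'u hx')
    · calc (lam ^ 3) ^ 3 = (lam ^ 4) ^ 2 * lam := by ring
        _ = lam := by rw [hlam4, one_pow, one_mul]
    · calc (lam ^ 3) ^ (p + 1) = (lam ^ (p + 1)) ^ 3 := by rw [← pow_mul, ← pow_mul, mul_comm]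
        _ = 1 := by rw [hlamU, one_pow]
  · -- `r = 5`
    refine key lam ?_ hlamU
      (fun x' hx'u hx' => bwd_five_U hF h hs hRU hord h5F (U5 hord) x' hx'u hx')
    calc lam ^ 5 = lam ^ 4 * lam := by ring
      _ = lam := by rw [hlam4, one_mul]

end F

end Cfsg.Agent.Lib.Helper12.SU64
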