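import Mathlib
import Cfsg.Prelude.Def_GeometricClasses
import Cfsg.Agent.Lib.Helper12.ST64J

/-! Helper12 library (SU64, part G): in characteristic 3, no transvection normalizes
`R = 4 ∘ 2^{1+4}`. -/

set_option autoImplicit false
set_option linter.unusedSectionVars false
set_option linter.unusedVariables false
set_option linter.style.haveILetI false
set_option linter.unusedSimpArgs false

namespace Cfsg.Agent.Lib.Helper12.SU64

open Matrix Module Cfsg.Agent.Lib.Helper12.Ex32 Cfsg.Agent.Lib.Helper12.ST64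
open scoped MatrixGroups

section G

variable {ι : Type} [Fintype ι] [DecidableEq ι] {F : Type*} [Field F]

variable {R : Subgroup (GL ι F)} {i : F} {ζ : R}

theorem orbit_sum_three (h3 : (3 : F) = 0) (n G : Matrix ι ι F) :
    G + (1 + n) * G * (1 - n) + (1 - n) * G * (1 + n) = n * G * n := by
  have e : (3 : F) • (G - n * G * n) = (G - n * G * n) + (G - n * G * n) + (G - n * G * n) := by
    rw [show (3 : F) = 1 + 1 + 1 by norm_num, add_smul, add_smul, one_smul]
  have key : G + (1 + n) * G * (1 - n) + (1 - n) * G * (1 + n) =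
      n * G * n + (3 : F) • (G - n * G * n) := by
    rw [e]
    noncomm_ring
  rw [key, h3, zero_smul, add_zero]

theorem Cent_inv_eq (m : GL ι F) : Cent R m⁻¹ = Cent R m := by
  ext y
  rw [mem_Cent, mem_Cent]
  constructor
  · rintro ⟨hy, hc⟩
    refine ⟨hy, ?_⟩
    calc m * y = m * (y * m⁻¹) * m := by group
      _ = m * (m⁻¹ * y) * m := by rw [hc]
      _ = y * m := by group
  · rintro ⟨hy, hc⟩
    refine ⟨hy, ?_⟩
    calc m⁻¹ * y = m⁻¹ * (y * m) * m⁻¹ := by group
      _ = m⁻¹ * (m * y) * m⁻¹ := by rw [hc]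
      _ = y * m⁻¹ := by group

variable [Fintype R]

/-- in characteristic 3, a transvection normalizing `R` is trivial -/
theorem H64.no_rank_one_unipotent (h : H64 R i ζ) (h3 : (3 : F) = 0) (m : GL ι F)
    (hm : m ∈ Subgroup.normalizer (R : Set (GL ι F)))
    (hq : ((m : Matrix ι ι F) - 1) * ((m : Matrix ι ι F) - 1) = 0)
    (φ : Matrix ι ι F → F)
    (hφ : ∀ M : Matrix ι ι F, ((m : Matrix ι ι F) - 1) * M * ((m : Matrix ι ι F) - 1) =
      φ M • ((m : Matrix ι ι F) - 1)) : m = 1 := by
  classical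
  haveI := h.nonempty
  set n : Matrix ι ι F := (m : Matrix ι ι F) - 1 with hn
  have hM : (m : Matrix ι ι F) = 1 + n := by rw [hn]; abel
  have hMi : ((m⁻¹ : GL ι F) : Matrix ι ι F) = 1 - n := by
    have h1 : (m : Matrix ι ι F) * (1 - n) = 1 := by
      rw [hM]
      simp only [Matrix.add_mul, Matrix.mul_sub, Matrix.one_mul, Matrix.mul_one, hq]
      abel
    calc ((m⁻¹ : GL ι F) : Matrix ι ι F)
        = ((m⁻¹ : GL ι F) : Matrix ι ι F) * ((m : Matrix ι ι F) * (1 - n)) := by
          rw [h1, Matrix.mul_one]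
      _ = 1 - n := by
          rw [← Matrix.mul_assoc, ← Units.val_mul, inv_mul_cancel, Units.val_one, Matrix.one_mul]
  have h40 : (4 : F) ≠ 0 := by
    have : (4 : F) = 2 * 2 := by norm_num
    rw [this]
    exact mul_ne_zero h.two h.two
  have hm3 : m ^ 3 = 1 := by
    apply Units.ext
    rw [Units.val_pow_eq_pow_val, hM, quad_pow n hq, Units.val_one]
    have : ((3 : ℕ) : F) = 0 := by exact_mod_cast h3
    rw [this, zero_smul, add_zero]
  have hmi3 : m⁻¹ ^ 3 = 1 := by rw [inv_pow, hm3, inv_one]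
  have hmiN : m⁻¹ ∈ Subgroup.normalizer (R : Set (GL ι F)) := Subgroup.inv_mem _ hm
  have hc1 : ∀ g : R, m * (g : GL ι F) * m⁻¹ ∈ R :=
    fun g => (Subgroup.mem_normalizer_iff.1 hm _).1 g.2
  have hc2 : ∀ g : R, m⁻¹ * (g : GL ι F) * m⁻¹⁻¹ ∈ R :=
    fun g => (Subgroup.mem_normalizer_iff.1 hmiN _).1 g.2
  let c1 : R → R := fun g => ⟨m * (g : GL ι F) * m⁻¹, hc1 g⟩
  let c2 : R → R := fun g => ⟨m⁻¹ * (g : GL ι F) * m⁻¹⁻¹, hc2 g⟩
  have hc1m : ∀ g : R, mat R (c1 g) = (1 + n) * mat R g * (1 - n) := by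
    intro g
    show ((m * (g : GL ι F) * m⁻¹ : GL ι F) : Matrix ι ι F) = _
    rw [Units.val_mul, Units.val_mul, hM, hMi]
    rfl
  have hc2m : ∀ g : R, mat R (c2 g) = (1 - n) * mat R g * (1 + n) := by
    intro g
    show ((m⁻¹ * (g : GL ι F) * m⁻¹⁻¹ : GL ι F) : Matrix ι ι F) = _
    rw [inv_inv, Units.val_mul, Units.val_mul, hM, hMi]
    rfl
  -- the sum over an orbit
  have horb : ∀ g : R, mat R g + mat R (c1 g) + mat R (c2 g) = φ (mat R g) • n := by
    intro g
    rw [hc1m, hc2m, orbit_sum_three h3, hφ]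
  -- traces against the inverse
  have hone : ((m ^ 3 : GL ι F) : Matrix ι ι F) = (1 : F) • (1 : Matrix ι ι F) := by
    rw [hm3, Units.val_one, one_smul]
  have honei : ((m⁻¹ ^ 3 : GL ι F) : Matrix ι ι F) = (1 : F) • (1 : Matrix ι ι F) := by
    rw [hmi3, Units.val_one, one_smul]
  have hodd : Odd 3 := by decide
  have hCinv : ∀ g : R, (g : GL ι F) ∉ Cent R m → ((g⁻¹ : R) : GL ι F) ∉ Cent R m := by
    intro g hg hg'
    apply hg
    have := (Cent R m).inv_mem hg'
    simpa using this
  have ht1 : ∀ g : R, (g : GL ι F) ∉ Cent R m → (mat R g⁻¹ * mat R (c1 g)).trace = 0 := by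
    intro g hg
    have := h.trace_term m hm 3 hodd 1 hone g⁻¹
    rw [if_neg (hCinv g hg), inv_inv, hM, hMi] at this
    rw [hc1m, ← this]
    simp only [Matrix.mul_assoc]
  have ht2 : ∀ g : R, (g : GL ι F) ∉ Cent R m → (mat R g⁻¹ * mat R (c2 g)).trace = 0 := by
    intro g hg
    have := h.trace_term m⁻¹ hmiN 3 hodd 1 honei g⁻¹
    rw [Cent_inv_eq, if_neg (hCinv g hg), inv_inv, inv_inv, hM, hMi] at this
    rw [hc2m, ← this]
    simp only [Matrix.mul_assoc]
  have hcard4 : (Fintype.card ι : F) = 4 := by rw [h.dim]; norm_num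
  have claim1 : ∀ g : R, (g : GL ι F) ∉ Cent R m →
      φ (mat R g) * (mat R g⁻¹ * n).trace = 4 := by
    intro g hg
    have := congrArg (fun X => (mat R g⁻¹ * X).trace) (horb g)
    simp only [Matrix.mul_add, Matrix.trace_add, Matrix.mul_smul, Matrix.trace_smul,
      smul_eq_mul] at this
    rw [mat_inv_mul, Matrix.trace_one, hcard4, ht1 g hg, ht2 g hg] at this
    linear_combination -this
  have claim2 : ∀ g k : R, (g : GL ι F) ∉ Cent R m → (k : GL ι F) ∉ Cent R m →
      ∃ e : R, (e = g ∨ e = c1 g ∨ e = c2 g) ∧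
        ∃ c : F, mat R (k⁻¹ * e) = c • (1 : Matrix ι ι F) := by
    intro g k hg hk
    by_contra hcon
    push Not at hcon
    have t0 := h.trace_zero (k⁻¹ * g) (fun c => hcon g (Or.inl rfl) c)
    have t1 := h.trace_zero (k⁻¹ * c1 g) (fun c => hcon (c1 g) (Or.inr (Or.inl rfl)) c)
    have t2 := h.trace_zero (k⁻¹ * c2 g) (fun c => hcon (c2 g) (Or.inr (Or.inr rfl)) c)
    rw [mat_mul] at t0 t1 t2
    have := congrArg (fun X => (mat R k⁻¹ * X).trace) (horb g)
    simp only [Matrix.mul_add, Matrix.trace_add, Matrix.mul_smul, Matrix.trace_smul,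
      smul_eq_mul] at this
    rw [t0, t1, t2] at this
    have hg4 := claim1 g hg
    have hk4 := claim1 k hk
    have hφg : φ (mat R g) ≠ 0 := by
      intro h0
      rw [h0, zero_mul] at hg4
      exact h40 hg4.symm
    have htk : (mat R k⁻¹ * n).trace ≠ 0 := by
      intro h0
      rw [h0, mul_zero] at hk4
      exact h40 hk4.symm
    have : φ (mat R g) * (mat R k⁻¹ * n).trace = 0 := by linear_combination -this
    rcases mul_eq_zero.1 this with h0 | h0
    · exact hφg h0
    · exact htk h0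
  -- counting
  by_cases hall : ∀ g : R, (g : GL ι F) ∈ Cent R m
  · have hC : Cent R m = R := le_antisymm (Cent_le m) (fun x hx => hall ⟨x, hx⟩)
    obtain ⟨d, hd⟩ := h.scalar_of_Cent_eq m hC
    have hn' : n = (d - 1) • (1 : Matrix ι ι F) := by
      rw [hn, hd, sub_smul, one_smul]
    have hd1 : (d - 1) * (d - 1) = 0 := by
      have := hq
      rw [hn', Matrix.smul_mul, Matrix.mul_smul, Matrix.one_mul, smul_smul] at this
      exact smul_one_injective (ι := ι) _ _ (by rw [this, zero_smul])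
    have hd1' : d - 1 = 0 := by
      rcases mul_eq_zero.1 hd1 with h0 | h0 <;> exact h0
    apply Units.ext
    rw [hd, sub_eq_zero.1 hd1', one_smul, Units.val_one]
  · exfalso
    push Not at hall
    obtain ⟨g, hg⟩ := hall
    set Z : Set (GL ι F) := (Subgroup.zpowers (ζ : GL ι F) : Set (GL ι F)) with hZ
    have hZfin : Z.Finite := by
      apply Set.Finite.subset (Set.toFinite (R : Set (GL ι F)))
      intro z hz
      exact (Subgroup.zpowers_le.2 ζ.2) hz
    have hZcard : Z.ncard = 4 := by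
      rw [hZ, ← Nat.card_coe_set_eq]
      exact h.card_zpowers
    let S : R → Set (GL ι F) := fun e => (fun z : GL ι F => (e : GL ι F) * z) '' Z
    have hSfin : ∀ e : R, (S e).Finite := fun e => hZfin.image _
    have hScard : ∀ e : R, (S e).ncard ≤ 4 := by
      intro e
      have := Set.ncard_image_le (f := fun z : GL ι F => (e : GL ι F) * z) hZfin
      rw [hZcard] at this
      exact this
    have hcover : (R : Set (GL ι F)) ⊆
        (Cent R m : Set (GL ι F)) ∪ (S g ∪ (S (c1 g) ∪ S (c2 g))) := by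
      intro x hx
      by_cases hxC : x ∈ Cent R m
      · exact Or.inl hxC
      · right
        obtain ⟨e, he, c, hc⟩ := claim2 g ⟨x, hx⟩ hg hxC
        have hz := h.mem_zpowers_of_scalar _ c hc
        have hz' : (((⟨x, hx⟩ : R)⁻¹ * e : R) : GL ι F)⁻¹ ∈ Z := by
          apply Subgroup.inv_mem
          obtain ⟨j, hj⟩ := Subgroup.mem_zpowers_iff.1 hz
          rw [← hj]
          rw [Subgroup.mem_zpowers_iff]
          exact ⟨j, by simp⟩
        have hxe : x = (e : GL ι F) * (((⟨x, hx⟩ : R)⁻¹ * e : R) : GL ι F)⁻¹ := by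
          simp only [Subgroup.coe_mul, Subgroup.coe_inv]
          group
        have hxS : x ∈ S e := ⟨_, hz', hxe.symm⟩
        rcases he with rfl | rfl | rfl
        · exact Or.inl hxS
        · exact Or.inr (Or.inl hxS)
        · exact Or.inr (Or.inr hxS)
    have hCfin : (Cent R m : Set (GL ι F)).Finite :=
      Set.Finite.subset (Set.toFinite (R : Set (GL ι F))) (Cent_le m)
    have hfin : ((Cent R m : Set (GL ι F)) ∪ (S g ∪ (S (c1 g) ∪ S (c2 g)))).Finite :=
      hCfin.union ((hSfin g).union ((hSfin _).union (hSfin _)))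
    have h64 : (R : Set (GL ι F)).ncard = 64 := by
      rw [← Nat.card_coe_set_eq]
      exact h.card
    obtain ⟨k, hk2, hk6, hk⟩ := h.card_Cent m
    have hCcard : (Cent R m : Set (GL ι F)).ncard = 2 ^ k := by
      rw [← Nat.card_coe_set_eq]
      exact hk
    have hle := Set.ncard_le_ncard hcover hfin
    have h1 := Set.ncard_union_le (Cent R m : Set (GL ι F)) (S g ∪ (S (c1 g) ∪ S (c2 g)))
    have h2 := Set.ncard_union_le (S g) (S (c1 g) ∪ S (c2 g))
    have h3' := Set.ncard_union_le (S (c1 g)) (S (c2 g))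
    have h4 := hScard g
    have h5 := hScard (c1 g)
    have h6 := hScard (c2 g)
    rw [h64] at hle
    rw [hCcard] at h1
    have hk' : k = 2 ∨ k = 3 ∨ k = 4 ∨ k = 5 ∨ k = 6 := by omega
    rcases hk' with rfl | rfl | rfl | rfl | rfl
    · omega
    · omega
    · omega
    · omega
    · -- the centralizer is everything
      apply hg
      have hC : Cent R m = R := by
        haveI : Finite R := Finite.of_fintype R
        apply Subgroup.eq_of_le_of_card_ge (Cent_le m)
        rw [hk, h.card]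
        norm_num
      rw [hC]
      exact g.2

end G

end Cfsg.Agent.Lib.Helper12.SU64
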