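import Mathlib
import Cfsg.Agent.Lib.Helper12.SU64A
import Cfsg.Agent.Lib.Helper5.SUMax

/-! Helper12 library (SU64, part H): a unitary transvection of `SU₄(p)` in explicit rank-one
form. -/

set_option autoImplicit false
set_option linter.unusedSectionVars false
set_option linter.unusedVariables false
set_option linter.style.haveILetI false
set_option linter.unusedSimpArgs false

namespace Cfsg.Agent.Lib.Helper12.SU64

open Matrix Module Cfsg.Agent.Lib.Helper14
open scoped MatrixGroups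

section H

variable {F : Type*} [Field F] [Fintype F] {p : ℕ} [Fact p.Prime] [CharP F p]

/-- a unitary transvection `t` of determinant one: `t - 1` squares to zero and has rank one -/
theorem exists_uni_transvection (hF : Fintype.card F = p ^ 2) :
    ∃ (t : GL (Fin 4) F) (φ : Matrix (Fin 4) (Fin 4) F → F),
      IsUni F p 4 (t : Matrix (Fin 4) (Fin 4) F) ∧ (t : Matrix (Fin 4) (Fin 4) F).det = 1 ∧
      ((t : Matrix (Fin 4) (Fin 4) F) - 1) * ((t : Matrix (Fin 4) (Fin 4) F) - 1) = 0 ∧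
      (∀ M : Matrix (Fin 4) (Fin 4) F,
        ((t : Matrix (Fin 4) (Fin 4) F) - 1) * M * ((t : Matrix (Fin 4) (Fin 4) F) - 1) =
          φ M • ((t : Matrix (Fin 4) (Fin 4) F) - 1)) ∧
      t ≠ 1 := by
  classical
  obtain ⟨c, hc0, hc⟩ := Cfsg.Agent.S2643.frob_S hF
  obtain ⟨a, ha⟩ := Cfsg.Agent.S2643.frob_N hF (-1) (neg_one_pow_char F p)
    (neg_ne_zero.2 one_ne_zero)
  set v : Fin 4 → F := ![1, a, 0, 0] with hv
  have hp0 : p ≠ 0 := (Fact.out : p.Prime).ne_zero
  have hvv : Cfsg.hermForm 4 F p v v = 0 := by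
    unfold Cfsg.hermForm
    rw [Fin.sum_univ_four]
    simp only [hv, Matrix.cons_val_zero, Matrix.cons_val_one, Matrix.cons_val]
    rw [one_pow, zero_pow hp0]
    linear_combination ha
  obtain ⟨t, htG, ht⟩ := Cfsg.Agent.Lib.Helper5.SUMax.exists_tvg hF hvv (c := c)
    (by rw [Cfsg.Agent.Lib.Helper5.HermBridge.frobQ_apply]; exact hc)
  set n : Matrix (Fin 4) (Fin 4) F := (t : Matrix (Fin 4) (Fin 4) F) - 1 with hn
  have hnx : ∀ x : Fin 4 → F, n *ᵥ x = (c * Cfsg.hermForm 4 F p x v) • v := by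
    intro x
    rw [hn, Matrix.sub_mulVec, ht, Matrix.one_mulVec, add_sub_cancel_left]
  have hform_smul : ∀ (k : F) (x : Fin 4 → F),
      Cfsg.hermForm 4 F p (k • x) v = k * Cfsg.hermForm 4 F p x v := by
    intro k x
    unfold Cfsg.hermForm
    rw [Finset.mul_sum]
    apply Finset.sum_congr rfl
    intro j _
    rw [Pi.smul_apply, smul_eq_mul, mul_assoc]
  have hφ : ∀ M : Matrix (Fin 4) (Fin 4) F,
      n * M * n = (c * Cfsg.hermForm 4 F p (M *ᵥ v) v) • n := by
    intro M
    apply Cfsg.Agent.Lib.Helper5.SpMax.mat_eq_of_mulVec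
    intro x
    rw [← Matrix.mulVec_mulVec, ← Matrix.mulVec_mulVec, hnx x, Matrix.mulVec_smul,
      Matrix.mulVec_smul, hnx (M *ᵥ v), Matrix.smul_mulVec, hnx x, smul_smul, smul_smul,
      mul_comm]
  have hq : n * n = 0 := by
    have := hφ 1
    rw [Matrix.mul_one, Matrix.one_mulVec, hvv, mul_zero, zero_smul] at this
    exact this
  refine ⟨t, fun M => c * Cfsg.hermForm 4 F p (M *ᵥ v) v, htG.1, ?_, hq, hφ, ?_⟩
  · have h1 := congrArg Units.val (MonoidHom.mem_ker.mp htG.2)
    simpa using h1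
  · intro ht1
    have hn0 : n = 0 := by rw [hn, ht1, Units.val_one, sub_self]
    have h1 := hnx (Pi.single 0 1)
    rw [hn0, Matrix.zero_mulVec] at h1
    have h2 : Cfsg.hermForm 4 F p (Pi.single 0 1) v = 1 := by
      unfold Cfsg.hermForm
      rw [Fin.sum_univ_four]
      simp [hv]
    rw [h2, mul_one] at h1
    have h3 := congrFun h1 0
    simp [hv] at h3
    exact hc0 h3.symm

end H

end Cfsg.Agent.Lib.Helper12.SU64
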