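import Mathlib
import Cfsg.Agent.Lib.Helper12.SU64C
import Cfsg.Agent.Lib.Helper12.SU64G
import Cfsg.Agent.Lib.Helper12.SU64H

/-! Helper12 library (SU64, part I): the forward direction of S6001 (modulo three leaf facts that
are passed as hypotheses). -/

set_option autoImplicit false
set_option linter.unusedSectionVars false
set_option linter.unusedVariables false
set_option linter.style.haveILetI false
set_option linter.unusedSimpArgs false

namespace Cfsg.Agent.Lib.Helper12.SU64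

open Matrix Module Cfsg.Agent.Lib.Helper12.Ex32 Cfsg.Agent.Lib.Helper12.ST64
  Cfsg.Agent.Lib.Helper14
open scoped MatrixGroups

section arith

theorem not_dvd_three_U (p : ℕ) (h4 : p % 4 = 3) (h3 : p % 3 = 2) :
    ¬ p ∣ 24 ∧ ¬ p ∣ 20 ∧ ¬ p ∣ 12 ∧ ¬ p ∣ 4 ∧ ¬ p ∣ 36 := by
  have key : ∀ N : ℕ, 0 < N → N ≤ 36 → N ≠ 11 → N ≠ 22 → N ≠ 33 → N ≠ 23 → N ≠ 35 →
      ¬ p ∣ N := by
    intro N hN0 hN h11 h22 h33 h23 h35 hd
    have hle := Nat.le_of_dvd hN0 hd
    obtain ⟨k, hk⟩ := hd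
    have hk3 : k ≤ 3 := by
      by_contra hlt
      have : 4 ≤ k := by omega
      have : p * 4 ≤ p * k := Nat.mul_le_mul_left p this
      omega
    interval_cases k <;> omega
  refine ⟨key 24 (by norm_num) (by norm_num) (by norm_num) (by norm_num) (by norm_num)
      (by norm_num) (by norm_num),
    key 20 (by norm_num) (by norm_num) (by norm_num) (by norm_num) (by norm_num)
      (by norm_num) (by norm_num),
    key 12 (by norm_num) (by norm_num) (by norm_num) (by norm_num) (by norm_num)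
      (by norm_num) (by norm_num),
    key 4 (by norm_num) (by norm_num) (by norm_num) (by norm_num) (by norm_num)
      (by norm_num) (by norm_num),
    key 36 (by norm_num) (by norm_num) (by norm_num) (by norm_num) (by norm_num)
      (by norm_num) (by norm_num)⟩

theorem not_dvd_five_U (p : ℕ) (hp : p.Prime) (h4 : p % 4 = 3) (h3 : p ≠ 3) (h5 : p ≠ 5) :
    ¬ p ∣ 80 ∧ ¬ p ∣ 144 := by
  have h2 : ¬ p ∣ 2 := fun h => by
    have := (Nat.prime_dvd_prime_iff_eq hp Nat.prime_two).1 h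
    omega
  have h16 : ¬ p ∣ 16 := fun h => h2 (hp.dvd_of_dvd_pow (show p ∣ 2 ^ 4 from h))
  refine ⟨?_, ?_⟩
  · intro h
    rw [show (80 : ℕ) = 16 * 5 from rfl] at h
    rcases (hp.dvd_mul).1 h with h | h
    · exact h16 h
    · exact h5 ((Nat.prime_dvd_prime_iff_eq hp (by norm_num)).1 h)
  · intro h
    rw [show (144 : ℕ) = 16 * 3 ^ 2 from rfl] at h
    rcases (hp.dvd_mul).1 h with h | h
    · exact h16 h
    · exact h3 ((Nat.prime_dvd_prime_iff_eq hp Nat.prime_three).1 (hp.dvd_of_dvd_pow h))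

end arith

section I

variable {F : Type*} [Field F] [Fintype F] {p : ℕ} [Fact p.Prime] [CharP F p]

variable {R : Subgroup (GL (Fin 4) F)} {i : F} {ζ : R}

/-- the hypothesis of the forward direction, applied to a unitary element of order dividing `r` -/
theorem apply_H_U (r : ℕ)
    (H : ∀ x ∈ Cfsg.GU 4 F p ⊓ Cfsg.Geo.specialLinear (Fin 4) F,
      (∃ z : F, ((x ^ r : GL (Fin 4) F) : Matrix (Fin 4) (Fin 4) F) =
        z • (1 : Matrix (Fin 4) (Fin 4) F)) →
      (∀ z : F, (x : Matrix (Fin 4) (Fin 4) F) ≠ z • (1 : Matrix (Fin 4) (Fin 4) F)) →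
      ∃ g ∈ Cfsg.GU 4 F p ⊓ Cfsg.Geo.specialLinear (Fin 4) F,
        g⁻¹ * x * g ∈ Cfsg.Geo.subgroupNormalizer R)
    (x : GL (Fin 4) F) (hxu : IsUni F p 4 (x : Matrix (Fin 4) (Fin 4) F))
    (hdet : (x : Matrix (Fin 4) (Fin 4) F).det = 1) (hxr : x ^ r = 1)
    (hns : ∀ z : F, (x : Matrix (Fin 4) (Fin 4) F) ≠ z • (1 : Matrix (Fin 4) (Fin 4) F)) :
    ∃ y : GL (Fin 4) F, y ∈ Subgroup.normalizer (R : Set (GL (Fin 4) F)) ∧
      ((y ^ r : GL (Fin 4) F) : Matrix (Fin 4) (Fin 4) F) =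
        (1 : F) • (1 : Matrix (Fin 4) (Fin 4) F) ∧
      (y : Matrix (Fin 4) (Fin 4) F).trace = (x : Matrix (Fin 4) (Fin 4) F).trace ∧
      ((y⁻¹ : GL (Fin 4) F) : Matrix (Fin 4) (Fin 4) F).trace =
        ((x⁻¹ : GL (Fin 4) F) : Matrix (Fin 4) (Fin 4) F).trace ∧
      (∀ d : F, (y : Matrix (Fin 4) (Fin 4) F) ≠ d • (1 : Matrix (Fin 4) (Fin 4) F)) ∧
      ∃ g : GL (Fin 4) F, y = g⁻¹ * x * g := by
  obtain ⟨g, -, hgN⟩ := H x ⟨hxu, (mem_sl_iff x).2 hdet⟩
    ⟨1, by rw [hxr, Units.val_one, one_smul]⟩ hns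
  refine ⟨g⁻¹ * x * g, hgN, ?_, conj_trace g x, conj_inv_trace g x, ?_, g, rfl⟩
  · rw [conj_pow', hxr, mul_one, inv_mul_cancel, Units.val_one, one_smul]
  · intro d hd
    exact hns d (scalar_of_conj_scalar g x d hd)

variable [Fintype R]

/-- the forward direction -/
theorem fwd_main_U (h : H64 R i ζ) (hF : Fintype.card F = p ^ 2) (hp4 : p % 4 = 3) (r : ℕ)
    [Fact r.Prime]
    (hΩ : r ∣ Nat.card ↥(Cfsg.GU 4 F p ⊓ Cfsg.Geo.specialLinear (Fin 4) F))
    (U2 : p % 5 = 1 ∨ p % 5 = 4 → ∃ τ : F, τ ^ 2 + τ - 1 = 0 ∧ τ ^ p = τ)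
    (U3 : ∀ τ : F, τ ^ 2 + τ - 1 = 0 → τ ^ p = τ →
      ∃ x : GL (Fin 4) F, IsUni F p 4 (x : Matrix (Fin 4) (Fin 4) F) ∧
        Matrix.det (x : Matrix (Fin 4) (Fin 4) F) = 1 ∧ x ^ 5 = 1 ∧
        (∀ z : F, (x : Matrix (Fin 4) (Fin 4) F) ≠ z • (1 : Matrix (Fin 4) (Fin 4) F)) ∧
        (x : Matrix (Fin 4) (Fin 4) F).trace = 2 + τ ∧
        ((x⁻¹ : GL (Fin 4) F) : Matrix (Fin 4) (Fin 4) F).trace = 2 + τ)
    (U4 : p % 3 = 2 →
      ∃ x : GL (Fin 4) F, IsUni F p 4 (x : Matrix (Fin 4) (Fin 4) F) ∧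
        Matrix.det (x : Matrix (Fin 4) (Fin 4) F) = 1 ∧ x ^ 3 = 1 ∧
        (∀ z : F, (x : Matrix (Fin 4) (Fin 4) F) ≠ z • (1 : Matrix (Fin 4) (Fin 4) F)) ∧
        (x : Matrix (Fin 4) (Fin 4) F).trace *
          ((x⁻¹ : GL (Fin 4) F) : Matrix (Fin 4) (Fin 4) F).trace = 7)
    (H : ∀ x ∈ Cfsg.GU 4 F p ⊓ Cfsg.Geo.specialLinear (Fin 4) F,
      (∃ z : F, ((x ^ r : GL (Fin 4) F) : Matrix (Fin 4) (Fin 4) F) =
        z • (1 : Matrix (Fin 4) (Fin 4) F)) →
      (∀ z : F, (x : Matrix (Fin 4) (Fin 4) F) ≠ z • (1 : Matrix (Fin 4) (Fin 4) F)) →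
      ∃ g ∈ Cfsg.GU 4 F p ⊓ Cfsg.Geo.specialLinear (Fin 4) F,
        g⁻¹ * x * g ∈ Cfsg.Geo.subgroupNormalizer R) :
    r = 2 ∨ (r = 3 ∧ p % 3 = 1) ∨ (r = 5 ∧ orderOf (p : ZMod 5) = 4) := by
  classical
  have hrp : r.Prime := Fact.out
  have hpp : p.Prime := Fact.out
  have hcast : ∀ N : ℕ, ((N : ℕ) : F) = 0 → p ∣ N := fun N hN => (CharP.cast_eq_zero_iff F p N).1 hN
  have h2F := h.two
  by_cases hr2 : r = 2
  · left; exact hr2
  right
  by_cases hr3 : r = 3
  · left
    subst hr3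
    refine ⟨rfl, ?_⟩
    by_contra hp3
    by_cases hp30 : p % 3 = 0
    · -- characteristic 3: a transvection
      have hp3' : p = 3 := by
        have : 3 ∣ p := Nat.dvd_of_mod_eq_zero hp30
        exact ((Nat.prime_dvd_prime_iff_eq Nat.prime_three hpp).1 this).symm
      have h3F : (3 : F) = 0 := by
        have : ((p : ℕ) : F) = 0 := CharP.cast_eq_zero F p
        rw [hp3'] at this
        exact_mod_cast this
      obtain ⟨t, φ, htu, htd, hq, hφ, ht1⟩ := exists_uni_transvection (F := F) (p := p) hF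
      have ht3 : t ^ 3 = 1 := by
        apply Units.ext
        rw [Units.val_pow_eq_pow_val, Units.val_one]
        have hx : (t : Matrix (Fin 4) (Fin 4) F) = 1 + ((t : Matrix (Fin 4) (Fin 4) F) - 1) := by
          abel
        rw [hx, quad_pow _ hq]
        have : ((3 : ℕ) : F) = 0 := by exact_mod_cast h3F
        rw [this, zero_smul, add_zero]
      have htns : ∀ z : F, (t : Matrix (Fin 4) (Fin 4) F) ≠ z • (1 : Matrix (Fin 4) (Fin 4) F) := by
        intro z hz
        have hn' : (t : Matrix (Fin 4) (Fin 4) F) - 1 = (z - 1) • (1 : Matrix (Fin 4) (Fin 4) F) := by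
          rw [hz, sub_smul, one_smul]
        have hd1 : (z - 1) * (z - 1) = 0 := by
          have := hq
          rw [hn', Matrix.smul_mul, Matrix.mul_smul, Matrix.one_mul, smul_smul] at this
          exact smul_one_injective (ι := Fin 4) _ _ (by rw [this, zero_smul])
        have hd1' : z - 1 = 0 := by
          rcases mul_eq_zero.1 hd1 with h0 | h0 <;> exact h0
        apply ht1
        apply Units.ext
        rw [hz, sub_eq_zero.1 hd1', one_smul, Units.val_one]
      obtain ⟨y, hyN, -, -, -, hyns, g, hyg⟩ := apply_H_U 3 H t htu htd ht3 htns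
      have e1 : (y : Matrix (Fin 4) (Fin 4) F) - 1 =
          ((g⁻¹ : GL (Fin 4) F) : Matrix (Fin 4) (Fin 4) F) *
            ((t : Matrix (Fin 4) (Fin 4) F) - 1) * (g : Matrix (Fin 4) (Fin 4) F) := by
        rw [hyg, Units.val_mul, Units.val_mul, Matrix.mul_sub, Matrix.sub_mul, Matrix.mul_one,
          ← Units.val_mul g⁻¹ g, inv_mul_cancel, Units.val_one]
      have hgg : (g : Matrix (Fin 4) (Fin 4) F) * ((g⁻¹ : GL (Fin 4) F) : Matrix (Fin 4) (Fin 4) F) = 1 := by
        rw [← Units.val_mul, mul_inv_cancel, Units.val_one]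
      have hyφ : ∀ M : Matrix (Fin 4) (Fin 4) F,
          ((y : Matrix (Fin 4) (Fin 4) F) - 1) * M * ((y : Matrix (Fin 4) (Fin 4) F) - 1) =
            φ ((g : Matrix (Fin 4) (Fin 4) F) * M *
              ((g⁻¹ : GL (Fin 4) F) : Matrix (Fin 4) (Fin 4) F)) •
              ((y : Matrix (Fin 4) (Fin 4) F) - 1) := by
        intro M
        rw [e1]
        calc ((g⁻¹ : GL (Fin 4) F) : Matrix (Fin 4) (Fin 4) F) *
              ((t : Matrix (Fin 4) (Fin 4) F) - 1) * (g : Matrix (Fin 4) (Fin 4) F) * M *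
              (((g⁻¹ : GL (Fin 4) F) : Matrix (Fin 4) (Fin 4) F) *
              ((t : Matrix (Fin 4) (Fin 4) F) - 1) * (g : Matrix (Fin 4) (Fin 4) F))
            = ((g⁻¹ : GL (Fin 4) F) : Matrix (Fin 4) (Fin 4) F) *
              (((t : Matrix (Fin 4) (Fin 4) F) - 1) *
                ((g : Matrix (Fin 4) (Fin 4) F) * M *
                  ((g⁻¹ : GL (Fin 4) F) : Matrix (Fin 4) (Fin 4) F)) *
                ((t : Matrix (Fin 4) (Fin 4) F) - 1)) * (g : Matrix (Fin 4) (Fin 4) F) := by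
              simp only [Matrix.mul_assoc]
          _ = _ := by
              rw [hφ, Matrix.mul_smul, Matrix.smul_mul]
      have hyq : ((y : Matrix (Fin 4) (Fin 4) F) - 1) * ((y : Matrix (Fin 4) (Fin 4) F) - 1) = 0 := by
        have h1 := hyφ 1
        rw [Matrix.mul_one, Matrix.mul_one, hgg] at h1
        have h2 := hφ 1
        rw [Matrix.mul_one, hq] at h2
        -- `φ 1 • (t - 1) = 0`, and `t - 1 ≠ 0`
        have hn0 : (t : Matrix (Fin 4) (Fin 4) F) - 1 ≠ 0 := by
          intro h0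
          apply ht1
          apply Units.ext
          rw [Units.val_one]
          exact sub_eq_zero.1 h0
        have hφ1 : φ 1 = 0 := by
          by_contra hne
          apply hn0
          have := congrArg (fun X => (φ 1)⁻¹ • X) h2
          simpa [smul_smul, inv_mul_cancel₀ hne] using this.symm
        rw [h1, hφ1, zero_smul]
      have hy1 := Cfsg.Agent.Lib.Helper12.SU64.H64.no_rank_one_unipotent h h3F y hyN hyq _ hyφ
      apply hyns 1
      rw [hy1, Units.val_one, one_smul]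
    · -- `p ≡ 2 (mod 3)`
      have hp32 : p % 3 = 2 := by omega
      obtain ⟨hn24, hn20, hn12, hn4, hn36⟩ := not_dvd_three_U p hp4 hp32
      obtain ⟨x, hxu, hdet, hx3, hns, htr⟩ := U4 hp32
      obtain ⟨y, hyN, hy3, hty, hty', hyns, -⟩ := apply_H_U 3 H x hxu hdet hx3 hns
      have hform := h.trace_formula y hyN 3 (by decide) 1 hy3
      rw [hty, hty', mul_assoc, htr] at hform
      obtain ⟨k, hk2, hk6, hk⟩ := h.card_Cent y
      rw [hk] at hform
      have hk' : k = 2 ∨ k = 3 ∨ k = 4 ∨ k = 5 ∨ k = 6 := by omega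
      rcases hk' with rfl | rfl | rfl | rfl | rfl
      · apply hn24; apply hcast; push_cast at hform ⊢; linear_combination -hform
      · apply hn20; apply hcast; push_cast at hform ⊢; linear_combination -hform
      · apply hn12; apply hcast; push_cast at hform ⊢; linear_combination -hform
      · apply hn4; apply hcast; push_cast at hform ⊢; linear_combination hform
      · apply hn36; apply hcast; push_cast at hform ⊢; linear_combination hform
  by_cases hr5 : r = 5
  · right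
    subst hr5
    refine ⟨rfl, ?_⟩
    by_contra hord
    have hp5 : p ≠ 5 := by omega
    have hq := mod_five_of_order p hpp hp5 hord
    have hp3 : p ≠ 3 := by omega
    obtain ⟨hn80, hn144⟩ := not_dvd_five_U p hpp hp4 hp3 hp5
    -- a root `τ` of `X² + X - 1` in the prime field with `3 τ + 1 ≠ 0`
    have hτex : ∃ τ : F, τ ^ 2 + τ - 1 = 0 ∧ τ ^ p = τ ∧ 3 * τ + 1 ≠ 0 := by
      obtain ⟨τ₀, hτ₀, hτ₀p⟩ := U2 hq
      by_cases h0 : 3 * τ₀ + 1 = 0
      · refine ⟨-1 - τ₀, by linear_combination hτ₀, ?_, ?_⟩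
        · rw [sub_pow_char, neg_one_pow_char, hτ₀p]
        · intro h1
          have : (1 : F) = 0 := by linear_combination -h1 - h0
          exact one_ne_zero this
      · exact ⟨τ₀, hτ₀, hτ₀p, h0⟩
    obtain ⟨τ, hτ, hτp, hτ3⟩ := hτex
    obtain ⟨x, hxu, hdet, hx5, hns, htr, htr'⟩ := U3 τ hτ hτp
    obtain ⟨y, hyN, hy5, hty, hty', hyns, -⟩ := apply_H_U 5 H x hxu hdet hx5 hns
    have hform := h.trace_formula y hyN 5 (by decide) 1 hy5
    rw [hty, hty', htr, htr'] at hform
    obtain ⟨k, hk2, hk6, hk⟩ := h.card_Cent y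
    have hk' : k = 2 ∨ k = 3 ∨ k = 4 ∨ k = 5 ∨ k = 6 := by omega
    rcases hk' with rfl | rfl | rfl | rfl | rfl
    · rw [hk] at hform
      apply hn80; apply hcast; push_cast at hform ⊢
      linear_combination ((4 : F) - 12 * τ) * hform + (-(128 : F) - 48 * τ) * hτ
    · rw [hk] at hform
      apply hn144; apply hcast; push_cast at hform ⊢
      linear_combination (-(12 : F) * τ) * hform + (-(144 : F) - 48 * τ) * hτ
    · rw [hk] at hform
      apply hτ3
      have h4 : (4 : F) * (3 * τ + 1) = 0 := by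
        push_cast at hform
        linear_combination -hform - 4 * hτ
      rcases mul_eq_zero.1 h4 with h0 | h0
      · exfalso
        have : (4 : F) = 2 * 2 := by norm_num
        rw [this] at h0
        rcases mul_eq_zero.1 h0 with h0 | h0 <;> exact h2F h0
      · exact h0
    · rw [hk] at hform
      apply hn144; apply hcast; push_cast at hform ⊢
      linear_combination ((24 : F) + 12 * τ) * hform + ((240 : F) + 48 * τ) * hτ
    · -- the centralizer is everything: `y` is scalar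
      obtain ⟨d, hd⟩ := h.scalar_of_Cent_eq y (by
        haveI : Finite R := Finite.of_fintype R
        apply Subgroup.eq_of_le_of_card_ge (Cent_le y)
        rw [hk, h.card]
        norm_num)
      exact hyns d hd
  · -- `r ≥ 7`
    exfalso
    have hr7 : 7 ≤ r := by
      have h2 := hrp.two_le
      by_contra hlt
      have : r = 4 ∨ r = 6 := by omega
      rcases this with rfl | rfl
      · exact absurd hrp (by norm_num)
      · exact absurd hrp (by norm_num)
    haveI : Finite ↥(Cfsg.GU 4 F p ⊓ Cfsg.Geo.specialLinear (Fin 4) F) := inferInstance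
    obtain ⟨x, hx⟩ := exists_prime_orderOf_dvd_card' r hΩ
    have hxr : (x : GL (Fin 4) F) ^ r = 1 := by
      have := pow_orderOf_eq_one x
      rw [hx] at this
      have h2 := congrArg
        (fun y : ↥(Cfsg.GU 4 F p ⊓ Cfsg.Geo.specialLinear (Fin 4) F) => (y : GL (Fin 4) F)) this
      simpa using h2
    have hxu : IsUni F p 4 ((x : GL (Fin 4) F) : Matrix (Fin 4) (Fin 4) F) := x.2.1
    have hdet : ((x : GL (Fin 4) F) : Matrix (Fin 4) (Fin 4) F).det = 1 := (mem_sl_iff _).1 x.2.2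
    have hns : ∀ z : F, ((x : GL (Fin 4) F) : Matrix (Fin 4) (Fin 4) F) ≠
        z • (1 : Matrix (Fin 4) (Fin 4) F) := by
      intro z hz
      have hz4 : z ^ 4 = 1 := by
        rw [hz, Matrix.det_smul, Matrix.det_one, mul_one, Fintype.card_fin] at hdet
        exact hdet
      have hx4 : x ^ 4 = 1 := by
        apply Subtype.ext
        apply Units.ext
        rw [Subgroup.coe_pow, Units.val_pow_eq_pow_val, hz, smul_pow, one_pow, hz4, one_smul]
        rfl
      have h1 := orderOf_dvd_of_pow_eq_one hx4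
      rw [hx] at h1
      have : r ∣ 2 := hrp.dvd_of_dvd_pow (show r ∣ 2 ^ 2 from h1)
      exact hr2 ((Nat.prime_dvd_prime_iff_eq hrp Nat.prime_two).1 this)
    obtain ⟨y, hyN, hyr, -, -, hyns, -⟩ := apply_H_U r H (x : GL (Fin 4) F) hxu hdet hxr hns
    obtain ⟨d, hd⟩ := h.scalar_of_large_prime y hyN r hr7 1 hyr
    exact hyns d hd

end I

end Cfsg.Agent.Lib.Helper12.SU64
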