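import Cfsg.Agent.Lib.Helper12.SakDefs

set_option autoImplicit false

/-!
# S5544 core C : the three fusion rules on the fixed subalgebra

Abstract (pure nonassociative algebra) form.  `a` is the base axis, `b, b'` its two neighbours
(`b' = μ b`), `c, c'` the next ones, `s = sig a b = sig a b'`, `s2 = sig a c = sig a c'`, `t = sig b b'`.
-/

namespace Cfsg.Agent.Lib.Helper12.SakC

variable {V : Type*} [AddCommGroup V] [Module ℝ V]

set_option maxHeartbeats 1600000 in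
theorem coreC (mul : V →ₗ[ℝ] V →ₗ[ℝ] V) (B : LinearMap.BilinForm ℝ V)
    (hc : ∀ u v : V, mul u v = mul v u) (hs : ∀ u v : V, B u v = B v u)
    (ha : ∀ u v w : V, B u (mul v w) = B (mul u v) w)
    (a b b' c c' s s2 t : V) (l l2 l2f : ℝ)
    (Taa : mul a a = a)
    (Tab : mul a b = s + (1/32:ℝ) • (a + b))
    (Tab' : mul a b' = s + (1/32:ℝ) • (a + b'))
    (Tas : mul a s = (3/4*l - 25/1024 : ℝ) • a + (7/32:ℝ) • s + (7/2048:ℝ) • (b + b'))
    (Tbb : mul b b = b) (Tb'b' : mul b' b' = b')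
    (Tbb' : mul b b' = t + (1/32:ℝ) • (b + b'))
    (Tbs : mul b s = (3/4*l - 25/1024 : ℝ) • b + (7/32:ℝ) • s + (7/2048:ℝ) • (a + c))
    (Tb's : mul b' s = (3/4*l - 25/1024 : ℝ) • b' + (7/32:ℝ) • s + (7/2048:ℝ) • (a + c'))
    (Tac : mul a c = s2 + (1/32:ℝ) • (a + c))
    (Tac' : mul a c' = s2 + (1/32:ℝ) • (a + c'))
    (Naa : B a a = 1) (Nab : B a b = l) (Nab' : B a b' = l) (Nbb : B b b = 1) (Nb'b' : B b' b' = 1)
    (Nbb' : B b b' = l2f) (Nac : B a c = l2) (Nac' : B a c' = l2)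
    (f00 : ∀ u v : V, mul a u = 0 → mul a v = 0 → mul a (mul u v) = 0)
    (f0q : ∀ u v : V, mul a u = 0 → mul a v = (1/4:ℝ) • v → mul a (mul u v) = (1/4:ℝ) • mul u v)
    (fqq : ∀ u v : V, mul a u = (1/4:ℝ) • u → mul a v = (1/4:ℝ) • v →
      mul a (mul u v) = (B a (mul u v)) • a) :
    l2f = l2 ∧
    mul a t = (1/6*l - 19/3072 : ℝ) • (b + b') + (7/6144 : ℝ) • (c + c')
        + (-32/3*l^2 + 5/3*l - 1/24*l2 - 127/3072 : ℝ) • a + (32/3*l - 19/48 : ℝ) • s + (7/96 : ℝ) • s2 ∧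
    mul s s = (49/768*l - 245/196608 : ℝ) • (b + b') + (49/196608 : ℝ) • (c + c')
        + (7/6*l^2 - 7/384*l + 7/1536*l2 - 7/98304 : ℝ) • a + (-5/12*l - 13/1536 : ℝ) • s
        - (7/1536 : ℝ) • s2 + (7/2048 : ℝ) • t := by
  -- commuted table
  have Tba : mul b a = s + (1/32:ℝ) • (a + b) := by rw [hc b a]; exact Tab
  have Tb'a : mul b' a = s + (1/32:ℝ) • (a + b') := by rw [hc b' a]; exact Tab'
  have Tsa : mul s a = (3/4*l - 25/1024 : ℝ) • a + (7/32:ℝ) • s + (7/2048:ℝ) • (b + b') := by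
    rw [hc s a]; exact Tas
  have Tb'b : mul b' b = t + (1/32:ℝ) • (b + b') := by rw [hc b' b]; exact Tbb'
  have Tsb : mul s b = (3/4*l - 25/1024 : ℝ) • b + (7/32:ℝ) • s + (7/2048:ℝ) • (a + c) := by
    rw [hc s b]; exact Tbs
  have Tsb' : mul s b' = (3/4*l - 25/1024 : ℝ) • b' + (7/32:ℝ) • s + (7/2048:ℝ) • (a + c') := by
    rw [hc s b']; exact Tb's
  have Tca : mul c a = s2 + (1/32:ℝ) • (a + c) := by rw [hc c a]; exact Tac
  have Tc'a : mul c' a = s2 + (1/32:ℝ) • (a + c') := by rw [hc c' a]; exact Tac'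
  -- inner products with s
  have hs1 : s = mul a b - (1/32:ℝ) • (a + b) := by rw [Tab]; module
  have hs2 : s = mul a b' - (1/32:ℝ) • (a + b') := by rw [Tab']; module
  have Nba : B b a = l := by rw [hs b a]; exact Nab
  have Nb'a : B b' a = l := by rw [hs b' a]; exact Nab'
  have Nsa : B s a = (31*l - 1)/32 := by
    have h1 : B (mul a b) a = l := by
      rw [hc a b, ← ha b a a, Taa]; exact Nba
    have : B s a = B (mul a b) a - (1/32:ℝ) * (B a a + B b a) := by
      conv_lhs => rw [hs1]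
      simp only [map_sub, map_add, map_smul, LinearMap.sub_apply, LinearMap.add_apply,
        LinearMap.smul_apply, smul_eq_mul]
    rw [this, h1, Naa, Nba]; ring
  have Nas : B a s = (31*l - 1)/32 := by rw [hs a s]; exact Nsa
  have Nsb : B s b = (31*l - 1)/32 := by
    have h1 : B (mul a b) b = l := by
      rw [← ha a b b, Tbb]; exact Nab
    have : B s b = B (mul a b) b - (1/32:ℝ) * (B a b + B b b) := by
      conv_lhs => rw [hs1]
      simp only [map_sub, map_add, map_smul, LinearMap.sub_apply, LinearMap.add_apply,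
        LinearMap.smul_apply, smul_eq_mul]
    rw [this, h1, Nab, Nbb]; ring
  have Nbs : B b s = (31*l - 1)/32 := by rw [hs b s]; exact Nsb
  have Nsb' : B s b' = (31*l - 1)/32 := by
    have h1 : B (mul a b') b' = l := by
      rw [← ha a b' b', Tb'b']; exact Nab'
    have : B s b' = B (mul a b') b' - (1/32:ℝ) * (B a b' + B b' b') := by
      conv_lhs => rw [hs2]
      simp only [map_sub, map_add, map_smul, LinearMap.sub_apply, LinearMap.add_apply,
        LinearMap.smul_apply, smul_eq_mul]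
    rw [this, h1, Nab', Nb'b']; ring
  have Nb's : B b' s = (31*l - 1)/32 := by rw [hs b' s]; exact Nsb'
  have Nb'b : B b' b = l2f := by rw [hs b' b]; exact Nbb'
  have Nss : B s s = (3/4*l - 25/1024) * l + (7/32) * ((31*l - 1)/32) + (7/2048) * (1 + l2)
      - (1/16) * ((31*l-1)/32) := by
    have h1 : B (mul a b) s = (3/4*l - 25/1024) * l + (7/32) * ((31*l - 1)/32) + (7/2048) * (1 + l2) := by
      rw [← ha a b s, Tbs]
      simp only [map_sub, map_add, map_smul, LinearMap.sub_apply, LinearMap.add_apply,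
        LinearMap.smul_apply, smul_eq_mul]
      rw [Nab, Nas, Naa, Nac]
    have : B s s = B (mul a b) s - (1/32:ℝ) * (B a s + B b s) := by
      have h0 : B s s = B (mul a b - (1/32:ℝ) • (a + b)) s := by rw [← hs1]
      rw [h0]
      simp only [map_sub, map_add, map_smul, LinearMap.sub_apply, LinearMap.add_apply,
        LinearMap.smul_apply, smul_eq_mul]
    rw [this, h1, Nas, Nbs]; ring
  -- the 0- and 1/4-components of (b+b')/2
  obtain ⟨u, hu⟩ : ∃ u : V, u = (7/16:ℝ) • (b + b') - (4:ℝ) • s + (3*l - 1/8 : ℝ) • a := ⟨_, rfl⟩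
  obtain ⟨v, hv⟩ : ∃ v : V, v = (1/16:ℝ) • (b + b') + (4:ℝ) • s - (4*l - 1/8 : ℝ) • a := ⟨_, rfl⟩
  have hau : mul a u = 0 := by
    rw [hu]
    simp only [map_sub, map_add, map_smul, LinearMap.sub_apply, LinearMap.add_apply,
      LinearMap.smul_apply]
    rw [Taa, Tab, Tab', Tas]
    module
  have hav : mul a v = (1/4:ℝ) • v := by
    rw [hv]
    simp only [map_sub, map_add, map_smul, LinearMap.sub_apply, LinearMap.add_apply,
      LinearMap.smul_apply]
    rw [Taa, Tab, Tab', Tas]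
    module
  -- orthogonality
  have huv0 : B u v = 0 := by
    have h1 : B u (mul a v) = 0 := by
      rw [ha u a v, hc u a, hau]; simp
    rw [hav] at h1
    simp only [map_smul, smul_eq_mul] at h1
    linarith
  have hl2 : l2f = l2 := by
    have h2 : B u v = (7/128) * (l2f - l2) := by
      rw [hu, hv]
      simp only [map_sub, map_add, map_smul, LinearMap.sub_apply, LinearMap.add_apply,
        LinearMap.smul_apply, smul_eq_mul]
      rw [Nbb, Nb'b', Nbb', Nb'b, Nsb, Nsb', Nbs, Nb's, Nss, Nsa, Nas, Naa, Nab, Nab', Nba, Nb'a]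
      ring
    rw [h2] at huv0
    linarith
  subst hl2
  refine ⟨rfl, ?_⟩
  -- norm of v
  have Nvv : B v v = -4*l^2 + 4*l + (1/16)*l2f - 1/16 := by
    rw [hv]
    simp only [map_sub, map_add, map_smul, LinearMap.sub_apply, LinearMap.add_apply,
      LinearMap.smul_apply, smul_eq_mul]
    rw [Nbb, Nb'b', Nbb', Nb'b, Nsb, Nsb', Nbs, Nb's, Nss, Nsa, Nas, Naa, Nab, Nab', Nba, Nb'a]
    ring
  -- the products
  have huu : mul u u = ((-9*l^2 + 3/4*l - 81/2048 : ℝ)) • a + ((-21/8*l + 1183/4096 : ℝ)) • b + ((-21/8*l + 1183/4096 : ℝ)) • b' + ((-49/4096 : ℝ)) • c + ((-49/4096 : ℝ)) • c' + ((-49/32 : ℝ)) • s + ((49/128 : ℝ)) • t + ((16 : ℝ)) • mul s s := by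
    rw [hu]
    simp only [map_sub, map_add, map_smul, LinearMap.sub_apply, LinearMap.add_apply,
      LinearMap.smul_apply]
    simp only [Taa, Tab, Tab', Tas, Tba, Tb'a, Tsa, Tbb, Tb'b', Tbb', Tb'b, Tbs, Tb's, Tsb, Tsb']
    module
  have huv : mul u v = ((9*l^2 - 21/32*l + 45/2048 : ℝ)) • a + ((75/64*l - 39/4096 : ℝ)) • b + ((75/64*l - 39/4096 : ℝ)) • b' + ((21/4096 : ℝ)) • c + ((21/4096 : ℝ)) • c' + ((3*l + 17/32 : ℝ)) • s + ((7/128 : ℝ)) • t + ((-16 : ℝ)) • mul s s := by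
    rw [hu, hv]
    simp only [map_sub, map_add, map_smul, LinearMap.sub_apply, LinearMap.add_apply,
      LinearMap.smul_apply]
    simp only [Taa, Tab, Tab', Tas, Tba, Tb'a, Tsa, Tbb, Tb'b', Tbb', Tb'b, Tbs, Tb's, Tsb, Tsb']
    module
  have hvv : mul v v = ((-8*l^2 + 1/2*l - 9/2048 : ℝ)) • a + ((1/4*l - 17/4096 : ℝ)) • b + ((1/4*l - 17/4096 : ℝ)) • b' + ((7/4096 : ℝ)) • c + ((7/4096 : ℝ)) • c' + ((-8*l + 15/32 : ℝ)) • s + ((1/128 : ℝ)) • t + ((16 : ℝ)) • mul s s := by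
    rw [hv]
    simp only [map_sub, map_add, map_smul, LinearMap.sub_apply, LinearMap.add_apply,
      LinearMap.smul_apply]
    simp only [Taa, Tab, Tab', Tas, Tba, Tb'a, Tsa, Tbb, Tb'b', Tbb', Tb'b, Tbs, Tb's, Tsb, Tsb']
    module
  -- the fusion rules
  have F1 := f00 u u hau hau
  have F2 := f0q u v hau hav
  have F3 := fqq v v hav hav
  have hκ : B a (mul v v) = (1/4) * (-4*l^2 + 4*l + (1/16)*l2f - 1/16) := by
    rw [ha a v v, hav]
    simp only [map_smul, LinearMap.smul_apply, smul_eq_mul]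
    rw [Nvv]
  rw [hκ] at F3
  rw [huu] at F1
  rw [huv] at F2
  rw [hvv] at F3
  simp only [map_sub, map_add, map_smul, LinearMap.sub_apply, LinearMap.add_apply,
    LinearMap.smul_apply] at F1 F2 F3
  simp only [Taa, Tab, Tab', Tas, Tac, Tac'] at F1 F2 F3
  have hZ : mul a t = (1/6*l - 19/3072 : ℝ) • (b + b') + (7/6144 : ℝ) • (c + c')
        + (-32/3*l^2 + 5/3*l - 1/24*l2f - 127/3072 : ℝ) • a + (32/3*l - 19/48 : ℝ) • s + (7/96 : ℝ) • s2 := by
    linear_combination (norm := module) (8/3 : ℝ) • F1 - (8/3 : ℝ) • F3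
  refine ⟨hZ, ?_⟩
  rw [hZ] at F1 F2 F3
  linear_combination (norm := module) (1/4 : ℝ) • F3 + (1/4 : ℝ) • F2
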