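import Mathlib
import Cfsg.Prelude.Def_AxialAlgebras

set_option autoImplicit false

/-!
# S5544 (Sakuma's theorem, Majorana setting): shared definitions

`sig mul x y = x*y - (x+y)/32`, the vector that is fixed by the Majorana involution of `x` (and of `y`).
-/

namespace Cfsg.Agent.Lib.Helper12.Sak

variable {V : Type*} [AddCommGroup V] [Module ℝ V]

/-- `sig x y = x * y - (1/32) (x + y)`. -/
noncomputable def sig (mul : V →ₗ[ℝ] V →ₗ[ℝ] V) (x y : V) : V := mul x y - (1 / 32 : ℝ) • (x + y)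

theorem sig_def (mul : V →ₗ[ℝ] V →ₗ[ℝ] V) (x y : V) :
    sig mul x y = mul x y - (1 / 32 : ℝ) • (x + y) := rfl

theorem mul_eq_sig (mul : V →ₗ[ℝ] V →ₗ[ℝ] V) (x y : V) :
    mul x y = sig mul x y + (1 / 32 : ℝ) • (x + y) := by
  rw [sig_def]; abel

theorem sig_comm (mul : V →ₗ[ℝ] V →ₗ[ℝ] V) (hc : Cfsg.Axial.IsCommMul mul) (x y : V) :
    sig mul x y = sig mul y x := by
  rw [sig_def, sig_def, hc x y, add_comm x y]

end Cfsg.Agent.Lib.Helper12.Sak
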