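import Cfsg.Agent.Lib.Helper12.SakC
import Cfsg.Agent.Lib.Helper18.SakA1
import Cfsg.Agent.Lib.Helper22.SakA2
import Cfsg.Agent.Lib.Helper9.SakH
import Cfsg.Agent.Lib.Helper6.SakG

/-!
# S5544 : Sakuma's theorem in the Majorana setting (assembly; planner helper12)

Leaves: A1 (helper18), A2 (helper22), A3 (helper19/helper22), H (helper9), G (helper6); core C = `SakC.coreC`.
-/

set_option autoImplicit false

namespace Cfsg.Agent.Lib.Helper12.SakMain

open Cfsg Cfsg.Axial Cfsg.Agent.Lib.Helper12.Sak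

variable {V : Type*} [AddCommGroup V] [Module ℝ V]
variable {mul : V →ₗ[ℝ] V →ₗ[ℝ] V} {B : LinearMap.BilinForm ℝ V}

theorem aut_sig (g : V ≃ₗ[ℝ] V) (hg : ∀ u v : V, g (mul u v) = mul (g u) (g v)) (x y : V) :
    g (sig mul x y) = sig mul (g x) (g y) := by
  rw [sig_def, sig_def, map_sub, map_smul, map_add, hg]

/-- `sig a x` in terms of the components of `x`. -/
theorem sig_decomp {a : V} (x0 xq xt : V) (c : ℝ) (haa : mul a a = a) (h0 : mul a x0 = 0)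
    (hq : mul a xq = (1 / 4 : ℝ) • xq) (ht : mul a xt = (1 / 32 : ℝ) • xt) :
    sig mul a (c • a + x0 + xq + xt) =
      (31 / 32 * c - 1 / 32 : ℝ) • a - (1 / 32 : ℝ) • x0 + (7 / 32 : ℝ) • xq := by
  rw [sig_def]
  simp only [map_add, map_smul]
  rw [haa, h0, hq, ht]
  module

theorem sig_fix {μ : V ≃ₗ[ℝ] V} {a : V} (hV : IsMajoranaAmbient mul B) (h : IsMajoranaPair mul B μ a)
    (hn : B a a = 1) (x : V) : μ (sig mul a x) = sig mul a x := by
  obtain ⟨x0, xq, xt, e0, eq, et, hx, h0, hq, ht⟩ := Cfsg.Agent.Lib.Helper18.SakA1.pair_decomp hV h hn x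
  have hfa : μ a = a := Cfsg.Agent.Lib.Helper18.SakA1.pair_fix_self h
  have haa : mul a a = a := h.2.2.1.1.2.1
  generalize B a x = c at hx
  subst hx
  have hμx : μ (c • a + x0 + xq + xt) = c • a + x0 + xq + (-xt) := by
    simp only [map_add, map_smul, hfa, h0, hq, ht]
  have etn : mul a (-xt) = (1 / 32 : ℝ) • (-xt) := by rw [map_neg, et, smul_neg]
  rw [aut_sig μ h.1, hfa, hμx, sig_decomp x0 xq (-xt) c haa e0 eq etn,
    sig_decomp x0 xq xt c haa e0 eq et]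

theorem axis_mul_sig {μ : V ≃ₗ[ℝ] V} {a : V} (hV : IsMajoranaAmbient mul B) (h : IsMajoranaPair mul B μ a)
    (hn : B a a = 1) (x : V) :
    mul a (sig mul a x) =
      (3 / 4 * B a x - 25 / 1024 : ℝ) • a + (7 / 32 : ℝ) • sig mul a x + (7 / 2048 : ℝ) • (x + μ x) := by
  obtain ⟨x0, xq, xt, e0, eq, et, hx, h0, hq, ht⟩ := Cfsg.Agent.Lib.Helper18.SakA1.pair_decomp hV h hn x
  have hfa : μ a = a := Cfsg.Agent.Lib.Helper18.SakA1.pair_fix_self h
  have haa : mul a a = a := h.2.2.1.1.2.1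
  generalize B a x = c at hx ⊢
  subst hx
  have hμx : μ (c • a + x0 + xq + xt) = c • a + x0 + xq + (-xt) := by
    simp only [map_add, map_smul, hfa, h0, hq, ht]
  rw [hμx, sig_decomp x0 xq xt c haa e0 eq et]
  simp only [map_add, map_sub, map_smul]
  rw [haa, e0, eq]
  module

/-- A Majorana involution is an involution. -/
theorem pair_invol {μ : V ≃ₗ[ℝ] V} {a : V} (hV : IsMajoranaAmbient mul B) (h : IsMajoranaPair mul B μ a)
    (hn : B a a = 1) (x : V) : μ (μ x) = x := by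
  obtain ⟨x0, xq, xt, -, -, -, hx, h0, hq, ht⟩ := Cfsg.Agent.Lib.Helper18.SakA1.pair_decomp hV h hn x
  have hfa : μ a = a := Cfsg.Agent.Lib.Helper18.SakA1.pair_fix_self h
  rw [hx]
  simp only [map_add, map_smul, map_neg, hfa, h0, hq, ht, neg_neg]

theorem form_sig (x y z : V) :
    B (sig mul x y) z = B (mul x y) z - (1 / 32 : ℝ) * (B x z + B y z) := by
  rw [sig_def]
  simp only [map_sub, map_add, map_smul, LinearMap.sub_apply, LinearMap.add_apply,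
    LinearMap.smul_apply, smul_eq_mul]

theorem eq_of_form_one (hV : IsMajoranaAmbient mul B) (x y : V) (hx : B x x = 1) (hy : B y y = 1)
    (hxy : B x y = 1) : y = x := by
  obtain ⟨-, hs, hpos, -, -⟩ := hV
  by_contra hne
  have h1 : y - x ≠ 0 := sub_ne_zero.2 hne
  have h2 := hpos (y - x) h1
  have h3 : B (y - x) (y - x) = B y y - B y x - B x y + B x x := by
    simp only [map_sub, LinearMap.sub_apply]; ring
  rw [h3, hs y x, hx, hy, hxy] at h2
  linarith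


set_option maxHeartbeats 4000000 in
theorem raw_eqs {m0 m1 : V ≃ₗ[ℝ] V} {a0 a1 : V}
    (hV : IsMajoranaAmbient mul B) (h₀ : IsMajoranaPair mul B m0 a0) (h₁ : IsMajoranaPair mul B m1 a1)
    (hn₀ : B a0 a0 = 1) (hn₁ : B a1 a1 = 1)
    (l1 l2 l3 l4e l4o l5 l6 : ℝ)
    (e1 : B a0 a1 = l1) (e2 : B a0 (m1 a0) = l2) (e3 : B a0 (m1 (m0 a1)) = l3)
    (e4e : B (m0 (m1 a0)) (m1 a0) = l4e) (e4o : B (m0 a1) (m1 (m0 a1)) = l4o)
    (e5 : B (m0 (m1 a0)) (m1 (m0 a1)) = l5) (e6 : B (m0 (m1 (m0 a1))) (m1 (m0 a1)) = l6) :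
    (-32768*l1^3 - 1920*l1*l2 + 36864*l1^2 - 2169*l1 - 33*l2 - 7*l3 + 33 = 0) ∧
    (32768*l1^2*l2 - 32768*l1^3 - 2432*l1*l2 + 1792*l1*l3 + 2304*l1^2 + 128*l2^2 - 1622*l1 - 177*l2 - 42*l3 + 7*l4e + 42 = 0) ∧
    (32768*l1^2*l2 - 32768*l1^3 - 2432*l1*l2 + 1792*l1*l3 + 2304*l1^2 + 128*l2^2 - 1622*l1 - 177*l2 - 42*l3 + 7*l4o + 42 = 0) ∧
    (-32768*l1^2*l2 + 32768*l1^2*l3 + 2304*l1*l2 - 2304*l1*l3 + 1792*l1*l4o - 1792*l1^2 + 128*l2*l3 - 128*l2^2 - 168*l1 + 177*l2 + 33*l3 - 42*l4o + 7*l5 - 7 = 0) ∧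
    (-704512*l1^2*l2 + 786432*l1^3 + 89344*l1*l2 - 2240*l1*l3 - 177984*l1^2 + 1280*l2^2 + 8890*l1 - 1152*l2 + 70*l3 + 7*l4e - 135 = 0) ∧
    (98304*l1^2*l2 - 2818048*l1^2*l3 + 3047424*l1^3 + 6784*l1*l2 + 178432*l1*l3 - 8960*l1*l4o - 534784*l1^2 + 5120*l2*l3 + 384*l2^2 + 27754*l1 - 201*l2 - 2054*l3 + 259*l4o + 28*l5 - 442 = 0) ∧
    (-2818048*l1^2*l3 + 98304*l1^2*l4o + 3047424*l1^3 + 8320*l1*l2 + 178432*l1*l3 - 10496*l1*l4o + 5376*l1*l5 - 540160*l1^2 + 5120*l2*l3 + 384*l2*l4o + 27859*l1 - 174*l2 - 2054*l3 + 232*l4o - 77*l5 + 21*l6 - 463 = 0) := by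
  have hV' := hV
  obtain ⟨hc, hs, hpos, ha, -⟩ := hV'
  have g0m := h₀.1
  have g0B := h₀.2.1
  have g1m := h₁.1
  have g1B := h₁.2.1
  have inv0 := pair_invol hV h₀ hn₀
  have inv1 := pair_invol hV h₁ hn₁
  have f00 : m0 a0 = a0 := Cfsg.Agent.Lib.Helper18.SakA1.pair_fix_self h₀
  have f11 : m1 a1 = a1 := Cfsg.Agent.Lib.Helper18.SakA1.pair_fix_self h₁
  have i00 : mul a0 a0 = a0 := h₀.2.2.1.1.2.1
  have i11 : mul a1 a1 = a1 := h₁.2.2.1.1.2.1
  -- the sig vectors (before generalizing the axes)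
  have fs0 : m0 (sig mul a0 a1) = sig mul a0 a1 := sig_fix hV h₀ hn₀ a1
  have fs1 : m1 (sig mul a0 a1) = sig mul a0 a1 := by
    rw [sig_comm mul hc a0 a1]; exact sig_fix hV h₁ hn₁ a0
  have fs2 : m0 (sig mul a0 (m1 a0)) = sig mul a0 (m1 a0) := sig_fix hV h₀ hn₀ _
  have fs2f : m1 (sig mul a1 (m0 a1)) = sig mul a1 (m0 a1) := sig_fix hV h₁ hn₁ _
  have fs3 : m0 (sig mul a0 (m1 (m0 a1))) = sig mul a0 (m1 (m0 a1)) := sig_fix hV h₀ hn₀ _
  have q0 := axis_mul_sig hV h₀ hn₀ a1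
  have q1 := axis_mul_sig hV h₁ hn₁ a0
  have q02 := axis_mul_sig hV h₀ hn₀ (m1 a0)
  rw [← sig_comm mul hc a0 a1, hs a1 a0, e1] at q1
  rw [e1] at q0
  rw [e2] at q02
  have p01 := mul_eq_sig mul a0 a1
  have p02 := mul_eq_sig mul a0 (m1 a0)
  have p1m1 := mul_eq_sig mul a1 (m0 a1)
  have p03 := mul_eq_sig mul a0 (m1 (m0 a1))
  -- name the axes
  generalize ham1 : m0 a1 = am1 at *
  generalize ha2 : m1 a0 = a2 at *
  generalize ham2 : m0 a2 = am2 at *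
  generalize ha3 : m1 am1 = a3 at *
  generalize ham3 : m0 a3 = am3 at *
  generalize hsd : sig mul a0 a1 = s at *
  generalize hs2d : sig mul a0 a2 = s2 at *
  generalize hs2fd : sig mul a1 am1 = s2f at *
  generalize hs3d : sig mul a0 a3 = s3 at *
  -- images
  have m0am1 : m0 am1 = a1 := by rw [← ham1]; exact inv0 a1
  have m1a2 : m1 a2 = a0 := by rw [← ha2]; exact inv1 a0
  have m0am2 : m0 am2 = a2 := by rw [← ham2]; exact inv0 a2
  have m1a3 : m1 a3 = am1 := by rw [← ha3]; exact inv1 am1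
  have m0am3 : m0 am3 = a3 := by rw [← ham3]; exact inv0 a3
  -- products
  have p0m1 : mul a0 am1 = s + (1/32:ℝ) • (a0 + am1) := by
    have := congrArg m0 p01
    rw [g0m, map_add, map_smul, map_add, f00, ham1, fs0] at this
    exact this
  have p10 : mul a1 a0 = s + (1/32:ℝ) • (a1 + a0) := by rw [hc a1 a0, p01, add_comm a0 a1]
  have p12 : mul a1 a2 = s + (1/32:ℝ) • (a1 + a2) := by
    have := congrArg m1 p10
    rw [g1m, map_add, map_smul, map_add, f11, ha2, fs1] at this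
    exact this
  have p23 : mul a2 a3 = s + (1/32:ℝ) • (a2 + a3) := by
    have := congrArg m1 p0m1
    rw [g1m, map_add, map_smul, map_add, ha2, ha3, fs1] at this
    exact this
  have p0m2 : mul a0 am2 = s2 + (1/32:ℝ) • (a0 + am2) := by
    have := congrArg m0 p02
    rw [g0m, map_add, map_smul, map_add, f00, ham2, fs2] at this
    exact this
  have p13 : mul a1 a3 = s2f + (1/32:ℝ) • (a1 + a3) := by
    have := congrArg m1 p1m1
    rw [g1m, map_add, map_smul, map_add, f11, ha3, fs2f] at this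
    exact this
  have pm1m1 : mul am1 am1 = am1 := by
    have := congrArg m0 i11
    rw [g0m, ham1] at this; exact this
  have p22 : mul a2 a2 = a2 := by
    have := congrArg m1 i00
    rw [g1m, ha2] at this; exact this
  -- a_i * s
  have qm1 : mul am1 s = (3/4*l1 - 25/1024 : ℝ) • am1 + (7/32:ℝ) • s + (7/2048:ℝ) • (a0 + am2) := by
    have := congrArg m0 q1
    rw [g0m] at this
    simp only [map_add, map_smul] at this
    rw [ham1, fs0, f00, ham2] at this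
    exact this
  have q2 : mul a2 s = (3/4*l1 - 25/1024 : ℝ) • a2 + (7/32:ℝ) • s + (7/2048:ℝ) • (a1 + a3) := by
    have := congrArg m1 q0
    rw [g1m] at this
    simp only [map_add, map_smul] at this
    rw [ha2, fs1, f11, ha3] at this
    exact this
  -- form values
  have n10 : B a1 a0 = l1 := by rw [hs a1 a0]; exact e1
  have n0m1 : B a0 am1 = l1 := by
    have := g0B a0 a1; rw [f00, ham1, e1] at this; exact this
  have n12 : B a1 a2 = l1 := by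
    have := g1B a1 a0; rw [f11, ha2, n10] at this; exact this
  have n0m2 : B a0 am2 = l2 := by
    have := g0B a0 a2; rw [f00, ham2, e2] at this; exact this
  have nm1m1 : B am1 am1 = 1 := by
    have := g0B a1 a1; rw [ham1, hn₁] at this; exact this
  have n22 : B a2 a2 = 1 := by
    have := g1B a0 a0; rw [ha2, hn₀] at this; exact this
  have n13 : B a1 a3 = B a1 am1 := by
    have := g1B a1 am1; rw [f11, ha3] at this; exact this
  -- core C, first application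
  obtain ⟨hl2f, Z0, X0⟩ := Cfsg.Agent.Lib.Helper12.SakC.coreC mul B hc hs ha a0 a1 am1 a2 am2 s s2 s2f
    l1 l2 (B a1 am1)
    i00 p01 p0m1 q0 i11 pm1m1 p1m1 q1 qm1 p02 p0m2 hn₀ e1 n0m1 hn₁ nm1m1 rfl e2 n0m2
    (Cfsg.Agent.Lib.Helper22.SakA2.pair_fus00 h₀) (Cfsg.Agent.Lib.Helper22.SakA2.pair_fus0q h₀)
    (Cfsg.Agent.Lib.Helper22.SakA2.pair_fusqq hV h₀ hn₀)
  rw [hl2f] at n13
  -- core C, second application (roles of a0, a1 swapped)
  obtain ⟨-, -, X1⟩ := Cfsg.Agent.Lib.Helper12.SakC.coreC mul B hc hs ha a1 a0 a2 am1 a3 s s2f s2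
    l1 l2 l2
    i11 p10 p12 q1 i00 p22 p02 q0 q2 p1m1 p13 hn₁ n10 n12 hn₀ n22 e2 hl2f n13
    (Cfsg.Agent.Lib.Helper22.SakA2.pair_fus00 h₁) (Cfsg.Agent.Lib.Helper22.SakA2.pair_fus0q h₁)
    (Cfsg.Agent.Lib.Helper22.SakA2.pair_fusqq hV h₁ hn₁)
  have I1 : s2f = ((-1/32 : ℝ)) • am2 + ((-8*l1 + 3/16 : ℝ)) • am1 + ((-1024/7*l1^2 + 72/7*l1 - 4/7*l2 - 33/224 : ℝ)) • a0 + ((1024/7*l1^2 - 72/7*l1 + 4/7*l2 + 33/224 : ℝ)) • a1 + ((8*l1 - 3/16 : ℝ)) • a2 + ((1/32 : ℝ)) • a3 + ((1 : ℝ)) • s2 := by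
    linear_combination (norm := module) (-6144/49 : ℝ) • X0 + (6144/49 : ℝ) • X1
  -- part E : multiply I1 by a0
  have E := congrArg (mul a0) I1
  simp only [map_add, map_smul] at E
  rw [Z0, q02, p0m2, p0m1, i00, p01, p02, p03] at E
  have I2 : s3 = ((-1/24 : ℝ)) • am2 + ((40/3*l1 - 37/96 : ℝ)) • am1 + ((88064/21*l1^2 - 5576/21*l1 - 160/21*l2 + 2705/672 : ℝ)) • a0 + ((-1024/7*l1^2 + 328/21*l1 - 4/7*l2 - 29/84 : ℝ)) • a1 + ((-8*l1 + 11/96 : ℝ)) • a2 + ((-1/32 : ℝ)) • a3 + ((-32768/7*l1^2 + 19456/21*l1 - 128/7*l2 - 491/21 : ℝ)) • s + ((-256*l1 + 7/3 : ℝ)) • s2 := by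
    linear_combination (norm := module) (-32 : ℝ) • E
  -- part F : the form table
  have p33 : mul a3 a3 = a3 := by
    have := congrArg m1 pm1m1
    rw [g1m, ha3] at this; exact this
  -- axes against a0
  have nm2_0 : B am2 a0 = l2 := by rw [hs am2 a0]; exact n0m2
  have nm1_0 : B am1 a0 = l1 := by rw [hs am1 a0]; exact n0m1
  have n2_0 : B a2 a0 = l2 := by rw [hs a2 a0]; exact e2
  have n3_0 : B a3 a0 = l3 := by rw [hs a3 a0]; exact e3
  -- axes against a2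
  have nm1_2 : B am1 a2 = l3 := by
    have := g1B am1 a2; rw [ha3, m1a2, n3_0] at this; exact this.symm
  have n3_2 : B a3 a2 = l1 := by
    have := g1B am1 a0; rw [ha3, ha2, nm1_0] at this; exact this
  -- axes against am1
  have nm2_m1 : B am2 am1 = l1 := by
    have := g0B a2 a1; rw [ham2, ham1, hs a2 a1, n12] at this; exact this
  have n1_m1 : B a1 am1 = l2 := hl2f
  have n2_m1 : B a2 am1 = l3 := by rw [hs a2 am1]; exact nm1_2
  have n3_m1 : B a3 am1 = l4o := by rw [hs a3 am1]; exact e4o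
  -- axes against a3
  have n1_3 : B a1 a3 = l2 := n13
  have n2_3 : B a2 a3 = l1 := by rw [hs a2 a3]; exact n3_2
  have n3_3 : B a3 a3 = 1 := by
    have := g1B am1 am1; rw [ha3, nm1m1] at this; exact this
  -- axes against am3
  have nm2_m3 : B am2 am3 = l1 := by
    have := g0B a2 a3; rw [ham2, ham3, n2_3] at this; exact this
  have nm1_m3 : B am1 am3 = l2 := by
    have := g0B a1 a3; rw [ham1, ham3, n1_3] at this; exact this
  have n0_m3 : B a0 am3 = l3 := by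
    have := g0B a0 a3; rw [f00, ham3, e3] at this; exact this
  have n1_m3 : B a1 am3 = l4o := by
    have := g0B am1 a3; rw [m0am1, ham3, e4o] at this; exact this
  have n2_m3 : B a2 am3 = l5 := by
    have := g0B am2 a3; rw [m0am2, ham3, e5] at this; exact this
  have n3_m3 : B a3 am3 = l6 := by rw [hs a3 am3]; exact e6
  -- s against the axes
  have ns_0 : B s a0 = (31*l1 - 1)/32 := by
    rw [← hsd, form_sig, hc a0 a1, ← ha a1 a0 a0, i00, hn₀, n10]; ring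
  have ns_1 : B s a1 = (31*l1 - 1)/32 := by
    rw [← hsd, form_sig, ← ha a0 a1 a1, i11, hn₁, e1]; ring
  have ns_2 : B s a2 = (31*l1 - 1)/32 := by
    have := g1B s a0; rw [fs1, ha2, ns_0] at this; exact this
  have ns_m1 : B s am1 = (31*l1 - 1)/32 := by
    have := g0B s a1; rw [fs0, ham1, ns_1] at this; exact this
  have ns_3 : B s a3 = (31*l1 - 1)/32 := by
    have := g1B s am1; rw [fs1, ha3, ns_m1] at this; exact this
  have ns_m3 : B s am3 = (31*l1 - 1)/32 := by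
    have := g0B s a3; rw [fs0, ham3, ns_3] at this; exact this
  -- s2 against the axes
  have ns2_0 : B s2 a0 = (31*l2 - 1)/32 := by
    rw [← hs2d, form_sig, hc a0 a2, ← ha a2 a0 a0, i00, hn₀, n2_0]; ring
  have ns2_2 : B s2 a2 = (31*l2 - 1)/32 := by
    rw [← hs2d, form_sig, ← ha a0 a2 a2, p22, n22, e2]; ring
  have ns2_m1 : B s2 am1 = (30*l1 + l2 - 1)/32 := by
    rw [← hs2d, form_sig, hc a0 a2, ← ha a2 a0 am1, p0m1]
    simp only [map_add, map_smul, smul_eq_mul]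
    rw [hs a2 s, ns_2, n2_0, n2_m1, n0m1]; ring
  have ns2_3 : B s2 a3 = (30*l1 + l2 - 1)/32 := by
    rw [← hs2d, form_sig, ← ha a0 a2 a3, p23]
    simp only [map_add, map_smul, smul_eq_mul]
    rw [hs a0 s, ns_0, e2, e3, n2_3]; ring
  have ns2_m3 : B s2 am3 = (30*l1 + l2 - 1)/32 := by
    have := g0B s2 a3; rw [fs2, ham3, ns2_3] at this; exact this
  -- s2f against the axes
  have ns2f_0 : B s2f a0 = (30*l1 + l2 - 1)/32 := by
    rw [← hs2fd, form_sig, ← ha a1 am1 a0, hc am1 a0, p0m1]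
    simp only [map_add, map_smul, smul_eq_mul]
    rw [hs a1 s, ns_1, n10, n1_m1, nm1_0]; ring
  have ns2f_2 : B s2f a2 = (30*l1 + l2 - 1)/32 := by
    rw [← hs2fd, form_sig, hc a1 am1, ← ha am1 a1 a2, p12]
    simp only [map_add, map_smul, smul_eq_mul]
    rw [hs am1 s, ns_m1, hs am1 a1, n1_m1, nm1_2, n12]; ring
  have ns2f_m1 : B s2f am1 = (31*l2 - 1)/32 := by
    rw [← hs2fd, form_sig, ← ha a1 am1 am1, pm1m1, n1_m1, nm1m1]; ring
  have ns2f_3 : B s2f a3 = (31*l2 - 1)/32 := by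
    have := g1B s2f am1; rw [fs2f, ha3, ns2f_m1] at this; exact this
  -- s3 against the axes
  have ns3_2 : B s3 a2 = (30*l1 + l2 - 1)/32 + (1/32) * (l3 + l1) - (1/32) * (l2 + l1) := by
    rw [← hs3d, form_sig, hc a0 a3, ← ha a3 a0 a2, p02]
    simp only [map_add, map_smul, smul_eq_mul]
    rw [hs a3 s2, ns2_3, n3_0, n3_2, e2]
  have ns3_3 : B s3 a3 = (31*l3 - 1)/32 := by
    rw [← hs3d, form_sig, ← ha a0 a3 a3, p33, e3, n3_3]; ring
  have ns3_m3 : B s3 am3 = (31*l3 - 1)/32 := by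
    have := g0B s3 a3; rw [fs3, ham3, ns3_3] at this; exact this
  -- the seven relations
  have T0 := congrArg (fun x => B x a0) I1
  simp only [map_add, map_smul, LinearMap.add_apply, LinearMap.smul_apply, smul_eq_mul] at T0
  rw [ns2f_0, nm2_0, nm1_0, hn₀, n10, n2_0, n3_0, ns2_0] at T0
  have T2 := congrArg (fun x => B x a2) I1
  simp only [map_add, map_smul, LinearMap.add_apply, LinearMap.smul_apply, smul_eq_mul] at T2
  rw [ns2f_2, e4e, nm1_2, e2, n12, n22, n3_2, ns2_2] at T2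
  have Tm1 := congrArg (fun x => B x am1) I1
  simp only [map_add, map_smul, LinearMap.add_apply, LinearMap.smul_apply, smul_eq_mul] at Tm1
  rw [ns2f_m1, nm2_m1, nm1m1, n0m1, n1_m1, n2_m1, n3_m1, ns2_m1] at Tm1
  have T3 := congrArg (fun x => B x a3) I1
  simp only [map_add, map_smul, LinearMap.add_apply, LinearMap.smul_apply, smul_eq_mul] at T3
  rw [ns2f_3, e5, e4o, e3, n1_3, n2_3, n3_3, ns2_3] at T3
  have U2 := congrArg (fun x => B x a2) I2
  simp only [map_add, map_smul, LinearMap.add_apply, LinearMap.smul_apply, smul_eq_mul] at U2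
  rw [ns3_2, e4e, nm1_2, e2, n12, n22, n3_2, ns_2, ns2_2] at U2
  have U3 := congrArg (fun x => B x a3) I2
  simp only [map_add, map_smul, LinearMap.add_apply, LinearMap.smul_apply, smul_eq_mul] at U3
  rw [ns3_3, e5, e4o, e3, n1_3, n2_3, n3_3, ns_3, ns2_3] at U3
  have Um3 := congrArg (fun x => B x am3) I2
  simp only [map_add, map_smul, LinearMap.add_apply, LinearMap.smul_apply, smul_eq_mul] at Um3
  rw [ns3_m3, nm2_m3, nm1_m3, n0_m3, n1_m3, n2_m3, n3_m3, ns_m3, ns2_m3] at Um3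
  refine ⟨?_, ?_, ?_, ?_, ?_, ?_, ?_⟩
  · linear_combination (224:ℝ) * T0
  · linear_combination (224:ℝ) * T2
  · linear_combination (-224:ℝ) * Tm1
  · linear_combination (224:ℝ) * T3
  · linear_combination (168:ℝ) * U2
  · linear_combination (672:ℝ) * U3
  · linear_combination (672:ℝ) * Um3

/-- **Sakuma's theorem** (Majorana setting): the product of two Majorana involutions has order at most 6. -/
theorem sakuma {μ₀ μ₁ : V ≃ₗ[ℝ] V} {a₀ a₁ : V}
    (hV : IsMajoranaAmbient mul B) (h₀ : IsMajoranaPair mul B μ₀ a₀) (h₁ : IsMajoranaPair mul B μ₁ a₁)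
    (hn₀ : B a₀ a₀ = 1) (hn₁ : B a₁ a₁ = 1) :
    ∃ n : ℕ, 1 ≤ n ∧ n ≤ 6 ∧ (μ₀ * μ₁) ^ n = 1 := by
  obtain ⟨r3, r4e, r4o, r5, rA, rB, r6⟩ :=
    raw_eqs hV h₀ h₁ hn₀ hn₁ _ _ _ _ _ _ _ rfl rfl rfl rfl rfl rfl rfl
  have hcase := Cfsg.Agent.Lib.Helper6.SakG.polyG _ _ _ _ _ _ _ r3 r4e r4o r5 rA rB r6
  have hs := hV.2.1
  have g0B := h₀.2.1
  have g1B := h₁.2.1
  have n2 : B (μ₁ a₀) (μ₁ a₀) = 1 := by rw [g1B]; exact hn₀
  have nm1 : B (μ₀ a₁) (μ₀ a₁) = 1 := by rw [g0B]; exact hn₁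
  have n3 : B (μ₁ (μ₀ a₁)) (μ₁ (μ₀ a₁)) = 1 := by rw [g1B]; exact nm1
  have nm2 : B (μ₀ (μ₁ a₀)) (μ₀ (μ₁ a₀)) = 1 := by rw [g0B]; exact n2
  have nm3 : B (μ₀ (μ₁ (μ₀ a₁))) (μ₀ (μ₁ (μ₀ a₁))) = 1 := by rw [g0B]; exact n3
  apply Cfsg.Agent.Lib.Helper9.SakH.endgame h₀ h₁
  rcases hcase with h | h | h | h | h | h
  · exact Or.inl (eq_of_form_one hV a₀ a₁ hn₀ hn₁ h)
  · exact Or.inr (Or.inl (eq_of_form_one hV a₀ (μ₁ a₀) hn₀ n2 h))
  · exact Or.inr (Or.inr (Or.inl (eq_of_form_one hV a₀ (μ₁ (μ₀ a₁)) hn₀ n3 h)))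
  · refine Or.inr (Or.inr (Or.inr (Or.inl ?_)))
    exact eq_of_form_one hV (μ₁ a₀) (μ₀ (μ₁ a₀)) n2 nm2 (by rw [hs]; exact h)
  · refine Or.inr (Or.inr (Or.inr (Or.inr (Or.inl ?_))))
    exact eq_of_form_one hV (μ₁ (μ₀ a₁)) (μ₀ (μ₁ a₀)) n3 nm2 (by rw [hs]; exact h)
  · refine Or.inr (Or.inr (Or.inr (Or.inr (Or.inr ?_))))
    exact eq_of_form_one hV (μ₁ (μ₀ a₁)) (μ₀ (μ₁ (μ₀ a₁))) n3 nm3 (by rw [hs]; exact h)

end Cfsg.Agent.Lib.Helper12.SakMain
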