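import Mathlib
import Cfsg.Prelude.Def_Transfer
import Cfsg.Prelude.Def_SolvableStructure
import Cfsg.Prelude.Def_Local
import Cfsg.Prelude.Def_CaseTheorems
import Cfsg.Agent.Lib.Helper21.SchDefs
import Cfsg.Agent.Lib.Helper21.SchPDefs
import Cfsg.Agent.Lib.Helper12.HallHigman

/-! S4394 leaf **G0** (helper12): in a `p`-solvable group with `O_{p'} = 1`, an abelian Sylow `p`-subgroup lies
in `O_p`. -/

set_option autoImplicit false
universe u v
open Cfsg
open Cfsg.Agent.Lib.Helper21.Sch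
open Cfsg.Agent.Lib.Helper21.SchP

namespace Cfsg.Agent.Lib.Helper12.SchPG0

/-- **TAG G0** `S ≤ C_H(O_p(H)) ≤ O_p(H)` (`Cfsg.Agent.Lib.Helper12.centralizer_pCore_le_pCore` in
`Helper12.HallHigman`; `O_p(H) ≤ S`: `Cfsg.Agent.Lib.Helper24.normal_pgroup_le_sylow`). -/
theorem le_pCore_of_comm {H : Type*} [Group H] [Finite H] (p : ℕ) [Fact p.Prime] (hsol : Cfsg.IsPSolvable p H)
    (hO : Cfsg.pPrimeCore p H = ⊥) (S : Sylow p H) (hc : ∀ x y : ↥(S : Subgroup H), x * y = y * x) :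
    (S : Subgroup H) ≤ Cfsg.pCore p H := by
  have hUn : (Cfsg.pCore p H).Normal := Cfsg.Agent.Lib.Helper24.pCore_normal' p
  have hUp : IsPGroup p (Cfsg.pCore p H) := Cfsg.Agent.Lib.Helper12.pCore_isPGroup' p
  have hUS : Cfsg.pCore p H ≤ S := Cfsg.Agent.Lib.Helper24.normal_pgroup_le_sylow _ hUp S
  refine le_trans ?_ (Cfsg.Agent.Lib.Helper12.centralizer_pCore_le_pCore p hsol hO)
  intro s hs
  rw [Subgroup.mem_centralizer_iff]
  intro u hu
  have := hc ⟨u, hUS hu⟩ ⟨s, hs⟩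
  exact congrArg Subtype.val this

end Cfsg.Agent.Lib.Helper12.SchPG0
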