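import Mathlib
import Cfsg.Prelude.Def_Transfer
import Cfsg.Prelude.Def_SolvableStructure
import Cfsg.Prelude.Def_Local
import Cfsg.Prelude.Def_CaseTheorems
import Cfsg.Agent.Lib.Helper21.SchDefs
import Cfsg.Agent.Lib.Helper21.SchPDefs
import Cfsg.Agent.Lib.Helper12.Cores

/-! S4394 leaf **G1P** (helper12): a Sylow `p`-subgroup `Q` of `G` maps isomorphically onto a Sylow
`p`-subgroup of `G / O_{p'}(G)`. -/

set_option autoImplicit false
universe u v
open Cfsg
open Cfsg.Agent.Lib.Helper21.Sch
open Cfsg.Agent.Lib.Helper21.SchP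

namespace Cfsg.Agent.Lib.Helper12.SchPG1P

/-- **TAG G1P** the image of `Q` in `G / O_{p'}(G)` is a Sylow `p`-subgroup isomorphic to `Q` (`Q ⊓ O_{p'}(G) = ⊥`). -/
theorem exists_sylow_quotient_equiv {G : Type*} [Group G] [Finite G] (p : ℕ) [Fact p.Prime] (Q : Sylow p G) :
    ∃ S : Sylow p (G ⧸ Cfsg.pPrimeCore p G),
      Nonempty (↥(Q : Subgroup G) ≃* ↥(S : Subgroup (G ⧸ Cfsg.pPrimeCore p G))) := by
  have hpp : p.Prime := Fact.out
  set N := Cfsg.pPrimeCore p G with hN
  have hcop : (Nat.card N).Coprime p := Cfsg.Agent.Lib.Helper12.pPrimeCore_coprime p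
  set f : ↥(Q : Subgroup G) →* G ⧸ N := (QuotientGroup.mk' N).comp (Q : Subgroup G).subtype with hf
  have hinj : Function.Injective f := by
    rw [injective_iff_map_eq_one]
    intro x hx
    have hxN : (x : G) ∈ N := by
      have : ((x : G) : G ⧸ N) = 1 := hx
      exact (QuotientGroup.eq_one_iff _).mp this
    -- `x` is a `p`-element of `N`, whose order is prime to `p`
    obtain ⟨j, hj⟩ := Q.isPGroup' x
    have hj' : (x : G) ^ p ^ j = 1 := by
      have := congrArg Subtype.val hj
      simpa using this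
    have h1 : orderOf (x : G) ∣ p ^ j := orderOf_dvd_of_pow_eq_one hj'
    have h2 : orderOf (x : G) ∣ Nat.card N := by
      have := Subgroup.orderOf_dvd_natCard N hxN
      exact this
    have h3 : (Nat.card N).Coprime (p ^ j) := Nat.Coprime.pow_right j hcop
    have h4 : orderOf (x : G) = 1 := Nat.eq_one_of_dvd_coprimes h3 h2 h1
    have h5 : (x : G) = 1 := orderOf_eq_one_iff.mp h4
    exact Subtype.ext h5
  have hcardrange : Nat.card f.range = Nat.card (Q : Subgroup G) :=
    (Nat.card_congr (MonoidHom.ofInjective hinj).toEquiv).symm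
  have hfact : (Nat.card (G ⧸ N)).factorization p = (Nat.card G).factorization p := by
    have h1 : Nat.card G = Nat.card (G ⧸ N) * Nat.card N := Subgroup.card_eq_card_quotient_mul_card_subgroup N
    have hq0 : Nat.card (G ⧸ N) ≠ 0 := Nat.card_pos.ne'
    have hn0 : Nat.card N ≠ 0 := Nat.card_pos.ne'
    rw [h1, Nat.factorization_mul hq0 hn0]
    have h2 : (Nat.card N).factorization p = 0 := by
      apply Nat.factorization_eq_zero_of_not_dvd
      intro hdvd
      have := Nat.Coprime.eq_one_of_dvd hcop.symm hdvd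
      exact hpp.one_lt.ne' this
    simp [h2]
  have hcard : Nat.card f.range = p ^ (Nat.card (G ⧸ N)).factorization p := by
    rw [hcardrange, hfact]
    exact Q.card_eq_multiplicity
  refine ⟨Sylow.ofCard f.range hcard, ⟨?_⟩⟩
  exact MonoidHom.ofInjective hinj

end Cfsg.Agent.Lib.Helper12.SchPG1P
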