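import Mathlib
import Cfsg.Prelude.Def_Transfer
import Cfsg.Prelude.Def_SolvableStructure
import Cfsg.Prelude.Def_Local
import Cfsg.Prelude.Def_CaseTheorems
import Cfsg.Agent.Lib.Helper21.SchDefs
import Cfsg.Agent.Lib.Helper21.SchPDefs

/-! S4394 leaf **G2A** (helper12): a `p'`-element stabilizing the chain `1 ≤ Z ≤ R` of a `p`-group `R`
centralizes `R`. -/

set_option autoImplicit false
universe u v
open Cfsg
open Cfsg.Agent.Lib.Helper21.Sch
open Cfsg.Agent.Lib.Helper21.SchP

namespace Cfsg.Agent.Lib.Helper12.SchPG2A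

/-- if `e` commutes with `z` and `e r e⁻¹ = z r` then `e^k r e^-k = z^k r` -/
theorem pow_conj_eq {H : Type*} [Group H] (e r z : H) (hz : e * z = z * e)
    (h : e * r * e⁻¹ = z * r) (k : ℕ) : e ^ k * r * (e ^ k)⁻¹ = z ^ k * r := by
  induction k with
  | zero => simp
  | succ k ih =>
    have hzk : e * z ^ k = z ^ k * e := by
      have : Commute e z := hz
      exact (this.pow_right k).eq
    calc e ^ (k + 1) * r * (e ^ (k + 1))⁻¹ = e * (e ^ k * r * (e ^ k)⁻¹) * e⁻¹ := by
          rw [pow_succ', mul_inv_rev]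
          group
      _ = e * (z ^ k * r) * e⁻¹ := by rw [ih]
      _ = (e * z ^ k) * r * e⁻¹ := by group
      _ = z ^ k * (e * r * e⁻¹) := by rw [hzk]; group
      _ = z ^ k * (z * r) := by rw [h]
      _ = z ^ (k + 1) * r := by rw [pow_succ]; group

/-- **TAG G2A** `e r e⁻¹ = z r` with `z ∈ Z` fixed by `e`, so `e^k r e^-k = z^k r`; `k = orderOf e` gives `z^k = 1`, and `z`
is a `p`-element. -/
theorem commute_of_stabilize_chain {H : Type*} [Group H] (p : ℕ) [Fact p.Prime] (R Z : Subgroup H)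
    (hR : IsPGroup p R) (hZR : Z ≤ R) (e : H) (he : (orderOf e).Coprime p)
    (heZ : ∀ z ∈ Z, e * z = z * e) (heR : ∀ r ∈ R, e * r * e⁻¹ * r⁻¹ ∈ Z) :
    ∀ r ∈ R, e * r = r * e := by
  intro r hr
  set z := e * r * e⁻¹ * r⁻¹ with hz
  have hzZ : z ∈ Z := heR r hr
  have h1 : e * r * e⁻¹ = z * r := by rw [hz]; group
  have h2 := pow_conj_eq e r z (heZ z hzZ) h1 (orderOf e)
  rw [pow_orderOf_eq_one, inv_one, mul_one, one_mul] at h2
  have h3 : z ^ orderOf e = 1 := by
    have : z ^ orderOf e * r = 1 * r := by rw [← h2, one_mul]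
    exact mul_right_cancel this
  -- `z` is a `p`-element
  obtain ⟨j, hj⟩ := hR ⟨z, hZR hzZ⟩
  have hj' : z ^ p ^ j = 1 := by
    have := congrArg Subtype.val hj
    simpa using this
  have h4 : orderOf z ∣ orderOf e := orderOf_dvd_of_pow_eq_one h3
  have h5 : orderOf z ∣ p ^ j := orderOf_dvd_of_pow_eq_one hj'
  have h6 : (orderOf e).Coprime (p ^ j) := Nat.Coprime.pow_right j he
  have h7 : orderOf z = 1 := Nat.eq_one_of_dvd_coprimes h6 h4 h5
  have h8 : z = 1 := orderOf_eq_one_iff.mp h7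
  have h9 : e * r * e⁻¹ = r := by rw [h1, h8, one_mul]
  calc e * r = e * r * e⁻¹ * e := by group
    _ = r * e := by rw [h9]

end Cfsg.Agent.Lib.Helper12.SchPG2A
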