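import Mathlib
import Cfsg.Prelude.Def_Transfer
import Cfsg.Prelude.Def_SolvableStructure
import Cfsg.Prelude.Def_Local
import Cfsg.Prelude.Def_CaseTheorems
import Cfsg.Agent.Lib.Helper21.SchDefs
import Cfsg.Agent.Lib.Helper21.SchPDefs

/-! S4394 leaf **N7** (helper12): `ord_q(3) ≠ 2` for a prime `q ≠ 3`. -/

set_option autoImplicit false
universe u v
open Cfsg
open Cfsg.Agent.Lib.Helper21.Sch
open Cfsg.Agent.Lib.Helper21.SchP

namespace Cfsg.Agent.Lib.Helper12.SchPN7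

/-- **TAG N7** `ord_q(3) = 2` gives `q ∣ 8`, `q = 2`, but `ord_2(3) = 1`. -/
theorem orderOf_three_ne_two (q : ℕ) [Fact q.Prime] (hq : 3 ≠ q) : orderOf ((3 : ℕ) : ZMod q) ≠ 2 := by
  intro h
  have key : orderOf ((3 : ℕ) : ZMod 2) = 1 := by
    rw [orderOf_eq_one_iff]
    decide
  have hqp : q.Prime := Fact.out
  have h2 : ((3 : ℕ) : ZMod q) ^ 2 = 1 := by
    rw [← h]
    exact pow_orderOf_eq_one _
  have h3 : ((8 : ℕ) : ZMod q) = 0 := by
    have h4 : ((3 : ℕ) : ZMod q) ^ 2 - 1 = 0 := by rw [h2, sub_self]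
    push_cast at h4 ⊢
    linear_combination h4
  rw [ZMod.natCast_eq_zero_iff] at h3
  have hq2 : q = 2 := by
    have h5 : q ∣ 2 ^ 3 := by norm_num; exact h3
    have h6 := hqp.dvd_of_dvd_pow h5
    exact (Nat.prime_dvd_prime_iff_eq hqp Nat.prime_two).mp h6
  subst hq2
  omega

end Cfsg.Agent.Lib.Helper12.SchPN7
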