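import Mathlib
import Cfsg.Agent.Lib.Helper11.Sp2Calc
import Cfsg.Agent.Lib.Helper1.Sp2G
import Cfsg.Agent.Lib.Helper12.Sp2B1
import Cfsg.Agent.Lib.Helper12.Sp2D

/-!
# S2142 leaf B2 (helper12), with leaves C and Q3 as explicit hypotheses.
-/

set_option autoImplicit false

namespace Cfsg.Agent.Lib.Helper12.Sp2Leaf

open Cfsg.Agent.Lib.Helper11.Sp2 MulAction
open scoped Pointwise

variable {F V G : Type*} [Field F] [AddCommGroup V] [Module F V] [Group G] [DistribMulAction G V]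
  (S : Setting F V G)

/-- a finite type all of whose elements are one of two given ones has at most two elements -/
theorem card_le_two_of_forall {α : Type*} [Finite α] (a b : α) (h : ∀ c : α, c = a ∨ c = b) :
    Nat.card α ≤ 2 := by
  by_contra hn
  obtain ⟨c, h1, h2⟩ := exists_ne_ne_of_three_le (by omega : 3 ≤ Nat.card α) a b
  rcases h c with h3 | h3
  · exact h1 h3
  · exact h2 h3

/-- `H ∩ G_v` stabilises the set `D̄_v`. -/
theorem inf_stabilizer_le_stabilizer_Dbar (H : Subgroup G) (v : V) :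
    H ⊓ stabilizer G v ≤ stabilizer G ((S.Dbar H v : Submodule F V) : Set V) := by
  intro p hp
  obtain ⟨hpH, hpv⟩ := Subgroup.mem_inf.mp hp
  have hpv' : p • v = v := hpv
  have hpvi : p⁻¹ • v = v := by rw [inv_smul_eq_iff, hpv']
  rw [mem_stabilizer_iff]
  ext y
  rw [Set.mem_smul_set_iff_inv_smul_mem]
  constructor
  · intro hy
    have := S.smul_mem_Dbar hpH hpv' hy
    rwa [smul_inv_smul] at this
  · intro hy
    exact S.smul_mem_Dbar (H.inv_mem hpH) hpvi hy

/-- `Q_v` stabilises every subspace `U` with `v ∈ U ⊆ v^⊥`. -/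
theorem Q_le_stabilizer_of_perp {v : V} (U : Submodule F V) (hvU : v ∈ U)
    (hU : ∀ u ∈ U, S.B v u = 0) : S.Q v ≤ stabilizer G ((U : Submodule F V) : Set V) := by
  rintro _ ⟨w, c, hw, rfl⟩
  rw [mem_stabilizer_iff]
  ext y
  rw [Set.mem_smul_set_iff_inv_smul_mem, S.gq_inv hw]
  constructor
  · intro hy
    have h1 : S.B v (S.gq v w c • y) = 0 := hU _ hy
    have h2 : S.B v y = 0 := by
      have := S.iso (S.gq v w c) v y
      rw [S.gq_smul_self hw] at this
      rw [← this]; exact h1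
    have h3 := S.gq_smul_of_perp hw c h2
    have h4 : y = S.gq v w c • y + S.B y w • v := by
      rw [h3, add_assoc, ← add_smul, S.fadd_self, zero_smul, add_zero]
    rw [SetLike.mem_coe, h4]
    exact U.add_mem hy (U.smul_mem _ hvU)
  · intro hy
    rw [SetLike.mem_coe, S.gq_smul_of_perp hw c (hU y hy)]
    exact U.add_mem hy (U.smul_mem _ hvU)

theorem relIndex_stab_ge_of_perp_isB_of [Finite V] [Finite G]
    (hC : ∀ {v : V}, v ≠ 0 → ∀ U : Submodule F V, v ∈ U → (∀ u ∈ U, S.B v u = 0) →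
      (∃ u ∈ U, u ≠ 0 ∧ u ≠ v) →
      Nat.card V - 4 ≤ 2 * ((Nat.card U - 2) * (stabilizer G (U : Set V)).relIndex (stabilizer G v)))
    (hQ3 : ∀ (H : Subgroup G) {v : V}, v ≠ 0 → S.tv v ∈ H →
      2 * (H.relIndex (S.Q v) * Nat.card (S.Dbar H v)) = Nat.card V)
    {m : ℕ} (hV : Nat.card V = 2 ^ (2 * m)) (hm : 2 ≤ m) (H : Subgroup G) {x v : V}
    (hx : S.IsB H x) (hv0 : v ≠ 0) (hvx : v ≠ x) (hperp : S.B x v = 0) (ht : S.tv v ∈ H) :
    2 ^ (2 * m - 2) ≤ H.relIndex (stabilizer G v) := by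
  classical
  -- arithmetic set-up: `|V| = 8 b`, `b ≥ 2`
  obtain ⟨b, hb2, hb, hgoal⟩ : ∃ b : ℕ, 2 ≤ b ∧ Nat.card V = 8 * b ∧ 2 ^ (2 * m - 2) = 2 * b := by
    refine ⟨2 ^ (2 * m - 3), ?_, ?_, ?_⟩
    · calc 2 = 2 ^ 1 := by norm_num
        _ ≤ 2 ^ (2 * m - 3) := Nat.pow_le_pow_right (by norm_num) (by omega)
    · rw [hV, show 2 * m = 3 + (2 * m - 3) by omega, pow_add]
      norm_num
    · rw [show 2 * m - 2 = 1 + (2 * m - 3) by omega, pow_add]
      norm_num
  rw [hgoal]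
  set U := S.Dbar H v with hUdef
  set Gv := stabilizer G v with hGv
  have hvU : v ∈ U := S.self_mem_Dbar H v
  have hUperp : ∀ u ∈ U, S.B v u = 0 := fun u hu => hu.1
  -- `|U| ≤ 4`
  have hB1 := Dbar_inf_perp S H hx hv0 hvx hperp ht
  have hU4 : Nat.card U ≤ 4 := by
    have h1 := card_le_two_mul_card_inf_ker S U x
    have h2 : Nat.card ↥(U ⊓ LinearMap.ker (S.B x)) ≤ 2 := by
      apply card_le_two_of_forall (0 : ↥(U ⊓ LinearMap.ker (S.B x)))
        ⟨v, hvU, LinearMap.mem_ker.mpr hperp⟩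
      rintro ⟨u, huU, hux⟩
      rcases hB1 u huU (LinearMap.mem_ker.mp hux) with h | h
      · left; exact Subtype.ext h
      · right; exact Subtype.ext h
    omega
  have hq3 : 2 * (H.relIndex (S.Q v) * Nat.card U) = Nat.card V := hQ3 H hv0 ht
  -- relating relative indices
  have hQGv : S.Q v ≤ Gv := S.Q_le_stabilizer v
  have hAQ : (H ⊓ Gv).relIndex (S.Q v) = H.relIndex (S.Q v) := by
    rw [← Subgroup.inf_relIndex_right (H ⊓ Gv), ← Subgroup.inf_relIndex_right H, inf_assoc,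
      inf_eq_right.mpr hQGv]
  have hAGv : (H ⊓ Gv).relIndex Gv = H.relIndex Gv := Subgroup.inf_relIndex_right H Gv
  have hnorm : H ⊓ Gv ≤ Subgroup.normalizer (S.Q v : Set G) :=
    le_trans inf_le_right (S.stabilizer_le_normalizer_Q v)
  by_cases hcase : ∀ u ∈ U, u = 0 ∨ u = v
  · -- `D̄_v = {0, v}`
    have hU2 : Nat.card U ≤ 2 := by
      apply card_le_two_of_forall (0 : U) ⟨v, hvU⟩
      rintro ⟨u, hu⟩
      rcases hcase u hu with h | h
      · left; exact Subtype.ext h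
      · right; exact Subtype.ext h
    have hG2 := Cfsg.Agent.Lib.Helper1.Sp2Leaf.relIndex_mul_relIndex_le Gv Gv (H ⊓ Gv) (S.Q v)
      inf_le_right hQGv le_rfl hnorm
    rw [Subgroup.relIndex_self, one_mul, hAQ, hAGv] at hG2
    have h3 : H.relIndex (S.Q v) * Nat.card U ≤ H.relIndex (S.Q v) * 2 :=
      Nat.mul_le_mul_left _ hU2
    omega
  · -- `|D̄_v| = 4`
    push Not at hcase
    obtain ⟨u0, hu0U, hu00, hu0v⟩ := hcase
    have hc := hC hv0 U hvU hUperp ⟨u0, hu0U, hu00, hu0v⟩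
    set k := (stabilizer G ((U : Submodule F V) : Set V)).relIndex Gv with hk
    set St := stabilizer G ((U : Submodule F V) : Set V) ⊓ Gv with hSt
    have hStk : St.relIndex Gv = k := Subgroup.inf_relIndex_right _ Gv
    have hASt : H ⊓ Gv ≤ St :=
      le_inf (inf_stabilizer_le_stabilizer_Dbar S H v) inf_le_right
    have hQSt : S.Q v ≤ St := le_inf (Q_le_stabilizer_of_perp S U hvU hUperp) hQGv
    have hG2 := Cfsg.Agent.Lib.Helper1.Sp2Leaf.relIndex_mul_relIndex_le Gv St (H ⊓ Gv) (S.Q v)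
      hASt hQSt inf_le_right hnorm
    rw [hStk, hAQ, hAGv] at hG2
    -- `k ≥ 2b - 1`, `r ≥ b`
    have hk1 : 2 * b - 1 ≤ k := by
      have h5 : (Nat.card U - 2) * k ≤ 2 * k := Nat.mul_le_mul_right _ (by omega)
      omega
    have hr : b ≤ H.relIndex (S.Q v) := by
      have h3 : H.relIndex (S.Q v) * Nat.card U ≤ H.relIndex (S.Q v) * 4 :=
        Nat.mul_le_mul_left _ hU4
      omega
    have h6 : (2 * b - 1) * b ≤ k * H.relIndex (S.Q v) := Nat.mul_le_mul hk1 hr
    have h8 : 2 ≤ 2 * b - 1 := by omega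
    have h7 : 2 * b ≤ (2 * b - 1) * b := Nat.mul_le_mul_right b h8
    omega

end Cfsg.Agent.Lib.Helper12.Sp2Leaf
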