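import Mathlib
import Cfsg.Agent.Lib.Helper11.Sp2Calc
import Cfsg.Agent.Lib.Helper13.Sp2Q
import Cfsg.Agent.Lib.Helper22.Sp2C
import Cfsg.Agent.Lib.Helper12.Sp2B2a

/-!
# S2142 leaf B2 (helper12).
-/

set_option autoImplicit false

namespace Cfsg.Agent.Lib.Helper12.Sp2Leaf

open Cfsg.Agent.Lib.Helper11.Sp2 MulAction

variable {F V G : Type*} [Field F] [AddCommGroup V] [Module F V] [Group G] [DistribMulAction G V]
  (S : Setting F V G)

theorem relIndex_stab_ge_of_perp_isB [Finite V] [Finite G] {m : ℕ} (hV : Nat.card V = 2 ^ (2 * m))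
    (hm : 2 ≤ m) (H : Subgroup G) {x v : V}
    (hx : S.IsB H x) (hv0 : v ≠ 0) (hvx : v ≠ x) (hperp : S.B x v = 0) (ht : S.tv v ∈ H) :
    2 ^ (2 * m - 2) ≤ H.relIndex (stabilizer G v) :=
  relIndex_stab_ge_of_perp_isB_of S
    (fun {_} hv U hvU hU hne => Cfsg.Agent.Lib.Helper22.Sp2Leaf.covering_bound S hv U hvU hU hne)
    (fun H {_} hv ht => Cfsg.Agent.Lib.Helper13.Sp2Leaf.relIndex_Q_of_mem S H hv ht)
    hV hm H hx hv0 hvx hperp ht

end Cfsg.Agent.Lib.Helper12.Sp2Leaf
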