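import Mathlib
import Cfsg.Prelude.Def_ClassicalGeometry
import Cfsg.Prelude.Def_GeometricClasses
import Cfsg.Agent.Lib.Helper5.SpMax
import Cfsg.Agent.Lib.Helper2.SpSubDefs
import Cfsg.Agent.Lib.Helper2.SpSubBasic
import Cfsg.Agent.Lib.Helper18.Sp4EDefs

/-!
# S5789 (helper18 owner/planner), leaf SF-C `exists_phi_of_fix` (helper12)

`Sp_4(q)`, `q` even, subfield group `H0 = Sp_4(q₀)`: an irrational element of an overgroup `M` (without (†)) fixing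
`e₁` yields a transvection of `M` whose centre `b + φ e₁` is an irrational point of a rational totally isotropic line.
Exact statement of `notes/S5789_leaves.lean`; proof = `notes/S5789_plan.md` §SF-C.
-/

set_option autoImplicit false

namespace Cfsg.Agent.Lib.Helper12.Sp4ELeaf
open Cfsg Matrix Cfsg.Agent.Lib.Helper5 Cfsg.Agent.Lib.Helper5.SpMax Cfsg.Agent.Lib.Helper2.SpSub
  Cfsg.Agent.Lib.Helper18.Sp4E

variable {F : Type*} [Field F]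

/-- a vector of `F⁴` is rational iff its four coordinates are -/
theorem ratV_iff4 (F₀ : Subfield F) (x : Fin 2 ⊕ Fin 2 → F) :
    RatV F₀ x ↔ x (Sum.inl 0) ∈ F₀ ∧ x (Sum.inl 1) ∈ F₀ ∧ x (Sum.inr 0) ∈ F₀ ∧ x (Sum.inr 1) ∈ F₀ := by
  constructor
  · intro h
    exact ⟨h _, h _, h _, h _⟩
  · rintro ⟨h1, h2, h3, h4⟩ (i | i) <;> fin_cases i <;> assumption

theorem decomp4 (x : Fin 2 ⊕ Fin 2 → F) :
    x = x (Sum.inl 0) • (ee 0 : Fin 2 ⊕ Fin 2 → F) + x (Sum.inl 1) • (ee 1 : Fin 2 ⊕ Fin 2 → F) +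
      x (Sum.inr 0) • (ff 0 : Fin 2 ⊕ Fin 2 → F) + x (Sum.inr 1) • (ff 1 : Fin 2 ⊕ Fin 2 → F) := by
  funext u
  rcases u with i | i <;> fin_cases i <;> simp [ee, ff]

/-- an element mapping the four standard basis vectors to rational vectors maps rational vectors to rational ones -/
theorem ratV_mv_of_basis (F₀ : Subfield F) {h : GL (Fin 2 ⊕ Fin 2) F}
    (h1 : RatV F₀ (mv h (ee 0))) (h2 : RatV F₀ (mv h (ee 1)))
    (h3 : RatV F₀ (mv h (ff 0))) (h4 : RatV F₀ (mv h (ff 1)))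
    (x : Fin 2 ⊕ Fin 2 → F) (hx : RatV F₀ x) : RatV F₀ (mv h x) := by
  rw [decomp4 x, mv_add, mv_add, mv_add, mv_smul, mv_smul, mv_smul, mv_smul]
  exact ratV_add (ratV_add (ratV_add (ratV_smul (hx _) h1) (ratV_smul (hx _) h2))
    (ratV_smul (hx _) h3)) (ratV_smul (hx _) h4)

theorem ee0_ne_zero : (ee 0 : Fin 2 ⊕ Fin 2 → F) ≠ 0 := by
  intro h
  have := congrFun h (Sum.inl 0)
  simp [ee] at this

section Main
variable (F₀ : Subfield F) {M : Subgroup (GL (Fin 2 ⊕ Fin 2) F)}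

/-- the conclusion of SF-C -/
def PhiConcl (F₀ : Subfield F) (M : Subgroup (GL (Fin 2 ⊕ Fin 2) F)) : Prop :=
  ∃ (b : Fin 2 ⊕ Fin 2 → F) (φ : F), RatV F₀ b ∧ sympForm 2 F b (ee 0) = 0 ∧
      (∀ s : F, b ≠ s • (ee 0 : Fin 2 ⊕ Fin 2 → F)) ∧ φ ∉ F₀ ∧ tvc (b + φ • (ee 0 : Fin 2 ⊕ Fin 2 → F)) 1 ∈ M

/-- case (A) -/
theorem caseA (hHM : H0 2 F₀ ≤ M) (hMS : M ≤ spGL 2 F)
    {g : GL (Fin 2 ⊕ Fin 2) F} (hg : g ∈ M) (hfix : mv g (ee 0 : Fin 2 ⊕ Fin 2 → F) = ee 0)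
    (w b : Fin 2 ⊕ Fin 2 → F) (hw : RatV F₀ w) (hb : RatV F₀ b)
    (hw0 : sympForm 2 F (ee 0) w = 0) (hb0 : sympForm 2 F b (ee 0) = 0)
    (hbi : ∀ s : F, b ≠ s • (ee 0 : Fin 2 ⊕ Fin 2 → F))
    (hφ : sympForm 2 F b (mv g w) ∉ F₀) : PhiConcl F₀ M := by
  have hgS := hMS hg
  have hS : Sab (ee 0) w (1 : F) ∈ M := hHM (Sab_mem_H0 (ratV_ee 0) hw F₀.one_mem)
  have hs : g * Sab (ee 0) w (1 : F) * g⁻¹ ∈ M := M.mul_mem (M.mul_mem hg hS) (M.inv_mem hg)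
  rw [conj_Sab hgS, hfix] at hs
  have hab : sympForm 2 F (ee 0) (mv g w) = 0 := by
    rw [← hfix, sp_form hgS, hw0]
  have ht : tvc b (1 : F) ∈ M := hHM (tvc_mem_H0 hb F₀.one_mem)
  have hc := M.mul_mem (M.mul_mem hs ht) (M.inv_mem hs)
  rw [conj_tvc (hMS hs)] at hc
  have hmv : ((Sab (ee 0) (mv g w) (1 : F) : GL (Fin 2 ⊕ Fin 2) F) :
      Matrix (Fin 2 ⊕ Fin 2) (Fin 2 ⊕ Fin 2) F) *ᵥ b =
      b + sympForm 2 F b (mv g w) • (ee 0 : Fin 2 ⊕ Fin 2 → F) := by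
    have := Sab_mulVec hab (1 : F) b
    unfold mv at this
    rw [this, hb0, zero_smul, zero_add, one_smul]
  rw [hmv] at hc
  exact ⟨b, _, hb, hb0, hbi, hφ, hc⟩

/-- case (B1): `g w = w' + α e₁` with `w'` rational; either `α` is irrational (and we are done) or `g w` is
rational -/
theorem caseB1 (hHM : H0 2 F₀ ≤ M) (hMS : M ≤ spGL 2 F)
    {g : GL (Fin 2 ⊕ Fin 2) F} (hg : g ∈ M) (hfix : mv g (ee 0 : Fin 2 ⊕ Fin 2 → F) = ee 0)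
    (w : Fin 2 ⊕ Fin 2 → F) (hw : RatV F₀ w) (hw0 : sympForm 2 F w (ee 0) = 0)
    (hwi : ∀ s : F, w ≠ s • (ee 0 : Fin 2 ⊕ Fin 2 → F))
    (h1 : sympForm 2 F (mv g w) (ee 1) ∈ F₀) (h2 : sympForm 2 F (mv g w) (ff 1) ∈ F₀) :
    PhiConcl F₀ M ∨ RatV F₀ (mv g w) := by
  have hgS := hMS hg
  have hy0 : (mv g w) (Sum.inr 0) = 0 := by
    rw [← B_right_ee (mv g w) 0, ← hfix, sp_form hgS, hw0]
  have hy1 : (mv g w) (Sum.inr 1) ∈ F₀ := by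
    rw [← B_right_ee (mv g w) 1]; exact h1
  have hy2 : (mv g w) (Sum.inl 1) ∈ F₀ := by
    rw [B_right_ff] at h2
    have := F₀.neg_mem h2
    rwa [neg_neg] at this
  by_cases hα : (mv g w) (Sum.inl 0) ∈ F₀
  · right
    rw [ratV_iff4]
    exact ⟨hα, hy2, by rw [hy0]; exact F₀.zero_mem, hy1⟩
  · left
    have ht : tvc w (1 : F) ∈ M := hHM (tvc_mem_H0 hw F₀.one_mem)
    have hc := M.mul_mem (M.mul_mem hg ht) (M.inv_mem hg)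
    rw [conj_tvc hgS] at hc
    refine ⟨mv g w - (mv g w) (Sum.inl 0) • (ee 0 : Fin 2 ⊕ Fin 2 → F), (mv g w) (Sum.inl 0), ?_, ?_, ?_, hα, ?_⟩
    · rw [ratV_iff4]
      refine ⟨?_, ?_, ?_, ?_⟩
      · simp [ee]
      · simpa [ee] using hy2
      · simp [ee, hy0]
      · simpa [ee] using hy1
    · rw [B_right_ee]
      simp [ee, hy0]
    · intro s hs
      have h3 : mv g w = mv g ((s + (mv g w) (Sum.inl 0)) • (ee 0 : Fin 2 ⊕ Fin 2 → F)) := by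
        rw [mv_smul, hfix, add_smul, ← hs]
        abel
      have h4 : w = (s + (mv g w) (Sum.inl 0)) • (ee 0 : Fin 2 ⊕ Fin 2 → F) := by
        have := congrArg (mv g⁻¹) h3
        rwa [mv_inv_mv, mv_inv_mv] at this
      exact hwi _ h4
    · have : mv g w - (mv g w) (Sum.inl 0) • (ee 0 : Fin 2 ⊕ Fin 2 → F) +
          (mv g w) (Sum.inl 0) • (ee 0 : Fin 2 ⊕ Fin 2 → F) = mv g w := by abel
      rw [this]
      exact hc

theorem ee1_not_smul (s : F) : (ee 1 : Fin 2 ⊕ Fin 2 → F) ≠ s • (ee 0 : Fin 2 ⊕ Fin 2 → F) := by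
  intro h
  have := congrFun h (Sum.inl 1)
  simp [ee] at this

theorem ff1_not_smul (s : F) : (ff 1 : Fin 2 ⊕ Fin 2 → F) ≠ s • (ee 0 : Fin 2 ⊕ Fin 2 → F) := by
  intro h
  have := congrFun h (Sum.inr 1)
  simp [ee, ff] at this

/-- steps (A), (B1) for an element `g ∈ M` fixing `e₁`: either the conclusion, or `g e₂`, `g f₂` are rational -/
theorem stepAB (hHM : H0 2 F₀ ≤ M) (hMS : M ≤ spGL 2 F)
    {g : GL (Fin 2 ⊕ Fin 2) F} (hg : g ∈ M) (hfix : mv g (ee 0 : Fin 2 ⊕ Fin 2 → F) = ee 0) :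
    PhiConcl F₀ M ∨ (RatV F₀ (mv g (ee 1)) ∧ RatV F₀ (mv g (ff 1))) := by
  have e01 : sympForm 2 F (ee 0 : Fin 2 ⊕ Fin 2 → F) (ee 1) = 0 := B_ee_ee 0 1
  have e10 : sympForm 2 F (ee 1 : Fin 2 ⊕ Fin 2 → F) (ee 0) = 0 := B_ee_ee 1 0
  have ef : sympForm 2 F (ee 0 : Fin 2 ⊕ Fin 2 → F) (ff 1) = 0 := by
    rw [B_ee_ff]; simp
  have fe : sympForm 2 F (ff 1 : Fin 2 ⊕ Fin 2 → F) (ee 0) = 0 := by
    rw [B_ff_ee]; simp
  -- the four values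
  by_cases a1 : sympForm 2 F (ee 1) (mv g (ee 1)) ∈ F₀
  swap
  · left; exact caseA F₀ hHM hMS hg hfix (ee 1) (ee 1) (ratV_ee 1) (ratV_ee 1) e01 e10 ee1_not_smul a1
  by_cases a2 : sympForm 2 F (ff 1) (mv g (ee 1)) ∈ F₀
  swap
  · left; exact caseA F₀ hHM hMS hg hfix (ee 1) (ff 1) (ratV_ee 1) (ratV_ff 1) e01 fe ff1_not_smul a2
  by_cases a3 : sympForm 2 F (ee 1) (mv g (ff 1)) ∈ F₀
  swap
  · left; exact caseA F₀ hHM hMS hg hfix (ff 1) (ee 1) (ratV_ff 1) (ratV_ee 1) ef e10 ee1_not_smul a3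
  by_cases a4 : sympForm 2 F (ff 1) (mv g (ff 1)) ∈ F₀
  swap
  · left; exact caseA F₀ hHM hMS hg hfix (ff 1) (ff 1) (ratV_ff 1) (ratV_ff 1) ef fe ff1_not_smul a4
  have sw : ∀ u v : Fin 2 ⊕ Fin 2 → F, sympForm 2 F u v ∈ F₀ → sympForm 2 F v u ∈ F₀ := by
    intro u v h
    rw [sympForm_swap]
    exact F₀.neg_mem h
  rcases caseB1 F₀ hHM hMS hg hfix (ee 1) (ratV_ee 1) e10 ee1_not_smul (sw _ _ a1) (sw _ _ a2) with h | h1
  · left; exact h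
  rcases caseB1 F₀ hHM hMS hg hfix (ff 1) (ratV_ff 1) fe ff1_not_smul (sw _ _ a3) (sw _ _ a4) with h | h2
  · left; exact h
  right
  exact ⟨h1, h2⟩

theorem exists_phi_of_fix [Fintype F] (h2 : (2 : F) = 0) (F₀ : Subfield F)
    {M : Subgroup (GL (Fin 2 ⊕ Fin 2) F)} (hHM : H0 2 F₀ ≤ M) (hMS : M ≤ spGL 2 F) (hnd : ¬ Dag F₀ M)
    {m : GL (Fin 2 ⊕ Fin 2) F} (hm : m ∈ M) (hm0 : m ∉ H0 2 F₀)
    (hfix : mv m (ee 0 : Fin 2 ⊕ Fin 2 → F) = ee 0) :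
    ∃ (b : Fin 2 ⊕ Fin 2 → F) (φ : F), RatV F₀ b ∧ sympForm 2 F b (ee 0) = 0 ∧
      (∀ s : F, b ≠ s • (ee 0 : Fin 2 ⊕ Fin 2 → F)) ∧ φ ∉ F₀ ∧ tvc (b + φ • (ee 0 : Fin 2 ⊕ Fin 2 → F)) 1 ∈ M := by
  have hmS := hMS hm
  have hfix' : mv m⁻¹ (ee 0 : Fin 2 ⊕ Fin 2 → F) = ee 0 := by
    have := mv_inv_mv m (ee 0 : Fin 2 ⊕ Fin 2 → F)
    rwa [hfix] at this
  rcases stepAB F₀ hHM hMS hm hfix with h | ⟨r1, r2⟩
  · exact h
  rcases stepAB F₀ hHM hMS (M.inv_mem hm) hfix' with h | ⟨r3, r4⟩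
  · exact h
  -- (B2): contradiction with ¬ (†)
  exfalso
  obtain ⟨y, hy⟩ : ∃ y, y = mv m (ff 0 : Fin 2 ⊕ Fin 2 → F) := ⟨_, rfl⟩
  have hy0 : y (Sum.inr 0) = 1 := by
    rw [← B_right_ee y 0, hy, ← hfix, sp_form hmS, B_ff_ee]; simp
  have hy1 : y (Sum.inr 1) ∈ F₀ := by
    rw [← B_right_ee y 1, hy, ← mv_mv_inv m (ee 1 : Fin 2 ⊕ Fin 2 → F), sp_form hmS, B_left_ff]
    exact r3 _
  have hy2 : y (Sum.inl 1) ∈ F₀ := by
    have h3 : sympForm 2 F y (ff 1) ∈ F₀ := by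
      rw [hy, ← mv_mv_inv m (ff 1 : Fin 2 ⊕ Fin 2 → F), sp_form hmS, B_left_ff]
      exact r4 _
    rw [B_right_ff] at h3
    have := F₀.neg_mem h3
    rwa [neg_neg] at this
  obtain ⟨β, hβ⟩ : ∃ β : F, β = y (Sum.inl 0) := ⟨_, rfl⟩
  have hperp : ∀ w : Fin 2 ⊕ Fin 2 → F, sympForm 2 F w (ee 0) = 0 →
      mv (tvc (ee 0) β * m) w = mv m w := by
    intro w hw
    rw [mv_mul, tvc_mv, ← hfix, sp_form hmS, hw, mul_zero, zero_smul, add_zero]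
  have k1 : RatV F₀ (mv (tvc (ee 0) β * m) (ee 0)) := by
    rw [hperp _ (B_ee_ee 0 0), hfix]; exact ratV_ee 0
  have k2 : RatV F₀ (mv (tvc (ee 0) β * m) (ee 1)) := by
    rw [hperp _ (B_ee_ee 1 0)]; exact r1
  have k4 : RatV F₀ (mv (tvc (ee 0) β * m) (ff 1)) := by
    rw [hperp _ (by rw [B_ff_ee]; simp)]; exact r2
  have k3 : RatV F₀ (mv (tvc (ee 0) β * m) (ff 0)) := by
    rw [mv_mul, ← hy, tvc_mv, B_right_ee, hy0, mul_one, ratV_iff4]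
    refine ⟨?_, ?_, ?_, ?_⟩
    · have : (y + β • (ee 0 : Fin 2 ⊕ Fin 2 → F)) (Sum.inl 0) = 2 * β := by
        simp [ee, hβ]; ring
      rw [this, h2, zero_mul]
      exact F₀.zero_mem
    · simpa [ee] using hy2
    · simp [ee, hy0]
    · simpa [ee] using hy1
  have hH : tvc (ee 0) β * m ∈ H0 2 F₀ :=
    mem_H0_of_maps F₀ ((spGL 2 F).mul_mem (tvc_mem _ _) hmS) (ratV_mv_of_basis F₀ k1 k2 k3 k4)
  have ht : tvc (ee 0 : Fin 2 ⊕ Fin 2 → F) β ∈ M := by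
    have := M.mul_mem (hHM hH) (M.inv_mem hm)
    rwa [mul_inv_cancel_right] at this
  have hβ0 : β ∉ F₀ := by
    intro hβF
    apply hm0
    have h5 : (tvc (ee 0 : Fin 2 ⊕ Fin 2 → F) β)⁻¹ * (tvc (ee 0) β * m) ∈ H0 2 F₀ :=
      (H0 2 F₀).mul_mem ((H0 2 F₀).inv_mem (tvc_mem_H0 (ratV_ee 0) hβF)) hH
    rwa [inv_mul_cancel_left] at h5
  exact hnd ⟨ee 0, ratV_ee 0, ee0_ne_zero, β, hβ0, ht⟩

end Main

end Cfsg.Agent.Lib.Helper12.Sp4ELeaf
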