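import Mathlib
import Cfsg.Agent.Lib.Helper12.SpI

set_option autoImplicit false

namespace Cfsg.Agent.Lib.Helper12.Sp

open Module Polynomial Cfsg.Agent.Lib.Helper12.Elus Cfsg.Agent.Lib.Helper15

section count

variable {F : Type*} [Field F] [Fintype F] (d : ℕ)

/-- the type of totally isotropic `m`-subspaces -/
abbrev IsoSub (F : Type*) [Field F] (d m : ℕ) : Type _ :=
  {W : Submodule F (Fin d ⊕ Fin d → F) // finrank F W = m ∧
    ∀ u ∈ W, ∀ v ∈ W, Cfsg.sympForm d F u v = 0}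

theorem card_isoSub_mul (m : ℕ) :
    Nat.card (IsoSub F d m) * ∏ i : Fin m, (Fintype.card F ^ m - Fintype.card F ^ (i : ℕ)) =
      ∏ i ∈ Finset.range m, (Fintype.card F ^ (2 * d - i) - Fintype.card F ^ i) := by
  classical
  rw [← Cfsg.Agent.S0775.card_TI (F := F) (m := d) m]
  let f : {s : Fin m → (Fin d ⊕ Fin d → F) // Cfsg.Agent.S0775.TI m s} → IsoSub F d m :=
    fun s => ⟨Submodule.span F (Set.range s.1), by
      rw [finrank_span_eq_card s.2.1, Fintype.card_fin], by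
      apply PolarPairs.span_ti
      rintro _ ⟨a, rfl⟩ _ ⟨b, rfl⟩
      exact s.2.2 a b⟩
  have e := Equiv.sigmaFiberEquiv f
  rw [← Nat.card_congr e]
  haveI : Finite (IsoSub F d m) := inferInstance
  haveI : Fintype (IsoSub F d m) := Fintype.ofFinite _
  rw [Nat.card_sigma]
  have h : ∀ W : IsoSub F d m,
      Nat.card {s : {s : Fin m → (Fin d ⊕ Fin d → F) // Cfsg.Agent.S0775.TI m s} // f s = W} =
        ∏ i : Fin m, (Fintype.card F ^ m - Fintype.card F ^ (i : ℕ)) := by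
    intro W
    rw [← Cfsg.Agent.S0775.card_bases W.1 m W.2.1 W.2.2]
    apply Nat.card_congr
    exact
      { toFun := fun s => ⟨s.1.1, s.1.2, congrArg Subtype.val s.2⟩
        invFun := fun y => ⟨⟨y.1, y.2.1⟩, Subtype.ext y.2.2⟩
        left_inv := fun _ => rfl
        right_inv := fun _ => rfl }
  rw [Finset.sum_congr rfl (fun W _ => h W), Finset.sum_const, smul_eq_mul, Finset.card_univ,
    Nat.card_eq_fintype_card]

theorem isoSub_arith (q d m N : ℕ) (hq : 0 < q) (hmd : m ≤ d)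
    (h : N * ∏ i : Fin m, (q ^ m - q ^ (i : ℕ)) =
      ∏ i ∈ Finset.range m, (q ^ (2 * d - i) - q ^ i)) :
    N * ∏ i : Fin m, (q ^ (m - (i : ℕ)) - 1) = ∏ i : Fin m, (q ^ (2 * (d - (i : ℕ))) - 1) := by
  rw [← Fin.prod_univ_eq_prod_range (fun i => q ^ (2 * d - i) - q ^ i) m,
    prod_pow_sub_pow q m m le_rfl] at h
  have h1 : ∏ i : Fin m, (q ^ (2 * d - (i : ℕ)) - q ^ (i : ℕ)) =
      (∏ i : Fin m, q ^ (i : ℕ)) * ∏ i : Fin m, (q ^ (2 * (d - (i : ℕ))) - 1) := by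
    rw [← Finset.prod_mul_distrib]
    apply Finset.prod_congr rfl
    intro i _
    have hi := i.2
    rw [pow_sub_pow_eq q (2 * d - i) i (by omega)]
    congr 3
    omega
  rw [h1] at h
  have hpos : 0 < ∏ i : Fin m, q ^ (i : ℕ) := Finset.prod_pos (fun i _ => pow_pos hq _)
  apply Nat.eq_of_mul_eq_mul_left hpos
  rw [← h]
  ring

theorem not_dvd_card_isoSub {p : ℕ} [Fact p.Prime] [CharP F p] (m : ℕ) (hmd : m ≤ d) :
    ¬ p ∣ Nat.card (IsoSub F d m) := by
  have hp : p.Prime := Fact.out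
  have hpq : p ∣ Fintype.card F := by
    obtain ⟨k, -, hk⟩ := FiniteField.card F p
    rw [hk]
    exact dvd_pow_self p k.ne_zero
  have hq : 0 < Fintype.card F := Fintype.card_pos
  have h2 := isoSub_arith (Fintype.card F) d m _ hq hmd (card_isoSub_mul d m)
  set q := Fintype.card F with hq'
  have hcast : ∀ k : ℕ, 1 ≤ k → ((q ^ k - 1 : ℕ) : ZMod p) = -1 := by
    intro k hk
    rw [Nat.cast_sub (Nat.one_le_pow _ _ hq), Nat.cast_pow, Nat.cast_one]
    have : (q : ZMod p) = 0 := (ZMod.natCast_eq_zero_iff q p).2 hpq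
    rw [this, zero_pow (by omega), zero_sub]
  have h3 := congrArg (fun x : ℕ => (x : ZMod p)) h2
  simp only [Nat.cast_mul, Nat.cast_prod] at h3
  have e1 : ∏ i : Fin m, ((q ^ (m - (i : ℕ)) - 1 : ℕ) : ZMod p) = ∏ _i : Fin m, (-1 : ZMod p) :=
    Finset.prod_congr rfl (fun i _ => hcast (m - (i : ℕ)) (by have := i.2; omega))
  have e2 : ∏ i : Fin m, ((q ^ (2 * (d - (i : ℕ))) - 1 : ℕ) : ZMod p) =
      ∏ _i : Fin m, (-1 : ZMod p) :=
    Finset.prod_congr rfl (fun i _ => hcast (2 * (d - (i : ℕ))) (by have := i.2; omega))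
  rw [e1, e2] at h3
  intro hd
  have h4 : ((Nat.card (IsoSub F d m) : ℕ) : ZMod p) = 0 := (ZMod.natCast_eq_zero_iff _ p).2 hd
  rw [h4, zero_mul] at h3
  simp only [Finset.prod_const, Finset.card_univ, Fintype.card_fin] at h3
  have h5 : ((-1 : ZMod p) ^ m) ≠ 0 := pow_ne_zero _ (neg_ne_zero.2 one_ne_zero)
  exact h5 h3.symm

theorem exists_dvd_of_dvd_card_isoSub (r : ℕ) (hr : r.Prime)
    (m : ℕ) (hmd : m ≤ d) (h : r ∣ Nat.card (IsoSub F d m)) :
    ∃ j, j < m ∧ r ∣ Fintype.card F ^ (2 * (d - j)) - 1 := by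
  have hq : 0 < Fintype.card F := Fintype.card_pos
  have h2 := isoSub_arith (Fintype.card F) d m _ hq hmd (card_isoSub_mul d m)
  have h1 : r ∣ ∏ i : Fin m, (Fintype.card F ^ (2 * (d - (i : ℕ))) - 1) := by
    rw [← h2]
    exact Dvd.dvd.mul_right h _
  obtain ⟨i, -, hi⟩ := (Prime.dvd_finsetProd_iff hr.prime _).1 h1
  exact ⟨i, i.2, hi⟩

end count

end Cfsg.Agent.Lib.Helper12.Sp
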