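import Mathlib
import Cfsg.Agent.Lib.Helper27.SpMDefs
import Cfsg.Agent.Lib.Helper5.SpMax
import Cfsg.Agent.Lib.Helper4.AschA1

/-!
SpnMax market (helper27; rows S5787 ... S5868): leaf P6 `not_sp_le_symplType`, CORE form: the tools T2 (`Sp` perfect), T3 (subgroups
of `Sp` normalised by `Sp`), T4 (matrices commuting with all symplectic transvections are scalar) enter as hypotheses, in the exact
shape of the conclusions of the leaves `sp_perfect`, `sp_normal_sub`, `scalar_of_commute_sympTransvections` of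
`notes/SpnMax_leaves.lean`.  Taker: helper12.  Generic by-products (any index type `ι`): `scalars_comm_gen`,
`le_centralizer_of_comm_scalars_gen`, `mem_scalars_of_smul_one_gen`, `not_irr_of_le_scalars_gen`; `tvc_pow_mulVec`,
`two_ne_zero_of_odd_card'`, `simil_conj_mem_spGL`.
-/

set_option autoImplicit false
set_option linter.unusedSectionVars false
set_option linter.unusedVariables false

namespace Cfsg.Agent.Lib.Helper12.SpMLeaf

open Cfsg Cfsg.Geo Matrix Module Cfsg.Agent.Lib.Helper27.SpM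
open Cfsg.Agent.Lib.Helper5 Cfsg.Agent.Lib.Helper5.SpMax
open scoped commutatorElement

section generic
variable {F : Type*} [Field F] {ι : Type} [Fintype ι] [DecidableEq ι]

/-- scalar matrices are central (any index type) -/
lemma scalars_comm_gen {z : GL ι F} (hz : z ∈ scalars ι F) (y : GL ι F) : z * y = y * z := by
  rw [mem_scalars_iff] at hz
  obtain ⟨c, hc⟩ := hz
  apply Units.ext
  rw [Units.val_mul, Units.val_mul, hc, Matrix.smul_mul, Matrix.mul_smul, Matrix.one_mul, Matrix.mul_one]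

/-- an element centralising a perfect group modulo scalars centralises it (any index type) -/
theorem le_centralizer_of_comm_scalars_gen {N : Subgroup (GL ι F)} (hperf : ⁅N, N⁆ = N) (h : GL ι F)
    (hc : ∀ x ∈ N, h * x * h⁻¹ * x⁻¹ ∈ scalars ι F) : N ≤ Subgroup.centralizer {h} := by
  have hconj : ∀ x ∈ N, ∃ z ∈ scalars ι F, h * x * h⁻¹ = z * x := by
    intro x hx
    exact ⟨_, hc x hx, by group⟩
  have hcomm : ⁅N, N⁆ ≤ Subgroup.centralizer {h} := by
    rw [Subgroup.commutator_le]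
    intro x hx y hy
    rw [Subgroup.mem_centralizer_iff]
    intro k hk
    rw [Set.mem_singleton_iff] at hk
    subst hk
    obtain ⟨z, hz, hzx⟩ := hconj x hx
    obtain ⟨w, hw, hwy⟩ := hconj y hy
    have e1 : k * ⁅x, y⁆ * k⁻¹ = ⁅k * x * k⁻¹, k * y * k⁻¹⁆ := by
      rw [commutatorElement_def, commutatorElement_def]; group
    have e2 : ⁅z * x, w * y⁆ = ⁅x, y⁆ := by
      rw [Cfsg.Agent.Lib.Helper4.AschLeaf.comm_central_left (scalars_comm_gen hz),
        Cfsg.Agent.Lib.Helper4.AschLeaf.comm_central_right (scalars_comm_gen hw)]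
    rw [hzx, hwy, e2] at e1
    calc k * ⁅x, y⁆ = k * ⁅x, y⁆ * k⁻¹ * k := by group
      _ = ⁅x, y⁆ * k := by rw [e1]
  rw [hperf] at hcomm
  exact hcomm

/-- an invertible matrix which is a multiple of the identity is a scalar (any index type) -/
theorem mem_scalars_of_smul_one_gen (g : GL ι F) (c : F)
    (hcM : (g : Matrix ι ι F) = c • (1 : Matrix ι ι F)) : g ∈ scalars ι F := by
  rw [mem_scalars_iff]
  by_cases hc0 : c = 0
  · rw [hc0, zero_smul] at hcM
    have h1 : (g : Matrix ι ι F) * ((g⁻¹ : GL ι F) : Matrix ι ι F) = 1 := by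
      rw [← Units.val_mul, mul_inv_cancel, Units.val_one]
    rw [hcM, zero_mul] at h1
    refine ⟨1, ?_⟩
    rw [Units.val_one, one_smul, hcM]
    exact h1
  · exact ⟨Units.mk0 c hc0, hcM⟩

/-- a group of scalars is not irreducible if there are two distinct indices -/
theorem not_irr_of_le_scalars_gen {i j : ι} (hij : i ≠ j) {R : Subgroup (GL ι F)}
    (hRs : R ≤ scalars ι F) : ¬ ActsIrreducibly (matrixSet R) := by
  intro hirr
  obtain ⟨W, hW⟩ : ∃ W : Submodule F (ι → F),
      W = Submodule.span F {(Pi.single i (1 : F) : ι → F)} := ⟨_, rfl⟩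
  have hinv : ∀ s ∈ matrixSet R, W.map (Matrix.toLin' s) ≤ W := by
    rintro _ ⟨g, hg, rfl⟩
    obtain ⟨c, hc⟩ := (mem_scalars_iff g).1 (hRs hg)
    rintro _ ⟨v, hv, rfl⟩
    simp only [hc]
    rw [Matrix.toLin'_apply, Matrix.smul_mulVec, Matrix.one_mulVec]
    exact W.smul_mem _ hv
  rcases hirr W hinv with h0 | h1
  · have : (Pi.single i (1 : F) : ι → F) ∈ W := by
      rw [hW]; exact Submodule.subset_span rfl
    rw [h0, Submodule.mem_bot] at this
    have h2 := congrFun this i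
    rw [Pi.single_eq_same] at h2
    exact one_ne_zero h2
  · have hmem : (Pi.single j (1 : F) : ι → F) ∈ W := by
      rw [h1]; exact Submodule.mem_top
    rw [hW, Submodule.mem_span_singleton] at hmem
    obtain ⟨a, ha⟩ := hmem
    have h2 := congrFun ha j
    rw [Pi.smul_apply, Pi.single_eq_same, Pi.single_eq_of_ne hij.symm, smul_zero] at h2
    exact zero_ne_one h2

end generic

variable {m : ℕ} {F : Type*} [Field F] [Fintype F]

/-- `2 ≠ 0` in a finite field of odd order -/
theorem two_ne_zero_of_odd_card' (hodd : Odd (Fintype.card F)) : (2 : F) ≠ 0 := by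
  intro h2
  have hdvd : ringChar F ∣ 2 := by
    have : ((2 : ℕ) : F) = 0 := by exact_mod_cast h2
    exact ringChar.dvd this
  have hchar : ringChar F = 2 := by
    rcases (Nat.dvd_prime Nat.prime_two).1 hdvd with h | h
    · exact absurd h (CharP.ringChar_ne_one)
    · exact h
  have := FiniteField.even_card_iff_char_two.1 hchar
  rcases hodd with ⟨k, hk⟩
  omega

/-- powers of a symplectic transvection, on vectors -/
theorem tvc_pow_mulVec (a x : Fin m ⊕ Fin m → F) (n : ℕ) :
    (((tvc a (1 : F)) ^ n : GL (Fin m ⊕ Fin m) F) : Matrix (Fin m ⊕ Fin m) (Fin m ⊕ Fin m) F) *ᵥ x =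
      x + ((n : F) * sympForm m F x a) • a := by
  induction n with
  | zero => simp
  | succ n ih =>
    rw [pow_succ', Units.val_mul, ← Matrix.mulVec_mulVec, ih, tvc_mulVec, one_mul, sympForm_add_left,
      sympForm_smul_left, sympForm_self, mul_zero, add_zero]
    rw [add_assoc, ← add_smul]
    congr 2
    push_cast
    ring

/-- a similarity of the symplectic form normalises `Sp` -/
theorem simil_conj_mem_spGL {x g : GL (Fin m ⊕ Fin m) F} (hx : x ∈ similarityGroup (sympForm m F))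
    (hg : g ∈ spGL m F) : x * g * x⁻¹ ∈ spGL m F := by
  obtain ⟨c, hc⟩ := hx
  rw [mem_spGL]
  intro u v
  have hg' := mem_spGL.1 hg
  have e : ∀ w : Fin m ⊕ Fin m → F,
      ((x * g * x⁻¹ : GL (Fin m ⊕ Fin m) F) : Matrix (Fin m ⊕ Fin m) (Fin m ⊕ Fin m) F) *ᵥ w =
        (x : Matrix (Fin m ⊕ Fin m) (Fin m ⊕ Fin m) F) *ᵥ ((g : Matrix (Fin m ⊕ Fin m) (Fin m ⊕ Fin m) F) *ᵥ
          (((x⁻¹ : GL (Fin m ⊕ Fin m) F) : Matrix (Fin m ⊕ Fin m) (Fin m ⊕ Fin m) F) *ᵥ w)) := by
    intro w
    rw [Units.val_mul, Units.val_mul, Matrix.mulVec_mulVec, Matrix.mulVec_mulVec, Matrix.mul_assoc]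
  have e2 : ∀ w : Fin m ⊕ Fin m → F,
      (x : Matrix (Fin m ⊕ Fin m) (Fin m ⊕ Fin m) F) *ᵥ
        (((x⁻¹ : GL (Fin m ⊕ Fin m) F) : Matrix (Fin m ⊕ Fin m) (Fin m ⊕ Fin m) F) *ᵥ w) = w := by
    intro w
    rw [Matrix.mulVec_mulVec, ← Units.val_mul, mul_inv_cancel, Units.val_one, Matrix.one_mulVec]
  rw [e u, e v, hc, hg', ← hc, e2, e2]

/-- P6, core form. -/
theorem not_sp_le_symplType_core (hm : 2 ≤ m) (hodd : Odd (Fintype.card F))
    (hT2 : ⁅spGL m F, spGL m F⁆ = spGL m F)
    (hT3 : ∀ N : Subgroup (GL (Fin m ⊕ Fin m) F), N ≤ spGL m F →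
      (∀ g ∈ spGL m F, ∀ x ∈ N, g * x * g⁻¹ ∈ N) → N = spGL m F ∨ N ≤ scalars (Fin m ⊕ Fin m) F)
    (hT4 : ∀ X : Matrix (Fin m ⊕ Fin m) (Fin m ⊕ Fin m) F,
      (∀ a : Fin m ⊕ Fin m → F, X * sympTransvection m a 1 = sympTransvection m a 1 * X) →
      ∃ c : F, X = c • (1 : Matrix (Fin m ⊕ Fin m) (Fin m ⊕ Fin m) F))
    {R : Subgroup (GL (Fin m ⊕ Fin m) F)}
    (hR : IsSymplecticTypeGroup 2 R) (habs : ActsAbsolutelyIrreducibly (matrixSet R))
    (hsim : R ≤ similarityGroup (sympForm m F)) : ¬ spGL m F ≤ subgroupNormalizer R := by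
  intro hle
  have hnormR : ∀ g ∈ spGL m F, ∀ x ∈ R, g * x * g⁻¹ ∈ R := by
    intro g hg x hx
    have := hle hg
    unfold subgroupNormalizer at this
    rw [Subgroup.mem_normalizer_iff] at this
    exact (this x).1 hx
  have hSp : ∀ g ∈ spGL m F, ∀ x ∈ spGL m F, g * x * g⁻¹ ∈ spGL m F := by
    intro g hg x hx
    exact Subgroup.mul_mem _ (Subgroup.mul_mem _ hg hx) (Subgroup.inv_mem _ hg)
  have hR1norm : ∀ g ∈ spGL m F, ∀ x ∈ R ⊓ spGL m F, g * x * g⁻¹ ∈ R ⊓ spGL m F := by
    intro g hg x hx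
    exact ⟨hnormR g hg x hx.1, hSp g hg x hx.2⟩
  rcases hT3 (R ⊓ spGL m F) inf_le_right hR1norm with h1 | h1
  · -- `Sp ≤ R`: a transvection has order `p`, odd
    have hSpR : spGL m F ≤ R := by rw [← h1]; exact inf_le_left
    have h2 := two_ne_zero_of_odd_card' hodd
    let i0 : Fin m := ⟨0, by omega⟩
    -- `a = e_{inl 0}`, `x = e_{inr 0}`: `f(x, a) = 1`
    obtain ⟨a, ha⟩ : ∃ a : Fin m ⊕ Fin m → F, a = Pi.single (Sum.inl i0) 1 := ⟨_, rfl⟩
    obtain ⟨x, hx⟩ : ∃ x : Fin m ⊕ Fin m → F, x = Pi.single (Sum.inr i0) 1 := ⟨_, rfl⟩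
    have hfxa : sympForm m F x a = 1 := by
      rw [sympForm_eq_sum, Finset.sum_eq_single i0]
      · rw [ha, hx]
        simp
      · intro j _ hj
        rw [ha, hx]
        have h1' : (Sum.inr j : Fin m ⊕ Fin m) ≠ Sum.inr i0 := fun h => hj (Sum.inr_injective h)
        have h2' : (Sum.inl j : Fin m ⊕ Fin m) ≠ Sum.inl i0 := fun h => hj (Sum.inl_injective h)
        simp [h1', h2']
      · intro h; exact absurd (Finset.mem_univ _) h
    obtain ⟨k, hk⟩ := hR.pGroup ⟨tvc a 1, hSpR (tvc_mem a 1)⟩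
    have hk' : (tvc a (1 : F)) ^ (2 ^ k) = 1 := by
      have := congrArg (fun y : R => (y : GL (Fin m ⊕ Fin m) F)) hk
      simpa using this
    have h3 := tvc_pow_mulVec a x (2 ^ k)
    rw [hk', Units.val_one, Matrix.one_mulVec, hfxa, mul_one] at h3
    have h4 : (((2 ^ k : ℕ) : F)) • a = 0 := by
      have := congrArg (fun w => w - x) h3
      simpa using this.symm
    have h5 := congrFun h4 (Sum.inl i0)
    rw [ha, Pi.smul_apply, Pi.single_eq_same, smul_eq_mul, mul_one, Pi.zero_apply] at h5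
    push_cast at h5
    exact pow_ne_zero k h2 h5
  · -- `R ⊓ Sp` is scalar: then `R` is scalar
    have hRs : R ≤ scalars (Fin m ⊕ Fin m) F := by
      intro x hx
      have hcen : spGL m F ≤ Subgroup.centralizer {x} := by
        apply le_centralizer_of_comm_scalars_gen hT2
        intro g hg
        apply h1
        constructor
        · have h2 := hnormR g hg x⁻¹ (R.inv_mem hx)
          have e : x * g * x⁻¹ * g⁻¹ = x * (g * x⁻¹ * g⁻¹) := by group
          rw [e]
          exact R.mul_mem hx h2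
        · exact Subgroup.mul_mem _ (simil_conj_mem_spGL (hsim hx) hg) (Subgroup.inv_mem _ hg)
      obtain ⟨c, hc⟩ := hT4 (x : Matrix (Fin m ⊕ Fin m) (Fin m ⊕ Fin m) F) (by
        intro a
        have h1' := hcen (tvc_mem a (1 : F))
        rw [Subgroup.mem_centralizer_iff] at h1'
        have h2 := h1' x rfl
        have h3 := congrArg (fun g : GL (Fin m ⊕ Fin m) F =>
          (g : Matrix (Fin m ⊕ Fin m) (Fin m ⊕ Fin m) F)) h2
        simp only [Units.val_mul] at h3
        exact h3)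
      exact mem_scalars_of_smul_one_gen x c hc
    have hne : (Sum.inl (⟨0, by omega⟩ : Fin m) : Fin m ⊕ Fin m) ≠ Sum.inr (⟨0, by omega⟩ : Fin m) := by
      intro h; cases h
    exact not_irr_of_le_scalars_gen hne hRs habs.1

end Cfsg.Agent.Lib.Helper12.SpMLeaf
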