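import Mathlib
import Cfsg.Agent.Lib.Helper27.SpMDefs
import Cfsg.Agent.Lib.Helper16.SpMT
import Cfsg.Agent.Lib.Helper12.SpMP6Core

/-!
SpnMax market (helper27; rows S5787 ... S5868): leaf P6 `not_sp_le_symplType` (exact signature of `notes/SpnMax_leaves.lean`),
= `not_sp_le_symplType_core` + helper16's T2 `sp_perfect`, T3 `sp_normal_sub`, T4 `scalar_of_commute_sympTransvections`.
Taker: helper12.
-/

set_option autoImplicit false
set_option linter.unusedSectionVars false
set_option linter.unusedVariables false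

namespace Cfsg.Agent.Lib.Helper12.SpMLeaf

open Cfsg Cfsg.Geo Matrix Module Cfsg.Agent.Lib.Helper27.SpM

variable {m : ℕ} {F : Type*} [Field F] [Fintype F]

/-- P6. -/
theorem not_sp_le_symplType (hm : 2 ≤ m) (hodd : Odd (Fintype.card F)) {R : Subgroup (GL (Fin m ⊕ Fin m) F)}
    (hR : IsSymplecticTypeGroup 2 R) (habs : ActsAbsolutelyIrreducibly (matrixSet R))
    (hsim : R ≤ similarityGroup (sympForm m F)) : ¬ spGL m F ≤ subgroupNormalizer R := by
  have hq : 3 ≤ Fintype.card F := by
    have h1 : 1 < Fintype.card F := Fintype.one_lt_card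
    rcases hodd with ⟨k, hk⟩
    omega
  have hcond : 3 ≤ m ∨ (m = 2 ∧ 3 ≤ Fintype.card F) ∨ 4 ≤ Fintype.card F := by
    rcases Nat.lt_or_ge m 3 with h | h
    · right; left
      exact ⟨by omega, hq⟩
    · left; exact h
  exact not_sp_le_symplType_core hm hodd (Cfsg.Agent.Lib.Helper16.SpMLeaf.sp_perfect hcond)
    (fun N hN hnorm => Cfsg.Agent.Lib.Helper16.SpMLeaf.sp_normal_sub (by omega) hcond N hN hnorm)
    (fun X hX => Cfsg.Agent.Lib.Helper16.SpMLeaf.scalar_of_commute_sympTransvections X hX) hR habs hsim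

end Cfsg.Agent.Lib.Helper12.SpMLeaf
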