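/-
helper12: S5704 (Sp ⊗ Sp in Ω⁺), part (N1), leaf B6 `rt_of_rank_one` (a rank one block gives a T3 root
element), with the shared calculus for B7.
-/
import Mathlib
import Cfsg.Agent.Lib.Helper25.SpTK
import Cfsg.Agent.Lib.Helper25.TensS
import Cfsg.Agent.Lib.Helper19.SpTNDefs
import Cfsg.Agent.Lib.Helper19.SpTNBridge
import Cfsg.Agent.Lib.Helper13.SpTNB5

set_option autoImplicit false
set_option linter.unusedSectionVars false
set_option linter.unusedVariables false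

namespace Cfsg.Agent.Lib.Helper12.SpTNLeaf
open Matrix QuadraticMap
open Cfsg.Agent.Lib.Helper25.Tens Cfsg.Agent.Lib.Helper25.TensLeaves Cfsg.Agent.Lib.Helper19.OSub
open Cfsg.Agent.Lib.Helper25.SpT Cfsg.Agent.Lib.Helper19.SpTN
open scoped Kronecker commutatorElement

variable {F : Type*} [Field F] [Fintype F] {a b : ℕ} {Q : QuadraticForm F (Idx a b → F)}
  {M : Subgroup (GL (Idx a b) F)}

/-- `J (pr l) l` is `± 1` -/
theorem b6_J_sq (eb : Even b) (l : Fin b) :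
    (Jm b (pr eb l) l : F) * Jm b (pr eb l) l = 1 := by
  have h := Jm_pr (F := F) eb (pr eb l)
  rw [pr_pr] at h
  rw [h]
  split_ifs <;> ring

/-- root elements inside a totally singular subspace commute -/
theorem b6_rt_commute {u v u' v' : Idx a b → F} (hu : Q u = 0) (hv : Q v = 0) (huv : polar Q u v = 0)
    (hu' : Q u' = 0) (hv' : Q v' = 0) (huv' : polar Q u' v' = 0)
    (h1 : polar Q u u' = 0) (h2 : polar Q u v' = 0) (h3 : polar Q v u' = 0)
    (h4 : polar Q v v' = 0) (c c' : F) :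
    rt Q u v c * rt Q u' v' c' = rt Q u' v' c' * rt Q u v c := by
  have h1' : polar Q u' u = 0 := by rw [polar_comm]; exact h1
  have h2' : polar Q v' u = 0 := by rw [polar_comm]; exact h2
  have h3' : polar Q u' v = 0 := by rw [polar_comm]; exact h3
  have h4' : polar Q v' v = 0 := by rw [polar_comm]; exact h4
  apply gl_ext
  intro x
  rw [mv_mul, mv_mul, mv_rt hu' hv' huv', mv_rt hu hv huv, mv_rt hu hv huv, mv_rt hu' hv' huv']
  simp only [polar_add_right, polar_smul_right, polar_sub_right, h1, h2, h3, h4, h1', h2', h3', h4',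
    smul_zero, sub_zero, add_zero, zero_smul]
  abel

theorem b6_pr_ne (eb : Even b) (o o' : Fin b) (ho : o.val = 0) (ho' : o'.val = 1) (l : Fin b)
    (hl : l ≠ o) (hl' : l ≠ o') : pr eb l ≠ o ∧ pr eb l ≠ o' := by
  constructor
  · intro e
    apply hl'
    rw [← pr_pr eb l, e, pr_o eb o o' ho ho']
  · intro e
    apply hl
    rw [← pr_pr eb l, e, pr_o' eb o o' ho ho']

/-- the root element `rt (x₀ ⊗ e_o) (x₁ ⊗ e_{pr l}) c` is of `U_W`-form with the single block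
`(c J(pr l, l)) • r1 x₀ x₁` at `l` -/
theorem b6_uw_rt (h : Ctx a b Q) (o o' : Fin b) (ho : o.val = 0) (ho' : o'.val = 1)
    (l : Fin b) (hl : l ≠ o) (hl' : l ≠ o') (x₀ x₁ : Fin a → F) (c : F) :
    UW o o' (rt Q (pt x₀ (Pi.single o 1)) (pt x₁ (Pi.single (pr h.eb l) 1)) c)
      (sgl l ((c * Jm b (pr h.eb l) l) • r1 x₀ x₁)) := by
  obtain ⟨hp1, hp2⟩ := b6_pr_ne h.eb o o' ho ho' l hl hl'
  have hu : Q (pt x₀ (Pi.single o 1)) = 0 := h.pure _ _
  have hw : Q (pt x₁ (Pi.single (pr h.eb l) 1)) = 0 := h.pure _ _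
  have huw : polar Q (pt x₀ (Pi.single o 1)) (pt x₁ (Pi.single (pr h.eb l) 1)) = 0 := by
    rw [h.pol, sf_single_eq_zero h.eb o (pr h.eb l) (by rw [pr_o h.eb o o' ho ho']; exact hp2),
      mul_zero]
  constructor
  · intro x
    rw [mv_rt hu hw huw, h.pol, h.pol, sf_self (Pi.single o (1 : F) : Fin b → F), mul_zero,
      sf_single_eq_zero h.eb (pr h.eb l) o (by rw [pr_pr]; exact hl.symm), mul_zero, zero_smul,
      zero_smul, sub_zero, smul_zero, add_zero]
  · intro k hk hk' x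
    rw [mv_rt hu hw huw, h.pol, h.pol,
      sf_single_eq_zero h.eb o k (by rw [pr_o h.eb o o' ho ho']; exact hk'), mul_zero, zero_smul,
      zero_sub, sf_single_single]
    congr 1
    unfold sgl
    by_cases hkl : k = l
    · rw [if_pos hkl, hkl, Matrix.smul_mulVec, r1_mulVec, smul_smul, pt_smul_left, sf_skew x x₁]
      module
    · rw [if_neg hkl, Jm_eq_zero_of_ne h.eb (pr h.eb l) k (by rw [pr_pr]; exact hkl), mul_zero,
        zero_smul, neg_zero, smul_zero, Matrix.zero_mulVec, pt_zero_left]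

/-- conjugation of that root element by `kB e_l ν` -/
theorem b6_conj_kB_rt (h : Ctx a b Q) (o o' : Fin b) (ho : o.val = 0) (ho' : o'.val = 1)
    (l : Fin b) (hl : l ≠ o) (hl' : l ≠ o') (x₀ x₁ : Fin a → F) (c ν : F) :
    (kB (Pi.single l 1) ν : GL (Idx a b) F) *
        rt Q (pt x₀ (Pi.single o 1)) (pt x₁ (Pi.single (pr h.eb l) 1)) c *
        (kB (Pi.single l 1) ν : GL (Idx a b) F)⁻¹ =
      rt Q (pt x₀ (Pi.single o 1)) (pt x₁ (Pi.single (pr h.eb l) 1)) c *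
        rt Q (pt x₀ (Pi.single o 1)) (pt x₁ (Pi.single l 1)) (ν * Jm b (pr h.eb l) l * c) := by
  obtain ⟨hp1, hp2⟩ := b6_pr_ne h.eb o o' ho ho' l hl hl'
  have hu : Q (pt x₀ (Pi.single o 1)) = 0 := h.pure _ _
  have hw : Q (pt x₁ (Pi.single (pr h.eb l) 1)) = 0 := h.pure _ _
  have hw' : Q (pt x₁ (Pi.single l 1)) = 0 := h.pure _ _
  have huw : polar Q (pt x₀ (Pi.single o 1)) (pt x₁ (Pi.single (pr h.eb l) 1)) = 0 := by
    rw [h.pol, sf_single_eq_zero h.eb o (pr h.eb l) (by rw [pr_o h.eb o o' ho ho']; exact hp2),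
      mul_zero]
  have huw' : polar Q (pt x₀ (Pi.single o 1)) (pt x₁ (Pi.single l 1)) = 0 := by
    rw [h.pol, sf_single_eq_zero h.eb o l (by rw [pr_o h.eb o o' ho ho']; exact hl'), mul_zero]
  rw [conj_rt (kB_mem_iso h _ _), mv_kB_pt, mv_kB_pt,
    sf_single_eq_zero h.eb o l (by rw [pr_o h.eb o o' ho ho']; exact hl'), mul_zero, zero_smul,
    add_zero, sf_single_single, pt_add_right, pt_smul_right]
  have hw'' : Q ((ν * Jm b (pr h.eb l) l) • pt x₁ (Pi.single l 1)) = 0 := by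
    rw [QuadraticMap.map_smul, hw', smul_zero]
  rw [rt_add_right hu hw hw'' huw (by rw [polar_smul_right, huw', smul_zero])
    (by rw [polar_smul_right, pt_ort' h, smul_zero]) c, rt_smul_right hu hw' huw']

/-- (B6) a rank one block gives a T3 root element. -/
theorem rt_of_rank_one (h : MCtx a b Q M) (o o' : Fin b) (ho : o.val = 0) (ho' : o'.val = 1)
    (l : Fin b) (hl : l ≠ o) (hl' : l ≠ o') (x₀ x₁ : Fin a → F)
    (hθ : r1 x₀ x₁ ∈ SB o o' l M) :
    ∃ c : F, c ≠ 0 ∧ rt Q (pt x₀ (Pi.single o 1)) (pt x₁ (Pi.single l 1)) c ∈ M := by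
  obtain ⟨g, hgM, hUg⟩ := hθ
  have hc : Ctx a b Q := h.toCtx
  obtain ⟨hp1, hp2⟩ := b6_pr_ne hc.eb o o' ho ho' l hl hl'
  have hJ := b6_J_sq (F := F) hc.eb l
  have hUd := b6_uw_rt hc o o' ho ho' l hl hl' x₀ x₁ (Jm b (pr hc.eb l) l)
  rw [hJ, one_smul] at hUd
  have hgi : g ∈ Cfsg.isometryGroup F ⇑Q := omegaGL_le_iso (h.le_om hgM)
  have hcomm := Cfsg.Agent.Lib.Helper13.SpTNLeaf.comm_kB_eq hc o o' ho ho' hgi
    (rt_mem_iso _ _ _) hUg hUd l hl hl' 1
  have hkM : (kB (Pi.single l 1) 1 : GL (Idx a b) F) ∈ M :=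
    h.le ⟨kB_mem_KG _ _, kB_mem_omega hc _ _⟩
  have hmem : ⁅(kB (Pi.single l 1) 1 : GL (Idx a b) F), g⁆ ∈ M := by
    rw [commutatorElement_def]
    exact M.mul_mem (M.mul_mem (M.mul_mem hkM hgM) (M.inv_mem hkM)) (M.inv_mem hgM)
  rw [hcomm, commutatorElement_def, b6_conj_kB_rt hc o o' ho ho' l hl hl', one_mul, hJ] at hmem
  have hu : Q (pt x₀ (Pi.single o 1)) = 0 := hc.pure _ _
  have hw : Q (pt x₁ (Pi.single (pr hc.eb l) 1)) = 0 := hc.pure _ _
  have hw' : Q (pt x₁ (Pi.single l 1)) = 0 := hc.pure _ _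
  have huw : polar Q (pt x₀ (Pi.single o 1)) (pt x₁ (Pi.single (pr hc.eb l) 1)) = 0 := by
    rw [hc.pol, sf_single_eq_zero hc.eb o (pr hc.eb l) (by rw [pr_o hc.eb o o' ho ho']; exact hp2),
      mul_zero]
  have huw' : polar Q (pt x₀ (Pi.single o 1)) (pt x₁ (Pi.single l 1)) = 0 := by
    rw [hc.pol, sf_single_eq_zero hc.eb o l (by rw [pr_o hc.eb o o' ho ho']; exact hl'), mul_zero]
  rw [b6_rt_commute hu hw huw hu hw' huw' (polar_self_sing hu) huw'
    (by rw [polar_comm]; exact huw) (pt_ort' hc _ _ _), mul_assoc, mul_inv_cancel, mul_one] at hmem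
  exact ⟨1, one_ne_zero, hmem⟩

end Cfsg.Agent.Lib.Helper12.SpTNLeaf
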