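/-
helper12: S5704 (Sp ⊗ Sp in Ω⁺), part (N1), leaf B7 `double_of_bivector` (a totally isotropic
bivector block gives a double root element).
-/
import Mathlib
import Cfsg.Agent.Lib.Helper12.SpTNB6
import Cfsg.Agent.Lib.Helper13.SpTNB1

set_option autoImplicit false
set_option linter.unusedSectionVars false
set_option linter.unusedVariables false

namespace Cfsg.Agent.Lib.Helper12.SpTNLeaf
open Matrix QuadraticMap
open Cfsg.Agent.Lib.Helper25.Tens Cfsg.Agent.Lib.Helper25.TensLeaves Cfsg.Agent.Lib.Helper19.OSub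
open Cfsg.Agent.Lib.Helper25.SpT Cfsg.Agent.Lib.Helper19.SpTN
open scoped Kronecker commutatorElement

variable {F : Type*} [Field F] [Fintype F] {a b : ℕ} {Q : QuadraticForm F (Idx a b → F)}
  {M : Subgroup (GL (Idx a b) F)}

/-- a group identity: the commutator with a product whose conjugates split off commuting factors -/
theorem b7_comm_prod {G : Type*} [Group G] {k d₁ d₂ r r₂ : G}
    (h1 : k * d₁ * k⁻¹ = d₁ * r) (h2 : k * d₂ * k⁻¹ = d₂ * r₂)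
    (c1 : d₂ * r₂ = r₂ * d₂) (c2 : d₁ * r = r * d₁) (c3 : d₁ * r₂ = r₂ * d₁) :
    ⁅k, d₁ * d₂⁆ = r * r₂ := by
  have e1 : ⁅k, d₁ * d₂⁆ = (k * d₁ * k⁻¹) * (k * d₂ * k⁻¹) * d₂⁻¹ * d₁⁻¹ := by
    rw [commutatorElement_def]; group
  rw [e1, h1, h2]
  calc d₁ * r * (d₂ * r₂) * d₂⁻¹ * d₁⁻¹
      = d₁ * r * (r₂ * d₂) * d₂⁻¹ * d₁⁻¹ := by rw [c1]
    _ = d₁ * r * r₂ * d₁⁻¹ := by group
    _ = r * d₁ * r₂ * d₁⁻¹ := by rw [c2]
    _ = r * (d₁ * r₂) * d₁⁻¹ := by group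
    _ = r * (r₂ * d₁) * d₁⁻¹ := by rw [c3]
    _ = r * r₂ := by group

/-- (B7) a t.i. bivector block gives a double root element. -/
theorem double_of_bivector (h : MCtx a b Q M) (o o' : Fin b) (ho : o.val = 0) (ho' : o'.val = 1)
    (l : Fin b) (hl : l ≠ o) (hl' : l ≠ o') (x₀ x₁ : Fin a → F) (hsf : sf x₀ x₁ = 0)
    (hθ : r1 x₀ x₁ - r1 x₁ x₀ ∈ SB o o' l M) :
    ∃ c : F, c ≠ 0 ∧ rt Q (pt x₀ (Pi.single o 1)) (pt x₁ (Pi.single l 1)) c *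
      rt Q (pt x₁ (Pi.single o 1)) (pt x₀ (Pi.single l 1)) (-c) ∈ M := by
  obtain ⟨g, hgM, hUg⟩ := hθ
  have hc : Ctx a b Q := h.toCtx
  have hJ := b6_J_sq (F := F) hc.eb l
  have hsf' : sf x₁ x₀ = 0 := by rw [sf_skew, hsf, neg_zero]
  -- all the vectors involved are mutually orthogonal and singular
  have P00 : ∀ y y' : Fin b → F, polar Q (pt x₀ y) (pt x₀ y') = 0 := fun y y' => pt_ort' hc _ _ _
  have P11 : ∀ y y' : Fin b → F, polar Q (pt x₁ y) (pt x₁ y') = 0 := fun y y' => pt_ort' hc _ _ _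
  have P01 : ∀ y y' : Fin b → F, polar Q (pt x₀ y) (pt x₁ y') = 0 := fun y y' => by
    rw [hc.pol, hsf, zero_mul]
  have P10 : ∀ y y' : Fin b → F, polar Q (pt x₁ y) (pt x₀ y') = 0 := fun y y' => by
    rw [hc.pol, hsf', zero_mul]
  have Q0 : ∀ (x : Fin a → F) (y : Fin b → F), Q (pt x y) = 0 := hc.pure
  -- the model element
  have hU1 := b6_uw_rt hc o o' ho ho' l hl hl' x₀ x₁ (Jm b (pr hc.eb l) l)
  rw [hJ, one_smul] at hU1
  have hU2 := b6_uw_rt hc o o' ho ho' l hl hl' x₁ x₀ (-(Jm b (pr hc.eb l) l))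
  rw [neg_mul, hJ, neg_smul, one_smul] at hU2
  have hUd := Cfsg.Agent.Lib.Helper13.SpTNLeaf.UW_mul o o' hU1 hU2
  have hsgl : sgl l (r1 x₀ x₁) + sgl l (-(r1 x₁ x₀)) = sgl l (r1 x₀ x₁ - r1 x₁ x₀) := by
    funext k
    rw [Pi.add_apply]
    unfold sgl
    split_ifs
    · rw [sub_eq_add_neg]
    · rw [add_zero]
  rw [hsgl] at hUd
  have hgi : g ∈ Cfsg.isometryGroup F ⇑Q := omegaGL_le_iso (h.le_om hgM)
  have hcomm := Cfsg.Agent.Lib.Helper13.SpTNLeaf.comm_kB_eq hc o o' ho ho' hgi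
    ((Cfsg.isometryGroup F ⇑Q).mul_mem (rt_mem_iso _ _ _) (rt_mem_iso _ _ _)) hUg hUd l hl hl' 1
  have hkM : (kB (Pi.single l 1) 1 : GL (Idx a b) F) ∈ M :=
    h.le ⟨kB_mem_KG _ _, kB_mem_omega hc _ _⟩
  have hmem : ⁅(kB (Pi.single l 1) 1 : GL (Idx a b) F), g⁆ ∈ M := by
    rw [commutatorElement_def]
    exact M.mul_mem (M.mul_mem (M.mul_mem hkM hgM) (M.inv_mem hkM)) (M.inv_mem hgM)
  rw [hcomm, b7_comm_prod (b6_conj_kB_rt hc o o' ho ho' l hl hl' x₀ x₁ _ 1)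
    (b6_conj_kB_rt hc o o' ho ho' l hl hl' x₁ x₀ _ 1)
    (b6_rt_commute (Q0 _ _) (Q0 _ _) (P10 _ _) (Q0 _ _) (Q0 _ _) (P10 _ _) (P11 _ _) (P10 _ _)
      (P01 _ _) (P00 _ _) _ _)
    (b6_rt_commute (Q0 _ _) (Q0 _ _) (P01 _ _) (Q0 _ _) (Q0 _ _) (P01 _ _) (P00 _ _) (P01 _ _)
      (P10 _ _) (P11 _ _) _ _)
    (b6_rt_commute (Q0 _ _) (Q0 _ _) (P01 _ _) (Q0 _ _) (Q0 _ _) (P10 _ _) (P01 _ _) (P00 _ _)
      (P11 _ _) (P10 _ _) _ _)] at hmem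
  rw [one_mul, hJ, mul_neg, hJ] at hmem
  exact ⟨1, one_ne_zero, hmem⟩

end Cfsg.Agent.Lib.Helper12.SpTNLeaf
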