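import Mathlib
import Cfsg.Agent.Lib.Helper27.SpUDefs

/-!
# S2316 leaf L9 (`num_identity`), market of helper27 (`notes/S2316_leaves.lean`)

Pure arithmetic: with `n d` the number of totally isotropic `d`-subspaces of a `2m`-dimensional
symplectic space over `F_q`, `∑ mu_d n_d = ∑ (-1)^d n_d q^(m² + (m-d)²)`.
Both sides satisfy `S (m+1) = - q^(2m+1) S m`, via the recurrence
`G (m+1) (d+1) = (1 + q^(2m+1-d)) G m d + q^(d+1) G m (d+1)`.
-/

set_option autoImplicit false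

namespace Cfsg.Agent.Lib.Helper27.SpU

namespace L9aux

/-- The number of totally isotropic `d`-subspaces of a `2m`-dimensional symplectic space, by its
recurrence. -/
def G (q : ℤ) : ℕ → ℕ → ℤ
  | 0, 0 => 1
  | 0, _ + 1 => 0
  | _ + 1, 0 => 1
  | m + 1, d + 1 => (1 + q ^ (2 * m + 1 - d)) * G q m d + q ^ (d + 1) * G q m (d + 1)

theorem G_zero_right (q : ℤ) (m : ℕ) : G q m 0 = 1 := by
  cases m <;> simp [G]

theorem G_succ_succ (q : ℤ) (m d : ℕ) :
    G q (m + 1) (d + 1) = (1 + q ^ (2 * m + 1 - d)) * G q m d + q ^ (d + 1) * G q m (d + 1) := by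
  rw [G]

theorem G_eq_zero (q : ℤ) : ∀ (m d : ℕ), m < d → G q m d = 0
  | 0, 0, h => absurd h (lt_irrefl _)
  | 0, d + 1, _ => by simp [G]
  | m + 1, 0, h => absurd h (Nat.not_lt_zero _)
  | m + 1, d + 1, h => by
    rw [G_succ_succ, G_eq_zero q m d (by omega), G_eq_zero q m (d + 1) (by omega)]
    simp

/-- `∏_{j=1..d} (q^j - 1)`, written in reflected form. -/
def P (q : ℤ) (d : ℕ) : ℤ := ∏ i ∈ Finset.range d, (q ^ (d - i) - 1)

/-- `∏_{i<d} (q^(2(m-i)) - 1)`. -/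
def R (q : ℤ) (m d : ℕ) : ℤ := ∏ i ∈ Finset.range d, (q ^ (2 * (m - i)) - 1)

theorem P_succ (q : ℤ) (d : ℕ) : P q (d + 1) = P q d * (q ^ (d + 1) - 1) := by
  unfold P
  rw [Finset.prod_range_succ']
  simp

theorem R_succ_right (q : ℤ) (m d : ℕ) :
    R q m (d + 1) = R q m d * (q ^ (2 * (m - d)) - 1) := by
  unfold R
  rw [Finset.prod_range_succ]

theorem R_succ_succ (q : ℤ) (m d : ℕ) :
    R q (m + 1) (d + 1) = R q m d * (q ^ (2 * (m + 1)) - 1) := by
  unfold R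
  rw [Finset.prod_range_succ']
  simp

theorem R_eq_zero (q : ℤ) {m d : ℕ} (h : m < d) : R q m d = 0 := by
  unfold R
  apply Finset.prod_eq_zero (Finset.mem_range.mpr h)
  simp

theorem G_mul_P (q : ℤ) : ∀ m d : ℕ, G q m d * P q d = R q m d
  | 0, 0 => by simp [G, P, R]
  | 0, d + 1 => by rw [R_eq_zero q (Nat.succ_pos d)]; simp [G]
  | m + 1, 0 => by simp [G, P, R]
  | m + 1, d + 1 => by
    have h1 := G_mul_P q m d
    have h2 := G_mul_P q m (d + 1)
    have h3 : G q (m + 1) (d + 1) * P q (d + 1) =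
        (1 + q ^ (2 * m + 1 - d)) * (G q m d * P q d) * (q ^ (d + 1) - 1) +
          q ^ (d + 1) * (G q m (d + 1) * P q (d + 1)) := by
      rw [G_succ_succ, P_succ q d]; ring
    rw [h3, h1, h2, R_succ_succ, R_succ_right]
    rcases Nat.lt_or_ge m d with h | h
    · rw [R_eq_zero q h]; ring
    · obtain ⟨e, rfl⟩ := Nat.exists_eq_add_of_le h
      have e1 : 2 * (d + e) + 1 - d = d + 2 * e + 1 := by omega
      have e2 : d + e - d = e := by omega
      rw [e1, e2]; ring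

theorem P_ne_zero {q : ℤ} (hq : 2 ≤ q) (d : ℕ) : P q d ≠ 0 := by
  unfold P
  rw [Finset.prod_ne_zero_iff]
  intro i hi
  have hi' : d - i ≠ 0 := by
    have := Finset.mem_range.mp hi; omega
  have : 1 < q ^ (d - i) := one_lt_pow₀ (by linarith) hi'
  linarith

/-- The shift lemma: a weighted sum over row `m + 1` in terms of row `m`. -/
theorem sum_G_succ (q : ℤ) (m : ℕ) (c : ℕ → ℤ) :
    ∑ d ∈ Finset.range (m + 2), c d * G q (m + 1) d =
      ∑ d ∈ Finset.range (m + 1),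
        (c (d + 1) * (1 + q ^ (2 * m + 1 - d)) + c d * q ^ d) * G q m d := by
  rw [Finset.sum_range_succ']
  have hsplit : ∀ d, c (d + 1) * G q (m + 1) (d + 1) =
      c (d + 1) * (1 + q ^ (2 * m + 1 - d)) * G q m d +
        c (d + 1) * q ^ (d + 1) * G q m (d + 1) := by
    intro d; rw [G_succ_succ]; ring
  rw [Finset.sum_congr rfl (fun d _ => hsplit d), Finset.sum_add_distrib]
  have hshift : ∑ d ∈ Finset.range (m + 1), c (d + 1) * q ^ (d + 1) * G q m (d + 1) =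
      ∑ d ∈ Finset.range (m + 1), c d * q ^ d * G q m d - c 0 := by
    have h := Finset.sum_range_succ' (fun e => c e * q ^ e * G q m e) (m + 1)
    rw [Finset.sum_range_succ, G_eq_zero q m (m + 1) (Nat.lt_succ_self m)] at h
    simp only [G_zero_right, pow_zero, mul_one, mul_zero, add_zero] at h
    linarith
  rw [hshift, G_zero_right]
  have : ∀ d, (c (d + 1) * (1 + q ^ (2 * m + 1 - d)) + c d * q ^ d) * G q m d =
      c (d + 1) * (1 + q ^ (2 * m + 1 - d)) * G q m d + c d * q ^ d * G q m d := by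
    intro d; ring
  rw [Finset.sum_congr rfl (fun d _ => this d), Finset.sum_add_distrib]
  ring

theorem mu_succ (q d : ℕ) : mu q (d + 1) = -((q : ℤ) ^ d * mu q d) := by
  unfold mu
  rw [Nat.triangle_succ]
  ring

/-- left-hand sums -/
def SL (q m : ℕ) : ℤ := ∑ d ∈ Finset.range (m + 1), mu q d * G (q : ℤ) m d

/-- right-hand sums -/
def SR (q m : ℕ) : ℤ :=
  ∑ d ∈ Finset.range (m + 1), (-1 : ℤ) ^ d * G (q : ℤ) m d * (q : ℤ) ^ (m ^ 2 + (m - d) ^ 2)

theorem SL_succ (q m : ℕ) : SL q (m + 1) = -((q : ℤ) ^ (2 * m + 1)) * SL q m := by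
  unfold SL
  rw [sum_G_succ (q : ℤ) m (mu q), Finset.mul_sum]
  apply Finset.sum_congr rfl
  intro d hd
  have hd' : d ≤ m := Nat.lt_succ_iff.mp (Finset.mem_range.mp hd)
  obtain ⟨e, rfl⟩ := Nat.exists_eq_add_of_le hd'
  have e1 : 2 * (d + e) + 1 - d = d + 2 * e + 1 := by omega
  rw [e1, mu_succ]
  ring

theorem SR_succ (q m : ℕ) : SR q (m + 1) = -((q : ℤ) ^ (2 * m + 1)) * SR q m := by
  unfold SR
  have h0 : ∀ d, (-1 : ℤ) ^ d * G (q : ℤ) (m + 1) d * (q : ℤ) ^ ((m + 1) ^ 2 + (m + 1 - d) ^ 2) =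
      (fun d => (-1 : ℤ) ^ d * (q : ℤ) ^ ((m + 1) ^ 2 + (m + 1 - d) ^ 2)) d *
        G (q : ℤ) (m + 1) d := by
    intro d; ring
  rw [Finset.sum_congr rfl (fun d _ => h0 d),
    sum_G_succ (q : ℤ) m (fun d => (-1 : ℤ) ^ d * (q : ℤ) ^ ((m + 1) ^ 2 + (m + 1 - d) ^ 2)),
    Finset.mul_sum]
  apply Finset.sum_congr rfl
  intro d hd
  have hd' : d ≤ m := Nat.lt_succ_iff.mp (Finset.mem_range.mp hd)
  obtain ⟨e, rfl⟩ := Nat.exists_eq_add_of_le hd'
  have e1 : 2 * (d + e) + 1 - d = d + 2 * e + 1 := by omega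
  have e2 : d + e + 1 - (d + 1) = e := by omega
  have e3 : d + e + 1 - d = e + 1 := by omega
  have e4 : d + e - d = e := by omega
  simp only [e1, e2, e3, e4]
  ring

theorem SL_eq_SR (q : ℕ) : ∀ m, SL q m = SR q m
  | 0 => by simp [SL, SR, mu, G]
  | m + 1 => by rw [SL_succ, SR_succ, SL_eq_SR q m]

theorem nat_factor_P (q d : ℕ) :
    ∏ i ∈ Finset.range d, (q ^ d - q ^ i) =
      (∏ i ∈ Finset.range d, q ^ i) * ∏ i ∈ Finset.range d, (q ^ (d - i) - 1) := by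
  rw [← Finset.prod_mul_distrib]
  apply Finset.prod_congr rfl
  intro i hi
  have hi' : i ≤ d := (Finset.mem_range.mp hi).le
  rw [Nat.mul_sub, mul_one, ← pow_add, Nat.add_sub_cancel' hi']

theorem nat_factor_R (q m d : ℕ) (hd : d ≤ m) :
    ∏ i ∈ Finset.range d, (q ^ (2 * m - i) - q ^ i) =
      (∏ i ∈ Finset.range d, q ^ i) * ∏ i ∈ Finset.range d, (q ^ (2 * (m - i)) - 1) := by
  rw [← Finset.prod_mul_distrib]
  apply Finset.prod_congr rfl
  intro i hi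
  have hi' : i < d := Finset.mem_range.mp hi
  have e : i + 2 * (m - i) = 2 * m - i := by omega
  rw [Nat.mul_sub, mul_one, ← pow_add, e]

theorem cast_pow_sub_one (q k : ℕ) (hq : 0 < q) : ((q ^ k - 1 : ℕ) : ℤ) = (q : ℤ) ^ k - 1 := by
  rw [Nat.cast_sub (Nat.one_le_pow _ _ hq)]
  simp

theorem n_eq_G (q m : ℕ) (hq : 2 ≤ q) (n : ℕ → ℕ)
    (hn : ∀ d ≤ m, n d * ∏ i : Fin d, (q ^ d - q ^ (i : ℕ)) =
      ∏ i ∈ Finset.range d, (q ^ (2 * m - i) - q ^ i)) (d : ℕ) (hd : d ≤ m) :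
    (n d : ℤ) = G (q : ℤ) m d := by
  have hq0 : 0 < q := by omega
  have h := hn d hd
  rw [Fin.prod_univ_eq_prod_range (fun i => q ^ d - q ^ i) d, nat_factor_P q d,
    nat_factor_R q m d hd] at h
  have hpos : 0 < ∏ i ∈ Finset.range d, q ^ i :=
    Finset.prod_pos (fun i _ => pow_pos hq0 i)
  have h' : n d * ∏ i ∈ Finset.range d, (q ^ (d - i) - 1) =
      ∏ i ∈ Finset.range d, (q ^ (2 * (m - i)) - 1) := by
    apply Nat.eq_of_mul_eq_mul_left hpos
    rw [← h]; ring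
  have h2 : (n d : ℤ) * P (q : ℤ) d = R (q : ℤ) m d := by
    have := congrArg (Nat.cast : ℕ → ℤ) h'
    rw [Nat.cast_mul, Nat.cast_prod, Nat.cast_prod] at this
    unfold P R
    rw [← Finset.prod_congr rfl (fun i _ => cast_pow_sub_one q (d - i) hq0),
      ← Finset.prod_congr rfl (fun i _ => cast_pow_sub_one q (2 * (m - i)) hq0)]
    exact this
  have hq2 : (2 : ℤ) ≤ (q : ℤ) := by exact_mod_cast hq
  exact mul_right_cancel₀ (P_ne_zero hq2 d) (h2.trans (G_mul_P (q : ℤ) m d).symm)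

end L9aux

/-- With `n d` = number of t.i. `d`-subspaces. Proof: `n d = G m d` where
`G (m+1) (d+1) = (1 + q^(2m+1-d)) * G m d + q^(d+1) * G m (d+1)`, `G m 0 = 1`, `G 0 (d+1) = 0`
(check `G m d * ∏_{j=1..d} (q^j - 1) = ∏_{i<d} (q^(2(m-i)) - 1)`); both sides `S m` satisfy
`S (m+1) = - q^(2m+1) * S m`, `S 0 = 1`. -/
theorem num_identity (q m : ℕ) (hq : 2 ≤ q) (n : ℕ → ℕ)
    (hn : ∀ d ≤ m, n d * ∏ i : Fin d, (q ^ d - q ^ (i : ℕ)) =
      ∏ i ∈ Finset.range d, (q ^ (2 * m - i) - q ^ i)) :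
    ∑ d ∈ Finset.range (m + 1), mu q d * (n d : ℤ) =
      ∑ d ∈ Finset.range (m + 1), (-1 : ℤ) ^ d * (n d : ℤ) * (q : ℤ) ^ (m ^ 2 + (m - d) ^ 2) := by
  have hG : ∀ d ∈ Finset.range (m + 1), (n d : ℤ) = L9aux.G (q : ℤ) m d := fun d hd =>
    L9aux.n_eq_G q m hq n hn d (Nat.lt_succ_iff.mp (Finset.mem_range.mp hd))
  have e1 : ∑ d ∈ Finset.range (m + 1), mu q d * (n d : ℤ) = L9aux.SL q m :=
    Finset.sum_congr rfl (fun d hd => by rw [hG d hd])
  have e2 : ∑ d ∈ Finset.range (m + 1),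
      (-1 : ℤ) ^ d * (n d : ℤ) * (q : ℤ) ^ (m ^ 2 + (m - d) ^ 2) = L9aux.SR q m :=
    Finset.sum_congr rfl (fun d hd => by rw [hG d hd])
  rw [e1, e2]
  exact L9aux.SL_eq_SR q m

end Cfsg.Agent.Lib.Helper27.SpU
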