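import Mathlib
import Cfsg.Agent.Lib.Helper14.SylA.Defs

/-!
helper12, S2221 (helper14's market), leaves **C3**, **C3'** (Legendre for sums of distinct powers of two), exact signatures.
-/

set_option autoImplicit false
open scoped commutatorElement

namespace Cfsg.Agent.Lib.Helper12.SylALeaf

open Cfsg.Agent.Lib.Helper14.SylA RegularWreathProduct

/-- `v₂(n!) = v₂((n/2)!) + n/2` -/
theorem padicValNat_two_factorial_half (n : ℕ) :
    padicValNat 2 n.factorial = padicValNat 2 (n / 2).factorial + n / 2 := by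
  haveI : Fact (Nat.Prime 2) := ⟨Nat.prime_two⟩
  rw [← padicValNat_mul_div_factorial (p := 2) n, padicValNat_factorial_mul]

/-- `v₂((2^m + n)!) = 2^m - 1 + v₂(n!)` for `n < 2^m` -/
theorem padicValNat_two_factorial_pow_add : ∀ (m n : ℕ), n < 2 ^ m →
    padicValNat 2 (2 ^ m + n).factorial = (2 ^ m - 1) + padicValNat 2 n.factorial := by
  intro m
  induction m with
  | zero =>
    intro n hn
    have : n = 0 := by simpa using hn
    subst this
    simp
  | succ m ih =>
    intro n hn
    have h1 : (2 ^ (m + 1) + n) / 2 = 2 ^ m + n / 2 := by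
      rw [pow_succ]; omega
    have h2 : n / 2 < 2 ^ m := by
      rw [pow_succ] at hn; omega
    rw [padicValNat_two_factorial_half (2 ^ (m + 1) + n), h1, ih (n / 2) h2,
      padicValNat_two_factorial_half n]
    have h3 : 1 ≤ 2 ^ m := Nat.one_le_two_pow
    rw [pow_succ]
    omega

/-- C3: arithmetic (Legendre): `v_2 ((∑_{r ∈ S} 2^r)!) = ∑_{r ∈ S} (2^r - 1)`. -/
theorem padicValNat_factorial_sum_two_pow (S : Finset ℕ) :
    padicValNat 2 (∑ r ∈ S, 2 ^ r).factorial = ∑ r ∈ S, (2 ^ r - 1) := by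
  induction S using Finset.induction_on_max with
  | empty => simp
  | insert m S hm ih =>
    have hmS : m ∉ S := fun h => lt_irrefl m (hm m h)
    have hlt : ∑ r ∈ S, 2 ^ r < 2 ^ m := Nat.geomSum_lt (le_refl 2) hm
    rw [Finset.sum_insert hmS, Finset.sum_insert hmS, padicValNat_two_factorial_pow_add m _ hlt, ih]

/-- C3': the same with one more point, all levels positive. -/
theorem padicValNat_factorial_sum_two_pow_succ (S : Finset ℕ) (hS : ∀ r ∈ S, 1 ≤ r) :
    padicValNat 2 (∑ r ∈ S, 2 ^ r + 1).factorial = ∑ r ∈ S, (2 ^ r - 1) := by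
  haveI : Fact (Nat.Prime 2) := ⟨Nat.prime_two⟩
  have h1 : ∑ r ∈ S, 2 ^ r = 2 * ∑ r ∈ S, 2 ^ (r - 1) := by
    rw [Finset.mul_sum]
    apply Finset.sum_congr rfl
    intro r hr
    have := hS r hr
    rw [← pow_succ']
    congr 1
    omega
  rw [← padicValNat_factorial_sum_two_pow S, h1,
    padicValNat_factorial_mul_add (p := 2) _ (by norm_num : 1 < 2)]

end Cfsg.Agent.Lib.Helper12.SylALeaf
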