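import Mathlib
import Cfsg.Agent.Lib.Helper14.SylA.Defs

/-!
helper12, S2221 (helper14's market), leaf **G2** `not_decompIn_of_card_center`, exact signature.

A finite 2-group with centre of order 2 is indecomposable: the centres of the two factors are nontrivial,
meet trivially and lie in the centre of the product.
-/

set_option autoImplicit false
open scoped commutatorElement

namespace Cfsg.Agent.Lib.Helper12.SylALeaf

open Cfsg.Agent.Lib.Helper14.SylA RegularWreathProduct

/-- a nontrivial subgroup `S ≤ P` of a finite `p`-group has a non-identity element central in `S` -/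
theorem exists_central_ne_one {G : Type*} [Group G] {p : ℕ} [Fact p.Prime] (P S : Subgroup G)
    [Finite ↥P] (hP : IsPGroup p ↥P) (hSP : S ≤ P) (hS : S ≠ ⊥) :
    ∃ z ∈ S, z ≠ 1 ∧ ∀ s ∈ S, z * s = s * z := by
  haveI : Finite ↥S := Finite.of_injective (Subgroup.inclusion hSP) (Subgroup.inclusion_injective hSP)
  have hSp : IsPGroup p ↥S := hP.of_injective (Subgroup.inclusion hSP) (Subgroup.inclusion_injective hSP)
  haveI : Nontrivial ↥S := (Subgroup.nontrivial_iff_ne_bot S).2 hS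
  haveI := hSp.center_nontrivial
  obtain ⟨z, hz⟩ := exists_ne (1 : ↥(Subgroup.center ↥S))
  refine ⟨((z : ↥S) : G), (z : ↥S).2, ?_, ?_⟩
  · intro h1
    apply hz
    apply Subtype.ext
    apply Subtype.ext
    exact h1
  · intro s hs
    have h1 := Subgroup.mem_center_iff.1 z.2 ⟨s, hs⟩
    have h2 := congrArg (fun x : ↥S => (x : G)) h1
    exact h2.symm

/-- G2: a finite 2-group with centre of order 2 is indecomposable. -/
theorem not_decompIn_of_card_center {G : Type*} [Group G] (P : Subgroup G) [Finite ↥P]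
    (hP : IsPGroup 2 ↥P) (hZ : Nat.card (Subgroup.center ↥P) = 2) : ¬ DecompIn P := by
  haveI : Fact (Nat.Prime 2) := ⟨Nat.prime_two⟩
  rintro ⟨S₁, S₂, h1, h2, hS₁P, hS₂P, hcomm, hinf, hsup⟩
  obtain ⟨z₁, hz₁S, hz₁1, hz₁c⟩ := exists_central_ne_one P S₁ hP hS₁P h1
  obtain ⟨z₂, hz₂S, hz₂1, hz₂c⟩ := exists_central_ne_one P S₂ hP hS₂P h2
  -- both commute with all of `P`
  have hc₁ : ∀ x ∈ P, z₁ * x = x * z₁ := by
    intro x hx
    rw [← hsup] at hx
    have hle : S₁ ⊔ S₂ ≤ Subgroup.centralizer {z₁} := by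
      apply sup_le
      · intro s hs
        rw [Subgroup.mem_centralizer_iff]
        intro y hy
        rw [Set.mem_singleton_iff] at hy
        subst hy
        exact hz₁c s hs
      · intro s hs
        rw [Subgroup.mem_centralizer_iff]
        intro y hy
        rw [Set.mem_singleton_iff] at hy
        subst hy
        exact hcomm y hz₁S s hs
    have := hle hx
    rw [Subgroup.mem_centralizer_iff] at this
    exact this z₁ rfl
  have hc₂ : ∀ x ∈ P, z₂ * x = x * z₂ := by
    intro x hx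
    rw [← hsup] at hx
    have hle : S₁ ⊔ S₂ ≤ Subgroup.centralizer {z₂} := by
      apply sup_le
      · intro s hs
        rw [Subgroup.mem_centralizer_iff]
        intro y hy
        rw [Set.mem_singleton_iff] at hy
        subst hy
        exact (hcomm s hs y hz₂S).symm
      · intro s hs
        rw [Subgroup.mem_centralizer_iff]
        intro y hy
        rw [Set.mem_singleton_iff] at hy
        subst hy
        exact hz₂c s hs
    have := hle hx
    rw [Subgroup.mem_centralizer_iff] at this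
    exact this z₂ rfl
  have hne : z₁ ≠ z₂ := by
    intro h
    have : z₁ ∈ S₁ ⊓ S₂ := ⟨hz₁S, by rw [h]; exact hz₂S⟩
    rw [hinf, Subgroup.mem_bot] at this
    exact hz₁1 this
  -- three different elements of the centre of `P`
  have hmem : ∀ z (hzP : z ∈ P), (∀ x ∈ P, z * x = x * z) →
      (⟨z, hzP⟩ : ↥P) ∈ Subgroup.center ↥P := by
    intro z hzP hc
    rw [Subgroup.mem_center_iff]
    intro x
    apply Subtype.ext
    exact (hc x x.2).symm
  obtain ⟨x, y, hxy, huniv⟩ := Nat.card_eq_two_iff.1 hZ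
  have hall : ∀ w : ↥(Subgroup.center ↥P), w = x ∨ w = y := by
    intro w
    have : w ∈ ({x, y} : Set ↥(Subgroup.center ↥P)) := by rw [huniv]; exact Set.mem_univ w
    simpa using this
  obtain ⟨w₀, hw₀⟩ : ∃ w₀ : ↥(Subgroup.center ↥P), (w₀ : ↥P) = 1 := ⟨1, rfl⟩
  obtain ⟨w₁, hw₁⟩ : ∃ w₁ : ↥(Subgroup.center ↥P), ((w₁ : ↥P) : G) = z₁ :=
    ⟨⟨⟨z₁, hS₁P hz₁S⟩, hmem z₁ (hS₁P hz₁S) hc₁⟩, rfl⟩
  obtain ⟨w₂, hw₂⟩ : ∃ w₂ : ↥(Subgroup.center ↥P), ((w₂ : ↥P) : G) = z₂ :=
    ⟨⟨⟨z₂, hS₂P hz₂S⟩, hmem z₂ (hS₂P hz₂S) hc₂⟩, rfl⟩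
  have h01 : w₀ ≠ w₁ := by
    intro h
    apply hz₁1
    rw [← hw₁, ← h, hw₀]
    rfl
  have h02 : w₀ ≠ w₂ := by
    intro h
    apply hz₂1
    rw [← hw₂, ← h, hw₀]
    rfl
  have h12 : w₁ ≠ w₂ := by
    intro h
    apply hne
    rw [← hw₁, ← hw₂, h]
  rcases hall w₀ with a0 | a0 <;> rcases hall w₁ with a1 | a1 <;> rcases hall w₂ with a2 | a2
  · exact h01 (a0.trans a1.symm)
  · exact h01 (a0.trans a1.symm)
  · exact h02 (a0.trans a2.symm)
  · exact h12 (a1.trans a2.symm)
  · exact h12 (a1.trans a2.symm)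
  · exact h02 (a0.trans a2.symm)
  · exact h01 (a0.trans a1.symm)
  · exact h01 (a0.trans a1.symm)

end Cfsg.Agent.Lib.Helper12.SylALeaf
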