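import Mathlib
import Cfsg.Agent.Lib.Helper14.SylA.Defs

/-!
helper12, S2221 (helper14's market), leaves **G3** `decompIn_top_prod`, **G4** `decompIn_top_pi`, exact signatures.
-/

set_option autoImplicit false
open scoped commutatorElement

namespace Cfsg.Agent.Lib.Helper12.SylALeaf

open Cfsg.Agent.Lib.Helper14.SylA RegularWreathProduct

/-- G3: a product of two nontrivial groups is decomposable. -/
theorem decompIn_top_prod (A B : Type*) [Group A] [Group B] [Nontrivial A] [Nontrivial B] :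
    DecompIn (⊤ : Subgroup (A × B)) := by
  refine ⟨Subgroup.prod ⊤ ⊥, Subgroup.prod ⊥ ⊤, ?_, ?_, le_top, le_top, ?_, ?_, ?_⟩
  · obtain ⟨a, ha⟩ := exists_ne (1 : A)
    intro h
    have h1 : ((a, 1) : A × B) ∈ Subgroup.prod (⊤ : Subgroup A) (⊥ : Subgroup B) :=
      Subgroup.mem_prod.2 ⟨Subgroup.mem_top _, Subgroup.mem_bot.2 rfl⟩
    rw [h, Subgroup.mem_bot] at h1
    exact ha (congrArg Prod.fst h1)
  · obtain ⟨b, hb⟩ := exists_ne (1 : B)
    intro h
    have h1 : ((1, b) : A × B) ∈ Subgroup.prod (⊥ : Subgroup A) (⊤ : Subgroup B) :=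
      Subgroup.mem_prod.2 ⟨Subgroup.mem_bot.2 rfl, Subgroup.mem_top _⟩
    rw [h, Subgroup.mem_bot] at h1
    exact hb (congrArg Prod.snd h1)
  · rintro ⟨a1, a2⟩ ha ⟨b1, b2⟩ hb
    rw [Subgroup.mem_prod] at ha hb
    have e1 : a2 = 1 := Subgroup.mem_bot.1 ha.2
    have e2 : b1 = 1 := Subgroup.mem_bot.1 hb.1
    subst e1 e2
    simp
  · rw [eq_bot_iff]
    rintro ⟨x1, x2⟩ hx
    rw [Subgroup.mem_inf, Subgroup.mem_prod, Subgroup.mem_prod] at hx
    obtain ⟨h1, h2⟩ := hx
    rw [Subgroup.mem_bot]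
    exact Prod.ext (Subgroup.mem_bot.1 h2.1) (Subgroup.mem_bot.1 h1.2)
  · rw [eq_top_iff]
    rintro ⟨x1, x2⟩ _
    have e : ((x1, x2) : A × B) = (x1, 1) * (1, x2) := by simp
    rw [e]
    exact Subgroup.mul_mem _
      (Subgroup.mem_sup_left (Subgroup.mem_prod.2 ⟨Subgroup.mem_top _, Subgroup.mem_bot.2 rfl⟩))
      (Subgroup.mem_sup_right (Subgroup.mem_prod.2 ⟨Subgroup.mem_bot.2 rfl, Subgroup.mem_top _⟩))

/-- G4: a Pi group with two nontrivial factors is decomposable. -/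
theorem decompIn_top_pi {κ : Type} [Fintype κ] [DecidableEq κ] (W : κ → Type) [∀ k, Group (W k)]
    (k₁ k₂ : κ) (h12 : k₁ ≠ k₂) [Nontrivial (W k₁)] [Nontrivial (W k₂)] :
    DecompIn (⊤ : Subgroup (∀ k, W k)) := by
  -- the factor at `k₁` and the product of the other factors
  obtain ⟨S₁, hS₁⟩ : ∃ S₁ : Subgroup (∀ k, W k), ∀ t, t ∈ S₁ ↔ ∀ k, k ≠ k₁ → t k = 1 :=
    ⟨{ carrier := {t | ∀ k, k ≠ k₁ → t k = 1}
       mul_mem' := by
        intro a b ha hb k hk
        rw [Pi.mul_apply, ha k hk, hb k hk, mul_one]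
       one_mem' := by intro k _; rfl
       inv_mem' := by
        intro a ha k hk
        rw [Pi.inv_apply, ha k hk, inv_one] }, fun t => Iff.rfl⟩
  obtain ⟨S₂, hS₂⟩ : ∃ S₂ : Subgroup (∀ k, W k), ∀ t, t ∈ S₂ ↔ t k₁ = 1 :=
    ⟨{ carrier := {t | t k₁ = 1}
       mul_mem' := by
        intro a b ha hb
        show (a * b) k₁ = 1
        rw [Pi.mul_apply, ha, hb, mul_one]
       one_mem' := rfl
       inv_mem' := by
        intro a ha
        show (a⁻¹) k₁ = 1
        rw [Pi.inv_apply, ha, inv_one] }, fun t => Iff.rfl⟩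
  refine ⟨S₁, S₂, ?_, ?_, le_top, le_top, ?_, ?_, ?_⟩
  · obtain ⟨x, hx⟩ := exists_ne (1 : W k₁)
    intro h
    have h1 : Pi.mulSingle k₁ x ∈ S₁ := by
      rw [hS₁]
      intro k hk
      exact Pi.mulSingle_eq_of_ne hk x
    rw [h, Subgroup.mem_bot] at h1
    apply hx
    have := congrFun h1 k₁
    rwa [Pi.mulSingle_eq_same] at this
  · obtain ⟨y, hy⟩ := exists_ne (1 : W k₂)
    intro h
    have h1 : Pi.mulSingle k₂ y ∈ S₂ := by
      rw [hS₂]
      exact Pi.mulSingle_eq_of_ne h12 y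
    rw [h, Subgroup.mem_bot] at h1
    apply hy
    have := congrFun h1 k₂
    rwa [Pi.mulSingle_eq_same] at this
  · intro a ha b hb
    rw [hS₁] at ha
    rw [hS₂] at hb
    funext k
    rw [Pi.mul_apply, Pi.mul_apply]
    by_cases hk : k = k₁
    · subst hk
      rw [hb, mul_one, one_mul]
    · rw [ha k hk, mul_one, one_mul]
  · rw [eq_bot_iff]
    intro t ht
    rw [Subgroup.mem_inf, hS₁, hS₂] at ht
    obtain ⟨h1, h2⟩ := ht
    rw [Subgroup.mem_bot]
    funext k
    by_cases hk : k = k₁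
    · subst hk; exact h2
    · exact h1 k hk
  · rw [eq_top_iff]
    intro t _
    have e : t = Pi.mulSingle k₁ (t k₁) * Function.update t k₁ 1 := by
      funext k
      rw [Pi.mul_apply]
      by_cases hk : k = k₁
      · subst hk
        rw [Pi.mulSingle_eq_same, Function.update_self, mul_one]
      · rw [Pi.mulSingle_eq_of_ne hk, Function.update_of_ne hk, one_mul]
    rw [e]
    apply Subgroup.mul_mem
    · apply Subgroup.mem_sup_left
      rw [hS₁]
      intro k hk
      exact Pi.mulSingle_eq_of_ne hk _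
    · apply Subgroup.mem_sup_right
      rw [hS₂]
      exact Function.update_self ..

end Cfsg.Agent.Lib.Helper12.SylALeaf
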