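import Mathlib
import Cfsg.Agent.Lib.Helper14.SylA.Defs

/-!
helper12, S2221 (helper14's market), leaves **N1**, **N2**, **N3** (the high bits of `n` versus `4 * (n / 4)`),
exact signatures.
-/

set_option autoImplicit false
open scoped commutatorElement

namespace Cfsg.Agent.Lib.Helper12.SylALeaf

open Cfsg.Agent.Lib.Helper14.SylA RegularWreathProduct

/-- `n` is the sum of `2 ^ r` over its bit indices (as a finset) -/
theorem sum_bitIndices_toFinset (n : ℕ) : ∑ r ∈ n.bitIndices.toFinset, 2 ^ r = n := by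
  rw [List.sum_toFinset _ Nat.bitIndices_nodup, Nat.sum_map_two_pow_bitIndices]

/-- N1: the high bits: `4 * (n / 4) = ∑_{r ∈ bits, 2 ≤ r} 2^r`. -/
theorem sum_high_bits (n : ℕ) :
    ∑ r ∈ n.bitIndices.toFinset.filter (2 ≤ ·), 2 ^ r = 4 * (n / 4) := by
  have h1 := sum_bitIndices_toFinset n
  rw [← Finset.sum_filter_add_sum_filter_not n.bitIndices.toFinset (2 ≤ ·)] at h1
  have hlow : ∑ r ∈ n.bitIndices.toFinset.filter (fun r => ¬ 2 ≤ r), 2 ^ r < 4 := by
    have : ∑ r ∈ n.bitIndices.toFinset.filter (fun r => ¬ 2 ≤ r), 2 ^ r < 2 ^ 2 := by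
      apply Nat.geomSum_lt (le_refl 2)
      intro k hk
      rw [Finset.mem_filter] at hk
      omega
    simpa using this
  have hdvd : 4 ∣ ∑ r ∈ n.bitIndices.toFinset.filter (2 ≤ ·), 2 ^ r := by
    apply Finset.dvd_sum
    intro r hr
    rw [Finset.mem_filter] at hr
    have : (4 : ℕ) = 2 ^ 2 := by norm_num
    rw [this]
    exact pow_dvd_pow 2 hr.2
  obtain ⟨c, hc⟩ := hdvd
  rw [hc] at h1 ⊢
  omega

/-- the bit indices of a sum of distinct powers of two -/
theorem bitIndices_sum_two_pow (T : Finset ℕ) :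
    (∑ t ∈ T, 2 ^ t).bitIndices = T.sort (· ≤ ·) := by
  have h1 : ∑ t ∈ T, 2 ^ t = ((T.sort (· ≤ ·)).map (fun i => 2 ^ i)).sum := by
    rw [← List.sum_toFinset _ (Finset.sort_nodup _ _), Finset.sort_toFinset]
  rw [h1]
  exact Nat.bitIndices_sum_map_two_pow (Finset.sortedLT_sort T)

/-- N2: `4 * (n / 4)` is a power of two iff there is exactly one high bit. -/
theorem card_high_bits_eq_one_iff (n : ℕ) :
    (n.bitIndices.toFinset.filter (2 ≤ ·)).card = 1 ↔ ∃ r : ℕ, 4 * (n / 4) = 2 ^ r := by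
  constructor
  · intro h
    obtain ⟨r, hr⟩ := Finset.card_eq_one.1 h
    refine ⟨r, ?_⟩
    rw [← sum_high_bits n, hr, Finset.sum_singleton]
  · rintro ⟨r, hr⟩
    have h1 := bitIndices_sum_two_pow (n.bitIndices.toFinset.filter (2 ≤ ·))
    rw [sum_high_bits n, hr, Nat.bitIndices_two_pow] at h1
    have h2 := Finset.length_sort (· ≤ ·) (s := n.bitIndices.toFinset.filter (2 ≤ ·))
    rw [← h1] at h2
    simpa using h2.symm

/-- N3: no high bit iff `n < 4`. -/
theorem card_high_bits_eq_zero_iff (n : ℕ) :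
    (n.bitIndices.toFinset.filter (2 ≤ ·)).card = 0 ↔ n < 4 := by
  have h1 := sum_high_bits n
  constructor
  · intro h
    rw [Finset.card_eq_zero] at h
    rw [h, Finset.sum_empty] at h1
    omega
  · intro h
    have h2 : 4 * (n / 4) = 0 := by omega
    rw [h2, Finset.sum_eq_zero_iff] at h1
    rw [Finset.card_eq_zero, Finset.eq_empty_iff_forall_notMem]
    intro r hr
    exact (pow_ne_zero r (by norm_num : (2 : ℕ) ≠ 0)) (h1 r hr)

end Cfsg.Agent.Lib.Helper12.SylALeaf
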