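/-
helper12: S3797 leaf CSUP `commSub_iSup` (frozen statement in `notes/S3797_leaves.lean`).
-/
import Mathlib
import Cfsg.Prelude.Def_Local
import Cfsg.Agent.Lib.Helper25.TSDefs

set_option autoImplicit false

namespace Cfsg.Agent.Lib.Helper12.TSCSUP

open Cfsg.Agent.Lib.Helper25.TS
open scoped commutatorElement

section moduleLeaves

variable {V E : Type*} [AddCommGroup V] [AddCommGroup E] [Finite V] [Finite E]
variable {Γ : Type*} [Group Γ] [DistribMulAction Γ V]

omit [Finite V] in
theorem commSub_le_iff (Y : Subgroup Γ) (M : AddSubgroup V) :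
    commSub (V := V) Y ≤ M ↔ ∀ y ∈ Y, ∀ v : V, y • v - v ∈ M := by
  unfold commSub
  rw [AddSubgroup.closure_le]
  constructor
  · intro h y hy v
    exact h ⟨y, hy, v, rfl⟩
  · rintro h w ⟨y, hy, v, rfl⟩
    exact h y hy v

omit [Finite V] in
theorem commSub_mono {Y Z : Subgroup Γ} (h : Y ≤ Z) : commSub (V := V) Y ≤ commSub (V := V) Z := by
  rw [commSub_le_iff]
  intro y hy v
  exact smul_sub_mem_commSub Z (h hy) v

omit [Finite V] in
/-- the elements of `Γ` acting trivially modulo `M` form a subgroup -/
def trivMod (M : AddSubgroup V) : Subgroup Γ where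
  carrier := {x | ∀ v : V, x • v - v ∈ M}
  one_mem' := by
    intro v
    rw [one_smul, sub_self]
    exact M.zero_mem
  mul_mem' := by
    intro x y hx hy v
    have h : (x * y) • v - v = (x • (y • v) - y • v) + (y • v - v) := by
      rw [mul_smul]
      abel
    rw [h]
    exact M.add_mem (hx _) (hy _)
  inv_mem' := by
    intro x hx v
    have h : x⁻¹ • v - v = -(x • (x⁻¹ • v) - x⁻¹ • v) := by
      rw [smul_inv_smul]
      abel
    rw [h]
    exact M.neg_mem (hx _)

/-- **A8 `commSub_iSup`** -/
theorem commSub_iSup {ι : Type*} (F : ι → Subgroup Γ) :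
    commSub (V := V) (⨆ i, F i) = ⨆ i, commSub (V := V) (F i) := by
  apply le_antisymm
  · have hle : (⨆ i, F i) ≤ trivMod (Γ := Γ) (⨆ i, commSub (V := V) (F i)) := by
      refine iSup_le fun j x hx v => ?_
      exact (le_iSup (fun i => commSub (V := V) (F i)) j) (smul_sub_mem_commSub (F j) hx v)
    rw [commSub_le_iff]
    intro y hy v
    exact hle hy v
  · exact iSup_le fun j => commSub_mono (le_iSup F j)

end moduleLeaves

end Cfsg.Agent.Lib.Helper12.TSCSUP
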