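/-
helper12: S3797 leaf ST1 `stage_one` (frozen statement in `notes/S3797_leaves.lean`),
over helper29's landed QCOMM / DIV / CW.
-/
import Mathlib
import Cfsg.Prelude.Def_Local
import Cfsg.Agent.Lib.Helper25.TSDefs
import Cfsg.Agent.Lib.Helper29.TSQCOMM
import Cfsg.Agent.Lib.Helper29.TSDIV
import Cfsg.Agent.Lib.Helper29.TSCW
import Cfsg.Agent.Lib.Helper12.TSFREE

set_option autoImplicit false

namespace Cfsg.Agent.Lib.Helper12.TSST1

open Cfsg.Agent.Lib.Helper25.TS
open scoped commutatorElement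

section stageLeaves

variable {V E : Type*} [AddCommGroup V] [AddCommGroup E] [Finite V] [Finite E]
variable {Γ : Type*} [Group Γ] [Finite Γ] [DistribMulAction Γ V]
variable {q : V → E} {F U B : Subgroup Γ}

/-- **S1 `stage_one`** in `_of` form over CW -/
theorem stage_one_of (a : ActCtx q F U B) (hcw : Nat.card V ≤ Nat.card E ^ 2) :
    Nat.card (commSub (V := V) U) = Nat.card E ∧ Nat.card V = Nat.card E ^ 2 ∧
    fixedPts (V := V) U = commSub (V := V) U ∧ 2 ≤ Nat.card E := by
  obtain ⟨-, htriv, hWle⟩ :=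
    Cfsg.Agent.Lib.Helper29.TSQCOMM.commSub_facts a.hq U a.U_isom a.U_two
  -- a nontrivial `u ∈ U` and a vector it moves
  obtain ⟨u, hu, hu1⟩ : ∃ u ∈ U, u ≠ 1 := by
    by_contra h
    push Not at h
    exact a.U_ne ((Subgroup.eq_bot_iff_forall U).mpr h)
  obtain ⟨v, hv⟩ : ∃ v : V, u • v ≠ v := by
    by_contra h
    push Not at h
    exact hu1 (a.faithful u h)
  -- `W = [V,U]` is `B`-invariant
  have hWB : ∀ b ∈ B, ∀ w ∈ commSub (V := V) U, b • w ∈ commSub (V := V) U :=
    fun b hb w hw =>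
      Cfsg.Agent.Lib.Helper12.TSFREE.smul_mem_commSub_of_normalizes U (a.B_normU b hb) hw
  obtain ⟨k, hk⟩ := Cfsg.Agent.Lib.Helper29.TSDIV.card_invariant a.hq B a.trans
    (commSub (V := V) U) hWB
  have hW2 : 2 ≤ Nat.card (commSub (V := V) U) := by
    have : Nontrivial ↥(commSub (V := V) U) :=
      ⟨⟨⟨u • v - v, smul_sub_mem_commSub U hu v⟩, 0, fun h =>
        hv (sub_eq_zero.mp (congrArg Subtype.val h))⟩⟩
    exact Finite.one_lt_card
  have hE2 : 2 ≤ Nat.card E := by
    by_contra h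
    have hE1 : Nat.card E ≤ 1 := by omega
    have : Nat.card (commSub (V := V) U) ≤ 1 := hWle.trans hE1
    omega
  have hWE : Nat.card (commSub (V := V) U) = Nat.card E := by
    have hk1 : k = 1 := by
      have h1 : Nat.card E ^ k ≤ Nat.card E ^ 1 := by
        rw [pow_one, ← hk]
        exact hWle
      have h2 : k ≤ 1 := (Nat.pow_le_pow_iff_right hE2).mp h1
      have h3 : k ≠ 0 := by
        rintro rfl
        rw [pow_zero] at hk
        omega
      omega
    rw [hk, hk1, pow_one]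
  -- `V`
  obtain ⟨m, hm⟩ := Cfsg.Agent.Lib.Helper29.TSDIV.card_invariant a.hq B a.trans
    (⊤ : AddSubgroup V) (fun _ _ _ _ => AddSubgroup.mem_top _)
  rw [AddSubgroup.card_top] at hm
  have hvW : v ∉ commSub (V := V) U := fun h => hv (htriv u hu v h)
  have hlt : Nat.card (commSub (V := V) U) < Nat.card V := Finite.card_subtype_lt hvW
  have hm2 : m = 2 := by
    have h1 : Nat.card E ^ m ≤ Nat.card E ^ 2 := by
      rw [← hm]
      exact hcw
    have h2 : m ≤ 2 := (Nat.pow_le_pow_iff_right hE2).mp h1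
    have h3 : Nat.card E ^ 1 < Nat.card E ^ m := by
      rw [pow_one, ← hm, ← hWE]
      exact hlt
    have h4 : 1 < m := (Nat.pow_lt_pow_iff_right hE2).mp h3
    omega
  have hVE : Nat.card V = Nat.card E ^ 2 := by rw [hm, hm2]
  -- `C_V(U)`
  have hfixB : ∀ b ∈ B, ∀ w ∈ fixedPts (V := V) U, b • w ∈ fixedPts (V := V) U := by
    intro b hb w hw
    rw [mem_fixedPts] at hw ⊢
    intro x hx
    have h1 : b⁻¹ * x * b ∈ U := by
      have := a.B_normU b⁻¹ (B.inv_mem hb) x hx
      rwa [inv_inv] at this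
    have h2 : x • b • w = b • (b⁻¹ * x * b) • w := by
      rw [← mul_smul, ← mul_smul]
      congr 1
      group
    rw [h2, hw _ h1]
  obtain ⟨j, hj⟩ := Cfsg.Agent.Lib.Helper29.TSDIV.card_invariant a.hq B a.trans
    (fixedPts (V := V) U) hfixB
  have hWfix : commSub (V := V) U ≤ fixedPts (V := V) U :=
    fun w hw => (mem_fixedPts U w).mpr (fun x hx => htriv x hx w hw)
  have hvfix : v ∉ fixedPts (V := V) U := fun h => hv ((mem_fixedPts U v).mp h u hu)
  have hfixlt : Nat.card (fixedPts (V := V) U) < Nat.card V := Finite.card_subtype_lt hvfix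
  have hj1 : j ≤ 1 := by
    have h1 : Nat.card E ^ j < Nat.card E ^ 2 := by
      rw [← hj, ← hVE]
      exact hfixlt
    have h2 : j < 2 := (Nat.pow_lt_pow_iff_right hE2).mp h1
    omega
  have hfixle : Nat.card (fixedPts (V := V) U) ≤ Nat.card (commSub (V := V) U) := by
    rw [hj, hWE]
    calc Nat.card E ^ j ≤ Nat.card E ^ 1 := Nat.pow_le_pow_right (by omega) hj1
      _ = Nat.card E := pow_one _
  have heq : commSub (V := V) U = fixedPts (V := V) U :=
    AddSubgroup.eq_of_le_of_card_ge hWfix hfixle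
  exact ⟨hWE, hVE, heq.symm, hE2⟩

/-- **S1 `stage_one`** -/
theorem stage_one (a : ActCtx q F U B) :
    Nat.card (commSub (V := V) U) = Nat.card E ∧ Nat.card V = Nat.card E ^ 2 ∧
    fixedPts (V := V) U = commSub (V := V) U ∧ 2 ≤ Nat.card E :=
  stage_one_of a (Cfsg.Agent.Lib.Helper29.TSCW.card_le_sq a.hq)

end stageLeaves

end Cfsg.Agent.Lib.Helper12.TSST1
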