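/-
helper12: S3797 leaf ST2 `stage_two` (frozen statement in `notes/S3797_leaves.lean`),
over helper29's landed Block A leaves QFIX / QODD.
-/
import Mathlib
import Cfsg.Prelude.Def_Local
import Cfsg.Agent.Lib.Helper25.TSDefs
import Cfsg.Agent.Lib.Helper29.TSQFIX
import Cfsg.Agent.Lib.Helper29.TSQODD
import Cfsg.Agent.Lib.Helper29.TSQCOMM

set_option autoImplicit false

namespace Cfsg.Agent.Lib.Helper12.TSST2

open Cfsg.Agent.Lib.Helper25.TS
open scoped commutatorElement

section stageLeaves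

variable {V E : Type*} [AddCommGroup V] [AddCommGroup E] [Finite V] [Finite E]
variable {Γ : Type*} [Group Γ] [Finite Γ] [DistribMulAction Γ V]
variable {q : V → E} {F U B : Subgroup Γ}

/-- an element of odd order whose square is `1` is `1` -/
theorem eq_one_of_sq_of_odd {H : Subgroup Γ} (hH : Odd (Nat.card H)) {f : Γ} (hf : f ∈ H)
    (hf2 : f * f = 1) : f = 1 := by
  have h2 : f ^ 2 = 1 := by rw [pow_two, hf2]
  have h1 : orderOf f ∣ 2 := orderOf_dvd_of_pow_eq_one h2
  have h3 : orderOf f ∣ Nat.card H := Subgroup.orderOf_dvd_natCard H hf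
  have h4 : Nat.Coprime 2 (Nat.card H) := (Nat.coprime_two_left).mpr hH
  have h5 : orderOf f = 1 := Nat.eq_one_of_dvd_coprimes h4 h1 h3
  exact orderOf_eq_one_iff.mp h5

/-- **S2 `stage_two`** -/
theorem stage_two (a : ActCtx q F U B) (h1 : fixedPts (V := V) U = commSub (V := V) U) :
    ∀ f ∈ F, (∀ u ∈ U, u * f = f * u) → f = 1 := by
  intro f hf hfu
  have hfY : f ∈ cen F U := (mem_cen F U f).mpr ⟨hf, hfu⟩
  have hYF : cen F U ≤ F := inf_le_left
  have hYodd : Odd (Nat.card (cen F U)) :=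
    Odd.of_dvd_nat a.F_odd (Subgroup.card_dvd_of_le hYF)
  have hYisom : cen F U ≤ isom Γ q := hYF.trans a.F_isom
  -- each `u ∈ U` is trivial on `[V,Y]`
  have hUY : ∀ u ∈ U, ∀ w ∈ commSub (V := V) (cen F U), u • w = w := by
    intro u hu
    exact Cfsg.Agent.Lib.Helper29.TSQODD.smul_eq_of_mem_commSub a.hq (cen F U) hYisom hYodd
      (a.U_isom hu) (a.U_two u hu) (fun y hy => ((mem_cen F U y).mp hy).2 u hu)
  -- `[V,Y] ≤ C_V(U) = [V,U]`
  have hle : commSub (V := V) (cen F U) ≤ commSub (V := V) U := by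
    rw [← h1]
    intro w hw
    rw [mem_fixedPts]
    exact fun u hu => hUY u hu w hw
  -- `Y` is trivial on `[V,U]`
  have hYU : ∀ y ∈ cen F U, ∀ w ∈ commSub (V := V) U, y • w = w := by
    intro y hy w hw
    unfold commSub at hw
    induction hw using AddSubgroup.closure_induction with
    | mem x hx =>
      obtain ⟨u, hu, v, rfl⟩ := hx
      rw [Cfsg.Agent.Lib.Helper29.TSQCOMM.gen_eq a.hq]
      exact Cfsg.Agent.Lib.Helper29.TSQFIX.smul_comm_eq a.hq (a.U_isom hu) (a.U_two u hu)
        (hYisom hy) (((mem_cen F U y).mp hy).2 u hu).symm v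
    | zero => rw [smul_zero]
    | add x z _ _ hx hz => rw [smul_add, hx, hz]
    | neg x _ hx => rw [smul_neg, hx]
  -- `f² = 1` on `V`
  have hff : ∀ v : V, (f * f) • v = v := by
    intro v
    have hw : f • v - v ∈ commSub (V := V) U := hle (smul_sub_mem_commSub (cen F U) hfY v)
    have h2 := hYU f hfY _ hw
    rw [smul_sub] at h2
    have h3 : f • f • v = f • v + f • v - v := by
      rw [← sub_eq_zero] at h2 ⊢
      rw [← h2]
      abel
    rw [mul_smul, h3, a.hq.two_V, zero_sub]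
    exact neg_eq_of_add_eq_zero_left (a.hq.two_V v)
  have hf2 : f * f = 1 := a.faithful _ hff
  exact eq_one_of_sq_of_odd a.F_odd hf hf2

end stageLeaves

end Cfsg.Agent.Lib.Helper12.TSST2
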