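import Mathlib
import Cfsg.Prelude.Def_GeometricClasses
import Cfsg.Agent.Lib.Helper9.TensA

/-! Helper12 library (TSp, part A): elements of the stabilizer `tensorProductSubgroup a b e P` of
a tensor decomposition over an arbitrary index type: matrix form, ranks, powers and the action on
pure tensors. -/

set_option autoImplicit false

namespace Cfsg.Agent.Lib.Helper12.TSp

open Matrix
open scoped Kronecker

variable {F : Type*} [Field F] {ι : Type} [Fintype ι] [DecidableEq ι] {a b : ℕ}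

/-- the conjugate by `P` of the reindexed matrix `K` -/
def conjK (e : ι ≃ Fin a × Fin b) (P : GL ι F) (K : Matrix (Fin a × Fin b) (Fin a × Fin b) F) :
    Matrix ι ι F :=
  (P : Matrix ι ι F) * K.submatrix e e * ((P⁻¹ : GL ι F) : Matrix ι ι F)

theorem gl_inv_mul' (P : GL ι F) : ((P⁻¹ : GL ι F) : Matrix ι ι F) * (P : Matrix ι ι F) = 1 := by
  rw [← Units.val_mul, inv_mul_cancel, Units.val_one]

theorem gl_mul_inv' (P : GL ι F) : (P : Matrix ι ι F) * ((P⁻¹ : GL ι F) : Matrix ι ι F) = 1 := by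
  rw [← Units.val_mul, mul_inv_cancel, Units.val_one]

theorem mem_tps_iff (e : ι ≃ Fin a × Fin b) (P y : GL ι F) :
    y ∈ Cfsg.Geo.tensorProductSubgroup a b e P ↔
      ∃ (A : GL (Fin a) F) (B : GL (Fin b) F), (y : Matrix ι ι F) =
        conjK e P ((A : Matrix (Fin a) (Fin a) F) ⊗ₖ (B : Matrix (Fin b) (Fin b) F)) := by
  constructor
  · rintro ⟨y', ⟨k, ⟨A, B, hk⟩, rfl⟩, rfl⟩
    refine ⟨A, B, ?_⟩
    have h1 : (((MulAut.conj P).toMonoidHom ((Cfsg.Geo.glReindex (F := F) e.symm).toMonoidHom k) :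
        GL ι F) : Matrix ι ι F) =
        (P : Matrix ι ι F) *
          ((k : Matrix (Fin a × Fin b) (Fin a × Fin b) F).submatrix e e) *
          ((P⁻¹ : GL ι F) : Matrix ι ι F) := rfl
    rw [h1, hk]
    rfl
  · rintro ⟨A, B, h⟩
    unfold Cfsg.Geo.tensorProductSubgroup
    rw [Subgroup.mem_map]
    have hdet : ((A : Matrix (Fin a) (Fin a) F) ⊗ₖ (B : Matrix (Fin b) (Fin b) F)).det ≠ 0 := by
      rw [Matrix.det_kronecker]
      have hA : (A : Matrix (Fin a) (Fin a) F).det ≠ 0 :=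
        ((Matrix.isUnit_iff_isUnit_det _).mp A.isUnit).ne_zero
      have hB : (B : Matrix (Fin b) (Fin b) F).det ≠ 0 :=
        ((Matrix.isUnit_iff_isUnit_det _).mp B.isUnit).ne_zero
      exact mul_ne_zero (pow_ne_zero _ hA) (pow_ne_zero _ hB)
    let k : GL (Fin a × Fin b) F := Matrix.GeneralLinearGroup.mkOfDetNeZero _ hdet
    have hk : k ∈ Cfsg.Geo.kroneckerSubgroup a b F := ⟨A, B, rfl⟩
    refine ⟨(Cfsg.Geo.glReindex e.symm) k, Subgroup.mem_map.mpr ⟨k, hk, rfl⟩, ?_⟩
    apply Units.ext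
    show ((P * (Cfsg.Geo.glReindex e.symm) k * P⁻¹ : GL ι F) : Matrix ι ι F) = _
    rw [h, Units.val_mul, Units.val_mul]
    rfl

theorem conjK_mulVec (e : ι ≃ Fin a × Fin b) (P : GL ι F)
    (K : Matrix (Fin a × Fin b) (Fin a × Fin b) F) (φ : Fin a × Fin b → F) :
    conjK e P K *ᵥ ((P : Matrix ι ι F) *ᵥ (φ ∘ e)) = (P : Matrix ι ι F) *ᵥ ((K *ᵥ φ) ∘ e) := by
  unfold conjK
  rw [Matrix.mulVec_mulVec, Matrix.mul_assoc, gl_inv_mul', Matrix.mul_one, ← Matrix.mulVec_mulVec,
    Matrix.submatrix_mulVec_equiv, Function.comp_assoc, Equiv.self_comp_symm, Function.comp_id]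

theorem conjK_sub_one (e : ι ≃ Fin a × Fin b) (P : GL ι F)
    (K : Matrix (Fin a × Fin b) (Fin a × Fin b) F) : conjK e P K - 1 = conjK e P (K - 1) := by
  unfold conjK
  have h1 : (K - 1).submatrix e e = K.submatrix e e - 1 := by
    ext i j
    simp [Matrix.one_apply]
  rw [h1, Matrix.mul_sub, Matrix.sub_mul, Matrix.mul_one, gl_mul_inv']

theorem rank_conjK (e : ι ≃ Fin a × Fin b) (P : GL ι F)
    (K : Matrix (Fin a × Fin b) (Fin a × Fin b) F) : (conjK e P K).rank = K.rank := by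
  unfold conjK
  have hP : IsUnit (P : Matrix ι ι F).det := (Matrix.isUnit_iff_isUnit_det _).mp P.isUnit
  have hPi : IsUnit ((P⁻¹ : GL ι F) : Matrix ι ι F).det :=
    (Matrix.isUnit_iff_isUnit_det _).mp (P⁻¹).isUnit
  rw [Matrix.rank_mul_eq_left_of_isUnit_det _ _ hPi, Matrix.rank_mul_eq_right_of_isUnit_det _ _ hP]
  exact Matrix.rank_submatrix K e e

theorem rank_conjK_sub_one (e : ι ≃ Fin a × Fin b) (P : GL ι F)
    (K : Matrix (Fin a × Fin b) (Fin a × Fin b) F) : (conjK e P K - 1).rank = (K - 1).rank := by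
  rw [conjK_sub_one, rank_conjK]

theorem conjK_mul (e : ι ≃ Fin a × Fin b) (P : GL ι F)
    (K L : Matrix (Fin a × Fin b) (Fin a × Fin b) F) :
    conjK e P K * conjK e P L = conjK e P (K * L) := by
  unfold conjK
  have h1 : (K * L).submatrix e e = K.submatrix e e * L.submatrix e e :=
    (Matrix.submatrix_mul_equiv K L e e e).symm
  rw [h1]
  calc (P : Matrix ι ι F) * K.submatrix e e * ((P⁻¹ : GL ι F) : Matrix ι ι F) *
        ((P : Matrix ι ι F) * L.submatrix e e * ((P⁻¹ : GL ι F) : Matrix ι ι F))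
      = (P : Matrix ι ι F) * K.submatrix e e *
        (((P⁻¹ : GL ι F) : Matrix ι ι F) * (P : Matrix ι ι F)) * L.submatrix e e *
          ((P⁻¹ : GL ι F) : Matrix ι ι F) := by simp only [Matrix.mul_assoc]
    _ = _ := by rw [gl_inv_mul', Matrix.mul_one]; simp only [Matrix.mul_assoc]

theorem conjK_one (e : ι ≃ Fin a × Fin b) (P : GL ι F) : conjK e P (1 : Matrix _ _ F) = 1 := by
  unfold conjK
  rw [Matrix.submatrix_one_equiv, Matrix.mul_one, gl_mul_inv']

theorem conjK_pow (e : ι ≃ Fin a × Fin b) (P : GL ι F)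
    (K : Matrix (Fin a × Fin b) (Fin a × Fin b) F) (k : ℕ) :
    (conjK e P K) ^ k = conjK e P (K ^ k) := by
  induction k with
  | zero => rw [pow_zero, pow_zero, conjK_one]
  | succ k ih => rw [pow_succ, ih, conjK_mul, pow_succ]

theorem conjK_injective (e : ι ≃ Fin a × Fin b) (P : GL ι F)
    (K L : Matrix (Fin a × Fin b) (Fin a × Fin b) F) (h : conjK e P K = conjK e P L) : K = L := by
  unfold conjK at h
  have h1 : K.submatrix e e = L.submatrix e e := by
    calc K.submatrix e e = ((P⁻¹ : GL ι F) : Matrix ι ι F) *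
          ((P : Matrix ι ι F) * K.submatrix e e * ((P⁻¹ : GL ι F) : Matrix ι ι F)) *
            (P : Matrix ι ι F) := by
          simp only [Matrix.mul_assoc]
          rw [gl_inv_mul', Matrix.mul_one, ← Matrix.mul_assoc, gl_inv_mul', Matrix.one_mul]
      _ = ((P⁻¹ : GL ι F) : Matrix ι ι F) *
          ((P : Matrix ι ι F) * L.submatrix e e * ((P⁻¹ : GL ι F) : Matrix ι ι F)) *
            (P : Matrix ι ι F) := by rw [h]
      _ = L.submatrix e e := by
          simp only [Matrix.mul_assoc]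
          rw [gl_inv_mul', Matrix.mul_one, ← Matrix.mul_assoc, gl_inv_mul', Matrix.one_mul]
  ext p q
  have := congrFun (congrFun h1 (e.symm p)) (e.symm q)
  simpa using this

end Cfsg.Agent.Lib.Helper12.TSp
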