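import Mathlib
import Cfsg.Agent.Lib.Helper12.ElusE

/-! Helper12 library (TSp, part B): a bound for the dimension of the space of intertwiners
between two modules for a cyclic group of prime order over a finite field, and its translation to
the fixed space of a Kronecker product. -/

set_option autoImplicit false

namespace Cfsg.Agent.Lib.Helper12.TSp

open Module Cfsg.Agent.Lib.Helper12.Elus

section general

variable {F : Type*} [Field F] {M M' : Type*} [AddCommGroup M] [Module F M] [AddCommGroup M']
  [Module F M']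

theorem finrank_eq_inf_ker_add_map [FiniteDimensional F M] (φ : M →ₗ[F] M')
    (N : Submodule F M) :
    finrank F N = finrank F ↥(N ⊓ LinearMap.ker φ) + finrank F ↥(N.map φ) := by
  have h := LinearMap.finrank_range_add_finrank_ker (φ.domRestrict N)
  rw [LinearMap.range_domRestrict, LinearMap.ker_domRestrict] at h
  have h2 : finrank F ↥(Submodule.comap N.subtype (LinearMap.ker φ)) =
      finrank F ↥(N ⊓ LinearMap.ker φ) := by
    have e := Submodule.comapSubtypeEquivOfLe (inf_le_left : N ⊓ LinearMap.ker φ ≤ N)
    rw [← e.finrank_eq]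
    have h3 : Submodule.comap N.subtype (LinearMap.ker φ) =
        Submodule.comap N.subtype (N ⊓ LinearMap.ker φ) := by
      ext x
      simp
    rw [h3]
  omega

end general

section inter

variable {F : Type*} [Field F] {V W : Type*} [AddCommGroup V] [Module F V] [AddCommGroup W]
  [Module F W]

/-- the intertwiners from `(W, g)` to `(V, f)` which vanish on `U` -/
def interOn (f : V →ₗ[F] V) (g : W →ₗ[F] W) (U : Submodule F W) :
    Submodule F (W →ₗ[F] V) where
  carrier := {T | (∀ w, T (g w) = f (T w)) ∧ ∀ u ∈ U, T u = 0}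
  add_mem' := by
    rintro S T ⟨hS1, hS2⟩ ⟨hT1, hT2⟩
    refine ⟨fun w => ?_, fun u hu => ?_⟩
    · rw [LinearMap.add_apply, LinearMap.add_apply, hS1, hT1, map_add]
    · rw [LinearMap.add_apply, hS2 u hu, hT2 u hu, add_zero]
  zero_mem' := ⟨fun w => by simp, fun u _ => rfl⟩
  smul_mem' := by
    rintro c T ⟨hT1, hT2⟩
    refine ⟨fun w => ?_, fun u hu => ?_⟩
    · rw [LinearMap.smul_apply, LinearMap.smul_apply, hT1, map_smul]
    · rw [LinearMap.smul_apply, hT2 u hu, smul_zero]

theorem mem_interOn (f : V →ₗ[F] V) (g : W →ₗ[F] W) (U : Submodule F W) (T : W →ₗ[F] V) :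
    T ∈ interOn f g U ↔ (∀ w, T (g w) = f (T w)) ∧ ∀ u ∈ U, T u = 0 := Iff.rfl

theorem interOn_pow (f : V →ₗ[F] V) (g : W →ₗ[F] W) (T : W →ₗ[F] V)
    (hT : ∀ w, T (g w) = f (T w)) (n : ℕ) (w : W) : T ((g ^ n) w) = (f ^ n) (T w) := by
  induction n generalizing w with
  | zero => rfl
  | succ n ih => rw [pow_succ, Module.End.mul_apply, ih, hT, pow_succ, Module.End.mul_apply]

variable [FiniteDimensional F V] [FiniteDimensional F W]

/-- evaluating at a vector of `[W, g]` -/
theorem interOn_step (f : V →ₗ[F] V) (g : W →ₗ[F] W) (U : Submodule F W) (w : W)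
    (hw : w ∈ movR g) (k : ℕ) :
    finrank F (interOn f g U) ≤ finrank F (interOn f g (U ⊔ cyc g w k)) + finrank F (movR f) := by
  rw [finrank_eq_inf_ker_add_map (LinearMap.applyₗ (R := F) (M₂ := V) w) (interOn f g U)]
  have h1 : interOn f g U ⊓ LinearMap.ker (LinearMap.applyₗ (R := F) (M₂ := V) w) ≤
      interOn f g (U ⊔ cyc g w k) := by
    rintro T ⟨⟨hT1, hT2⟩, hT3⟩
    have hTw : T w = 0 := hT3
    refine ⟨hT1, ?_⟩
    have hle : U ⊔ cyc g w k ≤ LinearMap.ker T := by
      apply sup_le
      · intro u hu
        exact hT2 u hu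
      · rw [cyc, Submodule.span_le]
        rintro _ ⟨j, rfl⟩
        show T ((g ^ (j : ℕ)) w) = 0
        rw [interOn_pow f g T hT1, hTw, map_zero]
    intro u hu
    exact hle hu
  have h2 : (interOn f g U).map (LinearMap.applyₗ (R := F) (M₂ := V) w) ≤ movR f := by
    rintro _ ⟨T, ⟨hT1, -⟩, rfl⟩
    obtain ⟨w', rfl⟩ := hw
    refine ⟨T w', ?_⟩
    show (f - 1) (T w') = T ((g - 1) w')
    rw [LinearMap.sub_apply, LinearMap.sub_apply, Module.End.one_apply, Module.End.one_apply,
      map_sub, hT1]
  have := Submodule.finrank_mono h1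
  have := Submodule.finrank_mono h2
  omega

end inter

section finite

variable {F : Type*} [Field F] [Fintype F] {V W : Type*} [AddCommGroup V] [Module F V]
  [AddCommGroup W] [Module F W] [FiniteDimensional F V] [FiniteDimensional F W]

omit [Fintype F] in
theorem fix_sup_mov (g : W →ₗ[F] W) (r : ℕ) [Fact r.Prime] (hg : g ^ r = 1)
    (hr0 : (r : F) ≠ 0) : fixE g ⊔ movR g = ⊤ := by
  apply Submodule.eq_top_of_finrank_eq
  have h1 := Submodule.finrank_sup_add_finrank_inf_eq (fixE g) (movR g)
  rw [fix_inf_mov g r hg hr0, finrank_bot, add_zero] at h1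
  have h2 := LinearMap.finrank_range_add_finrank_ker (g - 1)
  rw [h1]
  unfold fixE movR
  omega

theorem interOn_induct (f : V →ₗ[F] V) (g : W →ₗ[F] W) (r : ℕ) [Fact r.Prime] (hg : g ^ r = 1)
    (hr0 : (r : F) ≠ 0) (n : ℕ) :
    ∀ U : Submodule F W, U ≤ movR g → (∀ u ∈ U, g u ∈ U) →
      finrank F (movR g) - finrank F U ≤ n →
      orderOf (Fintype.card F : ZMod r) * finrank F (interOn f g (fixE g ⊔ U)) ≤
        (finrank F (movR g) - finrank F U) * finrank F (movR f) := by
  induction n with
  | zero =>
    intro U hU hUinv hn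
    have hle := Submodule.finrank_mono hU
    have hUeq : U = movR g := Submodule.eq_of_le_of_finrank_le hU (by omega)
    have hbot : interOn f g (fixE g ⊔ U) = ⊥ := by
      rw [eq_bot_iff]
      rintro T ⟨-, hT2⟩
      rw [Submodule.mem_bot]
      apply LinearMap.ext
      intro w
      apply hT2
      rw [hUeq, fix_sup_mov g r hg hr0]
      exact Submodule.mem_top
    rw [hbot, finrank_bot, mul_zero]
    exact Nat.zero_le _
  | succ n ih =>
    intro U hU hUinv hn
    by_cases hUeq : U = movR g
    · have hbot : interOn f g (fixE g ⊔ U) = ⊥ := by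
        rw [eq_bot_iff]
        rintro T ⟨-, hT2⟩
        rw [Submodule.mem_bot]
        apply LinearMap.ext
        intro w
        apply hT2
        rw [hUeq, fix_sup_mov g r hg hr0]
        exact Submodule.mem_top
      rw [hbot, finrank_bot, mul_zero]
      exact Nat.zero_le _
    · have hlt : U < movR g := lt_of_le_of_ne hU hUeq
      obtain ⟨w, hw, hwU⟩ := SetLike.exists_of_lt hlt
      have hgw : (g ^ r) w ∈ U ⊔ cyc g w r := by
        rw [hg, Module.End.one_apply]
        exact Submodule.mem_sup_right (self_mem_cyc g w r (Fact.out : r.Prime).pos)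
      have hU2inv : ∀ u ∈ U ⊔ cyc g w r, g u ∈ U ⊔ cyc g w r :=
        cyc_sup_invariant g w r U hUinv hgw
      have hcycle : cyc g w r ≤ movR g := by
        rw [cyc, Submodule.span_le]
        rintro _ ⟨j, rfl⟩
        show (g ^ (j : ℕ)) w ∈ movR g
        have : ∀ m : ℕ, (g ^ m) w ∈ movR g := by
          intro m
          induction m with
          | zero => exact hw
          | succ m ihm =>
            rw [pow_succ', Module.End.mul_apply]
            exact movR_invariant g _ ihm
        exact this _
      have hU2 : U ⊔ cyc g w r ≤ movR g := sup_le hU hcycle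
      have hlt2 : U < U ⊔ cyc g w r := by
        apply lt_of_le_of_ne le_sup_left
        intro h
        apply hwU
        rw [h]
        exact Submodule.mem_sup_right (self_mem_cyc g w r (Fact.out : r.Prime).pos)
      have hd1 := orderOf_dvd_finrank_of_le_movR g r hg hr0 U hUinv hU
      have hd2 := orderOf_dvd_finrank_of_le_movR g r hg hr0 _ hU2inv hU2
      have hflt := Submodule.finrank_lt_finrank_of_lt hlt2
      have hle2 := Submodule.finrank_mono hU2
      obtain ⟨c1, hc1⟩ := hd1
      obtain ⟨c2, hc2⟩ := hd2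
      set i := orderOf (Fintype.card F : ZMod r) with hi
      have hc12 : c1 < c2 := by
        rw [hc1, hc2] at hflt
        exact lt_of_mul_lt_mul_left hflt (Nat.zero_le _)
      have hstep := interOn_step f g (fixE g ⊔ U) w hw r
      rw [sup_assoc] at hstep
      have hih := ih (U ⊔ cyc g w r) hU2 hU2inv (by omega)
      set N1 := finrank F (interOn f g (fixE g ⊔ U))
      set N2 := finrank F (interOn f g (fixE g ⊔ (U ⊔ cyc g w r)))
      set m := finrank F (movR f)
      set Mv := finrank F (movR g)
      rw [hc2] at hih hle2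
      rw [hc1]
      have h5 : i * c1 + i ≤ i * c2 := by
        have := Nat.mul_le_mul_left i (Nat.succ_le_of_lt hc12)
        rw [Nat.mul_succ] at this
        exact this
      calc i * N1 ≤ i * (N2 + m) := Nat.mul_le_mul_left _ hstep
        _ = i * N2 + i * m := by ring
        _ ≤ (Mv - i * c2) * m + i * m := by omega
        _ = (Mv - i * c2 + i) * m := by ring
        _ ≤ (Mv - i * c1) * m := by
          apply Nat.mul_le_mul_right
          omega

/-- the bound for the dimension of the space of intertwiners -/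
theorem finrank_interOn_le (f : V →ₗ[F] V) (g : W →ₗ[F] W) (r : ℕ) [Fact r.Prime]
    (hg : g ^ r = 1) (hr0 : (r : F) ≠ 0) :
    orderOf (Fintype.card F : ZMod r) * finrank F (interOn f g ⊥) ≤
      orderOf (Fintype.card F : ZMod r) * (finrank F (fixE g) * finrank F (fixE f)) +
        finrank F (movR g) * finrank F (movR f) := by
  have hres := finrank_eq_inf_ker_add_map
    (LinearMap.lcomp F V (fixE g).subtype) (interOn f g ⊥)
  have h1 : interOn f g ⊥ ⊓ LinearMap.ker (LinearMap.lcomp F V (fixE g).subtype) ≤
      interOn f g (fixE g ⊔ ⊥) := by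
    rintro T ⟨⟨hT1, -⟩, hT3⟩
    refine ⟨hT1, ?_⟩
    intro u hu
    rw [sup_bot_eq] at hu
    have : (LinearMap.lcomp F V (fixE g).subtype) T = 0 := hT3
    have h2 := LinearMap.congr_fun this ⟨u, hu⟩
    exact h2
  have h2 : (interOn f g ⊥).map (LinearMap.lcomp F V (fixE g).subtype) ≤
      LinearMap.range (LinearMap.compRight F (M := fixE g) (fixE f).subtype) := by
    rintro _ ⟨T, ⟨hT1, -⟩, rfl⟩
    refine ⟨LinearMap.codRestrict (fixE f) (T ∘ₗ (fixE g).subtype) ?_, ?_⟩
    · intro u
      rw [mem_fixE, LinearMap.comp_apply, Submodule.subtype_apply, ← hT1,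
        (mem_fixE g _).1 u.2]
    · apply LinearMap.ext
      intro u
      rfl
  have h3 : finrank F (LinearMap.range (LinearMap.compRight F (M := fixE g) (fixE f).subtype)) =
      finrank F (fixE g) * finrank F (fixE f) := by
    rw [LinearMap.finrank_range_of_inj, Module.finrank_linearMap]
    intro S T hST
    apply LinearMap.ext
    intro u
    apply Subtype.ext
    exact LinearMap.congr_fun hST u
  have h4 := Submodule.finrank_mono h1
  have h5 := Submodule.finrank_mono h2
  rw [h3] at h5
  have h6 := interOn_induct f g r hg hr0 (finrank F (movR g)) ⊥ bot_le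
    (fun u hu => by rw [Submodule.mem_bot] at hu; rw [hu, map_zero]; exact Submodule.zero_mem _)
    (by rw [finrank_bot]; omega)
  rw [finrank_bot, Nat.sub_zero] at h6
  set i := orderOf (Fintype.card F : ZMod r)
  calc i * finrank F (interOn f g ⊥)
      = i * finrank F ↥(interOn f g ⊥ ⊓ LinearMap.ker (LinearMap.lcomp F V (fixE g).subtype)) +
        i * finrank F ↥((interOn f g ⊥).map (LinearMap.lcomp F V (fixE g).subtype)) := by
        rw [hres]; ring
    _ ≤ i * finrank F (interOn f g (fixE g ⊔ ⊥)) + i * (finrank F (fixE g) * finrank F (fixE f)) :=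
        Nat.add_le_add (Nat.mul_le_mul_left _ h4) (Nat.mul_le_mul_left _ h5)
    _ ≤ finrank F (movR g) * finrank F (movR f) +
        i * (finrank F (fixE g) * finrank F (fixE f)) := Nat.add_le_add_right h6 _
    _ = _ := by ring

end finite

end Cfsg.Agent.Lib.Helper12.TSp
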