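import Mathlib
import Cfsg.Agent.Lib.Helper12.TSpB

/-! Helper12 library (TSp, part C): the fixed space of a Kronecker product `A ⊗ B` as a space of
intertwiners, and the resulting lower bound for the rank of `A ⊗ B - 1`. -/

set_option autoImplicit false

namespace Cfsg.Agent.Lib.Helper12.TSp

open Module Matrix Cfsg.Agent.Lib.Helper12.Elus
open scoped Kronecker

section kron

variable {F : Type*} [Field F] {a b : ℕ}

/-- a vector over the product index as a rectangular matrix, as a linear map -/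
noncomputable def matLin : (Fin a × Fin b → F) ≃ₗ[F] ((Fin b → F) →ₗ[F] (Fin a → F)) :=
  ((LinearEquiv.curry F F (Fin a) (Fin b)).trans (Matrix.ofLinearEquiv F)).trans Matrix.toLin'

theorem matLin_apply (φ : Fin a × Fin b → F) :
    matLin φ = Matrix.toLin' (Matrix.of fun j k => φ (j, k)) := rfl

theorem of_kron_mulVec (A : Matrix (Fin a) (Fin a) F) (B : Matrix (Fin b) (Fin b) F)
    (φ : Fin a × Fin b → F) :
    (Matrix.of fun j k => ((A ⊗ₖ B) *ᵥ φ) (j, k)) =
      A * (Matrix.of fun j k => φ (j, k)) * Bᵀ := by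
  ext j k
  simp only [Matrix.of_apply, Matrix.mulVec, dotProduct, Matrix.kroneckerMap_apply,
    Fintype.sum_prod_type, Matrix.mul_apply, Matrix.transpose_apply, Finset.sum_mul]
  rw [Finset.sum_comm]
  apply Finset.sum_congr rfl
  intro k' _
  apply Finset.sum_congr rfl
  intro j' _
  ring

theorem mem_ker_kron_iff (A : Matrix (Fin a) (Fin a) F) (B Bi : Matrix (Fin b) (Fin b) F)
    (hB : B * Bi = 1) (hB' : Bi * B = 1) (φ : Fin a × Fin b → F) :
    φ ∈ LinearMap.ker ((A ⊗ₖ B) - 1).mulVecLin ↔
      matLin φ ∈ interOn (Matrix.toLin' A) (Matrix.toLin' Biᵀ) ⊥ := by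
  set M : Matrix (Fin a) (Fin b) F := Matrix.of fun j k => φ (j, k) with hM
  have hBt : Bᵀ * Biᵀ = 1 := by rw [← Matrix.transpose_mul, hB', Matrix.transpose_one]
  have hBt' : Biᵀ * Bᵀ = 1 := by rw [← Matrix.transpose_mul, hB, Matrix.transpose_one]
  rw [LinearMap.mem_ker, Matrix.mulVecLin_apply, Matrix.sub_mulVec, Matrix.one_mulVec, sub_eq_zero,
    mem_interOn, matLin_apply]
  constructor
  · intro h
    have h1 : A * M * Bᵀ = M := by
      rw [← of_kron_mulVec, h]
    refine ⟨fun w => ?_, fun u hu => ?_⟩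
    · have h4 : M * Biᵀ = A * M := by
        calc M * Biᵀ = A * M * Bᵀ * Biᵀ := by rw [h1]
          _ = A * M := by rw [Matrix.mul_assoc (A * M), hBt, Matrix.mul_one]
      simp only [Matrix.toLin'_apply, Matrix.mulVec_mulVec]
      rw [h4]
    · rw [Submodule.mem_bot] at hu
      rw [hu, map_zero]
  · rintro ⟨h, -⟩
    have h1 : M * Biᵀ = A * M := by
      apply Matrix.toLin'.injective
      apply LinearMap.ext
      intro w
      have := h w
      simp only [Matrix.toLin'_apply, Matrix.mulVec_mulVec] at this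
      rw [Matrix.toLin'_apply, Matrix.toLin'_apply]
      exact this
    have h2 : A * M * Bᵀ = M := by
      rw [← h1, Matrix.mul_assoc, hBt', Matrix.mul_one]
    have h3 := of_kron_mulVec A B φ
    rw [← hM, h2] at h3
    funext p
    obtain ⟨j, k⟩ := p
    have := congrFun (congrFun h3 j) k
    simpa [hM] using this

theorem finrank_ker_kron (A : Matrix (Fin a) (Fin a) F) (B Bi : Matrix (Fin b) (Fin b) F)
    (hB : B * Bi = 1) (hB' : Bi * B = 1) :
    finrank F (LinearMap.ker ((A ⊗ₖ B) - 1).mulVecLin) =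
      finrank F (interOn (Matrix.toLin' A) (Matrix.toLin' Biᵀ) ⊥) := by
  have hmap : (LinearMap.ker ((A ⊗ₖ B) - 1).mulVecLin).map
      ((matLin (F := F) (a := a) (b := b) : (Fin a × Fin b → F) ≃ₗ[F] _) :
        (Fin a × Fin b → F) →ₗ[F] _) =
      interOn (Matrix.toLin' A) (Matrix.toLin' Biᵀ) ⊥ := by
    ext T
    rw [Submodule.mem_map]
    constructor
    · rintro ⟨φ, hφ, rfl⟩
      exact (mem_ker_kron_iff A B Bi hB hB' φ).1 hφ
    · intro hT
      refine ⟨matLin.symm T, ?_, LinearEquiv.apply_symm_apply _ _⟩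
      rw [mem_ker_kron_iff A B Bi hB hB', LinearEquiv.apply_symm_apply]
      exact hT
  rw [← hmap, LinearEquiv.finrank_map_eq]

end kron

section ranks

variable {F : Type*} [Field F] {n : Type*} [Fintype n] [DecidableEq n]

theorem movR_toLin' (M : Matrix n n F) : finrank F (movR (Matrix.toLin' M)) = (M - 1).rank := by
  unfold Matrix.rank movR
  have : (M - 1).mulVecLin = Matrix.toLin' M - 1 := by
    apply LinearMap.ext
    intro v
    simp
  rw [this]

theorem fixE_toLin' (M : Matrix n n F) :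
    finrank F (fixE (Matrix.toLin' M)) + (M - 1).rank = Fintype.card n := by
  rw [← movR_toLin']
  have h := LinearMap.finrank_range_add_finrank_ker (Matrix.toLin' M - 1)
  rw [Module.finrank_fintype_fun_eq_card] at h
  unfold fixE movR
  omega

omit [DecidableEq n] in
theorem finrank_ker_mulVecLin (M : Matrix n n F) :
    finrank F (LinearMap.ker M.mulVecLin) + M.rank = Fintype.card n := by
  have h := LinearMap.finrank_range_add_finrank_ker M.mulVecLin
  rw [Module.finrank_fintype_fun_eq_card] at h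
  unfold Matrix.rank
  omega

theorem rank_inv_transpose_sub_one (B Bi : Matrix n n F) (hB' : Bi * B = 1) :
    (Biᵀ - 1).rank = (B - 1).rank := by
  have h1 : Biᵀ - 1 = (Bi - 1)ᵀ := by rw [Matrix.transpose_sub, Matrix.transpose_one]
  rw [h1, Matrix.rank_transpose]
  have h2 : Bi - 1 = (-Bi) * (B - 1) := by
    rw [Matrix.mul_sub, Matrix.neg_mul, hB', Matrix.mul_one]
    abel
  have hdet : IsUnit (-Bi).det := by
    rw [isUnit_iff_ne_zero]
    intro h0
    have h3 : (-Bi) * (-B) = 1 := by rw [neg_mul_neg, hB']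
    have := congrArg Matrix.det h3
    rw [Matrix.det_mul, h0, zero_mul, Matrix.det_one] at this
    exact zero_ne_one this
  rw [h2, Matrix.rank_mul_eq_right_of_isUnit_det _ _ hdet]

end ranks

section bound

variable {F : Type*} [Field F] [Fintype F] {a b : ℕ}

/-- the rank bound for Kronecker products with second factor of prime order -/
theorem kron_rank_bound (r : ℕ) [Fact r.Prime] (hr0 : (r : F) ≠ 0)
    (A : Matrix (Fin a) (Fin a) F) (B : Matrix (Fin b) (Fin b) F) (hBr : B ^ r = 1) :
    orderOf (Fintype.card F : ZMod r) * (a * b - ((A ⊗ₖ B) - 1).rank) ≤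
      orderOf (Fintype.card F : ZMod r) * ((b - (B - 1).rank) * (a - (A - 1).rank)) +
        (B - 1).rank * (A - 1).rank := by
  have hr1 : 1 ≤ r := (Fact.out : r.Prime).one_lt.le
  set Bi := B ^ (r - 1) with hBi
  have hB : B * Bi = 1 := by
    rw [hBi, ← pow_succ', Nat.sub_add_cancel hr1, hBr]
  have hB' : Bi * B = 1 := by
    rw [hBi, ← pow_succ, Nat.sub_add_cancel hr1, hBr]
  have hg : (Matrix.toLin' Biᵀ) ^ r = 1 := by
    have h1 : (Matrix.toLinAlgEquiv' Biᵀ) ^ r = Matrix.toLinAlgEquiv' (Biᵀ ^ r) :=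
      (map_pow _ _ _).symm
    have h2 : Biᵀ ^ r = 1 := by
      rw [← Matrix.transpose_pow, hBi, ← pow_mul, mul_comm, pow_mul, hBr, one_pow,
        Matrix.transpose_one]
    rw [h2, map_one] at h1
    exact h1
  have hmain := finrank_interOn_le (Matrix.toLin' A) (Matrix.toLin' Biᵀ) r hg hr0
  rw [← finrank_ker_kron A B Bi hB hB', movR_toLin', movR_toLin',
    rank_inv_transpose_sub_one B Bi hB'] at hmain
  have h1 := finrank_ker_mulVecLin ((A ⊗ₖ B) - 1)
  rw [Fintype.card_prod, Fintype.card_fin, Fintype.card_fin] at h1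
  have h2 := fixE_toLin' A
  have h3 := fixE_toLin' Biᵀ
  rw [rank_inv_transpose_sub_one B Bi hB'] at h3
  rw [Fintype.card_fin] at h2 h3
  have e1 : a * b - ((A ⊗ₖ B) - 1).rank =
      finrank F (LinearMap.ker ((A ⊗ₖ B) - 1).mulVecLin) := by omega
  have e2 : b - (B - 1).rank = finrank F (fixE (Matrix.toLin' Biᵀ)) := by omega
  have e3 : a - (A - 1).rank = finrank F (fixE (Matrix.toLin' A)) := by omega
  rw [e1, e2, e3]
  exact hmain

end bound

end Cfsg.Agent.Lib.Helper12.TSp
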