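import Mathlib
import Cfsg.Agent.Lib.Helper12.TSpB
import Cfsg.Agent.Lib.Helper12.SpA

/-! Helper12 library (TSp, part D): an isometry of odd prime order of a nondegenerate symmetric
bilinear form has a commutator space of even dimension. -/

set_option autoImplicit false

namespace Cfsg.Agent.Lib.Helper12.TSp

open Module Cfsg.Agent.Lib.Helper12.Elus Cfsg.Agent.Lib.Helper12.Sp

section olemma

variable {F : Type*} [Field F] {V : Type*} [AddCommGroup V] [Module F V] [FiniteDimensional F V]

theorem even_movR_of_iso_symm (S : LinearMap.BilinForm F V) (hsym : ∀ u v, S u v = S v u)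
    (hnd : ∀ x, (∀ y, S x y = 0) → x = 0) (y : V →ₗ[F] V)
    (hiso : ∀ u v, S (y u) (y v) = S u v) (r : ℕ) [Fact r.Prime] (hr2 : r ≠ 2)
    (hy : y ^ r = 1) (hr0 : (r : F) ≠ 0) : Even (finrank F (movR y)) := by
  have hr1 : 1 ≤ r := (Fact.out : r.Prime).one_lt.le
  set yi := y ^ (r - 1) with hyi
  have h1 : ∀ u, y (yi u) = u := by
    intro u
    rw [hyi, ← Module.End.mul_apply, ← pow_succ', Nat.sub_add_cancel hr1, hy, Module.End.one_apply]
  have h2 : ∀ u, yi (y u) = u := by
    intro u
    rw [hyi, ← Module.End.mul_apply, ← pow_succ, Nat.sub_add_cancel hr1, hy, Module.End.one_apply]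
  have hisoi : ∀ u v, S (yi u) (yi v) = S u v := by
    intro u v
    rw [← hiso (yi u) (yi v), h1, h1]
  set ω : LinearMap.BilinForm F V := S ∘ₗ (y - yi) with hω
  have hωa : ∀ u v, ω u v = S (y u) v - S (yi u) v := by
    intro u v
    rw [hω, LinearMap.comp_apply, LinearMap.sub_apply, map_sub, LinearMap.sub_apply]
  have halt : ∀ v, ω v v = 0 := by
    intro v
    rw [hωa, sub_eq_zero]
    calc S (y v) v = S v (y v) := hsym _ _
      _ = S (yi v) (yi (y v)) := (hisoi _ _).symm
      _ = S (yi v) v := by rw [h2]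
  have hndω : NdOn ω (movR y) := by
    intro u hu hu0
    by_contra hcon
    push Not at hcon
    apply hu0
    have hall : ∀ v, ω u v = 0 := by
      intro v
      have hv : v ∈ fixE y ⊔ movR y := by
        rw [fix_sup_mov y r hy hr0]
        exact Submodule.mem_top
      obtain ⟨v₁, hv₁, v₂, hv₂, rfl⟩ := Submodule.mem_sup.1 hv
      rw [map_add, hcon v₂ hv₂, add_zero, hωa, sub_eq_zero]
      have hyv : y v₁ = v₁ := (mem_fixE y v₁).1 hv₁
      have hyiv : yi v₁ = v₁ := by
        nth_rewrite 1 [← hyv]
        exact h2 v₁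
      calc S (y u) v₁ = S (y u) (y v₁) := by rw [hyv]
        _ = S u v₁ := hiso _ _
        _ = S (yi u) (yi v₁) := (hisoi _ _).symm
        _ = S (yi u) v₁ := by rw [hyiv]
    have h3 : (y - yi) u = 0 := by
      apply hnd
      intro v
      have := hall v
      rw [hω, LinearMap.comp_apply] at this
      exact this
    have h4 : y u = yi u := by
      rw [LinearMap.sub_apply] at h3
      exact sub_eq_zero.1 h3
    have h5 : y (y u) = u := by rw [h4, h1]
    have h6 : ∀ m : ℕ, (y ^ (2 * m)) u = u := by
      intro m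
      induction m with
      | zero => rfl
      | succ m ih =>
        rw [Nat.mul_succ, pow_add, Module.End.mul_apply, pow_two, Module.End.mul_apply, h5, ih]
    have hodd : Odd r := (Fact.out : r.Prime).odd_of_ne_two hr2
    obtain ⟨m, hm⟩ := hodd
    have h7 : y u = u := by
      have h8 : (y ^ r) u = u := by rw [hy, Module.End.one_apply]
      rw [hm, pow_succ', Module.End.mul_apply, h6] at h8
      exact h8
    have h9 : u ∈ fixE y ⊓ movR y := ⟨(mem_fixE y u).2 h7, hu⟩
    rw [fix_inf_mov y r hy hr0] at h9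
    exact (Submodule.mem_bot F).1 h9
  exact even_finrank_of_ndOn ω halt (movR y) hndω

end olemma

end Cfsg.Agent.Lib.Helper12.TSp
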