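import Mathlib
import Cfsg.Prelude.Def_GeometricClasses
import Cfsg.Agent.Lib.Helper9.TensA
import Cfsg.Agent.Lib.Helper12.TSpC
import Cfsg.Agent.Lib.Helper12.TSpD
import Cfsg.Agent.Lib.Helper12.SpB
import Cfsg.Agent.Lib.Helper12.ElusF

/-! Helper12 library (TSp, part E): Kronecker products `A ⊗ B` preserving the tensor product of a
symplectic and a symmetric form do not have the commutator rank of the smallest elements of prime
order of the symplectic group. -/

set_option autoImplicit false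

namespace Cfsg.Agent.Lib.Helper12.TSp

open Module Matrix Cfsg.Agent.Lib.Helper12.Elus Cfsg.Agent.Lib.Helper12.Sp
open Cfsg.Agent.Lib.Helper9.TensA
open scoped Kronecker

section small

variable {F : Type*} [Field F] {a b : ℕ}

/-- a Kronecker product whose commutator rank is smaller than `b` has scalar first factor -/
theorem dvd_rank_of_lt (A : Matrix (Fin a) (Fin a) F) (B : Matrix (Fin b) (Fin b) F)
    (hB : B.det ≠ 0) (h : ((A ⊗ₖ B) - 1).rank < b) : a ∣ ((A ⊗ₖ B) - 1).rank := by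
  by_cases hA : ∃ α : F, A = α • 1
  · obtain ⟨α, rfl⟩ := hA
    have h1 := scalar_kron_sub (a := a) α 1 B
    rw [one_smul, one_smul] at h1
    rw [h1, rank_one_kron]
    exact Dvd.intro _ rfl
  · push Not at hA
    have h1 := rank_ge_of_nonscalar A B hA hB 1
    rw [one_smul] at h1
    omega

theorem pow_of_one_kron (M : Matrix (Fin b) (Fin b) F) (ha : 0 < a) (hb : 0 < b) (r : ℕ)
    (h : ((1 : Matrix (Fin a) (Fin a) F) ⊗ₖ M) ^ r = 1) : M ^ r = 1 := by
  rw [kron_pow, one_pow] at h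
  have h1 : (1 : Matrix (Fin a) (Fin a) F) ⊗ₖ (M ^ r) =
      (1 : F) • (1 : Matrix (Fin a × Fin b) (Fin a × Fin b) F) := by rw [h, one_smul]
  obtain ⟨s, t, hst, hs, ht⟩ := scalar_of_kron_scalar _ _ 1 one_ne_zero ha hb h1
  have hs1 : s = 1 := by
    have := congrFun (congrFun hs ⟨0, ha⟩) ⟨0, ha⟩
    simpa using this.symm
  rw [hs1, one_mul] at hst
  rw [ht, hst, one_smul]

end small

section forms

variable {F : Type*} [Field F] {κ : Type} [Fintype κ] [DecidableEq κ]

/-- a bilinear form in the sense of the prelude as a Mathlib bilinear form -/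
noncomputable def bilOf (f : (κ → F) → (κ → F) → F) (hb : Cfsg.Geo.IsBilinearForm f) :
    LinearMap.BilinForm F (κ → F) :=
  LinearMap.mk₂ F f hb.add_left (fun c x v => by rw [hb.smul_left, smul_eq_mul]) hb.add_right
    (fun c v x => by rw [hb.smul_right, smul_eq_mul])

omit [Fintype κ] [DecidableEq κ] in
theorem bilOf_apply (f : (κ → F) → (κ → F) → F) (hb : Cfsg.Geo.IsBilinearForm f) (u v : κ → F) :
    bilOf f hb u v = f u v := rfl

end forms

section finite

variable {F : Type*} [Field F] [Fintype F] {p : ℕ} [Fact p.Prime] [CharP F p] {a b : ℕ}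

omit [Fintype F] in
theorem r_ne_zero (r : ℕ) [Fact r.Prime] (hrp : r ≠ p) : (r : F) ≠ 0 := by
  rw [Ne, CharP.cast_eq_zero_iff F p]
  intro hd
  exact hrp ((Nat.prime_dvd_prime_iff_eq Fact.out Fact.out).1 hd).symm

theorem orderOf_dvd_rank {n : ℕ} (r : ℕ) [Fact r.Prime] (hrp : r ≠ p)
    (M : Matrix (Fin n) (Fin n) F) (hM : M ^ r = 1) :
    orderOf (Fintype.card F : ZMod r) ∣ (M - 1).rank := by
  have hf : (Matrix.toLin' M) ^ r = 1 := by
    have h1 : (Matrix.toLinAlgEquiv' M) ^ r = Matrix.toLinAlgEquiv' (M ^ r) := (map_pow _ _ _).symm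
    rw [hM, map_one] at h1
    exact h1
  rw [← movR_toLin']
  exact orderOf_dvd_finrank_of_le_movR (Matrix.toLin' M) r hf (r_ne_zero r hrp)
    (movR (Matrix.toLin' M)) (movR_invariant _) le_rfl

omit [Fintype F] in
theorem even_rank_of_isometry {n : ℕ} (r : ℕ) [Fact r.Prime] (hrp : r ≠ p) (hr2 : r ≠ 2)
    (f₂ : (Fin n → F) → (Fin n → F) → F) (hf₂ : Cfsg.Geo.IsSymmetricForm f₂)
    (M : Matrix (Fin n) (Fin n) F) (hM : M ^ r = 1)
    (hiso : ∀ v v', f₂ (M *ᵥ v) (M *ᵥ v') = f₂ v v') : Even (M - 1).rank := by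
  have hf : (Matrix.toLin' M) ^ r = 1 := by
    have h1 : (Matrix.toLinAlgEquiv' M) ^ r = Matrix.toLinAlgEquiv' (M ^ r) := (map_pow _ _ _).symm
    rw [hM, map_one] at h1
    exact h1
  rw [← movR_toLin']
  apply even_movR_of_iso_symm (bilOf f₂ hf₂.bilinear) (fun u v => hf₂.symm u v) ?_
    (Matrix.toLin' M) ?_ r hr2 hf (r_ne_zero r hrp)
  · intro x hx
    by_contra hx0
    obtain ⟨-, ⟨y, hy⟩⟩ := hf₂.nondegenerate x hx0
    exact hy (hx y)
  · intro u v
    rw [bilOf_apply, bilOf_apply, Matrix.toLin'_apply, Matrix.toLin'_apply]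
    exact hiso u v

theorem exists_root (r : ℕ) [Fact r.Prime] (hr : ¬ r ∣ Fintype.card F - 1) (s : F) (hs : s ≠ 0) :
    ∃ t : F, t ≠ 0 ∧ t ^ r = s := by
  classical
  have hcop : (Nat.card Fˣ).Coprime r := by
    rw [Nat.card_eq_fintype_card, Fintype.card_units]
    exact ((Nat.Prime.coprime_iff_not_dvd Fact.out).2 hr).symm
  obtain ⟨t, ht⟩ := (powCoprime hcop).surjective (Units.mk0 s hs)
  refine ⟨(t : F), t.ne_zero, ?_⟩
  have := congrArg Units.val ht
  simpa using this

/-- the case of a scalar first factor -/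
theorem contra_scalar (r : ℕ) [Fact r.Prime] (hrp : r ≠ p) (hr2 : r ≠ 2) (ha2 : 2 ≤ a)
    (hb : 3 ≤ b)
    (f₁ : (Fin a → F) → (Fin a → F) → F) (f₂ : (Fin b → F) → (Fin b → F) → F)
    (hf₁ : Cfsg.Geo.IsSymplecticForm f₁) (hf₂ : Cfsg.Geo.IsSymmetricForm f₂)
    (α : F) (B : Matrix (Fin b) (Fin b) F)
    (hform : ∀ u u' v v', f₁ ((α • (1 : Matrix (Fin a) (Fin a) F)) *ᵥ u)
      ((α • (1 : Matrix (Fin a) (Fin a) F)) *ᵥ u') * f₂ (B *ᵥ v) (B *ᵥ v') = f₁ u u' * f₂ v v')
    (hK : (((α • (1 : Matrix (Fin a) (Fin a) F)) ⊗ₖ B)) ^ r = 1)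
    (hrank : (((α • (1 : Matrix (Fin a) (Fin a) F)) ⊗ₖ B) - 1).rank =
      blockDim (Fintype.card F) r) : False := by
  have hK1 : (α • (1 : Matrix (Fin a) (Fin a) F)) ⊗ₖ B =
      (1 : Matrix (Fin a) (Fin a) F) ⊗ₖ (α • B) := by
    rw [Matrix.smul_kronecker, Matrix.kronecker_smul]
  rw [hK1] at hK hrank
  have hBr : (α • B) ^ r = 1 := pow_of_one_kron _ (by omega) (by omega) r hK
  -- isometry
  have hiso : ∀ v v', f₂ ((α • B) *ᵥ v) ((α • B) *ᵥ v') = f₂ v v' := by
    intro v v'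
    obtain ⟨u₀, hu₀⟩ : ∃ u₀ : Fin a → F, u₀ ≠ 0 := by
      refine ⟨Pi.single ⟨0, by omega⟩ 1, ?_⟩
      intro h
      have := congrFun h ⟨0, by omega⟩
      simp at this
    obtain ⟨⟨u, hu⟩, -⟩ := hf₁.nondegenerate u₀ hu₀
    have h1 := hform u u₀ v v'
    rw [Matrix.smul_mulVec, Matrix.one_mulVec, Matrix.smul_mulVec, Matrix.one_mulVec,
      hf₁.bilinear.smul_left, hf₁.bilinear.smul_right] at h1
    rw [Matrix.smul_mulVec, Matrix.smul_mulVec, hf₂.bilinear.smul_left, hf₂.bilinear.smul_right]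
    have h2 : f₁ u u₀ * (α * (α * f₂ (B *ᵥ v) (B *ᵥ v'))) = f₁ u u₀ * f₂ v v' := by
      rw [← h1]; ring
    exact mul_left_cancel₀ hu h2
  have hev := even_rank_of_isometry r hrp hr2 f₂ hf₂ (α • B) hBr hiso
  have hdv := orderOf_dvd_rank r hrp (α • B) hBr
  have hsub : (1 : Matrix (Fin a) (Fin a) F) ⊗ₖ (α • B) - 1 =
      (1 : Matrix (Fin a) (Fin a) F) ⊗ₖ (α • B - 1) := by
    have h1 := scalar_kron_sub (a := a) (1 : F) 1 (α • B)
    simp only [one_smul] at h1
    exact h1
  rw [hsub, rank_one_kron] at hrank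
  set ρ := (α • B - 1).rank
  set i := orderOf (Fintype.card F : ZMod r) with hi
  have hbpos : 0 < blockDim (Fintype.card F) r := blockDim_pos (p := p) r hrp
  have hρpos : 0 < ρ := by
    rcases Nat.eq_zero_or_pos ρ with h0 | h0
    · rw [h0, mul_zero] at hrank
      omega
    · exact h0
  rw [blockDim] at hrank
  split_ifs at hrank with hie
  · -- `i` even
    have h1 : i ≤ ρ := Nat.le_of_dvd hρpos hdv
    have h2 : 2 * ρ ≤ a * ρ := Nat.mul_le_mul_right _ ha2
    omega
  · have hodd : Odd i := Nat.not_even_iff_odd.1 hie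
    have h1 : 2 * i ∣ ρ :=
      Nat.Coprime.mul_dvd_of_dvd_of_dvd (Nat.coprime_two_left.2 hodd) hev.two_dvd hdv
    have h2 : 2 * i ≤ ρ := Nat.le_of_dvd hρpos h1
    have h3 : 2 * ρ ≤ a * ρ := Nat.mul_le_mul_right _ ha2
    have hipos : 0 < i := by
      rcases Nat.eq_zero_or_pos i with h0 | h0
      · rw [h0] at hodd
        exact absurd hodd (by decide)
      · exact h0
    omega

omit [Fintype F] in
theorem rank_pos_of_ne_zero {n : ℕ} (M : Matrix (Fin n) (Fin n) F) (hM : M ≠ 0) : 0 < M.rank := by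
  rcases Nat.eq_zero_or_pos M.rank with h0 | h0
  · exfalso
    apply hM
    unfold Matrix.rank at h0
    have h2 : LinearMap.range M.mulVecLin = ⊥ := by
      rw [← Submodule.finrank_eq_zero]
      exact h0
    rw [LinearMap.range_eq_bot] at h2
    ext i j
    have := congrFun (LinearMap.congr_fun h2 (Pi.single j 1)) i
    simp only [Matrix.mulVecLin_apply, Matrix.mulVec_single_one, LinearMap.zero_apply,
      Pi.zero_apply] at this
    rw [Matrix.zero_apply, ← this]
    rfl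
  · exact h0

/-- the case of a nonscalar first factor -/
theorem contra_nonscalar (r : ℕ) [Fact r.Prime] (hrp : r ≠ p) (hae : Even a)
    (hb : 3 ≤ b) (A : Matrix (Fin a) (Fin a) F) (B : Matrix (Fin b) (Fin b) F)
    (hBdet : B.det ≠ 0) (hAns : ∀ c : F, A ≠ c • 1)
    (hK : (A ⊗ₖ B) ^ r = 1)
    (hrank : ((A ⊗ₖ B) - 1).rank = blockDim (Fintype.card F) r) : False := by
  have hge := rank_ge_of_nonscalar A B hAns hBdet 1
  rw [one_smul] at hge
  have hbpos : 0 < blockDim (Fintype.card F) r := blockDim_pos (p := p) r hrp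
  set i := orderOf (Fintype.card F : ZMod r) with hi
  have hR2 : blockDim (Fintype.card F) r ≤ 2 * i := by
    rw [blockDim]
    split_ifs <;> omega
  have hipos : 0 < i := by
    rcases Nat.eq_zero_or_pos i with h0 | h0
    · rw [h0] at hR2; omega
    · exact h0
  have ha0 : 0 < a := by
    rcases Nat.eq_zero_or_pos a with h0 | h0
    · exfalso
      subst h0
      apply hAns 0
      ext j
      exact j.elim0
    · exact h0
  by_cases hi1 : i = 1
  · rw [hi1] at hR2
    omega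
  have hi2 : 2 ≤ i := by omega
  have hr1 : ¬ r ∣ Fintype.card F - 1 := by
    intro hd
    exact hi1 ((orderOf_card_eq_one_iff (F := F) r).2 hd)
  have hpow : (A ⊗ₖ B) ^ r = (1 : F) • 1 := by rw [hK, one_smul]
  rw [kron_pow] at hpow
  obtain ⟨s, t, hst, hAr, hBr⟩ := scalar_of_kron_scalar _ _ 1 one_ne_zero ha0 (by omega) hpow
  have hs0 : s ≠ 0 := by
    rintro rfl
    rw [zero_mul] at hst
    exact zero_ne_one hst
  obtain ⟨t', ht'0, ht'⟩ := exists_root r hr1 s hs0
  set A' : Matrix (Fin a) (Fin a) F := t'⁻¹ • A with hA'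
  set B' : Matrix (Fin b) (Fin b) F := t' • B with hB'
  have hA'r : A' ^ r = 1 := by
    rw [hA', smul_pow, hAr, smul_smul, inv_pow, ht', inv_mul_cancel₀ hs0, one_smul]
  have hB'r : B' ^ r = 1 := by
    rw [hB', smul_pow, hBr, smul_smul, ht', hst, one_smul]
  have hKK : A' ⊗ₖ B' = A ⊗ₖ B := by
    rw [hA', hB', Matrix.smul_kronecker, Matrix.kronecker_smul, smul_smul, inv_mul_cancel₀ ht'0,
      one_smul]
  have hA'1 : A' - 1 ≠ 0 := by
    intro h0
    apply hAns t'
    have h1 : A' = 1 := sub_eq_zero.mp h0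
    rw [hA'] at h1
    have := congrArg (fun M => t' • M) h1
    simp only [smul_smul, mul_inv_cancel₀ ht'0, one_smul] at this
    exact this
  have hbound := kron_rank_bound r (r_ne_zero r hrp) A' B' hB'r
  rw [hKK, hrank] at hbound
  have hda := orderOf_dvd_rank r hrp A' hA'r
  have hdb := orderOf_dvd_rank r hrp B' hB'r
  have hla : (A' - 1).rank ≤ a := by
    have := Matrix.rank_le_width (A' - 1)
    simpa using this
  have hlb : (B' - 1).rank ≤ b := by
    have := Matrix.rank_le_width (B' - 1)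
    simpa using this
  have hapos : 0 < (A' - 1).rank := rank_pos_of_ne_zero _ hA'1
  have hRab : blockDim (Fintype.card F) r ≤ a * b := by
    rw [← hrank]
    have := Matrix.rank_le_card_width ((A ⊗ₖ B) - 1 : Matrix (Fin a × Fin b) (Fin a × Fin b) F)
    rw [Fintype.card_prod, Fintype.card_fin, Fintype.card_fin] at this
    exact this
  rw [← hi] at hda hdb hbound
  obtain ⟨a₁, ha₁⟩ := hda
  obtain ⟨b₁, hb₁⟩ := hdb
  set R := blockDim (Fintype.card F) r with hR
  obtain ⟨a₀, ha₀⟩ : ∃ a₀, a = (A' - 1).rank + a₀ := ⟨a - (A' - 1).rank, by omega⟩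
  obtain ⟨b₀, hb₀⟩ : ∃ b₀, b = (B' - 1).rank + b₀ := ⟨b - (B' - 1).rank, by omega⟩
  rw [ha₁] at ha₀ hapos
  rw [hb₁] at hb₀
  have e1 : b - (B' - 1).rank = b₀ := by rw [hb₁]; omega
  have e2 : a - (A' - 1).rank = a₀ := by rw [ha₁]; omega
  rw [e1, e2, ha₁, hb₁] at hbound
  have ha₁pos : 0 < a₁ := by
    rcases Nat.eq_zero_or_pos a₁ with h0 | h0
    · rw [h0, mul_zero] at hapos; omega
    · exact h0
  -- the key inequality
  have hE : i * i * (a₁ * b₁) + i * (a₁ * b₀) + i * (a₀ * b₁) ≤ R + i * (a₁ * b₁) := by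
    have h1 : i * (a * b - R) ≤ i * (b₀ * a₀ + i * (a₁ * b₁)) := by
      calc i * (a * b - R) ≤ i * (b₀ * a₀) + i * b₁ * (i * a₁) := hbound
        _ = i * (b₀ * a₀ + i * (a₁ * b₁)) := by ring
    have h2 : a * b - R ≤ b₀ * a₀ + i * (a₁ * b₁) := Nat.le_of_mul_le_mul_left h1 hipos
    have h3 : a * b = i * i * (a₁ * b₁) + i * (a₁ * b₀) + i * (a₀ * b₁) + b₀ * a₀ := by
      rw [ha₀, hb₀]; ring
    omega
  generalize hX : a₁ * b₁ = X at hE
  generalize hY : a₁ * b₀ = Y at hE
  generalize hZ : a₀ * b₁ = Z at hE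
  rcases Nat.eq_zero_or_pos b₁ with hb0 | hbpos1
  · -- second factor trivial
    rw [hb0, mul_zero, zero_add] at hb₀
    have hY3 : 3 ≤ Y := by
      rw [← hY, ← hb₀]
      calc 3 = 1 * 3 := by norm_num
        _ ≤ a₁ * b := Nat.mul_le_mul ha₁pos hb
    have : i * 3 ≤ i * Y := Nat.mul_le_mul_left _ hY3
    have hX0 : X = 0 := by rw [← hX, hb0, mul_zero]
    rw [hX0] at hE
    omega
  · have hX1 : 1 ≤ X := by rw [← hX]; exact Nat.mul_pos ha₁pos hbpos1
    have hW : i ≤ i * X := Nat.le_mul_of_pos_right _ hX1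
    have hi3 : i ≤ 3 := by
      by_contra hcon
      push Not at hcon
      have h4 : 4 * (i * X) ≤ i * i * X := by
        calc 4 * (i * X) ≤ i * (i * X) := Nat.mul_le_mul_right _ hcon
          _ = i * i * X := by ring
      omega
    have hi23 : i = 2 ∨ i = 3 := by omega
    rcases hi23 with h2 | h3
    · have hRv : R = 2 := by
        rw [hR, blockDim, ← hi, h2]
        simp
      omega
    · have hRv : R = 6 := by
        rw [hR, blockDim, ← hi, h3]
        simp [Nat.even_iff]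
      rw [h3, hRv] at hE
      have hXe : X = 1 := by omega
      have hZe : Z = 0 := by omega
      rw [hXe] at hX
      have ha1 : a₁ = 1 := Nat.eq_one_of_mul_eq_one_right hX
      have hb1 : b₁ = 1 := Nat.eq_one_of_mul_eq_one_left hX
      rw [hZe, hb1, mul_one] at hZ
      rw [ha1, hZ, h3] at ha₀
      rw [ha₀] at hae
      exact absurd hae (by decide)

end finite

end Cfsg.Agent.Lib.Helper12.TSp
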