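import Mathlib
import Cfsg.Prelude.Def_GeometricClasses
import Cfsg.Agent.Lib.Helper5.TensorGen
import Cfsg.Agent.Lib.Helper12.TSpA
import Cfsg.Agent.Lib.Helper12.TSpE
import Cfsg.Agent.Lib.Helper12.SpE
import Cfsg.Agent.Lib.Helper12.C3SpD
import Cfsg.Agent.Lib.Helper12.C3SpF

/-! Helper12 library (TSp, part F): elements of prime order of `Sp_2d(q)` not conjugate into the
stabilizer of a tensor decomposition `Sp_a ⊗ O_b` (forward direction of S5980). -/

set_option autoImplicit false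
set_option linter.style.haveILetI false

namespace Cfsg.Agent.Lib.Helper12.TSp

open Module Matrix Cfsg.Agent.Lib.Helper12.Elus Cfsg.Agent.Lib.Helper12.Sp
open Cfsg.Agent.Lib.Helper12.C3Sp Cfsg.Agent.Lib.Helper5.TensorGen
open scoped Kronecker

section structure_

variable {F : Type*} [Field F] {d a b : ℕ}

/-- elements of the symplectic group in the tensor product subgroup -/
theorem struct_of_mem (e : (Fin d ⊕ Fin d) ≃ Fin a × Fin b) (P : GL (Fin d ⊕ Fin d) F)
    (f₁ : (Fin a → F) → (Fin a → F) → F) (f₂ : (Fin b → F) → (Fin b → F) → F)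
    (hf₁ : Cfsg.Geo.IsBilinearForm f₁) (hf₂ : Cfsg.Geo.IsBilinearForm f₂)
    (hS : Cfsg.Geo.IsTensorFormStructure id (Cfsg.sympForm d F) f₁ f₂ e P)
    (y : GL (Fin d ⊕ Fin d) F) (hy : y ∈ Cfsg.spGL d F)
    (hyH : y ∈ Cfsg.Geo.tensorProductSubgroup a b e P) :
    ∃ (A : GL (Fin a) F) (B : GL (Fin b) F),
      (y : Matrix (Fin d ⊕ Fin d) (Fin d ⊕ Fin d) F) =
        conjK e P ((A : Matrix (Fin a) (Fin a) F) ⊗ₖ (B : Matrix (Fin b) (Fin b) F)) ∧
      ∀ u u' v v', f₁ ((A : Matrix (Fin a) (Fin a) F) *ᵥ u) ((A : Matrix (Fin a) (Fin a) F) *ᵥ u') *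
        f₂ ((B : Matrix (Fin b) (Fin b) F) *ᵥ v) ((B : Matrix (Fin b) (Fin b) F) *ᵥ v') =
          f₁ u u' * f₂ v v' := by
  obtain ⟨A, B, hAB⟩ := (mem_tps_iff e P y).1 hyH
  refine ⟨A, B, hAB, ?_⟩
  obtain ⟨c, hc0, hc⟩ := hS
  intro u u' v v'
  have h1 := (mem_spGL' d y).1 hy ((P : Matrix _ _ F) *ᵥ (pt u v ∘ e))
    ((P : Matrix _ _ F) *ᵥ (pt u' v' ∘ e))
  rw [hAB, conjK_mulVec, conjK_mulVec, hc, hc, kron_mulVec_pt, kron_mulVec_pt,
    formOfGram_pt _ (fun _ _ => rfl), formOfGram_pt _ (fun _ _ => rfl),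
    ← bf_eq_formOfGram f₁ hf₁, ← bf_eq_formOfGram f₁ hf₁, ← bf_eq_formOfGram f₂ hf₂,
    ← bf_eq_formOfGram f₂ hf₂] at h1
  exact mul_left_cancel₀ hc0 h1

end structure_

section ranks

variable {F : Type*} [Field F] {n : Type*} [Fintype n] [DecidableEq n]

theorem rank_smul_one (c : F) (hc : c ≠ 0) : (c • (1 : Matrix n n F)).rank = Fintype.card n := by
  have h : IsUnit (c • (1 : Matrix n n F)).det := by
    rw [Matrix.det_smul, Matrix.det_one, mul_one]
    exact (pow_ne_zero _ hc).isUnit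
  exact Matrix.rank_of_isUnit _ ((Matrix.isUnit_iff_isUnit_det _).2 h)

theorem rank_conj_sub_one (x g : GL n F) :
    (((g⁻¹ * x * g : GL n F) : Matrix n n F) - 1).rank = ((x : Matrix n n F) - 1).rank := by
  have h1 : ((g⁻¹ * x * g : GL n F) : Matrix n n F) - 1 =
      ((g⁻¹ : GL n F) : Matrix n n F) * ((x : Matrix n n F) - 1) * (g : Matrix n n F) := by
    have h0 : ((g⁻¹ : GL n F) : Matrix n n F) * (g : Matrix n n F) = 1 := by
      rw [← Units.val_mul, inv_mul_cancel, Units.val_one]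
    rw [Matrix.mul_sub, Matrix.sub_mul, Matrix.mul_one, h0, Units.val_mul, Units.val_mul]
  have hg : IsUnit (g : Matrix n n F).det := (Matrix.isUnit_iff_isUnit_det _).mp g.isUnit
  have hgi : IsUnit ((g⁻¹ : GL n F) : Matrix n n F).det :=
    (Matrix.isUnit_iff_isUnit_det _).mp (g⁻¹).isUnit
  rw [h1, Matrix.rank_mul_eq_left_of_isUnit_det _ _ hg,
    Matrix.rank_mul_eq_right_of_isUnit_det _ _ hgi]

end ranks

section fwd

variable {F : Type*} [Field F] [Fintype F] {d a b : ℕ}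

theorem two_ne_zero' (hodd : Odd (Fintype.card F)) : (2 : F) ≠ 0 := by
  intro h2
  haveI : CharP F 2 := CharTwo.of_one_ne_zero_of_two_eq_zero one_ne_zero h2
  haveI : Fact (Nat.Prime 2) := ⟨Nat.prime_two⟩
  obtain ⟨n, -, hn⟩ := FiniteField.card F 2
  rw [hn] at hodd
  have : Even (2 ^ (n : ℕ)) := (Nat.even_pow' n.ne_zero).2 even_two
  exact (Nat.not_even_iff_odd.2 hodd) this

omit [Fintype F] in
/-- a symplectic matrix of order `r` which is conjugate into the tensor product subgroup yields a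
Kronecker product with the same commutator rank -/
theorem key (e : (Fin d ⊕ Fin d) ≃ Fin a × Fin b) (P : GL (Fin d ⊕ Fin d) F)
    (f₁ : (Fin a → F) → (Fin a → F) → F) (f₂ : (Fin b → F) → (Fin b → F) → F)
    (hf₁ : Cfsg.Geo.IsBilinearForm f₁) (hf₂ : Cfsg.Geo.IsBilinearForm f₂)
    (hS : Cfsg.Geo.IsTensorFormStructure id (Cfsg.sympForm d F) f₁ f₂ e P) (r : ℕ)
    (hall : ∀ x ∈ Cfsg.spGL d F,
      (∃ z : F, ((x ^ r : GL (Fin d ⊕ Fin d) F) : Matrix (Fin d ⊕ Fin d) (Fin d ⊕ Fin d) F) =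
        z • (1 : Matrix (Fin d ⊕ Fin d) (Fin d ⊕ Fin d) F)) →
      (∀ z : F, (x : Matrix (Fin d ⊕ Fin d) (Fin d ⊕ Fin d) F) ≠
        z • (1 : Matrix (Fin d ⊕ Fin d) (Fin d ⊕ Fin d) F)) →
      ∃ g ∈ Cfsg.spGL d F, g⁻¹ * x * g ∈ Cfsg.Geo.tensorProductSubgroup a b e P)
    (M : Matrix (Fin d ⊕ Fin d) (Fin d ⊕ Fin d) F) (hM : M ∈ Matrix.symplecticGroup (Fin d) F)
    (hMr : M ^ r = 1) (hns : ∀ z : F, M ≠ z • 1) :
    ∃ (A : GL (Fin a) F) (B : GL (Fin b) F),
      ((A : Matrix (Fin a) (Fin a) F) ⊗ₖ (B : Matrix (Fin b) (Fin b) F)) ^ r = 1 ∧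
      (((A : Matrix (Fin a) (Fin a) F) ⊗ₖ (B : Matrix (Fin b) (Fin b) F)) - 1).rank =
        (M - 1).rank ∧
      ∀ u u' v v', f₁ ((A : Matrix (Fin a) (Fin a) F) *ᵥ u) ((A : Matrix (Fin a) (Fin a) F) *ᵥ u') *
        f₂ ((B : Matrix (Fin b) (Fin b) F) *ᵥ v) ((B : Matrix (Fin b) (Fin b) F) *ᵥ v') =
          f₁ u u' * f₂ v v' := by
  set x := glOfSp d M hM with hx
  have hxv : (x : Matrix (Fin d ⊕ Fin d) (Fin d ⊕ Fin d) F) = M := rfl
  have hxr : ((x ^ r : GL (Fin d ⊕ Fin d) F) : Matrix (Fin d ⊕ Fin d) (Fin d ⊕ Fin d) F) = 1 := by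
    rw [Units.val_pow_eq_pow_val, hxv, hMr]
  obtain ⟨g, hg, hgx⟩ := hall x (glOfSp_mem d M hM) ⟨1, by rw [hxr, one_smul]⟩
    (fun z => by rw [hxv]; exact hns z)
  have hy : g⁻¹ * x * g ∈ Cfsg.spGL d F :=
    (Cfsg.spGL d F).mul_mem ((Cfsg.spGL d F).mul_mem ((Cfsg.spGL d F).inv_mem hg)
      (glOfSp_mem d M hM)) hg
  obtain ⟨A, B, hAB, hform⟩ := struct_of_mem e P f₁ f₂ hf₁ hf₂ hS _ hy hgx
  refine ⟨A, B, ?_, ?_, hform⟩
  · apply conjK_injective e P
    rw [← conjK_pow, ← hAB, conjK_one, ← Units.val_pow_eq_pow_val]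
    have h1 : (g⁻¹ * x * g) ^ r = 1 := by
      have h2 : x ^ r = 1 := by
        apply Units.ext
        rw [hxr]
        rfl
      have h3 := conj_pow (a := g⁻¹) (b := x) (i := r)
      rw [inv_inv] at h3
      rw [h3, h2, mul_one, inv_mul_cancel]
    rw [h1]
    rfl
  · rw [← rank_conjK_sub_one e P, ← hAB, rank_conj_sub_one, hxv]

theorem blockDim_le {p : ℕ} [Fact p.Prime] [CharP F p] (r : ℕ) [Fact r.Prime] (hrp : r ≠ p) (H : Subgroup (GL (Fin d ⊕ Fin d) F))
    (hΩ : r ∣ H.relIndex (Cfsg.spGL d F)) : blockDim (Fintype.card F) r ≤ 2 * d := by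
  have hr : r.Prime := Fact.out
  have hG : r ∣ Nat.card ↥(Cfsg.spGL d F) := hΩ.trans (Subgroup.relIndex_dvd_card _ _)
  rw [card_spGL] at hG
  have hndvd : ¬ r ∣ Fintype.card F ^ (d ^ 2) := fun h =>
    card_not_dvd (F := F) r hr hrp (hr.dvd_of_dvd_pow h)
  have hd2 := (hr.dvd_mul.1 hG).resolve_left hndvd
  obtain ⟨i, hi, hdvd⟩ := (Prime.dvd_finsetProd_iff (Nat.Prime.prime hr) _).1 hd2
  have hq : 0 < Fintype.card F := Fintype.card_pos
  have h3 := orderOf_dvd_of_dvd_pow_sub_one r _ _ hq hdvd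
  have h4 := blockDim_le_of_dvd_two_mul (Fintype.card F) r (i + 1) (by omega) h3
  have := Finset.mem_range.1 hi
  omega

theorem fwd {p : ℕ} [Fact p.Prime] [CharP F p] (hodd : Odd (Fintype.card F)) (hd : 2 ≤ d) (hab : 2 * d = a * b) (hae : Even a)
    (ha2 : 2 ≤ a) (hb : 3 ≤ b)
    (e : (Fin d ⊕ Fin d) ≃ Fin a × Fin b) (P : GL (Fin d ⊕ Fin d) F)
    (f₁ : (Fin a → F) → (Fin a → F) → F) (f₂ : (Fin b → F) → (Fin b → F) → F)
    (hf₁ : Cfsg.Geo.IsSymplecticForm f₁) (hf₂ : Cfsg.Geo.IsSymmetricForm f₂)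
    (hS : Cfsg.Geo.IsTensorFormStructure id (Cfsg.sympForm d F) f₁ f₂ e P) (r : ℕ) [Fact r.Prime]
    (hΩ : r ∣ (Cfsg.Geo.tensorProductSubgroup a b e P).relIndex (Cfsg.spGL d F))
    (hall : ∀ x ∈ Cfsg.spGL d F,
      (∃ z : F, ((x ^ r : GL (Fin d ⊕ Fin d) F) : Matrix (Fin d ⊕ Fin d) (Fin d ⊕ Fin d) F) =
        z • (1 : Matrix (Fin d ⊕ Fin d) (Fin d ⊕ Fin d) F)) →
      (∀ z : F, (x : Matrix (Fin d ⊕ Fin d) (Fin d ⊕ Fin d) F) ≠
        z • (1 : Matrix (Fin d ⊕ Fin d) (Fin d ⊕ Fin d) F)) →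
      ∃ g ∈ Cfsg.spGL d F, g⁻¹ * x * g ∈ Cfsg.Geo.tensorProductSubgroup a b e P) :
    r = 2 ∧ a = 2 := by
  classical
  have hr : r.Prime := Fact.out
  have h2F : (2 : F) ≠ 0 := two_ne_zero' hodd
  have hcard : Fintype.card (Fin d ⊕ Fin d) = 2 * d := by
    rw [Fintype.card_sum, Fintype.card_fin]; ring
  -- nonscalar criterion
  have hnsc : ∀ (M : Matrix (Fin d ⊕ Fin d) (Fin d ⊕ Fin d) F), 0 < (M - 1).rank →
      (M - 1).rank < 2 * d → ∀ z : F, M ≠ z • 1 := by
    intro M h0 h1 z hz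
    have h3 : M - 1 = (z - 1) • (1 : Matrix (Fin d ⊕ Fin d) (Fin d ⊕ Fin d) F) := by
      rw [hz, sub_smul, one_smul]
    by_cases hz1 : z - 1 = 0
    · rw [h3, hz1, zero_smul, Matrix.rank_zero] at h0
      omega
    · rw [h3, rank_smul_one _ hz1, hcard] at h1
      omega
  have hdetB : ∀ B : GL (Fin b) F, (B : Matrix (Fin b) (Fin b) F).det ≠ 0 := fun B =>
    ((Matrix.isUnit_iff_isUnit_det _).mp B.isUnit).ne_zero
  have hkey := key e P f₁ f₂ hf₁.bilinear hf₂.bilinear hS r hall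
  by_cases hrp : r = p
  · -- transvections
    exfalso
    obtain ⟨M, hM, hMp, hfix⟩ := exists_transv (F := F) (p := p) d (by omega)
    have hrk : (M - 1).rank = 1 := by
      have := fixE_toLin' M
      rw [hcard] at this
      omega
    rw [← hrp] at hMp
    obtain ⟨A, B, -, hrank, -⟩ := hkey M hM hMp (hnsc M (by omega) (by omega))
    rw [hrk] at hrank
    have h1 := dvd_rank_of_lt _ _ (hdetB B) (by rw [hrank]; omega)
    rw [hrank] at h1
    have := Nat.le_of_dvd (by norm_num) h1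
    omega
  by_cases hr2 : r = 2
  · refine ⟨hr2, ?_⟩
    by_contra ha
    obtain ⟨M, hM, hM2, hfix⟩ := exists_invol (F := F) h2F d (by omega)
    have hrk : (M - 1).rank = 2 := by
      have := fixE_toLin' M
      rw [hcard] at this
      omega
    rw [← hr2] at hM2
    obtain ⟨A, B, -, hrank, -⟩ := hkey M hM hM2 (hnsc M (by omega) (by omega))
    rw [hrk] at hrank
    have h1 := dvd_rank_of_lt _ _ (hdetB B) (by rw [hrank]; omega)
    rw [hrank] at h1
    have := Nat.le_of_dvd (by norm_num) h1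
    omega
  · exfalso
    have hRle := blockDim_le (p := p) r hrp _ hΩ
    have hRpos : 0 < blockDim (Fintype.card F) r := blockDim_pos (p := p) r hrp
    obtain ⟨M, hM, hMr, hfix, -⟩ := exists_sp_model (F := F) (p := p) r hr2 hrp d
      (2 * d - blockDim (Fintype.card F) r) 1 (by omega)
    have hrk : (M - 1).rank = blockDim (Fintype.card F) r := by
      have := fixE_toLin' M
      rw [hcard] at this
      omega
    have hns : ∀ z : F, M ≠ z • 1 := by
      by_cases hlt : blockDim (Fintype.card F) r < 2 * d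
      · exact hnsc M (by omega) (by omega)
      · intro z hz
        have hz1 : z ≠ 1 := by
          rintro rfl
          rw [hz, one_smul, sub_self, Matrix.rank_zero] at hrk
          omega
        have hzr : z ^ r = 1 := by
          rw [hz, smul_pow, one_pow] at hMr
          have := congrFun (congrFun hMr (Sum.inl ⟨0, by omega⟩)) (Sum.inl ⟨0, by omega⟩)
          simpa using this
        have hz0 : z ≠ 0 := by
          rintro rfl
          rw [zero_pow hr.ne_zero] at hzr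
          exact zero_ne_one hzr
        have h1 : (Units.mk0 z hz0) ^ r = 1 := by
          apply Units.ext
          simpa using hzr
        have h2 : orderOf (Units.mk0 z hz0) = r := by
          refine orderOf_eq_prime h1 ?_
          intro h
          apply hz1
          have := congrArg Units.val h
          simpa using this
        have h3 : r ∣ Fintype.card F - 1 := by
          rw [← h2, ← Fintype.card_units]
          exact orderOf_dvd_card
        have h4 := (orderOf_card_eq_one_iff (F := F) r).2 h3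
        have h5 : blockDim (Fintype.card F) r = 2 := by
          rw [blockDim, h4]
          simp
        omega
    obtain ⟨A, B, hK, hrank, hform⟩ := hkey M hM hMr hns
    rw [hrk] at hrank
    by_cases hA : ∃ α : F, (A : Matrix (Fin a) (Fin a) F) = α • 1
    · obtain ⟨α, hα⟩ := hA
      rw [hα] at hK hrank hform
      exact contra_scalar (p := p) r hrp hr2 ha2 hb f₁ f₂ hf₁ hf₂ α _ hform hK hrank
    · push Not at hA
      exact contra_nonscalar (p := p) r hrp hae hb _ _ (hdetB B) hA hK hrank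

end fwd

end Cfsg.Agent.Lib.Helper12.TSp
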