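import Mathlib
import Cfsg.Agent.Lib.Helper12.TSpB
import Cfsg.Agent.Lib.Helper12.SpF
import Cfsg.Agent.Lib.Helper12.C3SpI

/-! Helper12 library (TSp, part G): conjugacy in the isometry group of a symplectic space (any
dimension) of involutions with the same fixed space dimension, and of isometries with square
`-1`. -/

set_option autoImplicit false
set_option linter.style.haveILetI false

namespace Cfsg.Agent.Lib.Helper12.TSp

open Module Cfsg.Agent.Lib.Helper12.Elus Cfsg.Agent.Lib.Helper12.Sp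
open Cfsg.Agent.Lib.Helper12.C3Sp Cfsg.Agent.Lib.Helper15

universe u v

section glue

variable {F : Type u} [Field F] {V : Type v} [AddCommGroup V] [Module F V]
  (B : LinearMap.BilinForm F V)

/-- gluing isometries of two orthogonal complementary pairs -/
theorem glue2 (U₁ U₂ U₁' U₂' : Submodule F V) (h : IsCompl U₁ U₂) (h' : IsCompl U₁' U₂')
    (ho : ∀ u ∈ U₁, ∀ w ∈ U₂, B u w = 0 ∧ B w u = 0)
    (ho' : ∀ u ∈ U₁', ∀ w ∈ U₂', B u w = 0 ∧ B w u = 0)
    (e₁ : U₁ ≃ₗ[F] U₁') (e₂ : U₂ ≃ₗ[F] U₂')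
    (he₁ : ∀ x y : U₁, B (e₁ x : V) (e₁ y : V) = B (x : V) (y : V))
    (he₂ : ∀ x y : U₂, B (e₂ x : V) (e₂ y : V) = B (x : V) (y : V)) :
    ∃ g : V ≃ₗ[F] V, (∀ u w, B (g u) (g w) = B u w) ∧
      (∀ u : U₁, g (u : V) = (e₁ u : V)) ∧ ∀ w : U₂, g (w : V) = (e₂ w : V) := by
  let E := Submodule.prodEquivOfIsCompl U₁ U₂ h
  let E' := Submodule.prodEquivOfIsCompl U₁' U₂' h'
  let g : V ≃ₗ[F] V := (E.symm.trans (e₁.prodCongr e₂)).trans E'
  have hg : ∀ (u : U₁) (w : U₂), g ((u : V) + (w : V)) = (e₁ u : V) + (e₂ w : V) := by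
    intro u w
    show E' ((e₁.prodCongr e₂) (E.symm ((u : V) + (w : V)))) = _
    have h1 : E.symm ((u : V) + (w : V)) = (u, w) := by
      rw [LinearEquiv.symm_apply_eq]
      exact (Submodule.coe_prodEquivOfIsCompl' U₁ U₂ h (u, w)).symm
    rw [h1]
    show E' (e₁ u, e₂ w) = _
    exact Submodule.coe_prodEquivOfIsCompl' U₁' U₂' h' (e₁ u, e₂ w)
  have hdec : ∀ v : V, ∃ (u : U₁) (w : U₂), v = (u : V) + (w : V) := by
    intro v
    refine ⟨(E.symm v).1, (E.symm v).2, ?_⟩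
    have := Submodule.coe_prodEquivOfIsCompl' U₁ U₂ h (E.symm v)
    rw [← this]
    exact (E.apply_symm_apply v).symm
  refine ⟨g, ?_, ?_, ?_⟩
  · intro a c
    obtain ⟨u, w, rfl⟩ := hdec a
    obtain ⟨u', w', rfl⟩ := hdec c
    rw [hg, hg]
    simp only [map_add, LinearMap.add_apply]
    rw [he₁, he₂, (ho' _ (e₁ u).2 _ (e₂ w').2).1, (ho' _ (e₁ u').2 _ (e₂ w).2).2,
      (ho _ u.2 _ w'.2).1, (ho _ u'.2 _ w.2).2]
  · intro u
    have := hg u 0
    simpa using this
  · intro w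
    have := hg 0 w
    simpa using this

end glue

section invol

variable {F : Type u} [Field F] {V : Type v} [AddCommGroup V] [Module F V] [FiniteDimensional F V]
  (B : LinearMap.BilinForm F V)

omit [FiniteDimensional F V] in
theorem movR_neg' (x : V →ₗ[F] V) (hx : x ^ 2 = 1) : ∀ v ∈ movR x, x v = -v := by
  rintro _ ⟨w, rfl⟩
  have h1 : x (x w) = w := by
    have := congrArg (fun g : V →ₗ[F] V => g w) hx
    simpa [pow_two] using this
  rw [LinearMap.sub_apply, Module.End.one_apply, map_sub, h1]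
  abel

/-- isometric involutions of a symplectic space with fixed spaces of the same dimension are
conjugate -/
theorem invol_conj_gen (halt : ∀ v, B v v = 0) (hnd : ∀ a, (∀ z, B a z = 0) → a = 0)
    (h2 : ((2 : ℕ) : F) ≠ 0) (x y : V →ₗ[F] V)
    (hxiso : ∀ u v, B (x u) (x v) = B u v) (hx : x ^ 2 = 1)
    (hyiso : ∀ u v, B (y u) (y v) = B u v) (hy : y ^ 2 = 1)
    (hfix : finrank F (fixE x) = finrank F (fixE y)) :
    ∃ g : V ≃ₗ[F] V, (∀ u v, B (g u) (g v) = B u v) ∧ ∀ v, g (x v) = y (g v) := by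
  haveI : Fact (Nat.Prime 2) := ⟨Nat.prime_two⟩
  have htop : NdOn B (⊤ : Submodule F V) := by
    intro u _ hu0
    by_contra hcon
    push Not at hcon
    exact hu0 (hnd u (fun z => hcon z Submodule.mem_top))
  have htinv : ∀ (z : V →ₗ[F] V), ∀ v ∈ (⊤ : Submodule F V), z v ∈ (⊤ : Submodule F V) :=
    fun _ _ _ => Submodule.mem_top
  have key : ∀ (z : V →ₗ[F] V), (∀ u v, B (z u) (z v) = B u v) → z ^ 2 = 1 →
      NdOn B (fixE z) ∧ NdOn B (movR z) ∧ IsCompl (fixE z) (movR z) ∧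
      (∀ u ∈ fixE z, ∀ w ∈ movR z, B u w = 0 ∧ B w u = 0) ∧
      finrank F (fixE z) + finrank F (movR z) = finrank F V := by
    intro z hziso hz
    have hEnd : NdOn B (fixE z) := by
      have := ndOn_inf_fix B z hziso 2 hz h2 ⊤ (htinv z) htop
      rwa [top_inf_eq] at this
    have hRnd : NdOn B (movR z) := by
      have := ndOn_inf_mov B z halt hziso 2 hz h2 ⊤ (htinv z) htop
      rwa [top_inf_eq] at this
    have hdisj : fixE z ⊓ movR z = ⊥ := fix_inf_mov z 2 hz h2
    have hsplit : fixE z ⊔ movR z = ⊤ := fix_sup_mov z 2 hz h2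
    refine ⟨hEnd, hRnd, ⟨disjoint_iff.2 hdisj, codisjoint_iff.2 hsplit⟩, ?_, ?_⟩
    · intro u hu w hw
      have h1 := fix_orth_mov B z hziso u w hu hw
      refine ⟨h1, ?_⟩
      rw [Sp.alt_swap B halt, h1, neg_zero]
    · have := Submodule.finrank_sup_add_finrank_inf_eq (fixE z) (movR z)
      rw [hsplit, hdisj, finrank_bot, add_zero, finrank_top] at this
      exact this.symm
  obtain ⟨hx1, hx2, hx3, hx4, hx5⟩ := key x hxiso hx
  obtain ⟨hy1, hy2, hy3, hy4, hy5⟩ := key y hyiso hy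
  obtain ⟨e₁, he₁⟩ := exists_block_iso B halt (fixE x) (fixE y) hx1 hy1 hfix
  obtain ⟨e₂, he₂⟩ := exists_block_iso B halt (movR x) (movR y) hx2 hy2 (by omega)
  obtain ⟨g, hgiso, hg1, hg2⟩ := glue2 B _ _ _ _ hx3 hy3 hx4 hy4 e₁ e₂ he₁ he₂
  refine ⟨g, hgiso, ?_⟩
  intro v
  have hv : v ∈ fixE x ⊔ movR x := by
    rw [fix_sup_mov x 2 hx h2]
    exact Submodule.mem_top
  obtain ⟨v₁, hv₁, v₂, hv₂, rfl⟩ := Submodule.mem_sup.1 hv
  have hxv₁ : x v₁ = v₁ := (mem_fixE x v₁).1 hv₁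
  have hxv₂ : x v₂ = -v₂ := movR_neg' x hx v₂ hv₂
  have hg₁ : g v₁ = (e₁ ⟨v₁, hv₁⟩ : V) := hg1 ⟨v₁, hv₁⟩
  have hg₂ : g v₂ = (e₂ ⟨v₂, hv₂⟩ : V) := hg2 ⟨v₂, hv₂⟩
  have hy₁ : y (g v₁) = g v₁ := by
    rw [hg₁]
    exact (mem_fixE y _).1 (e₁ ⟨v₁, hv₁⟩).2
  have hy₂ : y (g v₂) = - g v₂ := by
    rw [hg₂]
    exact movR_neg' y hy _ (e₂ ⟨v₂, hv₂⟩).2
  rw [map_add, map_add, map_add, map_add, hxv₁, hxv₂, hy₁, hy₂, map_neg]

end invol

section sqneg

variable {F : Type u} [Field F] [Fintype F] {V : Type v} [AddCommGroup V] [Module F V]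
  [FiniteDimensional F V] (B : LinearMap.BilinForm F V) (x : V →ₗ[F] V)

/-- a normalized hyperbolic system adapted to `x` in every invariant nondegenerate subspace -/
theorem exists_ns_gen (hodd : Fintype.card F % 2 = 1) (halt : ∀ v, B v v = 0)
    (hiso : ∀ u v, B (x u) (x v) = B u v) (h2 : (2 : F) ≠ 0) (hx : ∀ v, x (x v) = -v) (k : ℕ) :
    ∀ U : Submodule F V, (∀ u ∈ U, x u ∈ U) → NdOn B U → finrank F U = 2 * k →
      ∃ e : Fin k → V, (∀ i, e i ∈ U) ∧ SymIso.Hyp B k e (fun i => x (e i)) := by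
  have hx4 : x ^ 4 = 1 := by
    apply LinearMap.ext
    intro v
    have : x ^ 4 = x * x * (x * x) := by
      rw [show (4 : ℕ) = 2 + 2 from rfl, pow_add, pow_two]
    rw [this, Module.End.mul_apply, Module.End.mul_apply, Module.End.mul_apply, hx, hx, neg_neg,
      Module.End.one_apply]
  induction k with
  | zero =>
    intro U _ _ _
    exact ⟨Fin.elim0, fun i => i.elim0, fun i => i.elim0, fun i => i.elim0, fun i => i.elim0⟩
  | succ k ih =>
    intro U hUinv hUnd hUdim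
    have hU0 : U ≠ ⊥ := by
      intro h
      rw [h, finrank_bot] at hUdim
      omega
    obtain ⟨v₁, hv₁U, hv₁⟩ := exists_unit_vec B x hodd halt hiso h2 hx U hUinv hUnd hU0
    obtain ⟨hW₁nd, hW₁dim⟩ := ndOn_span_pair B halt v₁ (x v₁) (by rw [hv₁]; exact one_ne_zero)
    set W₁ := Submodule.span F {v₁, x v₁} with hW₁
    have hW₁U : W₁ ≤ U := by
      rw [hW₁, Submodule.span_le]
      intro w hw
      rcases hw with rfl | rfl
      · exact hv₁U
      · exact hUinv _ hv₁U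
    have hW₁inv : ∀ w ∈ W₁, x w ∈ W₁ := by
      intro w hw
      obtain ⟨α, β, rfl⟩ := Submodule.mem_span_pair.1 hw
      rw [map_add, map_smul, map_smul, hx]
      apply Submodule.mem_span_pair.2
      exact ⟨-β, α, by rw [neg_smul, smul_neg]; abel⟩
    have hU₂nd : NdOn B (U ⊓ B.orthogonal W₁) := ndOn_inf_orth B halt U W₁ hUnd hW₁U hW₁nd
    have hU₂dim := finrank_inf_orth B halt U W₁ hW₁U hW₁nd
    rw [hUdim, hW₁dim] at hU₂dim
    have hU₂inv : ∀ u ∈ (U ⊓ B.orthogonal W₁ : Submodule F V), x u ∈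
        (U ⊓ B.orthogonal W₁ : Submodule F V) := by
      intro u hu
      exact ⟨hUinv u hu.1, orth_invariant B x hiso 4 (by norm_num) hx4 W₁ hW₁inv u hu.2⟩
    obtain ⟨e', he'U, he'1, he'2, he'3⟩ := ih _ hU₂inv hU₂nd (by omega)
    have horth : ∀ i, B v₁ (e' i) = 0 ∧ B (x v₁) (e' i) = 0 := by
      intro i
      have h1 := (mem_orth B W₁ (e' i)).1 (he'U i).2
      exact ⟨h1 v₁ (Submodule.subset_span (by simp)), h1 (x v₁) (Submodule.subset_span (by simp))⟩
    have hsw : ∀ a c : V, B a c = 0 → B c a = 0 := by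
      intro a c hac
      rw [Sp.alt_swap B halt, hac, neg_zero]
    have h1x : ∀ i, B v₁ (x (e' i)) = 0 := by
      intro i
      have := hiso v₁ (x (e' i))
      rw [hx, map_neg, (horth i).2, neg_zero] at this
      exact this.symm
    refine ⟨Fin.cons v₁ e', ?_, ?_, ?_, ?_⟩
    · intro i
      refine Fin.cases ?_ (fun j => ?_) i
      · exact hv₁U
      · rw [Fin.cons_succ]
        exact (he'U j).1
    · intro i j
      refine Fin.cases ?_ (fun i' => ?_) i <;> refine Fin.cases ?_ (fun j' => ?_) j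
      · simp only [Fin.cons_zero]
        exact halt v₁
      · simp only [Fin.cons_zero, Fin.cons_succ]
        exact (horth j').1
      · simp only [Fin.cons_zero, Fin.cons_succ]
        exact hsw _ _ (horth i').1
      · simp only [Fin.cons_succ]
        exact he'1 i' j'
    · intro i j
      refine Fin.cases ?_ (fun i' => ?_) i <;> refine Fin.cases ?_ (fun j' => ?_) j
      · simp only [Fin.cons_zero]
        exact halt _
      · simp only [Fin.cons_zero, Fin.cons_succ]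
        rw [hiso]
        exact (horth j').1
      · simp only [Fin.cons_zero, Fin.cons_succ]
        rw [hiso]
        exact hsw _ _ (horth i').1
      · simp only [Fin.cons_succ]
        exact he'2 i' j'
    · intro i j
      refine Fin.cases ?_ (fun i' => ?_) i <;> refine Fin.cases ?_ (fun j' => ?_) j
      · show B v₁ (x v₁) = if (0 : Fin (k + 1)) = 0 then 1 else 0
        rw [if_pos rfl]
        exact hv₁
      · show B v₁ (x (e' j')) = if (0 : Fin (k + 1)) = j'.succ then 1 else 0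
        rw [if_neg (Fin.succ_ne_zero j').symm]
        exact h1x j'
      · show B (e' i') (x v₁) = if i'.succ = (0 : Fin (k + 1)) then 1 else 0
        rw [if_neg (Fin.succ_ne_zero i')]
        exact hsw _ _ (horth i').2
      · show B (e' i') (x (e' j')) = if i'.succ = j'.succ then 1 else 0
        rw [he'3 i' j']
        simp only [Fin.succ_inj]

/-- isometries with square `-1` of a symplectic space over a finite field of odd order are
conjugate -/
theorem sqneg_conj_gen (hodd : Fintype.card F % 2 = 1)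
    (halt : ∀ v, B v v = 0) (hnd : ∀ a, (∀ z, B a z = 0) → a = 0) (h2 : (2 : F) ≠ 0)
    (d : ℕ) (hdim : finrank F V = 2 * d) (y : V →ₗ[F] V)
    (hxiso : ∀ u v, B (x u) (x v) = B u v) (hx : ∀ v, x (x v) = -v)
    (hyiso : ∀ u v, B (y u) (y v) = B u v) (hy : ∀ v, y (y v) = -v) :
    ∃ g : V ≃ₗ[F] V, (∀ u v, B (g u) (g v) = B u v) ∧ ∀ v, g (x v) = y (g v) := by
  have htop : NdOn B (⊤ : Submodule F V) := by
    intro u _ hu0
    by_contra hcon
    push Not at hcon
    exact hu0 (hnd u (fun z => hcon z Submodule.mem_top))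
  obtain ⟨e, -, hyp⟩ := exists_ns_gen B x hodd halt hxiso h2 hx d ⊤
    (fun _ _ => Submodule.mem_top) htop (by rw [finrank_top, hdim])
  obtain ⟨e', -, hyp'⟩ := exists_ns_gen B y hodd halt hyiso h2 hy d ⊤
    (fun _ _ => Submodule.mem_top) htop (by rw [finrank_top, hdim])
  obtain ⟨Ψ, hΨiso, hΨ⟩ := hyp_equiv V B halt d _ _ hyp (by rw [hdim])
  obtain ⟨Ψ', hΨ'iso, hΨ'⟩ := hyp_equiv V B halt d _ _ hyp' (by rw [hdim])
  refine ⟨Ψ.symm.trans Ψ', ?_, ?_⟩
  · intro u v
    rw [LinearEquiv.trans_apply, LinearEquiv.trans_apply, hΨ'iso, ← hΨiso,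
      LinearEquiv.apply_symm_apply, LinearEquiv.apply_symm_apply]
  · intro v
    obtain ⟨u, rfl⟩ := Ψ.surjective v
    have h1 : x (Ψ u) = Ψ (jstd d u) := by
      rw [hΨ, hΨ, x_comb x hx]
    have h3 : y (Ψ' u) = Ψ' (jstd d u) := by
      rw [hΨ', hΨ', x_comb y hy]
    rw [h1, LinearEquiv.trans_apply, LinearEquiv.trans_apply, LinearEquiv.symm_apply_apply,
      LinearEquiv.symm_apply_apply, h3]

end sqneg

end Cfsg.Agent.Lib.Helper12.TSp
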