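import Mathlib
import Cfsg.Prelude.Def_GeometricClasses
import Cfsg.Agent.Lib.Helper5.TensorGen
import Cfsg.Agent.Lib.Helper12.TSpA
import Cfsg.Agent.Lib.Helper12.TSpC
import Cfsg.Agent.Lib.Helper12.TSpE
import Cfsg.Agent.Lib.Helper12.TSpG
import Cfsg.Agent.Lib.Helper12.SpG
import Cfsg.Agent.Lib.Helper12.C3SpK

/-! Helper12 library (TSp, part H): elements of the stabilizer of a tensor decomposition
`Sp_2 ⊗ O_b` inside the symplectic group: orthogonal involutions with prescribed commutator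
rank, an element of square `-1`, and the backward direction of S5980. -/

set_option autoImplicit false
set_option linter.style.haveILetI false

namespace Cfsg.Agent.Lib.Helper12.TSp

open Module Matrix Cfsg.Agent.Lib.Helper12.Elus Cfsg.Agent.Lib.Helper12.Sp
open Cfsg.Agent.Lib.Helper12.C3Sp Cfsg.Agent.Lib.Helper5.TensorGen Cfsg.Agent.Lib.Helper15
open scoped Kronecker

section elems

variable {F : Type*} [Field F] {ι : Type} [Fintype ι] [DecidableEq ι] {a b : ℕ}

/-- the Kronecker product of two invertible matrices as an invertible matrix -/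
def kronGL (A : GL (Fin a) F) (B : GL (Fin b) F) : GL (Fin a × Fin b) F :=
  ⟨(A : Matrix (Fin a) (Fin a) F) ⊗ₖ (B : Matrix (Fin b) (Fin b) F),
    ((A⁻¹ : GL (Fin a) F) : Matrix (Fin a) (Fin a) F) ⊗ₖ
      ((B⁻¹ : GL (Fin b) F) : Matrix (Fin b) (Fin b) F),
    by rw [← Matrix.mul_kronecker_mul, ← Units.val_mul, ← Units.val_mul, mul_inv_cancel,
      mul_inv_cancel, Units.val_one, Units.val_one, Matrix.one_kronecker_one],
    by rw [← Matrix.mul_kronecker_mul, ← Units.val_mul, ← Units.val_mul, inv_mul_cancel,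
      inv_mul_cancel, Units.val_one, Units.val_one, Matrix.one_kronecker_one]⟩

/-- the element of the tensor product subgroup attached to two invertible matrices -/
def tpsElem (e : ι ≃ Fin a × Fin b) (P : GL ι F) (A : GL (Fin a) F) (B : GL (Fin b) F) : GL ι F :=
  P * (Cfsg.Geo.glReindex e.symm) (kronGL A B) * P⁻¹

theorem tpsElem_val (e : ι ≃ Fin a × Fin b) (P : GL ι F) (A : GL (Fin a) F) (B : GL (Fin b) F) :
    (tpsElem e P A B : Matrix ι ι F) =
      conjK e P ((A : Matrix (Fin a) (Fin a) F) ⊗ₖ (B : Matrix (Fin b) (Fin b) F)) := rfl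

theorem tpsElem_mem (e : ι ≃ Fin a × Fin b) (P : GL ι F) (A : GL (Fin a) F) (B : GL (Fin b) F) :
    tpsElem e P A B ∈ Cfsg.Geo.tensorProductSubgroup a b e P :=
  (mem_tps_iff e P _).2 ⟨A, B, tpsElem_val e P A B⟩

end elems

section gram

variable {F : Type*} [Field F] {κ : Type} [Fintype κ] [DecidableEq κ]

theorem formOfGram_eq_dot (G : Matrix κ κ F) (x y : κ → F) :
    Cfsg.Geo.formOfGram id G x y = x ⬝ᵥ (G *ᵥ y) := by
  unfold Cfsg.Geo.formOfGram
  simp only [dotProduct, Matrix.mulVec, id, Finset.mul_sum, mul_assoc]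

/-- the Gram matrix of a form invariant under `M` -/
theorem gram_of_iso (f : (κ → F) → (κ → F) → F) (hf : Cfsg.Geo.IsBilinearForm f)
    (M : Matrix κ κ F) (hM : ∀ v v', f (M *ᵥ v) (M *ᵥ v') = f v v') :
    Mᵀ * Cfsg.Geo.gramMatrix f * M = Cfsg.Geo.gramMatrix f := by
  ext j k
  have h1 := hM (Pi.single j 1) (Pi.single k 1)
  rw [bf_eq_formOfGram f hf (M *ᵥ Pi.single j 1), formOfGram_eq_dot] at h1
  have h2 : Cfsg.Geo.gramMatrix f j k = f (Pi.single j 1) (Pi.single k 1) := rfl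
  rw [h2, ← h1, Matrix.mulVec_mulVec, Matrix.mulVec_single_one, Matrix.mulVec_single_one]
  simp only [dotProduct, Matrix.mul_apply, Matrix.transpose_apply, Matrix.col_apply,
    Finset.sum_mul, Finset.mul_sum]
  rw [Finset.sum_comm]
  apply Finset.sum_congr rfl
  intro l _
  apply Finset.sum_congr rfl
  intro m _
  ring

theorem dot_mulVec_left (K : Matrix κ κ F) (φ w : κ → F) :
    (K *ᵥ φ) ⬝ᵥ w = φ ⬝ᵥ (Kᵀ *ᵥ w) := by
  rw [dotProduct_comm, Matrix.dotProduct_mulVec, ← Matrix.mulVec_transpose, dotProduct_comm]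

end gram

section sp

variable {F : Type*} [Field F] {d a b : ℕ}

/-- conjugated Kronecker products preserving the Gram matrix lie in the symplectic group -/
theorem mem_spGL_of_gram (e : (Fin d ⊕ Fin d) ≃ Fin a × Fin b) (P : GL (Fin d ⊕ Fin d) F)
    (f₁ : (Fin a → F) → (Fin a → F) → F) (f₂ : (Fin b → F) → (Fin b → F) → F)
    (hS : Cfsg.Geo.IsTensorFormStructure id (Cfsg.sympForm d F) f₁ f₂ e P)
    (A : Matrix (Fin a) (Fin a) F) (B : Matrix (Fin b) (Fin b) F)
    (hA : Aᵀ * Cfsg.Geo.gramMatrix f₁ * A = Cfsg.Geo.gramMatrix f₁)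
    (hB : Bᵀ * Cfsg.Geo.gramMatrix f₂ * B = Cfsg.Geo.gramMatrix f₂)
    (y : GL (Fin d ⊕ Fin d) F)
    (hy : (y : Matrix (Fin d ⊕ Fin d) (Fin d ⊕ Fin d) F) = conjK e P (A ⊗ₖ B)) :
    y ∈ Cfsg.spGL d F := by
  rw [mem_spGL']
  obtain ⟨c, -, hc⟩ := hS
  set G := Cfsg.Geo.gramMatrix f₁ ⊗ₖ Cfsg.Geo.gramMatrix f₂ with hG
  have hK : (A ⊗ₖ B)ᵀ * G * (A ⊗ₖ B) = G := by
    rw [hG, ← Matrix.kroneckerMap_transpose, ← Matrix.mul_kronecker_mul,
      ← Matrix.mul_kronecker_mul, hA, hB]
  have hrep : ∀ u : Fin d ⊕ Fin d → F, ∃ φ : Fin a × Fin b → F,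
      (P : Matrix _ _ F) *ᵥ (φ ∘ e) = u := by
    intro u
    refine ⟨(((P⁻¹ : GL (Fin d ⊕ Fin d) F) : Matrix _ _ F) *ᵥ u) ∘ e.symm, ?_⟩
    rw [Function.comp_assoc, Equiv.symm_comp_self, Function.comp_id, Matrix.mulVec_mulVec,
      gl_mul_inv', Matrix.one_mulVec]
  intro u w
  obtain ⟨φ, rfl⟩ := hrep u
  obtain ⟨ψ, rfl⟩ := hrep w
  rw [hy, conjK_mulVec, conjK_mulVec, hc, hc]
  congr 1
  rw [formOfGram_eq_dot, formOfGram_eq_dot, dot_mulVec_left, Matrix.mulVec_mulVec,
    Matrix.mulVec_mulVec, hK]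

end sp

section orth

variable {F : Type*} [Field F] {b : ℕ}

/-- orthogonal involutions with prescribed commutator rank -/
theorem exists_orth_invol (h2 : (2 : F) ≠ 0) (f₂ : (Fin b → F) → (Fin b → F) → F)
    (hf₂ : Cfsg.Geo.IsSymmetricForm f₂) (m : ℕ) (hm : m ≤ b) :
    ∃ M : Matrix (Fin b) (Fin b) F, M * M = 1 ∧ (∀ v v', f₂ (M *ᵥ v) (M *ᵥ v') = f₂ v v') ∧
      (M - 1).rank = m := by
  haveI : Invertible (2 : F) := invertibleOfNonzero h2
  haveI : Fact (Nat.Prime 2) := ⟨Nat.prime_two⟩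
  set S := bilOf f₂ hf₂.bilinear with hS
  have hSsymm : LinearMap.IsSymm S := ⟨fun x y => hf₂.symm x y⟩
  obtain ⟨v, hv⟩ := LinearMap.BilinForm.exists_orthogonal_basis hSsymm
  have hn : finrank F (Fin b → F) = b := Module.finrank_fin_fun F
  generalize finrank F (Fin b → F) = n at v hv hn
  have hortho : ∀ i j : Fin n, i ≠ j → S (v i) (v j) = 0 := by
    intro i j hij
    have := hv hij
    exact this
  set ε : Fin n → F := fun j => if (j : ℕ) < m then -1 else 1 with hε
  have hεε : ∀ j, ε j * ε j = 1 := by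
    intro j
    simp only [hε]
    split_ifs <;> ring
  set T : (Fin b → F) →ₗ[F] (Fin b → F) := v.constr F (fun j => ε j • v j) with hT
  have hTv : ∀ j, T (v j) = ε j • v j := fun j => v.constr_basis F _ j
  have hTT : T ∘ₗ T = LinearMap.id := by
    apply v.ext
    intro j
    rw [LinearMap.comp_apply, hTv, map_smul, hTv, smul_smul, hεε, one_smul, LinearMap.id_apply]
  have hT2 : T ^ 2 = 1 := by
    rw [pow_two]
    exact hTT
  have hTiso : ∀ u w, S (T u) (T w) = S u w := by
    have h1 : S.compl₁₂ T T = S := by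
      apply LinearMap.BilinForm.ext_basis v
      intro i j
      rw [LinearMap.compl₁₂_apply, hTv, hTv, map_smul, map_smul, LinearMap.smul_apply,
        smul_eq_mul, smul_eq_mul]
      by_cases hij : i = j
      · subst hij
        rw [← mul_assoc, hεε, one_mul]
      · rw [hortho i j hij, mul_zero, mul_zero]
    intro u w
    have := LinearMap.congr_fun (LinearMap.congr_fun h1 u) w
    rw [LinearMap.compl₁₂_apply] at this
    exact this
  -- the dimensions
  have h2' : ((2 : ℕ) : F) ≠ 0 := by exact_mod_cast h2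
  have hmn : m ≤ n := by omega
  let g₁ : Fin m → Fin n := Fin.castLE hmn
  let g₂ : Fin (n - m) → Fin n := fun j => ⟨m + j, by omega⟩
  have hg₁ : Function.Injective g₁ := Fin.castLE_injective hmn
  have hg₂ : Function.Injective g₂ := by
    intro i j hij
    have := congrArg Fin.val hij
    apply Fin.ext
    simp only [g₂] at this
    omega
  have hmov : Submodule.span F (Set.range (v ∘ g₁)) ≤ movR T := by
    rw [Submodule.span_le]
    rintro _ ⟨j, rfl⟩
    refine ⟨(-(2 : F)⁻¹) • v (g₁ j), ?_⟩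
    have hεj : ε (g₁ j) = -1 := by
      simp only [hε, g₁, Fin.val_castLE, j.2, if_true]
    have hc : (-(2 : F)⁻¹) * (-1) - -(2 : F)⁻¹ = 1 := by
      field_simp
      ring
    rw [LinearMap.sub_apply, Module.End.one_apply, map_smul, hTv, hεj, Function.comp_apply,
      smul_smul, ← sub_smul, hc, one_smul]
  have hfix : Submodule.span F (Set.range (v ∘ g₂)) ≤ fixE T := by
    rw [Submodule.span_le]
    rintro _ ⟨j, rfl⟩
    have hεj : ε (g₂ j) = 1 := by
      simp only [hε, g₂]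
      rw [if_neg (by omega)]
    show v (g₂ j) ∈ fixE T
    rw [mem_fixE, hTv, hεj, one_smul]
  have hd1 : finrank F (Submodule.span F (Set.range (v ∘ g₁))) = m := by
    rw [finrank_span_eq_card (v.linearIndependent.comp g₁ hg₁), Fintype.card_fin]
  have hd2 : finrank F (Submodule.span F (Set.range (v ∘ g₂))) = n - m := by
    rw [finrank_span_eq_card (v.linearIndependent.comp g₂ hg₂), Fintype.card_fin]
  have hle1 := Submodule.finrank_mono hmov
  have hle2 := Submodule.finrank_mono hfix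
  have hsum : finrank F (fixE T) + finrank F (movR T) = n := by
    have := LinearMap.finrank_range_add_finrank_ker (T - 1)
    have hfr : finrank F (Fin b → F) = b := Module.finrank_fin_fun F
    unfold fixE movR
    omega
  have hmovdim : finrank F (movR T) = m := by omega
  refine ⟨LinearMap.toMatrix' T, ?_, ?_, ?_⟩
  · rw [← LinearMap.toMatrix'_comp, hTT, LinearMap.toMatrix'_id]
  · intro u w
    have := hTiso u w
    rw [hS, bilOf_apply, bilOf_apply] at this
    rw [← Matrix.toLin'_apply, ← Matrix.toLin'_apply, Matrix.toLin'_toMatrix']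
    exact this
  · rw [← movR_toLin', Matrix.toLin'_toMatrix']
    exact hmovdim

end orth

section jzero

variable {F : Type*} [Field F]

/-- the standard matrix of square `-1` -/
def J0 : Matrix (Fin 2) (Fin 2) F := !![0, 1; -1, 0]

theorem J0_mul_self : (J0 : Matrix (Fin 2) (Fin 2) F) * J0 = -1 := by
  ext i j
  fin_cases i <;> fin_cases j <;> simp [J0, Matrix.mul_apply, Fin.sum_univ_two]

theorem J0_gram (f₁ : (Fin 2 → F) → (Fin 2 → F) → F) (hf₁ : Cfsg.Geo.IsSymplecticForm f₁) :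
    (J0 : Matrix (Fin 2) (Fin 2) F)ᵀ * Cfsg.Geo.gramMatrix f₁ * J0 = Cfsg.Geo.gramMatrix f₁ := by
  have h00 : Cfsg.Geo.gramMatrix f₁ 0 0 = 0 := hf₁.alternating _
  have h11 : Cfsg.Geo.gramMatrix f₁ 1 1 = 0 := hf₁.alternating _
  have h10 : Cfsg.Geo.gramMatrix f₁ 1 0 = - Cfsg.Geo.gramMatrix f₁ 0 1 := hf₁.skew _ _
  ext i j
  fin_cases i <;> fin_cases j <;>
    simp [J0, Matrix.mul_apply, Fin.sum_univ_two, h00, h11, h10]

/-- `J0` as an invertible matrix -/
def J0GL : GL (Fin 2) F :=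
  ⟨J0, -J0, by rw [Matrix.mul_neg, J0_mul_self, neg_neg], by rw [Matrix.neg_mul, J0_mul_self, neg_neg]⟩

end jzero

end Cfsg.Agent.Lib.Helper12.TSp
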