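import Mathlib
import Cfsg.Prelude.Def_GeometricClasses
import Cfsg.Agent.Lib.Helper9.TensA
import Cfsg.Agent.Lib.Helper12.TSpA
import Cfsg.Agent.Lib.Helper12.TSpC
import Cfsg.Agent.Lib.Helper12.TSpG
import Cfsg.Agent.Lib.Helper12.TSpH
import Cfsg.Agent.Lib.Helper12.SpA
import Cfsg.Agent.Lib.Helper12.SpG
import Cfsg.Agent.Lib.Helper12.C3SpK

/-! Helper12 library (TSp, part I): in `Sp_{2d}(q)`, `q` odd, every element with scalar square is
conjugate into the stabilizer of a tensor decomposition `Sp_2 ⊗ O_d` (backward direction of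
S5980). -/

set_option autoImplicit false
set_option linter.style.haveILetI false

namespace Cfsg.Agent.Lib.Helper12.TSp

open Module Matrix Cfsg.Agent.Lib.Helper12.Elus Cfsg.Agent.Lib.Helper12.Sp
open Cfsg.Agent.Lib.Helper12.C3Sp Cfsg.Agent.Lib.Helper5.TensorGen Cfsg.Agent.Lib.Helper15
open Cfsg.Agent.Lib.Helper9.TensA
open scoped Kronecker

section bwd

universe u

variable {F : Type u} [Field F] {d b : ℕ}

theorem symm_mem_spGL_gen (g : (Fin d ⊕ Fin d → F) ≃ₗ[F] (Fin d ⊕ Fin d → F))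
    (hg : ∀ u v, sympBilin d (F := F) (g u) (g v) = sympBilin d u v) :
    glLin.symm g ∈ Cfsg.spGL d F := by
  rw [mem_spGL']
  intro u v
  have h1 : ∀ w, ((glLin.symm g : GL (Fin d ⊕ Fin d) F) :
      Matrix (Fin d ⊕ Fin d) (Fin d ⊕ Fin d) F) *ᵥ w = g w := by
    intro w
    rw [← glLin_apply, MulEquiv.apply_symm_apply]
  rw [h1, h1, ← sympBilin_apply, ← sympBilin_apply]
  exact hg u v

theorem one_kron_sub_one (M : Matrix (Fin b) (Fin b) F) :
    ((1 : Matrix (Fin 2) (Fin 2) F) ⊗ₖ M) - 1 = (1 : Matrix (Fin 2) (Fin 2) F) ⊗ₖ (M - 1) := by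
  have := scalar_kron_sub (a := 2) (1 : F) 1 M
  rw [one_smul, one_smul, one_smul, one_smul] at this
  exact this

theorem conjK_neg_one {ι : Type} [Fintype ι] [DecidableEq ι] {a : ℕ}
    (e : ι ≃ Fin a × Fin b) (P : GL ι F) : conjK e P (-1 : Matrix _ _ F) = -1 := by
  unfold conjK
  have h1 : (-1 : Matrix (Fin a × Fin b) (Fin a × Fin b) F).submatrix e e = -1 := by
    ext i j
    simp [Matrix.one_apply]
  rw [h1, Matrix.mul_neg, Matrix.mul_one, Matrix.neg_mul, gl_mul_inv']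

theorem bwd [Fintype F] (hodd : Odd (Fintype.card F)) (hdb : d = b)
    (e : (Fin d ⊕ Fin d) ≃ Fin 2 × Fin b) (P : GL (Fin d ⊕ Fin d) F)
    (f₁ : (Fin 2 → F) → (Fin 2 → F) → F) (f₂ : (Fin b → F) → (Fin b → F) → F)
    (hf₁ : Cfsg.Geo.IsSymplecticForm f₁) (hf₂ : Cfsg.Geo.IsSymmetricForm f₂)
    (hS : Cfsg.Geo.IsTensorFormStructure id (Cfsg.sympForm d F) f₁ f₂ e P)
    (x : GL (Fin d ⊕ Fin d) F) (hx : x ∈ Cfsg.spGL d F) (z : F)
    (hz : ((x ^ 2 : GL (Fin d ⊕ Fin d) F) : Matrix (Fin d ⊕ Fin d) (Fin d ⊕ Fin d) F) =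
      z • (1 : Matrix (Fin d ⊕ Fin d) (Fin d ⊕ Fin d) F))
    (hns : ∀ z : F, (x : Matrix (Fin d ⊕ Fin d) (Fin d ⊕ Fin d) F) ≠
      z • (1 : Matrix (Fin d ⊕ Fin d) (Fin d ⊕ Fin d) F)) :
    ∃ g ∈ Cfsg.spGL d F, g⁻¹ * x * g ∈ Cfsg.Geo.tensorProductSubgroup 2 b e P := by
  have h2F : (2 : F) ≠ 0 := two_ne_zero_of_odd hodd
  have h2F' : ((2 : ℕ) : F) ≠ 0 := by exact_mod_cast h2F
  have hoddc : Fintype.card F % 2 = 1 := Nat.odd_iff.1 hodd
  haveI : Fact (Nat.Prime 2) := ⟨Nat.prime_two⟩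
  set B := sympBilin d (F := F) with hB
  have hBalt : ∀ v, B v v = 0 := stdB_alt d
  have hBnd : ∀ a, (∀ w, B a w = 0) → a = 0 := stdB_nd d
  have hdim : finrank F (Fin d ⊕ Fin d → F) = 2 * d := by rw [std_finrank]
  have hcard : Fintype.card (Fin d ⊕ Fin d) = 2 * d := by
    rw [Fintype.card_sum, Fintype.card_fin]
    ring
  have hd0 : d ≠ 0 := by
    rintro rfl
    apply hns 1
    ext i
    exact (IsEmpty.false (α := Fin 0 ⊕ Fin 0) i).elim
  haveI : Nonempty (Fin d ⊕ Fin d) := ⟨Sum.inl ⟨0, Nat.pos_of_ne_zero hd0⟩⟩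
  haveI : Nontrivial (Fin d ⊕ Fin d → F) := inferInstance
  -- the element `x`
  set X := Matrix.toLin' (x : Matrix (Fin d ⊕ Fin d) (Fin d ⊕ Fin d) F) with hX
  have hXiso : ∀ u v, B (X u) (X v) = B u v :=
    std_iso d _ (mem_symplectic_of_preserves _ ((mem_spGL' d x).1 hx))
  have hXX : ∀ v, X (X v) = z • v := by
    intro v
    rw [hX, Matrix.toLin'_apply, Matrix.toLin'_apply, Matrix.mulVec_mulVec, ← pow_two,
      ← Units.val_pow_eq_pow_val, hz, Matrix.smul_mulVec, Matrix.one_mulVec]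
  have hXv : ∀ v, X v = (x : Matrix (Fin d ⊕ Fin d) (Fin d ⊕ Fin d) F) *ᵥ v := fun v =>
    Matrix.toLin'_apply _ v
  have hzz : z * z = 1 := by
    apply scalar_sq_eq_one B hBnd z
    intro u v
    rw [← hXX, ← hXX, hXiso, hXiso]
  have hz' : z = 1 ∨ z = -1 := by
    have : (z - 1) * (z + 1) = 0 := by linear_combination hzz
    rcases mul_eq_zero.1 this with h | h
    · left; exact sub_eq_zero.1 h
    · right; exact eq_neg_of_add_eq_zero_left h
  -- reduction to a conjugacy statement for linear maps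
  have key : ∀ (y : GL (Fin d ⊕ Fin d) F), y ∈ Cfsg.Geo.tensorProductSubgroup 2 b e P →
      (∃ g : (Fin d ⊕ Fin d → F) ≃ₗ[F] (Fin d ⊕ Fin d → F), (∀ u v, B (g u) (g v) = B u v) ∧
        ∀ v, g (X v) = Matrix.toLin' (y : Matrix (Fin d ⊕ Fin d) (Fin d ⊕ Fin d) F) (g v)) →
      ∃ g ∈ Cfsg.spGL d F, g⁻¹ * x * g ∈ Cfsg.Geo.tensorProductSubgroup 2 b e P := by
    rintro y hy ⟨g, hgiso, hg⟩
    refine ⟨(glLin.symm g)⁻¹, (Cfsg.spGL d F).inv_mem (symm_mem_spGL_gen g hgiso), ?_⟩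
    rw [gl_conj x g (glLin y) (fun v => by
      rw [← hXv, glLin_apply, ← Matrix.toLin'_apply]; exact hg v)]
    rw [MulEquiv.symm_apply_apply]
    exact hy
  have htop : NdOn B (⊤ : Submodule F (Fin d ⊕ Fin d → F)) := by
    intro u _ hu0
    by_contra hcon
    push Not at hcon
    exact hu0 (hBnd u (fun w => hcon w Submodule.mem_top))
  rcases hz' with rfl | rfl
  · -- involutions
    have hX2 : X ^ 2 = 1 := by
      apply LinearMap.ext
      intro v
      rw [pow_two, Module.End.mul_apply, hXX, one_smul, Module.End.one_apply]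
    have hmovnd : NdOn B (⊤ ⊓ movR X) :=
      Sp.ndOn_inf_mov B X hBalt hXiso 2 hX2 h2F' ⊤ (fun _ _ => Submodule.mem_top) htop
    rw [top_inf_eq] at hmovnd
    obtain ⟨m, hm⟩ := Sp.even_finrank_of_ndOn B hBalt _ hmovnd
    have hmb : m ≤ b := by
      have := Submodule.finrank_le (movR X)
      rw [hdim] at this
      omega
    obtain ⟨M, hMM, hMiso, hMrank⟩ := exists_orth_invol h2F f₂ hf₂ m hmb
    set B' : GL (Fin b) F := ⟨M, M, hMM, hMM⟩ with hB'
    set y := tpsElem e P (1 : GL (Fin 2) F) B' with hy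
    have hyval : (y : Matrix (Fin d ⊕ Fin d) (Fin d ⊕ Fin d) F) =
        conjK e P ((1 : Matrix (Fin 2) (Fin 2) F) ⊗ₖ M) := by
      rw [hy, tpsElem_val]
      rfl
    have hyS : y ∈ Cfsg.spGL d F :=
      mem_spGL_of_gram e P f₁ f₂ hS 1 M (by rw [Matrix.transpose_one, Matrix.one_mul, Matrix.mul_one])
        (gram_of_iso f₂ hf₂.bilinear M hMiso) y hyval
    set Y := Matrix.toLin' (y : Matrix (Fin d ⊕ Fin d) (Fin d ⊕ Fin d) F) with hY
    have hYiso : ∀ u v, B (Y u) (Y v) = B u v :=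
      std_iso d _ (mem_symplectic_of_preserves _ ((mem_spGL' d y).1 hyS))
    have hyy : (y : Matrix (Fin d ⊕ Fin d) (Fin d ⊕ Fin d) F) *
        (y : Matrix (Fin d ⊕ Fin d) (Fin d ⊕ Fin d) F) = 1 := by
      rw [hyval, conjK_mul, ← Matrix.mul_kronecker_mul, hMM, Matrix.one_mul,
        Matrix.one_kronecker_one, conjK_one]
    have hY2 : Y ^ 2 = 1 := by
      apply LinearMap.ext
      intro v
      rw [pow_two, Module.End.mul_apply, hY, Matrix.toLin'_apply, Matrix.toLin'_apply,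
        Matrix.mulVec_mulVec, hyy, Matrix.one_mulVec, Module.End.one_apply]
    have hfix : finrank F (fixE X) = finrank F (fixE Y) := by
      have h1 := fixE_toLin' (x : Matrix (Fin d ⊕ Fin d) (Fin d ⊕ Fin d) F)
      have h2 := fixE_toLin' (y : Matrix (Fin d ⊕ Fin d) (Fin d ⊕ Fin d) F)
      have h3 := movR_toLin' (x : Matrix (Fin d ⊕ Fin d) (Fin d ⊕ Fin d) F)
      have h4 : ((y : Matrix (Fin d ⊕ Fin d) (Fin d ⊕ Fin d) F) - 1).rank = 2 * m := by
        rw [hyval, rank_conjK_sub_one, one_kron_sub_one, rank_one_kron, hMrank]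
      rw [← hX] at h1 h3
      rw [← hY] at h2
      omega
    apply key y (tpsElem_mem e P 1 B')
    exact invol_conj_gen B hBalt hBnd h2F' X Y hXiso hX2 hYiso hY2 hfix
  · -- square `-1`
    have hXX' : ∀ v, X (X v) = -v := by
      intro v
      rw [hXX, neg_smul, one_smul]
    set y := tpsElem e P (J0GL : GL (Fin 2) F) (1 : GL (Fin b) F) with hy
    have hyval : (y : Matrix (Fin d ⊕ Fin d) (Fin d ⊕ Fin d) F) =
        conjK e P ((J0 : Matrix (Fin 2) (Fin 2) F) ⊗ₖ (1 : Matrix (Fin b) (Fin b) F)) := by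
      rw [hy, tpsElem_val]
      rfl
    have hyS : y ∈ Cfsg.spGL d F :=
      mem_spGL_of_gram e P f₁ f₂ hS J0 1 (J0_gram f₁ hf₁)
        (by rw [Matrix.transpose_one, Matrix.one_mul, Matrix.mul_one]) y hyval
    set Y := Matrix.toLin' (y : Matrix (Fin d ⊕ Fin d) (Fin d ⊕ Fin d) F) with hY
    have hYiso : ∀ u v, B (Y u) (Y v) = B u v :=
      std_iso d _ (mem_symplectic_of_preserves _ ((mem_spGL' d y).1 hyS))
    have hyy : (y : Matrix (Fin d ⊕ Fin d) (Fin d ⊕ Fin d) F) *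
        (y : Matrix (Fin d ⊕ Fin d) (Fin d ⊕ Fin d) F) = -1 := by
      have h1 : ((-1 : Matrix (Fin 2) (Fin 2) F) ⊗ₖ (1 : Matrix (Fin b) (Fin b) F)) = -1 := by
        rw [← neg_one_smul F (1 : Matrix (Fin 2) (Fin 2) F), Matrix.smul_kronecker,
          Matrix.one_kronecker_one, neg_one_smul]
      rw [hyval, conjK_mul, ← Matrix.mul_kronecker_mul, J0_mul_self, Matrix.one_mul, h1,
        conjK_neg_one]
    have hYY : ∀ v, Y (Y v) = -v := by
      intro v
      rw [hY, Matrix.toLin'_apply, Matrix.toLin'_apply, Matrix.mulVec_mulVec, hyy,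
        Matrix.neg_mulVec, Matrix.one_mulVec]
    apply key y (tpsElem_mem e P J0GL 1)
    exact sqneg_conj_gen B X hoddc hBalt hBnd h2F d hdim Y hXiso hXX' hYiso hYY

end bwd

end Cfsg.Agent.Lib.Helper12.TSp
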