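import Mathlib
import Cfsg.Agent.Lib.Helper5.TWS.Defs
import Cfsg.Agent.Lib.Helper20.AschA89F2J
import Cfsg.Agent.Lib.Helper9.TWST

/-!
# S5668 (C7 symplectic), Stage III (plan §6): the GROWTH step (helper12)

`growS_core`: `XTS X {m}` (root elements at slot `m`), `XTS X J1`, `XTS X J2`, `J1 ∩ J2 = {m}`, `|J1|, |J2| ≥ 2`
`⟹ XTS X (J1 ∪ J2)` (`q` odd).  Commutator `[1 + c M', 1 + c' M''] = 1 + c c' sf(b,a) N_{J1∖m} ⊗ (a b† + b a†) ⊗ N_{J2∖m}`,
then the `±1` sandwich with `slot m (1 ± y_m y_m†)`.
Tools: `rk u v = u v†`, `rk_mul_rk`, `famS`, `nilS_eq_ptens`, `ptens_update_*`, `InM_comm'`.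
-/

set_option autoImplicit false
set_option linter.unusedSectionVars false
set_option linter.unusedVariables false

namespace Cfsg.Agent.Lib.Helper12.TWSGrow
open Matrix Cfsg.Geo Cfsg.Agent.Lib.Helper18.AschA89 Cfsg.Agent.Lib.Helper20.AschLeaf Cfsg.Agent.Lib.Helper8.TW
open Cfsg.Agent.Lib.Helper5.TWS
open Cfsg.Agent.Lib.Helper25.SpT (sf Jm sfv)

variable {F : Type*} [Field F] {t k : ℕ}

/-- the rank-one matrix `u v†` : `x ↦ sf x v • u` -/
def rk (u v : Fin k → F) : Matrix (Fin k) (Fin k) F := Matrix.vecMulVec u (sfv v)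

lemma rk_apply (u v : Fin k → F) (a b : Fin k) : rk u v a b = u a * sfv v b := by
  unfold rk
  rw [Matrix.vecMulVec_apply]

lemma rk_mul_rk (u v u' v' : Fin k → F) : rk u v * rk u' v' = sf u' v • rk u v' := by
  unfold rk
  rw [Matrix.vecMulVec_mul_vecMulVec, Cfsg.Agent.Lib.Helper25.SpT.sfv_dot]
  ext i j
  simp only [Matrix.vecMulVec_apply, Matrix.smul_apply, Pi.smul_apply, smul_eq_mul]
  ring

lemma rk_self_sq (u : Fin k → F) : rk u u * rk u u = 0 := by
  rw [rk_mul_rk, Cfsg.Agent.Lib.Helper25.SpT.sf_self, zero_smul]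

/-- the factor family of `nilS J y`: `y_j y_j†` for `j ∈ J`, `1` otherwise -/
def famS (J : Finset (Fin t)) (y : Fin t → Fin k → F) : Fin t → Matrix (Fin k) (Fin k) F :=
  fun j => if j ∈ J then rk (y j) (y j) else 1

theorem nilS_eq_ptens (J : Finset (Fin t)) (y : Fin t → Fin k → F) :
    nilS J y = ptens k t (famS J y) := by
  classical
  ext x x'
  rw [ptens_apply]
  unfold nilS
  have hsplit : ∏ i, famS J y i (x i) (x' i) =
      (∏ i ∈ J, famS J y i (x i) (x' i)) * ∏ i ∈ Jᶜ, famS J y i (x i) (x' i) :=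
    (Finset.prod_mul_prod_compl J _).symm
  rw [hsplit]
  have h1 : ∏ i ∈ J, famS J y i (x i) (x' i) = ∏ j ∈ J, y j (x j) * sfv (y j) (x' j) := by
    apply Finset.prod_congr rfl
    intro i hi
    unfold famS
    rw [if_pos hi, rk_apply]
  have h2 : ∏ i ∈ Jᶜ, famS J y i (x i) (x' i) = if ∀ j, j ∉ J → x j = x' j then 1 else 0 := by
    have e : ∀ i ∈ Jᶜ, famS J y i (x i) (x' i) = if x i = x' i then 1 else 0 := by
      intro i hi
      unfold famS
      rw [if_neg (Finset.mem_compl.1 hi), Matrix.one_apply]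
    rw [Finset.prod_congr rfl e, Finset.prod_ite_zero]
    simp only [Finset.prod_const_one, Finset.mem_compl]
  rw [h1, h2]
  split_ifs <;> simp

/-! ### `ptens` in one factor -/

lemma ptens_eq_zero' (G : Fin t → Matrix (Fin k) (Fin k) F) (i : Fin t) (h : G i = 0) :
    ptens k t G = 0 := by
  ext x y
  rw [ptens_apply, Matrix.zero_apply]
  apply Finset.prod_eq_zero (Finset.mem_univ i)
  rw [h, Matrix.zero_apply]

lemma ptens_update_apply' (G : Fin t → Matrix (Fin k) (Fin k) F) (l : Fin t)
    (A : Matrix (Fin k) (Fin k) F) (x y : Fin t → Fin k) :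
    ptens k t (Function.update G l A) x y =
      A (x l) (y l) * ∏ i ∈ Finset.univ.erase l, G i (x i) (y i) := by
  classical
  rw [ptens_apply, ← Finset.mul_prod_erase Finset.univ _ (Finset.mem_univ l), Function.update_self]
  congr 1
  apply Finset.prod_congr rfl
  intro i hi
  rw [Function.update_of_ne (Finset.ne_of_mem_erase hi)]

lemma ptens_update_add' (G : Fin t → Matrix (Fin k) (Fin k) F) (l : Fin t)
    (A B : Matrix (Fin k) (Fin k) F) :
    ptens k t (Function.update G l (A + B)) =
      ptens k t (Function.update G l A) + ptens k t (Function.update G l B) := by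
  ext x y
  rw [Matrix.add_apply, ptens_update_apply', ptens_update_apply', ptens_update_apply', Matrix.add_apply,
    add_mul]

lemma ptens_update_neg' (G : Fin t → Matrix (Fin k) (Fin k) F) (l : Fin t)
    (A : Matrix (Fin k) (Fin k) F) :
    ptens k t (Function.update G l (-A)) = - ptens k t (Function.update G l A) := by
  ext x y
  rw [Matrix.neg_apply, ptens_update_apply', ptens_update_apply', Matrix.neg_apply, neg_mul]

lemma ptens_update_smul' (G : Fin t → Matrix (Fin k) (Fin k) F) (l : Fin t) (c : F)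
    (A : Matrix (Fin k) (Fin k) F) :
    ptens k t (Function.update G l (c • A)) = c • ptens k t (Function.update G l A) := by
  ext x y
  rw [Matrix.smul_apply, ptens_update_apply', ptens_update_apply', Matrix.smul_apply, smul_eq_mul,
    smul_eq_mul, mul_assoc]

lemma ptens_update_mul' (G G' : Fin t → Matrix (Fin k) (Fin k) F) (l : Fin t)
    (A B : Matrix (Fin k) (Fin k) F) :
    ptens k t (Function.update G l A) * ptens k t (Function.update G' l B) =
      ptens k t (Function.update (fun i => G i * G' i) l (A * B)) := by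
  classical
  rw [ptens_mul]
  congr 1
  funext i
  by_cases hi : i = l
  · subst hi
    rw [Function.update_self, Function.update_self, Function.update_self]
  · rw [Function.update_of_ne hi, Function.update_of_ne hi, Function.update_of_ne hi]

/-! ### unipotent calculus in a subgroup -/

/-- the inverse of a unit with matrix `1 + N`, `N² = 0` -/
lemma inv_val_of_sq_zero' {κ : Type} [Fintype κ] [DecidableEq κ] (g : GL κ F) (N : Matrix κ κ F)
    (hg : (g : Matrix κ κ F) = 1 + N) (hN : N * N = 0) : ((g⁻¹ : GL κ F) : Matrix κ κ F) = 1 - N := by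
  apply Units.inv_eq_of_mul_eq_one_right
  have e : (1 + N) * (1 - N) = 1 - N * N := by noncomm_ring
  rw [hg, e, hN, sub_zero]

/-- commutator of two unipotents `1 + a`, `1 + b` with `a² = b² = aba = bab = 0` -/
lemma InM_comm' {κ : Type} [Fintype κ] [DecidableEq κ] (X : Subgroup (GL κ F)) (a b : Matrix κ κ F)
    (ha : InM X (1 + a)) (hb : InM X (1 + b)) (haa : a * a = 0) (hbb : b * b = 0)
    (haba : a * b * a = 0) (hbab : b * a * b = 0) : InM X (1 + (a * b - b * a)) := by
  obtain ⟨u, hu, hua⟩ := ha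
  obtain ⟨v, hv, hvb⟩ := hb
  refine ⟨u * v * u⁻¹ * v⁻¹, X.mul_mem (X.mul_mem (X.mul_mem hu hv) (X.inv_mem hu)) (X.inv_mem hv), ?_⟩
  rw [Units.val_mul, Units.val_mul, Units.val_mul, inv_val_of_sq_zero' u a hua haa,
    inv_val_of_sq_zero' v b hvb hbb, hua, hvb]
  have key : (1 + a) * (1 + b) * (1 - a) * (1 - b) =
      1 + (a * b - b * a) - a * a - a * b * a - b * b - a * (b * b) + a * a * b + b * a * b
        + a * b * a * b := by
    noncomm_ring
  rw [key, haa, hbb, haba, hbab]
  simp

lemma two_ne_zero_of_odd [Fintype F] (hodd : Odd (Fintype.card F)) : (2 : F) ≠ 0 := by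
  intro h
  have h2 : ringChar F = 2 :=
    CharP.ringChar_of_prime_eq_zero Nat.prime_two (by exact_mod_cast h)
  have := FiniteField.even_card_of_char_two h2
  rcases hodd with ⟨r, hr⟩
  omega

/-! ### the growth step -/

/-- **GROWTH** (plan §6): two `XT`'s meeting in exactly one slot `m` give the `XT` of the union. -/
theorem growS_core [Fintype F] (hodd : Odd (Fintype.card F)) (hk : Even k)
    (X : Subgroup (GL (Idx t k) F)) (J1 J2 : Finset (Fin t)) (m : Fin t) (hm : J1 ∩ J2 = {m})
    (h1 : 2 ≤ J1.card) (h2 : 2 ≤ J2.card)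
    (hX0 : XTS X {m}) (hX1 : XTS X J1) (hX2 : XTS X J2) : XTS X (J1 ∪ J2) := by
  classical
  intro y c hy
  have h2F : (2 : F) ≠ 0 := two_ne_zero_of_odd hodd
  have h4F : (4 : F) ≠ 0 := by
    have : (4 : F) = 2 * 2 := by norm_num
    rw [this]; exact mul_ne_zero h2F h2F
  have hmJ : m ∈ J1 ∩ J2 := by rw [hm]; exact Finset.mem_singleton_self m
  have hmJ1 : m ∈ J1 := (Finset.mem_inter.1 hmJ).1
  have hmJ2 : m ∈ J2 := (Finset.mem_inter.1 hmJ).2
  obtain ⟨i1, hi1, hi1m⟩ := Finset.exists_mem_ne (by omega : 1 < J1.card) m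
  obtain ⟨i2, hi2, hi2m⟩ := Finset.exists_mem_ne (by omega : 1 < J2.card) m
  have hdisj : ∀ i, i ≠ m → i ∈ J1 → i ∉ J2 := by
    intro i him hiJ1 hiJ2
    have : i ∈ J1 ∩ J2 := Finset.mem_inter.2 ⟨hiJ1, hiJ2⟩
    rw [hm, Finset.mem_singleton] at this
    exact him this
  have hi1J2 : i1 ∉ J2 := hdisj i1 hi1m hi1
  have hi2J1 : i2 ∉ J1 := fun h => hdisj i2 hi2m h hi2
  -- the vectors at slot `m`
  set w : Fin k → F := y m with hw
  have hw0 : w ≠ 0 := hy m (Finset.mem_union_left _ hmJ1)
  obtain ⟨a0, ha0⟩ := Cfsg.Agent.Lib.Helper25.SpT.exists_sf_ne_zero hk hw0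
  have ha0' : sf a0 w ≠ 0 := by
    rw [Cfsg.Agent.Lib.Helper25.SpT.sf_skew]; exact neg_ne_zero.2 ha0
  set a : Fin k → F := (sf a0 w)⁻¹ • a0 with ha
  have haw : sf a w = 1 := by
    rw [ha, Cfsg.Agent.Lib.Helper25.SpT.sf_smul_left, inv_mul_cancel₀ ha0']
  have hwa : sf w a = -1 := by
    rw [Cfsg.Agent.Lib.Helper25.SpT.sf_skew, haw]
  set b : Fin k → F := a + w with hb
  have hba : sf b a = -1 := by
    rw [hb, Cfsg.Agent.Lib.Helper25.SpT.sf_add_left, Cfsg.Agent.Lib.Helper25.SpT.sf_self, hwa, zero_add]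
  have hab : sf a b = 1 := by
    rw [Cfsg.Agent.Lib.Helper25.SpT.sf_skew, hba, neg_neg]
  have hbw : sf b w = 1 := by
    rw [hb, Cfsg.Agent.Lib.Helper25.SpT.sf_add_left, Cfsg.Agent.Lib.Helper25.SpT.sf_self, haw, add_zero]
  have hwb : sf w b = -1 := by
    rw [Cfsg.Agent.Lib.Helper25.SpT.sf_skew, hbw]
  have ha_ne : a ≠ 0 := by
    intro h0
    rw [h0, Cfsg.Agent.Lib.Helper25.SpT.sf_zero_left] at haw
    exact zero_ne_one haw
  have hb_ne : b ≠ 0 := by
    intro h0
    rw [h0, Cfsg.Agent.Lib.Helper25.SpT.sf_zero_left] at hbw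
    exact zero_ne_one hbw
  -- the families
  set N : Matrix (Fin k) (Fin k) F := rk w w with hN
  have hNN : N * N = 0 := rk_self_sq w
  set G0 : Fin t → Matrix (Fin k) (Fin k) F := famS (J1 ∪ J2) y with hG0
  set G1 : Fin t → Matrix (Fin k) (Fin k) F := famS J1 y with hG1
  set G2 : Fin t → Matrix (Fin k) (Fin k) F := famS J2 y with hG2
  set P : Matrix (Fin k) (Fin k) F → Matrix (Idx t k) (Idx t k) F :=
    fun A => ptens k t (Function.update G0 m A) with hP
  set V : Matrix (Fin k) (Fin k) F → Matrix (Idx t k) (Idx t k) F :=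
    fun B => ptens k t (Function.update (fun _ => 1) m B) with hV
  have hG0i1 : G0 i1 = rk (y i1) (y i1) := by
    simp only [hG0, famS]
    rw [if_pos (Finset.mem_union_left _ hi1)]
  have hG12 : ∀ i, i ≠ m → G1 i * G2 i = G0 i := by
    intro i him
    simp only [hG0, hG1, hG2, famS, Finset.mem_union]
    by_cases hi1' : i ∈ J1
    · rw [if_pos hi1', if_neg (hdisj i him hi1'), if_pos (Or.inl hi1'), mul_one]
    · by_cases hi2' : i ∈ J2
      · rw [if_neg hi1', if_pos hi2', if_pos (Or.inr hi2'), one_mul]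
      · rw [if_neg hi1', if_neg hi2', if_neg (by tauto), one_mul]
  have hG21 : ∀ i, i ≠ m → G2 i * G1 i = G0 i := by
    intro i him
    simp only [hG0, hG1, hG2, famS, Finset.mem_union]
    by_cases hi1' : i ∈ J1
    · rw [if_pos hi1', if_neg (hdisj i him hi1'), if_pos (Or.inl hi1'), one_mul]
    · by_cases hi2' : i ∈ J2
      · rw [if_neg hi1', if_pos hi2', if_pos (Or.inr hi2'), mul_one]
      · rw [if_neg hi1', if_neg hi2', if_neg (by tauto), one_mul]
  -- linearity of `P`, `V`
  have hP_add : ∀ A B, P (A + B) = P A + P B := fun A B => ptens_update_add' G0 m A B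
  have hP_neg : ∀ A, P (-A) = - P A := fun A => ptens_update_neg' G0 m A
  have hP_smul : ∀ (e : F) A, P (e • A) = e • P A := fun e A => ptens_update_smul' G0 m e A
  have hV_add : ∀ A B, V (A + B) = V A + V B := fun A B => ptens_update_add' _ m A B
  have hV_smul : ∀ (e : F) A, V (e • A) = e • V A := fun e A => ptens_update_smul' _ m e A
  have hV_one : V 1 = 1 := by
    simp only [hV]
    rw [Function.update_eq_self_iff.2 rfl]
    exact ptens_one k t
  have hV_mul : ∀ A B, V A * V B = V (A * B) := by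
    intro A B
    simp only [hV]
    rw [ptens_update_mul']
    simp only [mul_one]
  have hVP : ∀ B A, V B * P A = P (B * A) := by
    intro B A
    simp only [hV, hP]
    rw [ptens_update_mul']
    simp only [one_mul]
  have hPV : ∀ A B, P A * V B = P (A * B) := by
    intro A B
    simp only [hV, hP]
    rw [ptens_update_mul']
    simp only [mul_one]
  have hPP : ∀ A B, P A * P B = 0 := by
    intro A B
    simp only [hP]
    rw [ptens_update_mul']
    apply ptens_eq_zero' _ i1
    rw [Function.update_of_ne hi1m, hG0i1, rk_self_sq]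
  have hP0 : P 0 = 0 := by
    simp only [hP]
    apply ptens_eq_zero' _ m
    rw [Function.update_self]
  -- the root elements at slot `m`
  have hroot : ∀ e : F, InM X (V (1 + e • N)) := by
    intro e
    have h0 := hX0 y e (fun j hj => by
      rw [Finset.mem_singleton] at hj; subst hj; exact hw0)
    have e1 : nilS {m} y = V N := by
      rw [nilS_eq_ptens]
      simp only [hV]
      congr 1
      funext i
      by_cases hi : i = m
      · subst hi
        rw [Function.update_self]
        simp only [famS, Finset.mem_singleton, if_true, hN, hw]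
      · rw [Function.update_of_ne hi]
        simp only [famS, Finset.mem_singleton, if_neg hi]
    rw [e1] at h0
    rw [hV_add, hV_one, hV_smul]
    exact h0
  -- the additive group of the `A` with `1 + P A ∈ X`
  let YY : AddSubgroup (Matrix (Fin k) (Fin k) F) :=
    { carrier := {A | InM X (1 + P A)}
      zero_mem' := by
        show InM X (1 + P 0)
        rw [hP0, add_zero]
        exact ⟨1, X.one_mem, Units.val_one⟩
      add_mem' := by
        rintro A B ⟨g, hg, hgv⟩ ⟨g', hg', hgv'⟩
        refine ⟨g * g', X.mul_mem hg hg', ?_⟩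
        rw [Units.val_mul, hgv, hgv', hP_add, add_mul, mul_add, mul_add, one_mul, mul_one, one_mul, hPP]
        abel
      neg_mem' := by
        rintro A ⟨g, hg, hgv⟩
        refine ⟨g⁻¹, X.inv_mem hg, ?_⟩
        rw [inv_val_of_sq_zero' g (P A) hgv (hPP A A), hP_neg, sub_eq_add_neg] }
  have hYY : ∀ A, A ∈ YY ↔ InM X (1 + P A) := fun A => Iff.rfl
  -- closed under conjugation by the root elements
  have hconj : ∀ (e : F) (A : Matrix (Fin k) (Fin k) F), A ∈ YY →
      (1 + e • N) * A * (1 - e • N) ∈ YY := by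
    intro e A hA
    obtain ⟨g, hg, hgv⟩ := (hYY A).1 hA
    obtain ⟨u, hu, huv⟩ := hroot e
    have hinv : (1 + e • N) * (1 - e • N) = 1 := by
      have hgen : ∀ Z : Matrix (Fin k) (Fin k) F, (1 + Z) * (1 - Z) = 1 - Z * Z := by
        intro Z; noncomm_ring
      rw [hgen, Matrix.smul_mul, Matrix.mul_smul, hNN, smul_zero, smul_zero, sub_zero]
    have huinv : ((u⁻¹ : GL (Idx t k) F) : Matrix (Idx t k) (Idx t k) F) = V (1 - e • N) := by
      apply Units.inv_eq_of_mul_eq_one_right
      rw [huv, hV_mul, hinv, hV_one]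
    rw [hYY]
    refine ⟨u * g * u⁻¹, X.mul_mem (X.mul_mem hu hg) (X.inv_mem hu), ?_⟩
    rw [Units.val_mul, Units.val_mul, huv, hgv, huinv, mul_add, add_mul, mul_one, hV_mul, hinv, hV_one,
      hVP, hPV]
  -- the two `XT` elements
  set y1 : Fin t → Fin k → F := Function.update y m a with hy1
  set y2 : Fin t → Fin k → F := Function.update y m b with hy2
  set M1 : Matrix (Idx t k) (Idx t k) F := ptens k t (Function.update G1 m (rk a a)) with hM1
  set M2 : Matrix (Idx t k) (Idx t k) F := ptens k t (Function.update G2 m (rk b b)) with hM2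
  have hnil1 : nilS J1 y1 = M1 := by
    rw [nilS_eq_ptens, hM1]
    congr 1
    funext i
    by_cases hi : i = m
    · subst hi
      rw [Function.update_self]
      simp only [famS, if_pos hmJ1, hy1, Function.update_self]
    · rw [Function.update_of_ne hi]
      simp only [hG1, famS, hy1, Function.update_of_ne hi]
  have hnil2 : nilS J2 y2 = M2 := by
    rw [nilS_eq_ptens, hM2]
    congr 1
    funext i
    by_cases hi : i = m
    · subst hi
      rw [Function.update_self]
      simp only [famS, if_pos hmJ2, hy2, Function.update_self]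
    · rw [Function.update_of_ne hi]
      simp only [hG2, famS, hy2, Function.update_of_ne hi]
  have hXM1 : ∀ e : F, InM X (1 + e • M1) := by
    intro e
    rw [← hnil1]
    apply hX1 y1 e
    intro j hj
    by_cases hjm : j = m
    · subst hjm
      rw [hy1, Function.update_self]; exact ha_ne
    · rw [hy1, Function.update_of_ne hjm]
      exact hy j (Finset.mem_union_left _ hj)
  have hXM2 : ∀ e : F, InM X (1 + e • M2) := by
    intro e
    rw [← hnil2]
    apply hX2 y2 e
    intro j hj
    by_cases hjm : j = m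
    · subst hjm
      rw [hy2, Function.update_self]; exact hb_ne
    · rw [hy2, Function.update_of_ne hjm]
      exact hy j (Finset.mem_union_right _ hj)
  have hupd12 : ∀ Z : Matrix (Fin k) (Fin k) F,
      Function.update (fun i => G1 i * G2 i) m Z = Function.update G0 m Z := by
    intro Z
    funext i
    by_cases hi : i = m
    · subst hi
      rw [Function.update_self, Function.update_self]
    · rw [Function.update_of_ne hi, Function.update_of_ne hi, hG12 i hi]
  have hupd21 : ∀ Z : Matrix (Fin k) (Fin k) F,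
      Function.update (fun i => G2 i * G1 i) m Z = Function.update G0 m Z := by
    intro Z
    funext i
    by_cases hi : i = m
    · subst hi
      rw [Function.update_self, Function.update_self]
    · rw [Function.update_of_ne hi, Function.update_of_ne hi, hG21 i hi]
  have hM12 : M1 * M2 = P (rk a a * rk b b) := by
    rw [hM1, hM2, ptens_update_mul', hupd12]
  have hM21 : M2 * M1 = P (rk b b * rk a a) := by
    rw [hM1, hM2, ptens_update_mul', hupd21]
  have hG1i1 : G1 i1 = rk (y i1) (y i1) := by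
    simp only [hG1, famS]; rw [if_pos hi1]
  have hG2i2 : G2 i2 = rk (y i2) (y i2) := by
    simp only [hG2, famS]; rw [if_pos hi2]
  have hG2i1 : G2 i1 = 1 := by
    simp only [hG2, famS]; rw [if_neg hi1J2]
  have hG1i2 : G1 i2 = 1 := by
    simp only [hG1, famS]; rw [if_neg hi2J1]
  have hM11 : M1 * M1 = 0 := by
    rw [hM1, ptens_update_mul']
    apply ptens_eq_zero' _ i1
    rw [Function.update_of_ne hi1m, hG1i1, rk_self_sq]
  have hM22 : M2 * M2 = 0 := by
    rw [hM2, ptens_update_mul']
    apply ptens_eq_zero' _ i2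
    rw [Function.update_of_ne hi2m, hG2i2, rk_self_sq]
  have hM121 : M1 * M2 * M1 = 0 := by
    rw [hM1, hM2, ptens_update_mul', ptens_update_mul']
    apply ptens_eq_zero' _ i1
    rw [Function.update_of_ne hi1m, hG1i1, hG2i1, mul_one, rk_self_sq]
  have hM212 : M2 * M1 * M2 = 0 := by
    rw [hM1, hM2, ptens_update_mul', ptens_update_mul']
    apply ptens_eq_zero' _ i2
    rw [Function.update_of_ne hi2m, hG2i2, hG1i2, mul_one, rk_self_sq]
  -- the commutator
  set S : Matrix (Fin k) (Fin k) F := rk a b + rk b a with hS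
  have hSY : ∀ e : F, e • S ∈ YY := by
    intro e
    rw [hYY]
    have hc := InM_comm' X ((-e) • M1) ((1 : F) • M2) (hXM1 (-e)) (hXM2 1)
      (by rw [Matrix.smul_mul, Matrix.mul_smul, hM11, smul_zero, smul_zero])
      (by rw [Matrix.smul_mul, Matrix.mul_smul, hM22, smul_zero, smul_zero])
      (by simp only [Matrix.smul_mul, Matrix.mul_smul, hM121, smul_zero])
      (by simp only [Matrix.smul_mul, Matrix.mul_smul, hM212, smul_zero])
    have e1 : (-e) • M1 * (1 : F) • M2 - (1 : F) • M2 * (-e) • M1 = P (e • S) := by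
      rw [Matrix.smul_mul, Matrix.mul_smul, Matrix.smul_mul, Matrix.mul_smul, hM12, hM21, rk_mul_rk,
        rk_mul_rk, hba, hab, hP_smul, hP_smul, hP_smul, hS, hP_add]
      simp only [one_smul, neg_smul, smul_neg, neg_neg, smul_add]
      abel
    rw [e1] at hc
    exact hc
  -- the sandwich
  have hfin : ∀ e : F, (4 * e) • N ∈ YY := by
    intro e
    have hA := hSY e
    have hT1 := hconj 1 _ hA
    have hT2 := hconj (-1) _ hA
    have hsum := YY.sub_mem (YY.sub_mem (YY.add_mem hT1 hT2) hA) hA
    have e2 : (1 + (1 : F) • N) * (e • S) * (1 - (1 : F) • N) +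
        (1 + (-1 : F) • N) * (e • S) * (1 - (-1 : F) • N) - e • S - e • S = (4 * e) • N := by
      have e3 : ∀ Z : Matrix (Fin k) (Fin k) F, (1 + N) * Z * (1 - N) + (1 - N) * Z * (1 + N) - Z - Z =
          - (N * Z * N) - (N * Z * N) := by
        intro Z; noncomm_ring
      have e4 : N * S * N = - N - N := by
        rw [hS, mul_add, add_mul, hN, rk_mul_rk, rk_mul_rk, Matrix.smul_mul, Matrix.smul_mul, rk_mul_rk,
          rk_mul_rk, haw, hbw, hwb, hwa]
        simp only [one_smul, neg_smul]
        abel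
      rw [one_smul, neg_smul, one_smul, ← sub_eq_add_neg, sub_neg_eq_add, e3, Matrix.mul_smul,
        Matrix.smul_mul, e4]
      module
    rw [e2] at hsum
    exact hsum
  have hlast := (hYY _).1 (hfin (c / 4))
  have e5 : 4 * (c / 4) = c := by field_simp
  rw [e5, hP_smul] at hlast
  have e6 : P N = nilS (J1 ∪ J2) y := by
    rw [nilS_eq_ptens]
    simp only [hP]
    congr 1
    rw [Function.update_eq_self_iff]
    simp only [hG0, famS]
    rw [if_pos (Finset.mem_union_left _ hmJ1)]
  rw [e6] at hlast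
  exact hlast

/-- the root elements: `HS ≤ X` gives `XT_{m}` for every slot `m` -/
theorem XTS_singleton (hk : Even k) (X : Subgroup (GL (Idx t k) F)) (hHX : HS t k F ≤ X) (m : Fin t) :
    XTS X {m} := by
  classical
  intro y c hy
  have hy0 : y m ≠ 0 := hy m (Finset.mem_singleton_self m)
  have hr : RS (srd hk m (y m) hy0) := srd_RS hk m (y m) hy0
  refine ⟨(srd hk m (y m) hy0).elt c, hHX (Cfsg.Agent.Lib.Helper9.TWST.elt_mem_HS hk hr c), ?_⟩
  rw [RD.elt_val, Cfsg.Agent.Lib.Helper9.TWST.RD_N_eq hr]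
  congr 2
  ext x x'
  simp only [srd_i, srd_y, rootN, slot_apply, nilS, Finset.mem_singleton, Finset.prod_singleton,
    Matrix.vecMulVec_apply]

/-- **GROWTH** (plan §6) for an overgroup of `HS`. -/
theorem growS [Fintype F] (hodd : Odd (Fintype.card F)) (hk : Even k)
    (X : Subgroup (GL (Idx t k) F)) (hHX : HS t k F ≤ X) (J1 J2 : Finset (Fin t)) (m : Fin t)
    (hm : J1 ∩ J2 = {m}) (h1 : 2 ≤ J1.card) (h2 : 2 ≤ J2.card)
    (hX1 : XTS X J1) (hX2 : XTS X J2) : XTS X (J1 ∪ J2) :=
  growS_core hodd hk X J1 J2 m hm h1 h2 (XTS_singleton hk X hHX m) hX1 hX2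

end Cfsg.Agent.Lib.Helper12.TWSGrow
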