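import Mathlib
import Cfsg.Agent.Lib.Helper5.TWS.Defs
import Cfsg.Agent.Lib.Helper23.TWUQ1
import Cfsg.Agent.Lib.Helper12.TWTS
import Cfsg.Agent.Lib.Helper6.TWSlot
import Cfsg.Agent.Lib.Helper12.TWSGrow

/-!
# S5668 (C7 symplectic), Stage III (G0'): the RIGIDITY leaf (helper12)

`not_le_Gstd_of_XTS`: `XTS K J`, `2 ≤ |J|`, `2 ≠ 0` `⟹ ¬ K ≤ Gstd t k F`
(port of `Helper4.TWU3Leaf.not_le_Gstd_nilU` over `Helper23.TWUQLeaf.rootlike_is_root_two` with the two members
`1 + N`, `1 - N` of the family; `N = nilS J y`, all `y j = e_0 + e_1`).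
-/

set_option autoImplicit false
set_option linter.unusedSectionVars false
set_option linter.unusedVariables false

namespace Cfsg.Agent.Lib.Helper12.TWS3
open Matrix Cfsg.Geo Cfsg.Agent.Lib.Helper18.AschA89 Cfsg.Agent.Lib.Helper20.AschLeaf Cfsg.Agent.Lib.Helper8.TW
open Cfsg.Agent.Lib.Helper5.TWS Cfsg.Agent.Lib.Helper12.TWSGrow
open Cfsg.Agent.Lib.Helper25.SpT (sf Jm sfv pr)

variable {F : Type*} [Field F] {t k : ℕ}

/-- the entries of the functional `sfv y` -/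
lemma sfv_apply (hk : Even k) (y : Fin k → F) (b : Fin k) :
    sfv y b = (Jm k : Matrix (Fin k) (Fin k) F) b (pr hk b) * y (pr hk b) := by
  unfold Cfsg.Agent.Lib.Helper25.SpT.sfv
  rw [Matrix.mulVec, dotProduct]
  apply Finset.sum_eq_single (pr hk b)
  · intro c _ hc
    rw [Cfsg.Agent.Lib.Helper25.SpT.Jm_eq_zero_of_ne hk b c hc, zero_mul]
  · intro h; exact absurd (Finset.mem_univ _) h

/-- `nilS J y` squares to zero (`J ≠ ∅`) -/
theorem nilS_sq (J : Finset (Fin t)) (y : Fin t → Fin k → F) {j₀ : Fin t} (hj₀ : j₀ ∈ J) :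
    nilS J y * nilS J y = 0 := by
  rw [nilS_eq_ptens, ptens_mul]
  apply ptens_eq_zero' _ j₀
  simp only [famS, if_pos hj₀]
  exact rk_self_sq _

/-- the rank of `nilS J y` is at most `k^(t-1)` (`J ≠ ∅`) -/
theorem rank_nilS_le (J : Finset (Fin t)) (y : Fin t → Fin k → F) {j₀ : Fin t} (hj₀ : j₀ ∈ J) :
    (nilS J y).rank ≤ k ^ (t - 1) := by
  have h1 : nilS J y = slot k t j₀ (rk (y j₀) (y j₀)) *
      ptens k t (Function.update (famS J y) j₀ 1) := by
    rw [nilS_eq_ptens, Cfsg.Agent.Lib.Helper12.TWLeaf.slot_mul_ptens]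
    congr 1
    funext i
    by_cases hi : i = j₀
    · subst hi
      rw [Function.update_self, Function.update_self, mul_one]
      unfold famS
      rw [if_pos hj₀]
    · rw [Function.update_of_ne hi, Function.update_of_ne hi]
  rw [h1]
  refine le_trans (Matrix.rank_mul_le_left _ _) ?_
  rw [Cfsg.Agent.Lib.Helper6.TWQ.rank_slot]
  have h2 : (rk (y j₀) (y j₀)).rank ≤ 1 := by
    unfold rk
    exact Matrix.rank_vecMulVec_le _ _
  calc (rk (y j₀) (y j₀)).rank * k ^ (t - 1) ≤ 1 * k ^ (t - 1) := Nat.mul_le_mul_right _ h2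
    _ = k ^ (t - 1) := one_mul _

/-- **RIGIDITY**: `XT_J ⊆ K`, `|J| ≥ 2` ⟹ `K ⊄ G` (`2 ≠ 0`) -/
theorem not_le_Gstd_of_XTS' [Fintype F] (h2F : (2 : F) ≠ 0) (hk : Even k) (hk2 : 2 ≤ k)
    (K : Subgroup (GL (Idx t k) F)) (J : Finset (Fin t)) (hJ : 2 ≤ J.card) (h : XTS K J) :
    ¬ K ≤ Gstd t k F := by
  classical
  intro hK
  set a : Fin k := ⟨0, by omega⟩ with ha
  set b : Fin k := pr hk a with hb
  have hab : a ≠ b := (Cfsg.Agent.Lib.Helper25.SpT.pr_ne hk a).symm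
  have hpb : pr hk b = a := Cfsg.Agent.Lib.Helper25.SpT.pr_pr hk a
  set x₀ : Fin k → F := Pi.single a 1 + Pi.single b 1 with hx₀
  have hx0a : x₀ a = 1 := by
    simp only [hx₀, Pi.add_apply, Pi.single_eq_same, Pi.single_eq_of_ne hab, add_zero]
  have hx0b : x₀ b = 1 := by
    simp only [hx₀, Pi.add_apply, Pi.single_eq_same, Pi.single_eq_of_ne hab.symm, zero_add]
  have hx0 : x₀ ≠ 0 := by
    intro h0
    have := congrFun h0 a
    rw [hx0a, Pi.zero_apply] at this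
    exact one_ne_zero this
  have hsa : sfv x₀ a ≠ 0 := by
    rw [sfv_apply hk, ← hb, hx0b, mul_one]
    exact Cfsg.Agent.Lib.Helper25.SpT.Jm_pr_ne_zero hk a
  have hsb : sfv x₀ b ≠ 0 := by
    rw [sfv_apply hk, hpb, hx0a, mul_one]
    have := Cfsg.Agent.Lib.Helper25.SpT.Jm_pr_ne_zero (F := F) hk b
    rwa [hpb] at this
  have hJne : J.Nonempty := by
    rw [← Finset.card_pos]; omega
  obtain ⟨j₀, hj₀⟩ := hJne
  obtain ⟨y, hy⟩ : ∃ y : Fin t → Fin k → F, y = fun _ => x₀ := ⟨_, rfl⟩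
  have hyJ : ∀ j ∈ J, y j ≠ 0 := by
    intro j _
    rw [hy]
    exact hx0
  -- entries of `N`
  have hent : ∀ x x' : Idx t k, (∀ i, i ∉ J → x i = x' i) → (∀ i, x i = a ∨ x i = b) →
      (∀ i, x' i = a ∨ x' i = b) → nilS J y x x' ≠ 0 := by
    intro x x' h1 h2 h3
    unfold nilS
    rw [if_pos h1]
    apply Finset.prod_ne_zero_iff.mpr
    intro i _
    rw [hy]
    apply mul_ne_zero
    · rcases h2 i with e | e <;> rw [e]
      · show x₀ a ≠ 0
        rw [hx0a]; exact one_ne_zero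
      · show x₀ b ≠ 0
        rw [hx0b]; exact one_ne_zero
    · rcases h3 i with e | e <;> rw [e]
      · exact hsa
      · exact hsb
  have hN0 : nilS J y ≠ 0 := by
    intro h0
    apply hent (fun _ => a) (fun _ => a) (fun _ _ => rfl) (fun _ => Or.inl rfl) (fun _ => Or.inl rfl)
    rw [h0, Matrix.zero_apply]
  have hm1 : (-1 : F) ≠ 1 := by
    intro h1
    apply h2F
    have : (2 : F) = 1 - (-1) := by norm_num
    rw [this, h1, sub_self]
  obtain ⟨j, z, ζ, hz, hζ, -, heq⟩ := Cfsg.Agent.Lib.Helper23.TWUQLeaf.rootlike_is_root_two hk2 (nilS J y) hN0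
    (nilS_sq J y hj₀) (rank_nilS_le J y hj₀) (-1) (neg_ne_zero.2 one_ne_zero) hm1
    (by
      obtain ⟨g, hgK, hgv⟩ := h y 1 hyJ
      rw [one_smul] at hgv
      exact ⟨g, hK hgK, hgv⟩)
    (by
      obtain ⟨g, hgK, hgv⟩ := h y (-1) hyJ
      exact ⟨g, hK hgK, hgv⟩)
  obtain ⟨j₁, hj₁J, hj₁⟩ := Finset.exists_mem_ne (by omega : 1 < J.card) j
  have h1 := congrFun (congrFun heq (fun _ => a)) (Function.update (fun _ => a) j₁ b)
  have h2 : rootN j z ζ (fun _ => a) (Function.update (fun _ => a) j₁ b) = 0 := by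
    unfold rootN
    rw [slot_apply, if_neg]
    intro hcon
    have := hcon j₁ hj₁
    rw [Function.update_self] at this
    exact hab this
  rw [h2] at h1
  refine hent (fun _ => a) (Function.update (fun _ => a) j₁ b) ?_ (fun _ => Or.inl rfl) ?_ h1
  · intro i hi
    have : i ≠ j₁ := fun e => hi (e ▸ hj₁J)
    rw [Function.update_of_ne this]
  · intro i
    by_cases hi : i = j₁
    · subst hi
      rw [Function.update_self]; exact Or.inr rfl
    · rw [Function.update_of_ne hi]; exact Or.inl rfl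

/-- **RIGIDITY** for odd `q` -/
theorem not_le_Gstd_of_XTS [Fintype F] (hodd : Odd (Fintype.card F)) (hk : Even k) (hk2 : 2 ≤ k)
    (K : Subgroup (GL (Idx t k) F)) (J : Finset (Fin t)) (hJ : 2 ≤ J.card) (h : XTS K J) :
    ¬ K ≤ Gstd t k F :=
  not_le_Gstd_of_XTS' (two_ne_zero_of_odd hodd) hk hk2 K J hJ h

end Cfsg.Agent.Lib.Helper12.TWS3
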