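import Mathlib
import Cfsg.Agent.Lib.Helper5.TWS.Defs
import Cfsg.Agent.Lib.Helper8.TW.Defs
import Cfsg.Agent.Lib.Helper22.TWExtBasic
import Cfsg.Agent.Lib.Helper12.TWIIBZ
import Cfsg.Agent.Lib.Helper14.TWIIDefs
import Cfsg.Agent.Lib.Helper14.TWSIIDefs

/-!
# S5668 (C7 symplectic), Stage II-B (sub-planner helper14), leaf L2 `InZ_of_form` (helper12)
-/

set_option autoImplicit false
set_option linter.unusedSectionVars false
set_option linter.unusedVariables false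

namespace Cfsg.Agent.Lib.Helper12.TWSIILeaf
open Matrix Cfsg.Geo Cfsg.Agent.Lib.Helper18.AschA89 Cfsg.Agent.Lib.Helper8.TW Cfsg.Agent.Lib.Helper5.TWS
  Cfsg.Agent.Lib.Helper14.TWII Cfsg.Agent.Lib.Helper14.TWSII
open Cfsg.Agent.Lib.Helper25.SpT (sf Jm sfv)
open Cfsg.Agent.Lib.Helper23.TWUQ (NSp)

variable {F : Type*} [Field F] [Fintype F] {t k : ℕ}

/-- L2 (S) converse shape: `1 + θ ⊗ y y†` lies in `Z_W` -/
theorem InZ_of_form (i : Fin (t + 1)) (y : Fin k → F) (θ : Matrix (Idx t k) (Idx t k) F)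
    (u : GL (Idx (t + 1) k) F)
    (hu : (u : Matrix (Idx (t + 1) k) (Idx (t + 1) k) F) = 1 + ext i θ * rootN i y (sfv y)) : InZ i y u := by
  have hη : sfv y ⬝ᵥ y = 0 := by
    rw [Cfsg.Agent.Lib.Helper25.SpT.sfv_dot]; exact Cfsg.Agent.Lib.Helper25.SpT.sf_self y
  have hρ := Cfsg.Agent.Lib.Helper12.TWIIBLeaf.InZ_rootU i y (sfv y) hη
  have hρv : ∀ w, rootN i y (sfv y) *ᵥ w = mv (rootU i y (sfv y) hη) w - w := by
    intro w
    unfold mv
    rw [rootU_val, Matrix.add_mulVec, Matrix.one_mulVec, add_sub_cancel_left]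
  have hcomm : ext i θ * rootN i y (sfv y) = rootN i y (sfv y) * ext i θ := by
    unfold rootN
    exact Cfsg.Agent.Lib.Helper22.TWLeaf.ext_comm_slot i θ _
  constructor
  · intro v
    unfold mv
    rw [hu, Matrix.add_mulVec, Matrix.one_mulVec, add_sub_cancel_left, hcomm, ← Matrix.mulVec_mulVec, hρv]
    exact hρ.1 _
  · intro v hv
    unfold mv
    rw [hu, Matrix.add_mulVec, Matrix.one_mulVec, ← Matrix.mulVec_mulVec, hρv, hρ.2 v hv, sub_self,
      Matrix.mulVec_zero, add_zero]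

end Cfsg.Agent.Lib.Helper12.TWSIILeaf
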