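import Mathlib
import Cfsg.Agent.Lib.Helper5.TWS.Defs
import Cfsg.Agent.Lib.Helper9.TWST3
import Cfsg.Agent.Lib.Helper22.TWExtMore
import Cfsg.Agent.Lib.Helper19.TWU3Defs

/-!
# S5668 (C7 symplectic), Stage III (G0'), piece (6) (helper12): `HS_le_KB`, `KB_le_GSV`

`KB X j = {γ | γ ⊗ 1_j ∈ X}` is `Helper19.TWU3.KB` (form-free).  Tool: `adjT_ext` (the adjoint commutes with `ext j`),
`extGL_mem_GSV_iff : extGL j γ ∈ GSV (t+1) k F ↔ γ ∈ GSV t k F`.
-/

set_option autoImplicit false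
set_option linter.unusedSectionVars false
set_option linter.unusedVariables false

namespace Cfsg.Agent.Lib.Helper12.TWS3
open Matrix Cfsg.Geo Cfsg.Agent.Lib.Helper18.AschA89 Cfsg.Agent.Lib.Helper20.AschLeaf Cfsg.Agent.Lib.Helper8.TW
open Cfsg.Agent.Lib.Helper5.TWS Cfsg.Agent.Lib.Helper9.TWST Cfsg.Agent.Lib.Helper19.TWU3
open Cfsg.Agent.Lib.Helper25.SpT (sf Jm sfv pr)

variable {F : Type*} [Field F] {t k : ℕ}

/-- the sign of a multi-index splits at position `j` -/
lemma sgT_succAbove (hk : Even k) (j : Fin (t + 1)) (x : Idx (t + 1) k) :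
    (sgT hk x : F) = sg hk (x j) * sgT hk (fun i => x (j.succAbove i)) := by
  unfold sgT
  rw [Fin.prod_univ_succAbove _ j]

/-- the adjoint commutes with `ext j` -/
theorem adjT_ext (hk : Even k) (j : Fin (t + 1)) (γ : Matrix (Idx t k) (Idx t k) F) :
    adjT hk (ext j γ) = ext j (adjT hk γ) := by
  funext x z
  rw [adjT_apply, Cfsg.Agent.Lib.Helper22.TWLeaf.ext_apply, Cfsg.Agent.Lib.Helper22.TWLeaf.ext_apply]
  by_cases h : x j = z j
  · have h' : prT hk z j = prT hk x j := by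
      unfold prT
      rw [h]
    rw [if_pos h', if_pos h, adjT_apply, sgT_succAbove hk j x, sgT_succAbove hk j z, h]
    have e := sg_sq (F := F) hk (z j)
    have e2 : (fun i => prT hk z (j.succAbove i)) = prT hk (fun i => z (j.succAbove i)) := rfl
    have e3 : (fun i => prT hk x (j.succAbove i)) = prT hk (fun i => x (j.succAbove i)) := rfl
    rw [e2, e3]
    calc sg hk (z j) * sgT hk (fun i => x (j.succAbove i)) * (sg hk (z j) * sgT hk (fun i => z (j.succAbove i))) *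
          γ (prT hk fun i => z (j.succAbove i)) (prT hk fun i => x (j.succAbove i))
        = (sg hk (z j) * sg hk (z j)) * (sgT hk (fun i => x (j.succAbove i)) * sgT hk (fun i => z (j.succAbove i)) *
          γ (prT hk fun i => z (j.succAbove i)) (prT hk fun i => x (j.succAbove i))) := by ring
      _ = _ := by rw [e, one_mul]
  · have h' : ¬ prT hk z j = prT hk x j := by
      intro hcon
      apply h
      unfold prT at hcon
      exact ((pr_involutive hk).injective hcon).symm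
    rw [if_neg h', if_neg h, mul_zero]

/-- `γ ⊗ 1_j` is an isometry iff `γ` is -/
theorem extGL_mem_GSV_iff (hk : Even k) (hk0 : 0 < k) (j : Fin (t + 1)) (γ : GL (Idx t k) F) :
    extGL j γ ∈ GSV (t + 1) k F ↔ γ ∈ GSV t k F := by
  rw [mem_GSV_iff hk, mem_GSV_iff hk, extGL_val, adjT_ext, ext_mul]
  constructor
  · intro h
    apply Cfsg.Agent.Lib.Helper22.TWLeaf.ext_injective_of_pos hk0 j
    rw [h, ext_one]
  · intro h
    rw [h, ext_one]

/-- `γ ⊗ 1_j ∈ HS` for `γ ∈ HS` -/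
theorem extGL_mem_HS (hk : Even k) (hk0 : 0 < k) (j : Fin (t + 1)) (γ : GL (Idx t k) F) (hγ : γ ∈ HS t k F) :
    extGL j γ ∈ HS (t + 1) k F :=
  ⟨Cfsg.Agent.Lib.Helper22.TWLeaf.extGL_mem_G j γ hγ.1, (extGL_mem_GSV_iff hk hk0 j γ).2 hγ.2⟩

/-- (6a) `H_t ≤ K_j(X)` -/
theorem HS_le_KB' (hk : Even k) (hk0 : 0 < k) (X : Subgroup (GL (Idx (t + 1) k) F)) (hHX : HS (t + 1) k F ≤ X)
    (j : Fin (t + 1)) : HS t k F ≤ KB X j := by
  intro γ hγ
  rw [mem_KB]
  exact hHX (extGL_mem_HS hk hk0 j γ hγ)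

/-- (6b) `K_j(X) ≤ GSV_t` for `X ≤ GSV_{t+1}` -/
theorem KB_le_GSV (hk : Even k) (hk2 : 2 ≤ k) (X : Subgroup (GL (Idx (t + 1) k) F))
    (hXG : X ≤ GSV (t + 1) k F) (j : Fin (t + 1)) : KB X j ≤ GSV t k F := by
  intro γ hγ
  rw [mem_KB] at hγ
  exact (extGL_mem_GSV_iff hk (by omega) j γ).1 (hXG hγ)

/-! ### the direct route (no hypothesis on `k`) -/

/-- the form on `t + 1` positions in terms of the `j`-slices -/
lemma sfT_split (j : Fin (t + 1)) (U V : Idx (t + 1) k → F) :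
    sfT U V = ∑ α : Fin k, ∑ β : Fin k, (Jm k : Matrix (Fin k) (Fin k) F) α β *
      sfT (fun u => U (ins j α u)) (fun u => V (ins j β u)) := by
  rw [sfT_eq_sum, sum_ins j]
  apply Finset.sum_congr rfl
  intro α _
  have h1 : ∀ u : Idx t k, ∑ z, U (ins j α u) * JT (t + 1) k F (ins j α u) z * V z =
      ∑ β : Fin k, ∑ u' : Idx t k, (Jm k : Matrix (Fin k) (Fin k) F) α β *
        (U (ins j α u) * JT t k F u u' * V (ins j β u')) := by
    intro u
    rw [sum_ins j]
    apply Finset.sum_congr rfl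
    intro β _
    apply Finset.sum_congr rfl
    intro u' _
    have e : JT (t + 1) k F (ins j α u) (ins j β u') =
        (Jm k : Matrix (Fin k) (Fin k) F) α β * JT t k F u u' := by
      rw [JT_apply, Fin.prod_univ_succAbove _ j, ins_same, ins_same, JT_apply]
      congr 1
      apply Finset.prod_congr rfl
      intro i _
      rw [ins_succAbove, ins_succAbove]
    rw [e]
    ring
  simp only [h1]
  rw [Finset.sum_comm]
  apply Finset.sum_congr rfl
  intro β _
  rw [sfT_eq_sum, Finset.mul_sum]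
  apply Finset.sum_congr rfl
  intro u _
  rw [Finset.mul_sum]

/-- the `j`-slices of `(γ ⊗ 1_j) U` -/
lemma ext_mulVec_ins (j : Fin (t + 1)) (γ : Matrix (Idx t k) (Idx t k) F) (U : Idx (t + 1) k → F)
    (α : Fin k) : (fun u => (ext j γ *ᵥ U) (ins j α u)) = γ *ᵥ (fun u => U (ins j α u)) := by
  funext u
  rw [Matrix.mulVec, dotProduct, sum_ins j, Finset.sum_eq_single α]
  · rw [Matrix.mulVec, dotProduct]
    apply Finset.sum_congr rfl
    intro u' _
    rw [Cfsg.Agent.Lib.Helper22.TWLeaf.ext_ins, if_pos rfl]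
  · intro β _ hβ
    apply Finset.sum_eq_zero
    intro u' _
    rw [Cfsg.Agent.Lib.Helper22.TWLeaf.ext_ins, if_neg (Ne.symm hβ), zero_mul]
  · intro h; exact absurd (Finset.mem_univ _) h

/-- `γ ⊗ 1_j` is an isometry when `γ` is (any `k`) -/
theorem extGL_mem_GSV (j : Fin (t + 1)) (γ : GL (Idx t k) F) (hγ : γ ∈ GSV t k F) :
    extGL j γ ∈ GSV (t + 1) k F := by
  rw [mem_GSV] at hγ ⊢
  intro U V
  rw [sfT_split j, sfT_split j U V]
  apply Finset.sum_congr rfl
  intro α _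
  apply Finset.sum_congr rfl
  intro β _
  congr 1
  unfold mv
  rw [extGL_val, ext_mulVec_ins, ext_mulVec_ins]
  exact hγ _ _

/-- (6a) `H_t ≤ K_j(X)`, exact shape of the Stage III table -/
theorem HS_le_KB (X : Subgroup (GL (Idx (t + 1) k) F)) (hHX : HS (t + 1) k F ≤ X)
    (j : Fin (t + 1)) : HS t k F ≤ KB X j := by
  intro γ hγ
  rw [mem_KB]
  exact hHX ⟨Cfsg.Agent.Lib.Helper22.TWLeaf.extGL_mem_G j γ hγ.1, extGL_mem_GSV j γ hγ.2⟩

end Cfsg.Agent.Lib.Helper12.TWS3
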