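import Mathlib
import Cfsg.Agent.Lib.Helper5.TWS.Defs
import Cfsg.Agent.Lib.Helper8.TW.Defs
import Cfsg.Agent.Lib.Helper22.TWExtBasic
import Cfsg.Agent.Lib.Helper22.TWExtMore
import Cfsg.Agent.Lib.Helper22.TWQK
import Cfsg.Agent.Lib.Helper14.TWIIDefs
import Cfsg.Agent.Lib.Helper14.TWSIIDefs
import Cfsg.Agent.Lib.Helper9.TWST
import Cfsg.Agent.Lib.Helper5.TWS.ITwist
import Cfsg.Agent.Lib.Helper29.TWSOneSlot
import Cfsg.Agent.Lib.Helper12.TWSKB
import Cfsg.Agent.Lib.Helper12.TWSIIR5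

/-!
# S5668 (C7 symplectic), Stage II-B (sub-planner helper14), leaf R4 `R1S_sand` (helper12)

The SANDWICH at another slot: from `u₃ = 1 + σ ⊗ (v ∧ y) ∈ X` and `hB` at all fibres, `N' σ N' = 0` for every root nilpotent
`N' = rootN l z (sfv z)` of `B`.
-/

set_option autoImplicit false
set_option linter.unusedSectionVars false
set_option linter.unusedVariables false

namespace Cfsg.Agent.Lib.Helper12.TWSIILeaf
open Matrix Cfsg.Geo Cfsg.Agent.Lib.Helper18.AschA89 Cfsg.Agent.Lib.Helper8.TW Cfsg.Agent.Lib.Helper5.TWS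
  Cfsg.Agent.Lib.Helper14.TWII Cfsg.Agent.Lib.Helper14.TWSII
open Cfsg.Agent.Lib.Helper25.SpT (sf Jm sfv)
open Cfsg.Agent.Lib.Helper23.TWUQ (NSp)

variable {F : Type*} [Field F] [Fintype F] {t k : ℕ}

namespace R4aux
open Cfsg.Agent.Lib.Helper29.TWSOne

omit [Fintype F] in
lemma ext_add (i : Fin (t + 1)) (γ γ' : Matrix (Idx t k) (Idx t k) F) :
    ext i (γ + γ') = ext i γ + ext i γ' := by
  ext x x'
  rw [Matrix.add_apply, Cfsg.Agent.Lib.Helper22.TWLeaf.ext_apply, Cfsg.Agent.Lib.Helper22.TWLeaf.ext_apply,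
    Cfsg.Agent.Lib.Helper22.TWLeaf.ext_apply, Matrix.add_apply]
  split_ifs <;> simp

omit [Fintype F] in
lemma ext_neg (i : Fin (t + 1)) (γ : Matrix (Idx t k) (Idx t k) F) :
    ext i (-γ) = - ext i γ := by
  ext x x'
  rw [Matrix.neg_apply, Cfsg.Agent.Lib.Helper22.TWLeaf.ext_apply, Cfsg.Agent.Lib.Helper22.TWLeaf.ext_apply,
    Matrix.neg_apply]
  split_ifs <;> simp

omit [Fintype F] in
lemma ext_zero (i : Fin (t + 1)) : ext i (0 : Matrix (Idx t k) (Idx t k) F) = 0 := by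
  ext x x'
  rw [Cfsg.Agent.Lib.Helper22.TWLeaf.ext_apply]
  split_ifs <;> simp

omit [Fintype F] in
lemma tens_eq_zero (i : Fin (t + 1)) (w : Idx t k → F) (a : Fin k → F) (ha : a ≠ 0)
    (h : tens i w a = 0) : w = 0 := by
  obtain ⟨c, hc⟩ := Function.ne_iff.mp ha
  funext u
  have h1 := congrFun h (ins i c u)
  unfold tens at h1
  simp only [ins_same, ins_succAbove, Pi.zero_apply] at h1
  rcases mul_eq_zero.1 h1 with h2 | h2
  · exact h2
  · exact absurd h2 hc

omit [Fintype F] in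
lemma tens_zero_right (i : Fin (t + 1)) (w : Idx t k → F) : tens i w (0 : Fin k → F) = 0 := by
  funext x
  unfold tens
  simp

omit [Fintype F] in
lemma tens_neg_right (i : Fin (t + 1)) (w : Idx t k → F) (a : Fin k → F) :
    tens i w (-a) = - tens i w a := by
  funext x
  unfold tens
  simp

omit [Fintype F] in
lemma eq_zero_of_mulVec {κ : Type} [Fintype κ] [DecidableEq κ] (M : Matrix κ κ F) (h : ∀ b, M *ᵥ b = 0) :
    M = 0 := by
  ext a x
  have h1 := congrFun (h (Pi.single x 1)) a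
  rw [Matrix.mulVec, dotProduct, Finset.sum_eq_single x] at h1
  · rw [Pi.single_eq_same, mul_one] at h1
    rw [h1]
    rfl
  · intro b _ hb
    rw [Pi.single_eq_of_ne hb, mul_zero]
  · intro hx; exact absurd (Finset.mem_univ _) hx

end R4aux

open R4aux Cfsg.Agent.Lib.Helper29.TWSOne in
/-- R4 (M-L) the SANDWICH at another slot -/
theorem R1S_sand (hodd : Odd (Fintype.card F)) (hk : Even k) (X : Subgroup (GL (Idx (t + 1) k) F)) (hHX : HS (t + 1) k F ≤ X)
    (i : Fin (t + 1)) (y y' v : Fin k → F) (hyy' : sf y y' = 1) (hv0 : v ≠ 0) (hvy : sf v y = 0) (hvy' : sf v y' = 0)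
    (hB : ∀ (j : Fin (t + 1)) (z : Fin k → F), z ≠ 0 → ∀ u ∈ X, InZ j z u → u ∈ Gstd (t + 1) k F)
    (σ : Matrix (Idx t k) (Idx t k) F) (u₃ : GL (Idx (t + 1) k) F) (hu₃X : u₃ ∈ X)
    (hu₃ : (u₃ : Matrix (Idx (t + 1) k) (Idx (t + 1) k) F) = 1 + ext i σ * slot k (t + 1) i (wedS v y))
    (l : Fin t) (z : Fin k → F) (hz0 : z ≠ 0) :
    rootN l z (sfv z) * σ * rootN l z (sfv z) = 0 := by
  classical
  have h2F : (2 : F) ≠ 0 := R5aux.two_ne_zero_R5 hodd
  have hk0 : 0 < k := by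
    rcases Nat.eq_zero_or_pos k with h0 | h0
    · subst h0
      exact absurd (funext (fun a => a.elim0)) hv0
    · exact h0
  have hk2 : 2 ≤ k := by
    rcases hk with ⟨r, hr⟩; omega
  have hy0 : y ≠ 0 := by
    intro h0
    rw [h0, Cfsg.Agent.Lib.Helper25.SpT.sf_zero_left] at hyy'
    exact zero_ne_one hyy'
  have hyv : sf y v = 0 := by rw [Cfsg.Agent.Lib.Helper25.SpT.sf_skew, hvy, neg_zero]
  have hy'y : sf y' y = -1 := by rw [Cfsg.Agent.Lib.Helper25.SpT.sf_skew, hyy']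
  have hy'v : sf y' v = 0 := by rw [Cfsg.Agent.Lib.Helper25.SpT.sf_skew, hvy', neg_zero]
  obtain ⟨S, hS⟩ : ∃ S : Matrix (Fin k) (Fin k) F, S = wedS v y := ⟨_, rfl⟩
  have hS' : S = dy v y - dy y v := by rw [hS]; rfl
  have hSS : S * S = 0 := by
    rw [hS', sub_mul, mul_sub, mul_sub, dy_mul_dy, dy_mul_dy, dy_mul_dy, dy_mul_dy, hvy,
      Cfsg.Agent.Lib.Helper25.SpT.sf_self, Cfsg.Agent.Lib.Helper25.SpT.sf_self, hyv]
    simp
  have hSy : S *ᵥ y = 0 := by
    rw [hS', Matrix.sub_mulVec, dy_mulVec, dy_mulVec, Cfsg.Agent.Lib.Helper25.SpT.sf_self, hyv]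
    simp
  have hSy' : S *ᵥ y' = -v := by
    rw [hS', Matrix.sub_mulVec, dy_mulVec, dy_mulVec, hy'y, hy'v]
    simp
  rw [← hS] at hu₃
  -- the map `A ↦ A ⊗ S`
  obtain ⟨P, hP⟩ : ∃ P : Matrix (Idx t k) (Idx t k) F → Matrix (Idx (t + 1) k) (Idx (t + 1) k) F,
      P = fun A => ext i A * slot k (t + 1) i S := ⟨_, rfl⟩
  have hP_add : ∀ A B, P (A + B) = P A + P B := by
    intro A B
    simp only [hP]
    rw [ext_add, add_mul]
  have hP_neg : ∀ A, P (-A) = - P A := by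
    intro A
    simp only [hP]
    rw [ext_neg, neg_mul]
  have hP0 : P 0 = 0 := by
    simp only [hP]
    rw [ext_zero, zero_mul]
  have hPP : ∀ A B, P A * P B = 0 := by
    intro A B
    simp only [hP]
    have e : ext i A * slot k (t + 1) i S * (ext i B * slot k (t + 1) i S) =
        ext i A * (slot k (t + 1) i S * ext i B) * slot k (t + 1) i S := by
      simp only [Matrix.mul_assoc]
    rw [e, ← Cfsg.Agent.Lib.Helper22.TWLeaf.ext_comm_slot, Matrix.mul_assoc, Matrix.mul_assoc, slot_mul, hSS,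
      slot_zero, mul_zero, mul_zero]
  -- the additive group of the `A` with `1 + A ⊗ S ∈ X`
  let YY : AddSubgroup (Matrix (Idx t k) (Idx t k) F) :=
    { carrier := {A | InM X (1 + P A)}
      zero_mem' := by
        show InM X (1 + P 0)
        rw [hP0, add_zero]
        exact ⟨1, X.one_mem, Units.val_one⟩
      add_mem' := by
        rintro A B ⟨g, hg, hgv⟩ ⟨g', hg', hgv'⟩
        refine ⟨g * g', X.mul_mem hg hg', ?_⟩
        rw [Units.val_mul, hgv, hgv', hP_add, add_mul, mul_add, mul_add, one_mul, mul_one, one_mul, hPP]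
        abel
      neg_mem' := by
        rintro A ⟨g, hg, hgv⟩
        refine ⟨g⁻¹, X.inv_mem hg, ?_⟩
        have hinv : ((g⁻¹ : GL (Idx (t + 1) k) F) : Matrix (Idx (t + 1) k) (Idx (t + 1) k) F) = 1 - P A := by
          apply Units.inv_eq_of_mul_eq_one_right
          have e : (1 + P A) * (1 - P A) = 1 - P A * P A := by noncomm_ring
          rw [hgv, e, hPP, sub_zero]
        rw [hinv, hP_neg, sub_eq_add_neg] }
  have hYY : ∀ A, A ∈ YY ↔ InM X (1 + P A) := fun A => Iff.rfl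
  have hσY : σ ∈ YY := by
    rw [hYY]
    exact ⟨u₃, hu₃X, by rw [hu₃, hP]⟩
  -- conjugation by `extGL i g`, `g` a root element of `B`
  set r : RD t k F := srd hk l z hz0 with hr
  have hrS : RS r := srd_RS hk l z hz0
  have hrN : r.N = rootN l z (sfv z) := Cfsg.Agent.Lib.Helper9.TWST.RD_N_eq hrS
  have hconj : ∀ (c : F) (A : Matrix (Idx t k) (Idx t k) F), A ∈ YY →
      (1 + c • r.N) * A * (1 - c • r.N) ∈ YY := by
    intro c A hA
    obtain ⟨g, hg, hgv⟩ := (hYY A).1 hA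
    have hmem : extGL i (r.elt c) ∈ X := by
      apply hHX
      have h1 := Cfsg.Agent.Lib.Helper9.TWST.elt_mem_HS hk hrS c
      exact ⟨Cfsg.Agent.Lib.Helper22.TWLeaf.extGL_mem_G i _ h1.1,
        Cfsg.Agent.Lib.Helper12.TWS3.extGL_mem_GSV i _ h1.2⟩
    rw [hYY]
    refine ⟨extGL i (r.elt c) * g * (extGL i (r.elt c))⁻¹, X.mul_mem (X.mul_mem hmem hg) (X.inv_mem hmem), ?_⟩
    rw [← extGL_inv, Units.val_mul, Units.val_mul, extGL_val, extGL_val, hgv, RD.elt_val, RD.elt_inv_val]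
    simp only [hP]
    have hone : (1 + c • r.N) * (1 - c • r.N) = 1 := by
      have hgen : ∀ Z : Matrix (Idx t k) (Idx t k) F, (1 + Z) * (1 - Z) = 1 - Z * Z := by
        intro Z; noncomm_ring
      rw [hgen, r.smul_N_sq, sub_zero]
    rw [mul_add, add_mul, mul_one, ext_mul, hone, ext_one]
    congr 1
    rw [← Matrix.mul_assoc, ext_mul, Matrix.mul_assoc, ← Cfsg.Agent.Lib.Helper22.TWLeaf.ext_comm_slot,
      ← Matrix.mul_assoc, ext_mul]
  -- the sandwich
  have hsand : -(r.N * σ * r.N) - r.N * σ * r.N ∈ YY := by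
    have hT1 := hconj 1 σ hσY
    have hT2 := hconj (-1) σ hσY
    have hsum := YY.sub_mem (YY.sub_mem (YY.add_mem hT1 hT2) hσY) hσY
    have e3 : ∀ Z N : Matrix (Idx t k) (Idx t k) F, (1 + N) * Z * (1 - N) + (1 - N) * Z * (1 + N) - Z - Z =
        - (N * Z * N) - (N * Z * N) := by
      intro Z N; noncomm_ring
    rw [one_smul, neg_smul, one_smul, ← sub_eq_add_neg, sub_neg_eq_add, e3] at hsum
    exact hsum
  obtain ⟨x, hxX, hxv⟩ := (hYY _).1 hsand
  -- `ext i r.N` is the root nilpotent at position `i.succAbove l`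
  set j : Fin (t + 1) := i.succAbove l with hj
  set r' : RD (t + 1) k F := srd hk j z hz0 with hr'
  have hr'S : RS r' := srd_RS hk j z hz0
  have hr'N : r'.N = ext i r.N := by
    rw [Cfsg.Agent.Lib.Helper9.TWST.RD_N_eq hr'S, hrN]
    unfold rootN
    rw [Cfsg.Agent.Lib.Helper22.TWLeaf.ext_slot]
    rfl
  have hxv' : (x : Matrix (Idx (t + 1) k) (Idx (t + 1) k) F) =
      1 + (-(r'.N * P σ * r'.N) - r'.N * P σ * r'.N) := by
    have e : P (r.N * σ * r.N) = r'.N * P σ * r'.N := by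
      simp only [hP]
      rw [hr'N, ← ext_mul, ← ext_mul, Matrix.mul_assoc (ext i r.N * ext i σ),
        Cfsg.Agent.Lib.Helper22.TWLeaf.ext_comm_slot i r.N S]
      simp only [Matrix.mul_assoc]
    rw [hxv, sub_eq_add_neg, hP_add, hP_neg, e, ← sub_eq_add_neg]
  have hInZ : InZ j z x := by
    have hW : r'.W = Wf j z := rfl
    constructor
    · intro w
      have e : mv x w - w = -(r'.N *ᵥ (P σ *ᵥ (r'.N *ᵥ w))) - r'.N *ᵥ (P σ *ᵥ (r'.N *ᵥ w)) := by
        unfold mv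
        rw [hxv', Matrix.add_mulVec, Matrix.one_mulVec, Matrix.sub_mulVec, Matrix.neg_mulVec,
          ← Matrix.mulVec_mulVec, ← Matrix.mulVec_mulVec]
        abel
      rw [e, ← hW]
      exact Submodule.sub_mem _ (Submodule.neg_mem _ (Cfsg.Agent.Lib.Helper5.TWSLeaf.N_mulVec_mem_W r' _))
        (Cfsg.Agent.Lib.Helper5.TWSLeaf.N_mulVec_mem_W r' _)
    · intro w hw
      have hwC : w ∈ r'.C := Cfsg.Agent.Lib.Helper9.TWST.Wf_le_Cf_sfv hk j z hz0 hw
      have h0 : r'.N *ᵥ w = 0 := Cfsg.Agent.Lib.Helper5.TWSLeaf.N_mulVec_eq_zero r' hwC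
      unfold mv
      rw [hxv', Matrix.add_mulVec, Matrix.one_mulVec, Matrix.sub_mulVec, Matrix.neg_mulVec,
        ← Matrix.mulVec_mulVec, h0, Matrix.mulVec_zero]
      simp
  have hxG : x ∈ Gstd (t + 1) k F := hB j z hz0 x hxX hInZ
  obtain ⟨η, -, hxη⟩ := Cfsg.Agent.Lib.Helper22.TWQLeaf.K_lemma hk2 x hxG j z hz0 hInZ.2 hInZ.1
  -- compare on `b ⊗ y` and `b ⊗ y'`
  have hroot : rootN j z η = ext i (rootN l z η) := by
    unfold rootN
    rw [Cfsg.Agent.Lib.Helper22.TWLeaf.ext_slot]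
  have heq : ext i (rootN l z η) = P (-(r.N * σ * r.N) - r.N * σ * r.N) := by
    have := hxη.symm.trans hxv
    rw [hroot] at this
    exact add_left_cancel this
  have hvec : ∀ (b : Idx t k → F) (a : Fin k → F),
      tens i (rootN l z η *ᵥ b) a = tens i ((-(r.N * σ * r.N) - r.N * σ * r.N) *ᵥ b) (S *ᵥ a) := by
    intro b a
    have h1 := congrArg (fun M => M *ᵥ tens i b a) heq
    simp only [hP] at h1
    rw [Cfsg.Agent.Lib.Helper22.TWLeaf.ext_mulVec_tens, ← Matrix.mulVec_mulVec,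
      Cfsg.Agent.Lib.Helper22.TWLeaf.slot_mulVec_tens, Cfsg.Agent.Lib.Helper22.TWLeaf.ext_mulVec_tens] at h1
    exact h1
  have hR0 : ∀ b : Idx t k → F, rootN l z η *ᵥ b = 0 := by
    intro b
    have h1 := hvec b y
    rw [hSy, tens_zero_right] at h1
    exact tens_eq_zero i _ y hy0 h1
  have hM0 : ∀ b : Idx t k → F, (-(r.N * σ * r.N) - r.N * σ * r.N) *ᵥ b = 0 := by
    intro b
    have h1 := hvec b y'
    rw [hR0, hSy', tens_neg_right] at h1
    have h2 : tens i ((-(r.N * σ * r.N) - r.N * σ * r.N) *ᵥ b) v = 0 := by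
      have : tens i (0 : Idx t k → F) y' = 0 := by
        funext x'; unfold tens; simp
      rw [this] at h1
      exact neg_eq_zero.mp h1.symm
    exact tens_eq_zero i _ v hv0 h2
  have hfin := eq_zero_of_mulVec _ hM0
  rw [← hrN]
  have h3 : (2 : F) • (r.N * σ * r.N) = 0 := by
    rw [two_smul]
    have : r.N * σ * r.N + r.N * σ * r.N = -(-(r.N * σ * r.N) - r.N * σ * r.N) := by abel
    rw [this, hfin, neg_zero]
  rcases smul_eq_zero.1 h3 with h4 | h4
  · exact absurd h4 h2F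
  · exact h4

end Cfsg.Agent.Lib.Helper12.TWSIILeaf
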