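import Mathlib
import Cfsg.Agent.Lib.Helper5.TWS.Defs
import Cfsg.Agent.Lib.Helper8.TW.Defs
import Cfsg.Agent.Lib.Helper22.TWExtBasic
import Cfsg.Agent.Lib.Helper22.TWExtMore
import Cfsg.Agent.Lib.Helper22.TWQK
import Cfsg.Agent.Lib.Helper12.TWIIBS
import Cfsg.Agent.Lib.Helper12.TWSKB
import Cfsg.Agent.Lib.Helper12.TWSIIR4
import Cfsg.Agent.Lib.Helper14.TWIIDefs
import Cfsg.Agent.Lib.Helper14.TWSIIDefs

/-!
# S5668 (C7 symplectic), Stage II-B (sub-planner helper14), leaf L4 `ext_reflect` (helper12)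

`ext i` maps `Z`-elements at `(l, z)` to `Z`-elements at `(i.succAbove l, z)`, and reflects membership in `G`.
-/

set_option autoImplicit false
set_option linter.unusedSectionVars false
set_option linter.unusedVariables false

namespace Cfsg.Agent.Lib.Helper12.TWSIILeaf
open Matrix Cfsg.Geo Cfsg.Agent.Lib.Helper18.AschA89 Cfsg.Agent.Lib.Helper8.TW Cfsg.Agent.Lib.Helper5.TWS
  Cfsg.Agent.Lib.Helper14.TWII Cfsg.Agent.Lib.Helper14.TWSII
open Cfsg.Agent.Lib.Helper25.SpT (sf Jm sfv)
open Cfsg.Agent.Lib.Helper23.TWUQ (NSp)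

variable {F : Type*} [Field F] [Fintype F] {t k : ℕ}

namespace L4aux

omit [Fintype F] in
/-- the `(i.succAbove l)`-slice through `ins i a u` is the `l`-slice through `u` of the `a`-layer -/
lemma slice_succAbove_ins (i : Fin (t + 2)) (l : Fin (t + 1)) (a : Fin k) (u : Idx (t + 1) k)
    (w : Idx (t + 2) k → F) :
    slice (i.succAbove l) (ins i a u) w = slice l u (fun u' => w (ins i a u')) := by
  funext c
  unfold slice ins
  show w (Function.update (i.insertNth a u) (i.succAbove l) c) = w (i.insertNth a (Function.update u l c))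
  rw [Fin.insertNth_update]

omit [Fintype F] in
/-- layers of an element of `Wf (i.succAbove l) z` lie in `Wf l z` -/
lemma layer_mem_Wf (i : Fin (t + 2)) (l : Fin (t + 1)) (z : Fin k → F) (w : Idx (t + 2) k → F) :
    w ∈ Wf (i.succAbove l) z ↔ ∀ a : Fin k, (fun u' => w (ins i a u')) ∈ Wf l z := by
  unfold Wf
  constructor
  · intro hw a u
    rw [← slice_succAbove_ins]
    exact hw _
  · intro hw X
    rw [← ins_rem i X, slice_succAbove_ins]
    exact hw _ _

end L4aux

/-- L4 (M) `ext` reflects `G` on `Z`-elements -/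
theorem ext_reflect (hk2 : 2 ≤ k) (i : Fin (t + 2)) (l : Fin (t + 1)) (z : Fin k → F) (hz0 : z ≠ 0) (x : GL (Idx (t + 1) k) F)
    (hx : InZ l z x) : InZ (i.succAbove l) z (extGL i x) ∧ (extGL i x ∈ Gstd (t + 2) k F → x ∈ Gstd (t + 1) k F) := by
  have hZ : InZ (i.succAbove l) z (extGL i x) := by
    constructor
    · intro w
      rw [L4aux.layer_mem_Wf]
      intro a
      have e : (fun u' => (mv (extGL i x) w - w) (ins i a u')) =
          mv x (fun u' => w (ins i a u')) - (fun u' => w (ins i a u')) := by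
        have := Cfsg.Agent.Lib.Helper12.TWS3.ext_mulVec_ins i (x : Matrix (Idx (t + 1) k) (Idx (t + 1) k) F) w a
        funext u
        have h2 := congrFun this u
        unfold mv
        rw [extGL_val, Pi.sub_apply, Pi.sub_apply, h2]
      rw [e]
      exact hx.1 _
    · intro w hw
      rw [L4aux.layer_mem_Wf] at hw
      funext X
      rw [← ins_rem i X]
      have := Cfsg.Agent.Lib.Helper12.TWS3.ext_mulVec_ins i (x : Matrix (Idx (t + 1) k) (Idx (t + 1) k) F) w (X i)
      have h2 := congrFun this (fun j => X (i.succAbove j))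
      unfold mv
      rw [extGL_val, h2]
      have h3 := hx.2 _ (hw (X i))
      unfold mv at h3
      rw [h3]
  refine ⟨hZ, ?_⟩
  intro hG
  obtain ⟨ξ, hξ, hval⟩ := Cfsg.Agent.Lib.Helper22.TWQLeaf.K_lemma hk2 (extGL i x) hG (i.succAbove l) z hz0 hZ.2 hZ.1
  have hk0 : 0 < k := by omega
  have hxv : (x : Matrix (Idx (t + 1) k) (Idx (t + 1) k) F) = 1 + rootN l z ξ := by
    apply Cfsg.Agent.Lib.Helper22.TWLeaf.ext_injective_of_pos hk0 i
    rw [← extGL_val, hval, R4aux.ext_add, ext_one]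
    unfold rootN
    rw [Cfsg.Agent.Lib.Helper22.TWLeaf.ext_slot]
  have hxu : x = rootU l z ξ hξ := by
    apply Units.ext
    rw [hxv, rootU_val]
  rw [hxu]
  exact (Cfsg.Agent.Lib.Helper12.TWIIBLeaf.rootU_mem_H l z ξ hξ).1

end Cfsg.Agent.Lib.Helper12.TWSIILeaf
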