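import Mathlib
import Cfsg.Agent.Lib.Helper5.TWS.Defs
import Cfsg.Agent.Lib.Helper8.TW.Defs
import Cfsg.Agent.Lib.Helper14.TWIIDefs
import Cfsg.Agent.Lib.Helper14.TWSIIDefs
import Cfsg.Agent.Lib.Helper9.TWST
import Cfsg.Agent.Lib.Helper6.TWT1

/-!
# S5668 (C7 symplectic), Stage II-B (sub-planner helper14), leaf R5 `skew_zero` (helper12)

A `sfT`-skew-adjoint matrix all of whose slot sandwiches `N_{l,z} σ N_{l,z}` vanish is `0`.
-/

set_option autoImplicit false
set_option linter.unusedSectionVars false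
set_option linter.unusedVariables false

namespace Cfsg.Agent.Lib.Helper12.TWSIILeaf
open Matrix Cfsg.Geo Cfsg.Agent.Lib.Helper18.AschA89 Cfsg.Agent.Lib.Helper8.TW Cfsg.Agent.Lib.Helper5.TWS
  Cfsg.Agent.Lib.Helper14.TWII Cfsg.Agent.Lib.Helper14.TWSII
open Cfsg.Agent.Lib.Helper25.SpT (sf Jm sfv)
open Cfsg.Agent.Lib.Helper23.TWUQ (NSp)

variable {F : Type*} [Field F] [Fintype F] {t k : ℕ}

namespace R5aux

lemma two_ne_zero_R5 (hodd : Odd (Fintype.card F)) : (2 : F) ≠ 0 := by
  intro h
  have h2 : ringChar F = 2 :=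
    CharP.ringChar_of_prime_eq_zero Nat.prime_two (by exact_mod_cast h)
  have := FiniteField.even_card_of_char_two h2
  rcases hodd with ⟨r, hr⟩
  omega

omit [Fintype F] in
lemma pt_update_apply (y : Fin t → Fin k → F) (p : Fin t) (a : Fin k → F) (x : Idx t k) :
    pt (Function.update y p a) x = a (x p) * ∏ j ∈ Finset.univ.erase p, y j (x j) := by
  classical
  unfold pt
  rw [← Finset.mul_prod_erase Finset.univ _ (Finset.mem_univ p), Function.update_self]
  congr 1
  apply Finset.prod_congr rfl
  intro j hj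
  rw [Function.update_of_ne (Finset.ne_of_mem_erase hj)]

omit [Fintype F] in
lemma pt_update_add (y : Fin t → Fin k → F) (p : Fin t) (a b : Fin k → F) :
    pt (Function.update y p (a + b)) = pt (Function.update y p a) + pt (Function.update y p b) := by
  funext x
  rw [Pi.add_apply, pt_update_apply, pt_update_apply, pt_update_apply, Pi.add_apply, add_mul]

omit [Fintype F] in
lemma pt_update_smul (y : Fin t → Fin k → F) (p : Fin t) (c : F) (a : Fin k → F) :
    pt (Function.update y p (c • a)) = c • pt (Function.update y p a) := by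
  funext x
  rw [Pi.smul_apply, pt_update_apply, pt_update_apply, Pi.smul_apply, smul_eq_mul, smul_eq_mul, mul_assoc]

omit [Fintype F] in
lemma pt_update_zero (y : Fin t → Fin k → F) (p : Fin t) :
    pt (Function.update y p (0 : Fin k → F)) = 0 := by
  funext x
  rw [pt_update_apply, Pi.zero_apply, Pi.zero_apply, zero_mul]

omit [Fintype F] in
lemma single_eq_pt (a : Idx t k) :
    (Pi.single a (1 : F) : Idx t k → F) = pt (fun i => Pi.single (a i) (1 : F)) := by
  classical
  funext x
  unfold pt
  by_cases h : x = a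
  · subst h
    rw [Pi.single_eq_same]
    symm
    apply Finset.prod_eq_one
    intro i _
    beta_reduce
    rw [Pi.single_eq_same]
  · rw [Pi.single_eq_of_ne h]
    symm
    obtain ⟨i, hi⟩ := Function.ne_iff.mp h
    apply Finset.prod_eq_zero (Finset.mem_univ i)
    beta_reduce
    rw [Pi.single_eq_of_ne hi]

omit [Fintype F] in
/-- the root nilpotent on a pure tensor -/
lemma rootN_mulVec_pt (l : Fin t) (z : Fin k → F) (w : Fin t → Fin k → F) (a : Fin k → F) :
    rootN l z (sfv z) *ᵥ pt (Function.update w l a) = sf a z • pt (Function.update w l z) := by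
  unfold rootN
  rw [Cfsg.Agent.Lib.Helper6.TWLeaf.slot_mulVec_pt, Function.update_self, Function.update_idem]
  have e : Matrix.vecMulVec z (sfv z) *ᵥ a = sf a z • z := by
    funext b
    rw [Matrix.mulVec, dotProduct, Pi.smul_apply, smul_eq_mul, ← Cfsg.Agent.Lib.Helper25.SpT.sfv_dot, dotProduct,
      Finset.sum_mul]
    apply Finset.sum_congr rfl
    intro c _
    rw [Matrix.vecMulVec_apply]
    ring
  rw [e, pt_update_smul]

end R5aux

open R5aux in
/-- R5 (M) a skew-adjoint matrix all of whose slot sandwiches vanish is `0` -/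
theorem skew_zero (hodd : Odd (Fintype.card F)) (hk : Even k) (σ : Matrix (Idx t k) (Idx t k) F) (hσ : SkewT σ)
    (h : ∀ (l : Fin t) (z : Fin k → F), z ≠ 0 → rootN l z (sfv z) * σ * rootN l z (sfv z) = 0) : σ = 0 := by
  classical
  have h2F : (2 : F) ≠ 0 := two_ne_zero_R5 hodd
  obtain ⟨Φ, hΦ⟩ : ∃ Φ : (Idx t k → F) → (Idx t k → F) → F, Φ = fun u v => sfT (σ *ᵥ u) v := ⟨_, rfl⟩
  have Φ_add_left : ∀ u u' v, Φ (u + u') v = Φ u v + Φ u' v := by
    intro u u' v
    simp only [hΦ, Matrix.mulVec_add, sfT_add_left]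
  have Φ_add_right : ∀ u v v', Φ u (v + v') = Φ u v + Φ u v' := by
    intro u v v'
    simp only [hΦ, sfT_add_right]
  have Φ_zero_left : ∀ v, Φ 0 v = 0 := by
    intro v
    simp only [hΦ, Matrix.mulVec_zero, sfT_zero_left]
  -- (c) the diagonal values vanish
  have hc : ∀ (l : Fin t) (z : Fin k → F) (w w' : Fin t → Fin k → F),
      Φ (pt (Function.update w l z)) (pt (Function.update w' l z)) = 0 := by
    intro l z w w'
    by_cases hz : z = 0
    · subst hz
      rw [pt_update_zero, Φ_zero_left]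
    · obtain ⟨a0, ha0⟩ := Cfsg.Agent.Lib.Helper25.SpT.exists_sf_ne_zero hk hz
      have ha0' : sf a0 z ≠ 0 := by
        rw [Cfsg.Agent.Lib.Helper25.SpT.sf_skew]; exact neg_ne_zero.2 ha0
      obtain ⟨a, ha⟩ : ∃ a : Fin k → F, sf a z = 1 :=
        ⟨(sf a0 z)⁻¹ • a0, by rw [Cfsg.Agent.Lib.Helper25.SpT.sf_smul_left, inv_mul_cancel₀ ha0']⟩
      have hN : ∀ w : Fin t → Fin k → F,
          rootN l z (sfv z) *ᵥ pt (Function.update w l a) = pt (Function.update w l z) := by
        intro w
        rw [rootN_mulVec_pt, ha, one_smul]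
      have h0 := h l z hz
      have h1 : sfT ((rootN l z (sfv z) * σ * rootN l z (sfv z)) *ᵥ pt (Function.update w l a))
          (pt (Function.update w' l a)) = 0 := by
        rw [h0, Matrix.zero_mulVec, sfT_zero_left]
      rw [← Matrix.mulVec_mulVec, ← Matrix.mulVec_mulVec, Cfsg.Agent.Lib.Helper9.TWST.sfT_rootN hk, hN, hN] at h1
      rw [hΦ]
      exact neg_eq_zero.mp h1
  -- (d) swapping one slot changes the sign
  have hd : ∀ (l : Fin t) (w w' : Fin t → Fin k → F),
      Φ (pt (Function.update w l (w' l))) (pt (Function.update w' l (w l))) = - Φ (pt w) (pt w') := by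
    intro l w w'
    have h1 := hc l (w l + w' l) w w'
    rw [pt_update_add, pt_update_add, Φ_add_left, Φ_add_right, Φ_add_right, hc l (w l) w w', hc l (w' l) w w',
      Function.update_eq_self, Function.update_eq_self] at h1
    linear_combination h1
  -- (e) swapping the slots of `S`
  have he : ∀ (S : Finset (Fin t)) (w w' : Fin t → Fin k → F),
      Φ (pt (S.piecewise w' w)) (pt (S.piecewise w w')) = (-1) ^ S.card * Φ (pt w) (pt w') := by
    intro S w w'
    induction S using Finset.induction_on with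
    | empty =>
      rw [Finset.piecewise_empty, Finset.piecewise_empty, Finset.card_empty, pow_zero, one_mul]
    | insert l S hl ih =>
      rw [Finset.piecewise_insert, Finset.piecewise_insert, Finset.card_insert_of_notMem hl, pow_succ]
      have e1 : S.piecewise w' w l = w l := Finset.piecewise_eq_of_notMem _ _ _ hl
      have e2 : S.piecewise w w' l = w' l := Finset.piecewise_eq_of_notMem _ _ _ hl
      have h3 := hd l (S.piecewise w' w) (S.piecewise w w')
      rw [e1, e2] at h3
      rw [h3, ih]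
      ring
  -- (f) all values on pure tensors vanish
  have hf : ∀ w w' : Fin t → Fin k → F, Φ (pt w) (pt w') = 0 := by
    intro w w'
    have h1 := he Finset.univ w w'
    rw [Finset.piecewise_univ, Finset.piecewise_univ, Finset.card_univ, Fintype.card_fin] at h1
    have h2 : Φ (pt w') (pt w) = - ((-1) ^ t * Φ (pt w) (pt w')) := by
      rw [hΦ]
      show sfT (σ *ᵥ pt w') (pt w) = - ((-1) ^ t * sfT (σ *ᵥ pt w) (pt w'))
      rw [hσ (pt w') (pt w), Cfsg.Agent.Lib.Helper9.TWST.sfT_swap hk (pt w') (σ *ᵥ pt w)]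
    rw [h2] at h1
    have h3 : (2 : F) * ((-1) ^ t * Φ (pt w) (pt w')) = 0 := by linear_combination -h1
    rcases mul_eq_zero.1 h3 with h4 | h4
    · exact absurd h4 h2F
    · rcases mul_eq_zero.1 h4 with h5 | h5
      · exact absurd h5 (pow_ne_zero _ (neg_ne_zero.2 one_ne_zero))
      · exact h5
  -- (g) conclusion
  have hg : ∀ x : Idx t k, σ *ᵥ (Pi.single x (1 : F)) = 0 := by
    intro x
    funext a
    have h1 := hf (fun i => Pi.single (x i) (1 : F)) (fun i => Pi.single (Cfsg.Agent.Lib.Helper9.TWST.prT hk a i) (1 : F))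
    rw [← single_eq_pt, ← single_eq_pt, hΦ] at h1
    have h2 : sfT (σ *ᵥ Pi.single x (1 : F)) (Pi.single (Cfsg.Agent.Lib.Helper9.TWST.prT hk a) 1) = 0 := h1
    rw [Cfsg.Agent.Lib.Helper9.TWST.sfT_single_right hk, Cfsg.Agent.Lib.Helper9.TWST.prT_involutive hk a] at h2
    rcases mul_eq_zero.1 h2 with h0 | h0
    · exact absurd h0 (Cfsg.Agent.Lib.Helper9.TWST.sgT_ne_zero hk a)
    · exact h0
  ext a x
  have h1 := congrFun (hg x) a
  rw [Matrix.mulVec, dotProduct, Finset.sum_eq_single x] at h1
  · rw [Pi.single_eq_same, mul_one] at h1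
    rw [h1]
    rfl
  · intro b _ hb
    rw [Pi.single_eq_of_ne hb, mul_zero]
  · intro hx; exact absurd (Finset.mem_univ _) hx

end Cfsg.Agent.Lib.Helper12.TWSIILeaf
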