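import Mathlib
import Cfsg.Agent.Lib.Helper5.TWU.Defs
import Cfsg.Agent.Lib.Helper23.TWUT
import Cfsg.Agent.Lib.Helper23.TWUQMain
import Cfsg.Agent.Lib.Helper23.TWUQSc
import Cfsg.Agent.Lib.Helper22.TWExtMore
import Cfsg.Agent.Lib.Helper14.TWIIDefs
import Cfsg.Agent.Lib.Helper19.TWGrow
import Cfsg.Agent.Lib.Helper19.TWU3Defs
import Cfsg.Agent.Lib.Helper19.TWU3Tool
import Cfsg.Agent.Lib.Helper23.TWU3A1

/-!
# S5672 Stage III (sub-planner helper19), leaf A12 `hB_of_one` (helper12)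
Two positions: `ext j` of a unitary transvection of `F^(Idx 1 k)` is a root element of `H` at the other position.
-/

set_option autoImplicit false
set_option linter.unusedSectionVars false
set_option linter.unusedVariables false

namespace Cfsg.Agent.Lib.Helper12.TWU3Leaf
open Matrix Cfsg.Geo Cfsg.Agent.Lib.Helper18.AschA89 Cfsg.Agent.Lib.Helper20.AschLeaf Cfsg.Agent.Lib.Helper8.TW
open Cfsg.Agent.Lib.Helper5.TWU Cfsg.Agent.Lib.Helper19.TWU3
open Cfsg.Agent.Lib.Helper20.UT (hv)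
open Cfsg.Agent.Lib.Helper23.TWUT (adjM)

variable {F : Type*} [Field F] [Fintype F] {t k q : ℕ}

/-- an index of `Idx 1 k` is constant -/
lemma idx_one_eq (u : Idx 1 k) : u = fun _ => u 0 := by
  funext i
  rw [Subsingleton.elim i 0]

/-- A12 (M) -/
theorem hB_of_one (hF : Fintype.card F = q ^ 2) (X : Subgroup (GL (Idx 2 k) F)) (hHX : HU 2 k q F ≤ X) (j : Fin 2)
    (y : Idx 1 k → F) (c : F) (hy : hv q y y = 0) (hc : c ^ q = -c) : InM X (ext j (1 + c • vv q y y)) := by
  obtain ⟨x, hx⟩ : ∃ x : Fin k → F, x = fun a => y (fun _ => a) := ⟨_, rfl⟩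
  have hyx : ∀ u : Idx 1 k, y u = x (u 0) := by
    intro u
    rw [hx]
    exact congrArg y (idx_one_eq u)
  have hxx : hv q x x = 0 := by
    rw [← hy]
    unfold Cfsg.Agent.Lib.Helper20.UT.hv
    rw [← Equiv.sum_comp (Equiv.funUnique (Fin 1) (Fin k)) (fun a => x a * x a ^ q)]
    apply Finset.sum_congr rfl
    intro u _
    rw [hyx u]
    rfl
  have hM : (1 + c • vv q y y : Matrix (Idx 1 k) (Idx 1 k) F) = slot k 1 0 (1 + c • vv q x x) := by
    ext u u'
    rw [Cfsg.Agent.Lib.Helper18.AschA89.slot_apply, if_pos (fun j hj => absurd (Subsingleton.elim j 0) hj)]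
    rw [Matrix.add_apply, Matrix.add_apply, Matrix.smul_apply, Matrix.smul_apply, vv_apply, vv_apply,
      hyx u, hyx u', Matrix.one_apply, Matrix.one_apply]
    congr 1
    by_cases h : u = u'
    · rw [if_pos h, if_pos (by rw [h])]
    · rw [if_neg h, if_neg]
      intro h0
      apply h
      rw [idx_one_eq u, idx_one_eq u', h0]
  rw [hM, Cfsg.Agent.Lib.Helper22.TWLeaf.ext_slot]
  exact Cfsg.Agent.Lib.Helper23.TWU3Leaf.hA_of_HU hF X hHX (j.succAbove 0) x c hxx hc

end Cfsg.Agent.Lib.Helper12.TWU3Leaf
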