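import Mathlib
import Cfsg.Agent.Lib.Helper5.TWU.Defs
import Cfsg.Agent.Lib.Helper23.TWUT
import Cfsg.Agent.Lib.Helper23.TWUQMain
import Cfsg.Agent.Lib.Helper23.TWUQSc
import Cfsg.Agent.Lib.Helper22.TWExtMore
import Cfsg.Agent.Lib.Helper14.TWIIDefs
import Cfsg.Agent.Lib.Helper19.TWGrow
import Cfsg.Agent.Lib.Helper19.TWU3Defs
import Cfsg.Agent.Lib.Helper19.TWU3Tool
import Cfsg.Agent.Lib.Helper23.TWUT3

/-!
# S5672 Stage III (sub-planner helper19), leaves A14 `XTU_perm` and A15 `fperm3_mem_HU` (helper12)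
-/

set_option autoImplicit false
set_option linter.unusedSectionVars false
set_option linter.unusedVariables false

namespace Cfsg.Agent.Lib.Helper12.TWU3Leaf
open Matrix Cfsg.Geo Cfsg.Agent.Lib.Helper18.AschA89 Cfsg.Agent.Lib.Helper20.AschLeaf Cfsg.Agent.Lib.Helper8.TW
open Cfsg.Agent.Lib.Helper5.TWU Cfsg.Agent.Lib.Helper19.TWU3
open Cfsg.Agent.Lib.Helper20.UT (hv)
open Cfsg.Agent.Lib.Helper23.TWUT (adjM)

variable {F : Type*} [Field F] [Fintype F] {t k q : ℕ}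

/-- the factor family of `nilU` transported along a permutation of the positions -/
lemma famU_perm (σ : Equiv.Perm (Fin t)) (J : Finset (Fin t)) (y : Fin t → Fin k → F) :
    (fun j => famU q J y (σ⁻¹ j)) = famU q (J.map σ.toEmbedding) (fun j => y (σ⁻¹ j)) := by
  funext j
  unfold famU
  have : j ∈ J.map σ.toEmbedding ↔ σ⁻¹ j ∈ J := by
    rw [Finset.mem_map_equiv]
    rfl
  by_cases hj : σ⁻¹ j ∈ J
  · rw [if_pos hj, if_pos (this.2 hj)]
  · rw [if_neg hj, if_neg (fun h => hj (this.1 h))]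

/-- A14 (M) -/
theorem XTU_perm (X : Subgroup (GL (Idx t k) F)) (σ : Equiv.Perm (Fin t)) (hσ : wrFpermGL (F := F) k t σ ∈ X)
    (J : Finset (Fin t)) (h : XTU q X J) : XTU q X (J.map σ.toEmbedding) := by
  intro y c hy hc
  have hcond : ∀ j ∈ J, (fun j => y (σ j)) j ≠ 0 ∧ hv q ((fun j => y (σ j)) j) ((fun j => y (σ j)) j) = 0 := by
    intro j hj
    exact hy (σ j) (Finset.mem_map_of_mem _ hj)
  obtain ⟨u, hu, huv⟩ := h (fun j => y (σ j)) c hcond hc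
  refine ⟨wrFpermGL k t σ * u * (wrFpermGL k t σ)⁻¹, X.mul_mem (X.mul_mem hσ hu) (X.inv_mem hσ), ?_⟩
  have e1 : ((wrFpermGL (F := F) k t σ * u * (wrFpermGL k t σ)⁻¹ : GL (Idx t k) F) :
      Matrix (Idx t k) (Idx t k) F) =
      fperm k t σ * (u : Matrix (Idx t k) (Idx t k) F) * fperm k t σ⁻¹ := rfl
  rw [e1, huv, mul_add, add_mul, mul_one, wr_fperm_mul_inv, Matrix.mul_smul, Matrix.smul_mul]
  rw [Cfsg.Agent.Lib.Helper19.TWU3Leaf.nilU_eq_ptens, Cfsg.Agent.Lib.Helper19.TWU3Leaf.nilU_eq_ptens,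
    Cfsg.Agent.Lib.Helper19.TWGrow.fperm_conj_ptens, famU_perm]
  have ea : (fun j => (fun j => y (σ j)) (σ⁻¹ j)) = y := by
    funext j
    simp
  rw [ea]

/-- A15 (M) -/
theorem fperm3_mem_HU (hF : Fintype.card F = q ^ 2) (σ : Equiv.Perm (Fin t)) (h3 : σ ^ 3 = 1) :
    wrFpermGL (F := F) k t σ ∈ HU t k q F := by
  have h := Cfsg.Agent.Lib.Helper19.TWGrow.wrFpermGL_mem_H (F := F) (m := k) σ h3
  exact ⟨h.1, Cfsg.Agent.Lib.Helper23.TWUT.wrFpermGL_mem_GUV hF σ, h.2⟩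

end Cfsg.Agent.Lib.Helper12.TWU3Leaf
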