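import Mathlib
import Cfsg.Agent.Lib.Helper5.TWU.Defs
import Cfsg.Agent.Lib.Helper23.TWUT
import Cfsg.Agent.Lib.Helper23.TWUQMain
import Cfsg.Agent.Lib.Helper23.TWUQSc
import Cfsg.Agent.Lib.Helper22.TWExtMore
import Cfsg.Agent.Lib.Helper14.TWIIDefs
import Cfsg.Agent.Lib.Helper19.TWGrow
import Cfsg.Agent.Lib.Helper19.TWU3Defs

/-!
# S5672 Stage III (sub-planner helper19), leaf A7 `ext_nilU` (helper12)
`ext j` of the `J`-elementary nilpotent on the positions `≠ j` is the `succAbove j '' J`-elementary nilpotent.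
-/

set_option autoImplicit false
set_option linter.unusedSectionVars false
set_option linter.unusedVariables false

namespace Cfsg.Agent.Lib.Helper12.TWU3Leaf
open Matrix Cfsg.Geo Cfsg.Agent.Lib.Helper18.AschA89 Cfsg.Agent.Lib.Helper20.AschLeaf Cfsg.Agent.Lib.Helper8.TW
open Cfsg.Agent.Lib.Helper5.TWU Cfsg.Agent.Lib.Helper19.TWU3
open Cfsg.Agent.Lib.Helper20.UT (hv)
open Cfsg.Agent.Lib.Helper23.TWUT (adjM)

variable {F : Type*} [Field F] [Fintype F] {t k q : ℕ}

/-- A7 (M) -/
theorem ext_nilU (j : Fin (t + 1)) (J : Finset (Fin t)) (y : Fin (t + 1) → Fin k → F) :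
    ext j (nilU q J (fun i => y (j.succAbove i))) = nilU q (J.map (Fin.succAboveEmb j)) y := by
  ext x x'
  have hiff : (x j = x' j ∧ ∀ i, i ∉ J → x (j.succAbove i) = x' (j.succAbove i)) ↔
      ∀ l, l ∉ J.map (Fin.succAboveEmb j) → x l = x' l := by
    constructor
    · rintro ⟨h1, h2⟩ l hl
      rcases Fin.eq_self_or_eq_succAbove j l with rfl | ⟨i, rfl⟩
      · exact h1
      · apply h2
        intro hi
        exact hl (Finset.mem_map.2 ⟨i, hi, rfl⟩)
    · intro h
      refine ⟨h j ?_, fun i hi => h _ ?_⟩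
      · intro hmem
        obtain ⟨i, _, hi⟩ := Finset.mem_map.1 hmem
        exact Fin.succAbove_ne j i hi
      · intro hmem
        obtain ⟨i', hi', he⟩ := Finset.mem_map.1 hmem
        have : i' = i := Fin.succAbove_right_injective he
        exact hi (this ▸ hi')
  show (if x j = x' j then nilU q J (fun i => y (j.succAbove i)) (fun i => x (j.succAbove i))
    (fun i => x' (j.succAbove i)) else 0) = _
  unfold nilU
  rw [Finset.prod_map]
  by_cases h1 : x j = x' j
  · by_cases h2 : ∀ i, i ∉ J → x (j.succAbove i) = x' (j.succAbove i)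
    · rw [if_pos h1, if_pos h2, if_pos (hiff.1 ⟨h1, h2⟩)]
      rfl
    · rw [if_pos h1, if_neg h2, if_neg (fun h => h2 (hiff.2 h).2)]
  · rw [if_neg h1, if_neg (fun h => h1 (hiff.2 h).1)]

end Cfsg.Agent.Lib.Helper12.TWU3Leaf
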