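import Mathlib
import Cfsg.Agent.Lib.Helper5.TWU.Defs
import Cfsg.Agent.Lib.Helper23.TWUT
import Cfsg.Agent.Lib.Helper23.TWUQMain
import Cfsg.Agent.Lib.Helper23.TWUQSc
import Cfsg.Agent.Lib.Helper22.TWExtMore
import Cfsg.Agent.Lib.Helper14.TWIIDefs
import Cfsg.Agent.Lib.Helper19.TWGrow
import Cfsg.Agent.Lib.Helper19.TWU3Defs
import Cfsg.Agent.Lib.Helper19.TWU3Tool
import Cfsg.Agent.Lib.Helper23.TWUT3
import Cfsg.Agent.Lib.Helper12.TWU3A7

/-!
# S5672 Stage III (sub-planner helper19), leaves A9 `XTU_KB` and A10 `XTU_of_KB` (helper12)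
The passage between `XT_J(K_j(X))` and `XT_{succAbove j '' J}(X)`.
-/

set_option autoImplicit false
set_option linter.unusedSectionVars false
set_option linter.unusedVariables false

namespace Cfsg.Agent.Lib.Helper12.TWU3Leaf
open Matrix Cfsg.Geo Cfsg.Agent.Lib.Helper18.AschA89 Cfsg.Agent.Lib.Helper20.AschLeaf Cfsg.Agent.Lib.Helper8.TW
open Cfsg.Agent.Lib.Helper5.TWU Cfsg.Agent.Lib.Helper19.TWU3
open Cfsg.Agent.Lib.Helper20.UT (hv)
open Cfsg.Agent.Lib.Helper23.TWUT (adjM)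

variable {F : Type*} [Field F] [Fintype F] {t k q : ℕ}

/-- `ext j` is compatible with `1 + c • ·` -/
lemma ext_one_add_smul (j : Fin (t + 1)) (c : F) (N : Matrix (Idx t k) (Idx t k) F) :
    ext j (1 + c • N) = 1 + c • ext j N := by
  rw [← ext_one (m := k) (F := F) j]
  ext x x'
  show (if x j = x' j then (1 + c • N) (fun i => x (j.succAbove i)) (fun i => x' (j.succAbove i)) else 0) =
    (if x j = x' j then (1 : Matrix (Idx t k) (Idx t k) F) (fun i => x (j.succAbove i))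
        (fun i => x' (j.succAbove i)) else 0) +
      c • (if x j = x' j then N (fun i => x (j.succAbove i)) (fun i => x' (j.succAbove i)) else 0)
  by_cases h : x j = x' j
  · rw [if_pos h, if_pos h, if_pos h]
    rfl
  · rw [if_neg h, if_neg h, if_neg h, smul_zero, add_zero]

/-- `nilU q J y` squares to zero when `J ≠ ∅` and the `y j` (`j ∈ J`) are isotropic -/
lemma nilU_sq_zero (J : Finset (Fin t)) (hJ : J.Nonempty) (y : Fin t → Fin k → F)
    (hy : ∀ j ∈ J, hv q (y j) (y j) = 0) : nilU q J y * nilU q J y = 0 := by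
  obtain ⟨j0, hj0⟩ := hJ
  rw [Cfsg.Agent.Lib.Helper19.TWU3Leaf.nilU_eq_ptens, ptens_mul]
  apply Cfsg.Agent.Lib.Helper19.TWGrow.ptens_eq_zero_of_factor _ j0
  show famU q J y j0 * famU q J y j0 = 0
  unfold famU
  rw [if_pos hj0, Cfsg.Agent.Lib.Helper19.TWU3Leaf.vv_mul_vv, hy j0 hj0, zero_smul]

/-- `nilU q J y` is self-adjoint -/
lemma adjM_nilU (hF : Fintype.card F = q ^ 2) (J : Finset (Fin t)) (y : Fin t → Fin k → F) :
    adjM q (nilU q J y) = nilU q J y := by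
  rw [Cfsg.Agent.Lib.Helper19.TWU3Leaf.nilU_eq_ptens, Cfsg.Agent.Lib.Helper23.TWUT.adjM_ptens]
  congr 1
  funext j
  unfold famU
  by_cases hj : j ∈ J
  · rw [if_pos hj, Cfsg.Agent.Lib.Helper19.TWU3Leaf.adjM_vv hF]
  · rw [if_neg hj, Cfsg.Agent.Lib.Helper23.TWUT.adjM_one (Cfsg.Agent.Lib.Helper23.TWUT.q_ne_zero hF)]

lemma smul_sq_zero {N : Matrix (Idx t k) (Idx t k) F} (h : N * N = 0) (c : F) :
    (c • N) * (c • N) = 0 := by
  rw [Matrix.smul_mul, Matrix.mul_smul, h, smul_zero, smul_zero]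

/-- A9 (M) -/
theorem XTU_KB (hF : Fintype.card F = q ^ 2) (X : Subgroup (GL (Idx (t + 1) k) F)) (j : Fin (t + 1))
    (J : Finset (Fin t)) (hJ : J.Nonempty) (h : XTU q X (J.map (Fin.succAboveEmb j))) : XTU q (KB X j) J := by
  intro y' c hy hc
  have hsq : nilU q J y' * nilU q J y' = 0 := nilU_sq_zero J hJ y' (fun i hi => (hy i hi).2)
  refine ⟨unip (c • nilU q J y') (smul_sq_zero hsq c), ?_, unip_val _ _⟩
  rw [mem_KB]
  obtain ⟨y, hydef⟩ : ∃ y : Fin (t + 1) → Fin k → F,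
      y = Fin.insertNth (α := fun _ => Fin k → F) j (0 : Fin k → F) y' := ⟨_, rfl⟩
  have hyy' : (fun i => y (j.succAbove i)) = y' := by
    funext i
    rw [hydef, Fin.insertNth_apply_succAbove]
  have hcond : ∀ l ∈ J.map (Fin.succAboveEmb j), y l ≠ 0 ∧ hv q (y l) (y l) = 0 := by
    intro l hl
    obtain ⟨i, hi, rfl⟩ := Finset.mem_map.1 hl
    have e : y (Fin.succAboveEmb j i) = y' i := congrFun hyy' i
    rw [e]
    exact hy i hi
  obtain ⟨g, hg, hgv⟩ := h y c hcond hc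
  have hgg : extGL j (unip (c • nilU q J y') (smul_sq_zero hsq c)) = g := by
    apply Units.ext
    rw [extGL_val, unip_val, hgv, ext_one_add_smul, ← ext_nilU, hyy']
  rw [hgg]
  exact hg

/-- A10 (M) -/
theorem XTU_of_KB (hF : Fintype.card F = q ^ 2) (X : Subgroup (GL (Idx (t + 1) k) F)) (j : Fin (t + 1))
    (h : SUV t k q F ≤ KB X j) (J : Finset (Fin t)) (hJ : J.Nonempty) :
    XTU q X (J.map (Fin.succAboveEmb j)) := by
  intro y c hy hc
  have hy' : ∀ i ∈ J, hv q (y (j.succAbove i)) (y (j.succAbove i)) = 0 := by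
    intro i hi
    exact (hy _ (Finset.mem_map.2 ⟨i, hi, rfl⟩)).2
  have hsq : nilU q J (fun i => y (j.succAbove i)) * nilU q J (fun i => y (j.succAbove i)) = 0 :=
    nilU_sq_zero J hJ _ hy'
  have hmem : unip (c • nilU q J (fun i => y (j.succAbove i))) (smul_sq_zero hsq c) ∈ SUV t k q F :=
    Cfsg.Agent.Lib.Helper19.TWU3Leaf.unip_mem_SUV hF _ hsq (adjM_nilU hF J _) c hc _
  have hX := h hmem
  rw [mem_KB] at hX
  refine ⟨_, hX, ?_⟩
  rw [extGL_val, unip_val, ext_one_add_smul, ext_nilU]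

end Cfsg.Agent.Lib.Helper12.TWU3Leaf
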