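import Mathlib
import Cfsg.Agent.Lib.Helper5.TWU.Defs
import Cfsg.Agent.Lib.Helper8.TW.Defs
import Cfsg.Agent.Lib.Helper22.TWExtBasic
import Cfsg.Agent.Lib.Helper22.TWExtMore
import Cfsg.Agent.Lib.Helper23.TWG1
import Cfsg.Agent.Lib.Helper23.TWG6
import Cfsg.Agent.Lib.Helper23.TWUT3
import Cfsg.Agent.Lib.Helper12.TWIIBZ
import Cfsg.Agent.Lib.Helper12.TWIIBS
import Cfsg.Agent.Lib.Helper14.TWIIDefs
import Cfsg.Agent.Lib.Helper14.TWUIIDefs
import Cfsg.Agent.Lib.Helper19.TWGrow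
import Cfsg.Agent.Lib.Helper5.SUMax
import Cfsg.Agent.Lib.Helper5.SUGen
import Cfsg.Agent.Lib.Helper5.UForm

/-!
# S5672 Stage II (sub-planner helper14), toolkit leaves T2 `slotGL_mem_HU`, T6 `exists_SUA_map`, T7 `exists_s_HU`,
# T8 `exists_s_GU` (helper12)
`SU(A)` is transitive on the non-zero isotropic vectors (`k ≥ 3`), hence `H = G ∩ SU(V)` (at least three positions) and
`G ∩ GU(V)` (any number of positions) are transitive on the isotropic fibres `W(i, y)`.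
-/

set_option autoImplicit false
set_option linter.unusedSectionVars false
set_option linter.unusedVariables false

namespace Cfsg.Agent.Lib.Helper12.TWUIILeaf
open Matrix Cfsg.Geo Cfsg.Agent.Lib.Helper18.AschA89 Cfsg.Agent.Lib.Helper8.TW Cfsg.Agent.Lib.Helper5.TWU
  Cfsg.Agent.Lib.Helper14.TWII Cfsg.Agent.Lib.Helper14.TWUII
open Cfsg.Agent.Lib.Helper20.UT (hv)
open Cfsg.Agent.Lib.Helper23.TWUQ (NSp)

variable {F : Type*} [Field F] [Fintype F] {t k q : ℕ}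

/-- T2 (S) -/
theorem slotGL_mem_HU (hF : Fintype.card F = q ^ 2) (i : Fin t) (α : GL (Fin k) F) (hα : α ∈ GUA k q F)
    (hdet : (α : Matrix (Fin k) (Fin k) F).det = 1) : slotGL i α ∈ HU t k q F := by
  have h1 := Cfsg.Agent.Lib.Helper12.TWIIBLeaf.slotGL_mem_H (t := t) i α hdet
  exact ⟨h1.1, Cfsg.Agent.Lib.Helper23.TWUT.slotGL_mem_GUV hF i hα, h1.2⟩

/-- T6 (M) `SU(A)` is transitive on non-zero isotropic vectors (`k ≥ 3`) -/
theorem exists_SUA_map (hF : Fintype.card F = q ^ 2) (hk : 3 ≤ k) (y y' : Fin k → F) (hy0 : y ≠ 0) (hy : hv q y y = 0)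
    (hy'0 : y' ≠ 0) (hy' : hv q y' y' = 0) :
    ∃ α : GL (Fin k) F, α ∈ GUA k q F ∧ (α : Matrix (Fin k) (Fin k) F).det = 1 ∧
      (α : Matrix (Fin k) (Fin k) F) *ᵥ y = y' := by
  have hf := Cfsg.Agent.Lib.Helper5.HermBridge.herm_unitary (n := k) hF
  have hd : 3 ≤ Module.finrank F (⊤ : Submodule F (Fin k → F)) := by
    rw [finrank_top, Module.finrank_fin_fun]; exact hk
  obtain ⟨s, hs, hsy⟩ := Cfsg.Agent.Lib.Helper5.SUGen.T0 hF (Cfsg.Agent.Lib.Helper5.UForm.ND_top hf) hd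
    Submodule.mem_top Submodule.mem_top hy0 hy'0 hy hy'
  have hmem := Cfsg.Agent.Lib.Helper5.SUMax.emb_mem s
  refine ⟨Cfsg.Agent.Lib.Helper5.SUMax.emb k F q s, hmem.1, ?_, ?_⟩
  · have h2 := hmem.2
    have h3 : Matrix.GeneralLinearGroup.det (Cfsg.Agent.Lib.Helper5.SUMax.emb k F q s) = 1 := h2
    have h4 := congrArg Units.val h3
    simpa using h4
  · rw [Cfsg.Agent.Lib.Helper5.SUMax.emb_mulVec]
    exact hsy

/-- T7 (M) with at least three positions `H = G ∩ SU(V)` is transitive on isotropic fibres -/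
theorem exists_s_HU (hF : Fintype.card F = q ^ 2) (hk : 3 ≤ k) (ht : 3 ≤ t) (i i' : Fin t) (y y' : Fin k → F)
    (hy0 : y ≠ 0) (hy : hv q y y = 0) (hy'0 : y' ≠ 0) (hy' : hv q y' y' = 0) :
    ∃ s ∈ HU t k q F, img s (Wf i y) = Wf i' y' := by
  obtain ⟨α, hαU, hα, hαy⟩ := exists_SUA_map hF hk y y' hy0 hy hy'0 hy'
  by_cases hii : i = i'
  · subst hii
    exact ⟨slotGL i α, slotGL_mem_HU hF i α hαU hα,
      by rw [Cfsg.Agent.Lib.Helper12.TWIIBLeaf.img_slot_Wf, hαy]⟩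
  · -- a third position
    obtain ⟨i'', h1, h2⟩ : ∃ i'' : Fin t, i'' ≠ i ∧ i'' ≠ i' := by
      by_contra hcon
      simp only [not_exists, not_and, not_not] at hcon
      have hsub : (Finset.univ : Finset (Fin t)) ⊆ {i, i'} := by
        intro j _
        by_cases hj : j = i
        · simp [hj]
        · simp [hcon j hj]
      have hc := Finset.card_le_card hsub
      rw [Finset.card_univ, Fintype.card_fin] at hc
      have := Finset.card_le_two (a := i) (b := i')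
      omega
    set σ : Equiv.Perm (Fin t) := Equiv.swap i i'' * Equiv.swap i i' with hσ
    have h3c : σ.IsThreeCycle :=
      Equiv.Perm.isThreeCycle_swap_mul_swap_same (Ne.symm h1) hii (fun h => h2 h)
    have hσ3 : σ ^ 3 = 1 := by
      rw [← h3c.orderOf]
      exact pow_orderOf_eq_one σ
    have hσi : σ i = i' := by
      rw [hσ, Equiv.Perm.mul_apply, Equiv.swap_apply_left,
        Equiv.swap_apply_of_ne_of_ne (Ne.symm hii) (Ne.symm h2)]
    have hσH : Cfsg.Agent.Lib.Helper20.AschLeaf.wrFpermGL (F := F) k t σ ∈ HU t k q F := by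
      have h := Cfsg.Agent.Lib.Helper19.TWGrow.wrFpermGL_mem_H (F := F) (m := k) σ hσ3
      exact ⟨h.1, Cfsg.Agent.Lib.Helper23.TWUT.wrFpermGL_mem_GUV hF σ, h.2⟩
    refine ⟨slotGL i' α * Cfsg.Agent.Lib.Helper20.AschLeaf.wrFpermGL (F := F) k t σ,
      Subgroup.mul_mem _ (slotGL_mem_HU hF i' α hαU hα) hσH, ?_⟩
    rw [Cfsg.Agent.Lib.Helper12.TWIIBLeaf.img_mul', Cfsg.Agent.Lib.Helper12.TWIIBLeaf.img_fperm_Wf, hσi,
      Cfsg.Agent.Lib.Helper12.TWIIBLeaf.img_slot_Wf, hαy]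

/-- T8 (M) `G ∩ GU(V)` is transitive on isotropic fibres (any number of positions) -/
theorem exists_s_GU (hF : Fintype.card F = q ^ 2) (hk : 3 ≤ k) (i i' : Fin t) (y y' : Fin k → F)
    (hy0 : y ≠ 0) (hy : hv q y y = 0) (hy'0 : y' ≠ 0) (hy' : hv q y' y' = 0) :
    ∃ s : GL (Idx t k) F, s ∈ Gstd t k F ∧ s ∈ GUV t k q F ∧ img s (Wf i y) = Wf i' y' := by
  obtain ⟨α, hαU, hα, hαy⟩ := exists_SUA_map hF hk y y' hy0 hy hy'0 hy'
  refine ⟨slotGL i' α * Cfsg.Agent.Lib.Helper20.AschLeaf.wrFpermGL (F := F) k t (Equiv.swap i i'),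
    Subgroup.mul_mem _ (Cfsg.Agent.Lib.Helper23.TWLeaf.slotGL_mem_G i' α)
      (Cfsg.Agent.Lib.Helper23.TWLeaf.fpermGL_mem_G _),
    Subgroup.mul_mem _ (Cfsg.Agent.Lib.Helper23.TWUT.slotGL_mem_GUV hF i' hαU)
      (Cfsg.Agent.Lib.Helper23.TWUT.wrFpermGL_mem_GUV hF _), ?_⟩
  rw [Cfsg.Agent.Lib.Helper12.TWIIBLeaf.img_mul', Cfsg.Agent.Lib.Helper12.TWIIBLeaf.img_fperm_Wf,
    Equiv.swap_apply_left, Cfsg.Agent.Lib.Helper12.TWIIBLeaf.img_slot_Wf, hαy]

end Cfsg.Agent.Lib.Helper12.TWUIILeaf
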