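import Mathlib
import Cfsg.Agent.Lib.Helper5.TWU.Defs
import Cfsg.Agent.Lib.Helper8.TW.Defs
import Cfsg.Agent.Lib.Helper22.TWExtBasic
import Cfsg.Agent.Lib.Helper22.TWExtMore
import Cfsg.Agent.Lib.Helper23.TWUT3
import Cfsg.Agent.Lib.Helper12.TWIIBZ
import Cfsg.Agent.Lib.Helper12.TWIIBS
import Cfsg.Agent.Lib.Helper14.TWIIDefs
import Cfsg.Agent.Lib.Helper14.TWUIIDefs
import Cfsg.Agent.Lib.Helper14.TWUIIThetaG
import Cfsg.Agent.Lib.Helper1.TWUIUT8
import Cfsg.Agent.Lib.Helper6.TWSlot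
import Cfsg.Agent.Lib.Helper12.TWUIIS

/-!
# S5672 Stage II (sub-planner helper14), leaf R9 `theta_scalar_q2` (helper12)
**(R2c), `q = 2`** (so `k ≥ 4`, `F = F_4`): the FIVE-POINT relation kills `θ`.

General part (any `q`): `comm_val` (the commutator of `z₁ = 1 + θ ⊗ M` with `slotGL i α'`), `kappa_val` (conjugation by
`slotGL i α₁ * extGL i γ`), `prod3_val`; then the `F_4` computation `∑_{λ ≠ 0} (p_λ p_λ† - y y†) = w w†`.
-/

set_option autoImplicit false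
set_option linter.unusedSectionVars false
set_option linter.unusedVariables false

namespace Cfsg.Agent.Lib.Helper12.TWUIILeaf
open Matrix Cfsg.Geo Cfsg.Agent.Lib.Helper18.AschA89 Cfsg.Agent.Lib.Helper8.TW Cfsg.Agent.Lib.Helper5.TWU
  Cfsg.Agent.Lib.Helper14.TWII Cfsg.Agent.Lib.Helper14.TWUII
open Cfsg.Agent.Lib.Helper20.UT (hv)
open Cfsg.Agent.Lib.Helper23.TWUQ (NSp)

variable {F : Type*} [Field F] [Fintype F] {t k q : ℕ}

/-! ### matrix calculus of `θ ⊗ M = ext i θ * slot i M` -/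

lemma q2_comm (i : Fin (t + 1)) (θ : Matrix (Idx t k) (Idx t k) F) (A : Matrix (Fin k) (Fin k) F) :
    Commute (slot k (t + 1) i A) (ext i θ) :=
  (Cfsg.Agent.Lib.Helper22.TWLeaf.ext_comm_slot i θ A).symm

lemma q2_ES_mul (i : Fin (t + 1)) (θ θ' : Matrix (Idx t k) (Idx t k) F) (A B : Matrix (Fin k) (Fin k) F) :
    (ext i θ * slot k (t + 1) i A) * (ext i θ' * slot k (t + 1) i B) =
      ext i (θ * θ') * slot k (t + 1) i (A * B) := by
  rw [← slot_mul, ← ext_mul, mul_assoc, ← mul_assoc (slot k (t + 1) i A), (q2_comm i θ' A).eq, mul_assoc,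
    mul_assoc]

lemma q2_val_inv {ι : Type} [Fintype ι] [DecidableEq ι] (g : GL ι F) (N : Matrix ι ι F)
    (hg : (g : Matrix ι ι F) = 1 + N) (hN : N * N = 0) : ((g⁻¹ : GL ι F) : Matrix ι ι F) = 1 - N := by
  have e : g = unip N hN := Units.ext (by rw [hg, unip_val])
  rw [e, unip_inv_val]

/-- the commutator of `z₁ = 1 + θ ⊗ M` (`M² = 0`) with `slotGL i α'` -/
lemma q2_comm_val (i : Fin (t + 1)) (θ : Matrix (Idx t k) (Idx t k) F) (M : Matrix (Fin k) (Fin k) F)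
    (hM : M * M = 0) (z₁ : GL (Idx (t + 1) k) F)
    (hz₁ : (z₁ : Matrix (Idx (t + 1) k) (Idx (t + 1) k) F) = 1 + ext i θ * slot k (t + 1) i M)
    (α' : GL (Fin k) F)
    (hM' : (((α'⁻¹ : GL (Fin k) F) : Matrix (Fin k) (Fin k) F) * M * (α' : Matrix (Fin k) (Fin k) F)) * M = 0) :
    (((slotGL i α')⁻¹ * z₁ * slotGL i α' * z₁⁻¹ : GL (Idx (t + 1) k) F) :
        Matrix (Idx (t + 1) k) (Idx (t + 1) k) F) =
      1 + ext i θ * slot k (t + 1) i
        (((α'⁻¹ : GL (Fin k) F) : Matrix (Fin k) (Fin k) F) * M * (α' : Matrix (Fin k) (Fin k) F) - M) := by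
  have hN : (ext i θ * slot k (t + 1) i M) * (ext i θ * slot k (t + 1) i M) = 0 := by
    rw [q2_ES_mul, hM, slot_zero, mul_zero]
  have hzinv := q2_val_inv z₁ _ hz₁ hN
  have h1 : slot k (t + 1) i ((α'⁻¹ : GL (Fin k) F) : Matrix (Fin k) (Fin k) F) *
      (1 + ext i θ * slot k (t + 1) i M) * slot k (t + 1) i (α' : Matrix (Fin k) (Fin k) F) =
      1 + ext i θ * slot k (t + 1) i
        (((α'⁻¹ : GL (Fin k) F) : Matrix (Fin k) (Fin k) F) * M * (α' : Matrix (Fin k) (Fin k) F)) := by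
    rw [mul_add, add_mul, mul_one, slot_mul, ← Units.val_mul, inv_mul_cancel, Units.val_one, slot_one,
      ← mul_assoc, (q2_comm i θ _).eq, mul_assoc, mul_assoc, slot_mul, slot_mul, mul_assoc]
  have h2 : (ext i θ * slot k (t + 1) i
      (((α'⁻¹ : GL (Fin k) F) : Matrix (Fin k) (Fin k) F) * M * (α' : Matrix (Fin k) (Fin k) F))) *
      (ext i θ * slot k (t + 1) i M) = 0 := by
    rw [q2_ES_mul, hM', slot_zero, mul_zero]
  have h3 : ∀ A B : Matrix (Idx (t + 1) k) (Idx (t + 1) k) F, (1 + A) * (1 - B) = 1 + (A - B) - A * B := by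
    intro A B
    noncomm_ring
  rw [Units.val_mul, Units.val_mul, Units.val_mul, hzinv, hz₁, ← slotGL_inv, slotGL_val, slotGL_val, h1,
    h3, h2, sub_zero, Cfsg.Agent.Lib.Helper6.TWQ.slot_sub, mul_sub]

/-- a product of three mutually annihilating elements -/
lemma q2_prod3 {ι : Type} [Fintype ι] [DecidableEq ι] (A B C : Matrix ι ι F) (hAB : A * B = 0) (hAC : A * C = 0)
    (hBC : B * C = 0) : (1 + A) * (1 + B) * (1 + C) = 1 + (A + B + C) := by
  have h : (1 + A) * (1 + B) * (1 + C) = 1 + (A + B + C) + (A * B + A * C + B * C + A * B * C) := by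
    noncomm_ring
  rw [h, hAB, hAC, hBC, zero_mul]
  abel

/-- rearranging commuting factors -/
lemma q2_six {M : Type*} [Monoid M] (s1 s2 s3 e1 e2 e3 : M) (h11 : Commute s1 e1) (h12 : Commute s1 e2)
    (h13 : Commute s1 e3) (h23 : Commute s2 e3) :
    (s1 * e1) * (e2 * s2) * (e3 * s3) = (e1 * e2 * e3) * (s1 * s2 * s3) := by
  calc (s1 * e1) * (e2 * s2) * (e3 * s3) = (s1 * (e1 * e2)) * (s2 * e3) * s3 := by simp only [mul_assoc]
    _ = ((e1 * e2) * s1) * (e3 * s2) * s3 := by rw [(h11.mul_right h12).eq, h23.eq]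
    _ = (e1 * e2) * (s1 * e3) * s2 * s3 := by simp only [mul_assoc]
    _ = (e1 * e2) * (e3 * s1) * s2 * s3 := by rw [h13.eq]
    _ = (e1 * e2 * e3) * (s1 * s2 * s3) := by simp only [mul_assoc]

/-- conjugation by `κ = slotGL i α₁ * extGL i γ` -/
lemma q2_kappa_val (i : Fin (t + 1)) (θ : Matrix (Idx t k) (Idx t k) F) (D : Matrix (Fin k) (Fin k) F)
    (g : GL (Idx (t + 1) k) F)
    (hg : (g : Matrix (Idx (t + 1) k) (Idx (t + 1) k) F) = 1 + ext i θ * slot k (t + 1) i D)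
    (α₁ : GL (Fin k) F) (γ : GL (Idx t k) F) :
    (((slotGL i α₁ * extGL i γ) * g * (slotGL i α₁ * extGL i γ)⁻¹ : GL (Idx (t + 1) k) F) :
        Matrix (Idx (t + 1) k) (Idx (t + 1) k) F) =
      1 + ext i ((γ : Matrix (Idx t k) (Idx t k) F) * θ * ((γ⁻¹ : GL (Idx t k) F) : Matrix (Idx t k) (Idx t k) F)) *
        slot k (t + 1) i ((α₁ : Matrix (Fin k) (Fin k) F) * D *
          ((α₁⁻¹ : GL (Fin k) F) : Matrix (Fin k) (Fin k) F)) := by
  have hinv : (slotGL i α₁ * extGL i γ)⁻¹ = extGL i γ⁻¹ * slotGL i α₁⁻¹ := by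
    rw [_root_.mul_inv_rev, extGL_inv, slotGL_inv]
  have h1 : ((slotGL i α₁ * extGL i γ : GL (Idx (t + 1) k) F) : Matrix (Idx (t + 1) k) (Idx (t + 1) k) F) *
      ((extGL i γ⁻¹ * slotGL i α₁⁻¹ : GL (Idx (t + 1) k) F) : Matrix (Idx (t + 1) k) (Idx (t + 1) k) F) = 1 := by
    rw [← Units.val_mul, ← hinv, mul_inv_cancel, Units.val_one]
  rw [hinv, Units.val_mul, Units.val_mul, hg, mul_add, add_mul, mul_one, h1]
  congr 1
  rw [Units.val_mul, Units.val_mul, slotGL_val, slotGL_val, extGL_val, extGL_val]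
  rw [q2_six _ _ _ _ _ _ (q2_comm i _ _) (q2_comm i _ _) (q2_comm i _ _) (q2_comm i _ _), ext_mul, ext_mul, slot_mul,
    slot_mul]

/-! ### rank-one matrices `a b†` -/

lemma q2_vv_mul_zero {a b c d : Fin k → F} (h : hv q c b = 0) :
    Matrix.vecMulVec a (dag q b) * Matrix.vecMulVec c (dag q d) = 0 := by
  rw [Matrix.vecMulVec_mul_vecMulVec, ← Cfsg.Agent.Lib.Helper20.UT.hv_eq_dot, h, zero_smul]
  ext x x'
  simp [Matrix.vecMulVec_apply]

/-- for an isometry `d`: `(d p)† d = p†` -/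
lemma q2_dag_vecMul (hF : Fintype.card F = q ^ 2) (d : GL (Fin k) F) (hd : d ∈ GUA k q F) (p : Fin k → F) :
    dag q ((d : Matrix (Fin k) (Fin k) F) *ᵥ p) ᵥ* (d : Matrix (Fin k) (Fin k) F) = dag q p := by
  funext b
  have h1 : (dag q ((d : Matrix (Fin k) (Fin k) F) *ᵥ p) ᵥ* (d : Matrix (Fin k) (Fin k) F)) b =
      hv q ((d : Matrix (Fin k) (Fin k) F) *ᵥ Pi.single b 1) ((d : Matrix (Fin k) (Fin k) F) *ᵥ p) := by
    rw [Cfsg.Agent.Lib.Helper20.UT.hv_eq_dot, Matrix.mulVec_single_one]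
    rfl
  rw [h1, Cfsg.Agent.Lib.Helper23.TWUT.mem_GUA.1 hd]
  unfold Cfsg.Agent.Lib.Helper20.UT.hv
  rw [Finset.sum_eq_single b]
  · simp [Cfsg.Agent.Lib.Helper20.UT.cj]
  · intro a _ hab
    rw [Pi.single_eq_of_ne hab, zero_mul]
  · intro h
    exact absurd (Finset.mem_univ b) h

/-- an element `1 + θ ⊗ z ηᵀ` (`η z = 0`) lies in `Z_{(i,z)}` -/
lemma q2_InZ (i : Fin (t + 1)) (z η : Fin k → F) (hηz : η ⬝ᵥ z = 0) (θ : Matrix (Idx t k) (Idx t k) F)
    (u : GL (Idx (t + 1) k) F)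
    (hval : (u : Matrix (Idx (t + 1) k) (Idx (t + 1) k) F) = 1 + ext i θ * rootN i z η) : InZ i z u := by
  have hR := Cfsg.Agent.Lib.Helper12.TWIIBLeaf.InZ_rootU i z η hηz
  have hmvR : ∀ v, mv (rootU i z η hηz) v = v + rootN i z η *ᵥ v := by
    intro v
    unfold mv
    rw [rootU_val, Matrix.add_mulVec, Matrix.one_mulVec]
  have hcomm : ext i θ * rootN i z η = rootN i z η * ext i θ :=
    Cfsg.Agent.Lib.Helper22.TWLeaf.ext_comm_slot i θ _
  have hmv : ∀ v, mv u v = v + (ext i θ * rootN i z η) *ᵥ v := by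
    intro v
    unfold mv
    rw [hval, Matrix.add_mulVec, Matrix.one_mulVec]
  constructor
  · intro v
    rw [hmv, add_sub_cancel_left, hcomm, ← Matrix.mulVec_mulVec]
    have := hR.1 (ext i θ *ᵥ v)
    rwa [hmvR, add_sub_cancel_left] at this
  · intro v hv
    have h0 : rootN i z η *ᵥ v = 0 := by
      have := hR.2 v hv
      rw [hmvR] at this
      exact left_eq_add.mp this.symm
    rw [hmv, ← Matrix.mulVec_mulVec, h0, Matrix.mulVec_zero, add_zero]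

/-! ### the leaf -/

/-- R9 (L) **(R2c), `q = 2`** (so `k ≥ 4`, `F = F_4`): the FIVE-POINT relation kills `θ` -/
theorem theta_scalar_q2 (hF : Fintype.card F = q ^ 2) (hk : 4 ≤ k) (hq : q = 2)
    (X' : Subgroup (GL (Idx (t + 1) k) F)) (i : Fin (t + 1)) (y : Fin k → F) (hy0 : y ≠ 0) (hy : hv q y y = 0)
    (hB : ∀ z : Fin k → F, z ≠ 0 → hv q z z = 0 → ∀ u ∈ X', InZ i z u → u ∈ Gstd (t + 1) k F)
    (α₁ : GL (Fin k) F) (hα₁ : α₁ ∈ DUA k q F) (hα₁y : (α₁ : Matrix (Fin k) (Fin k) F) *ᵥ y = y)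
    (γ : GL (Idx t k) F) (z₁ : GL (Idx (t + 1) k) F) (θ : Matrix (Idx t k) (Idx t k) F)
    (hz₁ : (z₁ : Matrix (Idx (t + 1) k) (Idx (t + 1) k) F) = 1 + ext i θ * rootN i y (dag q y))
    (hcomm : ∀ α' : GL (Fin k) F, α' ∈ GUA k q F → (α' : Matrix (Fin k) (Fin k) F).det = 1 →
      (slotGL i α₁ * extGL i γ) * ((slotGL i α')⁻¹ * z₁ * slotGL i α' * z₁⁻¹) * (slotGL i α₁ * extGL i γ)⁻¹ ∈ X') :
    ∃ c : F, θ = c • (1 : Matrix (Idx t k) (Idx t k) F) := by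
  classical
  subst hq
  -- the field with four elements
  have hF4 : Fintype.card F = 4 := by rw [hF]; norm_num
  have h4 : (4 : F) = 0 := by
    have := FiniteField.cast_card_eq_zero F
    rw [hF4] at this
    exact_mod_cast this
  have h2 : (2 : F) = 0 := by
    have : (2 : F) * 2 = 0 := by rw [← h4]; norm_num
    exact mul_self_eq_zero.1 this
  obtain ⟨ω, hω0, hω1⟩ : ∃ ω : F, ω ≠ 0 ∧ ω ≠ 1 := by
    by_contra hcon
    push Not at hcon
    have hsub : (Finset.univ : Finset F) ⊆ {0, 1} := by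
      intro x _
      by_cases hx : x = 0
      · simp [hx]
      · simp [hcon x hx]
    have hc := Finset.card_le_card hsub
    rw [Finset.card_univ, hF4] at hc
    have := Finset.card_le_two (a := (0 : F)) (b := 1)
    omega
  have hω : ω ^ 2 + ω + 1 = 0 := by
    have h := FiniteField.pow_card ω
    rw [hF4] at h
    have h3 : ω * (ω - 1) * (ω ^ 2 + ω + 1) = 0 := by linear_combination h
    rcases mul_eq_zero.1 h3 with h5 | h5
    · rcases mul_eq_zero.1 h5 with h6 | h6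
      · exact absurd h6 hω0
      · exact absurd (sub_eq_zero.1 h6) hω1
    · exact h5
  -- the isotropic vector `w ⊥ y`
  obtain ⟨w, hw0, hww, hwy, hwn⟩ := Cfsg.Agent.Lib.Helper1.TWULeaf.exists_iso_perp hF hk y hy0 hy
  have hyw : hv 2 y w = 0 := Cfsg.Agent.Lib.Helper20.UT.hv_symm_zero hF hwy
  have hPP : ∀ l l' : F, hv 2 (y + l • w) (y + l' • w) = 0 := by
    intro l l'
    rw [Cfsg.Agent.Lib.Helper20.UT.hv_add_left, Cfsg.Agent.Lib.Helper20.UT.hv_add_right hF,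
      Cfsg.Agent.Lib.Helper20.UT.hv_add_right hF, Cfsg.Agent.Lib.Helper20.UT.hv_smul_left,
      Cfsg.Agent.Lib.Helper20.UT.hv_smul_left, Cfsg.Agent.Lib.Helper20.UT.hv_smul_right,
      Cfsg.Agent.Lib.Helper20.UT.hv_smul_right, hy, hyw, hwy, hww]
    ring
  have hyP : ∀ l : F, hv 2 y (y + l • w) = 0 := by
    intro l
    have := hPP 0 l
    rwa [zero_smul, add_zero] at this
  have hPy : ∀ l : F, hv 2 (y + l • w) y = 0 := by
    intro l
    have := hPP l 0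
    rwa [zero_smul, add_zero] at this
  obtain ⟨Ny, hNy⟩ : ∃ Ny : Matrix (Fin k) (Fin k) F, Ny = Matrix.vecMulVec y (dag 2 y) := ⟨_, rfl⟩
  have hNyy : Ny * Ny = 0 := by rw [hNy]; exact q2_vv_mul_zero hy
  have hz₁' : (z₁ : Matrix (Idx (t + 1) k) (Idx (t + 1) k) F) = 1 + ext i θ * slot k (t + 1) i Ny := by
    rw [hz₁, hNy]; rfl
  -- the three commutators
  have key : ∀ l : F, l ≠ 0 → ∃ c : GL (Idx (t + 1) k) F,
      (c : Matrix (Idx (t + 1) k) (Idx (t + 1) k) F) = 1 + ext i θ * slot k (t + 1) i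
        (Matrix.vecMulVec (y + l • w) (dag 2 (y + l • w)) - Ny) ∧
      (slotGL i α₁ * extGL i γ) * c * (slotGL i α₁ * extGL i γ)⁻¹ ∈ X' := by
    intro l hl
    have hp0 : y + l • w ≠ 0 := by
      intro h0
      apply hwn
      refine ⟨-l⁻¹, ?_⟩
      have h1 : l • w = -y := eq_neg_of_add_eq_zero_right h0
      rw [neg_smul, ← smul_neg, ← h1, smul_smul, inv_mul_cancel₀ hl, one_smul]
    obtain ⟨d, hdU, hddet, hdp⟩ := exists_SUA_map hF (by omega) (y + l • w) y hp0 (hPP l l) hy0 hy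
    refine ⟨(slotGL i d)⁻¹ * z₁ * slotGL i d * z₁⁻¹, ?_, hcomm d hdU hddet⟩
    have hM' : ((d⁻¹ : GL (Fin k) F) : Matrix (Fin k) (Fin k) F) * Ny * (d : Matrix (Fin k) (Fin k) F) =
        Matrix.vecMulVec (y + l • w) (dag 2 (y + l • w)) := by
      rw [hNy, Matrix.mul_vecMulVec, Matrix.vecMulVec_mul]
      have e1 : ((d⁻¹ : GL (Fin k) F) : Matrix (Fin k) (Fin k) F) *ᵥ y = y + l • w := by
        conv_lhs => rw [← hdp]
        rw [Matrix.mulVec_mulVec, ← Units.val_mul, inv_mul_cancel, Units.val_one, Matrix.one_mulVec]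
      have e2 : dag 2 y ᵥ* (d : Matrix (Fin k) (Fin k) F) = dag 2 (y + l • w) := by
        conv_lhs => rw [← hdp]
        exact q2_dag_vecMul hF d hdU _
      rw [e1, e2]
    rw [q2_comm_val i θ Ny hNyy z₁ hz₁' d (by rw [hM', hNy]; exact q2_vv_mul_zero (hyP l)), hM']
  obtain ⟨c1, hc1, hc1X⟩ := key 1 one_ne_zero
  obtain ⟨c2, hc2, hc2X⟩ := key ω hω0
  obtain ⟨c3, hc3, hc3X⟩ := key (ω ^ 2) (pow_ne_zero 2 hω0)
  obtain ⟨κ, hκ⟩ : ∃ κ : GL (Idx (t + 1) k) F, κ = slotGL i α₁ * extGL i γ := ⟨_, rfl⟩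
  rw [← hκ] at hc1X hc2X hc3X
  have huX : κ * (c1 * c2 * c3) * κ⁻¹ ∈ X' := by
    have e : κ * (c1 * c2 * c3) * κ⁻¹ = (κ * c1 * κ⁻¹) * (κ * c2 * κ⁻¹) * (κ * c3 * κ⁻¹) := by group
    rw [e]
    exact X'.mul_mem (X'.mul_mem hc1X hc2X) hc3X
  -- the differences annihilate each other
  have hDD : ∀ l l' : F, (Matrix.vecMulVec (y + l • w) (dag 2 (y + l • w)) - Ny) *
      (Matrix.vecMulVec (y + l' • w) (dag 2 (y + l' • w)) - Ny) = 0 := by
    intro l l'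
    rw [hNy, sub_mul, mul_sub, mul_sub, q2_vv_mul_zero (hPP l' l), q2_vv_mul_zero (hyP l),
      q2_vv_mul_zero (hPy l'), q2_vv_mul_zero hy]
    simp
  have hEE : ∀ l l' : F,
      (ext i θ * slot k (t + 1) i (Matrix.vecMulVec (y + l • w) (dag 2 (y + l • w)) - Ny)) *
        (ext i θ * slot k (t + 1) i (Matrix.vecMulVec (y + l' • w) (dag 2 (y + l' • w)) - Ny)) = 0 := by
    intro l l'
    rw [q2_ES_mul, hDD, slot_zero, mul_zero]
  -- the five-point relation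
  have hsum : (Matrix.vecMulVec (y + (1 : F) • w) (dag 2 (y + (1 : F) • w)) - Ny) +
      (Matrix.vecMulVec (y + ω • w) (dag 2 (y + ω • w)) - Ny) +
      (Matrix.vecMulVec (y + ω ^ 2 • w) (dag 2 (y + ω ^ 2 • w)) - Ny) = Matrix.vecMulVec w (dag 2 w) := by
    rw [hNy]
    ext x x'
    simp only [Matrix.add_apply, Matrix.sub_apply, Matrix.vecMulVec_apply, Cfsg.Agent.Lib.Helper20.UT.cj,
      Pi.add_apply, Pi.smul_apply, smul_eq_mul]
    linear_combination (w x * w x' ^ 2) * h2 +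
      (2 * y x * y x' * w x' + (1 + ω ^ 2 - ω) * y x * w x' ^ 2 + w x * y x' ^ 2 +
        2 * (1 + ω ^ 2 - ω) * w x * y x' * w x' +
        (3 * (ω - 1) + (ω - 1) ^ 2 * (ω ^ 2 + ω + 1)) * w x * w x' ^ 2) * hω
  have hval : ((c1 * c2 * c3 : GL (Idx (t + 1) k) F) : Matrix (Idx (t + 1) k) (Idx (t + 1) k) F) =
      1 + ext i θ * slot k (t + 1) i (Matrix.vecMulVec w (dag 2 w)) := by
    rw [Units.val_mul, Units.val_mul, hc1, hc2, hc3, q2_prod3 _ _ _ (hEE _ _) (hEE _ _) (hEE _ _), ← mul_add,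
      ← mul_add, ← slot_add, ← slot_add, hsum]
  have hval2 := q2_kappa_val i θ _ (c1 * c2 * c3) hval α₁ γ
  rw [← hκ] at hval2
  -- the new isotropic vector
  obtain ⟨z, hz⟩ : ∃ z : Fin k → F, z = (α₁ : Matrix (Fin k) (Fin k) F) *ᵥ w := ⟨_, rfl⟩
  obtain ⟨η, hη⟩ : ∃ η : Fin k → F,
      η = dag 2 w ᵥ* ((α₁⁻¹ : GL (Fin k) F) : Matrix (Fin k) (Fin k) F) := ⟨_, rfl⟩
  have hroot : slot k (t + 1) i ((α₁ : Matrix (Fin k) (Fin k) F) * Matrix.vecMulVec w (dag 2 w) *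
      ((α₁⁻¹ : GL (Fin k) F) : Matrix (Fin k) (Fin k) F)) = rootN i z η := by
    rw [Matrix.mul_vecMulVec, Matrix.vecMulVec_mul, ← hz, ← hη]
    rfl
  rw [hroot] at hval2
  have hinv_mul : ((α₁⁻¹ : GL (Fin k) F) : Matrix (Fin k) (Fin k) F) * (α₁ : Matrix (Fin k) (Fin k) F) = 1 := by
    rw [← Units.val_mul, inv_mul_cancel, Units.val_one]
  have hz0 : z ≠ 0 := by
    intro h0
    apply hw0
    have : ((α₁⁻¹ : GL (Fin k) F) : Matrix (Fin k) (Fin k) F) *ᵥ z = w := by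
      rw [hz, Matrix.mulVec_mulVec, hinv_mul, Matrix.one_mulVec]
    rw [← this, h0, Matrix.mulVec_zero]
  have hzz : hv 2 z z = 0 := by
    obtain ⟨c, hc⟩ := Cfsg.Agent.Lib.Helper23.TWUT.mem_DUA.1 hα₁
    rw [hz, hc, hww, mul_zero]
  have hηz : η ⬝ᵥ z = 0 := by
    rw [hη, hz, ← Matrix.dotProduct_mulVec, Matrix.mulVec_mulVec, hinv_mul, Matrix.one_mulVec,
      ← Cfsg.Agent.Lib.Helper20.UT.hv_eq_dot]
    exact hww
  have hη0 : η ≠ 0 := by
    intro h0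
    apply dag_ne_zero (q := 2) hw0
    have : η ᵥ* (α₁ : Matrix (Fin k) (Fin k) F) = dag 2 w := by
      rw [hη, Matrix.vecMul_vecMul, hinv_mul, Matrix.vecMul_one]
    rw [← this, h0, Matrix.zero_vecMul]
  have hInZ := q2_InZ i z η hηz _ _ hval2
  have hG := hB z hz0 hzz _ huX hInZ
  obtain ⟨c, hc⟩ := Cfsg.Agent.Lib.Helper14.TWUIILeaf.theta_scalar_of_G (by omega) i z η hz0 hη0 hηz _ _ hG hval2
  refine ⟨c, ?_⟩
  have h5 : θ = ((γ⁻¹ : GL (Idx t k) F) : Matrix (Idx t k) (Idx t k) F) *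
      ((γ : Matrix (Idx t k) (Idx t k) F) * θ * ((γ⁻¹ : GL (Idx t k) F) : Matrix (Idx t k) (Idx t k) F)) *
      (γ : Matrix (Idx t k) (Idx t k) F) := by
    have e1 : ((γ⁻¹ : GL (Idx t k) F) : Matrix (Idx t k) (Idx t k) F) * (γ : Matrix (Idx t k) (Idx t k) F) = 1 := by
      rw [← Units.val_mul, inv_mul_cancel, Units.val_one]
    rw [← mul_assoc, ← mul_assoc, e1, one_mul, mul_assoc, e1, mul_one]
  rw [h5, hc, Matrix.mul_smul, Matrix.smul_mul, mul_one, ← Units.val_mul, inv_mul_cancel, Units.val_one]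

end Cfsg.Agent.Lib.Helper12.TWUIILeaf
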