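import Mathlib
import Cfsg.Agent.Lib.Helper5.TWU.Defs
import Cfsg.Agent.Lib.Helper8.TW.Defs
import Cfsg.Agent.Lib.Helper22.TWExtBasic
import Cfsg.Agent.Lib.Helper22.TWExtMore
import Cfsg.Agent.Lib.Helper23.TWUT3
import Cfsg.Agent.Lib.Helper12.TWIIBZ
import Cfsg.Agent.Lib.Helper12.TWIIBS
import Cfsg.Agent.Lib.Helper14.TWIIDefs
import Cfsg.Agent.Lib.Helper14.TWUIIDefs
import Cfsg.Agent.Lib.Helper6.TWSlot
import Cfsg.Agent.Lib.Helper4.SUMT
import Cfsg.Agent.Lib.Helper12.C3uF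

/-!
# S5672 Stage II (sub-planner helper14), leaf R4 `star_of_QU` (helper12)
**(★)**: an element normalising `slot i (Q_U^A(y))` (inside `slot i (End A)`) normalises the LINEAR root group `Q(i,y)` of S5641:
every `y ξᵀ` (`ξ y = 0`) is an `F`-combination of three Heisenberg matrices minus one.
-/

set_option autoImplicit false
set_option linter.unusedSectionVars false
set_option linter.unusedVariables false

namespace Cfsg.Agent.Lib.Helper12.TWUIILeaf
open Matrix Cfsg.Geo Cfsg.Agent.Lib.Helper18.AschA89 Cfsg.Agent.Lib.Helper8.TW Cfsg.Agent.Lib.Helper5.TWU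
  Cfsg.Agent.Lib.Helper14.TWII Cfsg.Agent.Lib.Helper14.TWUII
open Cfsg.Agent.Lib.Helper20.UT (hv)
open Cfsg.Agent.Lib.Helper23.TWUQ (NSp)

variable {F : Type*} [Field F] [Fintype F] {t k q : ℕ}

/-- an admissible scalar for `w`: `c + c^q + f(w,w) = 0` (the trace is onto the fixed field) -/
lemma star_exists_adm (hF : Fintype.card F = q ^ 2) (w : Fin k → F) : ∃ c : F, c + c ^ q + hv q w w = 0 := by
  have hf := Cfsg.Agent.Lib.Helper5.HermBridge.herm_unitary (n := 1) hF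
  obtain ⟨z, hz⟩ := Cfsg.Agent.Lib.Helper5.UForm.tr_surj hf.involutive hf.ne_refl (-(hv q w w))
    (by rw [Cfsg.Agent.Lib.Helper5.HermBridge.frobQ_apply, Cfsg.Agent.Lib.Helper20.UT.neg_pow_q hF,
      Cfsg.Agent.Lib.Helper20.UT.hv_self_pow hF])
  rw [Cfsg.Agent.Lib.Helper5.HermBridge.frobQ_apply] at hz
  exact ⟨z, by rw [hz]; ring⟩

/-- `slot i` is injective -/
lemma star_slot_eq_zero (i : Fin (t + 1)) {A : Matrix (Fin k) (Fin k) F} (h : slot k (t + 1) i A = 0) : A = 0 := by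
  ext a b
  have h1 := congrFun (congrFun h (fun _ => a)) (Function.update (fun _ => a) i b)
  rw [Cfsg.Agent.Lib.Helper18.AschA89.slot_apply, if_pos] at h1
  · simpa using h1
  · intro j hj
    rw [Function.update_of_ne hj]

/-- entries of a Heisenberg matrix minus one -/
lemma star_etaA_sub_one_apply (y w : Fin k → F) (c : F) (a b : Fin k) :
    (etaA q y w c - 1) a b = w a * (y b) ^ q - y a * (w b) ^ q + c * (y a * (y b) ^ q) := by
  unfold etaA
  simp only [Matrix.sub_apply, Matrix.add_apply, Matrix.smul_apply, Matrix.vecMulVec_apply,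
    Cfsg.Agent.Lib.Helper20.UT.cj, smul_eq_mul]
  ring

/-- R4 (M-L) **(★)** -/
theorem star_of_QU (hF : Fintype.card F = q ^ 2) (hk : 2 ≤ k) (i : Fin (t + 1)) (y : Fin k → F) (hy0 : y ≠ 0)
    (hy : hv q y y = 0) (g' : GL (Idx (t + 1) k) F) (hstab : img g' (Wf i y) = Wf i y)
    (hQ : ∀ (w : Fin k → F) (c : F), hv q w y = 0 → c + c ^ q + hv q w w = 0 →
      ∃ M : Matrix (Fin k) (Fin k) F,
        (g' : Matrix (Idx (t + 1) k) (Idx (t + 1) k) F) * slot k (t + 1) i (etaA q y w c) =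
          slot k (t + 1) i M * (g' : Matrix (Idx (t + 1) k) (Idx (t + 1) k) F))
    (ξ : Fin k → F) (hξ : ξ ⬝ᵥ y = 0) :
    ∃ ξ'' : Fin k → F, ξ'' ⬝ᵥ y = 0 ∧
      (g' : Matrix (Idx (t + 1) k) (Idx (t + 1) k) F) * rootN i y ξ =
        rootN i y ξ'' * (g' : Matrix (Idx (t + 1) k) (Idx (t + 1) k) F) := by
  classical
  have hq0 : q ≠ 0 := Cfsg.Agent.Lib.Helper23.TWUT.q_ne_zero hF
  -- `ξ = v†`
  obtain ⟨v, hvdef⟩ : ∃ v : Fin k → F, v = fun x => (ξ x) ^ q := ⟨_, rfl⟩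
  have hdagv : ∀ b, (v b) ^ q = ξ b := by
    intro b
    rw [hvdef]
    exact Cfsg.Agent.Lib.Helper20.UT.pow_q_pow_q' hF _
  have hyv : hv q y v = 0 := by
    rw [Cfsg.Agent.Lib.Helper20.UT.hv_eq_dot]
    have : Cfsg.Agent.Lib.Helper20.UT.cj q v = ξ := funext hdagv
    rw [this]
    exact hξ
  have hvy : hv q v y = 0 := Cfsg.Agent.Lib.Helper20.UT.hv_symm_zero hF hyv
  obtain ⟨ζ, hζ⟩ := Cfsg.Agent.Lib.Helper12.C3uLeaf.exists_pow_ne hF
  have hζ' : ζ ^ q - ζ ≠ 0 := sub_ne_zero.2 hζ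
  obtain ⟨c₀, hc₀0, hc₀⟩ := Cfsg.Agent.Lib.Helper4.SUMLeaf.exists_skew hF
  obtain ⟨c, hc⟩ := star_exists_adm hF v
  obtain ⟨c', hc'⟩ := star_exists_adm hF (ζ • v)
  -- the three Heisenberg matrices
  obtain ⟨M1, hM1⟩ := hQ v c hvy hc
  obtain ⟨M2, hM2⟩ := hQ (ζ • v) c'
    (by rw [Cfsg.Agent.Lib.Helper20.UT.hv_smul_left, hvy, mul_zero]) hc'
  obtain ⟨M0, hM0⟩ := hQ 0 c₀ (Cfsg.Agent.Lib.Helper20.UT.hv_zero_left q y)
    (by rw [hc₀, Cfsg.Agent.Lib.Helper20.UT.hv_zero_left]; ring)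
  -- the combination
  have hcomb : Matrix.vecMulVec y ξ = (ζ ^ q - ζ)⁻¹ • (ζ • (etaA q y v c - 1) - (etaA q y (ζ • v) c' - 1) -
      ((ζ * c - c') * c₀⁻¹) • (etaA q y 0 c₀ - 1)) := by
    ext a b
    rw [Matrix.smul_apply, Matrix.sub_apply, Matrix.sub_apply, Matrix.smul_apply, Matrix.smul_apply,
      star_etaA_sub_one_apply, star_etaA_sub_one_apply, star_etaA_sub_one_apply, Matrix.vecMulVec_apply,
      ← hdagv b]
    simp only [Pi.smul_apply, Pi.zero_apply, smul_eq_mul, zero_pow hq0, mul_pow]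
    field_simp
    ring
  -- intertwining is linear
  have hsm : ∀ (a : F) (A B : Matrix (Fin k) (Fin k) F),
      (g' : Matrix (Idx (t + 1) k) (Idx (t + 1) k) F) * slot k (t + 1) i A =
        slot k (t + 1) i B * (g' : Matrix (Idx (t + 1) k) (Idx (t + 1) k) F) →
      (g' : Matrix (Idx (t + 1) k) (Idx (t + 1) k) F) * slot k (t + 1) i (a • A) =
        slot k (t + 1) i (a • B) * (g' : Matrix (Idx (t + 1) k) (Idx (t + 1) k) F) := by
    intro a A B h
    rw [slot_smul, slot_smul, Matrix.mul_smul, Matrix.smul_mul, h]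
  have hsub : ∀ (A B A' B' : Matrix (Fin k) (Fin k) F),
      (g' : Matrix (Idx (t + 1) k) (Idx (t + 1) k) F) * slot k (t + 1) i A =
        slot k (t + 1) i B * (g' : Matrix (Idx (t + 1) k) (Idx (t + 1) k) F) →
      (g' : Matrix (Idx (t + 1) k) (Idx (t + 1) k) F) * slot k (t + 1) i A' =
        slot k (t + 1) i B' * (g' : Matrix (Idx (t + 1) k) (Idx (t + 1) k) F) →
      (g' : Matrix (Idx (t + 1) k) (Idx (t + 1) k) F) * slot k (t + 1) i (A - A') =
        slot k (t + 1) i (B - B') * (g' : Matrix (Idx (t + 1) k) (Idx (t + 1) k) F) := by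
    intro A B A' B' h h'
    rw [Cfsg.Agent.Lib.Helper6.TWQ.slot_sub, Cfsg.Agent.Lib.Helper6.TWQ.slot_sub, mul_sub, sub_mul, h, h']
  have hone : (g' : Matrix (Idx (t + 1) k) (Idx (t + 1) k) F) * slot k (t + 1) i (1 : Matrix (Fin k) (Fin k) F) =
      slot k (t + 1) i 1 * (g' : Matrix (Idx (t + 1) k) (Idx (t + 1) k) F) := by
    rw [slot_one, mul_one, one_mul]
  obtain ⟨M, hMdef⟩ : ∃ M : Matrix (Fin k) (Fin k) F, M = (ζ ^ q - ζ)⁻¹ • (ζ • (M1 - 1) - (M2 - 1) -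
      ((ζ * c - c') * c₀⁻¹) • (M0 - 1)) := ⟨_, rfl⟩
  have hint : (g' : Matrix (Idx (t + 1) k) (Idx (t + 1) k) F) * rootN i y ξ =
      slot k (t + 1) i M * (g' : Matrix (Idx (t + 1) k) (Idx (t + 1) k) F) := by
    unfold rootN
    rw [hcomb, hMdef]
    exact hsm _ _ _ (hsub _ _ _ _ (hsub _ _ _ _ (hsm ζ _ _ (hsub _ _ _ _ hM1 hone)) (hsub _ _ _ _ hM2 hone))
      (hsm _ _ _ (hsub _ _ _ _ hM0 hone)))
  -- `slot i M = g' N g'⁻¹`
  have hinvmul : (g' : Matrix (Idx (t + 1) k) (Idx (t + 1) k) F) *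
      ((g'⁻¹ : GL (Idx (t + 1) k) F) : Matrix (Idx (t + 1) k) (Idx (t + 1) k) F) = 1 := by
    rw [← Units.val_mul, mul_inv_cancel, Units.val_one]
  have hSM : slot k (t + 1) i M = (g' : Matrix (Idx (t + 1) k) (Idx (t + 1) k) F) * rootN i y ξ *
      ((g'⁻¹ : GL (Idx (t + 1) k) F) : Matrix (Idx (t + 1) k) (Idx (t + 1) k) F) := by
    rw [hint, mul_assoc, hinvmul, mul_one]
  -- the range of `slot i M` lies in `W`
  have hR := Cfsg.Agent.Lib.Helper12.TWIIBLeaf.InZ_rootU i y ξ hξ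
  have hNW : ∀ u, rootN i y ξ *ᵥ u ∈ Wf i y := by
    intro u
    have := hR.1 u
    unfold mv at this
    rwa [rootU_val, Matrix.add_mulVec, Matrix.one_mulVec, add_sub_cancel_left] at this
  have hrange : ∀ u, slot k (t + 1) i M *ᵥ u ∈ Wf i y := by
    intro u
    rw [hSM, ← Matrix.mulVec_mulVec, ← Matrix.mulVec_mulVec, ← hstab]
    exact Cfsg.Agent.Lib.Helper12.TWIIBLeaf.mv_mem_img g' _ _ (hNW _)
  -- hence every `M a` is a multiple of `y`
  have hMa : ∀ a : Fin k → F, ∃ s : F, M *ᵥ a = s • y := by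
    intro a
    obtain ⟨u₀⟩ : Nonempty (Idx t k) := ⟨fun _ => ⟨0, by omega⟩⟩
    have h1 := hrange (tens i (Pi.single u₀ 1) a)
    rw [Cfsg.Agent.Lib.Helper22.TWLeaf.slot_mulVec_tens,
      Cfsg.Agent.Lib.Helper22.TWLeaf.mem_Wf_iff_tens i y hy0] at h1
    obtain ⟨b', hb'⟩ := h1
    refine ⟨b' u₀, ?_⟩
    funext x
    have h2 := congrFun hb' (ins i x u₀)
    simp only [tens, ins_same, Cfsg.Agent.Lib.Helper22.TWLeaf.ins_comp, Pi.single_eq_same, one_mul] at h2
    rw [h2]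
    rfl
  choose s hs using fun b : Fin k => hMa (Pi.single b 1)
  have hMvv : M = Matrix.vecMulVec y s := by
    ext x b
    have h1 := congrFun (hs b) x
    rw [Matrix.mulVec_single_one] at h1
    rw [Matrix.vecMulVec_apply, mul_comm]
    exact h1
  refine ⟨s, ?_, ?_⟩
  · -- `(slot i M)² = 0`
    have hNN : rootN i y ξ * rootN i y ξ = 0 := rootN_mul_self i y ξ hξ
    have h1 : slot k (t + 1) i M * slot k (t + 1) i M = 0 := by
      rw [hSM]
      have e : ∀ A B C : Matrix (Idx (t + 1) k) (Idx (t + 1) k) F, A * B * C * (A * B * C) = A * (B * (C * A) * B) * C := by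
        intro A B C
        noncomm_ring
      rw [e]
      have hmulinv : ((g'⁻¹ : GL (Idx (t + 1) k) F) : Matrix (Idx (t + 1) k) (Idx (t + 1) k) F) *
          (g' : Matrix (Idx (t + 1) k) (Idx (t + 1) k) F) = 1 := by
        rw [← Units.val_mul, inv_mul_cancel, Units.val_one]
      rw [hmulinv, mul_one, hNN, mul_zero, zero_mul]
    rw [slot_mul] at h1
    have h2 := star_slot_eq_zero i h1
    rw [hMvv, Matrix.vecMulVec_mul_vecMulVec, Matrix.vecMulVec_smul] at h2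
    by_contra hne
    have h3 : Matrix.vecMulVec y s = 0 := by
      rcases smul_eq_zero.1 h2 with h | h
      · exact absurd h hne
      · exact h
    apply hne
    have hs0 : s = 0 := by
      obtain ⟨x₀, hx₀⟩ : ∃ x₀, y x₀ ≠ 0 := by
        by_contra hcon
        push Not at hcon
        exact hy0 (funext hcon)
      funext b
      have h4 := congrFun (congrFun h3 x₀) b
      rw [Matrix.vecMulVec_apply] at h4
      exact (mul_eq_zero.1 h4).resolve_left hx₀
    rw [hs0, zero_dotProduct]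
  · rw [hint, hMvv]
    rfl

end Cfsg.Agent.Lib.Helper12.TWUIILeaf
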