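import Cfsg.Agent.Lib.Helper7.ThetaDefs

/-!
# S1632 leaf A2 (planner helper7): norms of the theta terms and uniform Gaussian summability
-/

set_option autoImplicit false

noncomputable section

namespace Cfsg.Agent.Lib.Helper12.ThetaA2

open Complex Cfsg.Agent.Lib.Helper7.Theta
open scoped Real

/-- LEAF A2a: norm of a theta term. -/
theorem norm_thetaTerm {n : ℕ} (d : GData n) (z : Fin n → ℝ) (τ : ℂ) (x : Fin n → ℤ) :
    ‖thetaTerm d z τ x‖ = Real.exp (-(π * τ.im) * d.Q (fun i => (x i : ℝ))) := by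
  unfold thetaTerm
  rw [Complex.norm_exp]
  congr 1
  simp only [Complex.add_re, Complex.mul_re, Complex.mul_im, Complex.ofReal_re, Complex.ofReal_im,
    Complex.I_re, Complex.I_im, Complex.re_ofNat, Complex.im_ofNat]
  ring

/-- LEAF A2b: norm of a dual term. -/
theorem norm_dualTerm {n : ℕ} (d : GData n) (z : Fin n → ℝ) (τ : ℂ) (y : Fin n → ℤ) :
    ‖dualTerm d z τ y‖ =
      Real.exp (-(π * (τ.im / Complex.normSq τ)) * d.Qd (fun i => (y i : ℝ) - z i)) := by
  unfold dualTerm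
  rw [Complex.norm_exp]
  congr 1
  simp only [Complex.div_re, Complex.mul_re, Complex.mul_im, Complex.neg_re, Complex.neg_im,
    Complex.ofReal_re, Complex.ofReal_im, Complex.I_re, Complex.I_im]
  ring

/-- A nonnegative family on a product whose inner sums are dominated by a summable family. -/
theorem summable_prod_bound {α β : Type*} (f : α × β → ℝ) (hf : 0 ≤ f) (g : α → ℝ)
    (hg : Summable g)
    (h : ∀ a, Summable (fun b => f (a, b)) ∧ ∑' b, f (a, b) ≤ g a) :
    Summable f ∧ ∑' p, f p ≤ ∑' a, g a := by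
  have hs : Summable f := by
    refine (summable_prod_of_nonneg hf).2 ⟨fun a => (h a).1, ?_⟩
    exact Summable.of_nonneg_of_le (fun a => tsum_nonneg fun b => hf (a, b))
      (fun a => (h a).2) hg
  refine ⟨hs, ?_⟩
  rw [hs.tsum_prod]
  exact Summable.tsum_le_tsum (fun a => (h a).2) hs.prod hg

/-- the summable majorant of the one-dimensional Gaussian family with shift in `[0,1]` -/
theorem gauss_majorant (a : ℝ) (ha : 0 < a) :
    Summable (fun k : ℤ => Real.exp (-(a * (k : ℝ) ^ 2 - 2 * a * |(k : ℝ)|))) := by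
  have hT : 0 < a / π := div_pos ha Real.pi_pos
  have h := summable_pow_mul_jacobiTheta₂_term_bound (a / π) hT 0
  refine h.congr fun k => ?_
  simp only [pow_zero, one_mul, Int.cast_abs]
  congr 1
  have hπ : (π : ℝ) ≠ 0 := Real.pi_ne_zero
  field_simp

/-- One-dimensional Gaussian sums over a shifted `ℤ` are summable with a bound uniform in the
shift. -/
theorem gauss_one_dim (a : ℝ) (ha : 0 < a) :
    ∃ M : ℝ, ∀ σ : ℝ, Summable (fun k : ℤ => Real.exp (-a * ((k : ℝ) + σ) ^ 2)) ∧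
      ∑' k : ℤ, Real.exp (-a * ((k : ℝ) + σ) ^ 2) ≤ M := by
  have hg := gauss_majorant a ha
  refine ⟨∑' k : ℤ, Real.exp (-(a * (k : ℝ) ^ 2 - 2 * a * |(k : ℝ)|)), fun σ => ?_⟩
  -- the case of a shift in `[0,1]`
  have key : ∀ σ' : ℝ, 0 ≤ σ' → σ' ≤ 1 → ∀ k : ℤ,
      Real.exp (-a * ((k : ℝ) + σ') ^ 2) ≤
        Real.exp (-(a * (k : ℝ) ^ 2 - 2 * a * |(k : ℝ)|)) := by
    intro σ' h0 h1 k
    apply Real.exp_le_exp.2
    have h2 : -|(k : ℝ)| ≤ (k : ℝ) * σ' := by
      have := abs_mul_abs_self (k : ℝ)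
      have h3 : |(k : ℝ) * σ'| ≤ |(k : ℝ)| := by
        rw [abs_mul, abs_of_nonneg h0]
        exact mul_le_of_le_one_right (abs_nonneg _) h1
      have := neg_abs_le ((k : ℝ) * σ')
      linarith
    nlinarith [sq_nonneg σ']
  have hσ0 : 0 ≤ σ - (⌊σ⌋ : ℝ) := by have := Int.floor_le σ; linarith
  have hσ1 : σ - (⌊σ⌋ : ℝ) ≤ 1 := by have := Int.lt_floor_add_one σ; linarith
  have hs' : Summable (fun k : ℤ => Real.exp (-a * ((k : ℝ) + (σ - (⌊σ⌋ : ℝ))) ^ 2)) :=
    Summable.of_nonneg_of_le (fun k => (Real.exp_pos _).le) (key _ hσ0 hσ1) hg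
  have heq : (fun k : ℤ => Real.exp (-a * ((k : ℝ) + σ) ^ 2)) =
      (fun k : ℤ => Real.exp (-a * ((k : ℝ) + (σ - (⌊σ⌋ : ℝ))) ^ 2)) ∘ (Equiv.addRight ⌊σ⌋) := by
    funext k
    simp only [Function.comp_apply, Equiv.coe_addRight, Int.cast_add]
    congr 2
    ring
  constructor
  · rw [heq]
    exact (Equiv.summable_iff (Equiv.addRight ⌊σ⌋)).2 hs'
  · rw [heq]
    refine le_trans (le_of_eq ((Equiv.addRight ⌊σ⌋).tsum_eq
      (fun k : ℤ => Real.exp (-a * ((k : ℝ) + (σ - (⌊σ⌋ : ℝ))) ^ 2)))) ?_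
    exact Summable.tsum_le_tsum (key _ hσ0 hσ1) hs' hg

/-- LEAF A2c: Gaussian sums of `Q` over shifted `ℤ^n` are summable, uniformly in the shift. -/
theorem summable_exp_Q {n : ℕ} (d : GData n) (hd : d.Pos) (t : ℝ) (ht : 0 < t) :
    ∃ M : ℝ, ∀ s : Fin n → ℝ,
      Summable (fun x : Fin n → ℤ => Real.exp (-t * d.Q (fun i => (x i : ℝ) + s i))) ∧
      ∑' x : Fin n → ℤ, Real.exp (-t * d.Q (fun i => (x i : ℝ) + s i)) ≤ M := by
  induction d with
  | nil =>
    refine ⟨1, fun s => ⟨(hasSum_fintype _).summable, ?_⟩⟩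
    rw [tsum_fintype]
    simp
  | @cons n c u r ih =>
    obtain ⟨hc, hr⟩ := hd
    obtain ⟨M1, h1⟩ := gauss_one_dim (t * c) (mul_pos ht hc)
    obtain ⟨Mr, hMr⟩ := ih hr
    have hM1 : 0 ≤ M1 := le_trans (tsum_nonneg fun k => (Real.exp_pos _).le) (h1 0).2
    refine ⟨M1 * Mr, fun s => ?_⟩
    set e : (Fin n → ℤ) × ℤ ≃ (Fin (n + 1) → ℤ) :=
      (Equiv.prodComm _ _).trans (Fin.consEquiv (fun _ => ℤ)) with he
    set F : (Fin (n + 1) → ℤ) → ℝ :=
      fun x => Real.exp (-t * (GData.cons c u r).Q (fun i => (x i : ℝ) + s i)) with hF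
    set s' : Fin n → ℝ := fun j => s (Fin.succ j) with hs'
    have hFe : ∀ p : (Fin n → ℤ) × ℤ, F (e p) =
        Real.exp (-(t * c) * ((p.2 : ℝ) +
            (s 0 + ∑ j, u j * ((p.1 j : ℝ) + s' j))) ^ 2) *
          Real.exp (-t * r.Q (fun j => (p.1 j : ℝ) + s' j)) := by
      rintro ⟨x', k⟩
      simp only [hF, he, Equiv.trans_apply, Equiv.prodComm_apply, Prod.swap_prod_mk,
        Fin.consEquiv_apply, GData.Q_cons, Fin.cons_zero, Fin.cons_succ, hs']
      rw [← Real.exp_add]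
      congr 1
      ring
    have hgs := (hMr s').1
    have hres := summable_prod_bound (fun p => F (e p))
      (fun p => (Real.exp_pos _).le)
      (fun x' => M1 * Real.exp (-t * r.Q (fun j => (x' j : ℝ) + s' j)))
      (hgs.mul_left M1)
      (fun x' => by
        have h1' := h1 (s 0 + ∑ j, u j * ((x' j : ℝ) + s' j))
        simp only [hFe]
        constructor
        · exact h1'.1.mul_right _
        · rw [tsum_mul_right]
          exact mul_le_mul_of_nonneg_right h1'.2 (Real.exp_pos _).le)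
    constructor
    · exact (Equiv.summable_iff e).1 hres.1
    · rw [← e.tsum_eq F]
      refine le_trans hres.2 ?_
      rw [tsum_mul_left]
      exact mul_le_mul_of_nonneg_left (hMr s').2 hM1

/-- LEAF A2d: the same for the dual form. -/
theorem summable_exp_Qd {n : ℕ} (d : GData n) (hd : d.Pos) (t : ℝ) (ht : 0 < t) :
    ∃ M : ℝ, ∀ s : Fin n → ℝ,
      Summable (fun x : Fin n → ℤ => Real.exp (-t * d.Qd (fun i => (x i : ℝ) + s i))) ∧
      ∑' x : Fin n → ℤ, Real.exp (-t * d.Qd (fun i => (x i : ℝ) + s i)) ≤ M := by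
  induction d with
  | nil =>
    refine ⟨1, fun s => ⟨(hasSum_fintype _).summable, ?_⟩⟩
    rw [tsum_fintype]
    simp
  | @cons n c u r ih =>
    obtain ⟨hc, hr⟩ := hd
    obtain ⟨M1, h1⟩ := gauss_one_dim (t / c) (div_pos ht hc)
    obtain ⟨Mr, hMr⟩ := ih hr
    have hMr0 : 0 ≤ Mr :=
      le_trans (tsum_nonneg fun k => (Real.exp_pos _).le) (hMr 0).2
    refine ⟨M1 * Mr, fun s => ?_⟩
    set e : ℤ × (Fin n → ℤ) ≃ (Fin (n + 1) → ℤ) := Fin.consEquiv (fun _ => ℤ) with he
    set F : (Fin (n + 1) → ℤ) → ℝ :=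
      fun x => Real.exp (-t * (GData.cons c u r).Qd (fun i => (x i : ℝ) + s i)) with hF
    have hFe : ∀ p : ℤ × (Fin n → ℤ), F (e p) =
        Real.exp (-(t / c) * ((p.1 : ℝ) + s 0) ^ 2) *
          Real.exp (-t * r.Qd (fun j => (p.2 j : ℝ) +
            (s (Fin.succ j) - ((p.1 : ℝ) + s 0) * u j))) := by
      rintro ⟨k, x'⟩
      simp only [hF, he, Fin.consEquiv_apply, GData.Qd_cons, Fin.cons_zero, Fin.cons_succ]
      rw [← Real.exp_add]
      congr 1
      have : (fun j => (x' j : ℝ) + s (Fin.succ j) - ((k : ℝ) + s 0) * u j) =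
          (fun j => (x' j : ℝ) + (s (Fin.succ j) - ((k : ℝ) + s 0) * u j)) := by
        funext j; ring
      rw [this]
      ring
    have hgs := (h1 (s 0)).1
    have hres := summable_prod_bound (fun p => F (e p))
      (fun p => (Real.exp_pos _).le)
      (fun k => Real.exp (-(t / c) * ((k : ℝ) + s 0) ^ 2) * Mr)
      (hgs.mul_right Mr)
      (fun k => by
        have hr' := hMr (fun j => s (Fin.succ j) - ((k : ℝ) + s 0) * u j)
        simp only [hFe]
        constructor
        · exact hr'.1.mul_left _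
        · rw [tsum_mul_left]
          exact mul_le_mul_of_nonneg_left hr'.2 (Real.exp_pos _).le)
    constructor
    · exact (Equiv.summable_iff e).1 hres.1
    · rw [← e.tsum_eq F]
      refine le_trans hres.2 ?_
      rw [tsum_mul_right]
      exact mul_le_mul_of_nonneg_right (h1 (s 0)).2 hMr0

end Cfsg.Agent.Lib.Helper12.ThetaA2

end
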