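import Mathlib
import Cfsg.Agent.Lib.Helper18.PSUModX
import Cfsg.Agent.Lib.Helper18.PSUModZ
import Cfsg.Agent.Lib.Helper13.DkWrap

/-!
helper12: S2148 (market "U3"): notation for the Witt model `SU_3(q) = SUm (frobHom hF) 1` of helper18
(`Cfsg.Agent.Lib.Helper18.PSUMod`).  Only definitions here.

* `GG hF`   : the group `SU_3(q)` (isometries of determinant one of `V F 1 = F × (Fin 1 → F) × F` with the form
              `hV : (a,w,b),(a',w',b') ↦ a b'^q + b a'^q + w w'^q`); `ve = (1,0,0)`, `vf = (0,0,1)`, `w0 = vw 1 = (0,1,0)`.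
* `PP hF`   : stabiliser of the isotropic point `⟨ve⟩` (Borel subgroup), `= QQ ⋊ LL`.
* `QQ hF`   : its unipotent radical, order `q^3`; `TT hF = Z(QQ)`, the root group of `ve`, order `q`.
* `LL hF`   : stabiliser of `⟨ve⟩` and `⟨vf⟩` (cyclic of order `q^2 - 1`).
* `GLn hF`  : stabiliser of the nonisotropic point `⟨w0⟩` (`= GU_2(q)`), i.e. of the hyperbolic line `l = ⟨ve, vf⟩`.
* `SLn hF`  : the elements fixing `w0` (`= SU(l) = SL_2(q)`).
* `YY hF`   : the elements acting as a scalar on `l` (cyclic of order `q+1`, `≤ LL`).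
* `Lam hF`  : the `q+1` isotropic points of `l`, as a subset of `GG hF ⧸ PP hF`; `TLine hF` : their root groups.
* `Trans hF H` : `G = H * PP` (i.e. `H` is transitive on the isotropic points).
-/

set_option autoImplicit false

namespace Cfsg.Agent.Lib.Helper12.U3

open Cfsg.Agent.Lib.Helper18.PSUMod Cfsg.Agent.Lib.Helper5.HermBridge

noncomputable section

variable {F : Type*} [Field F] [Fintype F] {q : ℕ} (hF : Fintype.card F = q ^ 2)

/-- the model of `SU_3(q)` -/
abbrev GG : Type _ := ↥(SUm (frobHom hF) 1)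

/-- the Borel subgroup: stabiliser of `⟨ve⟩` -/
abbrev PP : Subgroup (GG hF) := Pe (frobHom hF) 1

/-- the unipotent radical of `PP` -/
abbrev QQ : Subgroup (GG hF) := Qe (barOK_frob hF).invol 1

/-- the root group of `ve` (the centre of `QQ`) -/
abbrev TT : Subgroup (GG hF) := Te (barOK_frob hF).invol 1

/-- the torus: stabiliser of `⟨ve⟩` and `⟨vf⟩` -/
abbrev LL : Subgroup (GG hF) := Le (frobHom hF) 1

/-- the middle basis vector `(0,1,0)` -/
abbrev w0 : V F 1 := vw 1

/-- stabiliser of the nonisotropic point `⟨w0⟩` -/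
def GLn : Subgroup (GG hF) where
  carrier := {g | ∃ b : F, av g w0 = b • w0}
  mul_mem' := by
    rintro g g' ⟨b, hb⟩ ⟨b', hb'⟩
    exact ⟨b' * b, by rw [av_mul, hb', av_smul, hb, smul_smul]⟩
  one_mem' := ⟨1, by rw [av_one, one_smul]⟩
  inv_mem' := by
    rintro g ⟨b, hb⟩
    have hb0 : b ≠ 0 := by
      rintro rfl
      rw [zero_smul] at hb
      have := av_eq_zero.1 hb
      simp [w0, vw, Prod.ext_iff] at this
    refine ⟨b⁻¹, ?_⟩
    apply av_injective g
    rw [av_av_inv, av_smul, hb, smul_smul, inv_mul_cancel₀ hb0, one_smul]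

/-- the elements fixing `w0`: `SU` of the line `⟨ve, vf⟩` -/
def SLn : Subgroup (GG hF) where
  carrier := {g | av g w0 = w0}
  mul_mem' := by
    intro g g' hg hg'
    show av (g * g') w0 = w0
    rw [av_mul, hg', hg]
  one_mem' := av_one _
  inv_mem' := by
    intro g hg
    show av g⁻¹ w0 = w0
    apply av_injective g
    rw [av_av_inv, hg]

/-- the elements acting as a scalar on the line `⟨ve, vf⟩` -/
def YY : Subgroup (GG hF) where
  carrier := {g | ∃ a : F, av g ve = a • ve ∧ av g vf = a • vf}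
  mul_mem' := by
    rintro g g' ⟨a, h1, h2⟩ ⟨a', h1', h2'⟩
    exact ⟨a' * a, by rw [av_mul, h1', av_smul, h1, smul_smul],
      by rw [av_mul, h2', av_smul, h2, smul_smul]⟩
  one_mem' := ⟨1, by rw [av_one, one_smul], by rw [av_one, one_smul]⟩
  inv_mem' := by
    rintro g ⟨a, h1, h2⟩
    have ha0 : a ≠ 0 := by
      rintro rfl
      rw [zero_smul] at h1
      have := av_eq_zero.1 h1
      simp [ve, Prod.ext_iff] at this
    refine ⟨a⁻¹, ?_, ?_⟩
    · apply av_injective g
      rw [av_av_inv, av_smul, h1, smul_smul, inv_mul_cancel₀ ha0, one_smul]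
    · apply av_injective g
      rw [av_av_inv, av_smul, h2, smul_smul, inv_mul_cancel₀ ha0, one_smul]


/-- the isotropic points of the line `⟨ve, vf⟩`, as cosets of `PP` (the `SLn`-orbit of the base point) -/
def Lam : Set (GG hF ⧸ PP hF) := {x | ∃ s ∈ SLn hF, x = ((s : GG hF) : GG hF ⧸ PP hF)}

/-- the root groups of the isotropic points of the line `⟨ve, vf⟩` -/
def TLine : Set (Subgroup (GG hF)) :=
  {T | ∃ u : V F 1, u ≠ 0 ∧ hV (frobHom hF) u u = 0 ∧ hV (frobHom hF) u w0 = 0 ∧
    T = TV (frobHom hF) u}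

/-- `G = H * PP`: `H` is transitive on the isotropic points -/
def Trans (H : Subgroup (GG hF)) : Prop := ∀ g : GG hF, ∃ h ∈ H, ∃ b ∈ PP hF, g = h * b

/-- conjugate subgroup `y H y⁻¹` -/
def cj {G : Type*} [Group G] (y : G) (H : Subgroup G) : Subgroup G :=
  H.map (MulAut.conj y).toMonoidHom

theorem mem_cj {G : Type*} [Group G] {y : G} {H : Subgroup G} {g : G} :
    g ∈ cj y H ↔ y⁻¹ * g * y ∈ H := by
  unfold cj
  rw [Subgroup.mem_map]
  constructor
  · rintro ⟨h, hh, rfl⟩
    simp only [MulEquiv.coe_toMonoidHom, MulAut.conj_apply]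
    have : y⁻¹ * (y * h * y⁻¹) * y = h := by group
    rwa [this]
  · intro h
    refine ⟨_, h, ?_⟩
    simp only [MulEquiv.coe_toMonoidHom, MulAut.conj_apply]
    group

end

end Cfsg.Agent.Lib.Helper12.U3
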