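import Mathlib
import Cfsg.Agent.Lib.Helper12.U3Defs
import Cfsg.Agent.Lib.Helper20.U3CAHOM
import Cfsg.Agent.Lib.Helper8.U3SWAP

/-!
helper12: S2148 market "U3", leaf BALPHA (`borel_alpha`): a subgroup `K ≤ PP` with `K ⊓ QQ = ⊥` and
`q^2 - 1 ≤ |K|` is conjugate to the torus `LL` under `QQ`.  Also the explicit action of `LL` on `V F 1`
and on the Heisenberg pairs (`av_of_mem_LL`, `actL_of_mem_LL`), and the fixed-point-free trick
(`exists_conj_mem_LL`).
-/

set_option autoImplicit false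
set_option linter.unusedSectionVars false

namespace Cfsg.Agent.Lib.Helper12.U3LeafX

open Cfsg.Agent.Lib.Helper18.PSUMod Cfsg.Agent.Lib.Helper5.HermBridge Cfsg.Agent.Lib.Helper12.U3
open Cfsg.Agent.Lib.Helper20.U3Leaf (caHom caHom_val caHom_surjective caHom_ker caHom_inj_LL card_LL)

noncomputable section

variable {F : Type*} [Field F] [Fintype F] {q : ℕ} (hF : Fintype.card F = q ^ 2)

/-- elements of `LL` are determined by `ca` -/
theorem eq_of_ca_eq {l l' : GG hF} (hl : l ∈ LL hF) (hl' : l' ∈ LL hF) (h : ca l = ca l') :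
    l = l' := by
  have hm : l * l'⁻¹ ∈ LL hF := (LL hF).mul_mem hl ((LL hF).inv_mem hl')
  have hP : l * l'⁻¹ ∈ PP hF := inf_le_left (a := PP hF) hm
  have h1 : caHom hF ⟨l * l'⁻¹, hP⟩ = 1 := by
    have e : (⟨l * l'⁻¹, hP⟩ : ↥(PP hF)) =
        ⟨l, inf_le_left (a := PP hF) hl⟩ * (⟨l', inf_le_left (a := PP hF) hl'⟩ : ↥(PP hF))⁻¹ := rfl
    rw [e, map_mul, map_inv]
    have e2 : caHom hF ⟨l, inf_le_left (a := PP hF) hl⟩ =
        caHom hF ⟨l', inf_le_left (a := PP hF) hl'⟩ := by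
      apply Units.ext
      rw [caHom_val, caHom_val]
      exact h
    rw [e2, mul_inv_cancel]
  have h2 := caHom_inj_LL hF ⟨l * l'⁻¹, hP⟩ hm h1
  have h3 : l * l'⁻¹ = 1 := congrArg Subtype.val h2
  exact mul_inv_eq_one.1 h3

/-- the full action of an element of `LL` -/
theorem av_of_mem_LL {l : GG hF} (hl : l ∈ LL hF) (x : V F 1) :
    av l x = (ca l * x.1, fun i => (frobHom hF (ca l) / ca l) * x.2.1 i,
      (frobHom hF (ca l))⁻¹ * x.2.2) := by
  obtain ⟨l', hl', hav⟩ := Cfsg.Agent.Lib.Helper8.U3Leaf.exists_diagL hF (ca_ne_zero hl.1)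
  have hca : ca l' = ca l := by
    rw [ca, hav]
    simp [ve]
  have e := eq_of_ca_eq hF hl hl' hca.symm
  subst e
  exact hav x

theorem cb_of_mem_LL {l : GG hF} (hl : l ∈ LL hF) : cb l = (frobHom hF (ca l))⁻¹ := by
  rw [cb, av_of_mem_LL hF hl]
  simp [vf]

theorem Bof_of_mem_LL {l : GG hF} (hl : l ∈ LL hF) (w : Fin 1 → F) :
    Bof (l : V F 1 ≃ₗ[F] V F 1) w = fun i => (frobHom hF (ca l) / ca l) * w i := by
  rw [Bof_apply]
  have := av_of_mem_LL hF hl (vw w)
  have h2 : (l : V F 1 ≃ₗ[F] V F 1) (vw w) = av l (vw w) := rfl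
  rw [h2, this]
  rfl

/-- the action of `LL` on the Heisenberg pairs: `(w, c) ↦ (λ^(2q-1) w, λ^(q+1) c)` -/
theorem actL_of_mem_LL {l : GG hF} (hl : l ∈ LL hF) (z : HP (frobHom hF) 1) :
    actL l z = ⟨fun i => ca l ^ (2 * q - 1) * z.w i, ca l ^ (q + 1) * z.c⟩ := by
  have ha : ca l ≠ 0 := ca_ne_zero hl.1
  have hba : frobHom hF (ca l) ≠ 0 := fun h => ha ((map_eq_zero _).1 h)
  have hfr : frobHom hF (ca l) = ca l ^ q := rfl
  have hq1 : 1 ≤ q := by
    rcases Nat.eq_zero_or_pos q with h | h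
    · subst h
      have : Fintype.card F = 0 := by rw [hF]; norm_num
      exact absurd this Fintype.card_ne_zero
    · exact h
  unfold actL
  rw [cb_of_mem_LL hF hl, Bof_of_mem_LL hF hl]
  congr 1
  · funext i
    simp only [Pi.smul_apply, smul_eq_mul, inv_inv]
    rw [hfr]
    have e : 2 * q - 1 + 1 = q + q := by omega
    have : ca l ^ (2 * q - 1) * ca l = ca l ^ q * ca l ^ q := by
      rw [← pow_succ, e, pow_add]
    calc ca l ^ q * (ca l ^ q / ca l * z.w i) = (ca l ^ q * ca l ^ q) / ca l * z.w i := by ring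
      _ = ca l ^ (2 * q - 1) * z.w i := by
        rw [← this, mul_div_assoc, div_self ha, mul_one]
  · rw [inv_inv, hfr, pow_succ]
    ring

/-- regular elements of `LL` act without fixed points on the pairs -/
theorem eq_one_of_actL_eq {l : GG hF} (hl : l ∈ LL hF) (h1 : ca l ^ (q + 1) ≠ 1)
    (h2 : ca l ^ (2 * q - 1) ≠ 1) (z : HP (frobHom hF) 1) (hz : actL l z = z) : z = 1 := by
  rw [actL_of_mem_LL hF hl] at hz
  have hw : ∀ i, z.w i = 0 := by
    intro i
    have := congrFun (congrArg HP.w hz) i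
    simp only at this
    have h3 : (ca l ^ (2 * q - 1) - 1) * z.w i = 0 := by linear_combination this
    rcases mul_eq_zero.1 h3 with h | h
    · exact absurd (sub_eq_zero.1 h) h2
    · exact h
  have hc : z.c = 0 := by
    have := congrArg HP.c hz
    simp only at this
    have h3 : (ca l ^ (q + 1) - 1) * z.c = 0 := by linear_combination this
    rcases mul_eq_zero.1 h3 with h | h
    · exact absurd (sub_eq_zero.1 h) h1
    · exact h
  apply HP.ext
  · funext i
    rw [hw i]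
    rfl
  · rw [hc]
    rfl


/-- the automorphism of the Heisenberg group induced by `l ∈ LL` -/
def phiL {l : GG hF} (hl : l ∈ LL hF) (z : ↥(HS (frobHom hF) (barOK_frob hF).invol 1)) :
    ↥(HS (frobHom hF) (barOK_frob hF).invol 1) :=
  ⟨actL l z, actL_mem (barOK_frob hF).invol hl z.2⟩

theorem conj_EG {l : GG hF} (hl : l ∈ LL hF) (z : ↥(HS (frobHom hF) (barOK_frob hF).invol 1)) :
    l * EG (barOK_frob hF).invol z * l⁻¹ = EG (barOK_frob hF).invol (phiL hF hl z) :=
  Le_conj (barOK_frob hF).invol hl z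

theorem phiL_mul {l : GG hF} (hl : l ∈ LL hF)
    (z z' : ↥(HS (frobHom hF) (barOK_frob hF).invol 1)) :
    phiL hF hl (z * z') = phiL hF hl z * phiL hF hl z' := by
  apply EG_injective (barOK_frob hF).invol
  rw [← conj_EG, map_mul, map_mul, ← conj_EG, ← conj_EG]
  group

theorem phiL_one {l : GG hF} (hl : l ∈ LL hF) : phiL hF hl 1 = 1 := by
  apply EG_injective (barOK_frob hF).invol
  rw [← conj_EG, map_one]
  group

theorem phiL_inv {l : GG hF} (hl : l ∈ LL hF)
    (z : ↥(HS (frobHom hF) (barOK_frob hF).invol 1)) :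
    phiL hF hl z⁻¹ = (phiL hF hl z)⁻¹ := by
  apply eq_inv_of_mul_eq_one_left
  rw [← phiL_mul, inv_mul_cancel, phiL_one]

theorem phiL_fpf {l : GG hF} (hl : l ∈ LL hF) (h1 : ca l ^ (q + 1) ≠ 1)
    (h2 : ca l ^ (2 * q - 1) ≠ 1) (z : ↥(HS (frobHom hF) (barOK_frob hF).invol 1))
    (hz : phiL hF hl z = z) : z = 1 := by
  apply Subtype.ext
  apply eq_one_of_actL_eq hF hl h1 h2
  exact congrArg Subtype.val hz

instance finite_HS : Finite ↥(HS (frobHom hF) (barOK_frob hF).invol 1) :=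
  Finite.of_injective _ (EG_injective (barOK_frob hF).invol)

/-- the fixed-point-free trick: `EG x * l` is conjugate to `l` under `QQ` -/
theorem exists_conj_mem_LL {l : GG hF} (hl : l ∈ LL hF) (h1 : ca l ^ (q + 1) ≠ 1)
    (h2 : ca l ^ (2 * q - 1) ≠ 1) (x : ↥(HS (frobHom hF) (barOK_frob hF).invol 1)) :
    ∃ z : ↥(HS (frobHom hF) (barOK_frob hF).invol 1),
      EG (barOK_frob hF).invol z * (EG (barOK_frob hF).invol x * l) *
        (EG (barOK_frob hF).invol z)⁻¹ = l := by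
  have hinj : Function.Injective
      (fun z : ↥(HS (frobHom hF) (barOK_frob hF).invol 1) => z⁻¹ * phiL hF hl z) := by
    intro z z' h
    simp only at h
    have h3 : phiL hF hl (z' * z⁻¹) = z' * z⁻¹ := by
      rw [phiL_mul, phiL_inv]
      have : phiL hF hl z' = z' * (z⁻¹ * phiL hF hl z) := by rw [h]; group
      rw [this]
      group
    have h4 := phiL_fpf hF hl h1 h2 _ h3
    exact (mul_inv_eq_one.1 h4).symm
  obtain ⟨z, hz⟩ := (Finite.injective_iff_surjective.1 hinj) x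
  simp only at hz
  refine ⟨z, ?_⟩
  have e : EG (barOK_frob hF).invol z * (EG (barOK_frob hF).invol x * l) *
      (EG (barOK_frob hF).invol z)⁻¹ =
      EG (barOK_frob hF).invol z * EG (barOK_frob hF).invol x *
        (l * EG (barOK_frob hF).invol z⁻¹ * l⁻¹) * l := by
    rw [map_inv]
    group
  rw [e, conj_EG hF hl, ← map_mul, ← map_mul, phiL_inv, ← hz]
  have : z * (z⁻¹ * phiL hF hl z) * (phiL hF hl z)⁻¹ = 1 := by group
  rw [this, map_one, one_mul]

theorem ca_EG (x : ↥(HS (frobHom hF) (barOK_frob hF).invol 1)) :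
    ca (EG (barOK_frob hF).invol x) = 1 := by
  rw [ca, av_EG_ve]
  simp [ve]

theorem ca_mul_PP {g g' : GG hF} (hg : g ∈ PP hF) (hg' : g' ∈ PP hF) :
    ca (g * g') = ca g * ca g' := by
  have := map_mul (caHom hF) ⟨g, hg⟩ ⟨g', hg'⟩
  have h2 := congrArg (fun u : Fˣ => (u : F)) this
  simpa [caHom_val] using h2

/-- **BALPHA** -/
theorem borel_alpha (hq : 3 ≤ q) (K : Subgroup (GG hF)) (hK : K ≤ PP hF)
    (hD : K ⊓ QQ hF = ⊥) (hcard : q ^ 2 - 1 ≤ Nat.card K) :
    ∃ y ∈ QQ hF, cj y K = LL hF := by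
  classical
  have hB := barOK_frob hF
  -- `ca` is injective on `K`
  let ψ : ↥K →* Fˣ := (caHom hF).comp (Subgroup.inclusion hK)
  have hψ : Function.Injective ψ := by
    rw [injective_iff_map_eq_one]
    intro k hk
    have h1 : Subgroup.inclusion hK k ∈ (caHom hF).ker := hk
    rw [caHom_ker, Subgroup.mem_subgroupOf] at h1
    have h2 : (k : GG hF) ∈ K ⊓ QQ hF := ⟨k.2, h1⟩
    rw [hD, Subgroup.mem_bot] at h2
    exact Subtype.ext h2
  have hcardF : Nat.card Fˣ = q ^ 2 - 1 := by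
    rw [Nat.card_eq_fintype_card, Fintype.card_units, hF]
  have hle : Nat.card K ≤ q ^ 2 - 1 := by
    rw [← hcardF]
    exact Nat.card_le_card_of_injective ψ hψ
  have hKc : Nat.card K = q ^ 2 - 1 := le_antisymm hle hcard
  have hψs : Function.Surjective ψ := by
    have := (Nat.bijective_iff_injective_and_card ψ).2 ⟨hψ, by rw [hKc, hcardF]⟩
    exact this.2
  -- a regular element
  obtain ⟨a, ha0, -, ha1, ha2⟩ := Cfsg.Agent.Lib.Helper8.U3Leaf.exists_regular hF hq
  obtain ⟨k, hk⟩ := hψs (Units.mk0 a ha0)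
  have hkP : (k : GG hF) ∈ PP hF := hK k.2
  have hcak : ca (k : GG hF) = a := by
    have := congrArg (fun u : Fˣ => (u : F)) hk
    simpa [ψ, caHom_val] using this
  obtain ⟨x, l, hl, hkl⟩ := Pe_decomp hB.invol hkP
  have hcal : ca l = a := by
    rw [← hcak, hkl, ca_mul_PP hF (Qe_le_Pe hB.invol ⟨x, rfl⟩) hl.1, ca_EG, one_mul]
  have h1 : ca l ^ (q + 1) ≠ 1 := by rw [hcal]; exact ha1
  have h2 : ca l ^ (2 * q - 1) ≠ 1 := by rw [hcal]; exact ha2
  obtain ⟨z, hz⟩ := exists_conj_mem_LL hF hl h1 h2 x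
  refine ⟨EG hB.invol z, ⟨z, rfl⟩, ?_⟩
  -- `K` is abelian
  have hab : ∀ g ∈ K, ∀ g' ∈ K, g * g' = g' * g := by
    intro g hg g' hg'
    have : (⟨g, hg⟩ : ↥K) * ⟨g', hg'⟩ = ⟨g', hg'⟩ * ⟨g, hg⟩ := by
      apply hψ
      rw [map_mul, map_mul, mul_comm]
    exact congrArg Subtype.val this
  have hyP : EG hB.invol z ∈ PP hF := Qe_le_Pe hB.invol ⟨z, rfl⟩
  have hlK' : l ∈ cj (EG hB.invol z) K := by
    rw [mem_cj, ← hz]
    have : (EG hB.invol z)⁻¹ * (EG hB.invol z * (EG hB.invol x * l) * (EG hB.invol z)⁻¹) *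
        EG hB.invol z = EG hB.invol x * l := by group
    rw [this, ← hkl]
    exact k.2
  have hle' : cj (EG hB.invol z) K ≤ LL hF := by
    intro g' hg'
    have hg'K : (EG hB.invol z)⁻¹ * g' * EG hB.invol z ∈ K := mem_cj.1 hg'
    have hlK : (EG hB.invol z)⁻¹ * l * EG hB.invol z ∈ K := mem_cj.1 hlK'
    -- `g'` commutes with `l`
    have hcomm : g' * l = l * g' := by
      have := hab _ hg'K _ hlK
      have e1 : g' * l = EG hB.invol z * ((EG hB.invol z)⁻¹ * g' * EG hB.invol z *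
          ((EG hB.invol z)⁻¹ * l * EG hB.invol z)) * (EG hB.invol z)⁻¹ := by group
      have e2 : l * g' = EG hB.invol z * ((EG hB.invol z)⁻¹ * l * EG hB.invol z *
          ((EG hB.invol z)⁻¹ * g' * EG hB.invol z)) * (EG hB.invol z)⁻¹ := by group
      rw [e1, e2, this]
    have hg'P : g' ∈ PP hF := by
      have : g' = EG hB.invol z * ((EG hB.invol z)⁻¹ * g' * EG hB.invol z) *
          (EG hB.invol z)⁻¹ := by group
      rw [this]
      exact (PP hF).mul_mem ((PP hF).mul_mem hyP (hK hg'K)) ((PP hF).inv_mem hyP)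
    obtain ⟨x', l', hl', hg'l⟩ := Pe_decomp hB.invol hg'P
    have hll : l * l' = l' * l := by
      apply eq_of_ca_eq hF ((LL hF).mul_mem hl hl') ((LL hF).mul_mem hl' hl)
      rw [ca_mul_PP hF hl.1 hl'.1, ca_mul_PP hF hl'.1 hl.1, mul_comm]
    have h3 : EG hB.invol (phiL hF hl x') = EG hB.invol x' := by
      rw [← conj_EG hF hl]
      have e1 : l * EG hB.invol x' * l⁻¹ = (l * g') * (l'⁻¹ * l⁻¹) := by
        rw [hg'l]; group
      rw [e1, ← hcomm, hg'l]
      have : EG hB.invol x' * l' * l * (l'⁻¹ * l⁻¹) = EG hB.invol x' * ((l' * l) * (l'⁻¹ * l⁻¹)) := by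
        group
      rw [this, ← hll]
      group
    have h4 := phiL_fpf hF hl h1 h2 x' (EG_injective hB.invol h3)
    rw [hg'l, h4, map_one, one_mul]
    exact hl'
  apply Subgroup.eq_of_le_of_card_ge hle'
  rw [Cfsg.Agent.Lib.Helper12.U3.cj, Subgroup.card_map_of_injective (MulAut.conj _).injective, hKc,
    card_LL]

end

end Cfsg.Agent.Lib.Helper12.U3LeafX
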