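import Mathlib
import Cfsg.Agent.Lib.Helper12.U3Defs
import Cfsg.Agent.Lib.Helper12.U3BALPHA
import Cfsg.Agent.Lib.Helper13.U3CARDSL
import Cfsg.Agent.Lib.Helper13.U3LINEHOM
import Cfsg.Agent.Lib.Helper13.U3YY
import Cfsg.Agent.Lib.Helper14.U3JPROPS
import Cfsg.Agent.Lib.Helper14.U3WRAP
import Cfsg.Agent.Lib.Helper15.U3DICKLINE
import Cfsg.Agent.Lib.Helper15.U3FISHER
import Cfsg.Agent.Lib.Helper15.U3INVTR
import Cfsg.Agent.Lib.Helper17.U3BG2
import Cfsg.Agent.Lib.Helper17.U3KILL3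
import Cfsg.Agent.Lib.Helper17.U3KILL8
import Cfsg.Agent.Lib.Helper20.U3CAHOM
import Cfsg.Agent.Lib.Helper20.U3CARDQ
import Cfsg.Agent.Lib.Helper20.U3GEN
import Cfsg.Agent.Lib.Helper20.U3INFTV
import Cfsg.Agent.Lib.Helper20.U3POW
import Cfsg.Agent.Lib.Helper22.U3INVK
import Cfsg.Agent.Lib.Helper22.U3JMEM
import Cfsg.Agent.Lib.Helper22.U3PARITY
import Cfsg.Agent.Lib.Helper23.U3CENTER
import Cfsg.Agent.Lib.Helper23.U3FIXJ
import Cfsg.Agent.Lib.Helper23.U3LAM
import Cfsg.Agent.Lib.Helper23.U3TLINE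
import Cfsg.Agent.Lib.Helper27.U3KILL11
import Cfsg.Agent.Lib.Helper27.U3KILL9
import Cfsg.Agent.Lib.Helper4.U3BBETA
import Cfsg.Agent.Lib.Helper4.U3BRUHAT
import Cfsg.Agent.Lib.Helper4.U3IDXP
import Cfsg.Agent.Lib.Helper4.U3SEMIREG
import Cfsg.Agent.Lib.Helper5.U3CARDINF
import Cfsg.Agent.Lib.Helper5.U3GAMMA
import Cfsg.Agent.Lib.Helper6.U3CARDP
import Cfsg.Agent.Lib.Helper6.U3CARDTV
import Cfsg.Agent.Lib.Helper6.U3ELPAIR
import Cfsg.Agent.Lib.Helper6.U3INVFIX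
import Cfsg.Agent.Lib.Helper7.U3BG9
import Cfsg.Agent.Lib.Helper8.U3FIXLE
import Cfsg.Agent.Lib.Helper8.U3SING
import Cfsg.Agent.Lib.Helper8.U3SWAP

/-!
helper12: S2148 (market "U3"): the spine.  `S2148_final` = the frozen statement of S2148
(every proper subgroup of `PSU_3(q)`, `q ≥ 3`, `q ≠ 5`, has index `≥ q^3 + 1`, attained), assembled from the
leaves of the market (one `open ... (names)` line per contributing namespace).  Paper proof: notes/S2148_plan.md.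
-/

set_option autoImplicit false
set_option linter.unusedSectionVars false
set_option linter.unusedVariables false

namespace Cfsg.Agent.Lib.Helper12.U3Main

open Cfsg.Agent.Lib.Helper18.PSUMod Cfsg.Agent.Lib.Helper5.HermBridge Cfsg.Agent.Lib.Helper12.U3
open Cfsg.Agent.Lib.Helper13
open Cfsg.Agent.Lib.Helper12.U3LeafX (borel_alpha)
open Cfsg.Agent.Lib.Helper13.U3Leaf (concl_of_le_GLn card_SLn YY_comm card_YY YY_le_LL LL_le_GLn card_inf_YY)
open Cfsg.Agent.Lib.Helper14.U3Leaf (S2148_of_model j_props)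
open Cfsg.Agent.Lib.Helper15.U3Leaf (fisher card_centralizer_of_trans dickline_abs)
open Cfsg.Agent.Lib.Helper17.U3Leaf (kill3_abs kill8_abs borel_gamma2)
open Cfsg.Agent.Lib.Helper20.U3Leaf (exists_pow_eq card_QQ card_TT eq_top_of_TT_le card_inf_TV exists_caHom card_LL isCyclic_LL)
open Cfsg.Agent.Lib.Helper22.U3Leaf (exists_j_mem invol_conj inf_centralizer_j parity)
open Cfsg.Agent.Lib.Helper23.U3Leaf (card_center ncard_TLine TLine_le TLine_inf TLine_conj ncard_Lam Lam_smul YY_smul mem_YY_of_fix3 fix_j centralizer_j_le)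
open Cfsg.Agent.Lib.Helper27.U3Leaf (kill9_abs kill11_abs)
open Cfsg.Agent.Lib.Helper4.U3Leaf (QQ_semireg bruhat index_PP borel_beta)
open Cfsg.Agent.Lib.Helper5.U3Leaf (card_inf_mul_index gamma_abs)
open Cfsg.Agent.Lib.Helper6.U3Leaf (card_TV invol_fix card_PP elation_pair)
open Cfsg.Agent.Lib.Helper7.U3Leaf (borel_gamma9)
open Cfsg.Agent.Lib.Helper8.U3Leaf (swap card_fixed_le sing_centralizer sing_normalizer)

/-! ## spine -/

section conj

variable {G : Type*} [Group G]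

theorem card_cj (y : G) (H : Subgroup G) : Nat.card ↥(cj y H) = Nat.card H :=
  Subgroup.card_map_of_injective (MulAut.conj y).injective

theorem cj_inf (y : G) (H K : Subgroup G) : cj y (H ⊓ K) = cj y H ⊓ cj y K :=
  Subgroup.map_inf _ _ _ (MulAut.conj y).injective

theorem index_cj (y : G) (H : Subgroup G) : (cj y H).index = H.index := by
  unfold cj
  exact Subgroup.index_map_equiv H (MulAut.conj y)

theorem cj_eq_self (y : G) (K : Subgroup G) (hy : y ∈ Subgroup.normalizer (K : Set G)) :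
    cj y K = K := by
  ext g
  rw [mem_cj]
  have := (Subgroup.mem_normalizer_iff.1 (Subgroup.inv_mem _ hy)) g
  rw [inv_inv] at this
  exact this.symm

theorem cj_eq_self_of_mem (y : G) (K : Subgroup G) (hy : y ∈ K) : cj y K = K :=
  cj_eq_self y K (Subgroup.le_normalizer hy)

theorem center_le_cj (y : G) (H : Subgroup G) (hZ : Subgroup.center G ≤ H) :
    Subgroup.center G ≤ cj y H := by
  intro z hz
  rw [mem_cj]
  have h1 : y⁻¹ * z * y = z := by
    have := Subgroup.mem_center_iff.1 hz y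
    rw [mul_assoc, ← this, ← mul_assoc, inv_mul_cancel, one_mul]
  rw [h1]
  exact hZ hz

theorem cj_eq_top (y : G) (H : Subgroup G) (h : cj y H = ⊤) : H = ⊤ := by
  rw [eq_top_iff]
  intro g _
  have : y * g * y⁻¹ ∈ cj y H := by rw [h]; trivial
  rw [mem_cj] at this
  have e : y⁻¹ * (y * g * y⁻¹) * y = g := by group
  rwa [e] at this

end conj

section spine

variable {F : Type*} [Field F] [Fintype F] {q : ℕ} (hF : Fintype.card F = q ^ 2)

theorem QQ_le_PP : QQ hF ≤ PP hF := Qe_le_Pe _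

theorem TT_le_QQ : TT hF ≤ QQ hF := Te_le_Qe _

theorem TT_le_PP : TT hF ≤ PP hF := (TT_le_QQ hF).trans (QQ_le_PP hF)

theorem LL_le_PP : LL hF ≤ PP hF := inf_le_left

theorem SLn_le_GLn : SLn hF ≤ GLn hF := by
  intro g hg
  exact ⟨1, by rw [one_smul]; exact hg⟩

theorem inf_PP_inf (H K : Subgroup (GG hF)) (hK : K ≤ PP hF) : H ⊓ PP hF ⊓ K = H ⊓ K := by
  rw [inf_assoc, inf_eq_right.2 hK]

theorem trans_cj (H : Subgroup (GG hF)) (htr : Trans hF H) (y : GG hF) (hy : y ∈ PP hF) :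
    Trans hF (cj y H) := by
  intro g
  obtain ⟨h, hh, b, hb, hg⟩ := htr (y⁻¹ * g)
  refine ⟨y * h * y⁻¹, ?_, y * b, (PP hF).mul_mem hy hb, ?_⟩
  · rw [mem_cj]
    have : y⁻¹ * (y * h * y⁻¹) * y = h := by group
    rwa [this]
  · have : y * h * y⁻¹ * (y * b) = y * (h * b) := by group
    rw [this, ← hg]
    group

theorem trans_of_index (H : Subgroup (GG hF)) (hidx : H.index ≤ q ^ 3) : Trans hF H :=
  fisher (PP hF) H (fun g hg g' hg' => bruhat hF g g' hg hg') (by rw [index_PP]; omega)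

theorem card_K_mul_index (H : Subgroup (GG hF)) (htr : Trans hF H) :
    Nat.card ↥(H ⊓ PP hF) * H.index = q ^ 3 * (q ^ 2 - 1) := by
  rw [card_inf_mul_index (PP hF) H htr, card_PP]

theorem card_H_eq (H : Subgroup (GG hF)) (htr : Trans hF H) :
    Nat.card H = (q ^ 3 + 1) * Nat.card ↥(H ⊓ PP hF) := by
  have h1 := card_inf_mul_index (PP hF) H htr
  have h2 := Subgroup.card_mul_index H
  have h3 := Subgroup.card_mul_index (PP hF)
  rw [index_PP] at h3
  have hidx : 0 < H.index := Nat.pos_of_ne_zero Subgroup.index_ne_zero_of_finite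
  have : Nat.card H * H.index = (q ^ 3 + 1) * Nat.card ↥(H ⊓ PP hF) * H.index := by
    rw [h2, ← h3, ← h1]; ring
  exact Nat.eq_of_mul_eq_mul_right hidx this

theorem YY_normal_of_le (C : Subgroup (GG hF)) (hC : C ≤ GLn hF) :
    ((YY hF).subgroupOf C).Normal := by
  constructor
  intro y hy c
  rw [Subgroup.mem_subgroupOf] at hy ⊢
  have h1 := YY_comm hF (y : GG hF) hy (c : GG hF) (hC c.2)
  have : ((c * y * c⁻¹ : ↥C) : GG hF) = (y : GG hF) := by
    push_cast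
    rw [← h1, mul_inv_cancel_right]
  rw [this]
  exact hy

theorem card_subgroupOf_eq {G : Type*} [Group G] (A C : Subgroup G) :
    Nat.card ↥(A.subgroupOf C) = Nat.card ↥(C ⊓ A) := by
  rw [← Subgroup.inf_subgroupOf_right, inf_comm]
  exact Nat.card_congr (Subgroup.subgroupOfEquivOfLe (inf_le_left : C ⊓ A ≤ C)).toEquiv

theorem not_dvd_of_pow {p a : ℕ} (hp : p.Prime) (ha : 0 < a) (hqa : q = p ^ a) :
    ¬ p ∣ q + 1 ∧ ¬ p ∣ q ^ 2 - 1 := by
  have hpq : p ∣ q := by rw [hqa]; exact dvd_pow_self p (by omega)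
  have hq0 : 0 < q := by rw [hqa]; exact pow_pos hp.pos a
  constructor
  · intro h
    have := (Nat.dvd_add_right hpq).1 h
    exact hp.one_lt.ne' (Nat.dvd_one.1 this)
  · intro h
    have h2 : p ∣ q ^ 2 := dvd_pow hpq (by norm_num)
    have h3 : q ^ 2 = (q ^ 2 - 1) + 1 := by
      have : 0 < q ^ 2 := pow_pos hq0 2
      omega
    rw [h3] at h2
    have := (Nat.dvd_add_right h).1 h2
    exact hp.one_lt.ne' (Nat.dvd_one.1 this)

theorem phase2 {p : ℕ} [Fact p.Prime] [CharP F p] (hq : Odd q) (hq7 : 7 ≤ q)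
    (H : Subgroup (GG hF)) (htr : Trans hF H) (hE : H ⊓ TT hF = ⊥)
    (hcard : Nat.card ↥(H ⊓ PP hF) = Nat.card ↥(H ⊓ QQ hF) * Nat.card ↥(H ⊓ LL hF))
    (heven : Even (Nat.card ↥(H ⊓ LL hF))) :
    (q + 1) * Nat.card ↥(H ⊓ LL hF) ≤
      2 * (q + 1) * Nat.gcd (Nat.card ↥(H ⊓ LL hF)) (q + 1) ∨
    (q + 1) * Nat.card ↥(H ⊓ LL hF) = 12 * Nat.gcd (Nat.card ↥(H ⊓ LL hF)) (q + 1) ∨
    (q + 1) * Nat.card ↥(H ⊓ LL hF) = 24 * Nat.gcd (Nat.card ↥(H ⊓ LL hF)) (q + 1) ∨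
    (q + 1) * Nat.card ↥(H ⊓ LL hF) = 60 * Nat.gcd (Nat.card ↥(H ⊓ LL hF)) (q + 1) := by
  obtain ⟨a, ha0, hqa⟩ := exists_pow_eq hF (p := p)
  obtain ⟨j, hjC, hca⟩ := exists_j_mem hF hq (H ⊓ LL hF) inf_le_right heven
  have hjH : j ∈ H := hjC.1
  have hjL : j ∈ LL hF := hjC.2
  have hjP : j ∈ PP hF := LL_le_PP hF hjL
  obtain ⟨hj2, hj1⟩ := j_props hF hq j hjL hca
  have hKP : H ⊓ PP hF ≤ PP hF := inf_le_right
  have hKT : H ⊓ PP hF ⊓ TT hF = ⊥ := by rw [inf_PP_inf hF H _ (TT_le_PP hF), hE]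
  have hKQ : H ⊓ PP hF ⊓ QQ hF = H ⊓ QQ hF := inf_PP_inf hF H _ (QQ_le_PP hF)
  have hKL : H ⊓ PP hF ⊓ LL hF = H ⊓ LL hF := inf_PP_inf hF H _ (LL_le_PP hF)
  have hcardK : Nat.card ↥(H ⊓ PP hF) =
      Nat.card ↥(H ⊓ PP hF ⊓ QQ hF) * Nat.card ↥(H ⊓ PP hF ⊓ LL hF) := by
    rw [hKQ, hKL]; exact hcard
  have hjK : j ∈ H ⊓ PP hF := ⟨hjH, hjP⟩
  have hconj : ∀ h ∈ H, h⁻¹ * j * h ∈ PP hF →
      ∃ k ∈ H ⊓ PP hF, h⁻¹ * j * h = k * j * k⁻¹ := by
    intro h hh hP
    have hiK : h⁻¹ * j * h ∈ H ⊓ PP hF :=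
      ⟨H.mul_mem (H.mul_mem (H.inv_mem hh) hjH) hh, hP⟩
    have hi2 : (h⁻¹ * j * h) * (h⁻¹ * j * h) = 1 := by
      have : (h⁻¹ * j * h) * (h⁻¹ * j * h) = h⁻¹ * (j * j) * h := by group
      rw [this, hj2]; group
    have hi1 : h⁻¹ * j * h ≠ 1 := by
      intro h1
      apply hj1
      have : j = h * (h⁻¹ * j * h) * h⁻¹ := by group
      rw [this, h1]; group
    exact invol_conj hF hq _ hKP hKT hcardK j hjK hjL hca _ hiK hi2 hi1
  obtain ⟨htrC, hcardC⟩ := card_centralizer_of_trans (PP hF) H j hjH hjP htr hconj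
  have hCG : H ⊓ Subgroup.centralizer {j} ≤ GLn hF :=
    inf_le_right.trans (centralizer_j_le hF hq j hjL hca)
  have hfixset : {x : GG hF ⧸ PP hF | j • x = x} = Lam hF := by
    ext x; exact fix_j hF hq j hjL hca x
  have hfix : Nat.card {x : GG hF ⧸ PP hF // j • x = x} = q + 1 := by
    rw [← ncard_Lam hF, ← hfixset]
    rfl
  have hstab : H ⊓ PP hF ⊓ Subgroup.centralizer {j} = H ⊓ LL hF := by
    rw [← hKL]; exact inf_centralizer_j hF hq _ hKP hKT hcardK j hjK hjL hca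
  have hcardC' : Nat.card ↥(H ⊓ Subgroup.centralizer {j}) =
      (q + 1) * Nat.card ↥(H ⊓ LL hF) := by rw [hcardC, hfix, hstab]
  have := YY_normal_of_le hF _ hCG
  have hYcent : YY hF ≤ Subgroup.centralizer {j} := by
    intro y hy
    rw [Subgroup.mem_centralizer_iff]
    intro h hh
    rw [Set.mem_singleton_iff] at hh
    subst hh
    exact (YY_comm hF y hy h (LL_le_GLn hF hjL)).symm
  have hYC : Nat.card ↥((YY hF).subgroupOf (H ⊓ Subgroup.centralizer {j})) =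
      Nat.gcd (Nat.card ↥(H ⊓ LL hF)) (q + 1) := by
    rw [card_subgroupOf_eq, ← card_inf_YY hF (H ⊓ LL hF) inf_le_right]
    congr 2
    rw [inf_assoc, inf_assoc, inf_eq_right.2 hYcent, inf_eq_right.2 (YY_le_LL hF)]
  have hp : ¬ p ∣ Nat.card ↥(H ⊓ Subgroup.centralizer {j}) := by
    rw [hcardC']
    obtain ⟨h1, h2⟩ := not_dvd_of_pow (Fact.out : p.Prime) ha0 hqa
    intro h
    rcases (Nat.Prime.dvd_mul (Fact.out : p.Prime)).1 h with h | h
    · exact h1 h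
    · apply h2
      have : Nat.card ↥(H ⊓ LL hF) ∣ Nat.card ↥(LL hF) := Subgroup.card_dvd_of_le inf_le_right
      rw [card_LL] at this
      exact h.trans this
  have hinv : ∀ c ∈ H ⊓ Subgroup.centralizer {j}, ∀ x ∈ Lam hF, c • x ∈ Lam hF :=
    fun c hc x hx => Lam_smul hF c (hCG hc) x hx
  have hbase : ∀ x ∈ Lam hF, ∃ c ∈ H ⊓ Subgroup.centralizer {j},
      x = c • ((1 : GG hF) : GG hF ⧸ PP hF) := by
    intro x hx
    have hjx : j • x = x := (fix_j hF hq j hjL hca x).2 hx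
    obtain ⟨g, rfl⟩ := QuotientGroup.mk_surjective x
    have h1 : g⁻¹ * j * g ∈ PP hF := by
      have : ((j * g : GG hF) : GG hF ⧸ PP hF) = (g : GG hF ⧸ PP hF) := hjx
      have h2 := QuotientGroup.eq.1 this.symm
      rwa [← mul_assoc] at h2
    obtain ⟨c, hcH, hcj, b, hb, rfl⟩ := htrC g h1
    refine ⟨c, ⟨hcH, ?_⟩, ?_⟩
    · show c ∈ Subgroup.centralizer {j}
      rw [Subgroup.mem_centralizer_iff]
      intro h hh
      rw [Set.mem_singleton_iff] at hh
      subst hh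
      exact hcj.symm
    · show ((c * b : GG hF) : GG hF ⧸ PP hF) = ((c * 1 : GG hF) : GG hF ⧸ PP hF)
      rw [QuotientGroup.eq]
      have : (c * b)⁻¹ * (c * 1) = b⁻¹ := by group
      rw [this]
      exact (PP hF).inv_mem hb
  have htrL : ∀ x ∈ Lam hF, ∀ y ∈ Lam hF, ∃ c ∈ H ⊓ Subgroup.centralizer {j}, c • x = y := by
    intro x hx y hy
    obtain ⟨c, hc, rfl⟩ := hbase x hx
    obtain ⟨c', hc', rfl⟩ := hbase y hy
    refine ⟨c' * c⁻¹, Subgroup.mul_mem _ hc' (Subgroup.inv_mem _ hc), ?_⟩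
    rw [← mul_smul, inv_mul_cancel_right]
  have hfin := dickline_abs a hqa hq7 hF (H ⊓ Subgroup.centralizer {j}) (Lam hF) (ncard_Lam hF)
    hinv htrL (YY hF) (fun c hc x hx => YY_smul hF c hc x hx)
    (fun c hc x hx y hy z hz hxy hxz hyz gx gy gz =>
      mem_YY_of_fix3 hF c (hCG hc) x y z hx hy hz hxy hxz hyz gx gy gz) hp
    (concl_of_le_GLn hF _ hCG)
  rw [hcardC', hYC] at hfin
  exact hfin

theorem eq_one_of_sq_of_odd {G : Type*} [Group G] (Z : Subgroup G) [Finite Z] (g : G) (hgZ : g ∈ Z)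
    (hg : g * g = 1) (hodd : Odd (Nat.card Z)) : g = 1 := by
  have h1 : orderOf (⟨g, hgZ⟩ : Z) ∣ Nat.card Z := orderOf_dvd_natCard _
  have h2 : orderOf (⟨g, hgZ⟩ : Z) ∣ 2 := by
    apply orderOf_dvd_of_pow_eq_one
    apply Subtype.ext
    rw [pow_two]
    exact hg
  have h3 : orderOf (⟨g, hgZ⟩ : Z) = 1 := by
    rcases (Nat.dvd_prime Nat.prime_two).1 h2 with h | h
    · exact h
    · exfalso
      rw [h] at h1
      exact (Nat.not_even_iff_odd.2 hodd) (even_iff_two_dvd.2 h1)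
  have := orderOf_eq_one_iff.1 h3
  exact congrArg Subtype.val this

/-- the centralizer hypothesis of the KILL leaves -/
theorem sing_invol (r : ℕ) (hr : r.Prime) (hr1 : q + 1 < r) (hr2 : ¬ r ∣ q * (q ^ 2 - 1))
    (R : Subgroup (GG hF)) (hR : Nat.card R = r) (g : GG hF)
    (hg : g ∈ Subgroup.centralizer (R : Set (GG hF))) (hg2 : g * g = 1) : g = 1 := by
  obtain ⟨a, ha⟩ := invol_fix hF g hg2
  have hc := sing_centralizer hF r hr hr1 hr2 R hR g hg a ha
  apply eq_one_of_sq_of_odd (Subgroup.center (GG hF)) g hc hg2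
  rw [card_center]
  have : Nat.gcd 3 (q + 1) ∣ 3 := Nat.gcd_dvd_left 3 (q + 1)
  rcases (Nat.dvd_prime Nat.prime_three).1 this with h | h <;> rw [h] <;> decide

theorem gamma_case {p : ℕ} [Fact p.Prime] [CharP F p] (hq : 3 ≤ q)
    (H : Subgroup (GG hF)) (htr : Trans hF H) (hE : H ⊓ TT hF ≠ ⊥)
    (hK : q ^ 2 - 1 ≤ Nat.card ↥(H ⊓ PP hF)) : H = ⊤ := by
  obtain ⟨a, ha0, hqa⟩ := exists_pow_eq hF (p := p)
  have he1 : 1 < Nat.card ↥(H ⊓ TT hF) := (Subgroup.one_lt_card_iff_ne_bot _).2 hE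
  have hXG : H ⊓ SLn hF ≤ GLn hF := inf_le_right.trans (SLn_le_GLn hF)
  have := YY_normal_of_le hF _ hXG
  have he : ∀ T ∈ TLine hF, Nat.card ↥(H ⊓ SLn hF ⊓ T) = Nat.card ↥(H ⊓ TT hF) := by
    intro T hT
    have hTS := TLine_le hF T hT
    obtain ⟨u, hu0, hu, -, rfl⟩ := hT
    rw [inf_assoc, inf_eq_right.2 hTS]
    exact card_inf_TV hF H htr u hu0 hu
  have hYp : ¬ p ∣ Nat.card (YY hF) := by
    rw [card_YY]
    exact (not_dvd_of_pow (Fact.out : p.Prime) ha0 hqa).1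
  have hcases := gamma_abs a hqa hq hF (SLn hF) (card_SLn hF) (TLine hF) (ncard_TLine hF)
    (TLine_le hF)
    (fun T hT => by
      obtain ⟨u, hu0, hu, -, rfl⟩ := hT
      exact card_TV hF u hu0 hu)
    (fun T hT T' hT' hne => TLine_inf hF T T' hT hT' hne)
    (fun s hs T hT => TLine_conj hF s hs T hT)
    (YY hF) (fun y hy s hs => YY_comm hF y hy s (SLn_le_GLn hF hs)) hYp
    (H ⊓ SLn hF) inf_le_right (Nat.card ↥(H ⊓ TT hF)) he he1 (concl_of_le_GLn hF _ hXG)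
  have hKT : H ⊓ PP hF ⊓ TT hF = H ⊓ TT hF := inf_PP_inf hF H _ (TT_le_PP hF)
  rcases hcases with h | ⟨hp2, h⟩ | ⟨hq9, h⟩
  · -- `TT ≤ H`
    apply eq_top_of_TT_le hF hq H htr
    have h1 : H ⊓ TT hF = TT hF := by
      apply Subgroup.eq_of_le_of_card_ge inf_le_right
      rw [h, card_TT]
    rw [← h1]
    exact inf_le_left
  · exfalso
    have h2 : (2 : F) = 0 := by
      have : ((2 : ℕ) : F) = 0 := by
        rw [CharP.cast_eq_zero_iff F p, hp2]
      exact_mod_cast this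
    obtain ⟨hq8, hK72⟩ := borel_gamma2 hF hq h2 (H ⊓ PP hF) inf_le_right (by rw [hKT, h]) hK
    have hH := card_H_eq hF H htr
    rw [hK72] at hH
    subst hq8
    have hH' : Nat.card H = 36936 := by rw [hH]; norm_num
    refine kill8_abs H hH' ?_ ?_ ?_
    · intro R hR
      have := sing_normalizer hF 19 (by norm_num) (by norm_num) (by norm_num) R hR
      exact this
    · intro R hR g hg hg2
      exact sing_invol hF 19 (by norm_num) (by norm_num) (by norm_num) R hR g hg hg2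
    · intro s t hs ht
      have := elation_pair hF (by decide) s t hs ht
      exact this
  · exfalso
    subst hq9
    have hK' := borel_gamma9 hF rfl (H ⊓ PP hF) inf_le_right (by rw [hKT, h]) (by simpa using hK)
    have hH := card_H_eq hF H htr
    refine kill9_abs H ?_ ?_
    · rcases hK' with h1 | h1 | h1 <;> rw [h1] at hH
      · left; rw [hH]; norm_num
      · right; left; rw [hH]; norm_num
      · right; right; rw [hH]; norm_num
    · intro R hR
      have := sing_normalizer hF 73 (by norm_num) (by norm_num) (by norm_num) R hR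
      exact this

theorem sq_sub_one_eq (hq : 1 ≤ q) : q ^ 2 - 1 = (q + 1) * (q - 1) := by
  obtain ⟨k, rfl⟩ : ∃ k, q = k + 1 := ⟨q - 1, by omega⟩
  have : (k + 1) ^ 2 = (k + 1 + 1) * k + 1 := by ring
  rw [this]
  simp

theorem cj_inf_PP (H : Subgroup (GG hF)) (y : GG hF) (hy : y ∈ PP hF) :
    cj y H ⊓ PP hF = cj y (H ⊓ PP hF) := by
  rw [cj_inf, cj_eq_self_of_mem y (PP hF) hy]

theorem cj_inf_QQ (H : Subgroup (GG hF)) (y : GG hF) (hy : y ∈ QQ hF) :
    cj y H ⊓ QQ hF = cj y (H ⊓ QQ hF) := by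
  rw [cj_inf, cj_eq_self_of_mem y (QQ hF) hy]

theorem cj_bot {G : Type*} [Group G] (y : G) : cj y (⊥ : Subgroup G) = ⊥ := by
  unfold cj
  exact Subgroup.map_bot _

theorem alpha_case {p : ℕ} [Fact p.Prime] [CharP F p] (hq : 3 ≤ q) (hq5 : q ≠ 5)
    (H : Subgroup (GG hF)) (htr : Trans hF H) (hD : H ⊓ QQ hF = ⊥)
    (hK : q ^ 2 - 1 ≤ Nat.card ↥(H ⊓ PP hF)) : False := by
  have hKQ : H ⊓ PP hF ⊓ QQ hF = ⊥ := by rw [inf_PP_inf hF H _ (QQ_le_PP hF), hD]
  obtain ⟨y, hyQ, hy⟩ := borel_alpha hF hq (H ⊓ PP hF) inf_le_right hKQ hK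
  have hyP : y ∈ PP hF := QQ_le_PP hF hyQ
  have htr' : Trans hF (cj y H) := trans_cj hF H htr y hyP
  have hK' : cj y H ⊓ PP hF = LL hF := by rw [cj_inf_PP hF H y hyP, hy]
  have hQ' : cj y H ⊓ QQ hF = ⊥ := by rw [cj_inf_QQ hF H y hyQ, hD, cj_bot]
  have hT' : cj y H ⊓ TT hF = ⊥ := by
    rw [eq_bot_iff, ← hQ']
    exact inf_le_inf_left _ (TT_le_QQ hF)
  have hLH : LL hF ≤ cj y H := by rw [← hK']; exact inf_le_left
  have hL' : cj y H ⊓ LL hF = LL hF := inf_eq_right.2 hLH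
  have hcardH : Nat.card ↥(cj y H) = (q ^ 3 + 1) * (q ^ 2 - 1) := by
    rw [card_H_eq hF _ htr', hK', card_LL]
  rcases Nat.even_or_odd q with hev | hodd
  · -- `q` even: an element of even order in a group of odd order
    obtain ⟨h, hh, hhP, hh2⟩ := swap hF hq (cj y H) htr' hK'
    have h2 : 2 ∣ orderOf h := by
      by_contra hcon
      apply hhP
      have hodd : Odd (orderOf h) := Nat.odd_iff.2 (by omega)
      obtain ⟨k, hk⟩ := hodd
      have e1 : h = (h * h) ^ (k + 1) := by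
        rw [← pow_two, ← pow_mul]
        have : 2 * (k + 1) = orderOf h + 1 := by omega
        rw [this, pow_succ, pow_orderOf_eq_one, one_mul]
      rw [e1]
      exact (PP hF).pow_mem hh2 _
    have h3 : orderOf h ∣ Nat.card ↥(cj y H) := by
      have := orderOf_dvd_natCard (⟨h, hh⟩ : ↥(cj y H))
      rwa [Subgroup.orderOf_mk] at this
    rw [hcardH] at h3
    have h4 := h2.trans h3
    have o1 : Odd (q ^ 3 + 1) := Even.add_one (hev.pow_of_ne_zero (by norm_num))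
    have o2 : Odd (q ^ 2 - 1) := by
      have : Even (q ^ 2) := hev.pow_of_ne_zero (by norm_num)
      have hpos : 1 ≤ q ^ 2 := Nat.one_le_pow _ _ (by omega)
      exact Nat.Even.sub_odd hpos this odd_one
    exact (Nat.not_even_iff_odd.2 (o1.mul o2)) (even_iff_two_dvd.2 h4)
  · by_cases hq3 : q = 3
    · subst hq3
      have hH' : Nat.card ↥(cj y H) = 224 := by rw [hcardH]; norm_num
      refine kill3_abs (cj y H) hH' ?_ ?_
      · intro R hR
        have := sing_normalizer hF 7 (by norm_num) (by norm_num) (by norm_num) R hR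
        exact this
      · intro R hR g hg hg2
        exact sing_invol hF 7 (by norm_num) (by norm_num) (by norm_num) R hR g hg hg2
    · have hq7 : 7 ≤ q := by
        obtain ⟨k, hk⟩ := hodd
        omega
      have hcard : Nat.card ↥(cj y H ⊓ PP hF) =
          Nat.card ↥(cj y H ⊓ QQ hF) * Nat.card ↥(cj y H ⊓ LL hF) := by
        rw [hK', hQ', hL', Subgroup.card_bot, one_mul]
      have hsq := sq_sub_one_eq (q := q) (by omega)
      have heven : Even (Nat.card ↥(cj y H ⊓ LL hF)) := by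
        rw [hL', card_LL, hsq]
        exact (hodd.add_one).mul_right _
      have hfin := phase2 hF (p := p) hodd hq7 (cj y H) htr' hT' hcard heven
      rw [hL', card_LL] at hfin
      have hgcd : Nat.gcd (q ^ 2 - 1) (q + 1) = q + 1 :=
        Nat.gcd_eq_right ⟨q - 1, hsq⟩
      rw [hgcd, hsq] at hfin
      obtain ⟨n, rfl⟩ : ∃ n, q = n + 7 := ⟨q - 7, by omega⟩
      have e : n + 7 - 1 = n + 6 := by omega
      rw [e] at hfin
      rcases hfin with h | h | h | h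
      · nlinarith
      · nlinarith
      · have h' : (n + 7 + 1) * ((n + 7 + 1) * (n + 6)) = (n + 7 + 1) * 24 := by rw [h]; ring
        have : (n + 7 + 1) * (n + 6) = 24 := Nat.eq_of_mul_eq_mul_left (Nat.succ_pos _) h'
        nlinarith
      · have h' : (n + 7 + 1) * ((n + 7 + 1) * (n + 6)) = (n + 7 + 1) * 60 := by rw [h]; ring
        have : (n + 7 + 1) * (n + 6) = 60 := Nat.eq_of_mul_eq_mul_left (Nat.succ_pos _) h'
        rcases Nat.lt_or_ge n 1 with h1 | h1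
        · interval_cases n; omega
        · nlinarith

theorem PP_le_normalizer_TT : PP hF ≤ Subgroup.normalizer (TT hF : Set (GG hF)) := by
  intro g hg
  rw [Subgroup.mem_normalizer_iff]
  intro t
  constructor
  · intro ht
    exact Pe_normalizes_Te (barOK_frob hF).invol hg ht
  · intro ht
    have := Pe_normalizes_Te (barOK_frob hF).invol ((PP hF).inv_mem hg) ht
    have e : g⁻¹ * (g * t * g⁻¹) * g⁻¹⁻¹ = t := by group
    rwa [e] at this

theorem cj_inf_TT (H : Subgroup (GG hF)) (y : GG hF) (hy : y ∈ PP hF) :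
    cj y H ⊓ TT hF = cj y (H ⊓ TT hF) := by
  rw [cj_inf, cj_eq_self y (TT hF) (PP_le_normalizer_TT hF hy)]

theorem gcd_dvd_six (t : ℕ) (ht : t ∣ 3 * (q - 1)) (hq : 1 ≤ q) : Nat.gcd t (q + 1) ∣ 6 := by
  have h1 : Nat.gcd t (q + 1) ∣ Nat.gcd (3 * (q - 1)) (q + 1) :=
    Nat.dvd_gcd ((Nat.gcd_dvd_left _ _).trans ht) (Nat.gcd_dvd_right _ _)
  have h2 : Nat.gcd (3 * (q - 1)) (q + 1) ∣ 3 * Nat.gcd (q - 1) (q + 1) :=
    (Nat.gcd_mul_left_dvd_mul_gcd (q + 1) 3 (q - 1)).trans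
      (Nat.mul_dvd_mul_right (Nat.gcd_dvd_left 3 (q + 1)) _)
  have h3 : Nat.gcd (q - 1) (q + 1) ∣ 2 := by
    have e : q + 1 = (q - 1) + 2 := by omega
    rw [e, Nat.gcd_self_add_right]
    exact Nat.gcd_dvd_right _ _
  exact h1.trans (h2.trans (by simpa using Nat.mul_dvd_mul_left 3 h3))

theorem beta_case {p : ℕ} [Fact p.Prime] [CharP F p] (hq : 3 ≤ q) (hq5 : q ≠ 5)
    (H : Subgroup (GG hF)) (htr : Trans hF H) (hZ : Subgroup.center (GG hF) ≤ H)
    (hE : H ⊓ TT hF = ⊥) (hD : H ⊓ QQ hF ≠ ⊥)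
    (hK : q ^ 2 - 1 ≤ Nat.card ↥(H ⊓ PP hF)) : False := by
  have hKT : H ⊓ PP hF ⊓ TT hF = ⊥ := by rw [inf_PP_inf hF H _ (TT_le_PP hF), hE]
  have hKQ : H ⊓ PP hF ⊓ QQ hF = H ⊓ QQ hF := inf_PP_inf hF H _ (QQ_le_PP hF)
  obtain ⟨hodd, h3, hDq, hKc, y, hyQ, hy⟩ :=
    borel_beta hF hq hq5 (H ⊓ PP hF) inf_le_right hKT (by rw [hKQ]; exact hD) hK
  rw [hKQ] at hDq
  have hyP : y ∈ PP hF := QQ_le_PP hF hyQ
  have htr' : Trans hF (cj y H) := trans_cj hF H htr y hyP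
  have hK' : cj y H ⊓ PP hF = cj y (H ⊓ PP hF) := cj_inf_PP hF H y hyP
  have hQ' : cj y H ⊓ QQ hF = cj y (H ⊓ QQ hF) := cj_inf_QQ hF H y hyQ
  have hT' : cj y H ⊓ TT hF = ⊥ := by rw [cj_inf_TT hF H y hyP, hE, cj_bot]
  have hL' : cj y H ⊓ LL hF = cj y (H ⊓ PP hF) ⊓ LL hF := by
    rw [← hK', inf_PP_inf hF _ _ (LL_le_PP hF)]
  have hcK : Nat.card ↥(cj y H ⊓ PP hF) = Nat.card ↥(H ⊓ PP hF) := by rw [hK', card_cj]
  have hcQ : Nat.card ↥(cj y H ⊓ QQ hF) = q := by rw [hQ', card_cj, hDq]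
  have hcL : Nat.card ↥(cj y H ⊓ LL hF) * q = Nat.card ↥(H ⊓ PP hF) := by rw [hL']; exact hy
  have hcard : Nat.card ↥(cj y H ⊓ PP hF) =
      Nat.card ↥(cj y H ⊓ QQ hF) * Nat.card ↥(cj y H ⊓ LL hF) := by
    rw [hcK, hcQ, ← hcL, mul_comm]
  -- arithmetic on `q`
  have hq11 : 11 ≤ q := by
    obtain ⟨k, hk⟩ := hodd
    omega
  have hq0 : 0 < q := by omega
  -- `t`
  obtain ⟨t, ht⟩ : ∃ t, t = Nat.card ↥(cj y H ⊓ LL hF) := ⟨_, rfl⟩
  rw [← ht] at hcL hcard
  have htrel : t = 3 * (q - 1) ∨ 2 * t = 3 * (q - 1) := by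
    rcases hKc with h | h
    · left
      rw [← hcL, mul_comm] at h
      exact Nat.eq_of_mul_eq_mul_left hq0 h
    · right
      rw [← hcL] at h
      have : q * (2 * t) = q * (3 * (q - 1)) := by rw [← h]; ring
      exact Nat.eq_of_mul_eq_mul_left hq0 this
  rcases Nat.even_or_odd t with hev | hto
  swap
  · -- `t` odd
    apply parity hF hodd (cj y H) htr'
    rw [hcard, hcQ]
    exact hodd.mul hto
  have hfin := phase2 hF (p := p) hodd (by omega) (cj y H) htr' hT'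
    (by rw [← ht]; exact hcard) (by rw [← ht]; exact hev)
  rw [← ht] at hfin
  have htdvd : t ∣ 3 * (q - 1) := by
    rcases htrel with h | h
    · rw [h]
    · exact ⟨2, by omega⟩
  have hg6 : Nat.gcd t (q + 1) ≤ 6 := Nat.le_of_dvd (by norm_num) (gcd_dvd_six t htdvd (by omega))
  have ht15 : 15 ≤ t := by omega
  have hqt : q = 11 ∧ t = 30 := by
    have hbound : (q + 1) * t ≤ 360 := by
      rcases hfin with h | h | h | h
      · exfalso
        have : (q + 1) * t ≤ (q + 1) * (2 * Nat.gcd t (q + 1)) := by rw [← mul_assoc, mul_comm (q+1) 2]; exact h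
        have := Nat.le_of_mul_le_mul_left this (by omega)
        omega
      · rw [h]; omega
      · rw [h]; omega
      · rw [h]; omega
    have hq23 : q ≤ 23 := by
      have : (q + 1) * 15 ≤ (q + 1) * t := Nat.mul_le_mul_left _ ht15
      omega
    obtain ⟨k, hk⟩ := hodd
    obtain ⟨j, hj⟩ := h3
    obtain ⟨i, hi⟩ := hev
    have hg1 : 1 ≤ Nat.gcd t (q + 1) := Nat.gcd_pos_of_pos_right _ (by omega)
    interval_cases q <;> first | omega | (rcases hfin with h | h | h | h <;> omega)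
  obtain ⟨rfl, ht30⟩ := hqt
  rw [ht30] at hcL hcard
  have hcK' : Nat.card ↥(cj y H ⊓ PP hF) = 330 := by rw [hcK, ← hcL]
  have hH' : Nat.card ↥(cj y H) = 439560 := by
    rw [card_H_eq hF _ htr', hcK']; norm_num
  refine kill11_abs (PP hF) (cj y H) (Subgroup.center (GG hF)) (cj y H ⊓ QQ hF) hH' hcK'
    (center_le_cj y H hZ) le_rfl ?_ (inf_le_inf_left _ (QQ_le_PP hF)) hcQ ?_ ?_
  · rw [card_center]; norm_num
  · intro x hx hx1 g hg
    exact QQ_semireg hF x hx.2 hx1 g hg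
  · intro R hR
    have := sing_normalizer hF 37 (by norm_num) (by norm_num) (by norm_num) R hR
    exact this

theorem model_main {p : ℕ} [Fact p.Prime] [CharP F p] (hq : 3 ≤ q) (hq5 : q ≠ 5)
    (H : Subgroup (GG hF)) (hZ : Subgroup.center (GG hF) ≤ H) (hidx : H.index ≤ q ^ 3) :
    H = ⊤ := by
  have htr := trans_of_index hF H hidx
  have hKi := card_K_mul_index hF H htr
  have hK : q ^ 2 - 1 ≤ Nat.card ↥(H ⊓ PP hF) := by
    by_contra hlt
    push Not at hlt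
    have hpos : 0 < q ^ 3 := pow_pos (by omega) 3
    have h1 : Nat.card ↥(H ⊓ PP hF) * H.index ≤ Nat.card ↥(H ⊓ PP hF) * q ^ 3 :=
      Nat.mul_le_mul_left _ hidx
    have h2 : Nat.card ↥(H ⊓ PP hF) * q ^ 3 < (q ^ 2 - 1) * q ^ 3 :=
      Nat.mul_lt_mul_of_pos_right hlt hpos
    rw [hKi, mul_comm] at h1
    exact absurd (lt_of_le_of_lt h1 h2) (lt_irrefl _)
  by_cases hE : H ⊓ TT hF = ⊥
  · exfalso
    by_cases hD : H ⊓ QQ hF = ⊥
    · exact alpha_case hF (p := p) hq hq5 H htr hD hK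
    · exact beta_case hF (p := p) hq hq5 H htr hZ hE hD hK
  · exact gamma_case hF (p := p) hq H htr hE hK

end spine

theorem S2148_final {F : Type*} [Field F] [Fintype F] (q : ℕ) (hF : Fintype.card F = q ^ 2)
    (hq : 3 ≤ q) (h5 : q ≠ 5) :
    (∀ H : Subgroup (Cfsg.PSU 3 F q), H ≠ ⊤ → q ^ 3 + 1 ≤ H.index) ∧
    (∃ H : Subgroup (Cfsg.PSU 3 F q), H.index = q ^ 3 + 1) := by
  obtain ⟨p, hp⟩ := CharP.exists F
  have hpp : Fact p.Prime := ⟨CharP.char_is_prime F p⟩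
  exact S2148_of_model q hF hq (index_PP hF)
    (fun H hZ hidx => model_main hF (p := p) hq h5 H hZ hidx)

end Cfsg.Agent.Lib.Helper12.U3Main
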