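import Mathlib
import Cfsg.Agent.Lib.Helper15.AschUCtx
import Cfsg.Agent.Lib.Helper15.AschPRFData
import Cfsg.Agent.Lib.Helper15.AschDSC1
import Cfsg.Agent.Lib.Helper26.AschNL
import Cfsg.Agent.Lib.Helper27.AschKF3
import Cfsg.Agent.Lib.Helper27.AschSW
import Cfsg.Agent.Lib.Helper29.AschKF2
import Cfsg.Agent.Lib.Helper20.AschTS
import Cfsg.Agent.Lib.Helper4.AschA4
import Cfsg.Agent.Lib.Helper29.SpAschQU

/-!
S5663 (Aschbacher for `GU_n(q)`, planner helper15), market U, packet U-BU: `exists_fixedSubfield`, `conj_of_fixes_bilinear`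
(exact signatures of `notes/S5663_U_leaves.lean`).  Taker: helper12.
-/

set_option autoImplicit false
set_option linter.unusedSectionVars false
set_option linter.unusedVariables false

namespace Cfsg.Agent.Lib.Helper12.UALeaf
open Matrix Cfsg Cfsg.Geo Cfsg.Agent.Lib.Helper20.Asch Cfsg.Agent.Lib.Helper20.FC
open Cfsg.Agent.Lib.Helper15.AschU Cfsg.Agent.Lib.Helper15.AschForm Cfsg.Agent.Lib.Helper18.AschA89
open scoped Kronecker

variable {F : Type*} [Field F] [Fintype F] {n q : ℕ} {H N : Subgroup (GL (Fin n) F)}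

/-- (BU1) the fixed field of `σ` -/
theorem exists_fixedSubfield {σ : F ≃+* F} (hσ : IsFrob q σ) :
    ∃ F₀ : Subfield F, F₀ ≠ ⊤ ∧ ∀ c : F, c ∈ F₀ ↔ σ c = c :=
  Cfsg.Agent.Lib.Helper29.SpAschLeaf.exists_fixed_subfield σ hσ.ne_refl

/-- (BU2) -/
theorem conj_of_fixes_bilinear {σ : F ≃+* F} (hfix : FixJ (σ : F →+* F) (1 : Matrix (Fin n) (Fin n) F) N)
    (S : Matrix (Fin n) (Fin n) F) (hS : S.det ≠ 0)
    (hfixS : ∀ x ∈ N, (x : Matrix (Fin n) (Fin n) F)ᵀ * S * (x : Matrix (Fin n) (Fin n) F) = S) :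
    ∃ C : GL (Fin n) F, ∀ x ∈ N, (x : Matrix (Fin n) (Fin n) F).map σ =
      ((C⁻¹ : GL (Fin n) F) : Matrix (Fin n) (Fin n) F) * (x : Matrix (Fin n) (Fin n) F) * (C : Matrix (Fin n) (Fin n) F) := by
  have hSi : S⁻¹ * S = 1 := Matrix.nonsing_inv_mul S (Ne.isUnit hS)
  have hSi' : S * S⁻¹ = 1 := Matrix.mul_nonsing_inv S (Ne.isUnit hS)
  let C : GL (Fin n) F := ⟨S⁻¹, S, hSi, hSi'⟩
  refine ⟨C, fun x hx => ?_⟩
  have hCv : (C : Matrix (Fin n) (Fin n) F) = S⁻¹ := rfl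
  have hCi : ((C⁻¹ : GL (Fin n) F) : Matrix (Fin n) (Fin n) F) = S := rfl
  rw [hCv, hCi]
  have h1 : (x : Matrix (Fin n) (Fin n) F)ᵀ * (x : Matrix (Fin n) (Fin n) F).map σ = 1 := by
    have := hfix x hx
    rwa [mul_one] at this
  have h2 : (x : Matrix (Fin n) (Fin n) F)ᵀ * (S * (x : Matrix (Fin n) (Fin n) F) * S⁻¹) = 1 := by
    calc (x : Matrix (Fin n) (Fin n) F)ᵀ * (S * (x : Matrix (Fin n) (Fin n) F) * S⁻¹)
        = ((x : Matrix (Fin n) (Fin n) F)ᵀ * S * (x : Matrix (Fin n) (Fin n) F)) * S⁻¹ := by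
          simp only [mul_assoc]
      _ = 1 := by rw [hfixS x hx, hSi']
  have h1' : (x : Matrix (Fin n) (Fin n) F).map σ * (x : Matrix (Fin n) (Fin n) F)ᵀ = 1 := mul_eq_one_comm.mp h1
  calc (x : Matrix (Fin n) (Fin n) F).map σ
      = (x : Matrix (Fin n) (Fin n) F).map σ *
          ((x : Matrix (Fin n) (Fin n) F)ᵀ * (S * (x : Matrix (Fin n) (Fin n) F) * S⁻¹)) := by rw [h2, mul_one]
    _ = ((x : Matrix (Fin n) (Fin n) F).map σ * (x : Matrix (Fin n) (Fin n) F)ᵀ) *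
          (S * (x : Matrix (Fin n) (Fin n) F) * S⁻¹) := (mul_assoc _ _ _).symm
    _ = S * (x : Matrix (Fin n) (Fin n) F) * S⁻¹ := by rw [h1', one_mul]

end Cfsg.Agent.Lib.Helper12.UALeaf
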