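import Mathlib
import Cfsg.Agent.Lib.Helper15.AschUCtx
import Cfsg.Agent.Lib.Helper18.AschA89Defs
import Cfsg.Agent.Lib.Helper17.UAE3Defs
import Cfsg.Agent.Lib.Helper24.AschUNIL
import Cfsg.Agent.Lib.Helper14.ReidxP9
import Cfsg.Agent.Lib.Helper25.AFTns

/-!
S5663 (Aschbacher for `GU_n(q)`), SUB-BLOCK E3 (sub-planner helper17), packet E3-T: transport along `(e, P)`:
`isSymplecticTypeGroup_tr`, `card_tr`, `card_center_tr`, `absIrr_tr`, `tr_mem_GU`, `std_of_mem_GU`, `normalizer_tr`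
(exact signatures of `notes/S5663_E3_leaves.lean`).  Taker: helper12.
By-products: `trHom e P` (the isomorphism `GL κ F ≃* GL (Fin n) F`), `mem_tr`, `trEquiv e P S : S ≃* tr e P S`,
`isSymplecticTypeGroup_of_mulEquiv`, `absIrr_conj` (conjugation preserves absolute irreducibility), `matrixSet_tr`,
`unitary_tr_iff` (the matrix identity behind T4/T5).
-/

set_option autoImplicit false
set_option linter.unusedSectionVars false
set_option linter.unusedVariables false

namespace Cfsg.Agent.Lib.Helper12.UAE3Leaf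
open Matrix Cfsg Cfsg.Geo Cfsg.Agent.Lib.Helper20.Asch
open Cfsg.Agent.Lib.Helper15.AschU Cfsg.Agent.Lib.Helper15.AschForm Cfsg.Agent.Lib.Helper18.AschA89
open Cfsg.Agent.Lib.Helper17.E3

variable {F : Type*} [Field F] [Fintype F]

section transport
variable {n : ℕ} {κ : Type} [Fintype κ] [DecidableEq κ]

/-- the transport isomorphism `x ↦ P (x reindexed) P⁻¹` -/
def trHom (e : Fin n ≃ κ) (P : GL (Fin n) F) : GL κ F ≃* GL (Fin n) F :=
  (glReindex e.symm).trans (MulAut.conj P)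

lemma trHom_apply (e : Fin n ≃ κ) (P : GL (Fin n) F) (g : GL κ F) :
    trHom e P g = MulAut.conj P (glReindex e.symm g) := rfl

lemma trHom_val (e : Fin n ≃ κ) (P : GL (Fin n) F) (g : GL κ F) :
    ((trHom e P g : GL (Fin n) F) : Matrix (Fin n) (Fin n) F) = conjR e P (g : Matrix κ κ F) := rfl

lemma mem_tr (e : Fin n ≃ κ) (P : GL (Fin n) F) (S : Subgroup (GL κ F)) (y : GL (Fin n) F) :
    y ∈ tr e P S ↔ ∃ x ∈ S, trHom e P x = y := by
  unfold tr
  constructor
  · rintro ⟨_, ⟨x, hx, rfl⟩, rfl⟩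
    exact ⟨x, hx, rfl⟩
  · rintro ⟨x, hx, rfl⟩
    exact ⟨_, ⟨x, hx, rfl⟩, rfl⟩

/-- the isomorphism `S ≃* tr e P S` -/
def trEquiv (e : Fin n ≃ κ) (P : GL (Fin n) F) (S : Subgroup (GL κ F)) : S ≃* tr e P S :=
  ((glReindex e.symm).subgroupMap S).trans ((MulAut.conj P).subgroupMap (S.map (glReindex e.symm).toMonoidHom))

/-- symplectic type is invariant under isomorphism -/
theorem isSymplecticTypeGroup_of_mulEquiv {ι ι' : Type} [Fintype ι] [DecidableEq ι] [Fintype ι'] [DecidableEq ι']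
    {r : ℕ} {S : Subgroup (GL ι F)} {S' : Subgroup (GL ι' F)} (ψ : S ≃* S') (h : IsSymplecticTypeGroup r S) :
    IsSymplecticTypeGroup r S' := by
  refine ⟨h.prime, h.pGroup.of_equiv ψ, ?_, ?_⟩
  · intro A hchar hcomm
    have hc := h.cyclic_of_characteristic (A.comap ψ.toMonoidHom)
      (Cfsg.Agent.Lib.Helper14.ReidxLeaf.p9_char_comap _ hchar)
      (Cfsg.Agent.Lib.Helper14.ReidxLeaf.p9_comm_comap _ A hcomm)
    exact isCyclic_of_surjective (Cfsg.Agent.Lib.Helper14.ReidxLeaf.p9_comapEquiv ψ A)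
      (Cfsg.Agent.Lib.Helper14.ReidxLeaf.p9_comapEquiv ψ A).surjective
  · rw [← Monoid.exponent_eq_of_mulEquiv ψ]
    exact h.exponent_eq

/-- T1 -/
theorem isSymplecticTypeGroup_tr (e : Fin n ≃ κ) (P : GL (Fin n) F) {r : ℕ} {S : Subgroup (GL κ F)}
    (h : IsSymplecticTypeGroup r S) : IsSymplecticTypeGroup r (tr e P S) :=
  isSymplecticTypeGroup_of_mulEquiv (trEquiv e P S) h

/-- T2a -/
theorem card_tr (e : Fin n ≃ κ) (P : GL (Fin n) F) (S : Subgroup (GL κ F)) : Nat.card (tr e P S) = Nat.card S :=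
  (Nat.card_congr (trEquiv e P S).toEquiv).symm

/-- T2b -/
theorem card_center_tr (e : Fin n ≃ κ) (P : GL (Fin n) F) (S : Subgroup (GL κ F)) :
    Nat.card (Subgroup.center (tr e P S)) = Nat.card (Subgroup.center S) :=
  (Nat.card_congr (Subgroup.centerCongr (trEquiv e P S)).toEquiv).symm

/-- conjugation preserves absolute irreducibility -/
theorem absIrr_conj {ι : Type} [Fintype ι] [DecidableEq ι] (P : GL ι F) {X : Set (Matrix ι ι F)}
    (h : ActsAbsolutelyIrreducibly X) :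
    ActsAbsolutelyIrreducibly ((fun M => (P : Matrix ι ι F) * M * ((P⁻¹ : GL ι F) : Matrix ι ι F)) '' X) := by
  have hPP : ((P⁻¹ : GL ι F) : Matrix ι ι F) * (P : Matrix ι ι F) = 1 := by
    rw [← Units.val_mul, inv_mul_cancel, Units.val_one]
  have hPP' : (P : Matrix ι ι F) * ((P⁻¹ : GL ι F) : Matrix ι ι F) = 1 := by
    rw [← Units.val_mul, mul_inv_cancel, Units.val_one]
  constructor
  · intro W hW
    have hinv : ∀ s ∈ X, (W.comap (Matrix.toLin' (P : Matrix ι ι F))).map (Matrix.toLin' s) ≤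
        W.comap (Matrix.toLin' (P : Matrix ι ι F)) := by
      intro s hs
      rintro _ ⟨v, hv, rfl⟩
      rw [SetLike.mem_coe, Submodule.mem_comap, Matrix.toLin'_apply] at hv
      rw [Submodule.mem_comap, Matrix.toLin'_apply, Matrix.toLin'_apply]
      have h1 := hW _ ⟨s, hs, rfl⟩
      have h2 : Matrix.toLin' ((P : Matrix ι ι F) * s * ((P⁻¹ : GL ι F) : Matrix ι ι F))
          ((P : Matrix ι ι F) *ᵥ v) ∈ W := h1 ⟨_, hv, rfl⟩
      rw [Matrix.toLin'_apply, Matrix.mulVec_mulVec, Matrix.mul_assoc, hPP, Matrix.mul_one,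
        ← Matrix.mulVec_mulVec] at h2
      exact h2
    rcases h.1 _ hinv with h0 | h1
    · left
      rw [eq_bot_iff]
      intro w hw
      have : ((P⁻¹ : GL ι F) : Matrix ι ι F) *ᵥ w ∈ W.comap (Matrix.toLin' (P : Matrix ι ι F)) := by
        rw [Submodule.mem_comap, Matrix.toLin'_apply, Matrix.mulVec_mulVec, hPP', Matrix.one_mulVec]
        exact hw
      rw [h0, Submodule.mem_bot] at this
      rw [Submodule.mem_bot]
      have h2 := congrArg (fun v => (P : Matrix ι ι F) *ᵥ v) this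
      simp only [Matrix.mulVec_mulVec, hPP', Matrix.one_mulVec, Matrix.mulVec_zero] at h2
      exact h2
    · right
      rw [eq_top_iff]
      intro w _
      have : ((P⁻¹ : GL ι F) : Matrix ι ι F) *ᵥ w ∈ W.comap (Matrix.toLin' (P : Matrix ι ι F)) := by
        rw [h1]; exact Submodule.mem_top
      rw [Submodule.mem_comap, Matrix.toLin'_apply, Matrix.mulVec_mulVec, hPP', Matrix.one_mulVec] at this
      exact this
  · intro M hM
    have h2 : ∀ s ∈ X, (((P⁻¹ : GL ι F) : Matrix ι ι F) * M * (P : Matrix ι ι F)) * s =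
        s * (((P⁻¹ : GL ι F) : Matrix ι ι F) * M * (P : Matrix ι ι F)) := by
      intro s hs
      have h3 := hM _ ⟨s, hs, rfl⟩
      calc ((P⁻¹ : GL ι F) : Matrix ι ι F) * M * (P : Matrix ι ι F) * s
          = ((P⁻¹ : GL ι F) : Matrix ι ι F) * (M * ((P : Matrix ι ι F) * s * ((P⁻¹ : GL ι F) : Matrix ι ι F))) *
              (P : Matrix ι ι F) := by
            simp only [Matrix.mul_assoc]
            rw [hPP, Matrix.mul_one]
        _ = ((P⁻¹ : GL ι F) : Matrix ι ι F) * (((P : Matrix ι ι F) * s * ((P⁻¹ : GL ι F) : Matrix ι ι F)) * M) *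
              (P : Matrix ι ι F) := by rw [h3]
        _ = s * (((P⁻¹ : GL ι F) : Matrix ι ι F) * M * (P : Matrix ι ι F)) := by
            simp only [← Matrix.mul_assoc]
            rw [hPP, Matrix.one_mul]
    obtain ⟨c, hc⟩ := h.2 _ h2
    refine ⟨c, ?_⟩
    calc M = (P : Matrix ι ι F) * (((P⁻¹ : GL ι F) : Matrix ι ι F) * M * (P : Matrix ι ι F)) *
          ((P⁻¹ : GL ι F) : Matrix ι ι F) := by
          simp only [← Matrix.mul_assoc]
          rw [hPP', Matrix.one_mul, Matrix.mul_assoc, hPP', Matrix.mul_one]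
      _ = c • 1 := by
          rw [hc, Matrix.mul_smul, Matrix.mul_one, Matrix.smul_mul, hPP']

lemma matrixSet_tr (e : Fin n ≃ κ) (P : GL (Fin n) F) (S : Subgroup (GL κ F)) :
    matrixSet (tr e P S) =
      (fun M => (P : Matrix (Fin n) (Fin n) F) * M * ((P⁻¹ : GL (Fin n) F) : Matrix (Fin n) (Fin n) F)) ''
        (Cfsg.Agent.Lib.Helper18.Reidx.rm e.symm '' matrixSet S) := by
  ext M
  constructor
  · rintro ⟨y, hy, rfl⟩
    obtain ⟨x, hx, rfl⟩ := (mem_tr e P S y).1 hy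
    exact ⟨_, ⟨(x : Matrix κ κ F), ⟨x, hx, rfl⟩, rfl⟩, rfl⟩
  · rintro ⟨_, ⟨_, ⟨x, hx, rfl⟩, rfl⟩, rfl⟩
    exact ⟨trHom e P x, (mem_tr e P S _).2 ⟨x, hx, rfl⟩, rfl⟩

/-- T3 -/
theorem absIrr_tr (e : Fin n ≃ κ) (P : GL (Fin n) F) {S : Subgroup (GL κ F)}
    (h : ActsAbsolutelyIrreducibly (matrixSet S)) : ActsAbsolutelyIrreducibly (matrixSet (tr e P S)) := by
  rw [matrixSet_tr]
  exact absIrr_conj P (Cfsg.Agent.Lib.Helper14.ReidxLeaf.p9_actsAbsolutelyIrreducibly e.symm h)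

/-- the matrix identity behind T4/T5: in coordinates with scalar Gram matrix, `x = conjR e P g` is unitary iff `g` is -/
theorem unitary_tr_iff (σ : F →+* F) (e : Fin n ≃ κ) (P : GL (Fin n) F) (c : F) (hc : c ≠ 0)
    (hstd : gramIn σ 1 e P = c • (1 : Matrix κ κ F)) (g : Matrix κ κ F) :
    (conjR e P g)ᵀ * 1 * (conjR e P g).map σ = 1 ↔ gᵀ * g.map σ = 1 := by
  constructor
  · intro hx
    have h1 := Cfsg.Agent.Lib.Helper25.AFLeaf.fix_gramIn σ 1 e P g (conjR e P g) rfl hx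
    rw [hstd, Matrix.mul_smul, Matrix.mul_one, Matrix.smul_mul] at h1
    have h2 : c • (gᵀ * g.map σ) = c • (1 : Matrix κ κ F) := h1
    have h3 := congrArg (fun M => c⁻¹ • M) h2
    simp only [smul_smul, inv_mul_cancel₀ hc, one_smul] at h3
    exact h3
  · intro hg
    have hPP : ((P⁻¹ : GL (Fin n) F) : Matrix (Fin n) (Fin n) F) * (P : Matrix (Fin n) (Fin n) F) = 1 := by
      rw [← Units.val_mul, inv_mul_cancel, Units.val_one]
    have hPP' : (P : Matrix (Fin n) (Fin n) F) * ((P⁻¹ : GL (Fin n) F) : Matrix (Fin n) (Fin n) F) = 1 := by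
      rw [← Units.val_mul, mul_inv_cancel, Units.val_one]
    -- `A = Pᵀ`, `B = σ(P)`
    have hAi : ((P⁻¹ : GL (Fin n) F) : Matrix (Fin n) (Fin n) F)ᵀ * (P : Matrix (Fin n) (Fin n) F)ᵀ = 1 := by
      rw [← Matrix.transpose_mul, hPP', Matrix.transpose_one]
    have hBi : (P : Matrix (Fin n) (Fin n) F).map σ * ((P⁻¹ : GL (Fin n) F) : Matrix (Fin n) (Fin n) F).map σ = 1 := by
      rw [← Matrix.map_mul, hPP', Matrix.map_one _ (map_zero σ) (map_one σ)]
    have hAB : (P : Matrix (Fin n) (Fin n) F)ᵀ * (P : Matrix (Fin n) (Fin n) F).map σ = c • 1 := by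
      have h1 := congrArg (Matrix.reindex e.symm e.symm) hstd
      unfold gramIn at h1
      have h2 : Matrix.reindex e.symm e.symm (Matrix.reindex e e
          ((P : Matrix (Fin n) (Fin n) F)ᵀ * 1 * (P : Matrix (Fin n) (Fin n) F).map σ)) =
          (P : Matrix (Fin n) (Fin n) F)ᵀ * 1 * (P : Matrix (Fin n) (Fin n) F).map σ := by
        ext i j
        simp [Matrix.reindex_apply]
      have h3 : Matrix.reindex e.symm e.symm (c • (1 : Matrix κ κ F)) = c • (1 : Matrix (Fin n) (Fin n) F) := by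
        ext i j
        simp [Matrix.reindex_apply, Matrix.one_apply]
      rw [h2, h3, Matrix.mul_one] at h1
      exact h1
    obtain ⟨RM, hRM⟩ : ∃ RM : Matrix (Fin n) (Fin n) F, RM = Matrix.reindex e.symm e.symm g := ⟨_, rfl⟩
    have hRMg : RMᵀ * RM.map σ = 1 := by
      rw [hRM, ← Cfsg.Agent.Lib.Helper25.AFLeaf.af_reidx_symm_transpose,
        ← Cfsg.Agent.Lib.Helper25.AFLeaf.af_reidx_symm_map]
      have h1 := congrArg (Matrix.reindex e.symm e.symm) hg
      have h3 : Matrix.reindex e.symm e.symm (1 : Matrix κ κ F) = (1 : Matrix (Fin n) (Fin n) F) := by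
        ext i j
        simp [Matrix.reindex_apply, Matrix.one_apply]
      rw [h3] at h1
      rw [← h1]
      simp only [Matrix.reindex_apply]
      rw [Matrix.submatrix_mul_equiv]
    have hx' : conjR e P g = (P : Matrix (Fin n) (Fin n) F) * RM * ((P⁻¹ : GL (Fin n) F) : Matrix (Fin n) (Fin n) F) := by
      rw [hRM]; rfl
    rw [hx', Matrix.mul_one, Matrix.transpose_mul, Matrix.transpose_mul, Matrix.map_mul, Matrix.map_mul]
    calc ((P⁻¹ : GL (Fin n) F) : Matrix (Fin n) (Fin n) F)ᵀ * (RMᵀ * (P : Matrix (Fin n) (Fin n) F)ᵀ) *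
          ((P : Matrix (Fin n) (Fin n) F).map σ * RM.map σ * ((P⁻¹ : GL (Fin n) F) : Matrix (Fin n) (Fin n) F).map σ)
        = ((P⁻¹ : GL (Fin n) F) : Matrix (Fin n) (Fin n) F)ᵀ * RMᵀ *
            ((P : Matrix (Fin n) (Fin n) F)ᵀ * (P : Matrix (Fin n) (Fin n) F).map σ) * RM.map σ *
            ((P⁻¹ : GL (Fin n) F) : Matrix (Fin n) (Fin n) F).map σ := by simp only [Matrix.mul_assoc]
      _ = ((P⁻¹ : GL (Fin n) F) : Matrix (Fin n) (Fin n) F)ᵀ * (c • (RMᵀ * RM.map σ)) *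
            ((P⁻¹ : GL (Fin n) F) : Matrix (Fin n) (Fin n) F).map σ := by
          rw [hAB]
          simp only [Matrix.mul_smul, Matrix.smul_mul, Matrix.mul_one, Matrix.mul_assoc]
      _ = ((P⁻¹ : GL (Fin n) F) : Matrix (Fin n) (Fin n) F)ᵀ *
            ((P : Matrix (Fin n) (Fin n) F)ᵀ * (P : Matrix (Fin n) (Fin n) F).map σ) *
            ((P⁻¹ : GL (Fin n) F) : Matrix (Fin n) (Fin n) F).map σ := by rw [hRMg, hAB]
      _ = (((P⁻¹ : GL (Fin n) F) : Matrix (Fin n) (Fin n) F)ᵀ * (P : Matrix (Fin n) (Fin n) F)ᵀ) *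
            ((P : Matrix (Fin n) (Fin n) F).map σ * ((P⁻¹ : GL (Fin n) F) : Matrix (Fin n) (Fin n) F).map σ) := by
          simp only [Matrix.mul_assoc]
      _ = 1 := by rw [hAi, hBi, Matrix.mul_one]

/-- T4 -/
theorem tr_mem_GU {q : ℕ} {σ : F ≃+* F} (hσ : IsFrob q σ) (e : Fin n ≃ κ) (P : GL (Fin n) F) (c : F) (hc : c ≠ 0)
    (hstd : gramIn (σ : F →+* F) 1 e P = c • (1 : Matrix κ κ F)) (g : GL κ F)
    (hg : (g : Matrix κ κ F)ᵀ * (g : Matrix κ κ F).map σ = 1) :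
    MulAut.conj P (glReindex e.symm g) ∈ Cfsg.GU n F q := by
  have hx := (unitary_tr_iff (σ : F →+* F) e P c hc hstd (g : Matrix κ κ F)).2 hg
  have hf := hσ.rform (n := n)
  intro u v
  show hermForm n F q (conjR e P (g : Matrix κ κ F) *ᵥ u) (conjR e P (g : Matrix κ κ F) *ᵥ v) = hermForm n F q u v
  rw [hf.rep, Cfsg.Agent.Lib.Helper7.AschLeaf.dot_conj, gramF_hermForm hσ.q_ne_zero, hx, ← gramF_hermForm (n := n) (F := F) hσ.q_ne_zero,
    ← hf.rep]

/-- T5 -/
theorem std_of_mem_GU {q : ℕ} {σ : F ≃+* F} (hσ : IsFrob q σ) (e : Fin n ≃ κ) (P : GL (Fin n) F) (c : F) (hc : c ≠ 0)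
    (hstd : gramIn (σ : F →+* F) 1 e P = c • (1 : Matrix κ κ F)) (g : GL κ F)
    (hg : MulAut.conj P (glReindex e.symm g) ∈ Cfsg.GU n F q) :
    (g : Matrix κ κ F)ᵀ * (g : Matrix κ κ F).map σ = 1 := by
  apply (unitary_tr_iff (σ : F →+* F) e P c hc hstd (g : Matrix κ κ F)).1
  have h1 := fixJ_of_le_Isom (hσ.rform (n := n)) (X := Isom (hermForm n F q)) le_rfl _ hg
  rw [gramF_hermForm hσ.q_ne_zero] at h1
  exact h1

/-- T6 -/
theorem normalizer_tr (e : Fin n ≃ κ) (P : GL (Fin n) F) (S : Subgroup (GL κ F)) (g : GL κ F)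
    (h1 : ∀ x ∈ S, g * x * g⁻¹ ∈ S) (h2 : ∀ x ∈ S, g⁻¹ * x * g ∈ S) :
    MulAut.conj P (glReindex e.symm g) ∈ subgroupNormalizer (tr e P S) := by
  unfold subgroupNormalizer
  rw [Subgroup.mem_normalizer_iff]
  intro y
  rw [← trHom_apply]
  constructor
  · intro hy
    obtain ⟨x, hx, rfl⟩ := (mem_tr e P S y).1 hy
    rw [← map_mul, ← map_inv, ← map_mul]
    exact (mem_tr e P S _).2 ⟨_, h1 x hx, rfl⟩
  · intro hy
    obtain ⟨x, hx, hxy⟩ := (mem_tr e P S _).1 hy
    have : y = trHom e P (g⁻¹ * x * g) := by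
      rw [map_mul, map_mul, map_inv, hxy]
      group
    rw [this]
    exact (mem_tr e P S _).2 ⟨_, h2 x hx, rfl⟩

end transport

end Cfsg.Agent.Lib.Helper12.UAE3Leaf
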