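import Mathlib
import Cfsg.Agent.Lib.Helper15.AschUCtx
import Cfsg.Agent.Lib.Helper15.AschCL2
import Cfsg.Agent.Lib.Helper4.AschA1
import Cfsg.Agent.Lib.Helper20.AschTS
import Cfsg.Agent.Lib.Helper29.AschKF2
import Cfsg.Agent.Lib.Helper29.AschS1K1
import Cfsg.Agent.Lib.Helper12.OAschOB

/-!
S5663 (Aschbacher for `GU_n(q)`, planner helper15), market U, packet U-GRAM: `exists_gram_of_symp`, `exists_gram_of_quad`
(exact signatures of `notes/S5663_leaves.lean`).  Taker: helper12.
By-product: `exists_gram_of_bilinear` (any non-degenerate bilinear form fixed by `X`).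
-/

set_option autoImplicit false
set_option linter.unusedSectionVars false
set_option linter.unusedVariables false

namespace Cfsg.Agent.Lib.Helper12.UALeaf
open Matrix Cfsg Cfsg.Geo Cfsg.Agent.Lib.Helper20.Asch Cfsg.Agent.Lib.Helper20.FC
open Cfsg.Agent.Lib.Helper15.AschU Cfsg.Agent.Lib.Helper15.AschForm
open scoped Kronecker

variable {F : Type*} [Field F] [Fintype F] {n q : ℕ} {H N : Subgroup (GL (Fin n) F)}

/-- Gram matrix of a non-degenerate bilinear form fixed by `X` -/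
theorem exists_gram_of_bilinear (f : (Fin n → F) → (Fin n → F) → F) (hb : IsBilinearForm f)
    (hnd : IsNondegenerateForm f) (X : Subgroup (GL (Fin n) F)) (hfix : FixesForm (matrixSet X) f) :
    ∃ S : Matrix (Fin n) (Fin n) F, S.det ≠ 0 ∧
      ∀ x ∈ X, (x : Matrix (Fin n) (Fin n) F)ᵀ * S * (x : Matrix (Fin n) (Fin n) F) = S := by
  refine ⟨gramMatrix f, Cfsg.Agent.Lib.Helper12.OAschLeaf.det_gramMatrix_ne_zero hb hnd, fun x hx => ?_⟩
  apply Cfsg.Agent.Lib.Helper29.SpAsch.bfm_injective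
  intro u v
  rw [← Cfsg.Agent.Lib.Helper29.SpAsch.bfm_mulVec, ← Cfsg.Agent.Lib.Helper12.OAschLeaf.eq_bfm_gramMatrix hb,
    ← Cfsg.Agent.Lib.Helper12.OAschLeaf.eq_bfm_gramMatrix hb]
  exact hfix _ ⟨x, hx, rfl⟩ u v

/-- Gram matrix of a symplectic form -/
theorem exists_gram_of_symp (f : (Fin n → F) → (Fin n → F) → F) (hf : IsSymplecticForm f)
    (X : Subgroup (GL (Fin n) F)) (hfix : FixesForm (matrixSet X) f) :
    ∃ S : Matrix (Fin n) (Fin n) F, S.det ≠ 0 ∧
      ∀ x ∈ X, (x : Matrix (Fin n) (Fin n) F)ᵀ * S * (x : Matrix (Fin n) (Fin n) F) = S :=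
  exists_gram_of_bilinear f hf.bilinear hf.nondegenerate X hfix

/-- Gram matrix of the polar form of a non-degenerate quadratic form -/
theorem exists_gram_of_quad (Q : (Fin n → F) → F) (hQ : IsNondegenerateQuadraticForm Q)
    (X : Subgroup (GL (Fin n) F)) (hfix : FixesQuadForm (matrixSet X) Q) :
    ∃ S : Matrix (Fin n) (Fin n) F, S.det ≠ 0 ∧
      ∀ x ∈ X, (x : Matrix (Fin n) (Fin n) F)ᵀ * S * (x : Matrix (Fin n) (Fin n) F) = S := by
  apply exists_gram_of_bilinear (QuadraticMap.polar Q) hQ.polar_bilinear hQ.nondegenerate X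
  intro s hs u v
  unfold QuadraticMap.polar
  rw [← Matrix.mulVec_add, hfix s hs, hfix s hs, hfix s hs]

end Cfsg.Agent.Lib.Helper12.UALeaf
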