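import Mathlib
import Cfsg.Agent.Lib.Helper15.AschUCtx
import Cfsg.Agent.Lib.Helper15.AschPRFData
import Cfsg.Agent.Lib.Helper15.AschDSC1
import Cfsg.Agent.Lib.Helper26.AschNL
import Cfsg.Agent.Lib.Helper27.AschKF3
import Cfsg.Agent.Lib.Helper27.AschSW
import Cfsg.Agent.Lib.Helper29.AschKF2
import Cfsg.Agent.Lib.Helper20.AschTS
import Cfsg.Agent.Lib.Helper4.AschA4
import Cfsg.Agent.Lib.Helper20.AschA89F2J
import Cfsg.Agent.Lib.Helper15.UAGU

/-!
S5663 (Aschbacher for `GU_n(q)`, planner helper15), market U, packet U-WU3 `c7_of_std` + U-TU2 `c4_of_kron`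
(exact signatures of `notes/S5663_U_leaves.lean`).  Taker: helper12.
By-products: `gramMatrix_hermForm`, `isTensorPowerFormStructure_of_std`, `isTensorFormStructure_of_kron`.
-/

set_option autoImplicit false
set_option linter.unusedSectionVars false
set_option linter.unusedVariables false

namespace Cfsg.Agent.Lib.Helper12.UALeaf
open Matrix Cfsg Cfsg.Geo Cfsg.Agent.Lib.Helper20.Asch Cfsg.Agent.Lib.Helper20.FC
open Cfsg.Agent.Lib.Helper15.AschU Cfsg.Agent.Lib.Helper15.AschForm Cfsg.Agent.Lib.Helper18.AschA89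
open scoped Kronecker

variable {F : Type*} [Field F] [Fintype F] {n q : ℕ} {H N : Subgroup (GL (Fin n) F)}

/-- the Gram matrix of the standard hermitian form is `1` -/
lemma gramMatrix_hermForm (hq : q ≠ 0) (m : ℕ) : gramMatrix (hermForm m F q) = 1 := by
  rw [gramMatrix_eq_gramF]
  exact gramF_hermForm hq

/-- a scalar Gram matrix in the basis `(e, P)` is a tensor power structure of the standard hermitian form -/
lemma isTensorPowerFormStructure_of_std {σ : F ≃+* F} (hσ : IsFrob q σ) {m t : ℕ}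
    (e : Fin n ≃ (Fin t → Fin m)) (P : GL (Fin n) F) (c : F) (hc : c ≠ 0)
    (hstd : gramIn (σ : F →+* F) 1 e P = c • (1 : Matrix (Fin t → Fin m) (Fin t → Fin m) F)) :
    IsTensorPowerFormStructure (fun x : F => x ^ q) (hermForm n F q) (hermForm m F q) e P := by
  refine ⟨c, hc, fun x y => ?_⟩
  rw [Cfsg.Agent.Lib.Helper15.UALeaf.hermForm_gramIn hσ e P x y, hstd, gramMatrix_hermForm hσ.q_ne_zero m]
  unfold formOfGram
  rw [Finset.mul_sum]
  apply Finset.sum_congr rfl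
  intro a _
  rw [Finset.mul_sum]
  apply Finset.sum_congr rfl
  intro b _
  have h1 : (∏ i, (1 : Matrix (Fin m) (Fin m) F) (a i) (b i)) = (1 : Matrix (Fin t → Fin m) (Fin t → Fin m) F) a b := by
    rw [← Cfsg.Agent.Lib.Helper20.AschLeaf.ptens_one m t]
    rfl
  rw [h1, Matrix.smul_apply, smul_eq_mul]
  ring

/-- (WU3) CLASS 7 -/
theorem c7_of_std (h : UCtx q H) {σ : F ≃+* F} (hσ : IsFrob q σ) {m t : ℕ} (hm : 3 ≤ m) (ht : 2 ≤ t)
    (hex : ¬ (q = 2 ∧ m = 3)) (e : Fin n ≃ (Fin t → Fin m)) (P : GL (Fin n) F) (c : F) (hc : c ≠ 0)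
    (hstd : gramIn (σ : F →+* F) 1 e P = c • (1 : Matrix (Fin t → Fin m) (Fin t → Fin m) F))
    (hH : H ≤ tensorWreathSubgroup m t e P) : GeoU q H :=
  GeoU.of_C7 m t e P (hermForm m F q) hm ht hex (Cfsg.Agent.Lib.Helper15.UALeaf.hermForm_unitaryPow hσ m)
    (isTensorPowerFormStructure_of_std hσ e P c hc hstd) (le_inf hH h.le)

/-- a Kronecker Gram matrix in the basis `(e, P)` is a tensor structure of the two forms -/
lemma isTensorFormStructure_of_kron {σ : F ≃+* F} (hσ : IsFrob q σ) {s k : ℕ}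
    (e : Fin n ≃ Fin s × Fin k) (P : GL (Fin n) F)
    (G₁ : Matrix (Fin s) (Fin s) F) (G₂ : Matrix (Fin k) (Fin k) F)
    (hG : gramIn (σ : F →+* F) 1 e P = G₁ ⊗ₖ G₂) :
    IsTensorFormStructure (fun x : F => x ^ q) (hermForm n F q) (sform (σ : F →+* F) G₁) (sform (σ : F →+* F) G₂) e P := by
  refine ⟨1, one_ne_zero, fun x y => ?_⟩
  rw [Cfsg.Agent.Lib.Helper15.UALeaf.hermForm_gramIn hσ e P x y, hG, gramMatrix_sform, gramMatrix_sform, one_mul]

/-- (TU2) CLASS 4 -/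
theorem c4_of_kron (h : UCtx q H) {σ : F ≃+* F} (hσ : IsFrob q σ) {s k : ℕ} (hs : 2 ≤ s) (hsk : s < k)
    (e : Fin n ≃ Fin s × Fin k) (P : GL (Fin n) F) (hH : H ≤ tensorProductSubgroup s k e P)
    (G₁ : Matrix (Fin s) (Fin s) F) (G₂ : Matrix (Fin k) (Fin k) F) (h1 : (G₁.map σ)ᵀ = G₁) (h2 : (G₂.map σ)ᵀ = G₂)
    (hd1 : G₁.det ≠ 0) (hd2 : G₂.det ≠ 0) (hG : gramIn (σ : F →+* F) 1 e P = G₁ ⊗ₖ G₂) : GeoU q H :=
  GeoU.of_C4 s k e P (sform (σ : F →+* F) G₁) (sform (σ : F →+* F) G₂) hs hsk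
    (hσ.unitaryPow_sform G₁ h1 hd1) (hσ.unitaryPow_sform G₂ h2 hd2)
    (isTensorFormStructure_of_kron hσ e P G₁ G₂ hG) (le_inf hH h.le)

end Cfsg.Agent.Lib.Helper12.UALeaf
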