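import Mathlib
import Cfsg.Agent.Lib.Helper15.AschUCtx
import Cfsg.Agent.Lib.Helper4.AschA4
import Cfsg.Agent.Lib.Helper6.TWQ1
import Cfsg.Agent.Lib.Helper20.AschA89F2J
import Cfsg.Agent.Lib.Helper1.AFKrP
import Cfsg.Agent.Lib.Helper25.AFCb
import Cfsg.Agent.Lib.Helper25.AFTns
import Cfsg.Agent.Lib.Helper23.SpPrfB5
import Cfsg.Agent.Lib.Helper22.UnitRA
import Cfsg.Agent.Lib.Helper22.PolUnD

/-!
S5663 (Aschbacher for `GU_n(q)`, planner helper15), sub-block T2 (sub-planner helper14), leaf T2-C `coeff_fixed`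
(exact signature of `notes/S5663_T2_leaves.lean`).  Taker: helper12.  By-product: `gram_diag_fixed`.
-/

set_option autoImplicit false
set_option linter.unusedSectionVars false
set_option linter.unusedVariables false

namespace Cfsg.Agent.Lib.Helper12.UALeaf
open Matrix Cfsg Cfsg.Geo Cfsg.Agent.Lib.Helper20.Asch
open Cfsg.Agent.Lib.Helper15.AschU Cfsg.Agent.Lib.Helper15.AschForm Cfsg.Agent.Lib.Helper18.AschA89

variable {F : Type*} [Field F] [Fintype F] {n q : ℕ} {H : Subgroup (GL (Fin n) F)}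

/-- a diagonal entry of `Pᵀ * 1 * σ(P)` is fixed by the involution `σ` -/
theorem gram_diag_fixed (σ : F →+* F) (hinv : ∀ a : F, σ (σ a) = a) (P : Matrix (Fin n) (Fin n) F) (i : Fin n) :
    σ ((Pᵀ * (1 : Matrix (Fin n) (Fin n) F) * P.map σ) i i) = (Pᵀ * (1 : Matrix (Fin n) (Fin n) F) * P.map σ) i i := by
  rw [Matrix.mul_one, Matrix.mul_apply, map_sum]
  refine Finset.sum_congr rfl (fun k _ => ?_)
  rw [map_mul, Matrix.map_apply, Matrix.transpose_apply, hinv, mul_comm]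

/-- (T2-C) -/
theorem coeff_fixed {σ : F ≃+* F} (hσ : IsFrob q σ) {t : ℕ} (e : Fin n ≃ (Fin t → Fin 2)) (P : GL (Fin n) F) (c : F)
    (hstd : gramIn (σ : F →+* F) 1 e P = c • (1 : Matrix (Fin t → Fin 2) (Fin t → Fin 2) F)) : σ c = c := by
  have hx := congrFun (congrFun hstd (fun _ => 0)) (fun _ => 0)
  rw [Matrix.smul_apply, Matrix.one_apply_eq, smul_eq_mul, mul_one] at hx
  unfold gramIn at hx
  rw [Matrix.reindex_apply, Matrix.submatrix_apply] at hx
  have h := gram_diag_fixed (σ : F →+* F) hσ.invol (P : Matrix (Fin n) (Fin n) F) (e.symm (fun _ => 0))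
  rw [hx] at h
  exact h

end Cfsg.Agent.Lib.Helper12.UALeaf
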