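import Mathlib
import Cfsg.Agent.Lib.Helper15.AschUCtx
import Cfsg.Agent.Lib.Helper4.AschA4
import Cfsg.Agent.Lib.Helper6.TWQ1
import Cfsg.Agent.Lib.Helper20.AschA89F2J
import Cfsg.Agent.Lib.Helper1.AFKrP
import Cfsg.Agent.Lib.Helper25.AFCb
import Cfsg.Agent.Lib.Helper25.AFTns
import Cfsg.Agent.Lib.Helper23.SpPrfB5
import Cfsg.Agent.Lib.Helper22.UnitRA
import Cfsg.Agent.Lib.Helper22.PolUnD

/-!
S5663 (Aschbacher for `GU_n(q)`, planner helper15), sub-block T2 (sub-planner helper14), leaf T2-E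
`mem_subfieldSubgroup_of_entries` (exact signature of `notes/S5663_T2_leaves.lean`).  Taker: helper12.
-/

set_option autoImplicit false
set_option linter.unusedSectionVars false
set_option linter.unusedVariables false

namespace Cfsg.Agent.Lib.Helper12.UALeaf
open Matrix Cfsg Cfsg.Geo Cfsg.Agent.Lib.Helper20.Asch
open Cfsg.Agent.Lib.Helper15.AschU Cfsg.Agent.Lib.Helper15.AschForm Cfsg.Agent.Lib.Helper18.AschA89

variable {F : Type*} [Field F] [Fintype F] {n q : ℕ} {H : Subgroup (GL (Fin n) F)}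

/-- (T2-E) -/
theorem mem_subfieldSubgroup_of_entries (F₀ : Subfield F) {κ : Type} [Fintype κ] [DecidableEq κ] (e : Fin n ≃ κ)
    (P : GL (Fin n) F) (g : GL κ F) (μ : F) (hμ : μ ≠ 0)
    (hent : ∀ x y, ∃ a ∈ F₀, (g : Matrix κ κ F) x y = μ * a) :
    P * glReindex e.symm g * P⁻¹ ∈ subfieldSubgroup F₀ P := by
  have hmem : glReindex e.symm g ∈
      (Matrix.GeneralLinearGroup.map (F₀.subtype : F₀ →+* F)).range ⊔ scalars (Fin n) F := by
    refine Cfsg.Agent.Lib.Helper4.AschLeaf.mem_range_sup_scalars F₀ _ μ hμ (fun i j => ?_)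
    obtain ⟨a, ha, hga⟩ := hent (e i) (e j)
    refine ⟨a, ha, ?_⟩
    rw [Cfsg.Agent.Lib.Helper25.AFLeaf.cb_glReindex_val, Matrix.reindex_apply, Matrix.submatrix_apply]
    simpa using hga
  exact ⟨_, hmem, rfl⟩

end Cfsg.Agent.Lib.Helper12.UALeaf
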