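import Mathlib
import Cfsg.Agent.Lib.Helper15.AschUCtx
import Cfsg.Agent.Lib.Helper4.AschA4
import Cfsg.Agent.Lib.Helper6.TWQ1
import Cfsg.Agent.Lib.Helper20.AschA89F2J
import Cfsg.Agent.Lib.Helper1.AFKrP
import Cfsg.Agent.Lib.Helper25.AFCb
import Cfsg.Agent.Lib.Helper25.AFTns
import Cfsg.Agent.Lib.Helper23.SpPrfB5
import Cfsg.Agent.Lib.Helper22.UnitRA
import Cfsg.Agent.Lib.Helper22.PolUnD
import Cfsg.Agent.Lib.Helper1.UADsc
import Cfsg.Agent.Lib.Helper12.UABU

/-!
S5663 (Aschbacher for `GU_n(q)`, planner helper15), sub-block T2 (sub-planner helper14), leaf T2-F `exists_fixedSubfield_card`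
(exact signature of `notes/S5663_T2_leaves.lean`).  Taker: helper12.
-/

set_option autoImplicit false
set_option linter.unusedSectionVars false
set_option linter.unusedVariables false

namespace Cfsg.Agent.Lib.Helper12.UALeaf
open Matrix Cfsg Cfsg.Geo Cfsg.Agent.Lib.Helper20.Asch
open Cfsg.Agent.Lib.Helper15.AschU Cfsg.Agent.Lib.Helper15.AschForm Cfsg.Agent.Lib.Helper18.AschA89

variable {F : Type*} [Field F] [Fintype F] {n q : ℕ} {H : Subgroup (GL (Fin n) F)}

/-- (T2-F) -/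
theorem exists_fixedSubfield_card (hF : Fintype.card F = q ^ 2) {σ : F ≃+* F} (hσ : IsFrob q σ) :
    ∃ F₀ : Subfield F, (∀ a : F, a ∈ F₀ ↔ σ a = a) ∧ Fintype.card F = Nat.card F₀ ^ 2 := by
  classical
  obtain ⟨F₀, -, hF₀⟩ := exists_fixedSubfield hσ
  refine ⟨F₀, hF₀, ?_⟩
  have hcard : Nat.card F₀ = q := by
    rw [Nat.card_eq_fintype_card, Fintype.card_subtype]
    have hfil : (Finset.univ.filter (fun a : F => a ∈ F₀)) = Finset.univ.filter (fun a : F => σ a = a) := by
      ext a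
      simp only [Finset.mem_filter, Finset.mem_univ, true_and]
      exact hF₀ a
    rw [hfil]
    exact Cfsg.Agent.Lib.Helper1.UALeaf.card_fixed hσ hF
  rw [hcard, hF]

end Cfsg.Agent.Lib.Helper12.UALeaf
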