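import Mathlib
import Cfsg.Agent.Lib.Helper15.AschUCtx
import Cfsg.Agent.Lib.Helper4.AschA4
import Cfsg.Agent.Lib.Helper6.TWQ1
import Cfsg.Agent.Lib.Helper20.AschA89F2J
import Cfsg.Agent.Lib.Helper1.AFKrP
import Cfsg.Agent.Lib.Helper25.AFCb
import Cfsg.Agent.Lib.Helper25.AFTns
import Cfsg.Agent.Lib.Helper23.SpPrfB5
import Cfsg.Agent.Lib.Helper22.UnitRA
import Cfsg.Agent.Lib.Helper22.PolUnD
import Cfsg.Agent.Lib.Helper15.UAGU

/-!
S5663 (Aschbacher for `GU_n(q)`, planner helper15), sub-block T2 (sub-planner helper14), leaf T2-G `form_in_Jt`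
(exact signature of `notes/S5663_T2_leaves.lean`).  Taker: helper12.  By-product: `form_in_gram` (any Gram matrix `c' • G`).
-/

set_option autoImplicit false
set_option linter.unusedSectionVars false
set_option linter.unusedVariables false

namespace Cfsg.Agent.Lib.Helper12.UALeaf
open Matrix Cfsg Cfsg.Geo Cfsg.Agent.Lib.Helper20.Asch
open Cfsg.Agent.Lib.Helper15.AschU Cfsg.Agent.Lib.Helper15.AschForm Cfsg.Agent.Lib.Helper18.AschA89

variable {F : Type*} [Field F] [Fintype F] {n q : ℕ} {H : Subgroup (GL (Fin n) F)}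

/-- the hermitian form in a basis whose Gram matrix is `c' • G` -/
theorem form_in_gram {κ : Type} [Fintype κ] [DecidableEq κ] {σ : F ≃+* F} (hσ : IsFrob q σ) (e : Fin n ≃ κ)
    (P : GL (Fin n) F) (c' : F) (G : Matrix κ κ F)
    (hJ : gramIn (σ : F →+* F) 1 e P = c' • G) (u v : Fin n → F) :
    hermForm n F q ((P : Matrix (Fin n) (Fin n) F) *ᵥ u) ((P : Matrix (Fin n) (Fin n) F) *ᵥ v) =
      c' * ((u ∘ e.symm) ⬝ᵥ G *ᵥ (fun b => σ (v (e.symm b)))) := by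
  have h := Cfsg.Agent.Lib.Helper15.UALeaf.hermForm_gramIn hσ e P (u ∘ e.symm) (v ∘ e.symm)
  have hu : (u ∘ e.symm) ∘ e = u := by
    funext i
    simp
  have hv : (v ∘ e.symm) ∘ e = v := by
    funext i
    simp
  rw [hu, hv] at h
  rw [h, formOfGram_eq_dot, hJ, Matrix.smul_mulVec, dotProduct_smul, smul_eq_mul]
  have hfun : (fun b => ((v ∘ e.symm) b) ^ q) = fun b => σ (v (e.symm b)) := by
    funext b
    rw [hσ.pow]
    rfl
  rw [hfun]

/-- (T2-G) -/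
theorem form_in_Jt {σ : F ≃+* F} (hσ : IsFrob q σ) {t : ℕ} (e : Fin n ≃ (Fin t → Fin 2)) (P : GL (Fin n) F) (c' : F)
    (hJ : gramIn (σ : F →+* F) 1 e P = c' • (Jt t : Matrix (Fin t → Fin 2) (Fin t → Fin 2) F)) (u v : Fin n → F) :
    hermForm n F q ((P : Matrix (Fin n) (Fin n) F) *ᵥ u) ((P : Matrix (Fin n) (Fin n) F) *ᵥ v) =
      c' * ((u ∘ e.symm) ⬝ᵥ (Jt t : Matrix (Fin t → Fin 2) (Fin t → Fin 2) F) *ᵥ (fun b => σ (v (e.symm b)))) :=
  form_in_gram hσ e P c' _ hJ u v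

end Cfsg.Agent.Lib.Helper12.UALeaf
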