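import Mathlib
import Cfsg.Agent.Lib.Helper15.AschUCtx
import Cfsg.Agent.Lib.Helper4.AschA4
import Cfsg.Agent.Lib.Helper6.TWQ1
import Cfsg.Agent.Lib.Helper20.AschA89F2J
import Cfsg.Agent.Lib.Helper1.AFKrP
import Cfsg.Agent.Lib.Helper25.AFCb
import Cfsg.Agent.Lib.Helper25.AFTns
import Cfsg.Agent.Lib.Helper23.SpPrfB5
import Cfsg.Agent.Lib.Helper22.UnitRA
import Cfsg.Agent.Lib.Helper22.PolUnD

/-!
S5663 (Aschbacher for `GU_n(q)`, planner helper15), sub-block T2 (sub-planner helper14), packet T2-H: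
H0 `Jt_pairing_mem`, H1 `two_eq_zero_of_not_odd`, H2 `even_of_equiv` (exact signatures of `notes/S5663_T2_leaves.lean`).
Taker: helper12.  By-products: `J2_mem_subfield`, `Jt_mem_subfield`.
-/

set_option autoImplicit false
set_option linter.unusedSectionVars false
set_option linter.unusedVariables false

namespace Cfsg.Agent.Lib.Helper12.UALeaf
open Matrix Cfsg Cfsg.Geo Cfsg.Agent.Lib.Helper20.Asch
open Cfsg.Agent.Lib.Helper15.AschU Cfsg.Agent.Lib.Helper15.AschForm Cfsg.Agent.Lib.Helper18.AschA89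

variable {F : Type*} [Field F] [Fintype F] {n q : ℕ} {H : Subgroup (GL (Fin n) F)}

/-- the entries of `J2` lie in every subfield -/
theorem J2_mem_subfield (F₀ : Subfield F) (i j : Fin 2) : (J2 : Matrix (Fin 2) (Fin 2) F) i j ∈ F₀ := by
  fin_cases i <;> fin_cases j
  · simp only [J2]
    exact F₀.zero_mem
  · simp only [J2]
    exact F₀.one_mem
  · simp only [J2]
    exact F₀.neg_mem F₀.one_mem
  · simp only [J2]
    exact F₀.zero_mem

/-- the entries of `Jt t` lie in every subfield -/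
theorem Jt_mem_subfield (F₀ : Subfield F) (t : ℕ) (a b : Fin t → Fin 2) :
    (Jt t : Matrix (Fin t → Fin 2) (Fin t → Fin 2) F) a b ∈ F₀ := by
  rw [Jt, ptens_apply]
  exact Subfield.prod_mem _ (fun i _ => J2_mem_subfield F₀ _ _)

/-- (T2-H0) -/
theorem Jt_pairing_mem (F₀ : Subfield F) {t : ℕ} (x y : (Fin t → Fin 2) → F) (hx : ∀ a, x a ∈ F₀) (hy : ∀ a, y a ∈ F₀) :
    x ⬝ᵥ (Jt t : Matrix (Fin t → Fin 2) (Fin t → Fin 2) F) *ᵥ y ∈ F₀ := by
  simp only [dotProduct, Matrix.mulVec]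
  refine Subfield.sum_mem _ (fun a _ => ?_)
  refine F₀.mul_mem (hx a) ?_
  refine Subfield.sum_mem _ (fun b _ => ?_)
  exact F₀.mul_mem (Jt_mem_subfield F₀ t a b) (hy b)

/-- (T2-H1) -/
theorem two_eq_zero_of_not_odd (hF : Fintype.card F = q ^ 2) (hq : ¬ Odd q) : (2 : F) = 0 := by
  have hqe : Even q := Nat.not_odd_iff_even.1 hq
  have hev : Fintype.card F % 2 = 0 := by
    rw [hF]
    obtain ⟨k, hk⟩ := hqe
    subst hk
    have : (k + k) ^ 2 = 2 * (2 * k * k) := by ring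
    rw [this]
    exact Nat.mul_mod_right 2 _
  have hchar : ringChar F = 2 := FiniteField.even_card_iff_char_two.2 hev
  have : CharP F 2 := ringChar.of_eq hchar
  exact CharTwo.two_eq_zero

/-- (T2-H2) -/
theorem even_of_equiv {t : ℕ} (ht : 1 ≤ t) (e : Fin n ≃ (Fin t → Fin 2)) : Even n := by
  have hcard : n = 2 ^ t := by
    have := Fintype.card_congr e
    simpa using this
  rw [hcard]
  obtain ⟨s, rfl⟩ : ∃ s, t = s + 1 := ⟨t - 1, by omega⟩
  rw [pow_succ]
  exact even_two.mul_left _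

end Cfsg.Agent.Lib.Helper12.UALeaf
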