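/-
helper12: S5655 (SU_n C2), k = 1, non-dense chain, leaf GROW `all_isotropic`:
if all isotropic vectors of weight at most two are centres of full root groups of `M` then all
isotropic vectors are.
-/
import Mathlib
import Cfsg.Agent.Lib.Helper18.UNdDefs
import Cfsg.Agent.Lib.Helper18.UDenseMain
import Cfsg.Agent.Lib.Helper14.Unitary2

set_option autoImplicit false

namespace Cfsg.Agent.Lib.Helper12.UNdLeaf
open Cfsg Matrix Cfsg.Agent.Lib.Helper11.Mono Cfsg.Agent.Lib.Helper15.MonoLeaf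
  Cfsg.Agent.Lib.Helper2.MonoLeaf Cfsg.Agent.Lib.Helper5.SUMax Cfsg.Agent.Lib.Helper5.HermBridge
  Cfsg.Agent.Lib.Helper5.UForm Cfsg.Agent.Lib.Helper18.UNd Cfsg.Agent.Lib.Helper5.SUGen

variable {F : Type*} [Field F] [Fintype F] {n q : ℕ}

/-! ### 2 × 2 blocks -/

/-- the action of a `2 × 2` block on the coordinates `a`, `b` -/
def grBlk (a b : Fin n) (B11 B12 B21 B22 : F) (z : Fin n → F) : Fin n → F :=
  fun i => if i = a then B11 * z a + B12 * z b else if i = b then B21 * z a + B22 * z b else z i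

omit [Fintype F] in
theorem gr_transvection_mulVec (i j : Fin n) (c : F) (z : Fin n → F) :
    Matrix.transvection i j c *ᵥ z = fun k => if k = i then z i + c * z j else z k := by
  unfold Matrix.transvection
  rw [Matrix.add_mulVec, Matrix.one_mulVec, Matrix.single_mulVec_eq]
  ext k
  by_cases hk : k = i
  · rw [if_pos hk, hk]
    simp
  · rw [if_neg hk]
    simp [hk]

omit [Fintype F] in
/-- a block of determinant one with `B21 ≠ 0` is realised by a matrix of determinant one -/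
theorem gr_exists_blk {a b : Fin n} (hab : a ≠ b) (B11 B12 B21 B22 : F) (h21 : B21 ≠ 0)
    (hdet : B11 * B22 - B12 * B21 = 1) :
    ∃ G : Matrix (Fin n) (Fin n) F, G.det = 1 ∧ ∀ z, G *ᵥ z = grBlk a b B11 B12 B21 B22 z := by
  refine ⟨Matrix.transvection a b ((B11 - 1) / B21) * Matrix.transvection b a B21 *
    Matrix.transvection a b ((B22 - 1) / B21), ?_, ?_⟩
  · rw [Matrix.det_mul, Matrix.det_mul, Matrix.det_transvection_of_ne a b hab,
      Matrix.det_transvection_of_ne b a hab.symm, Matrix.det_transvection_of_ne a b hab,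
      one_mul, one_mul]
  · intro z
    rw [← Matrix.mulVec_mulVec, ← Matrix.mulVec_mulVec, gr_transvection_mulVec,
      gr_transvection_mulVec, gr_transvection_mulVec]
    ext i
    unfold grBlk
    by_cases hia : i = a
    · subst hia
      simp only [if_true, if_neg hab, if_neg hab.symm]
      field_simp
      linear_combination (z b) * hdet
    · by_cases hib : i = b
      · subst hib
        simp only [if_true, if_neg hab, if_neg hab.symm]
        field_simp
        ring
      · simp only [if_neg hia, if_neg hib]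

theorem gr_add_pow (hF : Fintype.card F = q ^ 2) (u w : F) : (u + w) ^ q = u ^ q + w ^ q := by
  rw [← frobQ_apply hF, map_add, frobQ_apply, frobQ_apply]

/-- a unitary block preserves the form -/
theorem gr_blk_herm (hF : Fintype.card F = q ^ 2) {a b : Fin n} (hab : a ≠ b)
    (B11 B12 B21 B22 : F)
    (E1 : B11 * B11 ^ q + B21 * B21 ^ q = 1) (E2 : B12 * B12 ^ q + B22 * B22 ^ q = 1)
    (E3 : B11 * B12 ^ q + B21 * B22 ^ q = 0) (E3' : B12 * B11 ^ q + B22 * B21 ^ q = 0)
    (z z' : Fin n → F) :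
    Cfsg.hermForm n F q (grBlk a b B11 B12 B21 B22 z) (grBlk a b B11 B12 B21 B22 z') =
      Cfsg.hermForm n F q z z' := by
  unfold Cfsg.hermForm
  rw [← sub_eq_zero, ← Finset.sum_sub_distrib,
    Finset.sum_eq_add_of_mem a b (Finset.mem_univ _) (Finset.mem_univ _) hab]
  · unfold grBlk
    simp only [if_true, if_neg hab.symm]
    rw [gr_add_pow hF, gr_add_pow hF, mul_pow, mul_pow, mul_pow, mul_pow]
    linear_combination (z a * z' a ^ q) * E1 + (z b * z' b ^ q) * E2 + (z a * z' b ^ q) * E3 +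
      (z b * z' a ^ q) * E3'
  · intro c _ hc
    unfold grBlk
    rw [if_neg hc.1, if_neg hc.2, if_neg hc.1, if_neg hc.2, sub_self]

/-- an element of `SU_n` supported on the coordinates `a`, `b` which kills the `a`-coordinate of
the vectors with `(z_a, z_b) = (x, y)`, when `N(x) + N(y) ≠ 0` -/
theorem gr_exists_kill (hF : Fintype.card F = q ^ 2) {a b : Fin n} (hab : a ≠ b) (x y : F)
    (hx : x ≠ 0) (hc : x ^ (q + 1) + y ^ (q + 1) ≠ 0) :
    ∃ A : ↥(Cfsg.SU n F q), (∀ (z : Fin n → F) (i : Fin n), i ≠ a → i ≠ b → av A z i = z i) ∧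
      (∀ z : Fin n → F, z a = 0 → z b = 0 → av A z = z) ∧
      (∀ z : Fin n → F, z a = x → z b = y → av A z a = 0) := by
  have hf := herm_unitary (n := n) hF
  obtain ⟨X, hX⟩ : ∃ X, X = x ^ q := ⟨_, rfl⟩
  obtain ⟨Y, hY⟩ : ∃ Y, Y = y ^ q := ⟨_, rfl⟩
  have hXq : X ^ q = x := by rw [hX, pow_q_pow_q hF]
  have hYq : Y ^ q = y := by rw [hY, pow_q_pow_q hF]
  have hc0 : x * X + y * Y ≠ 0 := by
    rw [hX, hY, ← pow_succ', ← pow_succ']
    exact hc
  have hcq : (x * X + y * Y) ^ q = x * X + y * Y := by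
    rw [gr_add_pow hF, mul_pow, mul_pow, hXq, hYq, hX, hY]
    ring
  obtain ⟨s, hs⟩ := norm_surj hf.involutive hf.ne_refl (x * X + y * Y) hc0
    (by rw [frobQ_apply]; exact hcq)
  rw [frobQ_apply] at hs
  obtain ⟨S, hS⟩ : ∃ S, S = s ^ q := ⟨_, rfl⟩
  have hSq : S ^ q = s := by rw [hS, pow_q_pow_q hF]
  rw [← hS] at hs
  have hs0 : s ≠ 0 := by
    rintro rfl
    rw [zero_mul] at hs
    exact hc0 hs.symm
  have hS0 : S ≠ 0 := by
    rintro rfl
    rw [mul_zero] at hs
    exact hc0 hs.symm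
  have hX0 : X ≠ 0 := by rw [hX]; exact pow_ne_zero _ hx
  have h21 : X / S ≠ 0 := div_ne_zero hX0 hS0
  have hdet : (y / s) * (Y / S) - (-x / s) * (X / S) = 1 := by
    field_simp
    linear_combination (-1 : F) * hs
  have p11 : (y / s) ^ q = Y / S := by rw [div_pow, ← hY, ← hS]
  have p12 : (-x / s) ^ q = -X / S := by
    rw [div_pow, ← hS, neg_pow, ← hX]
    congr 1
    have h1 : ((-1 : F)) ^ q = frobQ hF (-1) := (frobQ_apply hF _).symm
    rw [h1, map_neg, map_one]
    ring
  have p21 : (X / S) ^ q = x / s := by rw [div_pow, hXq, hSq]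
  have p22 : (Y / S) ^ q = y / s := by rw [div_pow, hYq, hSq]
  have E1 : (y / s) * (y / s) ^ q + (X / S) * (X / S) ^ q = 1 := by
    rw [p11, p21]
    field_simp
    linear_combination (-1 : F) * hs
  have E2 : (-x / s) * (-x / s) ^ q + (Y / S) * (Y / S) ^ q = 1 := by
    rw [p12, p22]
    field_simp
    linear_combination (-1 : F) * hs
  have E3 : (y / s) * (-x / s) ^ q + (X / S) * (Y / S) ^ q = 0 := by
    rw [p12, p22]
    field_simp
    ring
  have E3' : (-x / s) * (y / s) ^ q + (Y / S) * (X / S) ^ q = 0 := by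
    rw [p11, p21]
    field_simp
    ring
  obtain ⟨G, hGdet, hG⟩ := gr_exists_blk (n := n) hab (y / s) (-x / s) (X / S) (Y / S) h21 hdet
  have hmem : (⟨G, hGdet⟩ : Matrix.SpecialLinearGroup (Fin n) F) ∈ Cfsg.SU n F q := by
    intro u v
    change Cfsg.hermForm n F q (G *ᵥ u) (G *ᵥ v) = Cfsg.hermForm n F q u v
    rw [hG, hG]
    exact gr_blk_herm hF hab _ _ _ _ E1 E2 E3 E3' u v
  refine ⟨⟨⟨G, hGdet⟩, hmem⟩, ?_, ?_, ?_⟩
  · intro z i hia hib
    change (G *ᵥ z) i = z i
    rw [hG]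
    unfold grBlk
    rw [if_neg hia, if_neg hib]
  · intro z hza hzb
    change G *ᵥ z = z
    rw [hG]
    ext i
    unfold grBlk
    by_cases hia : i = a
    · rw [if_pos hia, hza, hzb, mul_zero, mul_zero, add_zero, hia, hza]
    · by_cases hib : i = b
      · rw [if_neg hia, if_pos hib, hza, hzb, mul_zero, mul_zero, add_zero, hib, hzb]
      · rw [if_neg hia, if_neg hib]
  · intro z hza hzb
    change (G *ᵥ z) a = 0
    rw [hG]
    unfold grBlk
    rw [if_pos rfl, hza, hzb]
    field_simp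
    ring

/-! ### the coordinate plane `E_{ab}` -/

/-- the coordinate plane `⟨e_a, e_b⟩` -/
def grE (F : Type*) [Field F] {n : ℕ} (a b : Fin n) : Submodule F (Fin n → F) where
  carrier := {z | ∀ i, i ≠ a → i ≠ b → z i = 0}
  add_mem' := by
    intro x y hx hy i hia hib
    rw [Pi.add_apply, hx i hia hib, hy i hia hib, add_zero]
  zero_mem' := fun i _ _ => rfl
  smul_mem' := by
    intro c x hx i hia hib
    rw [Pi.smul_apply, hx i hia hib, smul_zero]

omit [Fintype F] in
theorem gr_mem_E {a b : Fin n} {z : Fin n → F} :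
    z ∈ grE F a b ↔ ∀ i, i ≠ a → i ≠ b → z i = 0 := Iff.rfl

theorem gr_eq_w2 {a b : Fin n} (hab : a ≠ b) {z : Fin n → F} (hz : z ∈ grE F a b) :
    z = w2 a b (z a) (z b) := by
  ext i
  by_cases hia : i = a
  · rw [hia, w2_apply_left hab]
  · by_cases hib : i = b
    · rw [hib, w2_apply_right hab]
    · rw [w2_apply_off hia hib, hz i hia hib]

theorem gr_w2_mem (a b : Fin n) (α β : F) : w2 a b α β ∈ grE F a b := by
  intro i hia hib
  exact w2_apply_off hia hib α β

theorem gr_ND_E {a b : Fin n} (hab : a ≠ b) : ND (Cfsg.hermForm n F q) (grE F a b) := by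
  intro u hu hu0
  have hex : u a ≠ 0 ∨ u b ≠ 0 := by
    by_contra hcon
    push Not at hcon
    apply hu0
    ext i
    by_cases hia : i = a
    · rw [hia, hcon.1]; rfl
    · by_cases hib : i = b
      · rw [hib, hcon.2]; rfl
      · exact hu i hia hib
  rcases hex with h | h
  · refine ⟨Pi.single a 1, ?_, ?_⟩
    · intro i hia _
      exact Pi.single_eq_of_ne hia _
    · rw [herm_single_left]
      exact pow_ne_zero _ h
  · refine ⟨Pi.single b 1, ?_, ?_⟩
    · intro i _ hib
      exact Pi.single_eq_of_ne hib _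
    · rw [herm_single_left]
      exact pow_ne_zero _ h

theorem gr_finrank_E {a b : Fin n} (hab : a ≠ b) : Module.finrank F (grE F a b) = 2 := by
  have hli : LinearIndependent F ![(Pi.single a (1 : F) : Fin n → F), Pi.single b 1] := by
    rw [LinearIndependent.pair_iff]
    intro s t hst
    have h1 := congrFun hst a
    have h2 := congrFun hst b
    simp only [Pi.add_apply, Pi.smul_apply, smul_eq_mul, Pi.single_eq_same,
      Pi.single_eq_of_ne hab, Pi.single_eq_of_ne hab.symm, mul_one, mul_zero, add_zero, zero_add,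
      Pi.zero_apply] at h1 h2
    exact ⟨h1, h2⟩
  have hspan : grE F a b =
      Submodule.span F (Set.range ![(Pi.single a (1 : F) : Fin n → F), Pi.single b 1]) := by
    rw [Matrix.range_cons_cons_empty]
    apply le_antisymm
    · intro z hz
      rw [Submodule.mem_span_pair]
      refine ⟨z a, z b, ?_⟩
      have := gr_eq_w2 hab hz
      unfold w2 at this
      exact this.symm
    · rw [Submodule.span_le]
      intro z hz
      rcases hz with rfl | rfl
      · intro i hia _
        exact Pi.single_eq_of_ne hia _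
      · intro i _ hib
        exact Pi.single_eq_of_ne hib _
  rw [hspan, finrank_span_eq_card hli, Fintype.card_fin]

/-- the weight of a vector -/
noncomputable def grW (z : Fin n → F) : ℕ := {i : Fin n | z i ≠ 0}.ncard

omit [Fintype F] in
theorem gr_weight_lt {z z' : Fin n → F} (a : Fin n) (hza : z a ≠ 0) (hz'a : z' a = 0)
    (h : ∀ i, z' i ≠ 0 → z i ≠ 0) : grW z' < grW z := by
  unfold grW
  apply Set.ncard_lt_ncard _ (Set.toFinite _)
  refine ⟨fun i hi => h i hi, fun hcon => ?_⟩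
  exact hcon hza hz'a

omit [Fintype F] in
theorem gr_weight_le {z z' : Fin n → F} (h : ∀ i, z' i ≠ 0 → z i ≠ 0) : grW z' ≤ grW z := by
  unfold grW
  exact Set.ncard_le_ncard (fun i hi => h i hi) (Set.toFinite _)

theorem gr_q_ne_zero (hF : Fintype.card F = q ^ 2) : q ≠ 0 := by
  rintro rfl
  have h1 : 1 < Fintype.card F := Fintype.one_lt_card
  rw [hF] at h1
  norm_num at h1

/-- the isotropic vectors of the coordinate plane are centres of full root groups -/
theorem gr_U_Sset (hF : Fintype.card F = q ^ 2) (M : Subgroup (GL (Fin n) F))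
    (h2 : ∀ (a b : Fin n) (α β : F), a ≠ b → α ^ (q + 1) + β ^ (q + 1) = 0 →
      w2 a b α β ∈ Sset hF M) {a b : Fin n} (hab : a ≠ b) :
    ∀ u ∈ grE F a b, Cfsg.hermForm n F q u u = 0 → u ∈ Sset hF M := by
  intro u hu huu
  rw [gr_eq_w2 hab hu] at huu ⊢
  rw [herm_w2_self hab] at huu
  exact h2 a b _ _ hab huu

/-- Case (A): a pair of coordinates in the support with `N_a + N_b ≠ 0`. -/
theorem gr_caseA (hF : Fintype.card F = q ^ 2) (M : Subgroup (GL (Fin n) F))
    (h2 : ∀ (a b : Fin n) (α β : F), a ≠ b → α ^ (q + 1) + β ^ (q + 1) = 0 →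
      w2 a b α β ∈ Sset hF M)
    (W : ℕ) (IH : ∀ z : Fin n → F, Cfsg.hermForm n F q z z = 0 → grW z < W → z ∈ Sset hF M)
    (v : Fin n → F) (hvv : Cfsg.hermForm n F q v v = 0) (hW : grW v ≤ W) {a b : Fin n}
    (hab : a ≠ b) (hva : v a ≠ 0) (hvb : v b ≠ 0) (hc : v a ^ (q + 1) + v b ^ (q + 1) ≠ 0) :
    v ∈ Sset hF M := by
  have hq0 := gr_q_ne_zero hF
  obtain ⟨A, hA1, hA2, hA3⟩ := gr_exists_kill (n := n) hF hab (v a) (v b) hva hc
  have hU := gr_U_Sset hF M h2 hab
  have hPU : PU q (grE F a b) :=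
    PU_of_ND hF 2 _ (gr_ND_E hab) (gr_finrank_E hab) (le_refl 2) (by omega)
  have hAT : A ∈ TU q (grE F a b) := by
    apply hPU
    · intro x hx i hia hib
      rw [hA1 x i hia hib]
      exact hx i hia hib
    · intro x hx
      apply hA2
      · have := hx (Pi.single a 1) (fun i hia _ => Pi.single_eq_of_ne hia _)
        rwa [herm_single_right hq0] at this
      · have := hx (Pi.single b 1) (fun i _ hib => Pi.single_eq_of_ne hib _)
        rwa [herm_single_right hq0] at this
  have hv' : av A v ∈ Sset hF M := by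
    apply IH
    · rw [av_iso]; exact hvv
    · apply lt_of_lt_of_le _ hW
      apply gr_weight_lt a hva (hA3 v rfl rfl)
      intro i hi
      by_cases hia : i = a
      · rw [hia]; exact hva
      · by_cases hib : i = b
        · rw [hib]; exact hvb
        · rwa [hA1 v i hia hib] at hi
  have := Sset_of_TU hF hU (inv_mem hAT) hv'
  rwa [av_inv_av] at this

/-- change of the norm of a coordinate under a transvection -/
theorem gr_norm_change (hF : Fintype.card F = q ^ 2) (x φ κ : F) (hκ : κ ^ q = -κ) :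
    (x + κ * φ) ^ (q + 1) - x ^ (q + 1) =
      κ * (φ * x ^ q - x * φ ^ q - κ * (φ ^ q * φ)) := by
  rw [pow_succ, pow_succ, gr_add_pow hF, mul_pow, hκ]
  ring

/-- Case (B): three coordinates `a, b, c` in the support with `N_a + N_c = 0`. -/
theorem gr_caseB (hF : Fintype.card F = q ^ 2) (hq : 3 ≤ q) (M : Subgroup (GL (Fin n) F))
    (h2 : ∀ (a b : Fin n) (α β : F), a ≠ b → α ^ (q + 1) + β ^ (q + 1) = 0 →
      w2 a b α β ∈ Sset hF M)
    (W : ℕ) (IH : ∀ z : Fin n → F, Cfsg.hermForm n F q z z = 0 → grW z < W → z ∈ Sset hF M)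
    (v : Fin n → F) (hvv : Cfsg.hermForm n F q v v = 0) (hW : grW v ≤ W) {a b c : Fin n}
    (hab : a ≠ b) (hac : a ≠ c) (hbc : b ≠ c) (hva : v a ≠ 0) (hvb : v b ≠ 0) (hvc : v c ≠ 0)
    (hac0 : v a ^ (q + 1) + v c ^ (q + 1) = 0) : v ∈ Sset hF M := by
  have hq0 := gr_q_ne_zero hF
  have hf := herm_unitary (n := n) hF
  -- two elements of norm `-1` with different conjugates
  obtain ⟨ε, hε⟩ := norm_surj hf.involutive hf.ne_refl (-1 : F) (neg_ne_zero.mpr one_ne_zero)
    (by rw [map_neg, map_one])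
  rw [frobQ_apply] at hε
  obtain ⟨θ, hθ⟩ := exists_moved hf.ne_refl
  rw [frobQ_apply] at hθ
  have hθ0 : θ ≠ 0 := by
    rintro rfl
    apply hθ
    rw [zero_pow hq0]
  have hε0 : ε ≠ 0 := by
    rintro rfl
    rw [zero_mul] at hε
    exact one_ne_zero (neg_eq_zero.mp hε.symm)
  have hεq0 : ε ^ q ≠ 0 := pow_ne_zero _ hε0
  have hθq : (θ ^ q) ^ q = θ := pow_q_pow_q hF θ
  -- ε' with φ ≠ 0
  obtain ⟨ε', hε', hφ⟩ : ∃ ε' : F, ε' * ε' ^ q = -1 ∧ v a + v b * ε' ^ q ≠ 0 := by
    by_cases h1 : v a + v b * ε ^ q ≠ 0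
    · exact ⟨ε, hε, h1⟩
    · push Not at h1
      refine ⟨ε * (θ ^ q / θ), ?_, ?_⟩
      · rw [mul_pow, div_pow, hθq]
        have hθq0 : θ ^ q ≠ 0 := pow_ne_zero _ hθ0
        field_simp
        linear_combination hε
      · rw [mul_pow, div_pow, hθq]
        intro h3
        have hθq0 : θ ^ q ≠ 0 := pow_ne_zero _ hθ0
        have h4 : v b * ε ^ q * (θ / θ ^ q - 1) = 0 := by linear_combination h3 - h1
        rcases mul_eq_zero.mp h4 with h5 | h5
        · exact (mul_ne_zero hvb hεq0) h5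
        · apply hθ
          field_simp at h5
          linear_combination -h5
  set φ := v a + v b * ε' ^ q with hφdef
  have hNφ : φ ^ q * φ ≠ 0 := mul_ne_zero (pow_ne_zero _ hφ) hφ
  -- the centre
  have hs₀iso : (1 : F) ^ (q + 1) + ε' ^ (q + 1) = 0 := by
    rw [one_pow, pow_succ']
    linear_combination hε'
  have hs₀ : w2 a b 1 ε' ∈ Sset hF M := h2 a b 1 ε' hab hs₀iso
  have hs₀' : Cfsg.hermForm n F q (w2 a b 1 ε') (w2 a b 1 ε') = 0 := by
    rw [herm_w2_self hab]; exact hs₀iso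
  have hfv : Cfsg.hermForm n F q v (w2 a b 1 ε') = φ := by
    rw [herm_w2 hq0 hab, one_pow, mul_one]
  -- the multiplier
  obtain ⟨κ₀, hκ₀0, hκ₀⟩ := exists_skew hf.involutive hf.ne_refl
  obtain ⟨y, hy0, hy⟩ := exists_norm_ne_one hF hq
  obtain ⟨κ, hκ0, hκ, hκne⟩ : ∃ κ : F, κ ≠ 0 ∧ frobQ hF κ = -κ ∧
      κ * (φ ^ q * φ) ≠ φ * v a ^ q - v a * φ ^ q := by
    by_cases h1 : κ₀ * (φ ^ q * φ) ≠ φ * v a ^ q - v a * φ ^ q
    · exact ⟨κ₀, hκ₀0, hκ₀, h1⟩
    · push Not at h1
      have hy0' : frobQ hF y ≠ 0 := by rwa [Ne, map_eq_zero]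
      refine ⟨(y * frobQ hF y) * κ₀, mul_ne_zero (mul_ne_zero hy0 hy0') hκ₀0, ?_, ?_⟩
      · rw [map_mul, map_mul, hf.involutive, hκ₀]; ring
      · intro h3
        have h4 : (y * frobQ hF y - 1) * (κ₀ * (φ ^ q * φ)) = 0 := by
          linear_combination h3 - h1
        rcases mul_eq_zero.mp h4 with h5 | h5
        · exact hy (sub_eq_zero.mp h5)
        · exact (mul_ne_zero hκ₀0 hNφ) h5
  obtain ⟨g, hgG, hg⟩ := exists_tvg hF hs₀' hκ
  have hgM : g ∈ M := hs₀ κ hκ g hg
  have hv'x : (g : Matrix (Fin n) (Fin n) F) *ᵥ v = v + (κ * φ) • w2 a b 1 ε' := by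
    rw [hg, hfv]
  have hv'a : ((g : Matrix (Fin n) (Fin n) F) *ᵥ v) a = v a + κ * φ := by
    rw [hv'x, Pi.add_apply, Pi.smul_apply, w2_apply_left hab, smul_eq_mul, mul_one]
  have hv'off : ∀ i, i ≠ a → i ≠ b → ((g : Matrix (Fin n) (Fin n) F) *ᵥ v) i = v i := by
    intro i hia hib
    rw [hv'x, Pi.add_apply, Pi.smul_apply, w2_apply_off hia hib, smul_zero, add_zero]
  have hv'iso : Cfsg.hermForm n F q ((g : Matrix (Fin n) (Fin n) F) *ᵥ v)
      ((g : Matrix (Fin n) (Fin n) F) *ᵥ v) = 0 := by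
    rw [mem_GU.mp hgG.1]; exact hvv
  have hsupp : ∀ i, ((g : Matrix (Fin n) (Fin n) F) *ᵥ v) i ≠ 0 → v i ≠ 0 := by
    intro i hi
    by_cases hia : i = a
    · rw [hia]; exact hva
    · by_cases hib : i = b
      · rw [hib]; exact hvb
      · rwa [hv'off i hia hib] at hi
  have hv'S : (g : Matrix (Fin n) (Fin n) F) *ᵥ v ∈ Sset hF M := by
    by_cases h0 : ((g : Matrix (Fin n) (Fin n) F) *ᵥ v) a = 0
    · apply IH _ hv'iso
      exact lt_of_lt_of_le (gr_weight_lt a hva h0 hsupp) hW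
    · apply gr_caseA hF M h2 W IH _ hv'iso ((gr_weight_le hsupp).trans hW) hac h0
      · rw [hv'off c hac.symm hbc.symm]; exact hvc
      · rw [hv'off c hac.symm hbc.symm, hv'a]
        have hch := gr_norm_change hF (v a) φ κ (by rw [← frobQ_apply hF]; exact hκ)
        intro h3
        have h4 : κ * (φ * v a ^ q - v a * φ ^ q - κ * (φ ^ q * φ)) = 0 := by
          linear_combination h3 - hac0 - hch
        rcases mul_eq_zero.mp h4 with h5 | h5
        · exact hκ0 h5
        · exact hκne (by linear_combination -h5)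
  have hfin := Sset_mulVec_mem hF (M.inv_mem hgM) ((Cfsg.GU n F q).inv_mem hgG.1) hv'S
  rwa [Matrix.mulVec_mulVec, ← Units.val_mul, inv_mul_cancel, Units.val_one,
    Matrix.one_mulVec] at hfin

/-- GROW. -/
theorem all_isotropic (hF : Fintype.card F = q ^ 2) (hq : 3 ≤ q) (hn : 4 ≤ n)
    (M : Subgroup (GL (Fin n) F))
    (hM : M ≤ Cfsg.GU n F q ⊓ Cfsg.Geo.specialLinear (Fin n) F)
    (h2 : ∀ (a b : Fin n) (α β : F), a ≠ b → α ^ (q + 1) + β ^ (q + 1) = 0 →
      w2 a b α β ∈ Sset hF M) :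
    ∀ v : Fin n → F, Cfsg.hermForm n F q v v = 0 → v ∈ Sset hF M := by
  suffices key : ∀ W : ℕ, ∀ v : Fin n → F, Cfsg.hermForm n F q v v = 0 → grW v = W →
      v ∈ Sset hF M from fun v hv => key (grW v) v hv rfl
  intro W
  induction W using Nat.strong_induction_on with
  | _ W ih =>
  intro v hvv hW
  have IH : ∀ z : Fin n → F, Cfsg.hermForm n F q z z = 0 → grW z < W → z ∈ Sset hF M :=
    fun z hz hlt => ih (grW z) hlt z hz rfl
  by_cases h3 : 2 < grW v
  · unfold grW at h3
    obtain ⟨a, ha, b, hb, c, hc, hab, hac, hbc⟩ := (Set.two_lt_ncard (Set.toFinite _)).mp h3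
    by_cases hN : v a ^ (q + 1) + v c ^ (q + 1) = 0
    · exact gr_caseB hF hq M h2 W IH v hvv hW.le hab hac hbc ha hb hc hN
    · exact gr_caseA hF M h2 W IH v hvv hW.le hac ha hc hN
  · push Not at h3
    classical
    -- the support is contained in a pair
    obtain ⟨T, hST, hT⟩ := Finset.exists_superset_card_eq
      (s := (Set.toFinite {i : Fin n | v i ≠ 0}).toFinset) (n := 2)
      (by rw [← Set.ncard_eq_toFinset_card _ (Set.toFinite _)]; exact h3)
      (by rw [Fintype.card_fin]; omega)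
    obtain ⟨a, b, hab, rfl⟩ := Finset.card_eq_two.mp hT
    have hvE : v ∈ grE F a b := by
      intro i hia hib
      by_contra hne
      have : i ∈ ({a, b} : Finset (Fin n)) := hST ((Set.Finite.mem_toFinset _).mpr hne)
      rw [Finset.mem_insert, Finset.mem_singleton] at this
      rcases this with h | h
      · exact hia h
      · exact hib h
    exact gr_U_Sset hF M h2 hab v hvE hvv

end Cfsg.Agent.Lib.Helper12.UNdLeaf
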