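/-
helper12: S5655 (SU_n C2), k = 1, non-dense chain, leaf ND1e `hasTv_even` (characteristic 2):
a non-monomial element with a monomial column gives a unitary transvection in `M`.
-/
import Mathlib
import Cfsg.Agent.Lib.Helper18.UNdDefs
import Cfsg.Agent.Lib.Helper18.UDenseMain
import Cfsg.Agent.Lib.Helper14.Unitary2

set_option autoImplicit false

namespace Cfsg.Agent.Lib.Helper12.UNdLeaf
open Cfsg Matrix Cfsg.Agent.Lib.Helper11.Mono Cfsg.Agent.Lib.Helper15.MonoLeaf
  Cfsg.Agent.Lib.Helper2.MonoLeaf Cfsg.Agent.Lib.Helper5.SUMax Cfsg.Agent.Lib.Helper5.HermBridge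
  Cfsg.Agent.Lib.Helper5.UForm Cfsg.Agent.Lib.Helper18.UNd

variable {F : Type*} [Field F] [Fintype F] {n q : ℕ}

omit [Fintype F] in
/-- a quadratic with non-zero leading coefficient has at most two roots -/
theorem nd1e_quad_three_roots {A B C x y z : F} (hA : A ≠ 0)
    (hx : A * x ^ 2 + B * x + C = 0) (hy : A * y ^ 2 + B * y + C = 0)
    (hz : A * z ^ 2 + B * z + C = 0) (hxy : x ≠ y) (hxz : x ≠ z) (hyz : y ≠ z) : False := by
  have h1 : (x - y) * (A * (x + y) + B) = 0 := by linear_combination hx - hy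
  have h2 : (x - z) * (A * (x + z) + B) = 0 := by linear_combination hx - hz
  have h1' : A * (x + y) + B = 0 := by
    rcases mul_eq_zero.mp h1 with h | h
    · exact absurd (sub_eq_zero.mp h) hxy
    · exact h
  have h2' : A * (x + z) + B = 0 := by
    rcases mul_eq_zero.mp h2 with h | h
    · exact absurd (sub_eq_zero.mp h) hxz
    · exact h
  have h3 : A * (y - z) = 0 := by linear_combination h1' - h2'
  rcases mul_eq_zero.mp h3 with h | h
  · exact hA h
  · exact hyz (sub_eq_zero.mp h)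

/-- the norm of `p + λ p'` as a quadratic relation in `λ` of norm one -/
theorem nd1e_norm_quad (hF : Fintype.card F = q ^ 2) (p p' : F) (lam : Fˣ)
    (hlam : lam ^ (q + 1) = 1) (v : F) (hv : (p + (lam : F) * p') ^ (q + 1) = v) :
    (p' * p ^ q) * (lam : F) ^ 2 + (p ^ (q + 1) + p' ^ (q + 1) - v) * (lam : F) + p * p' ^ q = 0 := by
  have hl : (lam : F) ^ q * (lam : F) = 1 := by
    have := congrArg Units.val hlam
    rwa [Units.val_pow_eq_pow_val, Units.val_one, pow_succ] at this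
  have hexp : (p + (lam : F) * p') ^ q = p ^ q + (lam : F) ^ q * p' ^ q := by
    rw [← frobQ_apply hF, map_add, map_mul, frobQ_apply, frobQ_apply, frobQ_apply]
  rw [pow_succ, hexp] at hv
  rw [← hv]
  linear_combination (-(p * p' ^ q) - (lam : F) * p' ^ (q + 1)) * hl

/-- pigeonhole: some `λ` of norm one has `N(p + λ p') ∉ {0, 1}` -/
theorem nd1e_exists_lam (hF : Fintype.card F = q ^ 2) (hq4 : 4 ≤ q) (p p' : F) (hp : p ≠ 0)
    (hp' : p' ≠ 0) :
    ∃ lam : Fˣ, lam ^ (q + 1) = 1 ∧ (p + (lam : F) * p') ^ (q + 1) ≠ 0 ∧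
      (p + (lam : F) * p') ^ (q + 1) ≠ 1 := by
  classical
  by_contra hcon
  push Not at hcon
  obtain ⟨S, hmemS⟩ : ∃ S : Finset Fˣ, ∀ lam : Fˣ, lam ∈ S ↔ lam ^ (q + 1) = 1 :=
    ⟨Finset.univ.filter (fun lam : Fˣ => lam ^ (q + 1) = 1), fun lam => by
      rw [Finset.mem_filter]; exact ⟨fun h => h.2, fun h => ⟨Finset.mem_univ _, h⟩⟩⟩
  have hcardS : S.card = q + 1 := by
    rw [← Cfsg.Agent.Lib.Helper14.card_normOne hF]
    rw [Nat.card_congr (Equiv.subtypeEquivRight
      (fun l => Cfsg.Agent.Lib.Helper14.mem_normOne (F := F) (q := q) l)),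
      Nat.card_eq_fintype_card, Fintype.card_subtype]
    congr 1
    ext lam
    rw [hmemS, Finset.mem_filter]
    exact ⟨fun h => ⟨Finset.mem_univ _, h⟩, fun h => h.2⟩
  have hA : p' * p ^ q ≠ 0 := mul_ne_zero hp' (pow_ne_zero _ hp)
  have hT : ∀ v : F, (S.filter (fun lam : Fˣ => (p + (lam : F) * p') ^ (q + 1) = v)).card ≤ 2 := by
    intro v
    by_contra h3
    push Not at h3
    obtain ⟨x, hx, y, hy, z, hz, hxy, hxz, hyz⟩ := Finset.two_lt_card.mp h3
    rw [Finset.mem_filter, hmemS] at hx hy hz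
    have ex := nd1e_norm_quad hF p p' x hx.1 v hx.2
    have ey := nd1e_norm_quad hF p p' y hy.1 v hy.2
    have ez := nd1e_norm_quad hF p p' z hz.1 v hz.2
    exact nd1e_quad_three_roots hA ex ey ez (fun h => hxy (Units.ext h)) (fun h => hxz (Units.ext h))
      (fun h => hyz (Units.ext h))
  have hsub : S ⊆ S.filter (fun lam : Fˣ => (p + (lam : F) * p') ^ (q + 1) = 0) ∪
      S.filter (fun lam : Fˣ => (p + (lam : F) * p') ^ (q + 1) = 1) := by
    intro lam hl
    have hl1 : lam ^ (q + 1) = 1 := (hmemS lam).mp hl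
    rw [Finset.mem_union, Finset.mem_filter, Finset.mem_filter]
    by_cases h0 : (p + (lam : F) * p') ^ (q + 1) = 0
    · exact Or.inl ⟨hl, h0⟩
    · exact Or.inr ⟨hl, hcon lam hl1 h0⟩
  have h1 := Finset.card_le_card hsub
  have h2 := Finset.card_union_le (S.filter (fun lam : Fˣ => (p + (lam : F) * p') ^ (q + 1) = 0))
    (S.filter (fun lam : Fˣ => (p + (lam : F) * p') ^ (q + 1) = 1))
  have h3 := hT 0
  have h4 := hT 1
  omega

/-- in a unitary matrix with `h e_j ∈ ⟨e_i⟩` the other columns vanish at `i` -/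
theorem nd1e_row_zero (hq0 : q ≠ 0) (H : Matrix (Fin n) (Fin n) F)
    (hGU : ∀ x y : Fin n → F,
      Cfsg.hermForm n F q (H *ᵥ x) (H *ᵥ y) = Cfsg.hermForm n F q x y)
    (j i : Fin n) (hcol : ColAt H j i) (a : Fin n) (haj : a ≠ j) : H i a = 0 := by
  have hsum : ∀ x : Fin n → F, Cfsg.hermForm n F q x (H *ᵥ Pi.single j (1 : F)) =
      x i * H i j ^ q := by
    intro x
    unfold Cfsg.hermForm
    rw [Finset.sum_eq_single i]
    · rw [Matrix.mulVec_single_one]; rfl
    · intro k _ hk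
      rw [Matrix.mulVec_single_one]
      change x k * (H k j) ^ q = 0
      rw [hcol k hk, zero_pow hq0, mul_zero]
    · intro h; exact absurd (Finset.mem_univ _) h
  have h1 := hGU (Pi.single j 1) (Pi.single j 1)
  rw [hsum, herm_single_right hq0, Pi.single_eq_same, Matrix.mulVec_single_one] at h1
  have hc : H i j ^ q ≠ 0 := by
    intro h0
    rw [h0, mul_zero] at h1
    exact zero_ne_one h1
  have h2 := hGU (Pi.single a 1) (Pi.single j 1)
  rw [hsum, herm_single_right hq0, Pi.single_eq_of_ne haj.symm, Matrix.mulVec_single_one] at h2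
  rcases mul_eq_zero.mp h2 with h | h
  · exact h
  · exact absurd h hc

omit [Fintype F] in
/-- a non-monomial invertible matrix whose `j`-th column and `i`-th row are monomial has a row
`l ≠ i` with two non-zero entries outside the column `j` -/
theorem nd1e_exists_row (H Hi : Matrix (Fin n) (Fin n) F) (hHi : H * Hi = 1) (hiH : Hi * H = 1)
    (j i : Fin n) (hcol : ColAt H j i) (hrow : ∀ a, a ≠ j → H i a = 0) (hnm : ¬ IsMono H) :
    ∃ l a b : Fin n, l ≠ i ∧ a ≠ b ∧ a ≠ j ∧ b ≠ j ∧ H l a ≠ 0 ∧ H l b ≠ 0 := by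
  by_contra hcon
  push Not at hcon
  apply hnm
  intro y
  by_cases hyj : y = j
  · exact ⟨i, hyj ▸ hcol⟩
  -- the column `y` is not zero
  have hex : ∃ l, H l y ≠ 0 := by
    by_contra h0
    push Not at h0
    have h1 : (Hi * H) y y = 1 := by rw [hiH, Matrix.one_apply_eq]
    rw [Matrix.mul_apply] at h1
    have : ∑ k, Hi y k * H k y = 0 := Finset.sum_eq_zero fun k _ => by rw [h0 k, mul_zero]
    rw [this] at h1
    exact zero_ne_one h1
  obtain ⟨l, hl⟩ := hex
  have hli : l ≠ i := by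
    rintro rfl
    exact hl (hrow y hyj)
  -- a row `k ≠ i` with `H k y ≠ 0` is supported at `y`
  have hsupp : ∀ k, H k y ≠ 0 → ∀ a, a ≠ y → H k a = 0 := by
    intro k hk a hay
    have hki : k ≠ i := by
      rintro rfl
      exact hk (hrow y hyj)
    by_cases haj : a = j
    · rw [haj]; exact hcol k hki
    · by_contra hne
      exact hk (hcon k a y hki hay haj hyj hne)
  have hprod : ∀ k, H k y ≠ 0 → ∀ m, (H * Hi) k m = H k y * Hi y m := by
    intro k hk m
    rw [Matrix.mul_apply, Finset.sum_eq_single y]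
    · intro a _ hay
      rw [hsupp k hk a hay, zero_mul]
    · intro h; exact absurd (Finset.mem_univ _) h
  refine ⟨l, fun k hkl => ?_⟩
  by_contra hk
  have h1 := hprod l hl l
  rw [hHi, Matrix.one_apply_eq] at h1
  have h2 := hprod k hk l
  rw [hHi, Matrix.one_apply_ne hkl] at h2
  have hne : Hi y l ≠ 0 := by
    intro h0
    rw [h0, mul_zero] at h1
    exact one_ne_zero h1
  rcases mul_eq_zero.mp h2.symm with h | h
  · exact hk h
  · exact hne h

/-- in characteristic 2 the monomial matrix `e_a ↦ λ e_b, e_b ↦ λ⁻¹ e_a` is the unitary transvection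
with centre `e_a + λ e_b` -/
theorem nd1e_tau_mulVec (h2 : (2 : F) = 0) (hq0 : q ≠ 0) {a b : Fin n} (hab : a ≠ b) (lam : Fˣ)
    (hlam : lam ^ (q + 1) = 1) (v : Fin n → F) :
    ((dg (tcc b a lam) * pmGL (Equiv.swap a b) : GL (Fin n) F) : Matrix (Fin n) (Fin n) F) *ᵥ v =
      v + Cfsg.hermForm n F q v (w2 a b 1 (lam : F)) • w2 a b 1 (lam : F) := by
  have hl : (lam : F) ^ q * (lam : F) = 1 := by
    have := congrArg Units.val hlam
    rwa [Units.val_pow_eq_pow_val, Units.val_one, pow_succ] at this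
  have hl0 : (lam : F) ≠ 0 := lam.ne_zero
  have hinv : ((lam⁻¹ : Fˣ) : F) = (lam : F) ^ q := by
    rw [Units.val_inv_eq_inv_val]
    exact inv_eq_of_mul_eq_one_left hl
  have hneg : ∀ x : F, x + x = 0 := fun x => by linear_combination x * h2
  rw [mono_mulVec, herm_w2 hq0 hab, one_pow, mul_one]
  ext x
  rw [Pi.add_apply, Pi.smul_apply, smul_eq_mul]
  by_cases hxa : x = a
  · rw [hxa, w2_apply_left hab, Equiv.swap_apply_left, tcc_other hab.symm, hinv]
    linear_combination -(hneg (v a))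
  · by_cases hxb : x = b
    · rw [hxb, w2_apply_right hab, Equiv.swap_apply_right, tcc_same]
      linear_combination (-(v b)) * hl - (hneg (v b))
    · rw [w2_apply_off hxa hxb, Equiv.swap_apply_of_ne_of_ne hxa hxb, tcc_off hxb hxa,
        Units.val_one]
      ring

omit [Fintype F] in
theorem nd1e_mulVec_w2 (H : Matrix (Fin n) (Fin n) F) (a b : Fin n) (α β : F) (k : Fin n) :
    (H *ᵥ w2 a b α β) k = α * H k a + β * H k b := by
  unfold w2
  rw [Matrix.mulVec_add, Matrix.mulVec_smul, Matrix.mulVec_smul, Matrix.mulVec_single_one,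
    Matrix.mulVec_single_one]
  rfl

/-- ND1-even (`2 = 0` in `F`, `q ≥ 4`). -/
theorem hasTv_even (hF : Fintype.card F = q ^ 2) (hq : 3 ≤ q) (h2 : (2 : F) = 0)
    (M : Subgroup (GL (Fin n) F))
    (hM : M ≤ Cfsg.GU n F q ⊓ Cfsg.Geo.specialLinear (Fin n) F) (hH : ContainsMonoU n q M)
    (h : GL (Fin n) F) (hh : h ∈ M) (hnm : ¬ IsMono (h : Matrix (Fin n) (Fin n) F))
    (j i : Fin n) (hcol : ColAt (h : Matrix (Fin n) (Fin n) F) j i) : HasTv hF M i := by
  have hq0 : q ≠ 0 := by omega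
  have hq4 : 4 ≤ q := by
    by_contra hcon
    have hq3 : q = 3 := by omega
    have h9 : ((Fintype.card F : ℕ) : F) = 0 := Nat.cast_card_eq_zero F
    rw [hF, hq3] at h9
    have h1 : ((3 ^ 2 : ℕ) : F) = 1 := by
      push_cast
      linear_combination 4 * h2
    rw [h1] at h9
    exact one_ne_zero h9
  have hone : (1 : F) = -1 := by linear_combination h2
  have hGU : ∀ x y : Fin n → F,
      Cfsg.hermForm n F q ((h : Matrix (Fin n) (Fin n) F) *ᵥ x)
        ((h : Matrix (Fin n) (Fin n) F) *ᵥ y) = Cfsg.hermForm n F q x y := (hM hh).1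
  have hrow := nd1e_row_zero hq0 (h : Matrix (Fin n) (Fin n) F) hGU j i hcol
  have hHi : (h : Matrix (Fin n) (Fin n) F) * ((h⁻¹ : GL (Fin n) F) : Matrix (Fin n) (Fin n) F) = 1 := by
    rw [← Units.val_mul, mul_inv_cancel, Units.val_one]
  have hiH : ((h⁻¹ : GL (Fin n) F) : Matrix (Fin n) (Fin n) F) * (h : Matrix (Fin n) (Fin n) F) = 1 := by
    rw [← Units.val_mul, inv_mul_cancel, Units.val_one]
  obtain ⟨l, a, b, hli, hab, haj, hbj, hla, hlb⟩ :=
    nd1e_exists_row (h : Matrix (Fin n) (Fin n) F) _ hHi hiH j i hcol hrow hnm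
  obtain ⟨lam, hlam, hN0, hN1⟩ := nd1e_exists_lam hF hq4 _ _ hla hlb
  have hτM : (dg (tcc b a lam) * pmGL (Equiv.swap a b) : GL (Fin n) F) ∈ M := by
    apply mono_mem_M hH
    · intro x
      unfold tcc
      split_ifs
      · exact hlam
      · rw [inv_pow, hlam, inv_one]
      · exact one_pow _
    · have hprod := congrArg Units.val (tcc_prod hab.symm lam)
      rw [Units.coe_prod, Units.val_one] at hprod
      rw [hprod, Equiv.Perm.sign_swap hab]
      simp only [Units.val_neg, Units.val_one, Int.cast_neg, Int.cast_one, one_mul]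
      exact hone.symm
  have hzk : ∀ k, ((h : Matrix (Fin n) (Fin n) F) *ᵥ w2 a b 1 (lam : F)) k =
      (h : Matrix (Fin n) (Fin n) F) k a + (lam : F) * (h : Matrix (Fin n) (Fin n) F) k b := by
    intro k
    rw [nd1e_mulVec_w2, one_mul]
  refine ⟨(h : Matrix (Fin n) (Fin n) F) *ᵥ w2 a b 1 (lam : F), 1,
    h * (dg (tcc b a lam) * pmGL (Equiv.swap a b)) * h⁻¹, l,
    M.mul_mem (M.mul_mem hh hτM) (M.inv_mem hh), ?_, hli, ?_, ?_, one_ne_zero, ?_, ?_, ?_⟩
  · rw [hzk, hrow a haj, hrow b hbj, mul_zero, add_zero]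
  · rw [hzk]
    intro h0
    apply hN0
    rw [h0, zero_pow (by omega)]
  · rw [hGU, herm_w2_self hab, one_pow]
    have hl := congrArg Units.val hlam
    rw [Units.val_pow_eq_pow_val, Units.val_one] at hl
    rw [hl]
    linear_combination h2
  · rw [map_one]
    exact hone
  · intro x
    rw [Units.val_mul, Units.val_mul, ← Matrix.mulVec_mulVec, ← Matrix.mulVec_mulVec,
      nd1e_tau_mulVec h2 hq0 hab lam hlam, Matrix.mulVec_add, Matrix.mulVec_smul,
      Matrix.mulVec_mulVec, hHi, Matrix.one_mulVec, one_mul]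
    congr 2
    rw [← hGU, Matrix.mulVec_mulVec, hHi, Matrix.one_mulVec]
  · rw [one_mul, hzk]
    exact hN1

end Cfsg.Agent.Lib.Helper12.UNdLeaf
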