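import Mathlib
import Cfsg.Agent.Lib.Helper20.UTNDefs
import Cfsg.Agent.Lib.Helper20.UTS
import Cfsg.Agent.Lib.Helper5.SUMax
import Cfsg.Agent.Lib.Helper11.UTNN1b
import Cfsg.Agent.Lib.Helper9.UTNNZ
import Cfsg.Agent.Lib.Helper7.UTNN3c

/-!
helper12: S5670 part (N), leaf N3f `ystar_col` of notes/S5670_N_leaves.lean (exact signature):
the `ys`-column of an isometry `u` fixing `A ⊗ y` pointwise and pure on `y^⊥`.
Core against the statement of N3c (`StPM`), then the exact leaf on helper7's `pure_mod`.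
-/


set_option autoImplicit false
set_option linter.unusedSectionVars false
set_option linter.unusedVariables false

namespace Cfsg.Agent.Lib.Helper12.UTNLeaf
open Matrix
open Cfsg.Agent.Lib.Helper25.Tens Cfsg.Agent.Lib.Helper25.TensLeaf Cfsg.Agent.Lib.Helper25.TensLeaves
open Cfsg.Agent.Lib.Helper20.UT Cfsg.Agent.Lib.Helper20.UTLeaf Cfsg.Agent.Lib.Helper20.UTN
open Cfsg.Agent.Lib.Helper11.UTNLeaf Cfsg.Agent.Lib.Helper9.UTNLeaf
open scoped Kronecker

variable {F : Type*} [Field F] [Fintype F] {a b q : ℕ} {M : Subgroup (GL (Idx a b) F)}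

/-- `w ↦ ctA ξ w` as a linear map -/
def ctAL (ξ : Fin a → F) : (Idx a b → F) →ₗ[F] (Fin b → F) where
  toFun w := ctA ξ w
  map_add' v w := ctA_add ξ v w
  map_smul' c v := ctA_smul ξ c v

/-- `v ↦ mv u v` as a linear map -/
def mvL {ι : Type} [Fintype ι] [DecidableEq ι] (u : GL ι F) : (ι → F) →ₗ[F] (ι → F) :=
  Matrix.toLin' (u : Matrix ι ι F)

lemma mvL_apply {ι : Type} [Fintype ι] [DecidableEq ι] (u : GL ι F) (v : ι → F) :
    mvL u v = mv u v := by
  unfold mvL mv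
  rw [Matrix.toLin'_apply]

/-- the orthogonal complement of `y` (left radical condition) as a submodule -/
def perpY (q : ℕ) (y : Fin b → F) : Submodule F (Fin b → F) where
  carrier := {z | hv q z y = 0}
  add_mem' := by
    intro z z' hz hz'
    change hv q (z + z') y = 0
    rw [hv_add_left, hz, hz', add_zero]
  zero_mem' := hv_zero_left q y
  smul_mem' := by
    intro c z hz
    change hv q (c • z) y = 0
    rw [hv_smul_left, hz, mul_zero]

lemma mem_perpY {y z : Fin b → F} : z ∈ perpY q y ↔ hv q z y = 0 := Iff.rfl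

/-- the statement of N3c `pure_mod` for given `y` -/
def StPM (q : ℕ) (a : ℕ) (y : Fin b → F) : Prop :=
  ∀ (D : (Fin a → F) →ₗ[F] (Idx a b → F)),
    (∀ z' : Fin b → F, hv q z' y = 0 → ∃ l : F, ∀ x : Fin a → F, ct (cj q z') (D x) = l • x) →
    ∃ (z₁ : Fin b → F) (Φ : Matrix (Fin a) (Fin a) F), ∀ x : Fin a → F,
      D x = pt x z₁ + pt (Φ *ᵥ x) y

/-- the `B`-part of `u` on `y^⊥`: a linear map `β'` with `u (x ⊗ z) = x ⊗ β' z` for `z ⊥ y` -/
theorem exists_betaL (hF : Fintype.card F = q ^ 2) (ha : 1 ≤ a) {y : Fin b → F}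
    {u : GL (Idx a b) F}
    (hpure : ∀ z : Fin b → F, hv q z y = 0 → ∃ z'' : Fin b → F, ∀ x : Fin a → F,
      mv u (pt x z) = pt x z'') :
    ∃ β' : (Fin b → F) →ₗ[F] (Fin b → F), ∀ z : Fin b → F, hv q z y = 0 → ∀ x : Fin a → F,
      mv u (pt x z) = pt x (β' z) := by
  set e₀ : Fin a → F := Pi.single ⟨0, ha⟩ 1 with he₀
  have he : hv q e₀ e₀ = 1 := hv_single_self _
  refine ⟨(ctAL (cj q e₀)).comp ((mvL u).comp (ptR e₀)), ?_⟩
  intro z hz x
  obtain ⟨z'', hz''⟩ := hpure z hz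
  have : ((ctAL (cj q e₀)).comp ((mvL u).comp (ptR e₀))) z = z'' := by
    change ctA (cj q e₀) (mvL u (pt e₀ z)) = z''
    rw [mvL_apply, hz'', ctA_cj_pt, he, one_smul]
  rw [this]
  exact hz'' x

/-- N3f, core: against the statement of N3c `pure_mod` -/
theorem ystar_col_core (hF : Fintype.card F = q ^ 2) (ha : 1 ≤ a) {y ys : Fin b → F}
    (hPM : StPM q a y) (hy0 : y ≠ 0)
    (hy : hv q y y = 0) (hys : hv q ys y = 1) {u : GL (Idx a b) F} (hu : u ∈ GUI a b q F)
    (hfix : ∀ x : Fin a → F, mv u (pt x y) = pt x y)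
    (hpure : ∀ z : Fin b → F, hv q z y = 0 → ∃ z'' : Fin b → F, ∀ x : Fin a → F,
      mv u (pt x z) = pt x z'') :
    ∃ (z₁ : Fin b → F) (ζ : Matrix (Fin a) (Fin a) F), ∀ x : Fin a → F,
      mv u (pt x ys) = pt x (ys + z₁) + pt (ζ *ᵥ x) y := by
  set e₀ : Fin a → F := Pi.single ⟨0, ha⟩ 1 with he₀
  have he : hv q e₀ e₀ = 1 := hv_single_self _
  have he0 : e₀ ≠ 0 := by
    intro h
    rw [h, hv_zero_left] at he
    exact zero_ne_one he
  obtain ⟨β', hβ'⟩ := exists_betaL hF ha hpure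
  -- `β'` maps `y^⊥` into itself
  have hmaps : ∀ z ∈ perpY q y, β' z ∈ perpY q y := by
    intro z hz
    have h1 := mem_GUI.1 hu (pt e₀ z) (pt e₀ y)
    rw [hβ' z hz, hfix, hv_pt, hv_pt, he, one_mul, one_mul] at h1
    rw [mem_perpY, h1]
    exact hz
  -- injective on `y^⊥`
  have hinj : Function.Injective (β'.restrict hmaps) := by
    rw [← LinearMap.ker_eq_bot, LinearMap.ker_eq_bot']
    intro z hz
    have h0 : β' z.1 = 0 := by
      have := congrArg Subtype.val hz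
      simpa using this
    have h1 := hβ' z.1 z.2 e₀
    rw [h0] at h1
    have h2 : pt e₀ (0 : Fin b → F) = 0 := by
      rw [pt_eq_zero_iff]
      exact Or.inr rfl
    rw [h2, mv_eq_zero_iff, pt_eq_zero_iff] at h1
    rcases h1 with h1 | h1
    · exact absurd h1 he0
    · exact Subtype.ext h1
  have hsurj : Function.Surjective (β'.restrict hmaps) :=
    LinearMap.injective_iff_surjective.1 hinj
  -- apply `pure_mod` to `D x = u (x ⊗ ys)`
  obtain ⟨z₁', Φ, hD⟩ := hPM ((mvL u).comp (ptL ys)) (by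
    intro z' hz'
    obtain ⟨⟨z, hz⟩, hzz'⟩ := hsurj ⟨z', hz'⟩
    have hzz'' : β' z = z' := by
      have := congrArg Subtype.val hzz'
      simpa using this
    refine ⟨hv q ys z, fun x => ?_⟩
    apply hv_ext_left hF
    intro x₁
    change hv q (ct (cj q z') (mvL u (pt x ys))) x₁ = _
    rw [mvL_apply, ← hv_pt_right, ← hzz'', ← hβ' z hz x₁, mem_GUI.1 hu, hv_pt, hv_smul_left]
    ring)
  refine ⟨z₁' - ys, Φ, fun x => ?_⟩
  have := hD x
  change mvL u (pt x ys) = _ at this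
  rw [mvL_apply] at this
  rw [this, add_sub_cancel]

/-- N3f -/
theorem ystar_col (hF : Fintype.card F = q ^ 2) (ha : 1 ≤ a) {y ys : Fin b → F} (hy0 : y ≠ 0)
    (hy : hv q y y = 0) (hys : hv q ys y = 1) {u : GL (Idx a b) F} (hu : u ∈ GUI a b q F)
    (hfix : ∀ x : Fin a → F, mv u (pt x y) = pt x y)
    (hpure : ∀ z : Fin b → F, hv q z y = 0 → ∃ z'' : Fin b → F, ∀ x : Fin a → F,
      mv u (pt x z) = pt x z'') :
    ∃ (z₁ : Fin b → F) (ζ : Matrix (Fin a) (Fin a) F), ∀ x : Fin a → F,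
      mv u (pt x ys) = pt x (ys + z₁) + pt (ζ *ᵥ x) y :=
  ystar_col_core hF ha (fun D h => Cfsg.Agent.Lib.Helper7.UTNLeaf.pure_mod hF ha hy hys D h)
    hy0 hy hys hu hfix hpure

end Cfsg.Agent.Lib.Helper12.UTNLeaf
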