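import Mathlib
import Cfsg.Agent.Lib.Helper20.UTNDefs
import Cfsg.Agent.Lib.Helper20.UTS
import Cfsg.Agent.Lib.Helper5.SUMax
import Cfsg.Agent.Lib.Helper11.UTNN1b
import Cfsg.Agent.Lib.Helper9.UTNNZ

/-!
helper12: S5670 part (N), leaf N3g `IsZ_comm_kA` of notes/S5670_N_leaves.lean (exact signature):
`[u, kA x₀ c] = E_y(ζ - α ζ α⁻¹)`.
-/


set_option autoImplicit false
set_option linter.unusedSectionVars false
set_option linter.unusedVariables false

namespace Cfsg.Agent.Lib.Helper12.UTNLeaf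
open Matrix
open Cfsg.Agent.Lib.Helper25.Tens Cfsg.Agent.Lib.Helper25.TensLeaf Cfsg.Agent.Lib.Helper25.TensLeaves
open Cfsg.Agent.Lib.Helper20.UT Cfsg.Agent.Lib.Helper20.UTLeaf Cfsg.Agent.Lib.Helper20.UTN
open Cfsg.Agent.Lib.Helper11.UTNLeaf Cfsg.Agent.Lib.Helper9.UTNLeaf
open scoped Kronecker

variable {F : Type*} [Field F] [Fintype F] {a b q : ℕ} {M : Subgroup (GL (Idx a b) F)}

/-- `c_y ∘ u = c_y` for an isometry `u` fixing `A ⊗ y` pointwise -/
lemma ct_cj_mv_of_fix (hF : Fintype.card F = q ^ 2) {y : Fin b → F} {u : GL (Idx a b) F}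
    (hu : u ∈ GUI a b q F) (hfix : ∀ x : Fin a → F, mv u (pt x y) = pt x y) (w : Idx a b → F) :
    ct (cj q y) (mv u w) = ct (cj q y) w := by
  apply hv_ext_left hF
  intro x
  rw [← hv_pt_right, ← hv_pt_right]
  conv_lhs => rw [← hfix x]
  exact mem_GUI.1 hu w (pt x y)

/-- `c_y ∘ (α ⊗ 1) = α ∘ c_y` -/
lemma ct_cj_kel_one (hF : Fintype.card F = q ^ 2) (y : Fin b → F) (α : GL (Fin a) F)
    (w : Idx a b → F) :
    ct (cj q y) (mv (kel α (1 : GL (Fin b) F) : GL (Idx a b) F) w) = mv α (ct (cj q y) w) := by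
  have := ct_cj_kel hF y α (1 : GL (Fin b) F) (fun u v => by rw [mv_one, mv_one]) w
  rwa [mv_one] at this

lemma mv_kel_one_pt (α : GL (Fin a) F) (x : Fin a → F) (z : Fin b → F) :
    mv (kel α (1 : GL (Fin b) F) : GL (Idx a b) F) (pt x z) = pt (mv α x) z := by
  rw [mv_kel_pt, mv_one]

lemma ct_zero' (η : Fin b → F) : ct η (0 : Idx a b → F) = 0 := by
  ext i; simp [ct]

lemma pt_zero_left' (y : Fin b → F) : pt (0 : Fin a → F) y = 0 := by
  rw [pt_eq_zero_iff]; exact Or.inl rfl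

lemma pt_sub_left' (x x' : Fin a → F) (y : Fin b → F) : pt (x - x') y = pt x y - pt x' y := by
  ext ⟨i, l⟩
  simp only [pt, Pi.sub_apply, sub_mul]

/-- N3g -/
theorem IsZ_comm_kA (hF : Fintype.card F = q ^ 2) {y ys : Fin b → F} (hy0 : y ≠ 0)
    (hy : hv q y y = 0) (hys : hv q ys y = 1) {u : GL (Idx a b) F} (hu : u ∈ GUI a b q F)
    (hfix : ∀ x : Fin a → F, mv u (pt x y) = pt x y)
    (hpure : ∀ z : Fin b → F, hv q z y = 0 → ∃ z'' : Fin b → F, ∀ x : Fin a → F,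
      mv u (pt x z) = pt x z'')
    (z₁ : Fin b → F) (ζ : Matrix (Fin a) (Fin a) F)
    (hcol : ∀ x : Fin a → F, mv u (pt x ys) = pt x (ys + z₁) + pt (ζ *ᵥ x) y)
    (x₀ : Fin a → F) (c : F) (hx : hv q x₀ x₀ = 0) :
    IsZ q y (u * kA q x₀ c hx * u⁻¹ * (kA q x₀ c hx)⁻¹)
      (ζ - ((tvU q x₀ c hx : GL (Fin a) F) : Matrix (Fin a) (Fin a) F) * ζ *
        (((tvU q x₀ c hx)⁻¹ : GL (Fin a) F) : Matrix (Fin a) (Fin a) F)) := by
  set α : GL (Fin a) F := tvU q x₀ c hx with hα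
  set A : Matrix (Fin a) (Fin a) F := (α : Matrix (Fin a) (Fin a) F) with hA
  set Ai : Matrix (Fin a) (Fin a) F := ((α⁻¹ : GL (Fin a) F) : Matrix (Fin a) (Fin a) F) with hAi
  have hk : (kA q x₀ c hx : GL (Idx a b) F) = kel α (1 : GL (Fin b) F) := rfl
  rw [hk]
  set k : GL (Idx a b) F := kel α (1 : GL (Fin b) F) with hk'
  have hmvα : ∀ x : Fin a → F, mv α x = A *ᵥ x := fun x => rfl
  have hAiA : Ai * A = 1 := by
    rw [hAi, hA, ← Units.val_mul, inv_mul_cancel, Units.val_one]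
  -- the key commutation relation
  have key : ∀ v' : Idx a b → F, mv u (mv k v') =
      mv k (mv u v') + pt ((ζ * A - A * ζ) *ᵥ ct (cj q y) v') y := by
    apply pt_ind'
    · rw [mv_zero, mv_zero, mv_zero, ct_zero', Matrix.mulVec_zero, pt_zero_left', add_zero]
    · intro v w hv' hw'
      rw [mv_add, mv_add, mv_add, mv_add, hv', hw', ct_add, Matrix.mulVec_add, pt_add_left]
      abel
    · intro x z
      set t : F := hv q z y with ht
      set z₀ : Fin b → F := z - t • ys with hz₀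
      have hz₀y : hv q z₀ y = 0 := by
        rw [hz₀, hv_sub_left, hv_smul_left, hys, mul_one, sub_self]
      have hz : z = z₀ + t • ys := by rw [hz₀]; abel
      obtain ⟨z₀'', hz₀''⟩ := hpure z₀ hz₀y
      have e1 : mv u (mv k (pt x z₀)) = mv k (mv u (pt x z₀)) := by
        rw [mv_kel_one_pt, hz₀'', hz₀'', mv_kel_one_pt]
      have e2 : mv u (mv k (pt x ys)) = mv k (mv u (pt x ys)) +
          pt ((ζ * A - A * ζ) *ᵥ x) y := by
        rw [mv_kel_one_pt, hcol, hcol, mv_add, mv_kel_one_pt, mv_kel_one_pt, hmvα, hmvα,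
          Matrix.sub_mulVec, pt_sub_left', ← Matrix.mulVec_mulVec, ← Matrix.mulVec_mulVec]
        abel
      rw [ct_cj_pt, ← ht, hz, pt_add_right, pt_smul_right, mv_add, mv_add, mv_add, mv_add,
        mv_smul, mv_smul, mv_smul, mv_smul, e1, e2, Matrix.mulVec_smul, pt_smul_left]
      simp only [smul_add]
      abel
  intro v
  set w : Idx a b → F := mv u⁻¹ (mv k⁻¹ v) with hw
  have hv1 : v = mv k (mv u w) := by
    rw [hw, mv_mv_inv, mv_mv_inv]
  have hg : mv (u * k * u⁻¹ * k⁻¹) v = mv u (mv k w) := by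
    rw [mv_mul, mv_mul, mv_mul]
  have hcw : ct (cj q y) v = A *ᵥ ct (cj q y) w := by
    rw [hv1, ct_cj_kel_one hF, ct_cj_mv_of_fix hF hu hfix, hmvα]
  rw [hg, key w, ← hv1, hcw, Matrix.mulVec_mulVec]
  congr 3
  rw [Matrix.sub_mul, Matrix.mul_assoc (A * ζ), hAiA, Matrix.mul_one]

end Cfsg.Agent.Lib.Helper12.UTNLeaf
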