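import Mathlib
import Cfsg.Agent.Lib.Helper20.UTNDefs
import Cfsg.Agent.Lib.Helper20.UTS
import Cfsg.Agent.Lib.Helper5.SUMax
import Cfsg.Agent.Lib.Helper11.UTNN1b
import Cfsg.Agent.Lib.Helper23.UTNAlg

/-!
helper12: S5670 part (N), leaf N5b `lemmaAH_two` (q = 2): shared definitions for the split
(`E2 p r = p r†`, `SHyp S` = the closure hypotheses on `S`).
-/


set_option autoImplicit false
set_option linter.unusedSectionVars false
set_option linter.unusedVariables false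

namespace Cfsg.Agent.Lib.Helper12.UTNLeaf
open Matrix
open Cfsg.Agent.Lib.Helper25.Tens Cfsg.Agent.Lib.Helper25.TensLeaf Cfsg.Agent.Lib.Helper25.TensLeaves
open Cfsg.Agent.Lib.Helper20.UT Cfsg.Agent.Lib.Helper20.UTLeaf Cfsg.Agent.Lib.Helper20.UTN
open scoped Kronecker

variable {F : Type*} [Field F] [Fintype F] {a b q : ℕ}

/-- the rank one matrix `p r†` -/
def E2 (p r : Fin a → F) : Matrix (Fin a) (Fin a) F := Matrix.vecMulVec p (cj 2 r)

lemma E2_mulVec (p r v : Fin a → F) : E2 p r *ᵥ v = hv 2 v r • p := by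
  unfold E2
  rw [Matrix.vecMulVec_mulVec, ← hv_eq_dot]
  ext i; simp [mul_comm]

lemma rk1_eq_E2 (x : Fin a → F) : rk1 2 x = E2 x x := rfl

/-- the closure hypotheses on `S` in N5b -/
structure SHyp (S : Set (Matrix (Fin a) (Fin a) F)) : Prop where
  add : ∀ θ θ', θ ∈ S → θ' ∈ S → θ + θ' ∈ S
  one : (1 : Matrix (Fin a) (Fin a) F) ∈ S
  conj : ∀ (x : Fin a → F) (c : F) (hx : hv 2 x x = 0), c ^ 2 = -c → ∀ θ, θ ∈ S →
      ((tvU 2 x c hx : GL (Fin a) F) : Matrix (Fin a) (Fin a) F) * θ *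
        (((tvU 2 x c hx)⁻¹ : GL (Fin a) F) : Matrix (Fin a) (Fin a) F) ∈ S
  skew : ∀ θ, θ ∈ S → adjM 2 θ = -θ
  mul : ∀ θ θ', θ ∈ S → θ' ∈ S → ∀ μ : F, μ • (θ * θ') - μ ^ 2 • (θ' * θ) ∈ S

end Cfsg.Agent.Lib.Helper12.UTNLeaf
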