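import Mathlib
import Cfsg.Agent.Lib.Helper20.UTNDefs
import Cfsg.Agent.Lib.Helper20.UTS
import Cfsg.Agent.Lib.Helper5.SUMax
import Cfsg.Agent.Lib.Helper11.UTNN1b
import Cfsg.Agent.Lib.Helper23.UTNAlg
import Cfsg.Agent.Lib.Helper12.UTNN5bDefs
import Cfsg.Agent.Lib.Helper9.UTNN5b00

/-!
helper12: S5670 part (N), leaf N5b `lemmaAH_two` of notes/S5670_N_leaves.lean (exact signature): LEMMA A for `q = 2`
(`F = F₄`).  `γ := θ + t_x θ t_x = x x'† + x' x† + σ x x†` (`x` isotropic, `x' = θ x ∉ F x`), `γ² = σ (..) + n x x†`;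
cases `(σ,n)`: `(0,1)`, `(1,0)` direct; `(0,0)` = helper9's `lemmaAH_two_case00`; `(1,1)`: `w := v₀ + γ v₀ ⊥ x, x'`,
isotropic `w` reduces to `(0,0)`, and for `hv w w = 1` the conjugate `γ' = t_{x'+w} γ t_{x'+w}` has `γ γ' = γ' γ = u u†`, `u = x + x'`.
-/


set_option autoImplicit false
set_option linter.unusedSectionVars false
set_option linter.unusedVariables false

namespace Cfsg.Agent.Lib.Helper12.UTNLeaf
open Matrix
open Cfsg.Agent.Lib.Helper25.Tens Cfsg.Agent.Lib.Helper25.TensLeaf Cfsg.Agent.Lib.Helper25.TensLeaves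
open Cfsg.Agent.Lib.Helper20.UT Cfsg.Agent.Lib.Helper20.UTLeaf Cfsg.Agent.Lib.Helper20.UTN
open Cfsg.Agent.Lib.Helper11.UTNLeaf Cfsg.Agent.Lib.Helper23.UTNLeaf
open scoped Kronecker

variable {F : Type*} [Field F] [Fintype F] {a b q : ℕ}

/-! ### the field with four elements -/

lemma f4_two (hF : Fintype.card F = 2 ^ 2) : (2 : F) = 0 := by
  have h := Nat.cast_card_eq_zero F
  rw [hF] at h
  have h' : ((2 : F)) ^ 2 = 0 := by exact_mod_cast h
  exact (pow_eq_zero_iff (two_ne_zero)).1 h'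

lemma f4_add_self (hF : Fintype.card F = 2 ^ 2) (t : F) : t + t = 0 := by
  rw [← two_mul, f4_two hF, zero_mul]

lemma f4_neg (hF : Fintype.card F = 2 ^ 2) (t : F) : -t = t :=
  neg_eq_of_add_eq_zero_left (f4_add_self hF t)

lemma f4_pow4 (hF : Fintype.card F = 2 ^ 2) (t : F) : t ^ 4 = t := by
  have := FiniteField.pow_card t
  rwa [hF] at this

lemma f4_cube (hF : Fintype.card F = 2 ^ 2) {t : F} (ht : t ≠ 0) : t ^ 3 = 1 := by
  have h := f4_pow4 hF t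
  have : t * t ^ 3 = t * 1 := by rw [mul_one, ← pow_succ', h]
  exact mul_left_cancel₀ ht this

lemma f4_exists_omega (hF : Fintype.card F = 2 ^ 2) : ∃ ω : F, ω + ω ^ 2 = 1 := by
  classical
  have hex : ∃ t : F, t ≠ 0 ∧ t ≠ 1 := by
    by_contra hcon
    push Not at hcon
    have hsub : (Finset.univ : Finset F) ⊆ {0, 1} := by
      intro t _
      by_cases ht : t = 0
      · simp [ht]
      · simp [hcon t ht]
    have h1 := Finset.card_le_card hsub
    have h2 : ({0, 1} : Finset F).card ≤ 2 := Finset.card_le_two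
    rw [Finset.card_univ, hF] at h1
    omega
  obtain ⟨t, ht0, ht1⟩ := hex
  refine ⟨t, ?_⟩
  have h3 := f4_cube hF ht0
  have h2 := f4_two hF
  have hfac : (t + 1) * (t + t ^ 2 + 1) = 0 := by
    linear_combination h3 + (t ^ 2 + t + 1) * h2
  have ht1' : t + 1 ≠ 0 := by
    intro h
    apply ht1
    have := f4_neg hF (1 : F)
    linear_combination h + this
  have := (mul_eq_zero.1 hfac).resolve_left ht1'
  linear_combination this - h2

lemma f4_idem {σ : F} (h : σ ^ 2 = σ) : σ = 0 ∨ σ = 1 := by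
  have : σ * (σ - 1) = 0 := by linear_combination h
  rcases mul_eq_zero.1 this with h1 | h1
  · exact Or.inl h1
  · exact Or.inr (sub_eq_zero.1 h1)

/-! ### calculus of the rank one matrices `E2 p r = p r†` -/

lemma E2_mul (p r p' r' : Fin a → F) : E2 p r * E2 p' r' = hv 2 p' r • E2 p r' := by
  apply utn_mat_ext
  intro v
  rw [← Matrix.mulVec_mulVec, E2_mulVec p' r' v, Matrix.mulVec_smul, E2_mulVec, Matrix.smul_mulVec,
    E2_mulVec, smul_smul, smul_smul, mul_comm]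

lemma E2_add_left (p p' r : Fin a → F) : E2 (p + p') r = E2 p r + E2 p' r := by
  apply utn_mat_ext
  intro v
  rw [Matrix.add_mulVec, E2_mulVec, E2_mulVec, E2_mulVec, smul_add]

lemma E2_smul_left (c : F) (p r : Fin a → F) : E2 (c • p) r = c • E2 p r := by
  apply utn_mat_ext
  intro v
  rw [Matrix.smul_mulVec, E2_mulVec, E2_mulVec, smul_comm]

lemma E2_add_right (hF : Fintype.card F = 2 ^ 2) (p r r' : Fin a → F) :
    E2 p (r + r') = E2 p r + E2 p r' := by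
  apply utn_mat_ext
  intro v
  rw [Matrix.add_mulVec, E2_mulVec, E2_mulVec, E2_mulVec, hv_add_right hF, add_smul]

lemma E2_smul_right (c : F) (p r : Fin a → F) : E2 p (c • r) = c ^ 2 • E2 p r := by
  apply utn_mat_ext
  intro v
  rw [Matrix.smul_mulVec, E2_mulVec, E2_mulVec, hv_smul_right, smul_smul]

lemma E2_zero_left (r : Fin a → F) : E2 (0 : Fin a → F) r = 0 := by
  apply utn_mat_ext
  intro v
  rw [E2_mulVec, smul_zero, Matrix.zero_mulVec]

/-- conjugation of `E2 p r` by a unitary transvection -/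
lemma conj_E2 (hF : Fintype.card F = 2 ^ 2) (v : Fin a → F) (c : F) (hv0 : hv 2 v v = 0)
    (hc : c ^ 2 = -c) (p r : Fin a → F) :
    ((tvU 2 v c hv0 : GL (Fin a) F) : Matrix (Fin a) (Fin a) F) * E2 p r *
        (((tvU 2 v c hv0)⁻¹ : GL (Fin a) F) : Matrix (Fin a) (Fin a) F) =
      E2 (((tvU 2 v c hv0 : GL (Fin a) F) : Matrix (Fin a) (Fin a) F) *ᵥ p)
        (((tvU 2 v c hv0 : GL (Fin a) F) : Matrix (Fin a) (Fin a) F) *ᵥ r) := by
  apply utn_mat_ext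
  intro w
  rw [← Matrix.mulVec_mulVec, ← Matrix.mulVec_mulVec, tvU_inv_mulVec, E2_mulVec, E2_mulVec,
    Matrix.mulVec_smul]
  congr 1
  rw [tvU_mulVec' v c hv0 r, hv_sub_left, hv_smul_left, hv_add_right hF, hv_smul_right, mul_pow,
    hc, hv_conj hF]
  ring

/-! ### consequences of the closure hypotheses -/

lemma mat_add_self (hF : Fintype.card F = 2 ^ 2) (X : Matrix (Fin a) (Fin a) F) : X + X = 0 := by
  rw [← two_smul F X, f4_two hF, zero_smul]

lemma mat_neg (hF : Fintype.card F = 2 ^ 2) (X : Matrix (Fin a) (Fin a) F) : -X = X :=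
  neg_eq_of_add_eq_zero_left (mat_add_self hF X)

lemma vec_add_self (hF : Fintype.card F = 2 ^ 2) (v : Fin a → F) : v + v = 0 := by
  rw [← two_smul F v, f4_two hF, zero_smul]

lemma S_sub (hF : Fintype.card F = 2 ^ 2) {S : Set (Matrix (Fin a) (Fin a) F)} (hS : SHyp S)
    {X Y : Matrix (Fin a) (Fin a) F} (hX : X ∈ S) (hY : Y ∈ S) : X - Y ∈ S := by
  rw [sub_eq_add_neg, mat_neg hF]
  exact hS.add _ _ hX hY

lemma S_prod (hF : Fintype.card F = 2 ^ 2) {S : Set (Matrix (Fin a) (Fin a) F)} (hS : SHyp S)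
    {γ γ' N : Matrix (Fin a) (Fin a) F} (hγ : γ ∈ S) (hγ' : γ' ∈ S) (h1 : γ * γ' = N)
    (h2 : γ' * γ = N) : N ∈ S := by
  obtain ⟨ω, hω⟩ := f4_exists_omega hF
  have h := hS.mul γ γ' hγ hγ' ω
  have e : ω • (γ * γ') - ω ^ 2 • (γ' * γ) = N := by
    rw [h1, h2, ← sub_smul]
    have : ω - ω ^ 2 = 1 := by rw [sub_eq_add_neg, f4_neg hF]; exact hω
    rw [this, one_smul]
  rwa [e] at h

lemma S_sq (hF : Fintype.card F = 2 ^ 2) {S : Set (Matrix (Fin a) (Fin a) F)} (hS : SHyp S)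
    {γ : Matrix (Fin a) (Fin a) F} (hγ : γ ∈ S) : γ * γ ∈ S :=
  S_prod hF hS hγ hγ rfl rfl

lemma one_sq_neg (hF : Fintype.card F = 2 ^ 2) : (1 : F) ^ 2 = -1 := by
  rw [one_pow, f4_neg hF]

/-- `γ = θ + t_x θ t_x = x x'† + x' x† + σ x x†` -/
lemma gamma_mem (hF : Fintype.card F = 2 ^ 2) {S : Set (Matrix (Fin a) (Fin a) F)} (hS : SHyp S)
    {θ : Matrix (Fin a) (Fin a) F} (hθ : θ ∈ S) (x : Fin a → F) (hxx : hv 2 x x = 0) :
    E2 x (θ *ᵥ x) + E2 (θ *ᵥ x) x + hv 2 (θ *ᵥ x) x • E2 x x ∈ S := by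
  have hc := hS.conj x 1 hxx (one_sq_neg hF) θ hθ
  have hsub := S_sub hF hS hc hθ
  have h2 := f4_two hF
  have e : ((tvU 2 x 1 hxx : GL (Fin a) F) : Matrix (Fin a) (Fin a) F) * θ *
        (((tvU 2 x 1 hxx)⁻¹ : GL (Fin a) F) : Matrix (Fin a) (Fin a) F) - θ =
      E2 x (θ *ᵥ x) + E2 (θ *ᵥ x) x + hv 2 (θ *ᵥ x) x • E2 x x := by
    apply utn_mat_ext
    intro v
    rw [conj_tv_sub_mulVec, Matrix.add_mulVec, Matrix.add_mulVec, Matrix.smul_mulVec, E2_mulVec,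
      E2_mulVec, E2_mulVec]
    have hsk : hv 2 (θ *ᵥ v) x = - hv 2 v (θ *ᵥ x) := by
      rw [hv_adjM hF, hS.skew θ hθ, Matrix.neg_mulVec, hv_neg_right hF]
    rw [hsk]
    linear_combination (norm := module) (-(hv 2 v (θ *ᵥ x))) • (h2 • x) +
      (-(hv 2 v x)) • (h2 • (θ *ᵥ x)) + (-(hv 2 (θ *ᵥ x) x * hv 2 v x)) • (h2 • x)
  rwa [e] at hsub

/-- `γ² = σ (x x'† + x' x†) + n x x†` -/
lemma gamma_sq (hF : Fintype.card F = 2 ^ 2) {x x' : Fin a → F} {σ n : F} (hxx : hv 2 x x = 0)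
    (hσ : hv 2 x' x = σ) (hσ' : hv 2 x x' = σ) (hn : hv 2 x' x' = n) :
    (E2 x x' + E2 x' x + σ • E2 x x) * (E2 x x' + E2 x' x + σ • E2 x x) =
      σ • (E2 x x' + E2 x' x) + n • E2 x x := by
  have h2 := f4_two hF
  simp only [add_mul, mul_add, smul_mul_assoc, mul_smul_comm, E2_mul, hxx, hσ, hσ', hn, zero_smul,
    smul_zero, add_zero, zero_add]
  linear_combination (norm := module) (σ * σ) • (h2 • E2 x x)

/-! ### the case `(σ, n) = (1, 1)` -/

lemma exists_not_mem_span_pair (ha : 3 ≤ a) (x x' : Fin a → F) :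
    ∃ v : Fin a → F, v ∉ Submodule.span F ({x, x'} : Set (Fin a → F)) := by
  classical
  by_contra h
  push Not at h
  have htop : Submodule.span F ({x, x'} : Set (Fin a → F)) = ⊤ := eq_top_iff.2 (fun v _ => h v)
  have h1 : Module.finrank F (Submodule.span F ({x, x'} : Set (Fin a → F))) ≤ 2 := by
    have h2 := finrank_span_finset_le_card (R := F) ({x, x'} : Finset (Fin a → F))
    have h3 : (({x, x'} : Finset (Fin a → F)) : Set (Fin a → F)) = {x, x'} := by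
      simp
    rw [h3] at h2
    exact h2.trans Finset.card_le_two
  rw [htop, finrank_top, Module.finrank_fin_fun] at h1
  omega

/-- case `(σ,n) = (1,1)` of N5b -/
theorem lemmaAH_two_case11 (hF : Fintype.card F = 2 ^ 2) (ha : 3 ≤ a)
    {S : Set (Matrix (Fin a) (Fin a) F)} (hS : SHyp S) {x x' : Fin a → F} (hxx : hv 2 x x = 0)
    (hσ : hv 2 x' x = 1) (hn : hv 2 x' x' = 1) (hγ : E2 x x' + E2 x' x + E2 x x ∈ S) :
    ∃ w : Fin a → F, w ≠ 0 ∧ rk1 2 w ∈ S := by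
  have h2 := f4_two hF
  have hσ' : hv 2 x x' = 1 := by
    rw [← hv_conj hF x' x, hσ, one_pow]
  obtain ⟨γ, hγdef⟩ : ∃ γ : Matrix (Fin a) (Fin a) F, γ = E2 x x' + E2 x' x + E2 x x := ⟨_, rfl⟩
  rw [← hγdef] at hγ
  have hγv : ∀ v : Fin a → F, γ *ᵥ v = hv 2 v x' • x + hv 2 v x • x' + hv 2 v x • x := by
    intro v
    rw [hγdef, Matrix.add_mulVec, Matrix.add_mulVec, E2_mulVec, E2_mulVec, E2_mulVec]
  obtain ⟨v₀, hv₀⟩ := exists_not_mem_span_pair ha x x'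
  obtain ⟨w, hw⟩ : ∃ w : Fin a → F, w = v₀ + γ *ᵥ v₀ := ⟨_, rfl⟩
  have hw0 : w ≠ 0 := by
    intro h0
    apply hv₀
    have e : v₀ = γ *ᵥ v₀ := by
      have h1 := vec_add_self hF (γ *ᵥ v₀)
      calc v₀ = v₀ + (γ *ᵥ v₀ + γ *ᵥ v₀) := by rw [h1, add_zero]
        _ = (v₀ + γ *ᵥ v₀) + γ *ᵥ v₀ := by abel
        _ = γ *ᵥ v₀ := by rw [← hw, h0, zero_add]
    rw [e, hγv]
    rw [Submodule.mem_span_pair]
    refine ⟨hv 2 v₀ x' + hv 2 v₀ x, hv 2 v₀ x, ?_⟩
    module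
  have hwx : hv 2 w x = 0 := by
    rw [hw, hγv, hv_add_left, hv_add_left, hv_add_left, hv_smul_left, hv_smul_left, hv_smul_left,
      hxx, hσ]
    linear_combination (hv 2 v₀ x) * h2
  have hwx' : hv 2 w x' = 0 := by
    rw [hw, hγv, hv_add_left, hv_add_left, hv_add_left, hv_smul_left, hv_smul_left, hv_smul_left,
      hσ', hn]
    linear_combination (hv 2 v₀ x' + hv 2 v₀ x) * h2
  have hxw : hv 2 x w = 0 := hv_symm_zero hF hwx
  have hx'w : hv 2 x' w = 0 := hv_symm_zero hF hwx'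
  have hγw : γ *ᵥ w = 0 := by
    rw [hγv, hwx, hwx']
    simp only [zero_smul, add_zero]
  have hγx : γ *ᵥ x = x := by
    rw [hγv, hxx, hσ']
    simp only [zero_smul, one_smul, add_zero]
  rcases f4_idem (hv_self_pow hF w) with hww | hww
  · -- `w` isotropic: reduce to the case `(0,0)`
    obtain ⟨x₂, hx₂⟩ : ∃ x₂ : Fin a → F, x₂ = x + w := ⟨_, rfl⟩
    have hx₂x₂ : hv 2 x₂ x₂ = 0 := by
      rw [hx₂, hv_add_left, hv_add_right hF, hv_add_right hF, hxx, hxw, hwx, hww]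
      ring
    have hγx₂ : γ *ᵥ x₂ = x := by
      rw [hx₂, Matrix.mulVec_add, hγx, hγw, add_zero]
    have hxx₂ : hv 2 x x₂ = 0 := by
      rw [hx₂, hv_add_right hF, hxx, hxw, add_zero]
    have hmem := gamma_mem hF hS hγ x₂ hx₂x₂
    rw [hγx₂, hxx₂, zero_smul, add_zero] at hmem
    have hx₂0 : x₂ ≠ 0 := by
      intro h0
      have : hv 2 x' x₂ = 1 := by
        rw [hx₂, hv_add_right hF, hσ, hx'w, add_zero]
      rw [h0, hv_zero_right hF] at this
      exact zero_ne_one this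
    have hind : ∀ c : F, x ≠ c • x₂ := by
      intro c hc
      have e1 : hv 2 x x' = c * hv 2 x₂ x' := by
        conv_lhs => rw [hc]
        rw [hv_smul_left]
      have e2 : hv 2 x₂ x' = 1 := by
        rw [hx₂, hv_add_left, hσ', hwx', add_zero]
      rw [hσ', e2, mul_one] at e1
      rw [← e1, one_smul, hx₂] at hc
      apply hw0
      have h3 : x + x = x + (x + w) := congrArg (fun t => x + t) hc
      rw [← add_assoc, vec_add_self hF, zero_add] at h3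
      exact h3.symm
    exact ⟨x₂, hx₂0, Cfsg.Agent.Lib.Helper9.UTNLeaf00.lemmaAH_two_case00 hF hS hx₂x₂ hxx hxx₂ hx₂0
      hind hmem⟩
  · -- `hv w w = 1`: `γ γ' = γ' γ = E2 u u`, `u = x + x'`
    obtain ⟨u, hu⟩ : ∃ u : Fin a → F, u = x + x' := ⟨_, rfl⟩
    obtain ⟨v₁, hv₁⟩ : ∃ v₁ : Fin a → F, v₁ = x' + w := ⟨_, rfl⟩
    have hv₁v₁ : hv 2 v₁ v₁ = 0 := by
      rw [hv₁, hv_add_left, hv_add_right hF, hv_add_right hF, hn, hx'w, hwx', hww]
      linear_combination h2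
    have huv₁ : hv 2 u v₁ = 0 := by
      rw [hu, hv₁, hv_add_left, hv_add_right hF, hv_add_right hF, hσ', hxw, hn, hx'w]
      linear_combination h2
    have hx'v₁ : hv 2 x' v₁ = 1 := by
      rw [hv₁, hv_add_right hF, hn, hx'w, add_zero]
    have huu : hv 2 u u = 1 := by
      rw [hu, hv_add_left, hv_add_right hF, hv_add_right hF, hxx, hσ, hσ', hn]
      linear_combination h2
    have hux' : hv 2 u x' = 0 := by
      rw [hu, hv_add_left, hσ', hn]
      linear_combination h2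
    have hx'u : hv 2 x' u = 0 := hv_symm_zero hF hux'
    have huw : hv 2 u w = 0 := by
      rw [hu, hv_add_left, hxw, hx'w, add_zero]
    have hwu : hv 2 w u = 0 := hv_symm_zero hF huw
    have hγ1 : γ = E2 u u + E2 x' x' := by
      rw [hγdef, hu, E2_add_left, E2_add_right hF, E2_add_right hF]
      linear_combination (norm := module) (-(1 : F)) • (h2 • E2 x' x')
    obtain ⟨A, hA⟩ : ∃ A : Matrix (Fin a) (Fin a) F, A = ((tvU 2 v₁ 1 hv₁v₁ : GL (Fin a) F) : Matrix (Fin a) (Fin a) F) := ⟨_, rfl⟩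
    have hAu : A *ᵥ u = u := by
      rw [hA, tvU_mulVec', huv₁, mul_zero, zero_smul, add_zero]
    have hAx' : A *ᵥ x' = w := by
      rw [hA, tvU_mulVec', hx'v₁, mul_one, one_smul, hv₁, ← add_assoc, vec_add_self hF, zero_add]
    have hγ'mem := hS.conj v₁ 1 hv₁v₁ (one_sq_neg hF) γ hγ
    rw [← hA] at hγ'mem
    have hγ' : A * γ * (((tvU 2 v₁ 1 hv₁v₁)⁻¹ : GL (Fin a) F) : Matrix (Fin a) (Fin a) F) =
        E2 u u + E2 w w := by
      rw [hγ1, Matrix.mul_add, Matrix.add_mul, hA, conj_E2 hF v₁ 1 hv₁v₁ (one_sq_neg hF),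
        conj_E2 hF v₁ 1 hv₁v₁ (one_sq_neg hF), ← hA, hAu, hAx']
    rw [hγ'] at hγ'mem
    have hp1 : γ * (E2 u u + E2 w w) = E2 u u := by
      rw [hγ1]
      simp only [add_mul, mul_add, E2_mul, huu, hwu, hux', hx'w, hwx', one_smul, zero_smul, add_zero]
    have hp2 : (E2 u u + E2 w w) * γ = E2 u u := by
      rw [hγ1]
      simp only [add_mul, mul_add, E2_mul, huu, huw, hx'u, hx'w, hwx', one_smul, zero_smul, add_zero]
    have hu0 : u ≠ 0 := by
      intro h0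
      rw [h0, hv_zero_left] at huu
      exact zero_ne_one huu
    exact ⟨u, hu0, S_prod hF hS hγ hγ'mem hp1 hp2⟩

/-! ### N5b -/

/-- N5b LEMMA A, `q = 2` -/
theorem lemmaAH_two (hF : Fintype.card F = 2 ^ 2) (ha : 3 ≤ a)
    (S : Set (Matrix (Fin a) (Fin a) F))
    (hadd : ∀ θ θ', θ ∈ S → θ' ∈ S → θ + θ' ∈ S) (h1 : (1 : Matrix (Fin a) (Fin a) F) ∈ S)
    (hconj : ∀ (x : Fin a → F) (c : F) (hx : hv 2 x x = 0), c ^ 2 = -c → ∀ θ, θ ∈ S →
      ((tvU 2 x c hx : GL (Fin a) F) : Matrix (Fin a) (Fin a) F) * θ *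
        (((tvU 2 x c hx)⁻¹ : GL (Fin a) F) : Matrix (Fin a) (Fin a) F) ∈ S)
    (hskew : ∀ θ, θ ∈ S → adjM 2 θ = -θ)
    (hmul : ∀ θ θ', θ ∈ S → θ' ∈ S → ∀ μ : F, μ • (θ * θ') - μ ^ 2 • (θ' * θ) ∈ S)
    {θ : Matrix (Fin a) (Fin a) F} (hθ : θ ∈ S) (hns : ¬ IsScalarMat θ) :
    ∃ x : Fin a → F, x ≠ 0 ∧ rk1 2 x ∈ S := by
  have hS : SHyp S := ⟨hadd, h1, hconj, hskew, hmul⟩
  have h2 := f4_two hF
  -- Step 0: an isotropic vector which is not an eigenvector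
  have hex : ∃ x : Fin a → F, x ≠ 0 ∧ hv 2 x x = 0 ∧ ∀ l : F, θ *ᵥ x ≠ l • x := by
    by_contra hcon
    push Not at hcon
    exact hns (scalar_of_iso_eigen hF (by omega) θ (fun x hx0 hxx => hcon x hx0 hxx))
  obtain ⟨x, hx0, hxx, hind⟩ := hex
  obtain ⟨x', hx'⟩ : ∃ x' : Fin a → F, x' = θ *ᵥ x := ⟨_, rfl⟩
  obtain ⟨σ, hσ⟩ : ∃ σ : F, hv 2 x' x = σ := ⟨_, rfl⟩
  obtain ⟨n, hn⟩ : ∃ n : F, hv 2 x' x' = n := ⟨_, rfl⟩
  have hσ' : hv 2 x x' = σ := by
    rw [hx', hv_adjM_right hF, hskew θ hθ, Matrix.neg_mulVec, hv_neg_left, ← hx', hσ, f4_neg hF]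
  have hσ2 : σ ^ 2 = σ := by
    rw [← hσ, hv_conj hF, hσ', hσ]
  have hn2 : n ^ 2 = n := by
    rw [← hn]
    exact hv_self_pow hF x'
  have hγ := gamma_mem hF hS hθ x hxx
  rw [← hx', hσ] at hγ
  have hγ2 := S_sq hF hS hγ
  rw [gamma_sq hF hxx hσ hσ' hn] at hγ2
  rw [← hx'] at hind
  rcases f4_idem hσ2 with rfl | rfl <;> rcases f4_idem hn2 with rfl | rfl
  · -- (0,0)
    rw [zero_smul, add_zero] at hγ
    exact ⟨x, hx0, Cfsg.Agent.Lib.Helper9.UTNLeaf00.lemmaAH_two_case00 hF hS hxx hn hσ hx0 hind hγ⟩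
  · -- (0,1)
    rw [zero_smul, zero_add, one_smul] at hγ2
    exact ⟨x, hx0, hγ2⟩
  · -- (1,0)
    rw [one_smul] at hγ
    rw [one_smul, zero_smul, add_zero] at hγ2
    have h3 := hadd _ _ hγ hγ2
    have e : E2 x x' + E2 x' x + E2 x x + (E2 x x' + E2 x' x) = E2 x x := by
      linear_combination (norm := module) (1 : F) • (h2 • E2 x x') + (1 : F) • (h2 • E2 x' x)
    rw [e] at h3
    exact ⟨x, hx0, h3⟩
  · -- (1,1)
    rw [one_smul] at hγ
    exact lemmaAH_two_case11 hF ha hS hxx hσ hn hγ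

end Cfsg.Agent.Lib.Helper12.UTNLeaf
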