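import Mathlib
import Cfsg.Agent.Lib.Helper5.UTGDefs
import Cfsg.Agent.Lib.Helper12.UTW2Defs
import Cfsg.Agent.Lib.Helper2.IsomReindex

/-!
[helper12, S5672 Stage III leaf III-G: verbatim copy of Helper5/UTGB1.lean with `MCtx ↦ WCtx` (weak context), namespace `Cfsg.Agent.Lib.Helper12.UTW2`]

S5670 (G) leaf B1 `GS_le_of_all`: if all isotropic vectors are centres of full root groups in `M`
then `GS ≤ M` (bridge to `Fin (a * b)` and `Helper5.SUMax.le_of_forall_mem_Sset`).
-/

set_option autoImplicit false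
set_option linter.unusedSectionVars false
set_option linter.unusedVariables false

namespace Cfsg.Agent.Lib.Helper12.UTW2
open Matrix
open Cfsg.Agent.Lib.Helper25.Tens Cfsg.Agent.Lib.Helper25.TensLeaf Cfsg.Agent.Lib.Helper20.UT
open Cfsg.Agent.Lib.Helper5.UTG Cfsg.Agent.Lib.Helper5.SUGen Cfsg.Agent.Lib.Helper5.SUMax
open Cfsg.Agent.Lib.Helper5.HermBridge Cfsg.Agent.Lib.Helper5.UForm
open scoped Kronecker

variable {F : Type*} [Field F] [Fintype F] {a b q : ℕ}
variable {M : Subgroup (GL (Idx a b) F)}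

/-- the reindexing `Fin a × Fin b ≃ Fin (a * b)` -/
noncomputable def eIdx (a b : ℕ) : Idx a b ≃ Fin (a * b) := finProdFinEquiv

/-- the reindexing of `GL` -/
noncomputable def phiIdx (a b : ℕ) (F : Type*) [Field F] : GL (Idx a b) F ≃* GL (Fin (a * b)) F :=
  Cfsg.Agent.Lib.Helper2.glReindex (eIdx a b)

omit [Fintype F] in
lemma phiIdx_mulVec (g : GL (Idx a b) F) (w : Fin (a * b) → F) :
    ((phiIdx a b F g : GL (Fin (a * b)) F) : Matrix (Fin (a * b)) (Fin (a * b)) F) *ᵥ w =
      ((g : Matrix (Idx a b) (Idx a b) F) *ᵥ (w ∘ eIdx a b)) ∘ (eIdx a b).symm := by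
  unfold phiIdx
  rw [Cfsg.Agent.Lib.Helper2.glReindex_val, Matrix.submatrix_mulVec_equiv]
  rfl

omit [Fintype F] in
lemma herm_comp (u w : Fin (a * b) → F) :
    Cfsg.hermForm (a * b) F q u w = hv q (u ∘ eIdx a b) (w ∘ eIdx a b) := by
  unfold Cfsg.hermForm hv
  rw [← Equiv.sum_comp (eIdx a b)]
  rfl

omit [Fintype F] in
lemma mulVec_comp (g : GL (Idx a b) F) (v : Idx a b → F) :
    (g : Matrix (Idx a b) (Idx a b) F) *ᵥ v =
      (((phiIdx a b F g : GL (Fin (a * b)) F) : Matrix (Fin (a * b)) (Fin (a * b)) F) *ᵥ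
        (v ∘ (eIdx a b).symm)) ∘ eIdx a b := by
  rw [phiIdx_mulVec]
  ext p
  simp [Function.comp_def]

/-- B1: if all isotropic vectors are members then `GS ≤ M`. -/
theorem GS_le_of_all (h : WCtx a b q M)
    (hall : ∀ v : Idx a b → F, hv q v v = 0 → v ∈ SsetI q M) : GS a b q F ≤ M := by
  have hF := h.hF
  have hn := h.hn
  set φ := phiIdx a b F with hφ
  set M' : Subgroup (GL (Fin (a * b)) F) := M.map φ.toMonoidHom with hM'
  have hS : ∀ w : Fin (a * b) → F, Cfsg.hermForm (a * b) F q w w = 0 → w ∈ Sset hF M' := by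
    intro w hw c hc g' hg'
    have hgM : φ.symm g' ∈ M := by
      apply hall (w ∘ eIdx a b) (by rw [← herm_comp]; exact hw) c
        (by rw [← frobQ_apply hF]; exact hc)
      intro v
      unfold mv
      rw [mulVec_comp, ← hφ, MulEquiv.apply_symm_apply, hg', herm_comp]
      ext p
      simp [Function.comp_def]
    refine ⟨φ.symm g', hgM, ?_⟩
    simp
  have hle := le_of_forall_mem_Sset hF (n := a * b) (by omega) (by omega) M' hS
  intro g hg
  have hg' : φ g ∈ Cfsg.GU (a * b) F q ⊓ Cfsg.Geo.specialLinear (Fin (a * b)) F := by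
    refine Subgroup.mem_inf.mpr ⟨?_, ?_⟩
    · rw [mem_GU]
      intro x y
      rw [herm_comp, herm_comp, hφ, phiIdx_mulVec, phiIdx_mulVec]
      have h1 := mem_GUI.mp hg.1 (x ∘ eIdx a b) (y ∘ eIdx a b)
      unfold mv at h1
      have e1 : ∀ z : Idx a b → F, (z ∘ (eIdx a b).symm) ∘ eIdx a b = z := by
        intro z; ext p; simp
      rw [e1, e1, h1]
    · rw [mem_SLG_iff]
      have h2 := (mem_SLG_iff g).mp hg.2
      rw [hφ]
      unfold phiIdx
      rw [Cfsg.Agent.Lib.Helper2.glReindex_val, Matrix.det_submatrix_equiv_self]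
      exact h2
  obtain ⟨m, hmM, hm⟩ := hle hg'
  have : m = g := φ.injective hm
  rw [← this]
  exact hmM

end Cfsg.Agent.Lib.Helper12.UTW2
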