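import Mathlib
import Cfsg.Agent.Lib.Helper5.UTGDefs
import Cfsg.Agent.Lib.Helper12.UTW2Defs
import Cfsg.Agent.Lib.Helper12.UTW2K1
import Cfsg.Agent.Lib.Helper23.UTG

/-!
[helper12, S5672 Stage III leaf III-G, amended context (3 ≤ b, 3 ≤ q ∨ 4 ≤ b): copy of Helper5/UTGK2.lean with `MCtx ↦ WCtx` (weak context), namespace `Cfsg.Agent.Lib.Helper12.UTW2`]

S5670 (G) leaf K2 `block_move`: inside the block `x₀ ⊗ B` (`x₀` non-isotropic) any non-zero `z` can be moved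
to any non-zero `w` of the same norm by an element of `M` fixing `x ⊗ B` for `x ⊥ x₀`.
-/

set_option autoImplicit false
set_option linter.unusedSectionVars false
set_option linter.unusedVariables false

namespace Cfsg.Agent.Lib.Helper12.UTW2
open Matrix
open Cfsg.Agent.Lib.Helper25.Tens Cfsg.Agent.Lib.Helper25.TensLeaf Cfsg.Agent.Lib.Helper20.UT
open Cfsg.Agent.Lib.Helper5.UTG Cfsg.Agent.Lib.Helper5.SUGen Cfsg.Agent.Lib.Helper5.SUMax
open Cfsg.Agent.Lib.Helper5.HermBridge Cfsg.Agent.Lib.Helper5.UForm Cfsg.Agent.Lib.Helper5.UEichler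
open Cfsg.Agent.Lib.Helper14 Cfsg.Agent.Lib.Helper5.SpMax
open scoped Kronecker

variable {F : Type*} [Field F] [Fintype F] {a b q : ℕ}
variable {M : Subgroup (GL (Idx a b) F)}

/-- `Helper5.SUMax.Tr` under the hypotheses of `Helper5.SUGen.T1` (`3 ≤ finrank U`, `3 ≤ q ∨ 4 ≤ finrank U`):
transitivity of `TU U` on the vectors of a fixed non-zero norm -/
lemma Tr' {n : ℕ} (hF : Fintype.card F = q ^ 2) {U : Submodule F (Fin n → F)}
    (hU : ND (Cfsg.hermForm n F q) U) (hd : 3 ≤ Module.finrank F U)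
    (hq : 3 ≤ q ∨ 4 ≤ Module.finrank F U) {a b : Fin n → F}
    (ha : a ∈ U) (hb : b ∈ U) (hab : Cfsg.hermForm n F q a a = Cfsg.hermForm n F q b b)
    (h0 : Cfsg.hermForm n F q a a ≠ 0) : Rel q U a b := by
  have hf := herm_unitary (n := n) hF
  obtain ⟨l, hl⟩ := norm_surj hf.involutive hf.ne_refl (Cfsg.hermForm n F q a a) h0
    (u_self_fixed hf a)
  have hl0 : l ≠ 0 := by
    rintro rfl
    rw [zero_mul] at hl
    exact h0 hl.symm
  have hl0' : frobQ hF l ≠ 0 := by rwa [Ne, map_eq_zero]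
  have hn1 : ∀ x : Fin n → F, Cfsg.hermForm n F q x x = Cfsg.hermForm n F q a a →
      Cfsg.hermForm n F q (l⁻¹ • x) (l⁻¹ • x) = 1 := by
    intro x hx
    rw [hf.smul_left, u_smul_right hf, map_inv₀, hx, ← hl]
    field_simp
  obtain ⟨t, ht, hta⟩ := T1 hF hU hd hq (U.smul_mem l⁻¹ ha) (U.smul_mem l⁻¹ hb)
    (hn1 a rfl) (hn1 b hab.symm)
  refine ⟨t, ht, ?_⟩
  rw [av_smul] at hta
  have h2 := congrArg (fun x => l • x) hta
  simpa [smul_smul, mul_inv_cancel₀ hl0] using h2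

/-- K2 -/
theorem block_move (h : WCtx a b q M) {x₀ : Fin a → F} (hx₀ : hv q x₀ x₀ ≠ 0)
    (hS : ∀ y : Fin b → F, hv q y y = 0 → pt x₀ y ∈ SsetI q M) {z w : Fin b → F} (hz0 : z ≠ 0)
    (hw0 : w ≠ 0) (hN : hv q z z = hv q w w) :
    ∃ g ∈ M, mv g (pt x₀ z) = pt x₀ w ∧
      ∀ (x : Fin a → F) (y : Fin b → F), hv q x x₀ = 0 → mv g (pt x y) = pt x y := by
  have hF := h.hF
  have hf := herm_unitary (n := b) hF
  have hd : 3 ≤ Module.finrank F (⊤ : Submodule F (Fin b → F)) := by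
    rw [finrank_top, Module.finrank_fin_fun]; exact h.hb
  have hq : 3 ≤ q ∨ 4 ≤ Module.finrank F (⊤ : Submodule F (Fin b → F)) := by
    rw [finrank_top, Module.finrank_fin_fun]; exact h.hbq
  have hrel : Rel q (⊤ : Submodule F (Fin b → F)) z w := by
    by_cases hzz : hv q z z = 0
    · exact T0 hF (ND_top hf) (by omega) Submodule.mem_top Submodule.mem_top hz0 hw0 hzz
        (by rw [← hv_eq_hermForm, ← hN]; exact hzz)
    · exact Tr' hF (ND_top hf) hd hq Submodule.mem_top Submodule.mem_top hN hzz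
  obtain ⟨t, ht, htz⟩ := hrel
  refine ⟨blockG q x₀ hx₀ (emb b F q t), blockG_mem h hx₀ hS ht, ?_, ?_⟩
  · rw [mv_blockG_pt_self]
    congr 1
  · intro x y hx
    exact mv_blockG_pt_perp q x₀ hx₀ _ hx y

end Cfsg.Agent.Lib.Helper12.UTW2
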