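import Mathlib
import Cfsg.Agent.Lib.Helper5.UTGDefs
import Cfsg.Agent.Lib.Helper12.UTW2Defs
import Cfsg.Agent.Lib.Helper23.UTG

/-!
[helper12, S5672 Stage III leaf III-G: verbatim copy of Helper6/UTGP.lean with `MCtx ↦ WCtx` (weak context), namespace `Cfsg.Agent.Lib.Helper12.UTW2`]
-/

set_option autoImplicit false
set_option linter.unusedSectionVars false
set_option linter.unusedVariables false

namespace Cfsg.Agent.Lib.Helper12.UTW2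
open Matrix
open Cfsg.Agent.Lib.Helper25.Tens Cfsg.Agent.Lib.Helper25.TensLeaf Cfsg.Agent.Lib.Helper20.UT
open Cfsg.Agent.Lib.Helper5.UTG Cfsg.Agent.Lib.Helper5.SUGen Cfsg.Agent.Lib.Helper5.SUMax
open scoped Kronecker

variable {F : Type*} [Field F] [Fintype F] {a b q : ℕ}

variable {M : Subgroup (GL (Idx a b) F)}

/-- P0b: one step on the `B`-side. -/
theorem ptS_B_step (h : WCtx a b q M) {x : Fin a → F} {y₀ y : Fin b → F} (hy₀ : hv q y₀ y₀ = 0)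
    (hy : hv q y y = 0) (hne : hv q y₀ y ≠ 0) (hs : pt x y₀ ∈ SsetI q M) : pt x y ∈ SsetI q M := by
  have hF := h.hF
  obtain ⟨c, hc0, hc⟩ := Cfsg.Agent.Lib.Helper23.UTLeaf.exists_skew hF
  obtain ⟨η, hη⟩ : ∃ η, η = hv q y₀ y := ⟨_, rfl⟩
  rw [← hη] at hne
  have hηq : η ^ q ≠ 0 := pow_ne_zero q hne
  have hyy₀ : hv q y y₀ = η ^ q := by rw [hη, hv_conj hF]
  -- first move
  have h1 : pt x (y₀ + (c * η) • y) ∈ SsetI q M := by
    have := SsetI_mv h (kB_mem_M h y hc hy) hs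
    rwa [mv_kB_pt, ← hη] at this
  -- second move
  have hc' : (-(c * (η * η ^ q))⁻¹) ^ q = -(-(c * (η * η ^ q))⁻¹) := by
    rw [neg_pow_q hF, inv_pow, mul_pow, mul_pow, hc, pow_q_pow_q' hF]
    have : -c * (η ^ q * η) = -(c * (η * η ^ q)) := by ring
    rw [this, inv_neg]
  have h2 := SsetI_mv h (kB_mem_M h y₀ hc' hy₀) h1
  rw [mv_kB_pt] at h2
  have hE : y₀ + (c * η) • y + (-(c * (η * η ^ q))⁻¹ * hv q (y₀ + (c * η) • y) y₀) • y₀ =
      (c * η) • y := by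
    rw [hv_add_left, hv_smul_left, hy₀, hyy₀, zero_add]
    have hne' : c * (η * η ^ q) ≠ 0 := mul_ne_zero hc0 (mul_ne_zero hne hηq)
    have : -(c * (η * η ^ q))⁻¹ * (c * η * η ^ q) = -1 := by
      field_simp
    rw [this, neg_one_smul]
    abel
  rw [hE, pt_smul_right] at h2
  have h3 := SsetI_smul hF h2 (c * η)⁻¹
  rwa [smul_smul, inv_mul_cancel₀ (mul_ne_zero hc0 hne), one_smul] at h3

/-- P0a: one step on the `A`-side. -/
theorem ptS_A_step (h : WCtx a b q M) {x₀ x : Fin a → F} {y : Fin b → F} (hx₀ : hv q x₀ x₀ = 0)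
    (hx : hv q x x = 0) (hne : hv q x₀ x ≠ 0) (hs : pt x₀ y ∈ SsetI q M) : pt x y ∈ SsetI q M := by
  have hF := h.hF
  obtain ⟨c, hc0, hc⟩ := Cfsg.Agent.Lib.Helper23.UTLeaf.exists_skew hF
  obtain ⟨η, hη⟩ : ∃ η, η = hv q x₀ x := ⟨_, rfl⟩
  rw [← hη] at hne
  have hηq : η ^ q ≠ 0 := pow_ne_zero q hne
  have hxx₀ : hv q x x₀ = η ^ q := by rw [hη, hv_conj hF]
  have h1 : pt (x₀ + (c * η) • x) y ∈ SsetI q M := by
    have := SsetI_mv h (kA_mem_M h x hc hx) hs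
    rwa [mv_kA_pt, ← hη] at this
  have hc' : (-(c * (η * η ^ q))⁻¹) ^ q = -(-(c * (η * η ^ q))⁻¹) := by
    rw [neg_pow_q hF, inv_pow, mul_pow, mul_pow, hc, pow_q_pow_q' hF]
    have : -c * (η ^ q * η) = -(c * (η * η ^ q)) := by ring
    rw [this, inv_neg]
  have h2 := SsetI_mv h (kA_mem_M h x₀ hc' hx₀) h1
  rw [mv_kA_pt] at h2
  have hE : x₀ + (c * η) • x + (-(c * (η * η ^ q))⁻¹ * hv q (x₀ + (c * η) • x) x₀) • x₀ =
      (c * η) • x := by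
    rw [hv_add_left, hv_smul_left, hx₀, hxx₀, zero_add]
    have hne' : c * (η * η ^ q) ≠ 0 := mul_ne_zero hc0 (mul_ne_zero hne hηq)
    have : -(c * (η * η ^ q))⁻¹ * (c * η * η ^ q) = -1 := by
      field_simp
    rw [this, neg_one_smul]
    abel
  rw [hE, pt_smul_left] at h2
  have h3 := SsetI_smul hF h2 (c * η)⁻¹
  rwa [smul_smul, inv_mul_cancel₀ (mul_ne_zero hc0 hne), one_smul] at h3

/-- GA1 (statement, as proved by helper23) -/
def IsoLink (F : Type*) [Field F] (q : ℕ) : Prop :=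
  ∀ {n : ℕ}, 2 ≤ n → ∀ {y₀ y : Fin n → F}, y₀ ≠ 0 → y ≠ 0 → hv q y₀ y₀ = 0 → hv q y y = 0 →
    (∃ c : F, y = c • y₀) ∨ hv q y₀ y ≠ 0 ∨
      ∃ y₂ : Fin n → F, hv q y₂ y₂ = 0 ∧ hv q y₀ y₂ ≠ 0 ∧ hv q y₂ y ≠ 0

/-- P1 (core): `B`-side propagation to every isotropic `y`. -/
theorem ptS_B_core (hGA1 : IsoLink F q) (h : WCtx a b q M) {x : Fin a → F} {y₀ : Fin b → F}
    (hy₀0 : y₀ ≠ 0) (hy₀ : hv q y₀ y₀ = 0) (hs : pt x y₀ ∈ SsetI q M) {y : Fin b → F}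
    (hy : hv q y y = 0) : pt x y ∈ SsetI q M := by
  have hF := h.hF
  by_cases hy0 : y = 0
  · rw [hy0, pt_zero_right]; exact SsetI_zero
  have hb2 : 2 ≤ b := le_trans (by norm_num) h.hb
  rcases hGA1 hb2 hy₀0 hy0 hy₀ hy with ⟨c, rfl⟩ | hne | ⟨y₂, hy₂, h02, h2y⟩
  · rw [pt_smul_right]; exact SsetI_smul hF hs c
  · exact ptS_B_step h hy₀ hy hne hs
  · exact ptS_B_step h hy₂ hy h2y (ptS_B_step h hy₀ hy₂ h02 hs)

/-- P2 (core): `A`-side propagation to every isotropic `x`. -/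
theorem ptS_A_core (hGA1 : IsoLink F q) (h : WCtx a b q M) {x₀ : Fin a → F} (hx₀0 : x₀ ≠ 0)
    (hx₀ : hv q x₀ x₀ = 0) {y : Fin b → F} (hs : pt x₀ y ∈ SsetI q M) {x : Fin a → F}
    (hx : hv q x x = 0) : pt x y ∈ SsetI q M := by
  have hF := h.hF
  by_cases hx0 : x = 0
  · rw [hx0, pt_zero_left]; exact SsetI_zero
  rcases hGA1 h.ha hx₀0 hx0 hx₀ hx with ⟨c, rfl⟩ | hne | ⟨x₂, hx₂, h02, h2x⟩
  · rw [pt_smul_left]; exact SsetI_smul hF hs c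
  · exact ptS_A_step h hx₀ hx hne hs
  · exact ptS_A_step h hx₂ hx h2x (ptS_A_step h hx₀ hx₂ h02 hs)

end Cfsg.Agent.Lib.Helper12.UTW2
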