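import Mathlib
import Cfsg.Agent.Lib.Helper5.UTGDefs
import Cfsg.Agent.Lib.Helper12.UTW2Defs
import Cfsg.Agent.Lib.Helper23.UTG
import Cfsg.Agent.Lib.Helper23.UTGGA
import Cfsg.Agent.Lib.Helper12.UTW2P

/-!
[helper12, S5672 Stage III leaf III-G: verbatim copy of Helper6/UTGP12.lean with `MCtx ↦ WCtx` (weak context), namespace `Cfsg.Agent.Lib.Helper12.UTW2`]
-/

set_option autoImplicit false
set_option linter.unusedSectionVars false
set_option linter.unusedVariables false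

namespace Cfsg.Agent.Lib.Helper12.UTW2
open Matrix
open Cfsg.Agent.Lib.Helper25.Tens Cfsg.Agent.Lib.Helper25.TensLeaf Cfsg.Agent.Lib.Helper20.UT
open Cfsg.Agent.Lib.Helper5.UTG Cfsg.Agent.Lib.Helper5.SUGen Cfsg.Agent.Lib.Helper5.SUMax
open scoped Kronecker

variable {F : Type*} [Field F] [Fintype F] {a b q : ℕ}

variable {M : Subgroup (GL (Idx a b) F)}

/-- P1: `B`-side propagation to every isotropic `y`. -/
theorem ptS_B (h : WCtx a b q M) {x : Fin a → F} {y₀ : Fin b → F} (hy₀0 : y₀ ≠ 0)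
    (hy₀ : hv q y₀ y₀ = 0) (hs : pt x y₀ ∈ SsetI q M) {y : Fin b → F} (hy : hv q y y = 0) :
    pt x y ∈ SsetI q M :=
  ptS_B_core (fun hn _ _ h1 h2 h3 h4 =>
    Cfsg.Agent.Lib.Helper23.UTGLeaf.exists_iso_link h.hF hn h1 h2 h3 h4) h hy₀0 hy₀ hs hy

/-- P2: `A`-side propagation to every isotropic `x`. -/
theorem ptS_A (h : WCtx a b q M) {x₀ : Fin a → F} (hx₀0 : x₀ ≠ 0) (hx₀ : hv q x₀ x₀ = 0)
    {y : Fin b → F} (hs : pt x₀ y ∈ SsetI q M) {x : Fin a → F} (hx : hv q x x = 0) :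
    pt x y ∈ SsetI q M :=
  ptS_A_core (fun hn _ _ h1 h2 h3 h4 =>
    Cfsg.Agent.Lib.Helper23.UTGLeaf.exists_iso_link h.hF hn h1 h2 h3 h4) h hx₀0 hx₀ hs hx

end Cfsg.Agent.Lib.Helper12.UTW2
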