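import Mathlib
import Cfsg.Agent.Lib.Helper12.UTW2X1
import Cfsg.Agent.Lib.Helper12.UTW2Defs

/-!
[helper12, S5672 Stage III leaf III-G: verbatim copy of Helper15/UTGX2core.lean with `MCtx ↦ WCtx` (weak context), namespace `Cfsg.Agent.Lib.Helper12.UTW2`]

S5670 part (G), cores of the leaves X2 `mix` and X3 `WS_of_iso` of `notes/S5670_G_leaves.lean` (helper5's market), with the
statements of the geometry leaves GA2 / GA3 / GA4 as hypotheses.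
-/

set_option autoImplicit false
set_option linter.unusedSectionVars false
set_option linter.unusedVariables false

namespace Cfsg.Agent.Lib.Helper12.UTW2
open Matrix
open Cfsg.Agent.Lib.Helper25.Tens Cfsg.Agent.Lib.Helper25.TensLeaf Cfsg.Agent.Lib.Helper20.UT
open Cfsg.Agent.Lib.Helper5.UTG Cfsg.Agent.Lib.Helper5.SUGen Cfsg.Agent.Lib.Helper5.SUMax
open scoped Kronecker

variable {F : Type*} [Field F] [Fintype F] {a b q : ℕ}
variable {M : Subgroup (GL (Idx a b) F)}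

lemma sub_pow_q' (hF : Fintype.card F = q ^ 2) (x y : F) : (x - y) ^ q = x ^ q - y ^ q := by
  rw [sub_eq_add_neg, add_pow_q hF, neg_pow_q hF, ← sub_eq_add_neg]

/-- X2 core: GA2 (for `y`) and GA4 as hypotheses -/
theorem mix_core (h : WCtx a b q M)
    (hGA2 : ∀ {y : Fin b → F}, y ≠ 0 → hv q y y = 0 →
      ∃ z d : Fin b → F, hv q z z = 0 ∧ hv q y z = 1 ∧ hv q d y = 0 ∧ hv q d z = 0 ∧ hv q d d ≠ 0)
    (hGA4 : ∃ θ : F, θ + θ ^ q = 1 ∧ θ ^ q ≠ θ)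
    (hS : ∀ (x : Fin a → F) (y : Fin b → F), hv q x x = 0 → hv q y y = 0 → pt x y ∈ SsetI q M)
    {x₁ x₂ : Fin a → F} (h1 : hv q x₁ x₁ = 0) (h2 : hv q x₂ x₂ = 0) (h12 : hv q x₁ x₂ = 1)
    {y : Fin b → F} (hy : hv q y y = 0) (β : F) : pt (x₁ + β • x₂) y ∈ SsetI q M := by
  have hF := h.hF
  have h21 : hv q x₂ x₁ = 1 := by rw [← hv_conj hF, h12, one_pow]
  by_cases hy0 : y = 0
  · rw [hy0, pt_zero_right]; exact SsetI_zero
  by_cases hβ : β + β ^ q = 0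
  · apply hS _ y _ hy
    rw [hv_add_left, hv_add_right hF, hv_add_right hF, hv_smul_left, hv_smul_left, hv_smul_right,
      hv_smul_right, h1, h2, h12, h21]
    linear_combination hβ
  obtain ⟨z, d, hz, hyz, hdy, hdz, hd⟩ := hGA2 hy0 hy
  obtain ⟨θ, hθ, hθne⟩ := hGA4
  have hν : (hv q d d) ^ q = hv q d d := hv_self_pow hF d
  have hδ0 : θ - θ ^ q ≠ 0 := sub_ne_zero.mpr (Ne.symm hθne)
  have hδ : (θ - θ ^ q) ^ q = -(θ - θ ^ q) := by
    rw [sub_pow_q' hF, pow_q_pow_q' hF]; ring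
  have hc₀ : (-(β + β ^ q) / (hv q d d * (θ - θ ^ q))) ^ q =
      -(-(β + β ^ q) / (hv q d d * (θ - θ ^ q))) := by
    rw [div_pow, neg_pow_q hF, add_pow_q hF, pow_q_pow_q' hF, mul_pow, hν, hδ]
    field_simp
    ring
  have hX1 := mix_chain h hS h1 h2 h12 hy hz hyz hdy hdz hθ hc₀
  set c₀ : F := -(β + β ^ q) / (hv q d d * (θ - θ ^ q)) with hc₀def
  have hc₀eq : c₀ * (hv q d d * (θ - θ ^ q)) = -(β + β ^ q) := by
    rw [hc₀def]
    field_simp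
  have hc : (β - -(c₀ * θ * hv q d d)) ^ q = -(β - -(c₀ * θ * hv q d d)) := by
    rw [sub_pow_q' hF, neg_pow_q hF, mul_pow, mul_pow, hc₀, hν]
    linear_combination hc₀eq
  have hk := SsetI_mv h (kA_mem_M h x₂ hc h2) hX1
  rw [mv_kA_pt] at hk
  have e1 : hv q (x₁ + -(c₀ * θ * hv q d d) • x₂) x₂ = 1 := by
    rw [hv_add_left, hv_smul_left, h12, h2]; ring
  rw [e1, mul_one] at hk
  have e2 : x₁ + -(c₀ * θ * hv q d d) • x₂ + (β - -(c₀ * θ * hv q d d)) • x₂ = x₁ + β • x₂ := by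
    ext i
    simp only [Pi.add_apply, Pi.smul_apply, smul_eq_mul]
    ring
  rwa [e2] at hk

/-- X3 core: GA2, GA3, GA4 as hypotheses -/
theorem WS_of_iso_core (h : WCtx a b q M)
    (hGA2 : ∀ {y : Fin b → F}, y ≠ 0 → hv q y y = 0 →
      ∃ z d : Fin b → F, hv q z z = 0 ∧ hv q y z = 1 ∧ hv q d y = 0 ∧ hv q d z = 0 ∧ hv q d d ≠ 0)
    (hGA3 : ∀ {x : Fin a → F}, hv q x x ≠ 0 →
      ∃ (x₁ x₂ : Fin a → F) (β : F), hv q x₁ x₁ = 0 ∧ hv q x₂ x₂ = 0 ∧ hv q x₁ x₂ = 1 ∧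
        x = x₁ + β • x₂)
    (hGA4 : ∃ θ : F, θ + θ ^ q = 1 ∧ θ ^ q ≠ θ)
    (hS : ∀ (x : Fin a → F) (y : Fin b → F), hv q x x = 0 → hv q y y = 0 → pt x y ∈ SsetI q M) :
    WS q M := by
  intro x y hy
  by_cases hx : hv q x x = 0
  · exact hS x y hx hy
  · obtain ⟨x₁, x₂, β, h1, h2, h12, rfl⟩ := hGA3 hx
    exact mix_core h hGA2 hGA4 hS h1 h2 h12 hy β

end Cfsg.Agent.Lib.Helper12.UTW2
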