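import Mathlib
import Cfsg.Agent.Lib.Helper12.UTW2X2core
import Cfsg.Agent.Lib.Helper23.UTGGA
import Cfsg.Agent.Lib.Helper12.UTW2Defs

/-!
[helper12, S5672 Stage III leaf III-G: verbatim copy of Helper15/UTGX2.lean with `MCtx ↦ WCtx` (weak context), namespace `Cfsg.Agent.Lib.Helper12.UTW2`]

S5670 part (G), leaves X2 `mix` and X3 `WS_of_iso` of `notes/S5670_G_leaves.lean` (helper5's market): exact signatures, from the
cores in `UTGX2core` and helper23's geometry leaves GA2 / GA3 / GA4.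
-/

set_option autoImplicit false
set_option linter.unusedSectionVars false
set_option linter.unusedVariables false

namespace Cfsg.Agent.Lib.Helper12.UTW2
open Matrix
open Cfsg.Agent.Lib.Helper25.Tens Cfsg.Agent.Lib.Helper25.TensLeaf Cfsg.Agent.Lib.Helper20.UT
open Cfsg.Agent.Lib.Helper5.UTG Cfsg.Agent.Lib.Helper5.SUGen Cfsg.Agent.Lib.Helper5.SUMax
open scoped Kronecker

variable {F : Type*} [Field F] [Fintype F] {a b q : ℕ}
variable {M : Subgroup (GL (Idx a b) F)}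

/-- X2 (MIX, all coefficients) -/
theorem mix (h : WCtx a b q M)
    (hS : ∀ (x : Fin a → F) (y : Fin b → F), hv q x x = 0 → hv q y y = 0 → pt x y ∈ SsetI q M)
    {x₁ x₂ : Fin a → F} (h1 : hv q x₁ x₁ = 0) (h2 : hv q x₂ x₂ = 0) (h12 : hv q x₁ x₂ = 1)
    {y : Fin b → F} (hy : hv q y y = 0) (β : F) : pt (x₁ + β • x₂) y ∈ SsetI q M :=
  mix_core h
    (fun hy0 hy => Cfsg.Agent.Lib.Helper23.UTGLeaf.exists_hyp_noniso h.hF (by have := h.hb; omega) hy0 hy)
    (Cfsg.Agent.Lib.Helper23.UTGLeaf.exists_theta h.hF) hS h1 h2 h12 hy β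

/-- X3: all `x ⊗ y`, `y` isotropic -/
theorem WS_of_iso (h : WCtx a b q M)
    (hS : ∀ (x : Fin a → F) (y : Fin b → F), hv q x x = 0 → hv q y y = 0 → pt x y ∈ SsetI q M) :
    WS q M :=
  WS_of_iso_core h
    (fun hy0 hy => Cfsg.Agent.Lib.Helper23.UTGLeaf.exists_hyp_noniso h.hF (by have := h.hb; omega) hy0 hy)
    (fun hx => Cfsg.Agent.Lib.Helper23.UTGLeaf.exists_hyp_repr h.hF h.ha hx)
    (Cfsg.Agent.Lib.Helper23.UTGLeaf.exists_theta h.hF) hS

end Cfsg.Agent.Lib.Helper12.UTW2
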