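import Mathlib
import Cfsg.Agent.Lib.Helper5.UTGDefs

/-!
# S5672 Stage III, leaf III-G (helper12, sub-planner helper19): S5670 part (G) under a WEAK context

`WCtx a b q M`: the overgroup `M ≤ GS` is only assumed to contain the two families of elementary unitary
transvections `kA q x c`, `kB q y c` (isotropic `x`, `y`, `c^q = -c`) instead of `KG ⊓ GS`, and `a < b` is dropped.
This file: the structure and the `MCtx`-dependent part of the `SsetI` calculus of `Helper5.UTGDefs`, re-proved.
Everything else of part (G) is re-run in `UTWK1 … UTWMain` (verbatim copies with `MCtx ↦ WCtx`), reusing the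
context-free definitions and lemmas of helper5 / helper6 / helper15 / helper20 / helper23.
-/

set_option autoImplicit false
set_option linter.unusedSectionVars false
set_option linter.unusedVariables false

namespace Cfsg.Agent.Lib.Helper12.UTW
open Matrix
open Cfsg.Agent.Lib.Helper25.Tens Cfsg.Agent.Lib.Helper25.TensLeaf Cfsg.Agent.Lib.Helper20.UT
open Cfsg.Agent.Lib.Helper5.UTG
open scoped Kronecker

variable {F : Type*} [Field F]

/-- the weak overgroup context -/
structure WCtx [Fintype F] (a b q : ℕ) (M : Subgroup (GL (Idx a b) F)) : Prop where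
  hF : Fintype.card F = q ^ 2
  ha : 2 ≤ a
  hb : 4 ≤ b
  hn : 8 ≤ a * b
  hex : ¬ (a = 2 ∧ q = 2)
  le_G : M ≤ GS a b q F
  kA_mem : ∀ (x : Fin a → F) (c : F) (hx : hv q x x = 0), c ^ q = -c → kA q x c hx ∈ M
  kB_mem : ∀ (y : Fin b → F) (c : F) (hy : hv q y y = 0), c ^ q = -c → kB q y c hy ∈ M

section scalc
variable [Fintype F] {a b q : ℕ} {M : Subgroup (GL (Idx a b) F)}

lemma SsetI_mv (h : WCtx a b q M) {g : GL (Idx a b) F} (hg : g ∈ M) {s : Idx a b → F}
    (hs : s ∈ SsetI q M) : mv g s ∈ SsetI q M := by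
  intro c hc t ht
  have hgU : g ∈ GUI a b q F := (h.le_G hg).1
  have h1 : g⁻¹ * t * g ∈ M := hs c hc _ (fun v => by
    rw [mv_mul, mv_mul, ht, mv_add, mv_smul, mv_inv_mv, mv_inv_mv, mem_GUI.mp hgU])
  have h2 : t = g * (g⁻¹ * t * g) * g⁻¹ := by group
  rw [h2]
  exact M.mul_mem (M.mul_mem hg h1) (M.inv_mem hg)

lemma SsetI_tv (h : WCtx a b q M) {s t : Idx a b → F} (hs : s ∈ SsetI q M) (ht : t ∈ SsetI q M)
    (htt : hv q t t = 0) {c : F} (hc : c ^ q = -c) : s + (c * hv q s t) • t ∈ SsetI q M := by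
  have hg : tvV q t c htt ∈ M := ht c hc _ (mv_tvV q t c htt)
  have := SsetI_mv h hg hs
  rwa [mv_tvV] at this

/-- the hyperbolic line step: the sum of two non-perpendicular isotropic members is a member,
if it is isotropic -/
lemma SsetI_add (h : WCtx a b q M) {s t : Idx a b → F} (hs : s ∈ SsetI q M) (ht : t ∈ SsetI q M)
    (hss : hv q s s = 0) (htt : hv q t t = 0) (hst : hv q s t ≠ 0)
    (hiso : hv q (s + t) (s + t) = 0) : s + t ∈ SsetI q M := by
  have hF := h.hF
  have hsk : (hv q s t) ^ q = - hv q s t := by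
    have h1 : hv q (s + t) (s + t) = hv q s t + hv q t s := by
      rw [hv_add_left, hv_add_right hF, hv_add_right hF, hss, htt]; ring
    rw [hiso] at h1
    rw [hv_conj hF]
    linear_combination -h1
  have hc : ((hv q s t)⁻¹) ^ q = -(hv q s t)⁻¹ := by
    rw [inv_pow, hsk, inv_neg]
  have := SsetI_tv h hs ht htt hc
  rwa [inv_mul_cancel₀ hst, one_smul] at this

lemma SsetI_add_smul (h : WCtx a b q M) {s t : Idx a b → F} (hs : s ∈ SsetI q M)
    (ht : t ∈ SsetI q M) (hss : hv q s s = 0) (htt : hv q t t = 0) (hst : hv q s t ≠ 0) (l : F)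
    (hiso : hv q (s + l • t) (s + l • t) = 0) : s + l • t ∈ SsetI q M := by
  by_cases hl : l = 0
  · rw [hl, zero_smul, add_zero]; exact hs
  have hF := h.hF
  have hq : q ≠ 0 := by
    rintro rfl
    have : 2 ≤ Fintype.card F := Fintype.one_lt_card
    rw [hF] at this; omega
  apply SsetI_add h hs (SsetI_smul hF ht l) hss
  · rw [hv_smul_left, hv_smul_right, htt]; ring
  · rw [hv_smul_right]
    exact mul_ne_zero (pow_ne_zero q hl) hst
  · exact hiso

lemma kB_mem_M (h : WCtx a b q M) (y : Fin b → F) {c : F} (hc : c ^ q = -c) (hy : hv q y y = 0) :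
    (kB q y c hy : GL (Idx a b) F) ∈ M :=
  h.kB_mem y c hy hc

lemma kA_mem_M (h : WCtx a b q M) (x : Fin a → F) {c : F} (hc : c ^ q = -c) (hx : hv q x x = 0) :
    (kA q x c hx : GL (Idx a b) F) ∈ M :=
  h.kA_mem x c hx hc

end scalc

end Cfsg.Agent.Lib.Helper12.UTW
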