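import Mathlib
import Cfsg.Agent.Lib.Helper5.UTGDefs
import Cfsg.Agent.Lib.Helper12.UTWDefs
import Cfsg.Agent.Lib.Helper23.UTG

/-!
[helper12, S5672 Stage III leaf III-G: verbatim copy of Helper6/UTGH1.lean with `MCtx ↦ WCtx` (weak context), namespace `Cfsg.Agent.Lib.Helper12.UTW`]
-/

set_option autoImplicit false
set_option linter.unusedSectionVars false
set_option linter.unusedVariables false

namespace Cfsg.Agent.Lib.Helper12.UTW
open Matrix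
open Cfsg.Agent.Lib.Helper25.Tens Cfsg.Agent.Lib.Helper25.TensLeaf Cfsg.Agent.Lib.Helper20.UT
open Cfsg.Agent.Lib.Helper5.UTG Cfsg.Agent.Lib.Helper5.SUGen Cfsg.Agent.Lib.Helper5.SUMax
open scoped Kronecker

variable {F : Type*} [Field F] [Fintype F] {a b q : ℕ}

variable {M : Subgroup (GL (Idx a b) F)}

/-- the form on `A ⊗ ⟨y₁, y₂⟩` for a hyperbolic pair `y₁, y₂` -/
lemma hv_line (hF : Fintype.card F = q ^ 2) {y₁ y₂ : Fin b → F} (hy₁ : hv q y₁ y₁ = 0)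
    (hy₂ : hv q y₂ y₂ = 0) (h12 : hv q y₁ y₂ = 1) (X₁ X₂ X₁' X₂' : Fin a → F) :
    hv q (pt X₁ y₁ + pt X₂ y₂) (pt X₁' y₁ + pt X₂' y₂) = hv q X₁ X₂' + hv q X₂ X₁' := by
  have h21 : hv q y₂ y₁ = 1 := by rw [← hv_conj hF, h12, one_pow]
  rw [hv_add_left, hv_add_right hF, hv_add_right hF, hv_pt, hv_pt, hv_pt, hv_pt, hy₁, hy₂, h12, h21]
  ring

/-- H1: every isotropic vector of `A ⊗ ⟨y₁, y₂⟩` is a member. -/
theorem iso_line (h : WCtx a b q M) (hW : WS q M) {y₁ y₂ : Fin b → F} (hy₁ : hv q y₁ y₁ = 0)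
    (hy₂ : hv q y₂ y₂ = 0) (h12 : hv q y₁ y₂ = 1) (X₁ X₂ : Fin a → F)
    (hiso : hv q (pt X₁ y₁ + pt X₂ y₂) (pt X₁ y₁ + pt X₂ y₂) = 0) :
    pt X₁ y₁ + pt X₂ y₂ ∈ SsetI q M := by
  have hF := h.hF
  -- case (i) as a general statement
  have caseI : ∀ X₁ X₂ : Fin a → F, hv q X₁ X₂ ≠ 0 →
      hv q (pt X₁ y₁ + pt X₂ y₂) (pt X₁ y₁ + pt X₂ y₂) = 0 →
      pt X₁ y₁ + pt X₂ y₂ ∈ SsetI q M := by
    intro X₁ X₂ hne hiso
    apply SsetI_add h (hW X₁ y₁ hy₁) (hW X₂ y₂ hy₂)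
    · rw [hv_pt, hy₁, mul_zero]
    · rw [hv_pt, hy₂, mul_zero]
    · rw [hv_pt, h12, mul_one]; exact hne
    · exact hiso
  by_cases hne : hv q X₁ X₂ ≠ 0
  · exact caseI X₁ X₂ hne hiso
  rw [not_not] at hne
  by_cases hX₁ : X₁ = 0
  · rw [hX₁, pt_zero_left, zero_add]
    exact hW X₂ y₂ hy₂
  -- case (iii)
  obtain ⟨c₀, hc₀0, hc₀⟩ := Cfsg.Agent.Lib.Helper23.UTLeaf.exists_skew hF
  obtain ⟨i, hi⟩ : ∃ i, X₁ i ≠ 0 := by
    by_contra hcon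
    push Not at hcon
    exact hX₁ (funext hcon)
  have hq0 : q ≠ 0 := by
    rintro rfl
    have : 2 ≤ Fintype.card F := Fintype.one_lt_card
    rw [hF] at this; omega
  have hsingle : hv q X₁ (Pi.single i 1) = X₁ i := by
    unfold hv
    rw [Finset.sum_eq_single i]
    · rw [Pi.single_eq_same, one_pow, mul_one]
    · intro j _ hji
      rw [Pi.single_eq_of_ne hji, zero_pow hq0, mul_zero]
    · intro hi'; exact absurd (Finset.mem_univ i) hi'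
  obtain ⟨X', hX'⟩ : ∃ X' : Fin a → F, hv q X₁ X' = c₀ := by
    refine ⟨((c₀ / X₁ i) ^ q) • Pi.single i 1, ?_⟩
    rw [hv_smul_right, pow_q_pow_q' hF, hsingle, div_mul_cancel₀ _ hi]
  have hX'1 : hv q X' X₁ = -c₀ := by rw [← hv_conj hF, hX', hc₀]
  have hv₁ : pt X₁ y₁ + pt X' y₂ ∈ SsetI q M := by
    apply caseI X₁ X' (by rw [hX']; exact hc₀0)
    rw [hv_line hF hy₁ hy₂ h12, hX', hX'1]
    ring
  have hsum : pt X₁ y₁ + pt X₂ y₂ = (pt X₁ y₁ + pt X' y₂) + pt (X₂ - X') y₂ := by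
    rw [sub_eq_add_neg, pt_add_left, ← neg_one_smul F X', pt_smul_left]
    module
  rw [hsum]
  have hzero : pt (X₂ - X') y₂ = pt (0 : Fin a → F) y₁ + pt (X₂ - X') y₂ := by
    rw [pt_zero_left, zero_add]
  apply SsetI_add h hv₁ (hW _ y₂ hy₂)
  · rw [hv_line hF hy₁ hy₂ h12, hX', hX'1]
    ring
  · rw [hv_pt, hy₂, mul_zero]
  · rw [hzero, hv_line hF hy₁ hy₂ h12, hv_sub_right hF, hne, hX']
    have : hv q X' (0 : Fin a → F) = 0 := by
      unfold hv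
      apply Finset.sum_eq_zero
      intro j _
      rw [Pi.zero_apply, zero_pow hq0, mul_zero]
    rw [this, zero_sub, add_zero]
    exact neg_ne_zero.mpr hc₀0
  · rw [← hsum]; exact hiso

end Cfsg.Agent.Lib.Helper12.UTW
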