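import Mathlib
import Cfsg.Agent.Lib.Helper5.UTGDefs
import Cfsg.Agent.Lib.Helper12.UTWDefs
import Cfsg.Agent.Lib.Helper23.UTG

/-!
[helper12, S5672 Stage III leaf III-G: verbatim copy of Helper5/UTGK1.lean with `MCtx ↦ WCtx` (weak context), namespace `Cfsg.Agent.Lib.Helper12.UTW`]

S5670 (G) leaf K1 `blockG_mem`: the block group of a non-isotropic `x₀` lies in `M`.
-/

set_option autoImplicit false
set_option linter.unusedSectionVars false
set_option linter.unusedVariables false

namespace Cfsg.Agent.Lib.Helper12.UTW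
open Matrix
open Cfsg.Agent.Lib.Helper25.Tens Cfsg.Agent.Lib.Helper25.TensLeaf Cfsg.Agent.Lib.Helper20.UT
open Cfsg.Agent.Lib.Helper5.UTG Cfsg.Agent.Lib.Helper5.SUGen Cfsg.Agent.Lib.Helper5.SUMax
open Cfsg.Agent.Lib.Helper5.HermBridge Cfsg.Agent.Lib.Helper5.UForm
open scoped Kronecker

variable {F : Type*} [Field F] [Fintype F] {a b q : ℕ}
variable {M : Subgroup (GL (Idx a b) F)}

/-- K1: the block group of a non-isotropic `x₀` lies in `M`. -/
theorem blockG_mem (h : WCtx a b q M) {x₀ : Fin a → F} (hx₀ : hv q x₀ x₀ ≠ 0)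
    (hS : ∀ y : Fin b → F, hv q y y = 0 → pt x₀ y ∈ SsetI q M) {t : ↥(Cfsg.SU b F q)}
    (ht : t ∈ TU q (⊤ : Submodule F (Fin b → F))) :
    (blockG q x₀ hx₀ (emb b F q t) : GL (Idx a b) F) ∈ M := by
  have hF := h.hF
  have hf := herm_unitary (n := b) hF
  unfold TU at ht
  refine Subgroup.closure_induction
    (p := fun t _ => (blockG q x₀ hx₀ (emb b F q t) : GL (Idx a b) F) ∈ M) ?_ ?_ ?_ ?_ ht
  · rintro A ⟨v, -, c, hvv, hA⟩
    have hAx : ∀ x, av A x = x + (c * Cfsg.hermForm b F q x v) • v := by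
      intro x; unfold av; rw [hA, ut_mulVec]
    by_cases hdeg : v = 0 ∨ c = 0
    · have hA1 : A = 1 := by
        apply av_ext
        intro x
        rw [hAx, av_one]
        rcases hdeg with h | h
        · rw [h, smul_zero, add_zero]
        · rw [h, zero_mul, zero_smul, add_zero]
      rw [hA1, map_one, blockG_one]
      exact M.one_mem
    push Not at hdeg
    obtain ⟨hv0, hc0⟩ := hdeg
    have hskew : frobQ hF c = -c := by
      obtain ⟨x, hx⟩ := (hf.nondegenerate v hv0).1
      have h1 := av_iso A x x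
      rw [hAx, u_expand hf, hvv, mul_zero, add_zero, hf.herm v x, map_mul] at h1
      have h2 : (frobQ hF c + c) * (Cfsg.hermForm b F q x v *
          frobQ hF (Cfsg.hermForm b F q x v)) = 0 := by linear_combination h1
      rcases mul_eq_zero.mp h2 with h | h
      · linear_combination h
      · exfalso
        rcases mul_eq_zero.mp h with h' | h'
        · exact hx h'
        · exact hx ((map_eq_zero (frobQ hF)).mp h')
    have hc : c ^ q = -c := by rw [← frobQ_apply hF]; exact hskew
    have hν : (hv q x₀ x₀) ^ q = hv q x₀ x₀ := hv_self_pow hF x₀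
    have hc' : (c / hv q x₀ x₀) ^ q = -(c / hv q x₀ x₀) := by rw [div_pow, hc, hν, neg_div]
    have hs0 : hv q (pt x₀ v) (pt x₀ v) = 0 := by
      rw [hv_pt]
      have : hv q v v = 0 := hvv
      rw [this, mul_zero]
    have hE : ((emb b F q A : GL (Fin b) F) : Matrix (Fin b) (Fin b) F) =
        Cfsg.unitaryTransvection b q v c := hA
    have hmat : (blockG q x₀ hx₀ (emb b F q A) : GL (Idx a b) F) =
        tvV q (pt x₀ v) (c / hv q x₀ x₀) hs0 := by
      apply Units.ext
      rw [blockG_val, hE]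
      unfold Cfsg.unitaryTransvection tvV projM
      simp only
      rw [add_sub_cancel_left]
      congr 1
      ext ⟨i, l⟩ ⟨i', l'⟩
      simp only [Matrix.kroneckerMap_apply, Matrix.smul_apply, Matrix.vecMulVec_apply, smul_eq_mul,
        cj, pt, mul_pow]
      field_simp
    apply hS v hvv (c / hv q x₀ x₀) hc'
    intro v'
    rw [hmat, mv_tvV]
  · rw [map_one, blockG_one]
    exact M.one_mem
  · intro x y _ _ hx hy
    rw [map_mul, blockG_mul]
    exact M.mul_mem hx hy
  · intro x _ hx
    rw [map_inv, blockG_inv]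
    exact M.inv_mem hx

end Cfsg.Agent.Lib.Helper12.UTW
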