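import Mathlib
import Cfsg.Agent.Lib.Helper5.UTGDefs
import Cfsg.Agent.Lib.Helper12.UTWDefs
import Cfsg.Agent.Lib.Helper12.UTWK2
import Cfsg.Agent.Lib.Helper12.UTWR1
import Cfsg.Agent.Lib.Helper12.UTWB1
import Cfsg.Agent.Lib.Helper12.UTWP12
import Cfsg.Agent.Lib.Helper12.UTWH1
import Cfsg.Agent.Lib.Helper12.UTWX2

/-!
# S5672 Stage III, leaf III-G (helper12, sub-planner helper19): `stageIII_weak`

S5670 part (G) = Stage III under the WEAK context `WCtx` (only the elementary transvections `kA`, `kB` are assumed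
to lie in `M`; no `a < b`):
`stageIII_weak (h : WCtx a b q M) (hT : T1U' q M) : GS a b q F ≤ M`.
Verbatim re-run of `Helper5.UTGMain.stageIII_iso` on the copies `UTWK1 … UTWX2`.
-/

set_option autoImplicit false
set_option linter.unusedSectionVars false
set_option linter.unusedVariables false

namespace Cfsg.Agent.Lib.Helper12.UTW
open Matrix
open Cfsg.Agent.Lib.Helper25.Tens Cfsg.Agent.Lib.Helper25.TensLeaf Cfsg.Agent.Lib.Helper20.UT
open Cfsg.Agent.Lib.Helper5.UTG
open scoped Kronecker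

variable {F : Type*} [Field F] [Fintype F] {a b q : ℕ} {M : Subgroup (GL (Idx a b) F)}

/-- R1: all isotropic vectors are members -/
theorem all_iso (h : WCtx a b q M) (hW : WS q M) :
    ∀ v : Idx a b → F, hv q v v = 0 → v ∈ SsetI q M :=
  all_iso_core h hW
    (fun hy₁ hy₂ h12 X₁ X₂ hiso => iso_line h hW hy₁ hy₂ h12 X₁ X₂ hiso)
    (fun hx₀ hS => fun hz0 hw0 hN => block_move h hx₀ hS hz0 hw0 hN)

/-- STAGE III of S5670 under the weak context -/
theorem stageIII_weak (h : WCtx a b q M) (hT : Cfsg.Agent.Lib.Helper5.UTG.T1U' q M) :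
    GS a b q F ≤ M := by
  obtain ⟨x₀, y₀, hx₀0, hy₀0, hx₀, hy₀, hs⟩ := hT
  have hS : ∀ (x : Fin a → F) (y : Fin b → F), hv q x x = 0 → hv q y y = 0 →
      pt x y ∈ SsetI q M := by
    intro x y hx hy
    exact ptS_A h hx₀0 hx₀ (ptS_B h hy₀0 hy₀ hs hy) hx
  exact GS_le_of_all h (all_iso h (WS_of_iso h hS))

end Cfsg.Agent.Lib.Helper12.UTW
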