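/-
helper12: S0720 leaf W2P-INV (`exists_inverting`), planner helper19 (notes/S0720_leaves.lean).
-/
import Mathlib
import Cfsg.Agent.Lib.Helper19.W2PDefs
import Cfsg.Agent.Lib.Helper16.DOSETUP

set_option autoImplicit false

namespace Cfsg.Agent.Lib.Helper12.W2PINV

open Cfsg Cfsg.Agent.Lib.Helper19.W2P

universe u v

section units

/-- a subgroup of `(ZMod p)ˣ` of order divisible by `4` contains a square root of `-1` -/
theorem exists_sq_eq_neg_one {p : ℕ} [Fact p.Prime] (hodd : p ≠ 2) (E : Subgroup (ZMod p)ˣ)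
    (h4 : 4 ∣ Nat.card E) : ∃ u ∈ E, u * u = -1 := by
  haveI : IsCyclic ↥E := inferInstance
  obtain ⟨g, hg⟩ := IsCyclic.exists_ofOrder_eq_natCard (α := ↥E)
  obtain ⟨m, hm⟩ := h4
  have hm0 : 0 < m := by
    rcases Nat.eq_zero_or_pos m with h | h
    · subst h; have : 0 < Nat.card ↥E := Nat.card_pos; omega
    · exact h
  have ho : orderOf (g ^ m) = 4 := by
    rw [orderOf_pow' g hm0.ne', hg, hm, Nat.gcd_eq_right (Dvd.intro_left 4 rfl)]
    exact Nat.mul_div_cancel _ hm0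
  set w : (ZMod p)ˣ := ((g ^ m : ↥E) : (ZMod p)ˣ) with hw
  have how : orderOf w = 4 := by rw [hw, Subgroup.orderOf_coe]; exact ho
  refine ⟨w, (g ^ m).2, ?_⟩
  have h1 : (w * w) * (w * w) = 1 := by
    have := pow_orderOf_eq_one w
    rw [how] at this
    calc (w * w) * (w * w) = w ^ 4 := by
          rw [show (4 : ℕ) = 2 + 2 from rfl, pow_add, pow_two]
      _ = 1 := this
  have h2 : w * w ≠ 1 := by
    intro h
    have : orderOf w ∣ 2 := orderOf_dvd_of_pow_eq_one (by rw [pow_two]; exact h)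
    rw [how] at this
    omega
  -- in a field, `v * v = 1` forces `v = 1 ∨ v = -1`
  have h3 : ((w * w : (ZMod p)ˣ) : ZMod p) * ((w * w : (ZMod p)ˣ) : ZMod p) = 1 := by
    have := congrArg (fun v : (ZMod p)ˣ => (v : ZMod p)) h1
    simpa using this
  have h4' := mul_self_eq_one_iff.mp h3
  rcases h4' with h | h
  · exact absurd (Units.ext h) h2
  · exact Units.ext h

end units

section perm

variable {G : Type u} [Group G] {Ω : Type v} [MulAction G Ω]

/-- W2P-INV: an element of `N_G(P) ∩ G_α` inverting `P`, with its fixed point in the other `P`-orbit. -/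
theorem exists_inverting {p : ℕ} (hp : p.Prime) (hodd : p ≠ 2) [Finite G] [Fintype Ω]
    (hcard : Fintype.card Ω = 2 * p) (P : Subgroup G) (hP : Nat.card P = p) (hsemi : Semireg P Ω)
    (h4 : 4 ∣ (Subgroup.centralizer (P : Set G)).relIndex (Subgroup.normalizer (P : Set G)))
    (α : Ω) :
    ∃ (z : G) (β : Ω), z • α = α ∧ z • β = β ∧ (∀ y ∈ P, y • α ≠ β) ∧
      ∀ x ∈ P, z * x * z⁻¹ = x⁻¹ := by
  classical
  haveI : Fact p.Prime := ⟨hp⟩
  have hp2 : 2 ≤ p := hp.two_le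
  -- a generator of `P`
  have hPne : ∃ x0 ∈ P, x0 ≠ 1 := by
    by_contra hcon
    push Not at hcon
    have : P = ⊥ := by
      rw [Subgroup.eq_bot_iff_forall]; exact hcon
    rw [this, Subgroup.card_bot] at hP
    omega
  obtain ⟨x0, hx0P, hx01⟩ := hPne
  have hord : orderOf x0 = p := by
    have hdvd : orderOf x0 ∣ p := by
      rw [← hP]; exact Subgroup.orderOf_dvd_natCard _ hx0P
    rcases (Nat.dvd_prime hp).mp hdvd with h | h
    · exact absurd (orderOf_eq_one_iff.mp h) hx01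
    · exact h
  have hgen : P = Subgroup.zpowers x0 := by
    symm
    apply Subgroup.eq_of_le_of_card_ge
    · rw [Subgroup.zpowers_le]; exact hx0P
    · rw [Nat.card_zpowers, hord, hP]
  -- the image of `N` in `(ZMod p)ˣ`
  obtain ⟨E, hE, hEcard⟩ := Cfsg.Agent.Lib.Helper16.DOSETUP.exists_E (p := p) P hP x0 hgen
    (Subgroup.normalizer (P : Set G)) (Subgroup.centralizer_le_normalizer _ ) le_rfl
  have h4E : 4 ∣ Nat.card E := by rw [hEcard]; exact h4
  obtain ⟨u, huE, hu⟩ := exists_sq_eq_neg_one hodd E h4E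
  obtain ⟨s', hs'N, hs'⟩ := (hE u).mp huE
  -- conjugation by an element of the normalizer
  have hNconj : ∀ n ∈ Subgroup.normalizer (P : Set G), ∀ y ∈ P, n * y * n⁻¹ ∈ P := fun n hn y hy =>
    (Subgroup.mem_normalizer_iff.mp hn y).mp hy
  have hNconj' : ∀ n ∈ Subgroup.normalizer (P : Set G), ∀ y ∈ P, n⁻¹ * y * n ∈ P := fun n hn y hy => by
    have := hNconj n⁻¹ (Subgroup.inv_mem _ hn) y hy
    simpa using this
  -- `s = s' ^ 2` inverts `x0`
  have hconjpow : ∀ (n y : G) (k : ℕ), n * y ^ k * n⁻¹ = (n * y * n⁻¹) ^ k := by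
    intro n y k
    induction k with
    | zero => simp
    | succ k ih => rw [pow_succ, pow_succ, ← ih]; group
  have hsx0 : (s' * s') * x0 * (s' * s')⁻¹ = x0⁻¹ := by
    have h1 : (s' * s') * x0 * (s' * s')⁻¹ = s' * (s' * x0 * s'⁻¹) * s'⁻¹ := by group
    rw [h1, hs', hconjpow, hs', ← Cfsg.Agent.Lib.Helper16.DOSETUP.pow_val_mul hord]
    have h2 : ((u : ZMod p) * (u : ZMod p)) = -1 := by
      have := congrArg (fun v : (ZMod p)ˣ => (v : ZMod p)) hu
      simpa using this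
    rw [h2]
    have h3 : x0 ^ ((-1 : ZMod p)).val * x0 = 1 := by
      rw [← pow_succ]
      apply orderOf_dvd_iff_pow_eq_one.mp
      rw [hord, ← ZMod.natCast_eq_zero_iff]
      push_cast
      rw [ZMod.natCast_zmod_val]
      ring
    exact eq_inv_of_mul_eq_one_left h3
  set s : G := s' * s' with hs
  have hsN : s ∈ Subgroup.normalizer (P : Set G) := Subgroup.mul_mem _ hs'N hs'N
  have hsinv : ∀ x ∈ P, s * x * s⁻¹ = x⁻¹ := by
    intro x hx
    rw [hgen] at hx
    obtain ⟨k, rfl⟩ := Cfsg.Agent.Lib.Helper16.DOSETUP.exists_pow_val hord hx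
    rw [hconjpow, hsx0, inv_pow]
  -- the two `P`-orbits
  have hinjα : ∀ ω : Ω, ∀ y ∈ P, ∀ y' ∈ P, y • ω = y' • ω → y = y' := by
    intro ω y hy y' hy' h
    by_contra hne
    have h1 : (y'⁻¹ * y) • ω = ω := by rw [mul_smul, h, ← mul_smul, inv_mul_cancel, one_smul]
    exact hsemi (y'⁻¹ * y) (Subgroup.mul_mem _ (Subgroup.inv_mem _ hy') hy)
      (fun h2 => hne (by rw [inv_mul_eq_one] at h2; exact h2.symm)) ω h1
  haveI : Fintype ↥P := Fintype.ofFinite ↥P
  have hcardP : Fintype.card ↥P = p := by rw [← Nat.card_eq_fintype_card, hP]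
  have hγ : ∃ γ : Ω, ∀ y ∈ P, y • α ≠ γ := by
    by_contra hcon
    push Not at hcon
    have hsurj : Function.Surjective (fun y : ↥P => (y : G) • α) := by
      intro ω; obtain ⟨y, hy, h⟩ := hcon ω; exact ⟨⟨y, hy⟩, h⟩
    have := Fintype.card_le_of_surjective _ hsurj
    rw [hcard, hcardP] at this
    omega
  obtain ⟨γ, hγ⟩ := hγ
  have hcover : ∀ ω : Ω, (∃ y ∈ P, y • α = ω) ∨ (∃ y ∈ P, y • γ = ω) := by
    let F : Bool × ↥P → Ω := fun b => (b.2 : G) • (if b.1 then α else γ)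
    have hFinj : Function.Injective F := by
      rintro ⟨b, y⟩ ⟨b', y'⟩ h
      cases b <;> cases b' <;> simp only [F] at h
      · have := hinjα γ y y.2 y' y'.2 (by simpa using h)
        rw [Subtype.ext this]
      · exfalso
        simp only [Bool.false_eq_true, if_false, if_true] at h
        apply hγ ((y : G)⁻¹ * y') (Subgroup.mul_mem _ (Subgroup.inv_mem _ y.2) y'.2)
        rw [mul_smul, ← h, ← mul_smul, inv_mul_cancel, one_smul]
      · exfalso
        simp only [Bool.false_eq_true, if_false, if_true] at h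
        apply hγ ((y' : G)⁻¹ * y) (Subgroup.mul_mem _ (Subgroup.inv_mem _ y'.2) y.2)
        rw [mul_smul, h, ← mul_smul, inv_mul_cancel, one_smul]
      · have := hinjα α y y.2 y' y'.2 (by simpa using h)
        rw [Subtype.ext this]
    have hFbij : Function.Bijective F := by
      rw [Fintype.bijective_iff_injective_and_card]
      refine ⟨hFinj, ?_⟩
      rw [Fintype.card_prod, Fintype.card_bool, hcardP, hcard]
    intro ω
    obtain ⟨⟨b, y⟩, hb⟩ := hFbij.2 ω
    cases b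
    · right; exact ⟨y, y.2, by simpa [F] using hb⟩
    · left; exact ⟨y, y.2, by simpa [F] using hb⟩
  -- an element of `N` maps `P`-orbits to `P`-orbits
  have hmove : ∀ n ∈ Subgroup.normalizer (P : Set G), ∀ y ∈ P, ∀ ω : Ω,
      n • (y • ω) = (n * y * n⁻¹) • (n • ω) := by
    intro n _ y _ ω
    rw [← mul_smul, ← mul_smul]; congr 1; group
  -- `s α` lies in the orbit of `α`
  have hsα : ∃ y0 ∈ P, y0 • α = s • α := by
    rcases hcover (s' • α) with ⟨y1, hy1, h1⟩ | ⟨y1, hy1, h1⟩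
    · refine ⟨(s' * y1 * s'⁻¹) * y1, Subgroup.mul_mem _ (hNconj s' hs'N y1 hy1) hy1, ?_⟩
      rw [hs, mul_smul s' s' α, ← h1, hmove s' hs'N y1 hy1 α, ← h1, ← mul_smul]
    · rcases hcover (s' • γ) with ⟨y2, hy2, h2⟩ | ⟨y2, hy2, h2⟩
      · refine ⟨(s' * y1 * s'⁻¹) * y2, Subgroup.mul_mem _ (hNconj s' hs'N y1 hy1) hy2, ?_⟩
        rw [hs, mul_smul s' s' α, ← h1, hmove s' hs'N y1 hy1 γ, ← h2, ← mul_smul]
      · exfalso
        -- `s'` maps everything into the orbit of `γ`; but `α = s' (s'⁻¹ α)`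
        have hall : ∀ ω : Ω, ∃ y ∈ P, y • γ = s' • ω := by
          intro ω
          rcases hcover ω with ⟨y, hy, h⟩ | ⟨y, hy, h⟩
          · refine ⟨(s' * y * s'⁻¹) * y1, Subgroup.mul_mem _ (hNconj s' hs'N y hy) hy1, ?_⟩
            rw [← h, hmove s' hs'N y hy α, ← h1, ← mul_smul]
          · refine ⟨(s' * y * s'⁻¹) * y2, Subgroup.mul_mem _ (hNconj s' hs'N y hy) hy2, ?_⟩
            rw [← h, hmove s' hs'N y hy γ, ← h2, ← mul_smul]
        obtain ⟨y, hy, h⟩ := hall (s'⁻¹ • α)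
        rw [← mul_smul, mul_inv_cancel, one_smul] at h
        apply hγ (y⁻¹) (Subgroup.inv_mem _ hy)
        rw [← h, ← mul_smul, inv_mul_cancel, one_smul]
  obtain ⟨y0, hy0, hy0α⟩ := hsα
  -- `z = y0⁻¹ s` fixes `α` and inverts `P`
  set z : G := y0⁻¹ * s with hz
  have hzN : z ∈ Subgroup.normalizer (P : Set G) :=
    Subgroup.mul_mem _ (Subgroup.le_normalizer (Subgroup.inv_mem _ hy0)) hsN
  have hzα : z • α = α := by
    rw [hz, mul_smul, ← hy0α, ← mul_smul, inv_mul_cancel, one_smul]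
  have hPcomm : ∀ a ∈ P, ∀ b ∈ P, a * b = b * a := by
    intro a ha b hb
    rw [hgen] at ha hb
    obtain ⟨k, rfl⟩ := Subgroup.mem_zpowers_iff.mp ha
    obtain ⟨l, rfl⟩ := Subgroup.mem_zpowers_iff.mp hb
    exact (Commute.zpow_zpow_self x0 k l).eq
  have hzinv : ∀ x ∈ P, z * x * z⁻¹ = x⁻¹ := by
    intro x hx
    have h1 : z * x * z⁻¹ = y0⁻¹ * (s * x * s⁻¹) * y0 := by rw [hz]; group
    rw [h1, hsinv x hx]
    have := hPcomm y0⁻¹ (Subgroup.inv_mem _ hy0) x⁻¹ (Subgroup.inv_mem _ hx)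
    rw [this]; group
  -- `z γ` lies in the orbit of `γ`
  have hzγ : ∃ y1 ∈ P, y1 • γ = z • γ := by
    rcases hcover (z • γ) with ⟨y, hy, h⟩ | h
    · exfalso
      apply hγ (z⁻¹ * y * z) (hNconj' z hzN y hy)
      have : (z⁻¹ * y * z) • α = z⁻¹ • (y • (z • α)) := by rw [← mul_smul, ← mul_smul]
      rw [this, hzα, h, ← mul_smul, inv_mul_cancel, one_smul]
    · exact h
  obtain ⟨y1, hy1, hy1γ⟩ := hzγ
  -- square root of `y1`
  have hy1p : y1 ^ p = 1 := by
    apply orderOf_dvd_iff_pow_eq_one.mp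
    rw [← hP]; exact Subgroup.orderOf_dvd_natCard _ hy1
  obtain ⟨m, hm⟩ : ∃ m, p + 1 = 2 * m := by
    rcases Nat.Prime.eq_two_or_odd' hp with h | h
    · exact absurd h hodd
    · obtain ⟨k, hk⟩ := h; exact ⟨k + 1, by omega⟩
  set y : G := y1 ^ m with hy
  have hyP : y ∈ P := Subgroup.pow_mem _ hy1 m
  have hyy : y * y = y1 := by
    rw [hy, ← pow_add, ← two_mul, ← hm, pow_succ, hy1p, one_mul]
  refine ⟨z, y • γ, hzα, ?_, ?_, hzinv⟩
  · rw [hmove z hzN y hyP γ, hzinv y hyP, ← hy1γ, ← mul_smul]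
    congr 1
    rw [← hyy]; group
  · intro y' hy' h
    apply hγ (y⁻¹ * y') (Subgroup.mul_mem _ (Subgroup.inv_mem _ hyP) hy')
    rw [mul_smul, h, ← mul_smul, inv_mul_cancel, one_smul]

end perm

end Cfsg.Agent.Lib.Helper12.W2PINV
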