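/-
helper12: S0720 leaf W2P-SMALL (`two_transitive_of_card_four`), planner helper19 (notes/S0720_leaves.lean).
-/
import Mathlib

set_option autoImplicit false

namespace Cfsg.Agent.Lib.Helper12.W2PSMALL

universe u v

variable {G : Type u} [Group G] {Ω : Type v} [MulAction G Ω]

/-- in a faithful primitive action on a set of `4` points the stabilizer `G_α` fixes no other point -/
theorem no_second_fixed_point [Finite G] [Fintype Ω] [FaithfulSMul G Ω]
    (hcard : Fintype.card Ω = 4) (hprim : MulAction.IsPreprimitive G Ω) (α β : Ω) (hαβ : β ≠ α)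
    (hfix : ∀ h ∈ MulAction.stabilizer G α, h • β = β) : False := by
  classical
  haveI : MulAction.IsPretransitive G Ω := hprim.toIsPretransitive
  haveI : Nontrivial Ω := by
    rw [← Fintype.one_lt_card_iff_nontrivial, hcard]; norm_num
  have hco : IsCoatom (MulAction.stabilizer G α) :=
    (MulAction.isCoatom_stabilizer_iff_preprimitive (G := G) α).mpr hprim
  set H := MulAction.stabilizer G α with hH
  -- stabilizers have the same order
  have hcardstab : ∀ ω : Ω, Nat.card ↥(MulAction.stabilizer G ω) = Nat.card ↥H := by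
    intro ω
    obtain ⟨g, rfl⟩ := MulAction.exists_smul_eq G α ω
    rw [MulAction.stabilizer_smul_eq_stabilizer_map_conj,
      Subgroup.card_map_of_injective (MulAut.conj g).injective]
  have hHβ : H = MulAction.stabilizer G β := by
    apply Subgroup.eq_of_le_of_card_ge
    · intro h hh; exact MulAction.mem_stabilizer_iff.mpr (hfix h hh)
    · rw [hcardstab β]
  obtain ⟨g, hg⟩ := MulAction.exists_smul_eq G α β
  have hgH : g ∉ H := by
    intro h; rw [hH, MulAction.mem_stabilizer_iff] at h; exact hαβ (hg.symm.trans h)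
  have hmap : H.map (MulAut.conj g).toMonoidHom = H := by
    rw [hH, ← MulAction.stabilizer_smul_eq_stabilizer_map_conj, hg, ← hHβ]
  have hgN : g ∈ Subgroup.normalizer (H : Set G) := by
    rw [Subgroup.mem_normalizer_iff]
    intro h
    constructor
    · intro hh
      have : g * h * g⁻¹ ∈ H.map (MulAut.conj g).toMonoidHom := ⟨h, hh, rfl⟩
      rwa [hmap] at this
    · intro hh
      rw [← hmap] at hh
      obtain ⟨h', hh', h2⟩ := hh
      have : h' = h := by
        have h3 : g * h' * g⁻¹ = g * h * g⁻¹ := h2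
        have := congrArg (fun z => g⁻¹ * z * g) h3
        simpa [mul_assoc] using this
      rw [← this]; exact hh'
  have hNtop : Subgroup.normalizer (H : Set G) = ⊤ := by
    apply hco.2
    exact lt_of_le_of_ne Subgroup.le_normalizer (fun h => hgH (by rw [h]; exact hgN))
  -- `H` fixes every point
  have hall : ∀ ω : Ω, ∀ h ∈ H, h • ω = ω := by
    intro ω h hh
    obtain ⟨g', rfl⟩ := MulAction.exists_smul_eq G α ω
    have hg'N : g'⁻¹ ∈ Subgroup.normalizer (H : Set G) := by rw [hNtop]; exact Subgroup.mem_top _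
    have h1 : g'⁻¹ * h * g'⁻¹⁻¹ ∈ H := (Subgroup.mem_normalizer_iff.mp hg'N h).mp hh
    rw [hH, MulAction.mem_stabilizer_iff] at h1
    have h2 : (g'⁻¹ * h * g') • α = α := by simpa using h1
    calc h • g' • α = g' • ((g'⁻¹ * h * g') • α) := by
          rw [← mul_smul, ← mul_smul]; congr 1; group
      _ = g' • α := by rw [h2]
  have hbot : H = ⊥ := by
    rw [Subgroup.eq_bot_iff_forall]
    intro h hh
    apply FaithfulSMul.eq_of_smul_eq_smul (α := Ω)
    intro ω; rw [hall ω h hh, one_smul]
  -- `|G| = 4`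
  have hG4 : Nat.card G = 4 := by
    have h1 := MulAction.index_stabilizer_of_transitive G α
    rw [← hH, hbot, Subgroup.index_bot, Nat.card_eq_fintype_card (α := Ω), hcard] at h1
    exact h1
  obtain ⟨t, ht⟩ := exists_prime_orderOf_dvd_card' (G := G) 2 (by rw [hG4]; norm_num)
  have ht1 : t ≠ 1 := by
    intro h; rw [h, orderOf_one] at ht; norm_num at ht
  have hK : (⊥ : Subgroup G) < Subgroup.zpowers t := by
    rw [bot_lt_iff_ne_bot]
    intro h
    have : t ∈ (⊥ : Subgroup G) := by rw [← h]; exact Subgroup.mem_zpowers t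
    exact ht1 (Subgroup.mem_bot.mp this)
  rw [hbot] at hco
  have htop := hco.2 _ hK
  have hc : Nat.card ↥(Subgroup.zpowers t) = 2 := by rw [Nat.card_zpowers, ht]
  rw [htop, Subgroup.card_top, hG4] at hc
  norm_num at hc

/-- `G_α` is transitive on the other three points -/
theorem stabilizer_transitive [Finite G] [Fintype Ω] [FaithfulSMul G Ω]
    (hcard : Fintype.card Ω = 4) (hprim : MulAction.IsPreprimitive G Ω) (α β γ : Ω) (hβ : β ≠ α)
    (hγ : γ ≠ α) : ∃ h ∈ MulAction.stabilizer G α, h • β = γ := by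
  classical
  by_contra hcon
  push Not at hcon
  have hβγ : β ≠ γ := by
    intro h; exact hcon 1 (Subgroup.one_mem _) (by rw [one_smul, h])
  -- the fourth point
  have hS : ({α, β, γ} : Finset Ω).card = 3 := by
    rw [Finset.card_insert_of_notMem, Finset.card_insert_of_notMem, Finset.card_singleton]
    · simpa using hβγ
    · simp only [Finset.mem_insert, Finset.mem_singleton, not_or]
      exact ⟨fun h => hβ h.symm, fun h => hγ h.symm⟩
  obtain ⟨δ, -, hδ⟩ := Finset.exists_mem_notMem_of_card_lt_card
    (s := ({α, β, γ} : Finset Ω)) (t := Finset.univ) (by rw [hS, Finset.card_univ, hcard]; norm_num)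
  have huniv : insert δ ({α, β, γ} : Finset Ω) = Finset.univ := by
    apply Finset.eq_univ_of_card
    rw [Finset.card_insert_of_notMem hδ, hS, hcard]
  have hcases : ∀ ω : Ω, ω = δ ∨ ω = α ∨ ω = β ∨ ω = γ := by
    intro ω
    have : ω ∈ insert δ ({α, β, γ} : Finset Ω) := by rw [huniv]; exact Finset.mem_univ ω
    simpa using this
  have hstab : ∀ h ∈ MulAction.stabilizer G α, ∀ ω : Ω, ω ≠ α → h • ω ≠ α := by
    intro h hh ω hω h1
    apply hω
    have h2 : h • α = α := MulAction.mem_stabilizer_iff.mp hh
    rw [← h2] at h1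
    exact smul_left_cancel h h1
  -- `G_α` fixes `β` or `γ`
  by_cases hfβ : ∀ h ∈ MulAction.stabilizer G α, h • β = β
  · exact no_second_fixed_point hcard hprim α β hβ hfβ
  by_cases hfγ : ∀ h ∈ MulAction.stabilizer G α, h • γ = γ
  · exact no_second_fixed_point hcard hprim α γ hγ hfγ
  push Not at hfβ hfγ
  obtain ⟨h, hh, hhβ⟩ := hfβ
  obtain ⟨h', hh', hhγ⟩ := hfγ
  have h1 : h • β = δ := by
    rcases hcases (h • β) with e | e | e | e
    · exact e
    · exact absurd e (hstab h hh β hβ)
    · exact absurd e hhβ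
    · exact absurd e (hcon h hh)
  have h2 : h' • γ = δ := by
    rcases hcases (h' • γ) with e | e | e | e
    · exact e
    · exact absurd e (hstab h' hh' γ hγ)
    · exfalso
      apply hcon h'⁻¹ (Subgroup.inv_mem _ hh')
      rw [← e, ← mul_smul, inv_mul_cancel, one_smul]
    · exact absurd e hhγ
  apply hcon (h'⁻¹ * h) (Subgroup.mul_mem _ (Subgroup.inv_mem _ hh') hh)
  rw [mul_smul, h1, ← h2, ← mul_smul, inv_mul_cancel, one_smul]

/-- W2P-SMALL: a primitive group of degree 4 is 2-transitive. -/
theorem two_transitive_of_card_four [Finite G] [Fintype Ω] [FaithfulSMul G Ω]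
    (hcard : Fintype.card Ω = 4) (hprim : MulAction.IsPreprimitive G Ω) :
    MulAction.IsMultiplyPretransitive G Ω 2 := by
  haveI : MulAction.IsPretransitive G Ω := hprim.toIsPretransitive
  rw [MulAction.is_two_pretransitive_iff]
  intro a b c d hab hcd
  obtain ⟨g1, hg1⟩ := MulAction.exists_smul_eq G a c
  have hne : g1 • b ≠ c := by
    intro h; rw [← hg1] at h; exact hab (smul_left_cancel g1 h).symm
  obtain ⟨h, hh, hhb⟩ := stabilizer_transitive hcard hprim c (g1 • b) d hne (Ne.symm hcd)
  refine ⟨h * g1, ?_, ?_⟩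
  · rw [mul_smul, hg1]; exact MulAction.mem_stabilizer_iff.mp hh
  · rw [mul_smul, hhb]

end Cfsg.Agent.Lib.Helper12.W2PSMALL
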