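/-
helper12: S2524, sub-leaf G4 of helper13's SL2 sub-market (`notes/S2524_SL2_leaves.lean`):
`finrank_inf_eigSp` - the dimension of the part of an invariant submodule in a simultaneous eigenspace of
an additive family `u : F → G`, as a character sum (trace of the averaging projector).
-/
import Mathlib
import Cfsg.Agent.Lib.Helper10.WGDefs
import Cfsg.Agent.Lib.Helper13.SL2SurjDefs
import Cfsg.Agent.Lib.Helper13.SLBridge4
import Cfsg.Agent.Lib.Helper13.PSL2ClassSizeOdd

set_option autoImplicit false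

namespace Cfsg.Agent.Lib.Helper12.WGSG4

open Matrix Cfsg Cfsg.Agent.Lib.Helper11.LS Cfsg.Agent.Lib.Helper10.WG Cfsg.Agent.Lib.Helper13
  Cfsg.Agent.Lib.Helper13.SL2Surj
open scoped ComplexConjugate

universe u

section general

variable {G : Type*} [Group G] {V V' : Type u} [AddCommGroup V] [Module ℂ V] [AddCommGroup V']
  [Module ℂ V']

/-- conj (lam t) * lam t = 1 for an additive character of a finite field -/
theorem conj_mul_self_addChar {F : Type*} [Field F] [Fintype F] (lam : AddChar F ℂ) (t : F) :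
    conj (lam t) * lam t = 1 := by
  rw [← AddChar.map_neg_eq_conj, ← AddChar.map_add_eq_mul, neg_add_cancel, AddChar.map_zero_eq_one]

/-- the averaging operator -/
noncomputable def avgOp {F : Type*} [Field F] [Fintype F] {W : Type*} [AddCommGroup W] [Module ℂ W]
    (ρ : Representation ℂ G W) (u : F → G) (lam : AddChar F ℂ) : W →ₗ[ℂ] W :=
  (Fintype.card F : ℂ)⁻¹ • ∑ t : F, conj (lam t) • ρ (u t)

theorem avgOp_apply {F : Type*} [Field F] [Fintype F] {W : Type*} [AddCommGroup W] [Module ℂ W]
    (ρ : Representation ℂ G W) (u : F → G) (lam : AddChar F ℂ) (w : W) :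
    avgOp ρ u lam w = (Fintype.card F : ℂ)⁻¹ • ∑ t : F, conj (lam t) • ρ (u t) w := by
  simp [avgOp, LinearMap.sum_apply]

theorem avgOp_mem {F : Type*} [Field F] [Fintype F] {W : Type*} [AddCommGroup W] [Module ℂ W]
    (ρ : Representation ℂ G W) (u : F → G) (hu : ∀ a b, u (a + b) = u a * u b)
    (lam : AddChar F ℂ) (w : W) (s : F) :
    ρ (u s) (avgOp ρ u lam w) = lam s • avgOp ρ u lam w := by
  rw [avgOp_apply, LinearMap.map_smul, smul_comm (lam s)]
  congr 1
  rw [map_sum, Finset.smul_sum]
  -- reindex t ↦ t + s on the right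
  rw [← Equiv.sum_comp (Equiv.addRight s) (fun t => lam s • conj (lam t) • (ρ (u t)) w)]
  refine Finset.sum_congr rfl fun t _ => ?_
  simp only [Equiv.coe_addRight]
  rw [LinearMap.map_smul, smul_smul, add_comm t s, hu, map_mul, Module.End.mul_apply]
  congr 1
  rw [AddChar.map_add_eq_mul, map_mul, ← mul_assoc, mul_comm (lam s), conj_mul_self_addChar lam s,
    one_mul]

theorem avgOp_id {F : Type*} [Field F] [Fintype F] {W : Type*} [AddCommGroup W] [Module ℂ W]
    (ρ : Representation ℂ G W) (u : F → G) (lam : AddChar F ℂ) (w : W)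
    (hw : ∀ t, ρ (u t) w = lam t • w) : avgOp ρ u lam w = w := by
  rw [avgOp_apply]
  have : ∀ t : F, conj (lam t) • ρ (u t) w = w := by
    intro t
    rw [hw t, smul_smul, conj_mul_self_addChar, one_smul]
  rw [Finset.sum_congr rfl fun t _ => this t, Finset.sum_const, Finset.card_univ, ← Nat.cast_smul_eq_nsmul ℂ,
    smul_smul, inv_mul_cancel₀, one_smul]
  exact Nat.cast_ne_zero.mpr Fintype.card_ne_zero

/-- (G4) -/
theorem finrank_inf_eigSp {F : Type*} [Field F] [Fintype F] [FiniteDimensional ℂ V]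
    (σ : Representation ℂ G V) (u : F → G) (hu : ∀ a b, u (a + b) = u a * u b)
    (lam : AddChar F ℂ) (N : Submodule ℂ V) (hN : Inv σ N) :
    ((Module.finrank ℂ ↥(N ⊓ eigSp σ u (fun t => lam t)) : ℕ) : ℂ) =
      (Fintype.card F : ℂ)⁻¹ * ∑ t : F, subChar σ N hN (u t) * conj (lam t) := by
  set ρ := subRep σ N hN with hρ
  set E : Submodule ℂ ↥N := Submodule.comap N.subtype (N ⊓ eigSp σ u (fun t => lam t)) with hE
  have hmemE : ∀ w : ↥N, w ∈ E ↔ ∀ t, ρ (u t) w = lam t • w := by
    intro w
    rw [hE, Submodule.mem_comap, Submodule.mem_inf]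
    constructor
    · rintro ⟨-, h⟩ t
      apply Subtype.ext
      rw [hρ, subRep_apply]
      exact h t
    · intro h
      refine ⟨w.2, fun t => ?_⟩
      have := congrArg (fun x : ↥N => (x : V)) (h t)
      simpa [hρ, subRep_apply] using this
  have hproj : LinearMap.IsProj E (avgOp ρ u lam) := by
    refine ⟨fun w => ?_, fun w hw => ?_⟩
    · rw [hmemE]
      intro t
      exact avgOp_mem ρ u hu lam w t
    · exact avgOp_id ρ u lam w ((hmemE w).mp hw)
  have htr := hproj.trace
  have hfr : Module.finrank ℂ ↥E = Module.finrank ℂ ↥(N ⊓ eigSp σ u (fun t => lam t)) :=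
    (Submodule.comapSubtypeEquivOfLe (inf_le_left : N ⊓ eigSp σ u (fun t => lam t) ≤ N)).finrank_eq
  rw [← hfr, ← htr, avgOp, map_smul, map_sum, smul_eq_mul]
  congr 1
  refine Finset.sum_congr rfl fun t _ => ?_
  rw [map_smul, smul_eq_mul, mul_comm]
  rfl

end general

end Cfsg.Agent.Lib.Helper12.WGSG4
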