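import Mathlib
import Cfsg.Agent.Lib.Helper25.WeilDefs

/-!
# S2347 leaf WA: the Weyl operators are linearly independent
-/

set_option autoImplicit false

open Cfsg.Agent.Lib.Helper25.Weil Module

namespace Cfsg.Agent.Lib.Helper12.WeilLeaf

variable {F V : Type*} [Field F] [AddCommGroup V] [Module F V] {S : Setting F V}
variable {M : Type*} [AddCommGroup M] [Module ℂ M]

/-- conjugating `∑ c v • W v` by `W u` multiplies the coefficients by `β u v` -/
theorem conj_sum [Fintype V] (𝒲 : S.Weyl M) (c : V → ℂ) (u : V) :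
    𝒲.W u * (∑ v, c v • 𝒲.W v) * 𝒲.W (-u) = ∑ v, (c v * S.β u v) • 𝒲.W v := by
  rw [Finset.mul_sum, Finset.sum_mul]
  refine Finset.sum_congr rfl (fun v _ => ?_)
  rw [mul_smul_comm, 𝒲.W_comm u v, smul_mul_assoc, smul_mul_assoc, mul_assoc, 𝒲.W_mul_neg,
    mul_one, smul_smul]

/-- orthogonality of the characters `β · v` -/
theorem sum_β_mul_inv [Fintype V] [DecidableEq V] (S : Setting F V) (v v0 : V) :
    ∑ u : V, S.β u v * (S.β u v0)⁻¹ = if v = v0 then (Fintype.card V : ℂ) else 0 := by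
  have hβ : ∀ u : V, S.β u v * (S.β u v0)⁻¹ = S.β u (v - v0) := by
    intro u
    have := S.β_add_right u (v - v0) v0
    rw [sub_add_cancel] at this
    rw [this, mul_assoc, mul_inv_cancel₀ (S.β_ne_zero u v0), mul_one]
  simp only [hβ]
  split_ifs with h
  · subst h
    simp [S.β_zero_right]
  · exact S.sum_β_left (sub_ne_zero.mpr h)

/-- the coefficient extraction: averaging the conjugates -/
theorem sum_conj_eq [Fintype V] [DecidableEq V] (𝒲 : S.Weyl M) (c : V → ℂ) (v0 : V) :
    ∑ u : V, (S.β u v0)⁻¹ • (𝒲.W u * (∑ v, c v • 𝒲.W v) * 𝒲.W (-u)) =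
      (c v0 * (Fintype.card V : ℂ)) • 𝒲.W v0 := by
  simp only [conj_sum, Finset.smul_sum, smul_smul]
  rw [Finset.sum_comm]
  have : ∀ v : V, ∑ u : V, ((S.β u v0)⁻¹ * (c v * S.β u v)) • 𝒲.W v =
      (c v * if v = v0 then (Fintype.card V : ℂ) else 0) • 𝒲.W v := by
    intro v
    rw [← Finset.sum_smul, ← sum_β_mul_inv S v v0, Finset.mul_sum]
    congr 1
    refine Finset.sum_congr rfl (fun u _ => ?_)
    ring
  simp only [this]
  rw [Finset.sum_eq_single v0]
  · rw [if_pos rfl]
  · intro v _ hv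
    rw [if_neg hv, mul_zero, zero_smul]
  · intro h; exact absurd (Finset.mem_univ v0) h

theorem W_ne_zero [Nontrivial M] (𝒲 : S.Weyl M) (v : V) : 𝒲.W v ≠ 0 := by
  intro h
  have := 𝒲.W_mul_neg v
  rw [h, zero_mul] at this
  exact zero_ne_one this

/-- WA -/
theorem linearIndependent_W [Fintype V] [Nontrivial M] (𝒲 : S.Weyl M) :
    LinearIndependent ℂ 𝒲.W := by
  classical
  rw [Fintype.linearIndependent_iff]
  intro c hc v0
  have h := sum_conj_eq 𝒲 c v0
  simp only [hc, mul_zero, zero_mul, smul_zero, Finset.sum_const_zero] at h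
  rcases smul_eq_zero.mp h.symm with h1 | h1
  · rcases mul_eq_zero.mp h1 with h2 | h2
    · exact h2
    · exfalso
      have : (Fintype.card V : ℂ) ≠ 0 := Nat.cast_ne_zero.mpr Fintype.card_ne_zero
      exact this h2
  · exact absurd h1 (W_ne_zero 𝒲 v0)

end Cfsg.Agent.Lib.Helper12.WeilLeaf
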