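import Mathlib
import Cfsg.Agent.Lib.Helper25.WeilDefs
import Cfsg.Agent.Lib.Helper12.WeilA

/-!
# S2347 leaf WB: the Weyl operators span `End M` when `(dim M)² = |V|`; Schur's lemma
-/

set_option autoImplicit false

open Cfsg.Agent.Lib.Helper25.Weil Module

namespace Cfsg.Agent.Lib.Helper12.WeilLeaf

variable {F V : Type*} [Field F] [AddCommGroup V] [Module F V] {S : Setting F V}
variable {M : Type*} [AddCommGroup M] [Module ℂ M]

/-- WB (i) -/
theorem exists_eq_sum [Fintype V] (𝒲 : S.Weyl M) (hli : LinearIndependent ℂ 𝒲.W)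
    (hN : finrank ℂ M * finrank ℂ M = Fintype.card V) (T : Module.End ℂ M) :
    ∃ c : V → ℂ, T = ∑ v, c v • 𝒲.W v := by
  have hpos : 0 < finrank ℂ M := by
    rcases Nat.eq_zero_or_pos (finrank ℂ M) with h | h
    · rw [h, zero_mul] at hN
      exact absurd hN.symm Fintype.card_ne_zero
    · exact h
  haveI : Module.Finite ℂ M := Module.finite_of_finrank_pos hpos
  have hcard : Fintype.card V = finrank ℂ (Module.End ℂ M) := by
    rw [Module.finrank_linearMap, hN]
  have hspan := hli.span_eq_top_of_card_eq_finrank' hcard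
  have hT : T ∈ Submodule.span ℂ (Set.range 𝒲.W) := hspan ▸ Submodule.mem_top
  obtain ⟨c, hc⟩ := Submodule.mem_span_range_iff_exists_fun ℂ |>.mp hT
  exact ⟨c, hc.symm⟩

/-- WB (ii) -/
theorem schur [Fintype V] (𝒲 : S.Weyl M) (hli : LinearIndependent ℂ 𝒲.W)
    (hspan : ∀ T : Module.End ℂ M, ∃ c : V → ℂ, T = ∑ v, c v • 𝒲.W v)
    (T : Module.End ℂ M) (hT : ∀ v, T * 𝒲.W v = 𝒲.W v * T) : ∃ c : ℂ, T = c • 1 := by
  classical
  obtain ⟨c, hc⟩ := hspan T
  -- coefficients: c v * β u v = c v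
  have hcoef : ∀ u v : V, c v * S.β u v = c v := by
    intro u v
    have h1 : 𝒲.W u * T * 𝒲.W (-u) = T := by
      rw [← hT u, mul_assoc, 𝒲.W_mul_neg, mul_one]
    rw [hc, conj_sum] at h1
    have h2 : ∑ v, (c v * S.β u v - c v) • 𝒲.W v = 0 := by
      simp only [sub_smul, Finset.sum_sub_distrib]
      rw [h1, sub_self]
    have h3 := Fintype.linearIndependent_iff.mp hli _ h2 v
    exact sub_eq_zero.mp h3
  have hzero : ∀ v : V, v ≠ 0 → c v = 0 := by
    intro v hv
    obtain ⟨u, hu⟩ := S.exists_β_ne_one hv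
    have h1 := hcoef u v
    have h2 : c v * (S.β u v - 1) = 0 := by rw [mul_sub, h1, mul_one, sub_self]
    rcases mul_eq_zero.mp h2 with h3 | h3
    · exact h3
    · exact absurd (sub_eq_zero.mp h3) hu
  refine ⟨c 0, ?_⟩
  rw [hc, Finset.sum_eq_single (0 : V)]
  · rw [𝒲.W_zero]
  · intro v _ hv
    rw [hzero v hv, zero_smul]
  · intro h; exact absurd (Finset.mem_univ _) h

end Cfsg.Agent.Lib.Helper12.WeilLeaf
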